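import Groth.Agent.Lib.Helper6QuotPow
import Groth.Agent.Lib.Helper4CurvePt
import Groth.Agent.Lib.Helper6RegSmSep2

set_option autoImplicit false
set_option linter.style.haveILetI false
universe u
open CategoryTheory Limits AlgebraicGeometry Opposite TopologicalSpace

namespace Groth.Agent.Lib.Helper6.PtPow

open Groth.Agent.Lib.Helper6.H0Const Groth.Agent.Lib.Helper6.QuotPow

section Aff

variable {X : Scheme.{u}}

theorem preimage_fromSpec_singleton (p : X) (U : X.Opens) (hU : IsAffineOpen U) (hpU : p ∈ U) :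
    (hU.fromSpec ⁻¹' ({p} : Set X)) = {hU.primeIdealOf ⟨p, hpU⟩} := by
  ext y
  simp only [Set.mem_preimage, Set.mem_singleton_iff]
  constructor
  · intro h
    apply hU.fromSpec.isOpenEmbedding.injective
    rw [h, hU.fromSpec_primeIdealOf]
  · rintro rfl
    exact hU.fromSpec_primeIdealOf ⟨p, hpU⟩

/-- the ideal of the reduced closed point `p` on an affine open `U ∋ p` is the prime ideal of `p` -/
theorem vanishingIdeal_point_ideal (p : X) (hp : IsClosed ({p} : Set X)) (U : X.Opens)
    (hU : IsAffineOpen U) (hpU : p ∈ U) :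
    (Scheme.IdealSheafData.vanishingIdeal ⟨{p}, hp⟩).ideal ⟨U, hU⟩ = (hU.primeIdealOf ⟨p, hpU⟩).asIdeal := by
  rw [Scheme.IdealSheafData.vanishingIdeal_ideal]
  have h := preimage_fromSpec_singleton p U hU hpU
  exact (congrArg (PrimeSpectrum.vanishingIdeal (R := Γ(X, U))) h).trans
    (PrimeSpectrum.vanishingIdeal_singleton _)

theorem isMaximal_primeIdealOf (p : X) (hp : IsClosed ({p} : Set X)) (U : X.Opens)
    (hU : IsAffineOpen U) (hpU : p ∈ U) : (hU.primeIdealOf ⟨p, hpU⟩).asIdeal.IsMaximal := by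
  rw [← PrimeSpectrum.isClosed_singleton_iff_isMaximal]
  have h := preimage_fromSpec_singleton p U hU hpU
  have h2 : IsClosed (hU.fromSpec ⁻¹' ({p} : Set X)) := hp.preimage hU.fromSpec.continuous
  rw [h] at h2
  exact h2

end Aff

section Main

open IsLocalRing

variable (k : Type u) [Field k] (X : Scheme.{u}) [X.Over (Spec (CommRingCat.of k))]

/-- the local ring of an integral curve at a regular closed point is a discrete valuation ring -/
theorem isDiscreteValuationRing_stalk [IsIntegral X] [LocallyOfFiniteType (X ↘ (Spec (CommRingCat.of k)))]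
    (hdim : topologicalKrullDim X = 1) (p : X) (hp : IsClosed ({p} : Set X))
    (hreg : IsRegularLocalRing (X.presheaf.stalk p)) :
    IsDiscreteValuationRing (X.presheaf.stalk p) := by
  haveI : IsLocallyNoetherian X :=
    LocallyOfFiniteType.isLocallyNoetherian (X ↘ (Spec (CommRingCat.of k)))
  have hnf := Groth.Agent.Lib.Helper6.RegSmSep.not_isField_stalk_of_isClosed k X hdim p hp
  rw [← IsLocalRing.finrank_CotangentSpace_eq_one_iff]
  have h1 := (IsRegularLocalRing.iff_finrank_cotangentSpace _).mp hreg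
  have hle := (Groth.Agent.Lib.Helper4.FibDim.ringKrullDim_stalk_le_topologicalKrullDim X p).trans
    (le_of_eq hdim)
  rw [← h1] at hle
  have h2 : Module.finrank (ResidueField (X.presheaf.stalk p))
      (CotangentSpace (X.presheaf.stalk p)) ≤ 1 := by exact_mod_cast hle
  have h3 : Module.finrank (ResidueField (X.presheaf.stalk p))
      (CotangentSpace (X.presheaf.stalk p)) ≠ 0 := fun h0 =>
    hnf (IsLocalRing.finrank_cotangentSpace_eq_zero_iff.mp h0)
  omega

theorem support_pow_subset (D : X.IdealSheafData) (n : ℕ) :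
    ((D ^ n).support : Set X) ⊆ (D.support : Set X) := by
  rcases n with _ | n
  · intro x hx
    rw [pow_zero, Scheme.IdealSheafData.one_eq_top, Scheme.IdealSheafData.support_top] at hx
    exact absurd hx (Set.notMem_empty x)
  · rw [Scheme.IdealSheafData.support_pow_succ]

/-- `dim_k Γ(Z_n, O) = n` for the `n`-th infinitesimal neighbourhood `Z_n` of a regular rational closed point
of an integral curve -/
theorem rank_Γ_subscheme_pow [IsIntegral X] [LocallyOfFiniteType (X ↘ (Spec (CommRingCat.of k)))]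
    (hdim : topologicalKrullDim X = 1) (p : X) (hp : IsClosed ({p} : Set X))
    (hrat : Function.Surjective (Curv2.resMap k X p))
    (hreg : IsRegularLocalRing (X.presheaf.stalk p)) (n : ℕ) :
    letI : Algebra k Γ(((Scheme.IdealSheafData.vanishingIdeal ⟨{p}, hp⟩) ^ n).subscheme, ⊤) :=
      (gsMap k (((Scheme.IdealSheafData.vanishingIdeal ⟨{p}, hp⟩) ^ n).subschemeι ≫
        (X ↘ Spec (CommRingCat.of k)))).hom.toAlgebra
    Module.rank k Γ(((Scheme.IdealSheafData.vanishingIdeal ⟨{p}, hp⟩) ^ n).subscheme, ⊤) = n := by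
  set D := Scheme.IdealSheafData.vanishingIdeal (⟨{p}, hp⟩ : TopologicalSpace.Closeds X) with hD
  letI algZ : Algebra k Γ((D ^ n).subscheme, ⊤) :=
    (gsMap k ((D ^ n).subschemeι ≫ (X ↘ Spec (CommRingCat.of k)))).hom.toAlgebra
  obtain ⟨U, hU, hpU⟩ : ∃ U : X.Opens, IsAffineOpen U ∧ p ∈ U := by
    obtain ⟨_, ⟨V, hV, rfl⟩, hpV, -⟩ :=
      X.isBasis_affineOpens.exists_subset_of_mem_open (Set.mem_univ p) isOpen_univ
    exact ⟨V, hV, hpV⟩
  haveI : IsLocallyNoetherian X :=
    LocallyOfFiniteType.isLocallyNoetherian (X ↘ (Spec (CommRingCat.of k)))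
  haveI hdvr : IsDiscreteValuationRing (X.presheaf.stalk p) :=
    isDiscreteValuationRing_stalk k X hdim p hp hreg
  letI algS : Algebra k (X.presheaf.stalk p) := Curv2.stalkAlgebra k X p
  have hloc : Module.rank k (X.presheaf.stalk p ⧸ maximalIdeal (X.presheaf.stalk p) ^ n) = n :=
    rank_quot_maximalIdeal_pow hrat n
  -- the whole subscheme lies over `U`
  have htop : (D ^ n).subschemeι ⁻¹ᵁ U = ⊤ := by
    ext z
    simp only [Scheme.Hom.mem_preimage, TopologicalSpace.Opens.coe_top, Set.mem_univ, iff_true,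
      SetLike.mem_coe]
    have hz : (D ^ n).subschemeι z ∈ Set.range (D ^ n).subschemeι := ⟨z, rfl⟩
    rw [Scheme.IdealSheafData.range_subschemeι] at hz
    have hz' := support_pow_subset X D n hz
    have hsupp : (D.support : Set X) = {p} := by
      rw [hD, Scheme.IdealSheafData.coe_support_vanishingIdeal]
      rfl
    rw [hsupp] at hz'
    have : (D ^ n).subschemeι z = p := hz'
    rw [this]
    exact hpU
  letI algAS : Algebra Γ(X, U) (X.presheaf.stalk p) := (X.presheaf.germ U p hpU).hom.toAlgebra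
  set m := (hU.primeIdealOf ⟨p, hpU⟩).asIdeal with hm
  haveI hmax : m.IsMaximal := isMaximal_primeIdealOf p hp U hU hpU
  haveI hlocz : IsLocalization.AtPrime (X.presheaf.stalk p) m := hU.isLocalization_stalk ⟨p, hpU⟩
  let α : k →+* Γ(X, U) :=
    (X.presheaf.map (homOfLE (le_top : U ≤ ⊤)).op).hom.comp (gsMap k (X ↘ Spec (CommRingCat.of k))).hom
  have hle : (⊤ : (D ^ n).subscheme.Opens) ≤ (D ^ n).subschemeι ⁻¹ᵁ U := by rw [htop]
  let φ : Γ(X, U) →+* Γ((D ^ n).subscheme, ⊤) := ((D ^ n).subschemeι.appLE U ⊤ hle).hom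
  let ψ : Γ(X, U) →+* (X.presheaf.stalk p ⧸ maximalIdeal (X.presheaf.stalk p) ^ n) :=
    (Ideal.Quotient.mk _).comp (algebraMap Γ(X, U) (X.presheaf.stalk p))
  rw [← hloc]
  have hiso : Function.Bijective ((D ^ n).subscheme.presheaf.map (homOfLE hle).op).hom := by
    haveI : IsIso (homOfLE hle) :=
      ⟨homOfLE (by rw [htop]), Subsingleton.elim _ _, Subsingleton.elim _ _⟩
    exact ConcreteCategory.bijective_of_isIso _
  have hφ : Function.Surjective φ := by
    change Function.Surjective (((D ^ n).subschemeι.app U ≫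
      (D ^ n).subscheme.presheaf.map (homOfLE hle).op).hom)
    rw [CommRingCat.hom_comp, RingHom.coe_comp]
    exact hiso.2.comp ((D ^ n).subschemeι_app_surjective ⟨U, hU⟩)
  have hkφ : RingHom.ker φ = m ^ n := by
    change RingHom.ker (((D ^ n).subschemeι.app U ≫
      (D ^ n).subscheme.presheaf.map (homOfLE hle).op).hom) = _
    rw [CommRingCat.hom_comp, RingHom.ker_comp_of_injective _ hiso.1,
      (D ^ n).ker_subschemeι_app ⟨U, hU⟩, Scheme.IdealSheafData.ideal_pow, Pi.pow_apply, hD,
      vanishingIdeal_point_ideal p hp U hU hpU]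
  let e := IsLocalization.AtPrime.equivQuotMaximalIdealPow m (X.presheaf.stalk p) n
  have hψe : ∀ a, ψ a = e (Ideal.Quotient.mk _ a) := fun a =>
    (IsLocalization.AtPrime.equivQuotMaximalIdealPow_apply_mk m (X.presheaf.stalk p) n a).symm
  have hψ : Function.Surjective ψ := by
    intro y
    obtain ⟨x, rfl⟩ := e.surjective y
    obtain ⟨a, rfl⟩ := Ideal.Quotient.mk_surjective x
    exact ⟨a, hψe a⟩
  have hkψ : RingHom.ker ψ = m ^ n := by
    ext a
    rw [RingHom.mem_ker, hψe, map_eq_zero_iff _ e.injective, Ideal.Quotient.eq_zero_iff_mem]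
  refine rank_eq_of_surjective_of_ker_eq α φ ψ hφ hψ (hkφ.trans hkψ.symm) ?_ ?_
  · intro c
    have h1 : (gsMap k (X ↘ Spec (CommRingCat.of k)) ≫ X.presheaf.map (homOfLE (le_top : U ≤ ⊤)).op) ≫
        (D ^ n).subschemeι.appLE U ⊤ hle =
        gsMap k ((D ^ n).subschemeι ≫ (X ↘ Spec (CommRingCat.of k))) := by
      unfold gsMap
      rw [Category.assoc, Category.assoc, Scheme.Hom.map_appLE, Scheme.Hom.comp_appTop]
      congr 2
      simp [Scheme.Hom.appLE]
    exact congrArg (fun g => g.hom c) h1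
  · intro c
    change Ideal.Quotient.mk _ ((X.presheaf.germ U p hpU).hom
      ((X.presheaf.map (homOfLE (le_top : U ≤ ⊤)).op).hom
        ((gsMap k (X ↘ Spec (CommRingCat.of k))).hom c))) =
      Ideal.Quotient.mk _ ((X.presheaf.germ ⊤ p trivial).hom
        (Coh.toGlobal (X ↘ Spec (CommRingCat.of k)) c))
    congr 1
    exact TopCat.Presheaf.germ_res_apply X.presheaf (homOfLE (le_top : U ≤ ⊤)) p hpU _

/-- `h⁰(O_X / I_p^n) = n` for a regular rational closed point `p` of an integral curve -/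
theorem finrank_hh0_quotMod_pow [IsIntegral X] [LocallyOfFiniteType (X ↘ (Spec (CommRingCat.of k)))]
    (hdim : topologicalKrullDim X = 1) (p : X) (hp : IsClosed ({p} : Set X))
    (hrat : Function.Surjective (Curv2.resMap k X p))
    (hreg : IsRegularLocalRing (X.presheaf.stalk p)) (n : ℕ) :
    Module.finrank k (Coh.HH X (ClSub.quotMod ((Scheme.IdealSheafData.vanishingIdeal ⟨{p}, hp⟩) ^ n)) 0) = n := by
  have h := Groth.Agent.Lib.Helper4.CurvePt.finrank_hh0_push
    (ι := ((Scheme.IdealSheafData.vanishingIdeal ⟨{p}, hp⟩) ^ n).subschemeι) k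
  have hr := rank_Γ_subscheme_pow k X hdim p hp hrat hreg n
  letI : Algebra k Γ(((Scheme.IdealSheafData.vanishingIdeal ⟨{p}, hp⟩) ^ n).subscheme, ⊤) :=
    (gsMap k (((Scheme.IdealSheafData.vanishingIdeal ⟨{p}, hp⟩) ^ n).subschemeι ≫
      (X ↘ Spec (CommRingCat.of k)))).hom.toAlgebra
  exact h.trans (Module.finrank_eq_of_rank_eq hr)

end Main

end Groth.Agent.Lib.Helper6.PtPow
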