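import Groth.Agent.Lib.Helper6PointIdeal
import Groth.Agent.Lib.Helper4CurvePt
import Groth.Prelude.Def_TorSh

/-!
# The ideal sheaf of a closed point of a reduced curve is torsion-free of rank one and degree `-1` (helper6): S15922
-/

set_option autoImplicit false
set_option linter.style.haveILetI false
universe u
open CategoryTheory Limits AlgebraicGeometry Opposite TopologicalSpace

namespace Groth.Agent.Lib.Helper6.PtTF

open Groth.Agent.Lib.Helper4.Dev Groth.Agent.Lib.Helper21.ExtCartier Groth.Agent.Lib.Helper6.PointIdeal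
  Groth.Agent.Lib.Helper23.SecTw

section Gen

variable {X : Scheme.{u}}

/-- a submodule of `O_X` is torsion-free -/
theorem isTorsionFree_of_mono {M : X.Modules} (ι : M ⟶ Coh.structureModule X) [Mono ι] :
    TorSh.IsTorsionFree M := by
  intro x
  have hO1 : FlatMod.IsFinLocFreeOfRank 1 (Coh.structureModule X) :=
    isFinLocFreeOfRank_one_of_isInvertible _
      (Groth.Agent.Lib.Helper23.TensorUnit.isInvertible_structureModule X)
  obtain ⟨h1, h2, h3⟩ := Groth.Agent.Lib.Helper4.KTensor.stalk_of_isFinLocFreeOfRank _ 1 hO1 x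
  haveI := h1
  exact Function.Injective.moduleIsTorsionFree (stalkL ι x) (stalkL_injective_of_mono ι x)
    (fun r m => map_smul _ r m)

/-- the stalk of an ideal module at a point outside the support of the quotient has rank one -/
theorem finrank_stalk_idealMod (I : X.IdealSheafData) (η : X)
    (hη : Subsingleton ((ClSub.quotMod I).presheaf.stalk η)) :
    Module.finrank (X.presheaf.stalk η) ((ClSub.idealMod I).presheaf.stalk η) = 1 := by
  have hO1 : FlatMod.IsFinLocFreeOfRank 1 (Coh.structureModule X) :=
    isFinLocFreeOfRank_one_of_isInvertible _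
      (Groth.Agent.Lib.Helper23.TensorUnit.isInvertible_structureModule X)
  obtain ⟨h1, h2, h3⟩ := Groth.Agent.Lib.Helper4.KTensor.stalk_of_isFinLocFreeOfRank _ 1 hO1 η
  have hS := idealSES_shortExact I
  haveI := hS.mono_f
  have hinj := stalkL_injective_of_mono (idealSES I).f η
  have hex := stalkL_exact (idealSES I) hS η
  have hsurj : Function.Surjective (stalkL (idealSES I).f η) := by
    intro y
    haveI : Subsingleton ((idealSES I).X₃.presheaf.stalk η) := hη
    exact (hex y).1 (Subsingleton.elim _ _)
  rw [← h3]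
  exact (LinearEquiv.ofBijective (stalkL (idealSES I).f η) ⟨hinj, hsurj⟩).finrank_eq

end Gen

variable (k : Type u) [Field k] (X : Scheme.{u}) [X.Over (Spec (CommRingCat.of k))]
  [IsProper (X ↘ (Spec (CommRingCat.of k)))]

/-- **S15922** -/
theorem main [IsAlgClosed k]
    (hequi : ∀ Z ∈ irreducibleComponents (X : Type u), topologicalKrullDim Z = 1)
    (P : X) (hP : IsClosed ({P} : Set X)) :
    TorSh.IsTorsionFree (ClSub.idealMod (Scheme.IdealSheafData.vanishingIdeal ⟨{P}, hP⟩)) ∧
    (∀ η : X, closure ({η} : Set X) ∈ irreducibleComponents (X : Type u) →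
      Module.finrank (X.presheaf.stalk η) ((ClSub.idealMod
        (Scheme.IdealSheafData.vanishingIdeal ⟨{P}, hP⟩)).presheaf.stalk η) = 1) ∧
    Curv2.deg k X (ClSub.idealMod (Scheme.IdealSheafData.vanishingIdeal ⟨{P}, hP⟩)) 1 = -1 := by
  haveI : IsLocallyNoetherian X :=
    LocallyOfFiniteType.isLocallyNoetherian (X ↘ (Spec (CommRingCat.of k)))
  set I := Scheme.IdealSheafData.vanishingIdeal (⟨{P}, hP⟩ : TopologicalSpace.Closeds X) with hI
  obtain ⟨h0, hv, cQ, hsub⟩ := quotMod_point k X P hP
  haveI : Mono (ClSub.idealModι I) := inferInstanceAs (Mono (kernel.ι (ClSub.toSubscheme I)))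
  refine ⟨isTorsionFree_of_mono (ClSub.idealModι I), ?_, ?_⟩
  · intro η hη
    apply finrank_stalk_idealMod
    by_contra hns
    have hmem : η ∈ CohB1.support (ClSub.quotMod I) := hns
    have hηP : η = P := hsub hmem
    have h1 := hequi _ hη
    rw [hηP, hP.closure_eq] at h1
    have h2 : topologicalKrullDim ({P} : Set X) ≤ 0 := topologicalKrullDim_zero_of_discreteTopology _
    rw [h1] at h2
    exact absurd h2 (by decide)
  · have cO := isCoh_structureModule X
    have cI : Coh.IsCoh (ClSub.idealMod I) := Groth.Agent.Lib.Helper4.CurvePt.isCoh_idealMod k X I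
    have hadd := Groth.Agent.Lib.Helper6.Euler.euler_additive k X _ (idealSES_shortExact I) cI cO cQ
    change Curv2.euler k X (Coh.structureModule X) = Curv2.euler k X (ClSub.idealMod I) +
      Curv2.euler k X (ClSub.quotMod I) at hadd
    have hdQ : topologicalKrullDim (CohB1.support (ClSub.quotMod I)) ≤ 0 :=
      (Groth.Agent.Lib.Helper4.KFilt.dim_le_of_subset hsub).trans
        (topologicalKrullDim_zero_of_discreteTopology _)
    rw [Groth.Agent.Lib.Helper4.CurvePt.h0_eq_euler_of_dim_le_zero k X _ cQ hdQ, h0] at hadd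
    unfold Curv2.deg
    push_cast at hadd ⊢
    linarith

end Groth.Agent.Lib.Helper6.PtTF
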