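import Groth.Agent.Lib.Helper6Koszul
import Groth.Agent.Lib.Helper4CurvePt
import Groth.Agent.Lib.Helper27MinPres2

/-!
# `h⁰(L) ≤ h⁰(L(x)) ≤ h⁰(L) + [κ(x) : k]` on a proper scheme over a field (helper6): S7837
-/

set_option autoImplicit false
set_option linter.style.haveILetI false
universe u
open CategoryTheory Limits AlgebraicGeometry Opposite TopologicalSpace

namespace Groth.Agent.Lib.Helper6.PtTwist

open Groth.Agent.Lib.Helper6.H0Const

attribute [local instance] Curv2.resAlgebra

section Res

variable (k : Type u) [Field k] (X : Scheme.{u}) [X.Over (Spec (CommRingCat.of k))]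

theorem appTop_fromSpecResidueField (x : X) :
    (X.fromSpecResidueField x).appTop ≫ (Scheme.ΓSpecIso (X.residueField x)).hom =
      X.presheaf.germ ⊤ x trivial ≫ X.residue x := by
  rw [Scheme.fromSpecResidueField, Scheme.Hom.comp_appTop, Category.assoc, Scheme.ΓSpecIso_naturality,
    ← Category.assoc]
  congr 1
  rw [Scheme.fromSpecStalk_appTop]
  simp

/-- the structure map of the residue field -/
theorem resMap_eq (x : X) (c : k) :
    Curv2.resMap k X x c =
      ((X.fromSpecResidueField x).appTop ≫ (Scheme.ΓSpecIso (X.residueField x)).hom).hom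
        (Coh.toGlobal (X ↘ Spec (CommRingCat.of k)) c) := by
  rw [appTop_fromSpecResidueField]
  rfl

/-- `Γ` of the closed subscheme of a closed point is the residue field, `k`-linearly -/
theorem finrank_Γ_ker (x : X) (hx : IsClosed ({x} : Set X)) :
    letI : Algebra k Γ((X.fromSpecResidueField x).ker.subscheme, ⊤) :=
      (gsMap k ((X.fromSpecResidueField x).ker.subschemeι ≫ (X ↘ Spec (CommRingCat.of k)))).hom.toAlgebra
    Module.finrank k Γ((X.fromSpecResidueField x).ker.subscheme, ⊤) =
      Module.finrank k (X.residueField x) := by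
  letI alg : Algebra k Γ((X.fromSpecResidueField x).ker.subscheme, ⊤) :=
    (gsMap k ((X.fromSpecResidueField x).ker.subschemeι ≫ (X ↘ Spec (CommRingCat.of k)))).hom.toAlgebra
  haveI : IsClosedImmersion (X.fromSpecResidueField x) :=
    isClosed_singleton_iff_isClosedImmersion.1 hx
  let e : Γ((X.fromSpecResidueField x).ker.subscheme, ⊤) ≃+* X.residueField x :=
    ((Scheme.Γ.mapIso (asIso (X.fromSpecResidueField x).toImage).op) ≪≫
      Scheme.ΓSpecIso (X.residueField x)).commRingCatIsoToRingEquiv
  have he : ∀ c : k, e (algebraMap k _ c) = algebraMap k (X.residueField x) c := by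
    intro c
    change ((X.fromSpecResidueField x).toImage.appTop ≫ (Scheme.ΓSpecIso (X.residueField x)).hom).hom
      ((gsMap k ((X.fromSpecResidueField x).ker.subschemeι ≫ (X ↘ Spec (CommRingCat.of k)))).hom c) =
      Curv2.resMap k X x c
    rw [resMap_eq]
    have h1 : (X.fromSpecResidueField x).appTop =
        (X.fromSpecResidueField x).ker.subschemeι.appTop ≫ (X.fromSpecResidueField x).toImage.appTop := by
      rw [← Scheme.Hom.comp_appTop]
      congr 1
      exact (X.fromSpecResidueField x).toImage_imageι.symm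
    rw [h1]
    simp only [gsMap, Scheme.Hom.comp_appTop, Coh.toGlobal, CommRingCat.hom_comp, RingHom.coe_comp,
      Function.comp_apply]
    rfl
  let φ : Γ((X.fromSpecResidueField x).ker.subscheme, ⊤) ≃ₗ[k] X.residueField x :=
    { e with
      map_smul' := fun c s => by
        change e (c • s) = c • e s
        rw [Algebra.smul_def, Algebra.smul_def, map_mul, he] }
  exact φ.finrank_eq

end Res

variable (k : Type u) [Field k] (X : Scheme.{u}) [X.Over (Spec (CommRingCat.of k))]
  [IsProper (X ↘ (Spec (CommRingCat.of k)))]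

open Groth.Agent.Lib.Helper4.CurveChi Groth.Agent.Lib.Helper6.GGCurve Groth.Agent.Lib.Helper27GlobGenPn
  Groth.Agent.Lib.Helper23.SecTw Groth.Agent.Lib.Helper6.CurveDeg in
/-- **S7837** -/
theorem main (x : X) (hx : IsClosed ({x} : Set X)) (L L' : X.Modules) (hL' : PicF.IsInvertible L')
    (hLL' : Nonempty (L ≅ CohB1.tensorMod L' (ClSub.idealMod (X.fromSpecResidueField x).ker))) :
    Module.finrank k (Coh.HH X L 0) ≤ Module.finrank k (Coh.HH X L' 0) ∧
      Module.finrank k (Coh.HH X L' 0) ≤
        Module.finrank k (Coh.HH X L 0) + Module.finrank k (X.residueField x) := by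
  haveI : IsLocallyNoetherian X :=
    LocallyOfFiniteType.isLocallyNoetherian (X ↘ (Spec (CommRingCat.of k)))
  obtain ⟨e⟩ := hLL'
  set I := (X.fromSpecResidueField x).ker with hI
  have hL'1 := isFinLocFreeOfRank_one_of_isInvertible L' hL'
  have hflat := isFlat_of_isFinLocFreeOfRank L' 1 hL'1
  have cL' := isCoh_of_isInvertible L' hL'
  have e0 : Module.finrank k (Coh.HH X L 0) =
      Module.finrank k (Coh.HH X (CohB1.tensorMod L' (ClSub.idealMod I)) 0) :=
    (HHequiv k e 0).finrank_eq
  have hrange : Set.range I.subschemeι ⊆ {x} := by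
    rw [Scheme.IdealSheafData.range_subschemeι, hI, Scheme.Hom.support_ker,
      Scheme.range_fromSpecResidueField, hx.closure_eq]
  refine ⟨?_, ?_⟩
  · -- injectivity on `H⁰`
    haveI : Mono (ClSub.idealModι I) := inferInstanceAs (Mono (kernel.ι (ClSub.toSubscheme I)))
    haveI : Mono (wl (ClSub.idealModι I) L') :=
      Groth.Agent.Lib.Helper6.SimpleSub.mono_wl (ClSub.idealModι I) L' hflat
    have hinj := Groth.Agent.Lib.Helper27MinPres.injective_HHlin_zero_of_mono k
      (wl (ClSub.idealModι I) L' ≫ (lam L').hom)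
    haveI : Module.Finite k (Coh.HH X L' 0) := Groth.Agent.S0002.result k X _ cL' 0
    have h1 := LinearMap.finrank_le_finrank_of_injective hinj
    have e2 : Module.finrank k (Coh.HH X (CohB1.tensorMod (ClSub.idealMod I) L') 0) =
        Module.finrank k (Coh.HH X (CohB1.tensorMod L' (ClSub.idealMod I)) 0) :=
      (HHequiv k (Groth.Agent.Lib.Helper23.AmpleFam2.tensorBraid (ClSub.idealMod I) L') 0).finrank_eq
    rw [e0, ← e2]
    exact h1
  · have h1 := Groth.Agent.Lib.Helper4.CurvePt.h0_le_twist k X I x hrange 1 L' hL'1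
    have h2 := Groth.Agent.Lib.Helper4.CurvePt.finrank_hh0_push I.subschemeι k
    have h3 := finrank_Γ_ker k X x hx
    rw [one_mul] at h1
    rw [e0]
    refine h1.trans (Nat.add_le_add_left (le_of_eq ?_) _)
    exact h2.trans h3

end Groth.Agent.Lib.Helper6.PtTwist
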