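import Mathlib.AlgebraicGeometry.Morphisms.FiniteType
import Mathlib.AlgebraicGeometry.Morphisms.QuasiCompact
import Mathlib.AlgebraicGeometry.Morphisms.Immersion
import Mathlib.AlgebraicGeometry.Noetherian
import Mathlib.Topology.NoetherianSpace

open AlgebraicGeometry CategoryTheory TopologicalSpace

universe u

namespace Groth.Agent.Lib.Helper6

/-- in a space that is locally a Noetherian space, subsets of quasi-compact sets are
quasi-compact -/
lemma isCompact_of_subset_of_locallyNoetherianSpace {T : Type*} [TopologicalSpace T]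
    (hT : ∀ x : T, ∃ U : Opens T, x ∈ U ∧ NoetherianSpace U) {K A : Set T} (hK : IsCompact K)
    (hA : A ⊆ K) : IsCompact A := by
  choose U hxU hU using hT
  obtain ⟨s, hs⟩ := hK.elim_finite_subcover (fun x => (U x : Set T)) (fun x => (U x).2)
    (fun x _ => Set.mem_iUnion.2 ⟨x, hxU x⟩)
  have hA' : A = ⋃ x ∈ s, (A ∩ U x) := by
    ext a
    simp only [Set.mem_iUnion, Set.mem_inter_iff, exists_and_left, exists_prop]
    constructor
    · intro ha
      have := hs (hA ha)
      simp only [Set.mem_iUnion, exists_prop] at this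
      exact ⟨ha, this⟩
    · exact fun h => h.1
  rw [hA']
  refine s.finite_toSet.isCompact_biUnion fun x _ => ?_
  have h1 : IsCompact ((↑) ⁻¹' (A ∩ U x) : Set (U x)) :=
    @NoetherianSpace.isCompact _ _ (hU x) _
  have h2 := h1.image continuous_subtype_val
  convert h2 using 1
  ext a
  simp only [Set.mem_inter_iff, SetLike.mem_coe, Set.mem_image, Set.mem_preimage, Subtype.exists,
    exists_and_right, exists_eq_right]
  constructor
  · intro h
    exact ⟨⟨h.2, h.1⟩, h.2⟩
  · rintro ⟨⟨h1, h2⟩, -⟩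
    exact ⟨h2, h1⟩

variable {X Y Z : Scheme.{u}}

theorem quasiCompact_of_comp_of_locallyNoetherianSpace (f : X ⟶ Y) (g : Y ⟶ Z)
    [QuasiCompact (f ≫ g)]
    (hX : ∀ x : X, ∃ U : X.Opens, x ∈ U ∧ NoetherianSpace U) :
    QuasiCompact f := by
  constructor
  intro V hVo hVc
  -- cover `V` by preimages of affine opens of `Z`
  have hcov : ∀ y : Y, ∃ W : Z.Opens, IsAffineOpen W ∧ g y ∈ W := by
    intro y
    obtain ⟨_, ⟨W, hW, rfl⟩, hyW, -⟩ :=
      Z.isBasis_affineOpens.exists_subset_of_mem_open (Set.mem_univ (g y)) isOpen_univ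
    exact ⟨W, hW, hyW⟩
  choose W hW hyW using hcov
  obtain ⟨s, hs⟩ := hVc.elim_finite_subcover (fun y => (g ⁻¹ᵁ (W y) : Set Y))
    (fun y => (g ⁻¹ᵁ (W y)).2) (fun y _ => Set.mem_iUnion.2 ⟨y, hyW y⟩)
  have hK : IsCompact (⋃ y ∈ s, ((f ≫ g) ⁻¹ᵁ (W y) : Set X)) :=
    s.finite_toSet.isCompact_biUnion fun y _ => (f ≫ g).isCompact_preimage (hW y).isCompact
  refine isCompact_of_subset_of_locallyNoetherianSpace hX hK ?_
  intro x hx
  have := hs hx
  simp only [Set.mem_iUnion, exists_prop] at this ⊢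
  obtain ⟨y, hy, hxy⟩ := this
  exact ⟨y, hy, by simpa using hxy⟩

theorem quasiCompact_of_isImmersion_of_locallyNoetherianSpace (f : X ⟶ Y) [IsImmersion f]
    (hY : ∀ y : Y, ∃ U : Y.Opens, y ∈ U ∧ NoetherianSpace U) :
    QuasiCompact f := by
  constructor
  intro V hVo hVc
  rw [f.isEmbedding.isInducing.isCompact_iff, Set.image_preimage_eq_inter_range]
  exact isCompact_of_subset_of_locallyNoetherianSpace hY hVc Set.inter_subset_left

lemma locallyNoetherianSpace_of_isLocallyNoetherian [IsLocallyNoetherian X] (x : X) :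
    ∃ U : X.Opens, x ∈ U ∧ NoetherianSpace U := by
  obtain ⟨_, ⟨U, hU, rfl⟩, hxU, -⟩ :=
    X.isBasis_affineOpens.exists_subset_of_mem_open (Set.mem_univ x) isOpen_univ
  have : IsNoetherianRing Γ(X, U) := IsLocallyNoetherian.component_noetherian ⟨U, hU⟩
  exact ⟨U, hxU, noetherianSpace_of_isAffineOpen U hU⟩

theorem finiteType_of_comp_of_isLocallyNoetherian {S : Scheme.{u}} [IsLocallyNoetherian S]
    (p : X ⟶ S) (q : Y ⟶ S)
    [LocallyOfFiniteType p] [QuasiCompact p] (f : X ⟶ Y) (hf : f ≫ q = p) :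
    LocallyOfFiniteType f ∧ QuasiCompact f := by
  subst hf
  have : IsLocallyNoetherian X := LocallyOfFiniteType.isLocallyNoetherian (f ≫ q)
  exact ⟨locallyOfFiniteType_of_comp f q,
    quasiCompact_of_comp_of_locallyNoetherianSpace f q locallyNoetherianSpace_of_isLocallyNoetherian⟩

end Groth.Agent.Lib.Helper6
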