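import Mathlib
import Groth.Agent.Lib.Helper6QFAffB
import Groth.Agent.Lib.Helper3GrpFibDim
import Groth.Agent.Lib.Helper4FibDimG

/-!
# EGA IV 13.3.1.1: consequences of a fibrewise finite map to affine space (helper6)
-/

set_option autoImplicit false
set_option linter.style.haveILetI false
universe u

open TopologicalSpace Topology AlgebraicGeometry CategoryTheory CategoryTheory.Limits

namespace Groth.Agent.Lib.Helper6.QFAff

open Groth.Agent.Lib.Helper4.FibDim Groth.Agent.Lib.Helper4.VarDim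
open Groth.Agent.Lib.Helper4.DimFormula

/-- a fibre of exact dimension `e` has a point of local fibre dimension `e`. -/
theorem exists_fibreDimAt_eq_of_dim_fiber_eq {X Y : Scheme.{u}} (f : X ⟶ Y) [LocallyOfFiniteType f]
    (y : Y) (hy : y ∈ Set.range f.base) (e : ℕ)
    (he : topologicalKrullDim ↥(f.fiber y) = e) :
    ∃ x : X, f.base x = y ∧ FlatMor.fibreDimAt f x = (e : WithBot ℕ∞) := by
  have hle : ∀ x : X, f x = y → FlatMor.fibreDimAt f x ≤ (e : WithBot ℕ∞) :=
    (topologicalKrullDim_fiber_le_iff f y e).mp he.le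
  by_contra hcon
  push Not at hcon
  rcases Nat.eq_zero_or_pos e with h0 | hpos
  · subst h0
    obtain ⟨x, hx⟩ := hy
    apply hcon x hx
    apply le_antisymm (hle x hx)
    exact Groth.Agent.Lib.Helper7.TopDim.localDim_nonneg _
  · have h1 : topologicalKrullDim ↥(f.fiber y) ≤ ((e - 1 : ℕ) : WithBot ℕ∞) := by
      rw [topologicalKrullDim_fiber_le_iff]
      intro x hx
      obtain ⟨n, hn⟩ := Groth.Agent.Lib.Helper3.GrpFibDim.exists_nat_fibreDimAt_eq f x
      have h2 := hle x hx
      have h3 := hcon x hx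
      rw [hn] at h2 h3 ⊢
      have h4 : n ≤ e := by exact_mod_cast h2
      have h5 : n ≠ e := fun h => h3 (by rw [h])
      have h6 : n ≤ e - 1 := by omega
      exact_mod_cast h6
    rw [he] at h1
    have h7 : e ≤ e - 1 := by exact_mod_cast h1
    omega

/-- if the base change of `g` to the fibre of `Z ⟶ Y` over `y` is locally quasi-finite, then `g` has
local fibre dimension `≤ 0` at all points over `y`. -/
theorem fibreDimAt_le_zero_of_fibre {X Z Y : Scheme.{u}} (g : X ⟶ Z) (p : Z ⟶ Y)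
    [LocallyOfFiniteType g] (y : Y)
    [LocallyQuasiFinite (pullback.snd g (p.fiberι y))] (x : X) (hx : (g ≫ p).base x = y) :
    FlatMor.fibreDimAt g x ≤ 0 := by
  have hgx : g.base x ∈ Set.range (p.fiberι y).base := by
    rw [p.range_fiberι]; exact hx
  obtain ⟨z, hz⟩ := hgx
  obtain ⟨x'', hx1, -⟩ := Scheme.Pullback.exists_preimage_pullback (f := g) (g := p.fiberι y) x z
    hz.symm
  have sq := IsPullback.of_hasPullback g (p.fiberι y)
  have h1 := Groth.Agent.Lib.Helper3.LocDimBC.fibreDimAt_eq_of_isPullback g (p.fiberι y)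
    (pullback.fst g (p.fiberι y)) (pullback.snd g (p.fiberι y)) sq x''
  rw [hx1] at h1
  rw [← h1]
  exact (Groth.Agent.Lib.Helper3.GrpHomQF.locallyQuasiFinite_iff_forall_fibreDimAt_le_zero _).mp
    inferInstance x''

/-- **EGA IV 13.3.1.1 (ii)**: a `Y`-morphism `g : X ⟶ 𝔸^e_Y` whose base change to the fibre over `y`
is finite is surjective on that fibre when `dim X_y = e`, and is locally quasi-finite on an open
neighbourhood of `X_y`. -/
theorem surjective_and_exists_opens_of_isFinite_fibre {X Y : Scheme.{u}} (f : X ⟶ Y)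
    [LocallyOfFiniteType f] (y : Y) (hy : y ∈ Set.range f.base) (e : ℕ)
    (he : topologicalKrullDim ↥(f.fiber y) = e) (g : X ⟶ 𝔸(ULift.{u} (Fin e); Y))
    (hg : g ≫ (𝔸(ULift.{u} (Fin e); Y) ↘ Y) = f)
    (hfin : IsFinite (pullback.snd g ((𝔸(ULift.{u} (Fin e); Y) ↘ Y).fiberι y))) :
    Function.Surjective (pullback.snd g ((𝔸(ULift.{u} (Fin e); Y) ↘ Y).fiberι y)).base ∧
      ∃ U : X.Opens, f.base ⁻¹' {y} ⊆ (U : Set X) ∧ LocallyQuasiFinite (U.ι ≫ g) := by
  haveI hgft : LocallyOfFiniteType g := by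
    haveI : LocallyOfFiniteType (g ≫ (𝔸(ULift.{u} (Fin e); Y) ↘ Y)) := by
      rw [hg]; infer_instance
    exact locallyOfFiniteType_of_comp g (𝔸(ULift.{u} (Fin e); Y) ↘ Y)
  have hqf0 : ∀ x : X, f.base x = y → FlatMor.fibreDimAt g x ≤ 0 := by
    intro x hx
    exact fibreDimAt_le_zero_of_fibre g (𝔸(ULift.{u} (Fin e); Y) ↘ Y) y x (by rw [hg]; exact hx)
  constructor
  · -- surjectivity
    obtain ⟨x₀, hx₀, hfd⟩ := exists_fibreDimAt_eq_of_dim_fiber_eq f y hy e he
    obtain ⟨w, hw, -, -, hwtr⟩ :=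
      Groth.Agent.Lib.Helper6.Uni.exists_maximal_ptTrdeg_eq_fibreDimAt f x₀
    rw [hfd] at hwtr
    have hwy : f.base w = y := hw.trans hx₀
    have htr : ptTrdeg f w = e := by exact_mod_cast hwtr.symm
    have hg0 : ptTrdeg g w = 0 := by
      have h1 := Groth.Agent.Lib.Helper4.DimFormula.ptTrdeg_le_fibreDimAt g w
      have h3 : (ptTrdeg g w : WithBot ℕ∞) ≤ ((0 : ℕ) : WithBot ℕ∞) := h1.trans (hqf0 w hwy)
      have h5 : ptTrdeg g w ≤ 0 := by exact_mod_cast h3
      omega
    have hpw : ptTrdeg (𝔸(ULift.{u} (Fin e); Y) ↘ Y) (g.base w) = e := by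
      have := ptTrdeg_comp g (𝔸(ULift.{u} (Fin e); Y) ↘ Y) w
      rw [hg0, add_zero] at this
      rw [← this]
      have h2 : ptTrdeg (g ≫ (𝔸(ULift.{u} (Fin e); Y) ↘ Y)) w = ptTrdeg f w := by
        congr 1
      rw [h2, htr]
    -- the generic point of the fibre of affine space
    set F := (𝔸(ULift.{u} (Fin e); Y) ↘ Y).fiber y with hF
    set ι := (𝔸(ULift.{u} (Fin e); Y) ↘ Y).fiberι y with hι
    have hgw : g.base w ∈ Set.range ι.base := by
      rw [hι, (𝔸(ULift.{u} (Fin e); Y) ↘ Y).range_fiberι]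
      show (𝔸(ULift.{u} (Fin e); Y) ↘ Y).base (g.base w) = y
      rw [← Scheme.Hom.comp_apply, hg]; exact hwy
    obtain ⟨z₀, hz₀⟩ := hgw
    have hsp : ι.base (genericPoint F) ⤳ g.base w := by
      rw [← hz₀]
      exact (genericPoint_specializes z₀).map ι.continuous
    have hηy : (𝔸(ULift.{u} (Fin e); Y) ↘ Y).base (ι.base (genericPoint F)) = y := by
      have : ι.base (genericPoint F) ∈ Set.range ι.base := ⟨_, rfl⟩
      rw [hι, (𝔸(ULift.{u} (Fin e); Y) ↘ Y).range_fiberι] at this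
      exact this
    have hgwy : (𝔸(ULift.{u} (Fin e); Y) ↘ Y).base (g.base w) = y := by
      rw [← Scheme.Hom.comp_apply, hg]; exact hwy
    have heq : ι.base (genericPoint F) = g.base w := by
      by_contra hne
      have h2 := Groth.Agent.Lib.Helper6.EquiSub.ptTrdeg_lt_of_specializes
        (𝔸(ULift.{u} (Fin e); Y) ↘ Y) (ι.base (genericPoint F)) (g.base w) (hηy.trans hgwy.symm) hsp hne
      have h4 : (ptTrdeg (𝔸(ULift.{u} (Fin e); Y) ↘ Y) (ι.base (genericPoint F)) : WithBot ℕ∞) ≤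
          (e : WithBot ℕ∞) :=
        (Groth.Agent.Lib.Helper4.DimFormula.ptTrdeg_le_fibreDimAt _ _).trans
          (fibreDimAt_affineSpace Y e _).le
      have h5 : ptTrdeg (𝔸(ULift.{u} (Fin e); Y) ↘ Y) (ι.base (genericPoint F)) ≤ e := by
        exact_mod_cast h4
      omega
    obtain ⟨w'', -, hw''⟩ := Scheme.Pullback.exists_preimage_pullback (f := g) (g := ι) w
      (genericPoint F) heq.symm
    have hclosed : IsClosed (Set.range (pullback.snd g ι).base) :=
      (pullback.snd g ι).isClosedMap.isClosed_range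
    intro z
    have h1 : genericPoint F ⤳ z := genericPoint_specializes z
    have h2 : z ∈ closure ({genericPoint F} : Set F) := h1.mem_closure
    have h3 : closure ({genericPoint F} : Set F) ⊆ Set.range (pullback.snd g ι).base :=
      hclosed.closure_subset_iff.mpr (by
        rintro _ rfl
        exact ⟨w'', hw''⟩)
    exact h3 h2
  · refine ⟨⟨{x : X | FlatMor.fibreDimAt g x ≤ ((0 : ℕ) : WithBot ℕ∞)},
      isOpen_setOf_fibreDimAt_le g 0⟩, ?_, ?_⟩
    · intro x hx
      exact hqf0 x hx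
    · set U : X.Opens := ⟨{x : X | FlatMor.fibreDimAt g x ≤ ((0 : ℕ) : WithBot ℕ∞)},
        isOpen_setOf_fibreDimAt_le g 0⟩ with hU
      rw [Groth.Agent.Lib.Helper3.GrpHomQF.locallyQuasiFinite_iff_forall_fibreDimAt_le_zero]
      intro u
      rw [fibreDimAt_opens_ι_comp]
      exact u.2

end Groth.Agent.Lib.Helper6.QFAff
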