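import Mathlib
import Groth.Agent.Lib.Helper6QFAffC
import Groth.Agent.Lib.Helper4FibDimB

/-!
# EGA IV 13.3.1.1 (i): Noether normalization of a fibre (helper6)
-/

set_option autoImplicit false
set_option linter.style.haveILetI false
universe u

open TensorProduct TopologicalSpace Topology AlgebraicGeometry CategoryTheory CategoryTheory.Limits
  MvPolynomial

namespace Groth.Agent.Lib.Helper6.QFAff

/-- compatibility of `toAff` with base change of the coefficient ring. -/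
theorem toAff_comp_map {σ : Type u} {R R' B B' : CommRingCat.{u}} (α : R ⟶ R') (β : B ⟶ B')
    (ψ : MvPolynomial σ R →+* B) (ψ' : MvPolynomial σ R' →+* B')
    (h : ψ'.comp (MvPolynomial.map α.hom) = β.hom.comp ψ) :
    toAff ψ' ≫ AffineSpace.map σ (Spec.map α) = Spec.map β ≫ toAff ψ := by
  unfold toAff
  rw [AffineSpace.map_SpecMap, Category.assoc, Iso.inv_hom_id_assoc, ← Spec.map_comp_assoc,
    ← Spec.map_comp_assoc]
  congr 2
  ext1
  exact h

section Ring

variable {R B : Type u} [CommRing R] [CommRing B] [Algebra R B] (p : Ideal R) [p.IsPrime]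
  {σ : Type u} (ψ : MvPolynomial σ R →ₐ[R] B)

/-- the base change of `ψ : R[σ] → B` to the residue field `κ(p)`, as a map `κ(p)[σ] → κ(p) ⊗ B`. -/
noncomputable def fibreMap : MvPolynomial σ p.ResidueField →+* p.ResidueField ⊗[R] B :=
  (Algebra.TensorProduct.map (AlgHom.id p.ResidueField p.ResidueField) ψ).toRingHom.comp
    (MvPolynomial.algebraTensorAlgEquiv (σ := σ) R p.ResidueField).symm.toRingEquiv.toRingHom

lemma fibreMap_comp_map :
    (fibreMap p ψ).comp (MvPolynomial.map (algebraMap R p.ResidueField)) =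
      (Algebra.TensorProduct.includeRight : B →ₐ[R] p.ResidueField ⊗[R] B).toRingHom.comp
        ψ.toRingHom := by
  refine RingHom.ext (fun x => ?_)
  show (Algebra.TensorProduct.map (AlgHom.id p.ResidueField p.ResidueField) ψ)
    ((MvPolynomial.algebraTensorAlgEquiv (σ := σ) R p.ResidueField).symm
      (MvPolynomial.map (algebraMap R p.ResidueField) x)) = 1 ⊗ₜ[R] ψ x
  rw [MvPolynomial.algebraTensorAlgEquiv_symm_map]
  simp

lemma fibreMap_comp_C :
    (fibreMap p ψ).comp (C : p.ResidueField →+* MvPolynomial σ p.ResidueField) =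
      (Algebra.TensorProduct.includeLeft :
        p.ResidueField →ₐ[p.ResidueField] p.ResidueField ⊗[R] B).toRingHom := by
  refine RingHom.ext (fun k => ?_)
  show (Algebra.TensorProduct.map (AlgHom.id p.ResidueField p.ResidueField) ψ)
    ((MvPolynomial.algebraTensorAlgEquiv (σ := σ) R p.ResidueField).symm (C k)) = k ⊗ₜ[R] 1
  have : (C k : MvPolynomial σ p.ResidueField) = monomial 0 k := rfl
  rw [this, MvPolynomial.algebraTensorAlgEquiv_symm_monomial]
  simp

lemma fibreMap_finite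
    (hψ : (Algebra.TensorProduct.map (AlgHom.id p.ResidueField p.ResidueField) ψ).toRingHom.Finite) :
    (fibreMap p ψ).Finite := by
  unfold fibreMap
  exact RingHom.Finite.comp hψ (RingHom.Finite.of_surjective _
    (MvPolynomial.algebraTensorAlgEquiv (σ := σ) R p.ResidueField).symm.surjective)

end Ring

section RingPullback

variable {R B : Type u} [CommRing R] [CommRing B] [Algebra R B] (p : Ideal R) [p.IsPrime]
  {σ : Type u} (ψ : MvPolynomial σ R →ₐ[R] B)

/-- the fibre of `toAff ψ : Spec B ⟶ 𝔸(σ; Spec R)` over `Spec κ(p)`. -/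
theorem isPullback_toAff_fibreMap :
    IsPullback
      (Spec.map (CommRingCat.ofHom
        (Algebra.TensorProduct.includeRight : B →ₐ[R] p.ResidueField ⊗[R] B).toRingHom))
      (toAff (R := CommRingCat.of p.ResidueField) (B := CommRingCat.of (p.ResidueField ⊗[R] B))
        (fibreMap p ψ))
      (toAff (R := CommRingCat.of R) (B := CommRingCat.of B) ψ.toRingHom)
      (AffineSpace.map σ (Spec.map (CommRingCat.ofHom (algebraMap R p.ResidueField)))) := by
  have t := (AffineSpace.isPullback_map (n := σ)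
    (Spec.map (CommRingCat.ofHom (algebraMap R p.ResidueField)))).flip
  have hpo := CommRingCat.isPushout_tensorProduct R p.ResidueField B
  have s0 := isPullback_SpecMap_of_isPushout _ _ _ _ hpo
  have e1 : toAff (R := CommRingCat.of p.ResidueField)
      (B := CommRingCat.of (p.ResidueField ⊗[R] B)) (fibreMap p ψ) ≫
      (𝔸(σ; Spec (CommRingCat.of p.ResidueField)) ↘ Spec (CommRingCat.of p.ResidueField)) =
      Spec.map (CommRingCat.ofHom (S := p.ResidueField ⊗[R] B)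
        Algebra.TensorProduct.includeLeftRingHom) := by
    rw [toAff_over, fibreMap_comp_C]
    rfl
  have e2 : toAff (R := CommRingCat.of R) (B := CommRingCat.of B) ψ.toRingHom ≫
      (𝔸(σ; Spec (CommRingCat.of R)) ↘ Spec (CommRingCat.of R)) =
      Spec.map (CommRingCat.ofHom (algebraMap R B)) := by
    rw [toAff_over]
    congr 2
    refine RingHom.ext (fun r => ?_)
    show ψ (C r) = algebraMap R B r
    exact ψ.commutes r
  have s : IsPullback
      (toAff (R := CommRingCat.of p.ResidueField)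
        (B := CommRingCat.of (p.ResidueField ⊗[R] B)) (fibreMap p ψ) ≫
        (𝔸(σ; Spec (CommRingCat.of p.ResidueField)) ↘ Spec (CommRingCat.of p.ResidueField)))
      (Spec.map (CommRingCat.ofHom
        (Algebra.TensorProduct.includeRight : B →ₐ[R] p.ResidueField ⊗[R] B).toRingHom))
      (Spec.map (CommRingCat.ofHom (algebraMap R p.ResidueField)))
      (toAff (R := CommRingCat.of R) (B := CommRingCat.of B) ψ.toRingHom ≫
        (𝔸(σ; Spec (CommRingCat.of R)) ↘ Spec (CommRingCat.of R))) := by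
    rw [e1, e2]
    exact s0
  have hcomm := toAff_comp_map (σ := σ) (R := CommRingCat.of R) (R' := CommRingCat.of p.ResidueField)
    (B := CommRingCat.of B) (B' := CommRingCat.of (p.ResidueField ⊗[R] B))
    (CommRingCat.ofHom (algebraMap R p.ResidueField))
    (CommRingCat.ofHom
      (Algebra.TensorProduct.includeRight : B →ₐ[R] p.ResidueField ⊗[R] B).toRingHom)
    ψ.toRingHom (fibreMap p ψ) (fibreMap_comp_map p ψ)
  exact (IsPullback.of_right s hcomm t).flip

end RingPullback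

section Scheme

open Groth.Agent.Lib.Helper4.FibDim

/-- comparison of `fibLD` along the canonical isomorphisms with spectra. -/
theorem fibLD_isoSpec_inv {X Y : Scheme.{u}} [IsAffine X] [IsAffine Y] (f : X ⟶ Y)
    (q : Spec Γ(X, ⊤)) :
    fibLD f (X.isoSpec.inv q) = fibLD (Spec.map f.appTop) q := by
  have h1 := fibLD_comp_isOpenEmbedding f X.isoSpec.inv X.isoSpec.inv.isOpenEmbedding q
  have h2 : (f : X → Y) ∘ (X.isoSpec.inv : Spec Γ(X, ⊤) → X) =
      (Y.isoSpec.inv : Spec Γ(Y, ⊤) → Y) ∘ (Spec.map f.appTop : Spec Γ(X, ⊤) → Spec Γ(Y, ⊤)) := by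
    ext w
    have := congrArg (fun g : Spec Γ(X, ⊤) ⟶ Y => g w) (Scheme.isoSpec_inv_naturality f)
    simp only [Scheme.Hom.comp_apply] at this
    exact this.symm
  rw [← h1, h2, fibLD_comp_injective _ _ Y.isoSpec.inv.isOpenEmbedding.injective]

/-- the fibre ring over a point of `Spec Γ(Y, ⊤)` has dimension at most the dimension of the
scheme-theoretic fibre. -/
theorem ringKrullDim_fiber_le_of_dim_fiber_le {X Y : Scheme.{u}} [IsAffine X] [IsAffine Y]
    (f : X ⟶ Y) (y' : Spec Γ(Y, ⊤)) (c : WithBot ℕ∞)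
    (he : topologicalKrullDim ↥(f.fiber (Y.isoSpec.inv y')) ≤ c) :
    letI : Algebra Γ(Y, ⊤) Γ(X, ⊤) := f.appTop.hom.toAlgebra
    ringKrullDim (y'.asIdeal.Fiber Γ(X, ⊤)) ≤ c := by
  letI : Algebra Γ(Y, ⊤) Γ(X, ⊤) := f.appTop.hom.toAlgebra
  have hle := (topologicalKrullDim_fiber_le_iff f (Y.isoSpec.inv y') c).mp he
  rw [← PrimeSpectrum.topologicalKrullDim_eq_ringKrullDim,
    Groth.Agent.Lib.Helper7.TopDim.topologicalKrullDim_eq_iSup_localDim]
  refine iSup_le (fun Q => ?_)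
  obtain ⟨⟨q, hq⟩, rfl⟩ := (PrimeSpectrum.preimageHomeomorphFiber Γ(Y, ⊤) Γ(X, ⊤) y').surjective Q
  have hq' : PrimeSpectrum.comap (algebraMap Γ(Y, ⊤) Γ(X, ⊤)) q = y' := hq
  subst hq'
  rw [← fibLD_comap_eq]
  have h3 : fibLD (PrimeSpectrum.comap (algebraMap Γ(Y, ⊤) Γ(X, ⊤))) q =
      fibLD (Spec.map f.appTop) q := rfl
  rw [h3, ← fibLD_isoSpec_inv, ← fibreDimAt_eq_fibLD]
  apply hle
  have := congrArg (fun g : Spec Γ(X, ⊤) ⟶ Y => g q) (Scheme.isoSpec_inv_naturality f)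
  simp only [Scheme.Hom.comp_apply] at this
  exact this.symm

end Scheme

section Main

open Groth.Agent.Lib.Helper4.FibDim

/-- `AffineSpace.map` of an isomorphism, as an isomorphism. -/
noncomputable def affineSpaceMapIso (σ : Type u) {S T : Scheme.{u}} (i : S ≅ T) : 𝔸(σ; S) ≅ 𝔸(σ; T) where
  hom := AffineSpace.map σ i.hom
  inv := AffineSpace.map σ i.inv
  hom_inv_id := by rw [← AffineSpace.map_comp, Iso.hom_inv_id, AffineSpace.map_id]
  inv_hom_id := by rw [← AffineSpace.map_comp, Iso.inv_hom_id, AffineSpace.map_id]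

/-- the residue field of an affine scheme at `y` via the prime ideal of global sections. -/
theorem exists_iso_fromSpecResidueField {Y : Scheme.{u}} [IsAffine Y] (y' : Spec Γ(Y, ⊤)) :
    ∃ i : Spec (CommRingCat.of y'.asIdeal.ResidueField) ≅
        Spec (Y.residueField (Y.isoSpec.inv y')),
      i.hom ≫ Y.fromSpecResidueField (Y.isoSpec.inv y') =
        Spec.map (CommRingCat.ofHom (algebraMap Γ(Y, ⊤) y'.asIdeal.ResidueField)) ≫
          Y.isoSpec.inv := by
  let r := Scheme.Spec.residueFieldIso Γ(Y, ⊤) y'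
  haveI : IsIso (Y.isoSpec.inv.residueFieldMap y') := inferInstance
  refine ⟨Scheme.Spec.mapIso r.op ≪≫
    Scheme.Spec.mapIso (asIso (Y.isoSpec.inv.residueFieldMap y')).op, ?_⟩
  show (Spec.map r.hom ≫ Spec.map (Y.isoSpec.inv.residueFieldMap y')) ≫ _ = _
  rw [Category.assoc, Scheme.Hom.SpecMap_residueFieldMap_fromSpecResidueField,
    ← Scheme.Spec.map_residueFieldIso_inv_eq_fromSpecResidueField, ← Category.assoc,
    ← Category.assoc, ← Spec.map_comp, Iso.inv_hom_id, Spec.map_id, Category.id_comp]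

end Main

section Main2

open Groth.Agent.Lib.Helper4.FibDim

set_option maxHeartbeats 1000000 in
/-- **EGA IV 13.3.1.1 (i)**: Noether normalization of the fibre over `y`, spread out to a
`Y`-morphism `X ⟶ 𝔸^e_Y`. -/
theorem exists_hom_toAffineSpace_isFinite_fibre {X Y : Scheme.{u}} [IsAffine X] [IsAffine Y]
    (f : X ⟶ Y) [LocallyOfFiniteType f] (y : Y) (hy : y ∈ Set.range f.base) (e : ℕ)
    (he : topologicalKrullDim ↥(f.fiber y) ≤ e) :
    ∃ g : X ⟶ 𝔸(ULift.{u} (Fin e); Y), g ≫ (𝔸(ULift.{u} (Fin e); Y) ↘ Y) = f ∧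
      IsFinite (pullback.snd g ((𝔸(ULift.{u} (Fin e); Y) ↘ Y).fiberι y)) := by
  obtain ⟨y', rfl⟩ : ∃ y' : Spec Γ(Y, ⊤), Y.isoSpec.inv y' = y :=
    ⟨Y.isoSpec.hom y, by rw [← Scheme.Hom.comp_apply, Iso.hom_inv_id]; rfl⟩
  have hft : f.appTop.hom.FiniteType :=
    (HasRingHomProperty.iff_of_isAffine (P := @LocallyOfFiniteType)).mp inferInstance
  algebraize [f.appTop.hom]
  have hdim := ringKrullDim_fiber_le_of_dim_fiber_le f y' e he
  -- nontriviality of the fibre ring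
  obtain ⟨x, hx⟩ := hy
  haveI : Nontrivial (y'.asIdeal.Fiber Γ(X, ⊤)) := by
    have hx' : PrimeSpectrum.comap (algebraMap Γ(Y, ⊤) Γ(X, ⊤)) (X.isoSpec.hom x) = y' := by
      have h1 := congrArg (fun g : X ⟶ Spec Γ(Y, ⊤) => g x) (Scheme.isoSpec_hom_naturality f)
      simp only [Scheme.Hom.comp_apply] at h1
      have h2 : (Spec.map f.appTop) (X.isoSpec.hom x) = Y.isoSpec.hom (f x) := h1
      have h3 : Y.isoSpec.hom (f x) = y' := by
        rw [hx, ← Scheme.Hom.comp_apply, Iso.inv_hom_id]; rfl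
      exact h2.trans h3
    have Q := (PrimeSpectrum.preimageHomeomorphFiber Γ(Y, ⊤) Γ(X, ⊤) y') ⟨X.isoSpec.hom x, hx'⟩
    exact ⟨⟨0, 1, fun h => Q.2.ne_top ((Ideal.eq_top_iff_one _).mpr (h ▸ Q.asIdeal.zero_mem))⟩⟩
  obtain ⟨φ, hφ⟩ := exists_algHom_fiber_finite (B := Γ(X, ⊤)) y'.asIdeal e hdim
  set σ := ULift.{u} (Fin e) with hσ
  let ρ : MvPolynomial σ Γ(Y, ⊤) ≃ₐ[Γ(Y, ⊤)] MvPolynomial (Fin e) Γ(Y, ⊤) :=
    MvPolynomial.renameEquiv Γ(Y, ⊤) Equiv.ulift
  let ψ : MvPolynomial σ Γ(Y, ⊤) →ₐ[Γ(Y, ⊤)] Γ(X, ⊤) := φ.comp ρ.toAlgHom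
  have hψ : (Algebra.TensorProduct.map (AlgHom.id y'.asIdeal.ResidueField y'.asIdeal.ResidueField)
      ψ).toRingHom.Finite := by
    have h1 : Algebra.TensorProduct.map
        (AlgHom.id y'.asIdeal.ResidueField y'.asIdeal.ResidueField) ψ =
        (Algebra.TensorProduct.map (AlgHom.id y'.asIdeal.ResidueField y'.asIdeal.ResidueField)
          φ).comp (Algebra.TensorProduct.map
            (AlgHom.id y'.asIdeal.ResidueField y'.asIdeal.ResidueField) ρ.toAlgHom) :=
      Algebra.TensorProduct.map_id_comp _ _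
    rw [h1]
    refine RingHom.Finite.comp hφ (RingHom.Finite.of_surjective _ ?_)
    exact Algebra.TensorProduct.map_surjective _ _ (fun a => ⟨a, rfl⟩) ρ.surjective
  -- the morphism
  let tψ : Spec Γ(X, ⊤) ⟶ 𝔸(σ; Spec Γ(Y, ⊤)) :=
    toAff (R := Γ(Y, ⊤)) (B := Γ(X, ⊤)) ψ.toRingHom
  let g : X ⟶ 𝔸(σ; Y) := X.isoSpec.hom ≫ tψ ≫ AffineSpace.map σ Y.isoSpec.inv
  have hgover : g ≫ (𝔸(σ; Y) ↘ Y) = f := by
    show (X.isoSpec.hom ≫ tψ ≫ AffineSpace.map σ Y.isoSpec.inv) ≫ _ = f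
    rw [Category.assoc, Category.assoc, AffineSpace.map_over, ← Category.assoc tψ]
    have h1 : tψ ≫ (𝔸(σ; Spec Γ(Y, ⊤)) ↘ Spec Γ(Y, ⊤)) = Spec.map f.appTop := by
      show toAff (R := Γ(Y, ⊤)) (B := Γ(X, ⊤)) ψ.toRingHom ≫ _ = _
      rw [toAff_over]
      congr 1
      ext1
      refine RingHom.ext (fun r => ?_)
      show ψ (C r) = f.appTop.hom r
      exact ψ.commutes r
    rw [h1, Scheme.isoSpec_hom_naturality_assoc, Iso.hom_inv_id, Category.comp_id]
  refine ⟨g, hgover, ?_⟩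
  -- finiteness
  set κ := y'.asIdeal.ResidueField with hκ
  let h'' : Spec (CommRingCat.of (κ ⊗[Γ(Y, ⊤)] Γ(X, ⊤))) ⟶ 𝔸(σ; Spec (CommRingCat.of κ)) :=
    toAff (R := CommRingCat.of κ) (B := CommRingCat.of (κ ⊗[Γ(Y, ⊤)] Γ(X, ⊤)))
      (fibreMap y'.asIdeal ψ)
  haveI hfin'' : IsFinite h'' := by
    haveI : IsFinite (Spec.map (CommRingCat.ofHom (fibreMap y'.asIdeal ψ))) :=
      (IsFinite.SpecMap_iff _).mpr (fibreMap_finite y'.asIdeal ψ hψ)
    show IsFinite (Spec.map (CommRingCat.ofHom (fibreMap y'.asIdeal ψ)) ≫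
      (AffineSpace.SpecIso σ (CommRingCat.of κ)).inv)
    infer_instance
  have sqR := isPullback_toAff_fibreMap y'.asIdeal ψ
  let s₀ : Spec (CommRingCat.of κ) ⟶ Spec Γ(Y, ⊤) :=
    Spec.map (CommRingCat.ofHom (algebraMap Γ(Y, ⊤) κ))
  let a : Spec (CommRingCat.of (κ ⊗[Γ(Y, ⊤)] Γ(X, ⊤))) ⟶ X :=
    Spec.map (CommRingCat.ofHom
      (Algebra.TensorProduct.includeRight : Γ(X, ⊤) →ₐ[Γ(Y, ⊤)] κ ⊗[Γ(Y, ⊤)] Γ(X, ⊤)).toRingHom) ≫
      X.isoSpec.inv
  have sqG : IsPullback a h'' g (AffineSpace.map σ (s₀ ≫ Y.isoSpec.inv)) := by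
    refine sqR.of_iso (Iso.refl _) X.isoSpec.symm (Iso.refl _)
      (affineSpaceMapIso σ Y.isoSpec.symm) ?_ ?_ ?_ ?_
    · simp only [Iso.refl_hom, Category.id_comp]; rfl
    · simp only [Iso.refl_hom, Category.id_comp, Category.comp_id]; rfl
    · show tψ ≫ AffineSpace.map σ Y.isoSpec.inv =
        X.isoSpec.inv ≫ X.isoSpec.hom ≫ tψ ≫ AffineSpace.map σ Y.isoSpec.inv
      rw [Iso.inv_hom_id_assoc]
    · show AffineSpace.map σ s₀ ≫ AffineSpace.map σ Y.isoSpec.inv =
        𝟙 _ ≫ AffineSpace.map σ (s₀ ≫ Y.isoSpec.inv)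
      rw [Category.id_comp, AffineSpace.map_comp]
  obtain ⟨i, hi⟩ := exists_iso_fromSpecResidueField y'
  have sqF := AffineSpace.isPullback_map (n := σ) (s₀ ≫ Y.isoSpec.inv)
  have sqF' : IsPullback (AffineSpace.map σ (s₀ ≫ Y.isoSpec.inv))
      ((𝔸(σ; Spec (CommRingCat.of κ)) ↘ Spec (CommRingCat.of κ)) ≫ i.hom)
      (𝔸(σ; Y) ↘ Y) (Y.fromSpecResidueField (Y.isoSpec.inv y')) := by
    refine sqF.of_iso (Iso.refl _) (Iso.refl _) i (Iso.refl _) ?_ ?_ ?_ ?_
    · simp
    · simp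
    · simp
    · simp only [Iso.refl_hom, Category.comp_id]; exact hi.symm
  let j : 𝔸(σ; Spec (CommRingCat.of κ)) ≅ (𝔸(σ; Y) ↘ Y).fiber (Y.isoSpec.inv y') :=
    sqF'.isoPullback
  have hj : j.hom ≫ (𝔸(σ; Y) ↘ Y).fiberι (Y.isoSpec.inv y') =
      AffineSpace.map σ (s₀ ≫ Y.isoSpec.inv) := sqF'.isoPullback_hom_fst
  have sqFinal : IsPullback a (h'' ≫ j.hom) g ((𝔸(σ; Y) ↘ Y).fiberι (Y.isoSpec.inv y')) := by
    refine sqG.of_iso (Iso.refl _) (Iso.refl _) j (Iso.refl _) ?_ ?_ ?_ ?_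
    · simp
    · simp
    · simp
    · simp only [Iso.refl_hom, Category.comp_id]; exact hj.symm
  have hfinal : pullback.snd g ((𝔸(σ; Y) ↘ Y).fiberι (Y.isoSpec.inv y')) =
      sqFinal.isoPullback.inv ≫ (h'' ≫ j.hom) := sqFinal.isoPullback_inv_snd.symm
  rw [hfinal]
  infer_instance

end Main2

end Groth.Agent.Lib.Helper6.QFAff
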