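import Mathlib

set_option autoImplicit false
universe u

open CategoryTheory TopologicalSpace Opposite

namespace Groth.Agent.Lib.Helper6.QHomeo


variable {X₀ X : TopCat.{u}} (f : X₀ ⟶ X)

theorem le_of_map_le (hinj : Function.Injective (fun U : Opens X => (Opens.map f).obj U))
    {U V : Opens X} (h : (Opens.map f).obj U ≤ (Opens.map f).obj V) : U ≤ V := by
  have h1 : (Opens.map f).obj (U ⊓ V) = (Opens.map f).obj U := by
    ext x
    constructor
    · intro hx; exact hx.1
    · intro hx; exact ⟨hx, h hx⟩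
  have h2 : U ⊓ V = U := hinj h1
  exact h2 ▸ inf_le_right

theorem isEquivalence_map (hf : Function.Bijective (fun U : Opens X => (Opens.map f).obj U)) :
    (Opens.map f).IsEquivalence where
  faithful := ⟨fun _ => Subsingleton.elim _ _⟩
  full := ⟨fun g => ⟨homOfLE (le_of_map_le f hf.1 g.le), Subsingleton.elim _ _⟩⟩
  essSurj := ⟨fun W => by
    obtain ⟨U, hU⟩ := hf.2 W
    exact ⟨U, ⟨eqToIso hU⟩⟩⟩

theorem isDenseSubsite_map (hf : Function.Bijective (fun U : Opens X => (Opens.map f).obj U)) :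
    (Opens.map f).IsDenseSubsite (Opens.grothendieckTopology X) (Opens.grothendieckTopology X₀) := by
  haveI := isEquivalence_map f hf
  refine { functorPushforward_mem_iff := ?_ }
  intro U S
  constructor
  · intro hS
    let U' : Opens X := ⨆ V : {V : Opens X // ∃ h : V ⟶ U, S h}, V.1
    have hU' : U ≤ U' := by
      apply le_of_map_le f hf.1
      intro x₀ hx₀
      obtain ⟨W, g, ⟨V, h, k, hSh, -⟩, hxW⟩ := hS x₀ hx₀
      have h1 : x₀ ∈ (Opens.map f).obj V := k.le hxW
      have h2 : V ≤ U' := le_iSup (fun V : {V : Opens X // ∃ h : V ⟶ U, S h} => V.1) ⟨V, h, hSh⟩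
      exact h2 h1
    intro x hx
    obtain ⟨⟨V, h, hSh⟩, hxV⟩ := Opens.mem_iSup.mp (hU' hx)
    exact ⟨V, h, hSh, hxV⟩
  · intro hS x₀ hx₀
    obtain ⟨V, h, hSh, hxV⟩ := hS (f x₀) hx₀
    exact ⟨(Opens.map f).obj V, (Opens.map f).map h, ⟨V, h, 𝟙 _, hSh, by simp⟩, hxV⟩


theorem isEquivalence_pullback_type
    (hf : Function.Bijective (fun U : Opens X => (Opens.map f).obj U)) :
    (TopCat.Sheaf.pullback (Type u) f).IsEquivalence := by
  haveI := isDenseSubsite_map f hf
  haveI : (TopCat.Sheaf.pushforward (Type u) f).IsEquivalence :=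
    inferInstanceAs ((Opens.map f).sheafPushforwardContinuous (Type u)
      (Opens.grothendieckTopology X) (Opens.grothendieckTopology X₀)).IsEquivalence
  exact (TopCat.Sheaf.pullbackPushforwardAdjunction (Type u) f).isEquivalence_left_of_isEquivalence_right

theorem isEquivalence_pullback_ab
    (hf : Function.Bijective (fun U : Opens X => (Opens.map f).obj U)) :
    (TopCat.Sheaf.pullback AddCommGrpCat.{u} f).IsEquivalence := by
  haveI := isDenseSubsite_map f hf
  haveI : (TopCat.Sheaf.pushforward AddCommGrpCat.{u} f).IsEquivalence :=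
    inferInstanceAs ((Opens.map f).sheafPushforwardContinuous AddCommGrpCat.{u}
      (Opens.grothendieckTopology X) (Opens.grothendieckTopology X₀)).IsEquivalence
  exact (TopCat.Sheaf.pullbackPushforwardAdjunction AddCommGrpCat.{u} f).isEquivalence_left_of_isEquivalence_right



theorem hPre_isSheaf {Y : TopCat.{u}} (U : Opens Y) :
    TopCat.Presheaf.IsSheaf (yoneda.obj U : TopCat.Presheaf (Type u) Y) := by
  apply TopCat.Presheaf.isSheaf_of_isSheafUniqueGluing_types
  intro ι W sf _
  have hsub : ∀ V : Opens Y, Subsingleton ((yoneda.obj U).obj (op V)) :=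
    fun V => (inferInstance : Subsingleton (V ⟶ U))
  have h : iSup W ≤ U := iSup_le (fun i => (sf i).le)
  exact ⟨homOfLE h, fun i => @Subsingleton.elim _ (hsub _) _ _,
    fun _ _ => @Subsingleton.elim _ (hsub _) _ _⟩

/-- The subterminal sheaf of sets represented by an open subset. -/
def hSheaf {Y : TopCat.{u}} (U : Opens Y) : TopCat.Sheaf (Type u) Y :=
  ⟨yoneda.obj U, hPre_isSheaf U⟩


theorem injective_of_isEquivalence_type [(TopCat.Sheaf.pushforward (Type u) f).IsEquivalence] :
    Function.Injective (fun U : Opens X => (Opens.map f).obj U) := by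
  have key : ∀ U V : Opens X, (Opens.map f).obj U = (Opens.map f).obj V → U ≤ V := by
    intro U V h
    let G := (TopCat.Sheaf.pushforward (Type u) f).objPreimage (hSheaf V)
    let e : (TopCat.Sheaf.pushforward (Type u) f).obj G ≅ hSheaf V :=
      (TopCat.Sheaf.pushforward (Type u) f).objObjPreimageIso (hSheaf V)
    let e' := (sheafToPresheaf _ _).mapIso e
    -- an element of `G (f⁻¹ V)`
    let t : G.obj.obj (op ((Opens.map f).obj V)) := (e'.app (op V)).inv (𝟙 V)
    have t' : G.obj.obj (op ((Opens.map f).obj U)) := h ▸ t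
    exact ((e'.app (op U)).hom t').le
  intro U V h
  exact le_antisymm (key U V h) (key V U h.symm)

theorem surjective_of_isEquivalence_type [(TopCat.Sheaf.pushforward (Type u) f).IsEquivalence] :
    Function.Surjective (fun U : Opens X => (Opens.map f).obj U) := by
  intro W
  let U₀ : Opens X := sSup {U | (Opens.map f).obj U ≤ W}
  have h1 : (Opens.map f).obj U₀ ≤ W := by
    intro x₀ hx₀
    have : f x₀ ∈ U₀ := hx₀
    obtain ⟨U, hU, hxU⟩ := Opens.mem_sSup.mp this
    exact hU hxU
  refine ⟨U₀, le_antisymm h1 ?_⟩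
  let ι : hSheaf ((Opens.map f).obj U₀) ⟶ hSheaf W :=
    ObjectProperty.homMk (yoneda.map (homOfLE h1))
  haveI : IsIso ((TopCat.Sheaf.pushforward (Type u) f).map ι) := by
    haveI : IsIso ((sheafToPresheaf _ _).map ((TopCat.Sheaf.pushforward (Type u) f).map ι)) := by
      apply (config := {allowSynthFailures := true}) NatIso.isIso_of_isIso_app
      intro U'
      rw [isIso_iff_bijective]
      have hsub : ∀ (W' : Opens X₀),
          Subsingleton ((yoneda.obj W').obj (op ((Opens.map f).obj (unop U')))) :=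
        fun W' => (inferInstance : Subsingleton ((Opens.map f).obj (unop U') ⟶ W'))
      constructor
      · intro a b _
        exact @Subsingleton.elim _ (hsub _) _ _
      · intro g'
        have h2 : (unop U') ≤ U₀ := le_sSup (show (Opens.map f).obj (unop U') ≤ W from g'.le)
        exact ⟨homOfLE (fun x hx => h2 hx), @Subsingleton.elim _ (hsub _) _ _⟩
    exact (fullyFaithfulSheafToPresheaf _ _).isIso_of_isIso_map _
  haveI : IsIso ι := isIso_of_reflects_iso ι (TopCat.Sheaf.pushforward (Type u) f)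
  have h3 : IsIso ((sheafToPresheaf (Opens.grothendieckTopology X₀) (Type u)).map ι) :=
    Functor.map_isIso _ ι
  have h4 : IsIso (((sheafToPresheaf _ _).map ι).app (op W)) := inferInstance
  rw [isIso_iff_bijective] at h4
  obtain ⟨g, -⟩ := h4.2 (𝟙 W)
  exact g.le



/-- The presheaf of all `M`-valued functions on the part of an open set lying in `Z`. -/
def fnPre {Y : TopCat.{u}} (Z : Set Y) (M : Type u) [AddCommGroup M] :
    TopCat.Presheaf AddCommGrpCat.{u} Y where
  obj V := AddCommGrpCat.of ({y : Y // y ∈ unop V ∧ y ∈ Z} → M)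
  map i := AddCommGrpCat.ofHom
    { toFun := fun s y => s ⟨y.1, i.unop.le y.2.1, y.2.2⟩
      map_zero' := rfl
      map_add' := fun _ _ => rfl }
  map_id _ := rfl
  map_comp _ _ := rfl

@[simp]
theorem fnPre_map_apply {Y : TopCat.{u}} (Z : Set Y) (M : Type u) [AddCommGroup M]
    {V V' : (Opens Y)ᵒᵖ} (i : V ⟶ V') (s : {y : Y // y ∈ unop V ∧ y ∈ Z} → M)
    (y : {y : Y // y ∈ unop V' ∧ y ∈ Z}) :
    ((fnPre Z M).map i).hom s y = s ⟨y.1, i.unop.le y.2.1, y.2.2⟩ := rfl

theorem fnPre_isSheaf {Y : TopCat.{u}} (Z : Set Y) (M : Type u) [AddCommGroup M] :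
    (fnPre Z M).IsSheaf := by
  rw [TopCat.Presheaf.isSheaf_iff_isSheafUniqueGluing]
  intro ι U sf hsf
  have hcompat : ∀ (i j : ι) (y : Y) (hi : y ∈ U i) (hj : y ∈ U j) (hZ : y ∈ Z),
      sf i ⟨y, hi, hZ⟩ = sf j ⟨y, hj, hZ⟩ := by
    intro i j y hi hj hZ
    have := congrFun (hsf i j) ⟨y, ⟨hi, hj⟩, hZ⟩
    exact this
  let s : {y : Y // y ∈ iSup U ∧ y ∈ Z} → M := fun y =>
    sf (Classical.choose (Opens.mem_iSup.mp y.2.1))
      ⟨y.1, Classical.choose_spec (Opens.mem_iSup.mp y.2.1), y.2.2⟩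
  refine ⟨s, ?_, ?_⟩
  · intro i
    funext y
    exact hcompat _ i y.1 (Classical.choose_spec (Opens.mem_iSup.mp
      ((Opens.leSupr U i).le y.2.1))) y.2.1 y.2.2
  · intro s' hs'
    funext y
    have := congrFun (hs' (Classical.choose (Opens.mem_iSup.mp y.2.1)))
      ⟨y.1, Classical.choose_spec (Opens.mem_iSup.mp y.2.1), y.2.2⟩
    exact this

/-- The sheaf of all `M`-valued functions on the parts of open sets lying in `Z`. -/
def fnSheaf {Y : TopCat.{u}} (Z : Set Y) (M : Type u) [AddCommGroup M] :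
    TopCat.Sheaf AddCommGrpCat.{u} Y := ⟨fnPre Z M, fnPre_isSheaf Z M⟩



theorem injective_of_isEquivalence_ab
    [(TopCat.Sheaf.pushforward AddCommGrpCat.{u} f).IsEquivalence] :
    Function.Injective (fun U : Opens X => (Opens.map f).obj U) := by
  have key : ∀ U V : Opens X, (Opens.map f).obj U = (Opens.map f).obj V → U ≤ V := by
    intro U V h
    let E := fnSheaf ((V : Set X)ᶜ) (ULift.{u} ℤ)
    let G := (TopCat.Sheaf.pushforward AddCommGrpCat.{u} f).objPreimage E
    let e : (TopCat.Sheaf.pushforward AddCommGrpCat.{u} f).obj G ≅ E :=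
      (TopCat.Sheaf.pushforward AddCommGrpCat.{u} f).objObjPreimageIso E
    let e' := (sheafToPresheaf _ _).mapIso e
    have hEV : Subsingleton (E.obj.obj (op V)) := by
      change Subsingleton ({y : X // y ∈ V ∧ y ∈ (V : Set X)ᶜ} → ULift.{u} ℤ)
      haveI : IsEmpty {y : X // y ∈ V ∧ y ∈ (V : Set X)ᶜ} := ⟨fun y => y.2.2 y.2.1⟩
      infer_instance
    have hGV : Subsingleton (G.obj.obj (op ((Opens.map f).obj V))) :=
      ((forget AddCommGrpCat).mapIso (e'.app (op V))).toEquiv.subsingleton_congr.mpr hEV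
    have hGU : Subsingleton (G.obj.obj (op ((Opens.map f).obj U))) := h ▸ hGV
    have hEU : Subsingleton (E.obj.obj (op U)) :=
      ((forget AddCommGrpCat).mapIso (e'.app (op U))).toEquiv.subsingleton_congr.mp hGU
    intro x hxU
    by_contra hxV
    classical
    let s₁ : {y : X // y ∈ U ∧ y ∈ (V : Set X)ᶜ} → ULift.{u} ℤ := fun _ => ⟨1⟩
    let s₀ : {y : X // y ∈ U ∧ y ∈ (V : Set X)ᶜ} → ULift.{u} ℤ := fun _ => ⟨0⟩
    have h01 : s₁ = s₀ := @Subsingleton.elim _ hEU s₁ s₀
    have := congrFun h01 ⟨x, hxU, hxV⟩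
    have h2 : (1 : ℤ) = 0 := congrArg ULift.down this
    exact one_ne_zero h2
  intro U V h
  exact le_antisymm (key U V h) (key V U h.symm)


/-- Key contradiction: if `f_*` is full on abelian sheaves, `W` is open in `X₀`, `x₀ ∈ W`, and
every open neighbourhood `U` of `f x₀` has `f⁻¹ U ⊄ W`, we get a contradiction. -/
theorem false_of_nbhd [(TopCat.Sheaf.pushforward AddCommGrpCat.{u} f).Full]
    (W : Opens X₀) (x₀ : X₀) (hx₀W : x₀ ∈ W)
    (hnb : ∀ U : Opens X, f x₀ ∈ U → ∃ z, z ∈ (Opens.map f).obj U ∧ z ∉ W) : False := by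
  classical
  let Z : Set X₀ := (W : Set X₀)ᶜ
  let Gz := fnSheaf Z (ULift.{u} ℤ)
  let Pf := (TopCat.Sheaf.pushforward AddCommGrpCat.{u} f).obj Gz
  let P : TopCat.Presheaf AddCommGrpCat.{u} X := Pf.obj
  -- the constant function `1` and its germ
  let c₁ : ToType (P.obj (op ⊤)) :=
    (fun _ => ⟨1⟩ : {y : X₀ // y ∈ (Opens.map f).obj ⊤ ∧ y ∈ Z} → ULift.{u} ℤ)
  let τ := P.germ ⊤ (f x₀) trivial c₁
  have hτ : τ ≠ 0 := by
    intro h0
    have h0' : P.germ ⊤ (f x₀) trivial c₁ = P.germ ⊤ (f x₀) trivial 0 := by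
      rw [map_zero]; exact h0
    obtain ⟨U, hxU, iU, iV, hUV⟩ := P.germ_eq (U := ⊤) (V := ⊤) (f x₀) trivial trivial c₁ 0 h0'
    obtain ⟨z, hzU, hzW⟩ := hnb U hxU
    have h2 := congrFun hUV ⟨z, hzU, hzW⟩
    rw [map_zero] at h2
    have h3 : (1 : ℤ) = 0 := congrArg ULift.down h2
    exact one_ne_zero h3
  obtain ⟨χ, hχ⟩ := CharacterModule.exists_character_apply_ne_zero_of_ne_zero hτ
  -- the target group and the functional
  let t : ToType (P.stalk (f x₀)) →+ ULift.{u} (AddCircle (1 : ℚ)) :=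
    (AddEquiv.ulift.symm : AddCircle (1 : ℚ) ≃+ ULift.{u} (AddCircle (1 : ℚ))).toAddMonoidHom.comp χ
  have htτ : t τ ≠ 0 := by
    intro h
    apply hχ
    have := congrArg ULift.down h
    exact this
  let Sk := fnSheaf ({x₀} : Set X₀) (ULift.{u} (AddCircle (1 : ℚ)))
  let Qf := (TopCat.Sheaf.pushforward AddCommGrpCat.{u} f).obj Sk
  -- the morphism `ψ`
  have hmem : ∀ (U : (Opens X)ᵒᵖ) (y : {y : X₀ // y ∈ (Opens.map f).obj (unop U) ∧ y ∈ ({x₀} : Set X₀)}),
      f x₀ ∈ unop U := fun U y => (y.2.2 : y.1 = x₀) ▸ y.2.1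
  let Λ : ∀ (U : (Opens X)ᵒᵖ) (y : {y : X₀ // y ∈ (Opens.map f).obj (unop U) ∧ y ∈ ({x₀} : Set X₀)}),
      ToType (P.obj U) →+ ULift.{u} (AddCircle (1 : ℚ)) :=
    fun U y => t.comp (P.germ (unop U) (f x₀) (hmem U y)).hom
  let ψ' : P ⟶ Qf.obj :=
    { app := fun U => AddCommGrpCat.ofHom
        { toFun := fun s y => Λ U y s
          map_zero' := funext fun y => map_zero (Λ U y)
          map_add' := fun a b => funext fun y => map_add (Λ U y) a b }
      naturality := fun U U' i => by
        ext s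
        funext y
        change t (P.germ (unop U') (f x₀) _ (P.map i s)) =
          t (P.germ (unop U) (f x₀) _ s)
        rw [TopCat.Presheaf.germ_res_apply'] }
  let ψ : Pf ⟶ Qf := ObjectProperty.homMk ψ'
  obtain ⟨φ, hφ⟩ := (TopCat.Sheaf.pushforward AddCommGrpCat.{u} f).map_surjective ψ
  -- evaluate at the top
  have hx₀top : x₀ ∈ (Opens.map f).obj (⊤ : Opens X) := trivial
  have e1 : (ψ.hom.app (op ⊤)).hom c₁ ⟨x₀, hx₀top, rfl⟩ = t τ := rfl
  have e2 : ψ.hom.app (op ⊤) = φ.hom.app (op ((Opens.map f).obj ⊤)) := by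
    rw [← hφ]; rfl
  -- naturality of `φ` with respect to `W ≤ f⁻¹ ⊤`
  let i : (op ((Opens.map f).obj (⊤ : Opens X))) ⟶ op W := (homOfLE le_top).op
  have hnat := φ.hom.naturality i
  have e3 : (Gz.obj.map i).hom c₁ = 0 := by
    funext y
    exact (y.2.2 y.2.1).elim
  have e4 : (Sk.obj.map i).hom ((φ.hom.app (op ((Opens.map f).obj ⊤))).hom c₁) = 0 := by
    have := congrArg (fun g => g.hom c₁) hnat
    simp only [AddCommGrpCat.hom_comp, AddMonoidHom.coe_comp, Function.comp_apply] at this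
    rw [← this, e3, map_zero]
  have e5 := congrFun e4 ⟨x₀, hx₀W, rfl⟩
  apply htτ
  rw [← e1, e2]
  exact e5


theorem surjective_of_isEquivalence_ab
    [(TopCat.Sheaf.pushforward AddCommGrpCat.{u} f).IsEquivalence] :
    Function.Surjective (fun U : Opens X => (Opens.map f).obj U) := by
  intro W
  let U₀ : Opens X := sSup {U | (Opens.map f).obj U ≤ W}
  have h1 : (Opens.map f).obj U₀ ≤ W := by
    intro x₀ hx₀
    have : f x₀ ∈ U₀ := hx₀
    obtain ⟨U, hU, hxU⟩ := Opens.mem_sSup.mp this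
    exact hU hxU
  refine ⟨U₀, le_antisymm h1 ?_⟩
  intro x₀ hx₀W
  by_contra hx₀
  refine false_of_nbhd f W x₀ hx₀W ?_
  intro U hU
  by_contra hcon
  push Not at hcon
  have h2 : U ≤ U₀ := le_sSup (show (Opens.map f).obj U ≤ W from fun z hz => hcon z hz)
  exact hx₀ (h2 hU)

/-- **Main theorem**: quasi-homeomorphisms are characterised by the pullback functors on
sheaves of sets, resp. abelian groups, being equivalences. -/
theorem tfae :
    [Function.Bijective (fun U : Opens X => (Opens.map f).obj U),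
      (TopCat.Sheaf.pullback (Type u) f).IsEquivalence,
      (TopCat.Sheaf.pullback AddCommGrpCat.{u} f).IsEquivalence].TFAE := by
  tfae_have 1 → 2 := isEquivalence_pullback_type f
  tfae_have 1 → 3 := isEquivalence_pullback_ab f
  tfae_have 2 → 1 := by
    intro h
    haveI := h
    haveI : (TopCat.Sheaf.pushforward (Type u) f).IsEquivalence :=
      (TopCat.Sheaf.pullbackPushforwardAdjunction (Type u) f).isEquivalence_right_of_isEquivalence_left
    exact ⟨injective_of_isEquivalence_type f, surjective_of_isEquivalence_type f⟩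
  tfae_have 3 → 1 := by
    intro h
    haveI := h
    haveI : (TopCat.Sheaf.pushforward AddCommGrpCat.{u} f).IsEquivalence :=
      (TopCat.Sheaf.pullbackPushforwardAdjunction AddCommGrpCat.{u} f).isEquivalence_right_of_isEquivalence_left
    exact ⟨injective_of_isEquivalence_ab f, surjective_of_isEquivalence_ab f⟩
  tfae_finish

end Groth.Agent.Lib.Helper6.QHomeo
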