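import Groth.Prelude
import Mathlib

/-! EGA IV 1.1-1.2: quasi-compactness / quasi-separatedness and surjective base change. -/

open AlgebraicGeometry CategoryTheory CategoryTheory.Limits MorphismProperty

namespace Groth.Agent.Lib.Helper6

universe u



theorem quasiCompact_of_comp_of_surjective {X Y Z : Scheme.{u}} (f : X ⟶ Y) (g : Y ⟶ Z)
    [QuasiCompact (f ≫ g)] [Surjective f] : QuasiCompact g := by
  rw [quasiCompact_iff]
  intro U hU hUc
  have h1 : IsCompact ((f ≫ g).base ⁻¹' U) :=
    (quasiCompact_iff (f ≫ g)).mp inferInstance U hU hUc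
  have h2 : g.base ⁻¹' U = f.base '' ((f ≫ g).base ⁻¹' U) := by
    rw [Scheme.Hom.comp_base, TopCat.coe_comp, Set.preimage_comp,
      Set.image_preimage_eq _ f.surjective]
  rw [h2]
  exact h1.image f.base.hom.continuous




theorem quasiCompact_and_isDominant_descend {X Y Y' : Scheme.{u}} (f : X ⟶ Y)
    (g : Y' ⟶ Y) [Surjective g] :
    (QuasiCompact g → QuasiCompact (pullback.snd f g) → QuasiCompact f) ∧
    (IsDominant (pullback.snd f g) → IsDominant f) := by
  constructor
  · intro hg hf'
    have : QuasiCompact (pullback.fst f g ≫ f) := by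
      rw [pullback.condition]; infer_instance
    exact quasiCompact_of_comp_of_surjective (pullback.fst f g) f
  · intro hf'
    have : IsDominant (pullback.fst f g ≫ f) := by
      rw [pullback.condition]; infer_instance
    exact IsDominant.of_comp (pullback.fst f g) f




/-- Quasi-compactness descends along a quasi-compact surjective base change. -/
theorem quasiCompact_of_isPullback {P X A B : Scheme.{u}} {t : P ⟶ A} {l : P ⟶ X} {r : A ⟶ B}
    {b : X ⟶ B} (h : IsPullback t l r b) [Surjective r] [QuasiCompact r] [QuasiCompact t] :
    QuasiCompact b := by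
  have hl : Surjective l := MorphismProperty.of_isPullback (P := @Surjective) h inferInstance
  have : QuasiCompact (l ≫ b) := by rw [← h.w]; infer_instance
  exact quasiCompact_of_comp_of_surjective l b

theorem quasiSeparated_of_pullback_snd {X Y Y' : Scheme.{u}} (f : X ⟶ Y)
    (g : Y' ⟶ Y) [QuasiCompact g] [Surjective g] [QuasiSeparated (pullback.snd f g)] :
    QuasiSeparated f := by
  have h1 : QuasiSeparated (pullback.fst g f) := by
    have : QuasiSeparated ((pullbackSymmetry g f).hom ≫ pullback.snd f g) := inferInstance
    rwa [pullbackSymmetry_hom_comp_snd] at this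
  have h2 : QuasiCompact (pullback.diagonal (pullback.fst g f)) := h1.1
  rw [diagonal_pullback_fst g f] at h2
  let φ : Over.mk f ⟶ Over.mk (pullback.snd f f ≫ f) := Over.homMk (pullback.diagonal f)
  have h3 : QuasiCompact ((Over.pullback g).map φ).left := by
    have := (MorphismProperty.cancel_left_of_respectsIso @QuasiCompact _ _).mp h2
    exact (MorphismProperty.cancel_right_of_respectsIso @QuasiCompact _ _).mp this
  have sq : IsPullback ((Over.pullback g).map φ).left (pullback.fst f g)
      (pullback.fst (pullback.snd f f ≫ f) g) (pullback.diagonal f) := by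
    refine IsPullback.of_right (h₁₂ := pullback.snd (pullback.snd f f ≫ f) g)
      (h₂₂ := pullback.snd f f ≫ f) (v₁₃ := g) ?_ ?_
      (IsPullback.of_hasPullback (pullback.snd f f ≫ f) g).flip
    · have e1 : ((Over.pullback g).map φ).left ≫ pullback.snd (pullback.snd f f ≫ f) g =
          pullback.snd f g := pullback.lift_snd _ _ _
      have e2 : pullback.diagonal f ≫ pullback.snd f f ≫ f = f := by simp
      rw [e1, e2]
      exact (IsPullback.of_hasPullback f g).flip
    · exact pullback.lift_fst _ _ _
  exact ⟨quasiCompact_of_isPullback sq⟩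


end Groth.Agent.Lib.Helper6
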