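import Mathlib

set_option autoImplicit false
universe u

namespace Groth.Agent.Lib.Helper6.QuotPow

open Cardinal

/-- `dim_k R/(ϖ)^n = n` if `ϖ` is a non-zero-divisor and `dim_k R/(ϖ) = 1` -/
theorem rank_quot_span_pow {k R : Type u} [Field k] [CommRing R] [Algebra k R] (ϖ : R)
    (hϖ : ϖ ∈ nonZeroDivisors R) (h1 : Module.rank k (R ⧸ Ideal.span {ϖ}) = 1) (n : ℕ) :
    Module.rank k (R ⧸ (Ideal.span {ϖ}) ^ n) = n := by
  induction n with
  | zero =>
    rw [pow_zero, Ideal.one_eq_top]
    haveI : Subsingleton (R ⧸ (⊤ : Ideal R)) := Ideal.Quotient.subsingleton_iff.2 rfl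
    simp
  | succ n ih =>
    set I := Ideal.span {ϖ} with hI
    have hle : I ^ (n + 1) ≤ I ^ n := Ideal.pow_le_pow_right (Nat.le_succ n)
    let π : (R ⧸ I ^ (n + 1)) →ₗ[k] (R ⧸ I ^ n) := (Ideal.Quotient.factorₐ k hle).toLinearMap
    have hπs : Function.Surjective π := Ideal.Quotient.factor_surjective hle
    have hkill : I ≤ LinearMap.ker ((Submodule.mkQ (I ^ (n + 1))).comp (LinearMap.mulLeft R (ϖ ^ n))) := by
      intro r hr
      rw [hI, Ideal.mem_span_singleton'] at hr
      obtain ⟨s, rfl⟩ := hr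
      rw [LinearMap.mem_ker, LinearMap.comp_apply, LinearMap.mulLeft_apply, Submodule.mkQ_apply,
        Submodule.Quotient.mk_eq_zero, hI, Ideal.span_singleton_pow, Ideal.mem_span_singleton']
      exact ⟨s, by ring⟩
    let g : (R ⧸ I) →ₗ[k] (R ⧸ I ^ (n + 1)) :=
      (Submodule.liftQ I ((Submodule.mkQ (I ^ (n + 1))).comp (LinearMap.mulLeft R (ϖ ^ n))) hkill).restrictScalars k
    have hg : ∀ r : R, g (Ideal.Quotient.mk I r) = Ideal.Quotient.mk (I ^ (n + 1)) (ϖ ^ n * r) := fun r => rfl
    have hginj : Function.Injective g := by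
      rw [← LinearMap.ker_eq_bot, LinearMap.ker_eq_bot']
      intro x hx
      obtain ⟨r, rfl⟩ := Ideal.Quotient.mk_surjective x
      rw [hg, Ideal.Quotient.eq_zero_iff_mem, hI, Ideal.span_singleton_pow, Ideal.mem_span_singleton'] at hx
      obtain ⟨s, hs⟩ := hx
      rw [Ideal.Quotient.eq_zero_iff_mem, hI, Ideal.mem_span_singleton']
      refine ⟨s, ?_⟩
      have hnz : ϖ ^ n ∈ nonZeroDivisors R := pow_mem hϖ n
      apply (mul_cancel_left_mem_nonZeroDivisors hnz).1
      rw [← hs]
      ring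
    have hrange : LinearMap.range g = LinearMap.ker π := by
      ext x
      obtain ⟨r, rfl⟩ := Ideal.Quotient.mk_surjective x
      constructor
      · rintro ⟨y, hy⟩
        obtain ⟨s, rfl⟩ := Ideal.Quotient.mk_surjective y
        rw [hg] at hy
        rw [← hy, LinearMap.mem_ker]
        change Ideal.Quotient.factor hle (Ideal.Quotient.mk _ (ϖ ^ n * s)) = 0
        rw [Ideal.Quotient.factor_mk, Ideal.Quotient.eq_zero_iff_mem, hI, Ideal.span_singleton_pow,
          Ideal.mem_span_singleton']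
        exact ⟨s, by ring⟩
      · intro hx
        rw [LinearMap.mem_ker] at hx
        change Ideal.Quotient.factor hle (Ideal.Quotient.mk _ r) = 0 at hx
        rw [Ideal.Quotient.factor_mk, Ideal.Quotient.eq_zero_iff_mem, hI, Ideal.span_singleton_pow,
          Ideal.mem_span_singleton'] at hx
        obtain ⟨s, hs⟩ := hx
        refine ⟨Ideal.Quotient.mk I s, ?_⟩
        rw [hg, ← hs]
        congr 1
        ring
    have h2 := LinearMap.rank_range_add_rank_ker π
    rw [LinearMap.range_eq_top.2 hπs, rank_top, ih, ← hrange,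
      (LinearEquiv.ofInjective g hginj).symm.rank_eq, h1] at h2
    rw [← h2]
    push_cast
    rfl

/-- `dim_k R/𝔪^n = n` for a discrete valuation ring `R` over `k` with residue field `k` -/
theorem rank_quot_maximalIdeal_pow {k R : Type u} [Field k] [CommRing R] [IsDomain R]
    [IsDiscreteValuationRing R] [Algebra k R]
    (hs : Function.Surjective ((Ideal.Quotient.mk (IsLocalRing.maximalIdeal R)).comp (algebraMap k R)))
    (n : ℕ) :
    Module.rank k (R ⧸ IsLocalRing.maximalIdeal R ^ n) = n := by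
  obtain ⟨ϖ, hϖ⟩ := IsDiscreteValuationRing.exists_irreducible R
  have hmax : IsLocalRing.maximalIdeal R = Ideal.span {ϖ} := hϖ.maximalIdeal_eq
  rw [hmax] at hs ⊢
  refine rank_quot_span_pow ϖ (mem_nonZeroDivisors_of_ne_zero hϖ.ne_zero) ?_ n
  have hne : Ideal.span {ϖ} ≠ (⊤ : Ideal R) := by
    rw [← hmax]
    exact (IsLocalRing.maximalIdeal.isMaximal R).ne_top
  haveI : Nontrivial (R ⧸ Ideal.span {ϖ}) := Ideal.Quotient.nontrivial_iff.2 hne
  have hbij : Function.Bijective (Algebra.linearMap k (R ⧸ Ideal.span {ϖ})) :=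
    ⟨(algebraMap k (R ⧸ Ideal.span {ϖ})).injective, hs⟩
  rw [← (LinearEquiv.ofBijective _ hbij).rank_eq]
  exact Module.rank_self k

/-- two quotients of a ring by the same ideal have the same dimension over a common coefficient field -/
theorem rank_eq_of_surjective_of_ker_eq {k A B B' : Type u} [Field k] [CommRing A] [CommRing B]
    [CommRing B'] [Algebra k B] [Algebra k B'] (α : k →+* A) (φ : A →+* B) (ψ : A →+* B')
    (hφ : Function.Surjective φ) (hψ : Function.Surjective ψ) (hker : RingHom.ker φ = RingHom.ker ψ)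
    (hφα : ∀ c, φ (α c) = algebraMap k B c) (hψα : ∀ c, ψ (α c) = algebraMap k B' c) :
    Module.rank k B = Module.rank k B' := by
  let e : B ≃+* B' := (RingHom.quotientKerEquivOfSurjective hφ).symm.trans
    ((Ideal.quotEquivOfEq hker).trans (RingHom.quotientKerEquivOfSurjective hψ))
  have he : ∀ a : A, e (φ a) = ψ a := by
    intro a
    change (RingHom.quotientKerEquivOfSurjective hψ) ((Ideal.quotEquivOfEq hker)
      ((RingHom.quotientKerEquivOfSurjective hφ).symm (φ a))) = ψ a
    have h1 : (RingHom.quotientKerEquivOfSurjective hφ).symm (φ a) = Ideal.Quotient.mk _ a := by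
      rw [RingEquiv.symm_apply_eq]
      rfl
    rw [h1]
    rfl
  let E : B ≃ₐ[k] B' := AlgEquiv.ofRingEquiv (f := e) (fun c => by rw [← hφα, he, hψα])
  exact E.toLinearEquiv.rank_eq

end Groth.Agent.Lib.Helper6.QuotPow
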