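import Mathlib.AlgebraicGeometry.Birational.RationalMap

open AlgebraicGeometry CategoryTheory TopologicalSpace Limits

universe u

namespace Groth.Agent.Lib.Helper6

set_option backward.isDefEq.respectTransparency false in
theorem exists_largest_partialMap_over
    (S X Y : Scheme.{u}) [X.Over S] [Y.Over S] [IsReduced X] [IsSeparated (Y ↘ S)]
    (f : X ⤏ Y) [f.IsOver S] :
    ∃ g : X.PartialMap Y, g.IsOver S ∧ g.toRationalMap = f ∧
      ∀ h : X.PartialMap Y, h.IsOver S → h.toRationalMap = f →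
        ∃ hle : h.domain ≤ g.domain, h = g.restrict h.domain h.dense_domain hle := by
  classical
  let J := {g : X.PartialMap Y // g.IsOver S ∧ g.toRationalMap = f}
  obtain ⟨g₀, hg₀S, hg₀⟩ := f.exists_partialMap_over S
  let j₀ : J := ⟨g₀, hg₀S, hg₀⟩
  let U : J → X.Opens := fun g => g.1.domain
  have hD : Dense ((⨆ g, U g : X.Opens) : Set X) := g₀.dense_domain.mono (le_iSup U j₀)
  let 𝒰 := Scheme.Opens.iSupOpenCover U
  -- compatibility
  have hcompat : ∀ x y : J, pullback.fst (𝒰.f x) (𝒰.f y) ≫ x.1.hom =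
      pullback.snd (𝒰.f x) (𝒰.f y) ≫ y.1.hom := by
    intro x y
    refine (cancel_epi (isPullback_opens_inf_le (le_iSup U x) (le_iSup U y)).isoPullback.hom).mp ?_
    have hx : x.1.IsOver S := x.2.1
    have hy : y.1.IsOver S := y.2.1
    have := (Scheme.PartialMap.equiv_iff_of_isSeparated (S := S) (f := x.1) (g := y.1)).mp
      (by rw [← Scheme.PartialMap.toRationalMap_eq_iff, x.2.2, y.2.2])
    simp only [Scheme.PartialMap.restrict_hom] at this
    simpa [𝒰, Scheme.Opens.iSupOpenCover] using this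
  let G : (⨆ g, U g : X.Opens).toScheme ⟶ Y := 𝒰.glueMorphisms (fun x => x.1.hom) hcompat
  have hG : ∀ x : J, X.homOfLE (le_iSup U x) ≫ G = x.1.hom := fun x => 𝒰.ι_glueMorphisms _ _ x
  let g : X.PartialMap Y := ⟨⨆ g, U g, hD, G⟩
  have hgS : g.IsOver S := by
    constructor
    apply 𝒰.hom_ext
    intro (x : J)
    have hx : x.1.IsOver S := x.2.1
    change X.homOfLE (le_iSup U x) ≫ G ≫ (Y ↘ S) = X.homOfLE (le_iSup U x) ≫ _
    rw [← Category.assoc, hG x]
    have h1 : x.1.hom ≫ (Y ↘ S) = (x.1.domain.toScheme ↘ S) := hx.comp_over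
    rw [h1]
    rw [← Scheme.Opens.ι_comp_over, ← Scheme.Opens.ι_comp_over, ← Category.assoc,
      Scheme.homOfLE_ι]
  have hg₀le : g₀.domain ≤ g.domain := le_iSup U j₀
  have hgf : g.toRationalMap = f := by
    rw [← hg₀, ← g.restrict_toRationalMap g₀.domain g₀.dense_domain hg₀le]
    congr 1
    exact Scheme.PartialMap.ext _ _ rfl (by simpa using hG j₀)
  refine ⟨g, hgS, hgf, ?_⟩
  intro h hhS hhf
  let jh : J := ⟨h, hhS, hhf⟩
  have hle : h.domain ≤ g.domain := le_iSup U jh
  refine ⟨hle, ?_⟩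
  exact Scheme.PartialMap.ext _ _ rfl (by simpa using (hG jh).symm)

end Groth.Agent.Lib.Helper6
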