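import Groth.Agent.Lib.Helper6GG2g
import Groth.Agent.Lib.Helper6H0OneSing
import Groth.Agent.Lib.Helper4RatPoint
import Groth.Agent.Lib.Helper4NormPt
import Groth.Agent.Lib.Helper4P1SepCl
import Groth.Agent.Lib.Helper23LocGen

/-!
# Twisting invertible modules on curves at rational points, over any field (helper6): S19880, S14341
-/

set_option autoImplicit false
set_option linter.style.haveILetI false
universe u
open CategoryTheory Limits AlgebraicGeometry Opposite TopologicalSpace

namespace Groth.Agent.Lib.Helper6.RatTwist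

open Groth.Agent.Lib.Helper4.Dev Groth.Agent.Lib.Helper27GlobGenPn
  Groth.Agent.Lib.Helper21.ExtCartier Groth.Agent.Lib.Helper4.CurveAsym Groth.Agent.Lib.Helper4.CurveGrd

section Twist

variable (k : Type u) [Field k] (X : Scheme.{u}) [X.Over (Spec (CommRingCat.of k))]
  [IsProper (X ↘ (Spec (CommRingCat.of k)))] [IsIntegral X]

/-- twisting an invertible module by the ideal of a closed point `p` with principal local ring and
`h⁰(O/I_p) = 1`: the twist is invertible, `χ` drops by one, and `h⁰` drops by one as soon as some section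
generates the stalk at `p` -/
theorem twist_point (hdim : topologicalKrullDim X = 1)
    (p : X) (hp : IsClosed ({p} : Set X)) (hpid : IsPrincipalIdealRing (X.presheaf.stalk p))
    (h0 : Module.finrank k (Coh.HH X (ClSub.quotMod
      (Scheme.IdealSheafData.vanishingIdeal (⟨{p}, hp⟩ : Closeds X))) 0) = 1)
    (N : X.Modules) (hNinv : PicF.IsInvertible N) :
    PicF.IsInvertible (CohB1.tensorMod (ClSub.idealMod (Scheme.IdealSheafData.vanishingIdeal ⟨{p}, hp⟩)) N) ∧
    Curv2.euler k X (CohB1.tensorMod (ClSub.idealMod (Scheme.IdealSheafData.vanishingIdeal ⟨{p}, hp⟩)) N) =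
      Curv2.euler k X N - 1 ∧
    ((∃ s : Coh.structureModule X ⟶ N, Function.Surjective (stalkL s p)) →
      Module.finrank k (Coh.HH X (CohB1.tensorMod (ClSub.idealMod
        (Scheme.IdealSheafData.vanishingIdeal ⟨{p}, hp⟩)) N) 0) + 1 = Module.finrank k (Coh.HH X N 0)) := by
  haveI : IsLocallyNoetherian X := LocallyOfFiniteType.isLocallyNoetherian (X ↘ (Spec (CommRingCat.of k)))
  haveI : AlgebraicGeometry.IsNoetherian X := Groth.Agent.Lib.Helper4.CurveRR.isNoetherian_of_proper k X
  have hN : FlatMod.IsFinLocFreeOfRank 1 N :=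
    Groth.Agent.Lib.Helper23.SecTw.isFinLocFreeOfRank_one_of_isInvertible _ hNinv
  set D := Scheme.IdealSheafData.vanishingIdeal (⟨{p}, hp⟩ : Closeds X) with hD
  have hr : Set.range D.subschemeι ⊆ {p} := (Groth.Agent.Lib.Helper4.CurvePt.range_ptIdeal p hp).le
  have hIinv := Groth.Agent.Lib.Helper4.NormPt.isInvertible_idealMod_local k X hdim D p hr hpid
  have hZ : topologicalKrullDim (D.support : Set X) ≤ 0 := by
    rw [hD, Scheme.IdealSheafData.coe_support_vanishingIdeal]
    change topologicalKrullDim (({p} : Set X)) ≤ 0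
    haveI : Subsingleton (({p} : Set X)) := (Set.uniqueSingleton p).instSubsingleton
    exact topologicalKrullDim_zero_of_discreteTopology _
  have hχ := Groth.Agent.Lib.Helper4.CurveSpecial.euler_idealMod_tensor k X N hNinv D hZ
  rw [h0] at hχ
  refine ⟨Groth.Agent.Lib.Helper23.SecTw.isInvertible_tensorMod hIinv hNinv, by rw [hχ]; norm_num, ?_⟩
  rintro ⟨s, hs⟩
  have hS := Groth.Agent.Lib.Helper27SerreVan.shortExact_tw N hNinv (idealSES D) (idealSES_shortExact D)
  set S := (idealSES D).map (Groth.Agent.Lib.Helper27SerreVan.tw N) with hSdef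
  haveI hmono : Mono S.f := hS.mono_f
  haveI hepi : Epi S.g := hS.epi_g
  let u := Groth.Agent.Lib.Helper23.TensorUnit.unitTensorIso N
  have cQ := Groth.Agent.Lib.Helper4.CurvePt.isCoh_quotMod k X D
  have cO := isCoh_structureModule X
  have cON : Coh.IsCoh (CohB1.tensorMod (Coh.structureModule X) N) :=
    Groth.Agent.Lib.Helper4.CurveChi.isCoh_tensorMod_locFree _ N cO 1 hN
  have cQN : Coh.IsCoh (CohB1.tensorMod (ClSub.quotMod D) N) :=
    Groth.Agent.Lib.Helper4.CurveChi.isCoh_tensorMod_locFree _ N cQ 1 hN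
  have hsuppQ := Groth.Agent.Lib.Helper4.CurveSpecial.dim_support_quotMod_le X D hZ
  have hsuppQN : topologicalKrullDim (CohB1.support (CohB1.tensorMod (ClSub.quotMod D) N)) ≤ 0 :=
    (Topology.IsEmbedding.inclusion
      (Groth.Agent.Lib.Helper4.ZeroDimChi.support_tensorMod_subset_left _ N)).isInducing.topologicalKrullDim_le.trans
      hsuppQ
  -- `h⁰((O/I_p) ⊗ N) = 1`
  have h3 : Module.finrank k (Coh.structureModule X ⟶ S.X₃) = 1 := by
    have e1 := Groth.Agent.Lib.Helper4.ZeroDimChi.euler_tensor_locFree k (ClSub.quotMod D) cQ hsuppQ 1 N hN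
    have e2 := Groth.Agent.Lib.Helper4.CurvePt.h0_eq_euler_of_dim_le_zero k X (ClSub.quotMod D) cQ hsuppQ
    have e3 := Groth.Agent.Lib.Helper4.CurvePt.h0_eq_euler_of_dim_le_zero k X _ cQN hsuppQN
    rw [finrank_hom_eq k]
    change Module.finrank k (Coh.HH X (CohB1.tensorMod (ClSub.quotMod D) N) 0) = 1
    rw [e1, e2, h0] at e3
    exact_mod_cast e3.symm
  haveI : Module.Finite k (Coh.HH X (CohB1.tensorMod (Coh.structureModule X) N) 0) :=
    Groth.Agent.S0002.result k X _ cON 0
  haveI : Module.Finite k (Coh.structureModule X ⟶ S.X₂) :=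
    Module.Finite.equiv (homH0Equiv k (CohB1.tensorMod (Coh.structureModule X) N)).symm
  obtain ⟨hstep1, -⟩ := Groth.Agent.Lib.Helper6.H0One.h0_step k S hS h3
  have e1 : Module.finrank k (Coh.structureModule X ⟶ S.X₂) = Module.finrank k (Coh.HH X N 0) := by
    rw [finrank_hom_eq k]
    exact (Groth.Agent.Lib.Helper4.CurveChi.HHequiv k u 0).finrank_eq
  have e2 : Module.finrank k (Coh.structureModule X ⟶ S.X₁) =
      Module.finrank k (Coh.HH X (CohB1.tensorMod (ClSub.idealMod D) N) 0) := finrank_hom_eq k _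
  rw [e1, e2] at hstep1
  apply hstep1
  refine ⟨s ≫ u.inv, fun hz => ?_⟩
  -- then `s` factors through `I_p ⊗ N`, so `S.f` is surjective at `p`, so `(O/I_p) ⊗ N` vanishes
  have hlift : hS.exact.lift (s ≫ u.inv) hz ≫ S.f = s ≫ u.inv := hS.exact.lift_f _ _
  have hsurjf : Function.Surjective (stalkL S.f p) := by
    intro z
    obtain ⟨w, hw⟩ := hs (stalkL u.hom p z)
    refine ⟨stalkL (hS.exact.lift (s ≫ u.inv) hz) p w, ?_⟩
    have h1 : stalkL S.f p (stalkL (hS.exact.lift (s ≫ u.inv) hz) p w) =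
        stalkL (hS.exact.lift (s ≫ u.inv) hz ≫ S.f) p w := (stalkL_comp_apply _ _ p w).symm
    have h2 : stalkL (s ≫ u.inv) p w = stalkL u.inv p (stalkL s p w) := stalkL_comp_apply s u.inv p w
    have h3' : stalkL u.inv p (stalkL u.hom p z) = z := by
      rw [← stalkL_comp_apply, Iso.hom_inv_id, stalkL_id]
      rfl
    exact h1.trans ((congrArg (fun φ : Coh.structureModule X ⟶ S.X₂ => stalkL φ p w) hlift).trans
      (h2.trans ((congrArg (stalkL u.inv p) hw).trans h3')))
  have hsub : Subsingleton (S.X₃.presheaf.stalk p) := by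
    have key : ∀ z : S.X₃.presheaf.stalk p, z = 0 := by
      intro z
      obtain ⟨y, rfl⟩ := stalkL_surjective_of_epi S.g p z
      obtain ⟨w, rfl⟩ := hsurjf y
      rw [← stalkL_comp_apply, S.zero, stalkL_zero]
      rfl
    exact ⟨fun a b => by rw [key a, key b]⟩
  have hemp : CohB1.support (CohB1.tensorMod (ClSub.quotMod D) N) = ∅ := by
    apply Set.eq_empty_of_forall_notMem
    intro x hx
    by_cases hxp : x = p
    · subst hxp; exact hx hsub
    · exact hx (Groth.Agent.Lib.Helper6.GG2g.subsingleton_stalk_quotMod_tensor p hp N x hxp)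
  have hZ0 := isZero_of_support_eq_empty _ hemp
  haveI : Subsingleton (Coh.structureModule X ⟶ S.X₃) := ⟨fun a b => hZ0.eq_of_tgt a b⟩
  rw [Module.finrank_zero_of_subsingleton] at h3
  exact zero_ne_one h3

end Twist


section RatPt

open Groth.Agent.Lib.Helper4.RatPoint

variable (k : Type u) [Field k] (X : Scheme.{u}) [X.Over (Spec (CommRingCat.of k))]
  [IsProper (X ↘ (Spec (CommRingCat.of k)))]

/-- the kernel of a rational point is the reduced ideal of its image point -/
theorem ker_eq_vanishingIdeal (x : Spec (CommRingCat.of k) ⟶ X)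
    (hx : x ≫ (X ↘ (Spec (CommRingCat.of k))) = 𝟙 _) :
    x.ker = Scheme.IdealSheafData.vanishingIdeal ⟨{pt k X x}, isClosed_pt k X x hx⟩ := by
  haveI := isClosedImmersion_of_section k X x hx
  have hsupp : x.ker.support = (⟨{pt k X x}, isClosed_pt k X x hx⟩ : Closeds X) := by
    apply Closeds.ext
    rw [Scheme.Hom.support_ker, range_eq, (isClosed_pt k X x hx).closure_eq]
    rfl
  apply le_antisymm
  · rw [← Scheme.IdealSheafData.le_support_iff_le_vanishingIdeal, hsupp]
  · rw [← hsupp, Scheme.IdealSheafData.vanishingIdeal_support, Scheme.IdealSheafData.le_def]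
    intro U
    rw [Scheme.IdealSheafData.radical_ideal, Scheme.Hom.ker_apply]
    intro a ha
    obtain ⟨n, hn⟩ := ha
    rw [RingHom.mem_ker, map_pow] at hn
    rw [RingHom.mem_ker]
    exact IsReduced.eq_zero _ ⟨n, hn⟩

end RatPt


section SepCl

open Groth.Agent.Lib.Helper4.RatPoint

variable (k : Type u) [Field k] (X : Scheme.{u}) [X.Over (Spec (CommRingCat.of k))]
  [IsProper (X ↘ (Spec (CommRingCat.of k)))] [IsIntegral X]

omit [IsProper (X ↘ (Spec (CommRingCat.of k)))] in
/-- over a separably closed field, a nonzero section of an invertible module on a smooth curve generates the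
stalk at some rational point -/
theorem exists_ratPoint_stalk_surjective [IsSepClosed k] [Smooth (X ↘ (Spec (CommRingCat.of k)))]
    (N : X.Modules) (hN : PicF.IsInvertible N) (s : Coh.structureModule X ⟶ N) (hs : s ≠ 0) :
    ∃ x : Spec (CommRingCat.of k) ⟶ X, x ≫ (X ↘ (Spec (CommRingCat.of k))) = 𝟙 _ ∧
      Function.Surjective (stalkL s (pt k X x)) := by
  haveI : IsLocallyNoetherian X := LocallyOfFiniteType.isLocallyNoetherian (X ↘ (Spec (CommRingCat.of k)))
  have hO := Groth.Agent.Lib.Helper23.TensorUnit.isInvertible_structureModule X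
  haveI : Mono s := Groth.Agent.Lib.Helper6.CurveDeg.mono_of_ne_zero hO hN s hs
  have hgen := Groth.Agent.Lib.Helper6.CurveDeg.subsingleton_stalk_cokernel hO hN s hs
  have cO := isCoh_structureModule X
  have cN := Groth.Agent.Lib.Helper6.CurveDeg.isCoh_of_isInvertible N hN
  have cC : Coh.IsCoh (cokernel s) := isCoh_cokernel s cO cN
  have hcl : IsClosed (CohB1.support (cokernel s)) := Groth.Agent.S0020.result X _ cC.2
  let U : X.Opens := ⟨(CohB1.support (cokernel s))ᶜ, hcl.isOpen_compl⟩
  have hηU : genericPoint X ∈ U := fun h => h hgen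
  haveI : Smooth (Over.mk (X ↘ (Spec (CommRingCat.of k)))).hom :=
    inferInstanceAs (Smooth (X ↘ (Spec (CommRingCat.of k))))
  obtain ⟨p, hpU⟩ := Groth.Agent.Lib.Helper11SepPts.exists_point_mem_open k k
    (X := Over.mk (X ↘ (Spec (CommRingCat.of k)))) U (genericPoint X) hηU
  have hp : p.left ≫ (X ↘ (Spec (CommRingCat.of k))) =
      Spec.map (CommRingCat.ofHom (algebraMap k k)) := Over.w p
  refine ⟨p.left, ?_, ?_⟩
  · rw [hp]
    have : CommRingCat.ofHom (algebraMap k k) = 𝟙 (CommRingCat.of k) := rfl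
    rw [this, Spec.map_id]
  · apply stalkL_surjective_of_subsingleton_cokernel s
    exact not_not.1 hpU

end SepCl


section H0

open Groth.Agent.Lib.Helper6.H0Const

variable (k : Type u) [Field k] (X : Scheme.{u}) [X.Over (Spec (CommRingCat.of k))]
  [IsProper (X ↘ (Spec (CommRingCat.of k)))] [IsIntegral X]

/-- an integral proper `k`-scheme with a `k`-point has `H⁰(O) = k` -/
theorem finrank_hh0_eq_one_of_section (x : Spec (CommRingCat.of k) ⟶ X)
    (hx : x ≫ (X ↘ (Spec (CommRingCat.of k))) = 𝟙 _) :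
    Module.finrank k (Coh.HH X (Coh.structureModule X) 0) = 1 := by
  rw [finrank_hh0]
  letI alg : Algebra k Γ(X, ⊤) := (gsMap k (X ↘ Spec (CommRingCat.of k))).hom.toAlgebra
  haveI : Algebra.IsIntegral k Γ(X, ⊤) := ⟨gsMap_isIntegral k (X ↘ Spec (CommRingCat.of k))⟩
  haveI : IsDomain Γ(X, ⊤) := inferInstance
  have hF : IsField Γ(X, ⊤) := isField_of_isIntegral_of_isField' (R := k) (Field.toIsField k)
  letI := hF.toField
  let ev : Γ(X, ⊤) ⟶ CommRingCat.of k := x.appTop ≫ (Scheme.ΓSpecIso (CommRingCat.of k)).hom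
  have hev : gsMap k (X ↘ Spec (CommRingCat.of k)) ≫ ev = 𝟙 _ := by
    unfold gsMap
    change ((Scheme.ΓSpecIso (CommRingCat.of k)).inv ≫ (X ↘ Spec (CommRingCat.of k)).appTop) ≫
      x.appTop ≫ (Scheme.ΓSpecIso (CommRingCat.of k)).hom = 𝟙 _
    rw [Category.assoc, ← Category.assoc (X ↘ Spec (CommRingCat.of k)).appTop, ← Scheme.Hom.comp_appTop, hx]
    simp
  have hev' : ∀ c : k, ev.hom (algebraMap k Γ(X, ⊤) c) = c := fun c => by
    have := congrArg (fun f => f.hom c) hev
    exact this
  have hinj : Function.Injective ev.hom := ev.hom.injective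
  have hsurj : Function.Surjective (algebraMap k Γ(X, ⊤)) := by
    intro a
    refine ⟨ev.hom a, ?_⟩
    apply hinj
    rw [hev']
  have hbij : Function.Bijective (Algebra.linearMap k Γ(X, ⊤)) :=
    ⟨(algebraMap k Γ(X, ⊤)).injective, hsurj⟩
  rw [← (LinearEquiv.ofBijective _ hbij).finrank_eq]
  exact Module.finrank_self k

end H0


section S19880

open Groth.Agent.Lib.Helper4.RatPoint

variable (k : Type u) [Field k] [IsSepClosed k] (C : Scheme.{u}) [C.Over (Spec (CommRingCat.of k))]
  [IsProper (C ↘ (Spec (CommRingCat.of k)))] [Smooth (C ↘ (Spec (CommRingCat.of k)))] [IsIntegral C]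

/-- one step: a rational point at which `h⁰` drops by exactly one -/
theorem step (hdim : topologicalKrullDim C = 1) (M : C.Modules) (hM : PicF.IsInvertible M)
    (h : 0 < Module.finrank k (Coh.HH C M 0)) :
    ∃ x : Spec (CommRingCat.of k) ⟶ C, x ≫ (C ↘ (Spec (CommRingCat.of k))) = 𝟙 _ ∧
      PicF.IsInvertible (ClSub.idealMod x.ker) ∧
      Module.finrank k (Coh.HH C (CohB1.tensorMod (ClSub.idealMod x.ker) M) 0) + 1 =
        Module.finrank k (Coh.HH C M 0) := by
  obtain ⟨s, hs⟩ := Groth.Agent.Lib.Helper4.CurveRR.exists_hom_ne_zero k C M h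
  obtain ⟨x, hx, hsurj⟩ := exists_ratPoint_stalk_surjective k C M hM s hs
  have hpid := Groth.Agent.Lib.Helper4.CurveBun.pidStalks_of_smooth k C (C ↘ (Spec (CommRingCat.of k))) hdim.le
  have hker := ker_eq_vanishingIdeal k C x hx
  have h0 := (quotMod_ratPoint k C x hx).1
  rw [hker] at h0
  obtain ⟨-, -, h3⟩ := twist_point k C hdim (pt k C x) (isClosed_pt k C x hx) (hpid _) h0 M hM
  have hr : Set.range x.ker.subschemeι ⊆ {pt k C x} := (range_subschemeι_ker k C x hx).le
  refine ⟨x, hx, Groth.Agent.Lib.Helper4.NormPt.isInvertible_idealMod_local k C hdim x.ker (pt k C x) hr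
    (hpid _), ?_⟩
  rw [hker]
  exact h3 ⟨s, hsurj⟩

omit [IsSepClosed k] [IsProper (C ↘ Spec (CommRingCat.of k))] [Smooth (C ↘ Spec (CommRingCat.of k))]
  [IsIntegral C] in
/-- `h⁰(L ⊗ (I ⊗ T)) = h⁰(I ⊗ (L ⊗ T))` -/
theorem finrank_swap (L I T : C.Modules) :
    Module.finrank k (Coh.HH C (CohB1.tensorMod L (CohB1.tensorMod I T)) 0) =
      Module.finrank k (Coh.HH C (CohB1.tensorMod I (CohB1.tensorMod L T)) 0) := by
  have e1 := (Groth.Agent.Lib.Helper4.CurveChi.HHequiv k
    (Groth.Agent.Lib.Helper23.LocGen.tensorAssoc L I T) 0).finrank_eq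
  have e3 := (Groth.Agent.Lib.Helper4.CurveChi.HHequiv k
    (Groth.Agent.Lib.Helper23.LocGen.tensorAssoc I L T) 0).finrank_eq
  let b : CohB1.tensorMod (CohB1.tensorMod L I) T ≅ CohB1.tensorMod (CohB1.tensorMod I L) T :=
    { hom := wl (Groth.Agent.Lib.Helper23.AmpleFam2.tensorBraid L I).hom T
      inv := wl (Groth.Agent.Lib.Helper23.AmpleFam2.tensorBraid L I).inv T
      hom_inv_id := by rw [← wl_comp, Iso.hom_inv_id, wl_id]
      inv_hom_id := by rw [← wl_comp, Iso.inv_hom_id, wl_id] }
  have e2 := (Groth.Agent.Lib.Helper4.CurveChi.HHequiv k b 0).finrank_eq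
  rw [← e1, e2, e3]

/-- **S19880** -/
theorem main (hdim : topologicalKrullDim C = 1) (g : ℕ) (hg : Curv2.genus k C = g)
    (σ₀ : Spec (CommRingCat.of k) ⟶ C) (hσ₀ : σ₀ ≫ (C ↘ Spec (CommRingCat.of k)) = 𝟙 _)
    (r : ℕ) (hr : 2 * g < r)
    (L : C.Modules) (hL : PicF.IsInvertible L) (hLdeg : Curv2.deg k C L 1 = (r : ℤ)) :
    ∃ σ : Fin (r - g) → (Spec (CommRingCat.of k) ⟶ C),
      (∀ t, σ t ≫ (C ↘ Spec (CommRingCat.of k)) = 𝟙 _) ∧
      Module.finrank k (Coh.HH C (CohB1.tensorMod L (FGA.tensorList (List.ofFn fun t : Fin (r - g) =>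
        ClSub.idealMod (σ t).ker))) 0) = 1 := by
  have hO1 := finrank_hh0_eq_one_of_section k C σ₀ hσ₀
  have cL := Groth.Agent.Lib.Helper6.CurveDeg.isCoh_of_isInvertible L hL
  -- `h⁰(L) = r + 1 - g`
  have hH1 : Subsingleton (Coh.HH C L 1) := by
    by_contra hns
    rw [not_subsingleton_iff_nontrivial] at hns
    have := Groth.Agent.Lib.Helper4.CurveSpecial.deg_le_of_H1_nontrivial k C hdim L hL hns
    rw [hLdeg, hg, hO1] at this
    push_cast at this
    have h2 : (2 * (g : ℤ)) < r := by exact_mod_cast hr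
    linarith
  have hχL := Groth.Agent.Lib.Helper4.CurveRR.euler_eq_h0_sub_h1 k C hdim.le L cL
  have hχO := Groth.Agent.Lib.Helper4.CurveSpecial.euler_structureModule k C hdim
  rw [Module.finrank_zero_of_subsingleton (M := Coh.HH C L 1)] at hχL
  have hh0L : (Module.finrank k (Coh.HH C L 0) : ℤ) = r + 1 - g := by
    unfold Curv2.deg at hLdeg
    rw [hχO, hO1, hg] at hLdeg
    push_cast at hLdeg hχL
    linarith
  -- induction
  have key : ∀ n : ℕ, n ≤ r - g → ∃ σ : Fin n → (Spec (CommRingCat.of k) ⟶ C),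
      (∀ t, σ t ≫ (C ↘ Spec (CommRingCat.of k)) = 𝟙 _) ∧
      PicF.IsInvertible (FGA.tensorList (List.ofFn fun t : Fin n => ClSub.idealMod (σ t).ker)) ∧
      (Module.finrank k (Coh.HH C (CohB1.tensorMod L (FGA.tensorList (List.ofFn fun t : Fin n =>
        ClSub.idealMod (σ t).ker))) 0) : ℤ) + n = r + 1 - g := by
    intro n
    induction n with
    | zero =>
      intro _
      refine ⟨fun t => t.elim0, fun t => t.elim0, ?_, ?_⟩
      · rw [List.ofFn_zero]
        exact Groth.Agent.Lib.Helper23.TensorUnit.isInvertible_structureModule C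
      · rw [List.ofFn_zero]
        change (Module.finrank k (Coh.HH C (CohB1.tensorMod L (Coh.structureModule C)) 0) : ℤ) + (0 : ℕ) = _
        rw [(Groth.Agent.Lib.Helper4.CurveChi.HHequiv k
          (Groth.Agent.Lib.Helper23.TensorUnit.tensorUnitIso L) 0).finrank_eq, hh0L]
        push_cast
        ring
    | succ n ih =>
      intro hn
      obtain ⟨σ, hσ, hT, hcount⟩ := ih (by omega)
      set T := FGA.tensorList (List.ofFn fun t : Fin n => ClSub.idealMod (σ t).ker) with hTdef
      have hM : PicF.IsInvertible (CohB1.tensorMod L T) :=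
        Groth.Agent.Lib.Helper23.SecTw.isInvertible_tensorMod hL hT
      have hpos : 0 < Module.finrank k (Coh.HH C (CohB1.tensorMod L T) 0) := by
        have h1 : (n : ℤ) + 1 ≤ (r - g : ℕ) := by exact_mod_cast hn
        have h2 : ((r - g : ℕ) : ℤ) = r - g := by
          rw [Nat.cast_sub (by omega)]
        have : (0 : ℤ) < Module.finrank k (Coh.HH C (CohB1.tensorMod L T) 0) := by linarith
        exact_mod_cast this
      obtain ⟨x, hx, hIx, hdrop⟩ := step k C hdim _ hM hpos
      refine ⟨Fin.cons x σ, ?_, ?_, ?_⟩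
      · intro t
        refine Fin.cases ?_ (fun i => ?_) t
        · rw [Fin.cons_zero]; exact hx
        · rw [Fin.cons_succ]; exact hσ i
      · rw [List.ofFn_succ]
        simp only [Fin.cons_zero, Fin.cons_succ]
        exact Groth.Agent.Lib.Helper23.SecTw.isInvertible_tensorMod hIx hT
      · rw [List.ofFn_succ]
        change (Module.finrank k (Coh.HH C (CohB1.tensorMod L
          (CohB1.tensorMod (ClSub.idealMod x.ker) T)) 0) : ℤ) + ((n + 1 : ℕ) : ℤ) = _
        rw [finrank_swap k C L (ClSub.idealMod x.ker) T]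
        have : (Module.finrank k (Coh.HH C (CohB1.tensorMod (ClSub.idealMod x.ker)
            (CohB1.tensorMod L T)) 0) : ℤ) + 1 = Module.finrank k (Coh.HH C (CohB1.tensorMod L T) 0) := by
          exact_mod_cast hdrop
        push_cast
        linarith
  obtain ⟨σ, hσ, -, hcount⟩ := key (r - g) le_rfl
  refine ⟨σ, hσ, ?_⟩
  have h2 : ((r - g : ℕ) : ℤ) = r - g := by rw [Nat.cast_sub (by omega)]
  rw [h2] at hcount
  have : (Module.finrank k (Coh.HH C (CohB1.tensorMod L (FGA.tensorList (List.ofFn fun t : Fin (r - g) =>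
      ClSub.idealMod (σ t).ker))) 0) : ℤ) = 1 := by linarith
  exact_mod_cast this

end S19880

end Groth.Agent.Lib.Helper6.RatTwist
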