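import Mathlib
import Groth.Agent.Lib.Helper6GeomRedGen2
import Groth.Agent.Lib.Helper14GeomRed

set_option autoImplicit false
universe u
open TensorProduct

namespace Groth.Agent.Lib.Helper6.RedModP

open Groth.Agent.Lib.Helper6.GeomRedGen

/-- Over a perfect field, a reduced algebra stays reduced after any field extension. -/
theorem isReduced_tensor_of_perfectField {K₀ C : Type u} [Field K₀] [PerfectField K₀] [CommRing C]
    [Algebra K₀ C] [IsReduced C] (K : Type u) [Field K] [Algebra K₀ K] :
    IsReduced (K ⊗[K₀] C) := by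
  haveI : Algebra.IsSeparable K₀ (AlgebraicClosure K₀) :=
    Algebra.IsAlgebraic.isSeparable_of_perfectField
  haveI : IsReduced (AlgebraicClosure K₀ ⊗[K₀] C) :=
    Groth.Agent.Lib.Helper14.GeomRed.isReduced_tensor_of_isSeparable
  haveI : Algebra.IsGeometricallyReduced K₀ C :=
    (Algebra.isGeometricallyReduced_field_iff K₀ C).mpr inferInstance
  exact Groth.Agent.Lib.Helper14.GeomRed.isReduced_tensor_of_isGeometricallyReduced K

/-- Spreading out reducedness: `A` a domain with perfect fraction field, `B` a reduced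
finite type `A`-algebra. Then `L ⊗[A] B` is reduced for all field points `A → L` in a nonempty
basic open. -/
theorem exists_ne_zero_forall_isReduced_of_perfect {A : Type u} [CommRing A] [IsDomain A]
    [PerfectField (FractionRing A)] (B : Type u) [CommRing B] [Algebra A B]
    [Algebra.FiniteType A B] [IsReduced B] :
    ∃ a : A, a ≠ 0 ∧ ∀ (L : Type u) [Field L] [Algebra A L], IsUnit (algebraMap A L a) →
      IsReduced (L ⊗[A] B) := by
  apply exists_ne_zero_forall_isReduced_of_domain
  intro K _ _ hinj
  let K₀ := FractionRing A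
  letI : Algebra K₀ K := (IsFractionRing.lift hinj).toAlgebra
  haveI : IsScalarTower A K₀ K :=
    IsScalarTower.of_algebraMap_eq (fun x => (IsFractionRing.lift_algebraMap hinj x).symm)
  haveI hloc : IsLocalization (Algebra.algebraMapSubmonoid B (nonZeroDivisors A)) (B ⊗[A] K₀) :=
    IsLocalization.tensor (S := B) K₀ (nonZeroDivisors A)
  haveI h1 : IsReduced (B ⊗[A] K₀) :=
    isReduced_localizationPreserves (Algebra.algebraMapSubmonoid B (nonZeroDivisors A)) _
      inferInstance
  haveI h2 : IsReduced (K₀ ⊗[A] B) :=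
    isReduced_of_injective (Algebra.TensorProduct.comm A K₀ B)
      (Algebra.TensorProduct.comm A K₀ B).injective
  haveI h3 : IsReduced (K ⊗[K₀] (K₀ ⊗[A] B)) := isReduced_tensor_of_perfectField K
  let e := Algebra.TensorProduct.cancelBaseChange A K₀ K₀ K B
  exact isReduced_of_injective e.symm e.symm.injective

end Groth.Agent.Lib.Helper6.RedModP

namespace Groth.Agent.Lib.Helper6.RedModP
open Groth.Agent.Lib.Helper6.GeomRedGen

theorem finite_setOf_prime_not_isReduced_quotient (A : Type u) [CommRing A]
    [Algebra.FiniteType ℤ A] [IsReduced A] :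
    {p : ℕ | p.Prime ∧ ¬ IsReduced (A ⧸ Ideal.span {(p : A)})}.Finite := by
  let R' := ULift.{u} ℤ
  letI : Algebra R' A := ULift.algebra' ℤ A
  haveI : IsDomain R' := MulEquiv.isDomain ℤ (ULift.ringEquiv : R' ≃+* ℤ).toMulEquiv
  haveI : Algebra.FiniteType R' A := Algebra.FiniteType.of_restrictScalars_finiteType ℤ R' A
  haveI : CharZero R' :=
    charZero_of_injective_ringHom (f := (ULift.ringEquiv : R' ≃+* ℤ).symm.toRingHom)
      (ULift.ringEquiv : R' ≃+* ℤ).symm.injective
  haveI : PerfectField (FractionRing R') := inferInstance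
  obtain ⟨a, ha0, ha⟩ := exists_ne_zero_forall_isReduced_of_perfect (A := R') A
  have hd : a.down.natAbs ≠ 0 := by
    intro h
    apply ha0
    apply ULift.down_injective
    simpa using h
  refine Set.Finite.subset (Nat.divisors a.down.natAbs).finite_toSet ?_
  rintro p ⟨hp, hred⟩
  simp only [Finset.mem_coe, Nat.mem_divisors]
  refine ⟨?_, hd⟩
  by_contra hndvd
  apply hred
  -- the maximal ideal (p) of R'
  let I₀ : Ideal ℤ := Ideal.span {(p : ℤ)}
  haveI hI₀ : I₀.IsMaximal :=
    PrincipalIdealRing.isMaximal_of_irreducible (Nat.prime_iff_prime_int.mp hp).irreducible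
  let I : Ideal R' := I₀.comap (ULift.ringEquiv : R' ≃+* ℤ)
  haveI hI : I.IsMaximal := Ideal.comap_isMaximal_of_equiv _
  letI : Field (R' ⧸ I) := Ideal.Quotient.field I
  have hunit : IsUnit (algebraMap R' (R' ⧸ I) a) := by
    rw [isUnit_iff_ne_zero, Ne, Ideal.Quotient.algebraMap_eq, Ideal.Quotient.eq_zero_iff_mem]
    intro hmem
    have h1 : a.down ∈ I₀ := hmem
    rw [Ideal.mem_span_singleton] at h1
    exact hndvd (Int.natCast_dvd.mp h1)
  haveI h1 : IsReduced ((R' ⧸ I) ⊗[R'] A) := ha (R' ⧸ I) hunit
  have hmap : I.map (algebraMap R' A) = Ideal.span {(p : A)} := by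
    have hI' : I = Ideal.span {(ULift.up (p : ℤ) : R')} := by
      ext x
      rw [Ideal.mem_comap, Ideal.mem_span_singleton, Ideal.mem_span_singleton]
      constructor
      · rintro ⟨c, hc⟩
        exact ⟨ULift.up c, ULift.down_injective hc⟩
      · rintro ⟨c, hc⟩
        exact ⟨c.down, congrArg ULift.down hc⟩
    rw [hI', Ideal.map_span, Set.image_singleton]
    congr 2
    show algebraMap ℤ A (p : ℤ) = (p : A)
    simp
  rw [← hmap]
  let e := Algebra.TensorProduct.quotIdealMapEquivQuotTensor A I
  exact isReduced_of_injective e e.injective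

end Groth.Agent.Lib.Helper6.RedModP
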