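import Groth.Prelude
import Mathlib

/-!
# Reducedness ascends along étale morphisms over a locally Noetherian base (helper6)
-/

open TensorProduct AlgebraicGeometry CategoryTheory

namespace Groth.Agent.Lib.Helper6

universe u

/-- A Noetherian reduced ring embeds into the finite product of the fraction fields of its
quotients by minimal primes. -/
theorem injective_pi_minimalPrimes (A : Type u) [CommRing A] [IsReduced A] :
    Function.Injective (RingHom.pi (fun p : minimalPrimes A =>
      algebraMap A (FractionRing (A ⧸ p.1)))) := by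
  rw [injective_iff_map_eq_zero]
  intro a ha
  have h1 : ∀ p ∈ minimalPrimes A, a ∈ p := by
    intro p hp
    have hp' : p.IsPrime := hp.1.1
    have : algebraMap A (FractionRing (A ⧸ p)) a = 0 := congrFun ha ⟨p, hp⟩
    rw [IsScalarTower.algebraMap_apply A (A ⧸ p) (FractionRing (A ⧸ p)),
      IsFractionRing.to_map_eq_zero_iff] at this
    exact Ideal.Quotient.eq_zero_iff_mem.mp this
  have h2 : a ∈ sInf (minimalPrimes A) := by
    rw [Ideal.mem_sInf]
    exact fun {p} hp => h1 p hp
  rw [minimalPrimes, Ideal.sInf_minimalPrimes] at h2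
  have h3 : (⊥ : Ideal A).radical = ⊥ := by
    change nilradical A = ⊥
    exact nilradical_eq_zero A
  rw [h3] at h2
  exact h2

/-- Reducedness ascends along flat, essentially finite type, formally unramified algebras over
a Noetherian reduced base. -/
theorem isReduced_of_flat_of_formallyUnramified (A B : Type u) [CommRing A] [CommRing B]
    [Algebra A B] [IsNoetherianRing A] [IsReduced A] [Module.Flat A B]
    [Algebra.EssFiniteType A B] [Algebra.FormallyUnramified A B] : IsReduced B := by
  classical
  have hfin : (minimalPrimes A).Finite := minimalPrimes.finite_of_isNoetherianRing A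
  have : Fintype (minimalPrimes A) := hfin.fintype
  have hprime : ∀ p : minimalPrimes A, p.1.IsPrime := fun p => p.2.1.1
  let K : minimalPrimes A → Type u := fun p => FractionRing (A ⧸ p.1)
  have hred : ∀ p : minimalPrimes A, IsReduced (B ⊗[A] K p) := by
    intro p
    have : IsReduced (K p ⊗[A] B) :=
      Algebra.FormallyUnramified.isReduced_of_field (K p) (K p ⊗[A] B)
    exact isReduced_of_injective (Algebra.TensorProduct.comm A B (K p)).toRingHom
      (Algebra.TensorProduct.comm A B (K p)).injective
  let ι : A →ₗ[A] (∀ p, K p) := LinearMap.pi (fun p => Algebra.linearMap A (K p))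
  have hι : Function.Injective ι := by
    intro a b hab
    apply injective_pi_minimalPrimes A
    ext p
    exact congrFun hab p
  have hinj : Function.Injective (ι.lTensor B) :=
    Module.Flat.lTensor_preserves_injective_linearMap ι hι
  constructor
  intro x hx
  obtain ⟨n, hn⟩ := hx
  have h0 : (TensorProduct.piRight A A B K) (ι.lTensor B (x ⊗ₜ[A] (1 : A))) = 0 := by
    ext p
    rw [LinearMap.lTensor_tmul, TensorProduct.piRight_apply, TensorProduct.piRightHom_tmul]
    simp only [Pi.zero_apply]
    have hnil : IsNilpotent (x ⊗ₜ[A] (ι 1 p) : B ⊗[A] K p) := by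
      refine ⟨n, ?_⟩
      rw [Algebra.TensorProduct.tmul_pow, hn, zero_tmul]
    exact (hred p).eq_zero _ hnil
  have h1 : ι.lTensor B (x ⊗ₜ[A] (1 : A)) = 0 := by
    apply (TensorProduct.piRight A A B K).injective
    rw [h0, map_zero]
  have h2 : x ⊗ₜ[A] (1 : A) = 0 := by
    apply hinj
    rw [h1, map_zero]
  have h3 := congrArg (TensorProduct.rid A B) h2
  simpa using h3

theorem isReduced_stalk_iff_of_etale {X Y : Scheme.{u}} (f : X ⟶ Y) [Etale f]
    [IsLocallyNoetherian Y] (x : X) :
    _root_.IsReduced (X.presheaf.stalk x) ↔ _root_.IsReduced (Y.presheaf.stalk (f.base x)) := by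
  algebraize [(f.stalkMap x).hom]
  have hloc : IsLocalHom (algebraMap (Y.presheaf.stalk (f x)) (X.presheaf.stalk x)) :=
    inferInstanceAs <| IsLocalHom (f.stalkMap x).hom
  have hflat : Module.Flat (Y.presheaf.stalk (f x)) (X.presheaf.stalk x) := by
    have := Flat.stalkMap f x
    rwa [RingHom.Flat, ← RingHom.algebraMap_toAlgebra (f.stalkMap x).hom] at this
  have hess : Algebra.EssFiniteType (Y.presheaf.stalk (f x)) (X.presheaf.stalk x) := by
    rw [← RingHom.essFiniteType_algebraMap, RingHom.algebraMap_toAlgebra]
    exact LocallyOfFiniteType.stalkMap f x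
  have hunr : Algebra.FormallyUnramified (Y.presheaf.stalk (f x)) (X.presheaf.stalk x) := by
    rw [← RingHom.formallyUnramified_algebraMap, RingHom.algebraMap_toAlgebra]
    exact FormallyUnramified.stalkMap f x
  have hnoeth : IsNoetherianRing (Y.presheaf.stalk (f x)) := inferInstance
  constructor
  · intro h
    have : Module.FaithfullyFlat (Y.presheaf.stalk (f x)) (X.presheaf.stalk x) :=
      .of_flat_of_isLocalHom
    exact isReduced_of_injective (algebraMap (Y.presheaf.stalk (f x)) (X.presheaf.stalk x))
      (FaithfulSMul.algebraMap_injective _ _)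
  · intro h
    exact isReduced_of_flat_of_formallyUnramified (Y.presheaf.stalk (f x)) (X.presheaf.stalk x)

end Groth.Agent.Lib.Helper6
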