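import Mathlib
import Groth.Agent.Lib.Helper19RegPres
import Groth.Agent.Lib.Helper5RLR

set_option autoImplicit false
universe u

namespace Groth.Agent.Lib.Helper6.Reg2

open IsLocalRing

section Inter

variable {A : Type*} [CommRing A] [IsDomain A]

theorem span_inf_span_of_prime {g f : A} (hg : Prime g) (hgf : ¬ g ∣ f) :
    Ideal.span {g} ⊓ Ideal.span {f} = Ideal.span {g * f} := by
  apply le_antisymm
  · rintro a ⟨ha1, ha2⟩
    rw [SetLike.mem_coe, Ideal.mem_span_singleton] at ha1 ha2
    obtain ⟨b, rfl⟩ := ha2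
    rw [Ideal.mem_span_singleton]
    rcases hg.dvd_or_dvd ha1 with h | h
    · exact absurd h hgf
    · obtain ⟨c, rfl⟩ := h
      exact ⟨c, by ring⟩
  · refine le_inf ?_ ?_
    · rw [Ideal.span_singleton_le_span_singleton]; exact dvd_mul_right _ _
    · rw [Ideal.span_singleton_le_span_singleton]; exact dvd_mul_left _ _

theorem exists_inf_eq_span (T : Finset (Ideal A))
    (hT : ∀ P ∈ T, P.IsPrime ∧ P ≠ ⊥ ∧ ∃ g, P = Ideal.span {g})
    (hinc : ∀ P ∈ T, ∀ Q ∈ T, Q ≤ P → Q = P) :
    ∃ f : A, f ≠ 0 ∧ T.inf id = Ideal.span {f} := by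
  classical
  induction T using Finset.induction_on with
  | empty => exact ⟨1, one_ne_zero, by simp⟩
  | insert P T' hP ih =>
    obtain ⟨f, hf0, hf⟩ := ih (fun Q hQ => hT Q (Finset.mem_insert_of_mem hQ))
      (fun Q hQ Q' hQ' => hinc Q (Finset.mem_insert_of_mem hQ) Q' (Finset.mem_insert_of_mem hQ'))
    obtain ⟨hPp, hP0, g, rfl⟩ := hT P (Finset.mem_insert_self _ _)
    have hg0 : g ≠ 0 := by
      rintro rfl
      exact hP0 (by simp)
    have hgp : Prime g := (Ideal.span_singleton_prime hg0).1 hPp
    have hgf : ¬ g ∣ f := by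
      intro hdvd
      have h1 : T'.inf id ≤ Ideal.span {g} := by
        rw [hf, Ideal.span_singleton_le_span_singleton]; exact hdvd
      rw [Ideal.IsPrime.inf_le' hPp] at h1
      obtain ⟨Q, hQ, hQle⟩ := h1
      have := hinc _ (Finset.mem_insert_self _ _) Q (Finset.mem_insert_of_mem hQ) hQle
      rw [← this] at hP
      exact hP hQ
    refine ⟨g * f, mul_ne_zero hg0 hf0, ?_⟩
    rw [Finset.inf_insert, id, hf, span_inf_span_of_prime hgp hgf]

end Inter

section Dim2

variable {A : Type u} [CommRing A] [IsRegularLocalRing A]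

/-- If `z ∈ m \ m²` and `m` has two generators, then every prime not containing `z` is principal. -/
theorem isPrincipal_of_notMem {z : A} (hz : z ∈ maximalIdeal A) (hz2 : z ∉ maximalIdeal A ^ 2)
    (h2 : (maximalIdeal A).spanFinrank ≤ 2) (p : Ideal A) [p.IsPrime] (hzp : z ∉ p) :
    ∃ g, p = Ideal.span {g} := by
  haveI : IsLocalRing (A ⧸ Ideal.span {z}) :=
    Helper19.isLocalRing_quot_of_le_maximalIdeal _ ((Ideal.span_singleton_le_iff_mem _).2 hz)
  obtain ⟨hreg, hrank⟩ := Helper19.isRegularLocalRing_quot_singleton hz hz2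
  haveI := hreg
  haveI : IsDomain (A ⧸ Ideal.span {z}) := Helper5.isDomain_of_isRegularLocalRing _
  -- maximal ideal of the quotient is principal
  have hprin : (maximalIdeal (A ⧸ Ideal.span {z})).IsPrincipal := by
    obtain ⟨S, hcard, hspan⟩ := Submodule.FG.exists_span_finset_card_eq_spanFinrank
      (IsNoetherian.noetherian (maximalIdeal (A ⧸ Ideal.span {z})))
    have hS : S.card ≤ 1 := by omega
    rcases Finset.card_le_one_iff_subset_singleton.1 hS with ⟨w, hw⟩
    rcases Finset.subset_singleton_iff.1 hw with h | h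
    · rw [h] at hspan
      simp only [Finset.coe_empty, Submodule.span_empty] at hspan
      rw [← hspan]
      infer_instance
    · rw [h] at hspan
      rw [← hspan]
      exact ⟨⟨w, by simp⟩⟩
  haveI hpir : IsPrincipalIdealRing (A ⧸ Ideal.span {z}) :=
    ((tfae_of_isNoetherianRing_of_isLocalRing_of_isDomain (A ⧸ Ideal.span {z})).out 0 4).2 hprin
  set q := Ideal.Quotient.mk (Ideal.span {z}) with hq
  have hqs : Function.Surjective q := Ideal.Quotient.mk_surjective
  obtain ⟨gbar, hgbar⟩ := (IsPrincipalIdealRing.principal (p.map q)).principal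
  have hgmem : gbar ∈ p.map q := by rw [hgbar]; exact Submodule.mem_span_singleton_self _
  obtain ⟨g, hgp, rfl⟩ := (Ideal.mem_map_iff_of_surjective q hqs).1 hgmem
  refine ⟨g, le_antisymm ?_ ((Ideal.span_singleton_le_iff_mem _).2 hgp)⟩
  refine Submodule.le_of_le_smul_of_le_jacobson_bot (I := maximalIdeal A)
    (IsNoetherian.noetherian p) ?_ ?_
  · rw [IsLocalRing.jacobson_eq_maximalIdeal ⊥ bot_ne_top]
  · intro a ha
    have h1 : q a ∈ p.map q := Ideal.mem_map_of_mem q ha
    rw [hgbar] at h1
    obtain ⟨cbar, hc⟩ := Submodule.mem_span_singleton.1 h1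
    obtain ⟨c, rfl⟩ := hqs cbar
    have h2 : a - c * g ∈ Ideal.span {z} := by
      rw [← Ideal.Quotient.eq_zero_iff_mem, ← hq, map_sub, map_mul, ← hc, smul_eq_mul, sub_self]
    obtain ⟨b, hb⟩ := Ideal.mem_span_singleton'.1 h2
    have hbz : b * z ∈ p := by
      rw [hb]; exact p.sub_mem ha (p.mul_mem_left _ hgp)
    have hbp : b ∈ p := (Ideal.IsPrime.mem_or_mem inferInstance hbz).resolve_right hzp
    have ha' : a = c * g + z * b := by rw [mul_comm z b, hb]; ring
    rw [ha']
    refine Submodule.add_mem_sup (Ideal.mem_span_singleton'.2 ⟨c, rfl⟩) ?_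
    rw [← smul_eq_mul]
    exact Submodule.smul_mem_smul hz hbp

/-- In a regular local ring of dimension two, every prime other than the maximal ideal is principal. -/
theorem isPrincipal_of_ne_maximalIdeal (hdim : ringKrullDim A = 2) (p : Ideal A) [p.IsPrime]
    (hp : p ≠ maximalIdeal A) : ∃ g, p = Ideal.span {g} := by
  classical
  have hrank : (maximalIdeal A).spanFinrank = 2 := by
    have := IsRegularLocalRing.spanFinrank_maximalIdeal (R := A)
    rw [hdim] at this
    exact_mod_cast this
  obtain ⟨S, hcard, hspan⟩ := Submodule.FG.exists_span_finset_card_eq_spanFinrank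
    (IsNoetherian.noetherian (maximalIdeal A))
  rw [hrank] at hcard
  obtain ⟨x, y, hxy, rfl⟩ := Finset.card_eq_two.1 hcard
  have hx : x ∈ maximalIdeal A := by rw [← hspan]; exact Submodule.subset_span (by simp)
  have hy : y ∈ maximalIdeal A := by rw [← hspan]; exact Submodule.subset_span (by simp)
  -- neither generator is in m²
  have key : ∀ a b : A, maximalIdeal A = Ideal.span {a, b} → a ∉ maximalIdeal A ^ 2 := by
    intro a b hab ha2
    have hle : maximalIdeal A ≤ Ideal.span {b} := by
      refine Submodule.le_of_le_smul_of_le_jacobson_bot (I := maximalIdeal A)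
        (IsNoetherian.noetherian _) ?_ ?_
      · rw [IsLocalRing.jacobson_eq_maximalIdeal ⊥ bot_ne_top]
      · conv_lhs => rw [hab]
        rw [Ideal.span_le]
        rintro w (rfl | rfl)
        · refine Submodule.mem_sup_right ?_
          rw [smul_eq_mul, ← pow_two]; exact ha2
        · exact Submodule.mem_sup_left (Ideal.subset_span rfl)
    have hb : b ∈ maximalIdeal A := by rw [hab]; exact Ideal.subset_span (by simp)
    have heq : maximalIdeal A = Ideal.span {b} :=
      le_antisymm hle ((Ideal.span_singleton_le_iff_mem _).2 hb)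
    have : (maximalIdeal A).spanFinrank ≤ 1 := by
      rw [heq]
      have := Submodule.spanFinrank_span_le_ncard_of_finite (R := A) (Set.finite_singleton b)
      simpa using this
    omega
  have hspan' : maximalIdeal A = Ideal.span {x, y} := by
    rw [← hspan]; congr 1; ext w; simp
  have hspan'' : maximalIdeal A = Ideal.span {y, x} := by
    rw [hspan']; congr 1; ext w; simp [or_comm]
  by_cases hxp : x ∈ p
  · have hyp : y ∉ p := by
      intro hyp
      apply hp
      apply le_antisymm (IsLocalRing.le_maximalIdeal (Ideal.IsPrime.ne_top inferInstance))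
      rw [hspan', Ideal.span_le]
      rintro w (rfl | rfl)
      · exact hxp
      · exact hyp
    exact isPrincipal_of_notMem hy (key y x hspan'') hrank.le p hyp
  · exact isPrincipal_of_notMem hx (key x y hspan') hrank.le p hxp

theorem main (hdim : ringKrullDim A = 2)
    (I : Ideal A) (hI : I ≤ IsLocalRing.maximalIdeal A) [IsReduced (A ⧸ I)] :
    I = ⊥ ∨ I = IsLocalRing.maximalIdeal A ∨
      ∃ f ∈ IsLocalRing.maximalIdeal A, f ≠ 0 ∧ I = Ideal.span {f} := by
  classical
  haveI : IsDomain A := Helper5.isDomain_of_isRegularLocalRing A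
  have hrad : I.IsRadical := (Ideal.isRadical_iff_quotient_reduced I).2 inferInstance
  have hfin : I.minimalPrimes.Finite := Ideal.finite_minimalPrimes_of_isNoetherianRing A I
  have hIeq : sInf I.minimalPrimes = I := by rw [Ideal.sInf_minimalPrimes, hrad.radical]
  by_cases hm : maximalIdeal A ∈ I.minimalPrimes
  · right; left
    apply le_antisymm hI
    rw [← hIeq]
    refine le_sInf ?_
    intro P hP
    have hPle : P ≤ maximalIdeal A := IsLocalRing.le_maximalIdeal hP.1.1.ne_top
    exact hm.2 hP.1 hPle
  · by_cases h0 : (⊥ : Ideal A) ∈ I.minimalPrimes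
    · left
      exact le_bot_iff.1 h0.1.2
    · right; right
      obtain ⟨f, hf0, hf⟩ := exists_inf_eq_span hfin.toFinset
        (fun P hP => by
          have hP' : P ∈ I.minimalPrimes := hfin.mem_toFinset.1 hP
          haveI := hP'.1.1
          refine ⟨hP'.1.1, fun h => h0 (h ▸ hP'), ?_⟩
          exact isPrincipal_of_ne_maximalIdeal hdim P (fun h => hm (h ▸ hP')))
        (fun P hP Q hQ hle => by
          have hP' : P ∈ I.minimalPrimes := hfin.mem_toFinset.1 hP
          have hQ' : Q ∈ I.minimalPrimes := hfin.mem_toFinset.1 hQ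
          exact le_antisymm hle (hP'.2 hQ'.1 hle))
      have hI' : I = Ideal.span {f} := by
        rw [← hf]
        refine hIeq.symm.trans ?_
        apply le_antisymm
        · refine Finset.le_inf fun P hP => sInf_le (hfin.mem_toFinset.1 hP)
        · refine le_sInf fun P hP => ?_
          exact Finset.inf_le (f := id) (hfin.mem_toFinset.2 hP)
      refine ⟨f, hI (hI' ▸ Ideal.subset_span rfl), hf0, hI'⟩

end Dim2

end Groth.Agent.Lib.Helper6.Reg2
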