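import Mathlib
import Groth.Agent.Lib.Helper6FibCodim

set_option autoImplicit false
set_option linter.style.haveILetI false
set_option linter.unusedVariables false
universe u
open CategoryTheory CategoryTheory.Limits AlgebraicGeometry Topology TopologicalSpace IsLocalRing

namespace Groth.Agent.Lib.Helper6.RelCodimBC

open Groth.Agent.Lib.Helper6.FibCodim Groth.Agent.Lib.Helper5.FiberMor
  Groth.Agent.Lib.Helper5.CodepthFib Groth.Agent.Lib.Helper6.GenNowhere

/-- stalks of fibres of a morphism from a locally Noetherian scheme are Noetherian. -/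
theorem isNoetherianRing_fiber_stalk {X S : Scheme.{u}} [IsLocallyNoetherian X] (f : X ⟶ S) (s : S)
    (a : f.fiber s) : IsNoetherianRing ((f.fiber s).presheaf.stalk a) :=
  isNoetherianRing_of_surjective _ _ ((f.fiberι s).stalkMap a).hom
    ((f.fiberι s).stalkMap_surjective a)

section FlatLift

variable {Y' Y : Scheme.{u}} (h : Y' ⟶ Y)

theorem ringKrullDim_stalk_le_of_flat' (b' : Y') (hfl : (h.stalkMap b').hom.Flat)
    [IsNoetherianRing (Y.presheaf.stalk (h b'))] [IsNoetherianRing (Y'.presheaf.stalk b')] :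
    ringKrullDim (Y.presheaf.stalk (h b')) ≤ ringKrullDim (Y'.presheaf.stalk b') := by
  letI := (h.stalkMap b').hom.toAlgebra
  haveI : Module.Flat (Y.presheaf.stalk (h b')) (Y'.presheaf.stalk b') := hfl
  haveI : IsLocalHom (algebraMap (Y.presheaf.stalk (h b')) (Y'.presheaf.stalk b')) :=
    inferInstanceAs (IsLocalHom (h.stalkMap b').hom)
  exact ringKrullDim_le_of_flat_local

/-- lifting generizations along a flat morphism, preserving the dimension of the local ring. -/
theorem exists_generization_lift' (b' : Y') (hfl : (h.stalkMap b').hom.Flat)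
    [IsNoetherianRing (Y.presheaf.stalk (h b'))] [IsNoetherianRing (Y'.presheaf.stalk b')] (a : Y)
    (ha : a ⤳ h b') :
    ∃ a' : Y', a' ⤳ b' ∧ h a' = a ∧
      ringKrullDim (Y'.presheaf.stalk a') = ringKrullDim (Y.presheaf.stalk a) := by
  letI := (h.stalkMap b').hom.toAlgebra
  haveI : Module.Flat (Y.presheaf.stalk (h b')) (Y'.presheaf.stalk b') := hfl
  haveI : IsLocalHom (algebraMap (Y.presheaf.stalk (h b')) (Y'.presheaf.stalk b')) :=
    inferInstanceAs (IsLocalHom (h.stalkMap b').hom)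
  have hQ : genPrime Y ha ≤ (maximalIdeal (Y'.presheaf.stalk b')).comap
      (algebraMap (Y.presheaf.stalk (h b')) (Y'.presheaf.stalk b')) := by
    rw [IsLocalRing.maximalIdeal_comap]
    exact IsLocalRing.le_maximalIdeal (Ideal.IsPrime.ne_top inferInstance)
  obtain ⟨P, hPp, hPQ, hPc, hPh⟩ := exists_prime_le_liesOver_height_eq (genPrime Y ha)
    (maximalIdeal (Y'.presheaf.stalk b')) hQ
  refine ⟨Y'.fromSpecStalk b' ⟨P, hPp⟩, fromSpecStalk_specializes Y' b' ⟨P, hPp⟩, ?_, ?_⟩
  · have h1 := Scheme.SpecMap_stalkMap_fromSpecStalk (f := h) (x := b')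
    have h2 : (Y'.fromSpecStalk b' ≫ h) ⟨P, hPp⟩ =
        (Spec.map (h.stalkMap b') ≫ Y.fromSpecStalk (h b')) ⟨P, hPp⟩ := by rw [h1]
    rw [Scheme.Hom.comp_apply, Scheme.Hom.comp_apply] at h2
    rw [h2]
    have h3 : (Spec.map (h.stalkMap b')) ⟨P, hPp⟩ =
        (⟨genPrime Y ha, inferInstance⟩ : PrimeSpectrum (Y.presheaf.stalk (h b'))) := by
      apply PrimeSpectrum.ext
      exact hPc
    rw [h3]
    exact fromSpecStalk_genPrime Y ha
  · rw [ringKrullDim_stalk_eq_height Y' (fromSpecStalk_specializes Y' b' ⟨P, hPp⟩),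
      genPrime_fromSpecStalk, ringKrullDim_stalk_eq_height Y ha]
    exact congrArg _ hPh

end FlatLift

section BaseChange

variable {X Y X' Y' : Scheme.{u}} {f : X ⟶ Y} {g : Y' ⟶ Y} {f' : X' ⟶ Y'} {g' : X' ⟶ X}
  [IsLocallyNoetherian X] [IsLocallyNoetherian X']

theorem fdim_le_of_isPullback' (hsq : IsPullback g' f' f g) (x' : X') :
    fdim f (g' x') ≤ fdim f' x' := by
  obtain ⟨h, hfl, hcomm⟩ := exists_fiber_comparison hsq (f' x')
  have hw : f.fiberι (g (f' x')) (h (f'.asFiber x')) = g' x' := by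
    rw [← Scheme.Hom.comp_apply, hcomm, Scheme.Hom.comp_apply, f'.fiberι_asFiber]
  rw [← hw, fdim_fiberι]
  haveI := isNoetherianRing_fiber_stalk f (g (f' x')) (h (f'.asFiber x'))
  haveI := isNoetherianRing_fiber_stalk f' (f' x') (f'.asFiber x')
  exact ringKrullDim_stalk_le_of_flat' h (f'.asFiber x') (Flat.stalkMap h _)

theorem exists_lift_of_isPullback' (hsq : IsPullback g' f' f g) (x' : X') :
    ∃ z' : X', g' z' = g' x' ∧ fdim f' z' = fdim f (g' x') := by
  obtain ⟨h, hfl, hcomm⟩ := exists_fiber_comparison hsq (f' x')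
  have hw : f.fiberι (g (f' x')) (h (f'.asFiber x')) = g' x' := by
    rw [← Scheme.Hom.comp_apply, hcomm, Scheme.Hom.comp_apply, f'.fiberι_asFiber]
  haveI := isNoetherianRing_fiber_stalk f (g (f' x')) (h (f'.asFiber x'))
  haveI := isNoetherianRing_fiber_stalk f' (f' x') (f'.asFiber x')
  obtain ⟨a', ha'1, ha'2, ha'3⟩ := exists_generization_lift' h (f'.asFiber x')
    (Flat.stalkMap h _) (h (f'.asFiber x')) specializes_rfl
  refine ⟨f'.fiberι (f' x') a', ?_, ?_⟩
  · rw [← Scheme.Hom.comp_apply, ← hcomm, Scheme.Hom.comp_apply, ha'2, hw]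
  · rw [fdim_fiberι, ha'3, ← hw, fdim_fiberι]

end BaseChange

section Main

variable {X S S' : Scheme.{u}} (f : X ⟶ S) (g : S' ⟶ S)
    [IsLocallyNoetherian X] [IsLocallyNoetherian (pullback f g)]

theorem main (Y : Set ↥X) :
    ((⨅ y : Y, fdim f y.1) ≤
      ⨅ y' : (fun x' => (pullback.fst f g) x') ⁻¹' Y, fdim (pullback.snd f g) y'.1) ∧
    (Y ⊆ Set.range (pullback.fst f g).base →
      (⨅ y' : (fun x' => (pullback.fst f g) x') ⁻¹' Y, fdim (pullback.snd f g) y'.1) =
        ⨅ y : Y, fdim f y.1) := by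
  have hsq : IsPullback (pullback.fst f g) (pullback.snd f g) f g := IsPullback.of_hasPullback f g
  have h1 : (⨅ y : Y, fdim f y.1) ≤
      ⨅ y' : (fun x' => (pullback.fst f g) x') ⁻¹' Y, fdim (pullback.snd f g) y'.1 := by
    refine le_iInf fun y' => ?_
    exact (iInf_le _ (⟨pullback.fst f g y'.1, y'.2⟩ : Y)).trans (fdim_le_of_isPullback' hsq y'.1)
  refine ⟨h1, fun hY => le_antisymm ?_ h1⟩
  refine le_iInf fun y => ?_
  obtain ⟨x', hx'⟩ := hY y.2
  obtain ⟨z', hz'1, hz'2⟩ := exists_lift_of_isPullback' hsq x'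
  have hz'Y : z' ∈ (fun x' => (pullback.fst f g) x') ⁻¹' Y := by
    show pullback.fst f g z' ∈ Y
    rw [hz'1]
    have : pullback.fst f g x' = y.1 := hx'
    rw [this]
    exact y.2
  refine (iInf_le _ (⟨z', hz'Y⟩ : (fun x' => (pullback.fst f g) x') ⁻¹' Y)).trans ?_
  show fdim (pullback.snd f g) z' ≤ fdim f y.1
  rw [hz'2]
  have : pullback.fst f g x' = y.1 := hx'
  rw [this]

end Main

end Groth.Agent.Lib.Helper6.RelCodimBC
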