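import Mathlib
import Groth.Agent.Lib.Helper6RelCodimBC

set_option autoImplicit false
set_option linter.style.haveILetI false
set_option linter.unusedVariables false
universe u
open CategoryTheory CategoryTheory.Limits AlgebraicGeometry Topology TopologicalSpace IsLocalRing

namespace Groth.Agent.Lib.Helper6.RelCodimComp

open Groth.Agent.Lib.Helper6.FibCodim Groth.Agent.Lib.Helper6.RelCodimBC

section Ring

/-- For a local homomorphism `A → B` of Noetherian local rings and a prime `P` of `B` minimal over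
`𝔪_A B`, `ht P ≤ dim A`. -/
theorem height_le_of_mem_minimalPrimes {A B : Type*} [CommRing A] [CommRing B] [Algebra A B]
    [IsLocalRing A] [IsLocalRing B] [IsNoetherianRing A] [IsNoetherianRing B]
    [IsLocalHom (algebraMap A B)] (P : Ideal B)
    (hP : P ∈ ((maximalIdeal A).map (algebraMap A B)).minimalPrimes) :
    (P.height : WithBot ℕ∞) ≤ ringKrullDim A := by
  haveI hPp : P.IsPrime := hP.1.1
  have hle : (maximalIdeal A).map (algebraMap A B) ≤ P := hP.1.2
  have hcomap : P.comap (algebraMap A B) = maximalIdeal A := by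
    apply le_antisymm
    · exact IsLocalRing.le_maximalIdeal (Ideal.IsPrime.ne_top (Ideal.comap_isPrime _ _))
    · exact Ideal.map_le_iff_le_comap.mp hle
  haveI : P.LiesOver (maximalIdeal A) := ⟨hcomap.symm⟩
  have h1 := Ideal.height_le_height_add_of_liesOver (maximalIdeal A) P
  have h0 : (P.map (Ideal.Quotient.mk ((maximalIdeal A).map (algebraMap A B)))).height = 0 := by
    have hsurj : Function.Surjective (Ideal.Quotient.mk ((maximalIdeal A).map (algebraMap A B))) :=
      Ideal.Quotient.mk_surjective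
    have hker : RingHom.ker (Ideal.Quotient.mk ((maximalIdeal A).map (algebraMap A B))) ≤ P := by
      rw [Ideal.mk_ker]; exact hle
    haveI : (P.map (Ideal.Quotient.mk ((maximalIdeal A).map (algebraMap A B)))).IsPrime :=
      Ideal.map_isPrime_of_surjective hsurj hker
    rw [Ideal.height_eq_zero_iff]
    have h1 := Ideal.comap_minimalPrimes_eq_of_surjective hsurj
      (⊥ : Ideal (B ⧸ (maximalIdeal A).map (algebraMap A B)))
    have h2 : (⊥ : Ideal (B ⧸ (maximalIdeal A).map (algebraMap A B))).comap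
        (Ideal.Quotient.mk ((maximalIdeal A).map (algebraMap A B))) =
        (maximalIdeal A).map (algebraMap A B) := by
      rw [← RingHom.ker_eq_comap_bot, Ideal.mk_ker]
    rw [h2] at h1
    rw [h1] at hP
    obtain ⟨J, hJ, hJP⟩ := hP
    rw [← hJP, Ideal.map_comap_of_surjective _ hsurj]
    exact hJ
  rw [h0, add_zero] at h1
  rw [← IsLocalRing.maximalIdeal_height_eq_ringKrullDim]
  exact_mod_cast h1

end Ring

section Sch

variable {F' F : Scheme.{u}} (k : F' ⟶ F)

/-- a point of the fibre of `k` over `a` which is generic in that fibre, with the bound on the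
dimension of its local ring. -/
theorem exists_fibre_generic (a'' : F') [IsNoetherianRing (F.presheaf.stalk (k a''))]
    [IsNoetherianRing (F'.presheaf.stalk a'')] :
    ∃ a' : F', k a' = k a'' ∧
      ringKrullDim (F'.presheaf.stalk a') ≤ ringKrullDim (F.presheaf.stalk (k a'')) := by
  letI := (k.stalkMap a'').hom.toAlgebra
  haveI : IsLocalHom (algebraMap (F.presheaf.stalk (k a'')) (F'.presheaf.stalk a'')) :=
    inferInstanceAs (IsLocalHom (k.stalkMap a'').hom)
  have hle : (maximalIdeal (F.presheaf.stalk (k a''))).map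
      (algebraMap (F.presheaf.stalk (k a'')) (F'.presheaf.stalk a'')) ≤
      maximalIdeal (F'.presheaf.stalk a'') :=
    IsLocalRing.map_maximalIdeal_le _
  obtain ⟨P, hPmin, hPQ⟩ := Ideal.exists_minimalPrimes_le hle
  haveI hPp : P.IsPrime := hPmin.1.1
  have hcomap : P.comap (algebraMap (F.presheaf.stalk (k a'')) (F'.presheaf.stalk a'')) =
      maximalIdeal (F.presheaf.stalk (k a'')) := by
    apply le_antisymm
    · exact IsLocalRing.le_maximalIdeal (Ideal.IsPrime.ne_top (Ideal.comap_isPrime _ _))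
    · exact Ideal.map_le_iff_le_comap.mp hPmin.1.2
  refine ⟨F'.fromSpecStalk a'' ⟨P, hPp⟩, ?_, ?_⟩
  · have h1 := Scheme.SpecMap_stalkMap_fromSpecStalk (f := k) (x := a'')
    have h2 : (F'.fromSpecStalk a'' ≫ k) ⟨P, hPp⟩ =
        (Spec.map (k.stalkMap a'') ≫ F.fromSpecStalk (k a'')) ⟨P, hPp⟩ := by rw [h1]
    rw [Scheme.Hom.comp_apply, Scheme.Hom.comp_apply] at h2
    rw [h2]
    have h3 : (Spec.map (k.stalkMap a'')) ⟨P, hPp⟩ = closedPoint (F.presheaf.stalk (k a'')) := by
      apply PrimeSpectrum.ext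
      exact hcomap
    rw [h3]
    exact Scheme.fromSpecStalk_closedPoint
  · rw [ringKrullDim_stalk_eq_height F' (fromSpecStalk_specializes F' a'' ⟨P, hPp⟩),
      genPrime_fromSpecStalk]
    exact height_le_of_mem_minimalPrimes P hPmin

end Sch

section Main

variable {X X' S : Scheme.{u}} [IsLocallyNoetherian X] [IsLocallyNoetherian X']
  (f : X ⟶ S) (g : X' ⟶ X)

theorem exists_point (x'' : X') :
    ∃ x' : X', g x' = g x'' ∧ fdim (g ≫ f) x' ≤ fdim f (g x'') := by
  set s := f (g x'') with hs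
  -- the morphism of fibres
  let k : (g ≫ f).fiber s ⟶ f.fiber s :=
    pullback.map (g ≫ f) (S.fromSpecResidueField s) f (S.fromSpecResidueField s) g (𝟙 _) (𝟙 _)
      (by simp) (by simp)
  have hk : k ≫ f.fiberι s = (g ≫ f).fiberι s ≫ g := pullback.lift_fst _ _ _
  obtain ⟨a'', ha''⟩ := exists_fiber_point (g ≫ f) (x := x'') (s := s) rfl
  haveI := isNoetherianRing_fiber_stalk f s (k a'')
  haveI := isNoetherianRing_fiber_stalk (g ≫ f) s a''
  obtain ⟨a', ha'1, ha'2⟩ := exists_fibre_generic k a''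
  have hka : f.fiberι s (k a'') = g x'' := by
    rw [← Scheme.Hom.comp_apply, hk, Scheme.Hom.comp_apply, ha'']
  refine ⟨(g ≫ f).fiberι s a', ?_, ?_⟩
  · rw [← Scheme.Hom.comp_apply, ← hk, Scheme.Hom.comp_apply, ha'1, hka]
  · rw [fdim_fiberι, ← hka, fdim_fiberι]
    exact ha'2

theorem main [Surjective g] (Y : Set ↥X) :
    (⨅ y' : (fun x' => g x') ⁻¹' Y, fdim (g ≫ f) y'.1) ≤ ⨅ y : Y, fdim f y.1 := by
  refine le_iInf fun y => ?_
  obtain ⟨x'', hx''⟩ := g.surjective y.1
  obtain ⟨x', hx'1, hx'2⟩ := exists_point f g x''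
  have hx'Y : x' ∈ (fun x' => g x') ⁻¹' Y := by
    show g x' ∈ Y
    rw [hx'1, hx'']
    exact y.2
  refine (iInf_le _ (⟨x', hx'Y⟩ : (fun x' => g x') ⁻¹' Y)).trans ?_
  show fdim (g ≫ f) x' ≤ fdim f y.1
  rw [← hx'']
  exact hx'2

end Main

end Groth.Agent.Lib.Helper6.RelCodimComp
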