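import Mathlib
import Groth.Agent.Lib.Helper3RelDimFlat
import Groth.Agent.Lib.Helper3SmDim
import Groth.Agent.Lib.Helper4DimFormulaAJ
import Groth.Agent.Lib.Helper4DimFormulaT
import Groth.Agent.Lib.Helper6FibCodimGen
import Groth.Agent.Lib.Helper6DimEq

set_option autoImplicit false
set_option linter.style.haveILetI false
universe u
open CategoryTheory CategoryTheory.Limits AlgebraicGeometry Topology TopologicalSpace IsLocalRing

namespace Groth.Agent.Lib.Helper6.RelCodimSm

open Groth.Agent.Lib.Helper6.FibCodim Groth.Agent.Lib.Helper4.VarDim Groth.Agent.Lib.Helper4.FibDim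
  Groth.Agent.Lib.Helper4.DimFormula

/-- local constancy of the fibre dimension of a smooth morphism along specializations. -/
theorem fibreDimAt_eq_of_specializes {X S : Scheme.{u}} (f : X ⟶ S) [Smooth f] {x' x : X}
    (h : x' ⤳ x) : FlatMor.fibreDimAt f x' = FlatMor.fibreDimAt f x := by
  obtain ⟨U, hU, V, hV, hx, e, hf⟩ := Smooth.exists_isStandardSmooth f x
  obtain ⟨n, hn⟩ := Groth.Agent.Lib.Helper3.SmDim.exists_relDim_of_isStandardSmooth _ hf
  have hx' : x' ∈ V := h.mem_open V.isOpen hx
  rw [Groth.Agent.Lib.Helper3.SmDim.fibreDimAt_eq_of_chart f n x hU hV hx e hn,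
    Groth.Agent.Lib.Helper3.SmDim.fibreDimAt_eq_of_chart f n x' hU hV hx' e hn]

/-- every point has a generization whose local ring is zero-dimensional. -/
theorem exists_generization_dim_zero (Y : Scheme.{u}) (y : Y) :
    ∃ y' : Y, y' ⤳ y ∧ ringKrullDim (Y.presheaf.stalk y') = 0 := by
  obtain ⟨P, hPmin, -⟩ := Ideal.exists_minimalPrimes_le
    (bot_le : (⊥ : Ideal (Y.presheaf.stalk y)) ≤ maximalIdeal (Y.presheaf.stalk y))
  haveI hPp : P.IsPrime := hPmin.1.1
  refine ⟨Y.fromSpecStalk y ⟨P, hPp⟩, fromSpecStalk_specializes Y y ⟨P, hPp⟩, ?_⟩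
  rw [ringKrullDim_stalk_eq_height Y (fromSpecStalk_specializes Y y ⟨P, hPp⟩),
    genPrime_fromSpecStalk]
  have : P.height = 0 := by
    rw [Ideal.height_eq_zero_iff]
    exact hPmin
  rw [this]
  rfl

/-- a point with zero-dimensional local ring has no proper generization. -/
theorem eq_of_specializes_of_dim_zero (Y : Scheme.{u}) {z y : Y} (h : z ⤳ y)
    (hy : ringKrullDim (Y.presheaf.stalk y) = 0) : z = y := by
  haveI : Ring.KrullDimLE 0 (Y.presheaf.stalk y) :=
    ringKrullDimZero_iff_ringKrullDim_eq_zero.mpr hy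
  have h1 := fromSpecStalk_genPrime Y h
  have hmax : genPrime Y h = maximalIdeal (Y.presheaf.stalk y) :=
    IsLocalRing.eq_maximalIdeal (Ideal.IsPrime.isMaximal' inferInstance)
  rw [← h1]
  have : (⟨genPrime Y h, inferInstance⟩ : PrimeSpectrum (Y.presheaf.stalk y)) =
      closedPoint (Y.presheaf.stalk y) := by
    apply PrimeSpectrum.ext
    exact hmax
  rw [this]
  exact Scheme.fromSpecStalk_closedPoint


section Main

open Groth.Agent.Lib.Helper6.FibCodimGen

variable {X Y S : Scheme.{u}} [IsLocallyNoetherian X] [IsLocallyNoetherian S]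
  (f : X ⟶ S) [Smooth f] (i : Y ⟶ X) [IsClosedImmersion i] [Smooth (i ≫ f)]

/-- pointwise: the fibre local ring has dimension at most that of the local ring. -/
theorem fdim_le_stalk (x : X) : fdim f x ≤ ringKrullDim (X.presheaf.stalk x) := by
  rw [Groth.Agent.Lib.Helper3.RelDimFlat.stalk_dim_formula f x]
  exact le_add_of_nonneg_left ringKrullDim_nonneg_of_nontrivial

include i in
/-- Claim A: at the image of a point of `Y` with zero-dimensional local ring, the local ring of
`X` has the dimension of the fibre local ring. -/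
theorem stalk_eq_fdim_of_dim_zero (y' : Y) (hy' : ringKrullDim (Y.presheaf.stalk y') = 0) :
    ringKrullDim (X.presheaf.stalk (i y')) = fdim f (i y') := by
  haveI : IsLocallyNoetherian Y := LocallyOfFiniteType.isLocallyNoetherian (i ≫ f)
  have h1 := Groth.Agent.Lib.Helper3.RelDimFlat.stalk_dim_formula (i ≫ f) y'
  rw [hy'] at h1
  have h2 : ringKrullDim (S.presheaf.stalk ((i ≫ f) y')) = 0 := by
    apply le_antisymm
    · calc ringKrullDim (S.presheaf.stalk ((i ≫ f) y'))
          ≤ ringKrullDim (S.presheaf.stalk ((i ≫ f) y')) +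
            ringKrullDim (((i ≫ f).fiber ((i ≫ f) y')).presheaf.stalk ((i ≫ f).asFiber y')) :=
            le_add_of_nonneg_right ringKrullDim_nonneg_of_nontrivial
        _ = 0 := h1.symm
    · exact ringKrullDim_nonneg_of_nontrivial
  have h3 := Groth.Agent.Lib.Helper3.RelDimFlat.stalk_dim_formula f (i y')
  have h4 : ringKrullDim (S.presheaf.stalk (f (i y'))) = 0 := h2
  rw [h3, h4, zero_add]
  rfl

omit [IsLocallyNoetherian X] [IsLocallyNoetherian S] in
include i in
/-- Claim B: the relative codimension does not drop under specialization inside `Y`. -/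
theorem fdim_le_of_specializes {y' y : Y} (h : y' ⤳ y)
    (hy' : ringKrullDim (Y.presheaf.stalk y') = 0) : fdim f (i y') ≤ fdim f (i y) := by
  have hs : i y' ⤳ i y := h.map i.continuous
  have hn := fibreDimAt_eq_of_specializes f hs
  have hm := fibreDimAt_eq_of_specializes (i ≫ f) h
  have e1 := fibreDimAt_eq_stalk_add_ptTrdeg f (i y')
  have e2 := fibreDimAt_eq_stalk_add_ptTrdeg f (i y)
  have hmax : ∀ z : Y, (i ≫ f).base z = (i ≫ f).base y' → z ⤳ y' → z = y' :=
    fun z _ hz => eq_of_specializes_of_dim_zero Y hz hy'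
  have e3 := fibreDimAt_eq_ptTrdeg_of_maximal (i ≫ f) y' hmax
  have e4 := ptTrdeg_le_fibreDimAt (i ≫ f) y
  rw [← hm, e3] at e4
  have e5 : ptTrdeg f (i y) ≤ ptTrdeg f (i y') := by
    rw [← ptTrdeg_comp_closedImmersion i f y, ← ptTrdeg_comp_closedImmersion i f y']
    exact_mod_cast e4
  -- arithmetic
  have e6 : fdim f (i y') + (ptTrdeg f (i y') : WithBot ℕ∞) =
      fdim f (i y) + (ptTrdeg f (i y) : WithBot ℕ∞) := by
    show ringKrullDim _ + _ = ringKrullDim _ + _
    rw [← e1, ← e2, hn]
  apply Groth.Agent.Lib.Helper6.DimEq.add_le_add_right_cancel _ _ (ptTrdeg f (i y))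
  calc fdim f (i y') + (ptTrdeg f (i y) : WithBot ℕ∞)
      ≤ fdim f (i y') + (ptTrdeg f (i y') : WithBot ℕ∞) := by
        gcongr
    _ = fdim f (i y) + (ptTrdeg f (i y) : WithBot ℕ∞) := e6

theorem main :
    (⨅ y : Set.range i.base, ringKrullDim ((f.fiber (f.base y.1)).presheaf.stalk (f.asFiber y.1))) =
      ⨅ y : Set.range i.base, ringKrullDim (X.presheaf.stalk y.1) := by
  apply le_antisymm
  · refine le_iInf fun y => ?_
    exact (iInf_le _ y).trans (fdim_le_stalk f y.1)
  · refine le_iInf fun y => ?_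
    obtain ⟨y₀, hy₀⟩ := y.2
    obtain ⟨y', hspec, hdim⟩ := exists_generization_dim_zero Y y₀
    refine (iInf_le _ (⟨i y', ⟨y', rfl⟩⟩ : Set.range i.base)).trans ?_
    show ringKrullDim (X.presheaf.stalk (i y')) ≤ fdim f y.1
    rw [stalk_eq_fdim_of_dim_zero f i y' hdim, ← hy₀]
    exact fdim_le_of_specializes f i hspec hdim

end Main

end Groth.Agent.Lib.Helper6.RelCodimSm
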