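import Groth.Agent.Lib.Helper6NefH1
import Groth.Agent.Lib.Helper2FibVanE

/-!
# Closed fibres of a scheme over `Spec A` at maximal ideals (helper6)
-/

set_option autoImplicit false
set_option linter.style.haveILetI false
universe u
open CategoryTheory Limits AlgebraicGeometry Opposite TopologicalSpace

namespace Groth.Agent.Lib.Helper6.RelNef

section Fib

variable (A : Type u) [CommRing A] {X : Scheme.{u}} (f : X ⟶ Spec (CommRingCat.of A)) (m : Ideal A)

/-- the closed immersion `Spec (A/m) ⟶ Spec A` -/
noncomputable def ιm : Spec (CommRingCat.of (A ⧸ m)) ⟶ Spec (CommRingCat.of A) :=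
  Spec.map (CommRingCat.ofHom (Ideal.Quotient.mk m))

instance : IsClosedImmersion (ιm A m) :=
  IsClosedImmersion.spec_of_quotient_mk (R := CommRingCat.of A) m

/-- the ideal sheaf of the fibre of `f` over `V(m)` -/
noncomputable abbrev fibIdeal : X.IdealSheafData := (ιm A m).ker.comap f

/-- the structure morphism of the fibre over `A/m` -/
noncomputable def fibTo : (fibIdeal A f m).subscheme ⟶ Spec (CommRingCat.of (A ⧸ m)) :=
  ((ιm A m).ker.comapIso f).hom ≫ pullback.snd f (ιm A m).imageι ≫ inv (ιm A m).toImage

theorem fibTo_comp : fibTo A f m ≫ ιm A m = (fibIdeal A f m).subschemeι ≫ f := by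
  unfold fibTo
  have h1 : inv (ιm A m).toImage ≫ ιm A m = (ιm A m).imageι := by
    rw [IsIso.inv_comp_eq, Scheme.Hom.toImage_imageι]
  have h2 : ((ιm A m).ker.comapIso f).hom ≫ pullback.fst f (ιm A m).imageι =
      (fibIdeal A f m).subschemeι := Scheme.IdealSheafData.comapIso_hom_fst _ f
  rw [Category.assoc, Category.assoc, h1, ← pullback.condition, ← Category.assoc, h2]

instance [IsProper f] : IsProper (fibTo A f m) := by
  unfold fibTo
  infer_instance

theorem isPullback_fib : IsPullback (fibIdeal A f m).subschemeι (fibTo A f m) f (ιm A m) := by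
  have h0 : IsPullback (pullback.fst f (ιm A m).imageι) (pullback.snd f (ιm A m).imageι) f (ιm A m).imageι :=
    IsPullback.of_hasPullback _ _
  refine IsPullback.of_iso h0 ((ιm A m).ker.comapIso f).symm (Iso.refl _)
    (asIso (ιm A m).toImage).symm (Iso.refl _) ?_ ?_ ?_ ?_
  · simp [fibIdeal]
  · simp only [fibTo, Iso.symm_hom, Iso.inv_hom_id_assoc, asIso_inv]
  · simp
  · simp

section Max

variable [hm : m.IsMaximal]

/-- the closed point of `Spec A` given by the maximal ideal `m` -/
noncomputable def ptm : Spec (CommRingCat.of A) :=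
  letI : Field (A ⧸ m) := Ideal.Quotient.field m
  (ιm A m) (default : ↥(Spec (CommRingCat.of (A ⧸ m))))

theorem range_ιm : Set.range (ιm A m) = {ptm A m} := by
  letI : Field (A ⧸ m) := Ideal.Quotient.field m
  unfold ptm
  exact Set.range_unique

theorem support_fibIdeal : ((fibIdeal A f m).support : Set X) = f ⁻¹' {ptm A m} := by
  rw [Scheme.IdealSheafData.support_comap, TopologicalSpace.Closeds.coe_preimage,
    Scheme.Hom.support_ker, range_ιm]
  congr 1
  have hc : IsClosed (Set.range (ιm A m)) := (ιm A m).isClosedEmbedding.isClosed_range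
  rw [range_ιm] at hc
  exact hc.closure_eq

theorem dim_fib_le (d : ℕ) (hfib : ∀ y : Spec (CommRingCat.of A), topologicalKrullDim (f.fiber y) ≤ d) :
    topologicalKrullDim (fibIdeal A f m).subscheme ≤ d := by
  rw [Groth.Agent.Lib.Helper6.NefH1.dim_subscheme, support_fibIdeal]
  rw [← IsHomeomorph.topologicalKrullDim_eq _ (f.fiberHomeo (ptm A m)).isHomeomorph]
  exact hfib _

end Max

end Fib

end Groth.Agent.Lib.Helper6.RelNef
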