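import Groth.Agent.Lib.Helper6RelNefA
import Groth.Agent.Lib.Helper6BirDeg
import Groth.Agent.Lib.Helper4CurveSSAb
import Groth.Agent.Lib.Helper26ModRank

/-!
# Nefness passes to closed fibres (helper6)
-/

set_option autoImplicit false
set_option linter.style.haveILetI false
universe u
open CategoryTheory Limits AlgebraicGeometry Opposite TopologicalSpace

namespace Groth.Agent.Lib.Helper6.RelNef

section Nef

variable (A : Type u) [CommRing A] {X : Scheme.{u}} (f : X ⟶ Spec (CommRingCat.of A)) [IsProper f]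
  (m : Ideal A) [hm : m.IsMaximal]

/-- relative nefness restricts to nefness on the closed fibre -/
theorem nef_fib (L : X.Modules) (hL : PicF.IsInvertible L)
    (hnef : ∀ (K : Type u) [Field K] (i : A →+* K) (J : X.IdealSheafData)
      (t : J.subscheme ⟶ Spec (CommRingCat.of K)),
      AlgebraicGeometry.IsIntegral J.subscheme → topologicalKrullDim ↥J.subscheme = 1 →
      t ≫ Spec.map (CommRingCat.ofHom i) = J.subschemeι ≫ f →
      0 ≤ @Curv2.deg K _ J.subscheme ⟨t⟩ ((Scheme.Modules.pullback J.subschemeι).obj L) 1) :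
    letI : Field (A ⧸ m) := Ideal.Quotient.field m
    ∀ I' : (fibIdeal A f m).subscheme.IdealSheafData, IsIntegral I'.subscheme →
      topologicalKrullDim I'.subscheme = 1 →
      0 ≤ @Curv2.deg (A ⧸ m) _ I'.subscheme ⟨I'.subschemeι ≫ fibTo A f m⟩
        ((Scheme.Modules.pullback I'.subschemeι).obj
          ((Scheme.Modules.pullback (fibIdeal A f m).subschemeι).obj L)) 1 := by
  letI : Field (A ⧸ m) := Ideal.Quotient.field m
  intro I' hint hdim
  haveI := hint
  let c : I'.subscheme ⟶ X := I'.subschemeι ≫ (fibIdeal A f m).subschemeι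
  haveI : IsClosedImmersion c := inferInstance
  let J' : X.IdealSheafData := c.ker
  let e : I'.subscheme ≅ J'.subscheme := asIso c.toImage
  have he : e.hom ≫ J'.subschemeι = c := c.toImage_imageι
  let t' : J'.subscheme ⟶ Spec (CommRingCat.of (A ⧸ m)) := e.inv ≫ I'.subschemeι ≫ fibTo A f m
  have ht' : t' ≫ Spec.map (CommRingCat.ofHom (Ideal.Quotient.mk m)) = J'.subschemeι ≫ f := by
    change (e.inv ≫ I'.subschemeι ≫ fibTo A f m) ≫ ιm A m = _
    have h1 : e.inv ≫ c = J'.subschemeι := by rw [← he, Iso.inv_hom_id_assoc]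
    rw [Category.assoc, Category.assoc, fibTo_comp, ← Category.assoc I'.subschemeι,
      ← Category.assoc e.inv]
    exact congrArg (· ≫ f) h1
  haveI : Nonempty J'.subscheme := ⟨e.hom (Classical.arbitrary I'.subscheme)⟩
  haveI : IsIntegral J'.subscheme := isIntegral_of_isOpenImmersion e.inv
  have hdim' : topologicalKrullDim J'.subscheme = 1 := by
    rw [← hdim]
    exact (IsHomeomorph.topologicalKrullDim_eq _ (e.hom.homeomorph).isHomeomorph).symm
  have h0 := hnef (A ⧸ m) (Ideal.Quotient.mk m) J' t' inferInstance hdim' ht'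
  letI o1 : J'.subscheme.Over (Spec (CommRingCat.of (A ⧸ m))) := ⟨t'⟩
  letI o2 : I'.subscheme.Over (Spec (CommRingCat.of (A ⧸ m))) := ⟨I'.subschemeι ≫ fibTo A f m⟩
  haveI p2 : IsProper (I'.subscheme ↘ Spec (CommRingCat.of (A ⧸ m))) :=
    (inferInstance : IsProper (I'.subschemeι ≫ fibTo A f m))
  haveI p1 : IsProper (J'.subscheme ↘ Spec (CommRingCat.of (A ⧸ m))) :=
    (inferInstance : IsProper (e.inv ≫ I'.subschemeι ≫ fibTo A f m))
  have hL1 := Groth.Agent.Lib.Helper23.SecTw.isFinLocFreeOfRank_one_of_isInvertible L hL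
  haveI : L.IsQuasicoherent := (Groth.Agent.Lib.Helper6.CurveDeg.isCoh_of_isInvertible L hL).1
  have hE1 : FlatMod.IsFinLocFreeOfRank 1 ((Scheme.Modules.pullback J'.subschemeι).obj L) :=
    Groth.Agent.Lib.Helper26.ModRank.isFinLocFreeOfRank_pullback _ L hL1
  have hf : e.hom ≫ (J'.subscheme ↘ Spec (CommRingCat.of (A ⧸ m))) =
      I'.subscheme ↘ Spec (CommRingCat.of (A ⧸ m)) := by
    change e.hom ≫ e.inv ≫ I'.subschemeι ≫ fibTo A f m = I'.subschemeι ≫ fibTo A f m
    rw [Iso.hom_inv_id_assoc]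
  have hU : Dense (((⊤ : J'.subscheme.Opens) : Set J'.subscheme)) := by
    simp
  have hU' : Dense (((e.hom ⁻¹ᵁ (⊤ : J'.subscheme.Opens) : I'.subscheme.Opens) : Set I'.subscheme)) := by
    simp
  have key := Groth.Agent.Lib.Helper6.BirDeg.main (A ⧸ m) J'.subscheme I'.subscheme hdim'.le e.hom hf ⊤ hU hU'
    inferInstance 1 _ hE1
  have iso1 : (Scheme.Modules.pullback e.hom).obj ((Scheme.Modules.pullback J'.subschemeι).obj L) ≅
      (Scheme.Modules.pullback I'.subschemeι).obj
        ((Scheme.Modules.pullback (fibIdeal A f m).subschemeι).obj L) :=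
    (Scheme.Modules.pullbackComp e.hom J'.subschemeι).app L ≪≫
      (Scheme.Modules.pullbackCongr he).app L ≪≫
      ((Scheme.Modules.pullbackComp I'.subschemeι (fibIdeal A f m).subschemeι).app L).symm
  rw [← Groth.Agent.Lib.Helper4.CurveSSAb.deg_congr_iso (A ⧸ m) I'.subscheme iso1 1, key]
  exact h0

end Nef

end Groth.Agent.Lib.Helper6.RelNef
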