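import Groth.Agent.Lib.Helper6RelNefC
import Groth.Agent.Lib.Helper2FibH1G
import Groth.Agent.Lib.Helper23PB

/-!
# Relative nef invertible modules: vanishing of `H¹` (helper6), first half of S19496
-/

set_option autoImplicit false
set_option linter.style.haveILetI false
universe u
open CategoryTheory Limits AlgebraicGeometry Opposite TopologicalSpace

namespace Groth.Agent.Lib.Helper6.RelNef

open Groth.Agent.Lib.Helper4.Dev Groth.Agent.Lib.Helper21.ExtCartier

section H1

variable (A : Type u) [CommRing A] [IsNoetherianRing A] {X : Scheme.{u}}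
  (f : X ⟶ Spec (CommRingCat.of A)) [IsProper f]

include f in
theorem isLocallyNoetherian_of_proper : IsLocallyNoetherian X :=
  LocallyOfFiniteType.isLocallyNoetherian f

variable (m : Ideal A)

/-- `H¹(O)` of the closed fibre vanishes when `H¹(X, O_X) = 0` -/
theorem h1O_fib (hfib : ∀ y : Spec (CommRingCat.of A), topologicalKrullDim (f.fiber y) ≤ 1)
    (h1 : Subsingleton (Coh.HH X (Coh.structureModule X) 1)) :
    Subsingleton (Coh.HH (fibIdeal A f m).subscheme (Coh.structureModule (fibIdeal A f m).subscheme) 1) := by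
  haveI := isLocallyNoetherian_of_proper A f
  haveI : CompactSpace X := QuasiCompact.compactSpace_of_compactSpace f
  haveI : QuasiSeparatedSpace X := quasiSeparatedSpace_of_quasiSeparated f
  letI : X.Over (Spec (CommRingCat.of A)) := ⟨f⟩
  set J := fibIdeal A f m
  letI : J.subscheme.Over (Spec (CommRingCat.of A)) := ⟨J.subschemeι ≫ f⟩
  obtain ⟨e⟩ := Groth.Agent.Lib.Helper6.AffPushLin.nonempty_linearEquiv (A := A) J.subschemeι rfl
    (Coh.structureModule J.subscheme) 1
  have hS := idealSES_shortExact J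
  haveI : Epi (ClSub.toSubscheme J) := hS.epi_g
  have cK : Coh.IsCoh (kernel (ClSub.toSubscheme J)) :=
    isCoh_kernel _ (isCoh_structureModule X)
      (isCoh_push_closed J.subschemeι _ (isCoh_structureModule J.subscheme))
  haveI : Coh.IsQCoh (kernel (ClSub.toSubscheme J)) := cK.1
  have h2 : Subsingleton (Coh.HH X (kernel (ClSub.toSubscheme J)) (1 + 1)) :=
    Groth.Agent.Lib.Helper2.FibVanE.subsingleton_HH_of_isAffine f 1 hfib _ 2 (by norm_num)
  have hs := Groth.Agent.Lib.Helper2.TopDegA.surjective_HHlin_of_epi A (ClSub.toSubscheme J) 1 h2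
  haveI : Subsingleton (Coh.HH X (ClSub.quotMod J) 1) := hs.subsingleton
  exact e.symm.toEquiv.subsingleton

variable [hm : m.IsMaximal]

/-- the restriction of `L` to the closed fibre has no `H¹` -/
theorem h1_fib (hfib : ∀ y : Spec (CommRingCat.of A), topologicalKrullDim (f.fiber y) ≤ 1)
    (h1 : Subsingleton (Coh.HH X (Coh.structureModule X) 1))
    (L : X.Modules) (hL : PicF.IsInvertible L)
    (hnef : ∀ (K : Type u) [Field K] (i : A →+* K) (J : X.IdealSheafData)
      (t : J.subscheme ⟶ Spec (CommRingCat.of K)),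
      AlgebraicGeometry.IsIntegral J.subscheme → topologicalKrullDim ↥J.subscheme = 1 →
      t ≫ Spec.map (CommRingCat.ofHom i) = J.subschemeι ≫ f →
      0 ≤ @Curv2.deg K _ J.subscheme ⟨t⟩ ((Scheme.Modules.pullback J.subschemeι).obj L) 1) :
    Subsingleton (Coh.HH (fibIdeal A f m).subscheme
      ((Scheme.Modules.pullback (fibIdeal A f m).subschemeι).obj L) 1) := by
  letI : Field (A ⧸ m) := Ideal.Quotient.field m
  letI : (fibIdeal A f m).subscheme.Over (Spec (CommRingCat.of (A ⧸ m))) := ⟨fibTo A f m⟩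
  haveI : IsProper ((fibIdeal A f m).subscheme ↘ Spec (CommRingCat.of (A ⧸ m))) :=
    (inferInstance : IsProper (fibTo A f m))
  exact Groth.Agent.Lib.Helper6.NefH1.subsingleton_H1 (A ⧸ m) (fibIdeal A f m).subscheme
    (dim_fib_le A f m 1 hfib) (h1O_fib A f m hfib h1) _
    (Groth.Agent.Lib.Helper23.PB.isInvertible_pullback _ L hL) (nef_fib A f m L hL hnef)

omit hm in
/-- **S19496, first half**: `H¹(X, L) = 0` -/
theorem subsingleton_H1 (hfib : ∀ y : Spec (CommRingCat.of A), topologicalKrullDim (f.fiber y) ≤ 1)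
    (h1 : Subsingleton (Coh.HH X (Coh.structureModule X) 1))
    (L : X.Modules) (hL : PicF.IsInvertible L)
    (hnef : ∀ (K : Type u) [Field K] (i : A →+* K) (J : X.IdealSheafData)
      (t : J.subscheme ⟶ Spec (CommRingCat.of K)),
      AlgebraicGeometry.IsIntegral J.subscheme → topologicalKrullDim ↥J.subscheme = 1 →
      t ≫ Spec.map (CommRingCat.ofHom i) = J.subschemeι ≫ f →
      0 ≤ @Curv2.deg K _ J.subscheme ⟨t⟩ ((Scheme.Modules.pullback J.subschemeι).obj L) 1) :
    Subsingleton (Coh.HH X L 1) := by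
  haveI := isLocallyNoetherian_of_proper A f
  letI : X.Over (Spec (CommRingCat.of A)) := ⟨f⟩
  have cL := Groth.Agent.Lib.Helper6.CurveDeg.isCoh_of_isInvertible L hL
  haveI : L.IsQuasicoherent := cL.1
  haveI hfin : Module.Finite A (Coh.HH X L 1) :=
    Groth.Agent.Lib.Helper2.TopDegC.finite_HH_top A f 1 hfib L cL
  refine Groth.Agent.Lib.Helper2.FibH1G.subsingleton_of_forall_maximal (R := A) (fun 𝔪 h𝔪 => ?_)
  haveI := h𝔪
  have hs : Function.Surjective (algebraMap A (A ⧸ 𝔪)) := Ideal.Quotient.mk_surjective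
  have h3 := Groth.Agent.Lib.Helper2.FibH1G.mem_smul_topM f (fibTo A f 𝔪) (fibIdeal A f 𝔪).subschemeι
    (isPullback_fib A f 𝔪) hs 1 hfib L (h1_fib A f 𝔪 hfib h1 L hL hnef)
  intro x _
  have h4 := h3 x
  have hk : RingHom.ker (algebraMap A (A ⧸ 𝔪)) = 𝔪 := Ideal.mk_ker
  rwa [hk] at h4

end H1

end Groth.Agent.Lib.Helper6.RelNef
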