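import Groth.Agent.Lib.Helper6RelNefD
import Groth.Agent.Lib.Helper20Thickening
import Groth.Agent.Lib.Helper6DefAmple

/-!
# Relative nef invertible modules: global generation (helper6), second half of S19496
-/

set_option autoImplicit false
set_option linter.style.haveILetI false
universe u
open CategoryTheory Limits AlgebraicGeometry Opposite TopologicalSpace

namespace Groth.Agent.Lib.Helper6.RelNef

open Groth.Agent.Lib.Helper4.Dev Groth.Agent.Lib.Helper21.ExtCartier Groth.Agent.Lib.Helper2.FibH1B
  Groth.Agent.Lib.Helper27PnSections Groth.Agent.Lib.Helper4.CurveAsym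

section Lift

variable {X : Scheme.{u}}

/-- `Hom(O, M) ≃ H⁰(M)`, without any base ring -/
noncomputable def hom0Equiv (M : X.Modules) : (Coh.structureModule X ⟶ M) ≃+ Coh.HH X M 0 :=
  (homSecEquiv M).trans (hh0Equiv X M).symm

theorem hom0Equiv_comp {L Q : X.Modules} (s : Coh.structureModule X ⟶ L) (π : L ⟶ Q) :
    hom0Equiv Q (s ≫ π) = HHmap π 0 (hom0Equiv L s) := by
  change (hh0Equiv X Q).symm (homSecEquiv Q (s ≫ π)) =
    Sheaf.H.map ((SheafOfModules.toSheaf X.ringCatSheaf).map π) 0
      ((hh0Equiv X L).symm (homSecEquiv L s))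
  exact (Sheaf.H.equiv₀_symm_naturality (Limits.isTerminalTop (α := X.Opens))
    ((SheafOfModules.toSheaf X.ringCatSheaf).map π) (homSecEquiv L s)).symm

/-- global sections lift along an epimorphism whose kernel has no `H¹` -/
theorem exists_lift_section {L N : X.Modules} (η : L ⟶ N) [Epi η]
    (hK : Subsingleton (Coh.HH X (kernel η) 1)) (σ : Coh.structureModule X ⟶ N) :
    ∃ s : Coh.structureModule X ⟶ L, s ≫ η = σ := by
  let S : ShortComplex X.Modules := ShortComplex.mk (kernel.ι η) η (kernel.condition η)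
  haveI : Mono S.f := inferInstanceAs (Mono (kernel.ι η))
  haveI : Epi S.g := inferInstanceAs (Epi η)
  have hS : S.ShortExact :=
    ShortComplex.ShortExact.mk (ShortComplex.exact_of_f_is_kernel _ (kernelIsKernel η))
  obtain ⟨y, hy⟩ := Groth.Agent.Lib.Helper27CohFin.exact_delta S hS 0 (hom0Equiv N σ)
    (Subsingleton.elim (α := Coh.HH X (kernel η) (0 + 1)) _ _)
  refine ⟨(hom0Equiv L).symm y, ?_⟩
  apply (hom0Equiv N).injective
  rw [hom0Equiv_comp, AddEquiv.apply_symm_apply]
  exact hy

end Lift

section GG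

open Groth.Agent.Lib.Helper2.FibH1G Groth.Agent.Lib.Helper2.FibH1A Groth.Agent.Lib.Helper23.QCohLocal
  Groth.Agent.Lib.Helper6.GGCurve

variable (A : Type u) [CommRing A] [IsNoetherianRing A] {X : Scheme.{u}}
  (f : X ⟶ Spec (CommRingCat.of A)) [IsProper f] (m : Ideal A)

/-- `H¹` of the kernel of the unit `L ⟶ i_* i^* L` of the closed fibre vanishes when `H¹(L) = 0` -/
theorem h1_kernel_unit (hfib : ∀ y : Spec (CommRingCat.of A), topologicalKrullDim (f.fiber y) ≤ 1)
    (L : X.Modules) [L.IsQuasicoherent] (h1L : Subsingleton (Coh.HH X L 1)) :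
    Subsingleton (Coh.HH X (kernel (unitM (fibIdeal A f m).subschemeι L)) 1) := by
  haveI : CompactSpace X := QuasiCompact.compactSpace_of_compactSpace f
  haveI : QuasiSeparatedSpace X := quasiSeparatedSpace_of_quasiSeparated f
  letI : X.Over (Spec (CommRingCat.of A)) := ⟨f⟩
  have h := isPullback_fib A f m
  have hs : Function.Surjective (algebraMap A (A ⧸ m)) := Ideal.Quotient.mk_surjective
  set g' := (fibIdeal A f m).subschemeι with hg'
  haveI hM' : ((Scheme.Modules.pullback g').obj L).IsQuasicoherent :=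
    Groth.Agent.Lib.Helper2.PullbackSec.isQuasicoherent_pullback g' L
  haveI hq3 : ((Scheme.Modules.pushforward g').obj
      ((Scheme.Modules.pullback g').obj L)).IsQuasicoherent :=
    isQuasicoherent_pushforward g' _
  haveI hq1 : (∐ fun _ : KerT A (A ⧸ m) => L).IsQuasicoherent :=
    coproduct_isQuasicoherent _ (fun _ => inferInstance)
  let S := cplxM h L
  have hS : S.Exact := exact_cplxM h hs L
  haveI hS1 : S.X₁.IsQuasicoherent := hq1
  haveI hS2 : S.X₂.IsQuasicoherent := inferInstanceAs L.IsQuasicoherent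
  haveI hS3 : S.X₃.IsQuasicoherent := hq3
  haveI hk1 : (kernel S.g).IsQuasicoherent :=
    Groth.Agent.Lib.Helper23.QCohLocal.isQuasicoherent_kernel S.g
  let l : S.X₁ ⟶ kernel S.g := kernel.lift S.g S.f S.zero
  haveI : Epi l := S.exact_iff_epi_kernel_lift.1 hS
  haveI hk2 : (kernel l).IsQuasicoherent :=
    Groth.Agent.Lib.Helper23.QCohLocal.isQuasicoherent_kernel l
  have hK : Subsingleton (Coh.HH X (kernel l) (1 + 1)) :=
    Groth.Agent.Lib.Helper2.FibVanE.subsingleton_HH_of_isAffine f 1 hfib _ 2 (by norm_num)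
  have hsurj := Groth.Agent.Lib.Helper2.TopDegA.surjective_HHlin_of_epi A l 1 hK
  have h0 : Subsingleton (Coh.HH X S.X₁ 1) := by
    refine ⟨fun a b => ?_⟩
    have hz : ∀ z : Coh.HH X (∐ fun _ : KerT A (A ⧸ m) => L) 1, z = 0 := by
      intro z
      obtain ⟨T, w, hT⟩ := exists_finset_sum (fun _ : KerT A (A ⧸ m) => L) (fun _ => inferInstance) 1 z
      rw [hT]
      apply Finset.sum_eq_zero
      intro j _
      rw [Subsingleton.elim (w j) 0, map_zero]
    exact (hz a).trans (hz b).symm
  exact hsurj.subsingleton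

variable [hm : m.IsMaximal]

/-- the cokernel of the evaluation map of `L` restricts to zero on every closed fibre -/
theorem isZero_pullback_coker (hfib : ∀ y : Spec (CommRingCat.of A), topologicalKrullDim (f.fiber y) ≤ 1)
    (h1 : Subsingleton (Coh.HH X (Coh.structureModule X) 1))
    (L : X.Modules) (hL : PicF.IsInvertible L)
    (hnef : ∀ (K : Type u) [Field K] (i : A →+* K) (J : X.IdealSheafData)
      (t : J.subscheme ⟶ Spec (CommRingCat.of K)),
      AlgebraicGeometry.IsIntegral J.subscheme → topologicalKrullDim ↥J.subscheme = 1 →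
      t ≫ Spec.map (CommRingCat.ofHom i) = J.subschemeι ≫ f →
      0 ≤ @Curv2.deg K _ J.subscheme ⟨t⟩ ((Scheme.Modules.pullback J.subschemeι).obj L) 1) :
    IsZero ((Scheme.Modules.pullback (fibIdeal A f m).subschemeι).obj (coker L)) := by
  have cL := Groth.Agent.Lib.Helper6.CurveDeg.isCoh_of_isInvertible L hL
  haveI : L.IsQuasicoherent := cL.1
  have h1L := subsingleton_H1 A f hfib h1 L hL hnef
  have hK := h1_kernel_unit A f m hfib L h1L
  set i := (fibIdeal A f m).subschemeι with hi
  let adj := Scheme.Modules.pullbackPushforwardAdjunction i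
  haveI : Epi (unitM i L) := Groth.Agent.Lib.Helper2.TopDegA.epi_unit_of_isClosedImmersion i L
  -- global generation on the fibre
  have hgg : Curv2.IsGloballyGenerated ((Scheme.Modules.pullback i).obj L) := by
    letI : Field (A ⧸ m) := Ideal.Quotient.field m
    letI : (fibIdeal A f m).subscheme.Over (Spec (CommRingCat.of (A ⧸ m))) := ⟨fibTo A f m⟩
    haveI : IsProper ((fibIdeal A f m).subscheme ↘ Spec (CommRingCat.of (A ⧸ m))) :=
      (inferInstance : IsProper (fibTo A f m))
    exact Groth.Agent.Lib.Helper6.NefH1.isGloballyGenerated (A ⧸ m) (fibIdeal A f m).subscheme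
      (dim_fib_le A f m 1 hfib) (h1O_fib A f m hfib h1) _
      (Groth.Agent.Lib.Helper23.PB.isInvertible_pullback _ L hL) (nef_fib A f m L hL hnef)
  let φ := (Scheme.Modules.pullback i).map (cπ L)
  haveI : (Scheme.Modules.pullback i).IsLeftAdjoint := ⟨_, ⟨adj⟩⟩
  haveI : Epi φ := (Scheme.Modules.pullback i).map_epi (cπ L)
  have hφ : φ = 0 := by
    apply eq_zero_of_isGloballyGenerated hgg
    intro t
    let ψ := Groth.Agent.Lib.Helper23.PB.pullbackUnitIso i
    let t₁ := ψ.hom ≫ t
    obtain ⟨s, hs⟩ := exists_lift_section (unitM i L) hK (adj.homEquiv _ _ t₁)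
    have h2 : (Scheme.Modules.pullback i).map s = t₁ := by
      apply (adj.homEquiv _ _).injective
      rw [← hs, Adjunction.homEquiv_unit]
      exact (adj.unit.naturality s).symm
    have h3 : t₁ ≫ φ = 0 := by
      rw [← h2, ← Functor.map_comp, sec_comp_π, Functor.map_zero]
    have h4 : ψ.hom ≫ (t ≫ φ) = 0 := by rw [← Category.assoc]; exact h3
    exact (cancel_epi ψ.hom).1 (h4.trans comp_zero.symm)
  exact IsZero.of_epi_eq_zero φ hφ

omit hm in
theorem asIdeal_ptm [hm : m.IsMaximal] : (ptm A m).asIdeal = m := by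
  letI : Field (A ⧸ m) := Ideal.Quotient.field m
  change Ideal.comap (Ideal.Quotient.mk m) (default : ↥(Spec (CommRingCat.of (A ⧸ m)))).asIdeal = m
  have h0 : (default : ↥(Spec (CommRingCat.of (A ⧸ m)))).asIdeal = ⊥ := by
    have := (default : ↥(Spec (CommRingCat.of (A ⧸ m)))).isPrime
    exact ((Ideal.eq_bot_or_top _).resolve_right this.ne_top)
  rw [h0, ← RingHom.ker_eq_comap_bot, Ideal.mk_ker]

omit hm in
/-- **S19496, second half**: `L` is globally generated -/
theorem isGloballyGenerated (hfib : ∀ y : Spec (CommRingCat.of A), topologicalKrullDim (f.fiber y) ≤ 1)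
    (h1 : Subsingleton (Coh.HH X (Coh.structureModule X) 1))
    (L : X.Modules) (hL : PicF.IsInvertible L)
    (hnef : ∀ (K : Type u) [Field K] (i : A →+* K) (J : X.IdealSheafData)
      (t : J.subscheme ⟶ Spec (CommRingCat.of K)),
      AlgebraicGeometry.IsIntegral J.subscheme → topologicalKrullDim ↥J.subscheme = 1 →
      t ≫ Spec.map (CommRingCat.ofHom i) = J.subschemeι ≫ f →
      0 ≤ @Curv2.deg K _ J.subscheme ⟨t⟩ ((Scheme.Modules.pullback J.subschemeι).obj L) 1) :
    Curv2.IsGloballyGenerated L := by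
  haveI := isLocallyNoetherian_of_proper A f
  haveI : CompactSpace X := QuasiCompact.compactSpace_of_compactSpace f
  have cL := Groth.Agent.Lib.Helper6.CurveDeg.isCoh_of_isInvertible L hL
  haveI : L.IsQuasicoherent := cL.1
  haveI : SheafOfModules.IsFiniteType (R := X.ringCatSheaf) L := cL.2
  haveI hCq : (coker L).IsQuasicoherent :=
    Groth.Agent.Lib.Helper23.QCohLocal.isQuasicoherent_cokernel (ev L)
  haveI hCf : SheafOfModules.IsFiniteType (R := X.ringCatSheaf) (coker L) :=
    Groth.Agent.Lib.Helper20.Nakayama.isFiniteType_of_epi (cπ L)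
  apply isGloballyGenerated_of_isZero_cokernel
  apply isZero_of_support_eq_empty
  by_contra hne
  have hne' : (CohB1.support (coker L)).Nonempty := Set.nonempty_iff_ne_empty.2 hne
  have hcl : IsClosed (CohB1.support (coker L)) := Groth.Agent.S0020.result X _ hCf
  obtain ⟨p, hpS, hp⟩ := hcl.exists_closed_singleton hne'
  have hy : IsClosed ({f p} : Set (Spec (CommRingCat.of A))) := by
    have h := f.isClosedMap _ hp
    rwa [Set.image_singleton] at h
  have hmax : (f p).asIdeal.IsMaximal := (PrimeSpectrum.isClosed_singleton_iff_isMaximal (f p)).1 hy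
  haveI := hmax
  have hpt : ptm A (f p).asIdeal = f p := PrimeSpectrum.ext (asIdeal_ptm A (f p).asIdeal)
  have hpJ : p ∈ (fibIdeal A f (f p).asIdeal).support := by
    rw [← SetLike.mem_coe, support_fibIdeal, hpt]
    rfl
  exact hpS (Groth.Agent.Lib.Helper20.Thickening.subsingleton_stalk_of_isZero_pullback
    (fibIdeal A f (f p).asIdeal) (coker L)
    (isZero_pullback_coker A f (f p).asIdeal hfib h1 L hL hnef) p hpJ)

end GG

end Groth.Agent.Lib.Helper6.RelNef
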