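import Mathlib.RingTheory.MvPolynomial.Homogeneous
import Mathlib.FieldTheory.Finite.Basic
import Mathlib.FieldTheory.Finite.Polynomial

open MvPolynomial

namespace Groth.Agent.Lib.Helper6

theorem homogeneous_vanishing_degree (k : Type) [Field k] [Fintype k] (r d : ℕ)
    (P : MvPolynomial (Fin (r + 1)) k) (hP : P.IsHomogeneous d) (hP0 : P ≠ 0)
    (hvan : ∀ x : Fin (r + 1) → k, MvPolynomial.eval x P = 0) :
    Fintype.card k + 1 ≤ d := by
  classical
  by_contra hlt
  have hdq : d ≤ Fintype.card k := by omega
  set q := Fintype.card k with hq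
  have hq2 : 2 ≤ q := Fintype.one_lt_card
  -- the reduction map on exponents
  let red : (Fin (r + 1) →₀ ℕ) → (Fin (r + 1) →₀ ℕ) := fun m =>
    if h : ∃ i, q ≤ m i then Finsupp.single h.choose 1 else m
  -- structure of exponents in the support
  have hdeg : ∀ m ∈ P.support, m.degree = d := by
    intro m hm
    have := hP (mem_support_iff.1 hm)
    rw [Finsupp.degree_eq_weight_one]
    exact this
  have hbig : ∀ m ∈ P.support, ∀ i, q ≤ m i → m = Finsupp.single i q := by
    intro m hm i hi
    have h1 := hdeg m hm
    have h2 : m i ≤ m.degree := Finsupp.le_degree i m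
    have h3 : m i = q := by omega
    have h4 : m.degree = m i := by omega
    ext j
    by_cases hj : j = i
    · subst hj
      simp [h3]
    · rw [Finsupp.single_apply, if_neg (Ne.symm hj)]
      by_contra hne
      have : m i + m j ≤ m.degree := by
        rw [Finsupp.degree_eq_sum]
        have : ({i, j} : Finset (Fin (r+1))) ⊆ Finset.univ := Finset.subset_univ _
        calc m i + m j = ∑ l ∈ ({i, j} : Finset (Fin (r+1))), m l := by
              rw [Finset.sum_pair (Ne.symm hj)]
          _ ≤ ∑ l, m l := Finset.sum_le_sum_of_subset this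
      omega
  have hred1 : ∀ m ∈ P.support, (∃ i, q ≤ m i) → ∃ i, m = Finsupp.single i q ∧
      red m = Finsupp.single i 1 := by
    intro m hm h
    refine ⟨h.choose, hbig m hm _ h.choose_spec, ?_⟩
    simp only [red, dif_pos h]
  have hred2 : ∀ m, (¬ ∃ i, q ≤ m i) → red m = m := by
    intro m h
    simp only [red, dif_neg h]
  -- the reduced polynomial
  set R : MvPolynomial (Fin (r + 1)) k := ∑ m ∈ P.support, monomial (red m) (coeff m P) with hR
  have hevalR : ∀ x, eval x R = 0 := by
    intro x
    rw [← hvan x]
    conv_rhs => rw [P.as_sum]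
    rw [hR, map_sum, map_sum]
    refine Finset.sum_congr rfl fun m hm => ?_
    by_cases h : ∃ i, q ≤ m i
    · obtain ⟨i, h1, h2⟩ := hred1 m hm h
      rw [h2]
      have h3 : coeff (Finsupp.single i q) P = coeff m P := by rw [← h1]
      conv_rhs => rw [h1]
      simp only [eval_monomial, Finsupp.prod_single_index, pow_zero, pow_one]
      rw [hq, FiniteField.pow_card, ← hq, h3]
    · rw [hred2 m h]
  have hRdeg : R ∈ restrictDegree (Fin (r + 1)) k (q - 1) := by
    rw [mem_restrictDegree]
    intro s hs i
    have hs' := support_sum hs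
    simp only [Finset.mem_biUnion] at hs'
    obtain ⟨m, hm, hsm⟩ := hs'
    have hsm' := support_monomial_subset hsm
    rw [Finset.mem_singleton] at hsm'
    subst hsm'
    by_cases h : ∃ i, q ≤ m i
    · obtain ⟨j, h1, h2⟩ := hred1 m hm h
      rw [h2, Finsupp.single_apply]
      split_ifs <;> omega
    · rw [hred2 m h]
      simp only [not_exists, not_le] at h
      have := h i
      omega
  have hR0 : R = 0 := eq_zero_of_eval_eq_zero _ _ R hevalR hRdeg
  -- injectivity of `red` on the support
  have hinj : ∀ m ∈ P.support, ∀ m' ∈ P.support, red m = red m' → m = m' := by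
    intro m hm m' hm' he
    by_cases h : ∃ i, q ≤ m i <;> by_cases h' : ∃ i, q ≤ m' i
    · obtain ⟨i, h1, h2⟩ := hred1 m hm h
      obtain ⟨i', h1', h2'⟩ := hred1 m' hm' h'
      rw [h2, h2'] at he
      have : i = i' := by
        by_contra hne
        have := DFunLike.congr_fun he i
        simp [hne] at this
      rw [h1, h1', this]
    · obtain ⟨i, h1, h2⟩ := hred1 m hm h
      rw [h2, hred2 m' h'] at he
      have h3 := hdeg m' hm'
      have h4 := hdeg m hm
      rw [← he] at h3
      rw [h1] at h4
      simp only [Finsupp.degree_single] at h3 h4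
      omega
    · obtain ⟨i, h1, h2⟩ := hred1 m' hm' h'
      rw [h2, hred2 m h] at he
      have h3 := hdeg m hm
      have h4 := hdeg m' hm'
      rw [he] at h3
      rw [h1] at h4
      simp only [Finsupp.degree_single] at h3 h4
      omega
    · rw [hred2 m h, hred2 m' h'] at he
      exact he
  obtain ⟨m₀, hm₀⟩ : ∃ m₀, m₀ ∈ P.support := by
    by_contra hne
    simp only [not_exists] at hne
    exact hP0 (support_eq_empty.1 (Finset.eq_empty_of_forall_notMem hne))
  have hc : coeff (red m₀) R = coeff m₀ P := by
    rw [hR, coeff_sum]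
    rw [Finset.sum_eq_single m₀]
    · simp
    · intro m hm hne
      rw [coeff_monomial, if_neg]
      intro he
      exact hne (hinj m hm m₀ hm₀ he)
    · intro h
      exact absurd hm₀ h
  rw [hR0, coeff_zero] at hc
  exact (mem_support_iff.1 hm₀) hc.symm

end Groth.Agent.Lib.Helper6
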