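import Mathlib.NumberTheory.GaussSum
import Mathlib.FieldTheory.Finite.Basic

namespace Groth.Agent.Lib.Helper6

lemma addChar_map_sum {ι A M : Type*} [AddCommMonoid A] [CommMonoid M] (ψ : AddChar A M)
    (s : Finset ι) (f : ι → A) : ψ (∑ i ∈ s, f i) = ∏ i ∈ s, ψ (f i) := by
  classical
  induction s using Finset.induction_on with
  | empty => simp
  | insert a s ha ih =>
    rw [Finset.sum_insert ha, Finset.prod_insert ha, AddChar.map_add_eq_mul, ih]

theorem kloosterman_zero (k : Type) [Field k] [Fintype k] [DecidableEq k] (R : Type) [CommRing R] [IsDomain R]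
    (ψ : AddChar k R) (hψ : ψ ≠ 1) (n : ℕ) (hn : 1 ≤ n) :
    ∑ x ∈ (Finset.univ : Finset (Fin n → k)).filter (fun x => ∏ i, x i = 0), ψ (∑ i, x i) = (-1) ^ (n - 1) := by
  classical
  have hsum0 : ∑ a : k, ψ a = 0 := AddChar.sum_eq_zero_of_ne_one hψ
  have hsum1 : ∑ a ∈ (Finset.univ : Finset k).filter (fun a => a ≠ 0), ψ a = -1 := by
    have := Finset.sum_filter_add_sum_filter_not (Finset.univ : Finset k) (fun a => a ≠ 0) (fun a => ψ a)
    rw [hsum0] at this
    have h2 : ∑ a ∈ (Finset.univ : Finset k).filter (fun a => ¬ a ≠ 0), ψ a = 1 := by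
      have : (Finset.univ : Finset k).filter (fun a => ¬ a ≠ 0) = {0} := by
        ext a; simp
      rw [this, Finset.sum_singleton, AddChar.map_zero_eq_one]
    rw [h2] at this
    exact eq_neg_of_add_eq_zero_left this
  have htot : ∑ x : Fin n → k, ψ (∑ i, x i) = 0 := by
    have h1 : ∑ x : Fin n → k, ψ (∑ i, x i) = ∏ _i : Fin n, ∑ a : k, ψ a := by
      rw [Finset.prod_univ_sum]
      simp only [Fintype.piFinset_univ]
      refine Finset.sum_congr rfl fun x _ => ?_
      exact addChar_map_sum ψ _ _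
    rw [h1, hsum0]
    have : 0 < n := hn
    rw [Finset.prod_const, Finset.card_univ, Fintype.card_fin, zero_pow (by omega)]
  have hne : ∑ x ∈ (Finset.univ : Finset (Fin n → k)).filter (fun x => ¬ ∏ i, x i = 0), ψ (∑ i, x i)
      = (-1) ^ n := by
    have h1 : (Finset.univ : Finset (Fin n → k)).filter (fun x => ¬ ∏ i, x i = 0) =
        Fintype.piFinset (fun _ : Fin n => (Finset.univ : Finset k).filter (fun a => a ≠ 0)) := by
      ext x
      simp only [Finset.mem_filter, Finset.mem_univ, true_and, Fintype.mem_piFinset, ne_eq]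
      rw [Finset.prod_eq_zero_iff]
      simp
    rw [h1]
    have h2 := Finset.prod_univ_sum (fun _ : Fin n => (Finset.univ : Finset k).filter (fun a => a ≠ 0))
      (fun _ a => ψ a)
    rw [hsum1] at h2
    rw [Finset.prod_const, Finset.card_univ, Fintype.card_fin] at h2
    rw [h2]
    refine Finset.sum_congr rfl fun x _ => ?_
    exact addChar_map_sum ψ _ _
  have := Finset.sum_filter_add_sum_filter_not (Finset.univ : Finset (Fin n → k))
    (fun x => ∏ i, x i = 0) (fun x => ψ (∑ i, x i))
  rw [htot, hne] at this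
  rw [eq_neg_of_add_eq_zero_left this]
  obtain ⟨m, rfl⟩ : ∃ m, n = m + 1 := ⟨n - 1, by omega⟩
  simp [pow_succ]

end Groth.Agent.Lib.Helper6
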