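import Mathlib.AlgebraicGeometry.FunctionField
import Mathlib.AlgebraicGeometry.Morphisms.Separated

open AlgebraicGeometry CategoryTheory TopologicalSpace Limits

universe u

namespace Groth.Agent.Lib.Helper6

lemma isDominant_SpecMap_of_injective {R S : CommRingCat.{u}} (f : R ⟶ S)
    (hf : Function.Injective f.hom) : IsDominant (Spec.map f) := by
  constructor
  change DenseRange (PrimeSpectrum.comap f.hom)
  rw [PrimeSpectrum.denseRange_comap_iff_ker_le_nilRadical,
    (RingHom.injective_iff_ker_eq_bot _).1 hf]
  exact bot_le

theorem injective_range_stalk_functionField (X : Scheme.{u}) [IsIntegral X] [X.IsSeparated] :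
    Function.Injective (fun x : X ↦ (algebraMap (X.presheaf.stalk x) X.functionField).range) := by
  intro x y hxy
  simp only at hxy
  have hinjx := IsFractionRing.injective (X.presheaf.stalk x) X.functionField
  have hinjy := IsFractionRing.injective (X.presheaf.stalk y) X.functionField
  let ex : X.presheaf.stalk x ≃+* (algebraMap (X.presheaf.stalk x) X.functionField).range :=
    RingEquiv.ofBijective (algebraMap (X.presheaf.stalk x) X.functionField).rangeRestrict
      ⟨fun a b hab => hinjx (congrArg Subtype.val hab), RingHom.rangeRestrict_surjective _⟩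
  let ey : X.presheaf.stalk y ≃+* (algebraMap (X.presheaf.stalk y) X.functionField).range :=
    RingEquiv.ofBijective (algebraMap (X.presheaf.stalk y) X.functionField).rangeRestrict
      ⟨fun a b hab => hinjy (congrArg Subtype.val hab), RingHom.rangeRestrict_surjective _⟩
  let φ : X.presheaf.stalk x ≃+* X.presheaf.stalk y :=
    ex.trans ((RingEquiv.subringCongr hxy).trans ey.symm)
  have hφ : ∀ a, algebraMap (X.presheaf.stalk y) X.functionField (φ a) =
      algebraMap (X.presheaf.stalk x) X.functionField a := by
    intro a
    have h1 : ∀ b : (algebraMap (X.presheaf.stalk y) X.functionField).range,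
        algebraMap (X.presheaf.stalk y) X.functionField (ey.symm b) = b.1 := by
      intro b
      have := ey.apply_symm_apply b
      exact congrArg Subtype.val this
    simp only [φ, RingEquiv.trans_apply, h1]
    rfl
  set sx := X.presheaf.stalkSpecializes ((genericPoint_spec X).specializes (Set.mem_univ x))
  set sy := X.presheaf.stalkSpecializes ((genericPoint_spec X).specializes (Set.mem_univ y))
  have hφ' : CommRingCat.ofHom φ.toRingHom ≫ sy = sx := by
    ext a
    exact hφ a
  have : IsDominant (Spec.map sy) := isDominant_SpecMap_of_injective sy hinjy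
  have hab : X.fromSpecStalk y = Spec.map (CommRingCat.ofHom φ.toRingHom) ≫ X.fromSpecStalk x := by
    refine ext_of_isDominant_of_isSeparated (terminal.from X) (terminal.hom_ext _ _) (Spec.map sy) ?_
    rw [Scheme.SpecMap_stalkSpecializes_fromSpecStalk, ← Category.assoc, ← Spec.map_comp, hφ',
      Scheme.SpecMap_stalkSpecializes_fromSpecStalk]
  have h1 := congrArg (fun ψ : Spec (X.presheaf.stalk y) ⟶ X => ψ (IsLocalRing.closedPoint _)) hab
  simp only [Scheme.Hom.comp_apply] at h1
  rw [Scheme.fromSpecStalk_closedPoint] at h1
  have h2 : (Spec.map (CommRingCat.ofHom φ.toRingHom)) (IsLocalRing.closedPoint _) =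
      IsLocalRing.closedPoint (X.presheaf.stalk x) :=
    have : IsLocalHom φ.toRingHom := ⟨fun a ha => (isUnit_map_iff φ a).1 ha⟩
    IsLocalRing.comap_closedPoint φ.toRingHom
  rw [h2, Scheme.fromSpecStalk_closedPoint] at h1
  exact h1.symm

end Groth.Agent.Lib.Helper6
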