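import Groth.Prelude
import Mathlib

open AlgebraicGeometry CategoryTheory

namespace Groth.Agent.Lib.Helper6

universe u

theorem eq_top_of_sup_eq_top_of_le_jacobson {A : Type*} [CommRing A] (𝔞 J : Ideal A)
    (hJ : J ≤ Ideal.jacobson ⊥) (h : 𝔞 ⊔ J = ⊤) : 𝔞 = ⊤ := by
  have h1 : (1 : A) ∈ 𝔞 ⊔ J := by rw [h]; trivial
  obtain ⟨a, ha, j, hj, haj⟩ := Submodule.mem_sup.mp h1
  have hu : IsUnit (-j * 1 + 1) := (Ideal.mem_jacobson_bot.mp (Ideal.neg_mem_iff _ |>.mpr (hJ hj))) 1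
  have : a = -j * 1 + 1 := by linear_combination haj
  rw [← this] at hu
  exact Ideal.eq_top_of_isUnit_mem _ ha hu

theorem opens_eq_top_of_isClosedMap_of_isAdicComplete (A : Type u) [CommRing A] [IsNoetherianRing A]
    (J : Ideal A) [IsAdicComplete J A] {X : Scheme.{u}} (f : X ⟶ Spec (CommRingCat.of A))
    (hf : IsClosedMap f.base) (U : X.Opens)
    (hU : f.base ⁻¹' (PrimeSpectrum.zeroLocus (J : Set A)) ⊆ (U : Set X)) : U = ⊤ := by
  have hZ : IsClosed (f.base '' (U : Set X)ᶜ) := hf _ U.isOpen.isClosed_compl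
  obtain ⟨s, hs⟩ := (PrimeSpectrum.isClosed_iff_zeroLocus _).mp hZ
  have hdisj : PrimeSpectrum.zeroLocus (s : Set A) ∩ PrimeSpectrum.zeroLocus (J : Set A) = ∅ := by
    rw [← hs]
    ext p
    simp only [Set.mem_inter_iff, Set.mem_image, Set.mem_compl_iff, Set.mem_empty_iff_false,
      iff_false, not_and]
    rintro ⟨x, hxU, rfl⟩ hx
    exact hxU (hU hx)
  have h1 : Ideal.span s ⊔ J = ⊤ := by
    rw [← PrimeSpectrum.zeroLocus_empty_iff_eq_top, PrimeSpectrum.zeroLocus_sup,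
      PrimeSpectrum.zeroLocus_span]
    exact hdisj
  have h2 : Ideal.span s = ⊤ :=
    eq_top_of_sup_eq_top_of_le_jacobson _ J (IsAdicComplete.le_jacobson_bot J) h1
  have h3 : f.base '' (U : Set X)ᶜ = ∅ := by
    rw [hs, ← PrimeSpectrum.zeroLocus_span, h2]
    exact PrimeSpectrum.zeroLocus_empty_iff_eq_top.mpr rfl
  have h4 : (U : Set X)ᶜ = ∅ := Set.image_eq_empty.mp h3
  ext x
  simp only [TopologicalSpace.Opens.coe_top, Set.mem_univ, iff_true]
  by_contra hx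
  have : x ∈ (U : Set X)ᶜ := hx
  rw [h4] at this
  exact this

end Groth.Agent.Lib.Helper6
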