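import Groth.Agent.Lib.Helper6SSVanish

/-!
# Vanishing of `H¹` for stable bundles of slope `≥ 2g - 2` and rank `≥ 2`, without Serre duality
(helper6): S11813
-/

set_option autoImplicit false
set_option linter.style.haveILetI false
universe u
open CategoryTheory Limits AlgebraicGeometry Opposite TopologicalSpace

namespace Groth.Agent.Lib.Helper6.SSVanish

open Groth.Agent.Lib.Helper4.CurveBun Groth.Agent.Lib.Helper4.DegAdd Groth.Agent.Lib.Helper4.CurveRR
  Groth.Agent.Lib.Helper4.Dev Groth.Agent.Lib.Helper6.CurveDeg Groth.Agent.Lib.Helper27ExtDual1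
  Groth.Agent.Lib.Helper4.CurveStab Groth.Agent.Lib.Helper27GlobGenPn Groth.Agent.Lib.Helper23.SecTw

variable (k : Type u) [Field k] (X : Scheme.{u}) [X.Over (Spec (CommRingCat.of k))]
  [IsIntegral X] [IsProper (X ↘ (Spec (CommRingCat.of k)))]

/-- a line bundle of degree `> c` has all quotient bundles of slope `> c` -/
theorem quotGt_of_rank_one (hpid : PIDStalks X) (c : ℤ) (N : X.Modules)
    (hN : FlatMod.IsFinLocFreeOfRank 1 N) (hdeg : c < Curv2.deg k X N 1) : QuotGt k X c N := by
  intro F s p hp hs hF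
  haveI := hp
  obtain ⟨a, hra, hK, hd⟩ := Groth.Agent.Lib.Helper4.CurveSat.kernel_of_epi k X hpid p 1 s hN hF
  have hs1 : s = 1 := by omega
  have ha0 : a = 0 := by omega
  subst hs1
  subst ha0
  rw [deg_rank_zero k _ hK, zero_add] at hd
  rw [← hd]
  simpa using hdeg

omit [IsIntegral X] in
/-- **twisting trick**: if `χ(E ⊗ N^∨) > 0`, i.e. `r deg N < deg E + r χ(O)`, there is a nonzero map `N ⟶ E` -/
theorem exists_hom_ne_zero_of_deg (hdim : topologicalKrullDim X = 1) (N : X.Modules)
    (hNinv : PicF.IsInvertible N) (r : ℕ) (E : X.Modules) (hE : FlatMod.IsFinLocFreeOfRank r E)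
    (h : (r : ℤ) * Curv2.deg k X N 1 <
      Curv2.deg k X E r + (r : ℤ) * Curv2.euler k X (Coh.structureModule X)) :
    ∃ t : N ⟶ E, t ≠ 0 := by
  haveI : IsLocallyNoetherian X := isLocallyNoetherian_of_proper k X
  have cE := isCoh_of_isFinLocFreeOfRank E r hE
  have hN1 := isFinLocFreeOfRank_one_of_isInvertible N hNinv
  have hDinv := Groth.Agent.Lib.Helper23.InvDual.isInvertible_dual N hNinv
  obtain ⟨e₀⟩ := Groth.Agent.Lib.Helper23.InvDual.nonempty_tensorMod_dual_iso N hNinv
  have hD1 := isFinLocFreeOfRank_one_of_isInvertible _ hDinv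
  obtain ⟨ν, hν⟩ := Groth.Agent.Lib.Helper27LinRes.exists_untwist (RefHull.dual N) N
    (Groth.Agent.Lib.Helper23.AmpleFam2.tensorBraid _ _ ≪≫ e₀)
  obtain ⟨ν', hν'⟩ := Groth.Agent.Lib.Helper27LinRes.exists_untwist N (RefHull.dual N) e₀
  have hdND := Groth.Agent.Lib.Helper4.CurveDegT.deg_tensor k X hdim.le 1 1 N (RefHull.dual N) hN1 hD1
  rw [Groth.Agent.Lib.Helper4.CurveSSAb.deg_congr_iso k X e₀ (1 * 1)] at hdND
  have hdO : Curv2.deg k X (Coh.structureModule X) (1 * 1) = 0 := by
    unfold Curv2.deg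
    push_cast
    ring
  rw [hdO] at hdND
  have hdED := Groth.Agent.Lib.Helper4.CurveDegT.deg_tensor k X hdim.le r 1 E (RefHull.dual N) hE hD1
  have cED : Coh.IsCoh (CohB1.tensorMod E (RefHull.dual N)) :=
    Groth.Agent.Lib.Helper4.CurveChi.isCoh_tensorMod_locFree E (RefHull.dual N) cE 1 hD1
  have hχED : 0 < Curv2.euler k X (CohB1.tensorMod E (RefHull.dual N)) := by
    have h1 : Curv2.deg k X (CohB1.tensorMod E (RefHull.dual N)) (r * 1) =
        Curv2.euler k X (CohB1.tensorMod E (RefHull.dual N)) -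
          ((r * 1 : ℕ) : ℤ) * Curv2.euler k X (Coh.structureModule X) := rfl
    rw [h1] at hdED
    push_cast at hdED hdND
    nlinarith
  have hh0 : 0 < Module.finrank k (Coh.HH X (CohB1.tensorMod E (RefHull.dual N)) 0) := by
    have := euler_le_h0 k X hdim.le _ cED
    zify
    linarith
  obtain ⟨t, ht⟩ := exists_hom_ne_zero k X _ hh0
  refine ⟨(Groth.Agent.Lib.Helper23.TensorUnit.unitTensorIso N).inv ≫ wl t N ≫ (ν E).hom, ?_⟩
  intro h
  apply ht
  have h1 : wl t N = 0 := by
    rw [← cancel_epi (Groth.Agent.Lib.Helper23.TensorUnit.unitTensorIso N).inv,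
      ← cancel_mono (ν E).hom, Category.assoc, h, comp_zero, zero_comp]
  have h2 := hν' t
  have h3 : wl (wl t N) (RefHull.dual N) = 0 := by
    rw [h1]
    exact (Groth.Agent.Lib.Helper27SerreVan.tw (RefHull.dual N)).map_zero _ _
  rw [h3, zero_comp] at h2
  rw [← cancel_epi (ν' (Coh.structureModule X)).hom, ← h2, comp_zero]

/-- S11813: stable of rank `≥ 2` and slope `≥ 2g - 2` has no `H¹` -/
theorem main_stable [IsAlgClosed k] [Smooth (X ↘ Spec (CommRingCat.of k))]
    (hdim : topologicalKrullDim X = 1)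
    (r : ℕ) (hr : 2 ≤ r) (E : X.Modules) (hE : FlatMod.IsFinLocFreeOfRank r E)
    (hst : ModFun.IsSlopeStable k X E r)
    (hdeg : (r : ℤ) * (2 * (Curv2.genus k X : ℤ) - 2) ≤ Curv2.deg k X E r) :
    Subsingleton (Coh.HH X E 1) := by
  have hpid : PIDStalks X := pidStalks_of_smooth k X (X ↘ Spec (CommRingCat.of k)) hdim.le
  haveI : IsLocallyNoetherian X := isLocallyNoetherian_of_proper k X
  haveI : Nonempty X := nonempty_of_dim_eq_one hdim
  have hpt := Groth.Agent.Lib.Helper6.PointIdeal.exists_invertible_deg_neg_one k X hpid hdim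
  have hr0 : (0 : ℤ) < (r : ℤ) := by
    have : 0 < r := by omega
    exact_mod_cast this
  by_contra hns
  have cE := isCoh_of_isFinLocFreeOfRank E r hE
  have hO1 : FlatMod.IsFinLocFreeOfRank 1 (Coh.structureModule X) :=
    isFinLocFreeOfRank_one_of_isInvertible _
      (Groth.Agent.Lib.Helper23.TensorUnit.isInvertible_structureModule X)
  have hPQ : ProperQuotGt k X (2 * (Curv2.genus k X : ℤ) - 2) r E := by
    intro F s p hp hs hsr hF
    haveI := hp
    obtain ⟨a, hra, hK, hd⟩ := Groth.Agent.Lib.Helper4.CurveSat.kernel_of_epi k X hpid p r s hE hF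
    have ha : 0 < a := by omega
    have har : a < r := by omega
    have h1 := hst (kernel p) a (kernel.ι p) inferInstance ha har hK
    have hra' : (r : ℤ) = (a : ℤ) + (s : ℤ) := by exact_mod_cast hra
    have hs' : (0 : ℤ) < (s : ℤ) := by exact_mod_cast hs
    have h2 : Curv2.deg k X E r * (s : ℤ) < Curv2.deg k X F s * (r : ℤ) := by
      rw [hd] at h1 ⊢
      rw [hra'] at h1 ⊢
      linarith
    have h3 : (r : ℤ) * ((s : ℤ) * (2 * (Curv2.genus k X : ℤ) - 2)) < (r : ℤ) * Curv2.deg k X F s := by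
      nlinarith
    exact lt_of_mul_lt_mul_left h3 hr0.le
  have IH' : ∀ r' < r, ∀ E' : X.Modules, FlatMod.IsFinLocFreeOfRank r' E' →
      QuotGt k X (2 * (Curv2.genus k X : ℤ) - 2) E' → Subsingleton (Coh.HH X E' 1) :=
    fun r' _ E' hE' hQ' => vanish_of_quotGt k X hpid hdim (fun _ => hpt) r' E' hE' hQ'
  have hsurj : ∀ (N : X.Modules), FlatMod.IsFinLocFreeOfRank 1 N → ∀ t : N ⟶ E, t ≠ 0 →
      Function.Surjective (Canon.HHlin k t 1) :=
    fun N hN t ht => HHlin_one_surjective_of_quot k X hpid hdim _ r IH' E hE hPQ N hN t ht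
  have h0g := h0_le_genus k X E (fun s hs => hsurj _ hO1 s hs) hns
  have hχ := euler_eq_h0_sub_h1 k X hdim.le E cE
  have hχO := Groth.Agent.Lib.Helper6.H0Semi.euler_structureModule k X hdim
  haveI : Module.Finite k (Coh.HH X E 1) := Groth.Agent.S0002.result k X E cE 1
  haveI : Nontrivial (Coh.HH X E 1) := not_subsingleton_iff_nontrivial.1 hns
  have hpos : 0 < Module.finrank k (Coh.HH X E 1) := Module.finrank_pos
  have hdE' : Curv2.deg k X E r = Curv2.euler k X E - r * (1 - (Curv2.genus k X : ℤ)) := by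
    unfold Curv2.deg
    rw [hχO]
  have h0g' : (Module.finrank k (Coh.HH X E 0) : ℤ) ≤ (Curv2.genus k X : ℤ) := by exact_mod_cast h0g
  have hpos' : (0 : ℤ) < (Module.finrank k (Coh.HH X E 1) : ℤ) := by exact_mod_cast hpos
  have hr2 : (2 : ℤ) ≤ (r : ℤ) := by exact_mod_cast hr
  rw [hχ] at hdE'
  have hkey : ((r : ℤ) - 1) * ((Curv2.genus k X : ℤ) - 1) ≤ 0 := by
    rw [hdE'] at hdeg
    nlinarith
  have hg1 : Curv2.genus k X ≤ 1 := by
    by_contra hg
    have hg2 : (2 : ℤ) ≤ (Curv2.genus k X : ℤ) := by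
      have : 2 ≤ Curv2.genus k X := by omega
      exact_mod_cast this
    nlinarith
  rcases Nat.eq_zero_or_pos (Curv2.genus k X) with hg0 | hgpos
  · -- genus zero
    rw [hg0] at hdE' hdeg h0g' hχO
    obtain ⟨N, hNinv, hNdeg⟩ := hpt
    have hN1 := isFinLocFreeOfRank_one_of_isInvertible N hNinv
    rcases lt_or_eq_of_le hdeg with hlt | heq
    · -- one twist
      obtain ⟨t, ht⟩ := exists_hom_ne_zero_of_deg k X hdim N hNinv r E hE (by
        rw [hNdeg, hχO]
        push_cast at hlt ⊢
        linarith)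
      have hsN := hsurj N hN1 t ht
      have hH1N : Subsingleton (Coh.HH X N 1) := by
        refine vanish_of_quotGt k X hpid hdim (fun _ => ⟨N, hNinv, hNdeg⟩) 1 N hN1
          (quotGt_of_rank_one k X hpid _ N hN1 ?_)
        rw [hNdeg, hg0]
        norm_num
      apply hns
      refine ⟨fun x y => ?_⟩
      obtain ⟨x', hx'⟩ := hsN x
      obtain ⟨y', hy'⟩ := hsN y
      rw [← hx', ← hy', hH1N.elim x' y']
    · -- two twists
      have hN2inv : PicF.IsInvertible (CohB1.tensorMod N N) := isInvertible_tensorMod hNinv hNinv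
      have hN21 := isFinLocFreeOfRank_one_of_isInvertible _ hN2inv
      have cN2 := isCoh_of_isFinLocFreeOfRank _ 1 hN21
      have hdN2 := Groth.Agent.Lib.Helper4.CurveDegT.deg_tensor k X hdim.le 1 1 N N hN1 hN1
      rw [hNdeg] at hdN2
      have hdN2' : Curv2.deg k X (CohB1.tensorMod N N) 1 = -2 := by
        have : (1 * 1 : ℕ) = 1 := rfl
        rw [this] at hdN2
        rw [hdN2]
        norm_num
      obtain ⟨t, ht⟩ := exists_hom_ne_zero_of_deg k X hdim _ hN2inv r E hE (by
        rw [hdN2', hχO, ← heq]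
        push_cast
        linarith)
      have hsN := hsurj _ hN21 t ht
      haveI : Module.Finite k (Coh.HH X (CohB1.tensorMod N N) 1) := Groth.Agent.S0002.result k X _ cN2 1
      have hle : Module.finrank k (Coh.HH X E 1) ≤ Module.finrank k (Coh.HH X (CohB1.tensorMod N N) 1) :=
        LinearMap.finrank_le_finrank_of_surjective hsN
      have hχN2 := euler_eq_h0_sub_h1 k X hdim.le _ cN2
      have hh0N2 : Module.finrank k (Coh.HH X (CohB1.tensorMod N N) 0) = 0 := by
        by_contra hne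
        obtain ⟨s, hs⟩ := exists_hom_ne_zero k X (CohB1.tensorMod N N) (Nat.pos_of_ne_zero hne)
        have := deg_nonneg k X hdim _ hN2inv s hs
        rw [hdN2'] at this
        exact absurd this (by norm_num)
      have hdN2'' : Curv2.deg k X (CohB1.tensorMod N N) 1 =
          Curv2.euler k X (CohB1.tensorMod N N) - ((1 : ℕ) : ℤ) * Curv2.euler k X (Coh.structureModule X) := rfl
      rw [hdN2', hχO, hχN2, hh0N2] at hdN2''
      have hle' : (Module.finrank k (Coh.HH X E 1) : ℤ) ≤
          (Module.finrank k (Coh.HH X (CohB1.tensorMod N N) 1) : ℤ) := by exact_mod_cast hle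
      have h00 : (0 : ℤ) ≤ (Module.finrank k (Coh.HH X E 0) : ℤ) := Int.natCast_nonneg _
      push_cast at hdN2'' heq hdE'
      rw [hdE'] at heq
      nlinarith
  · -- genus one
    have hg : Curv2.genus k X = 1 := by omega
    rw [hg] at hdE' hdeg h0g'
    have hh0 : 0 < Module.finrank k (Coh.HH X E 0) := by
      zify
      push_cast at hdeg hdE'
      rw [hdE'] at hdeg
      linarith
    obtain ⟨s, hs⟩ := exists_hom_ne_zero k X E hh0
    haveI : Mono s := mono_of_ne_zero_of_rank_one k X hpid r hO1 hE s hs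
    have h1 := hst _ 1 s inferInstance one_pos (by omega) hO1
    rw [deg_structureModule] at h1
    push_cast at hdeg hdE' h1
    rw [hdE'] at h1
    linarith

end Groth.Agent.Lib.Helper6.SSVanish
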