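import Mathlib
import Groth.Agent.Lib.Helper6RatPt
import Groth.Agent.Lib.Helper5RLR

/-!
# Sections of regular flat families over a Dedekind base land in the smooth locus (helper6)
-/

set_option autoImplicit false
universe u
open TensorProduct IsLocalRing CategoryTheory AlgebraicGeometry

namespace Groth.Agent.Lib.Helper6.SecSm

open Groth.Agent.Lib.Helper6.RegSm in
/-- A regular local ring essentially of finite type over a field `k` with residue field `k`
is formally smooth over `k`. -/
theorem formallySmooth_of_isRegularLocalRing_of_bijective (k B : Type u) [Field k] [CommRing B]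
    [Algebra k B] [IsLocalRing B] [Algebra.EssFiniteType k B]
    (hres : Function.Bijective (algebraMap k (ResidueField B))) [IsRegularLocalRing B] :
    Algebra.FormallySmooth k B := by
  let S₀ := Algebra.EssFiniteType.subalgebra k B
  let M := Algebra.EssFiniteType.submonoid k B
  let q : Ideal S₀ := (maximalIdeal B).comap (algebraMap S₀ B)
  haveI : q.IsPrime := Ideal.comap_isPrime _ _
  have hM : M ≤ q.primeCompl := by
    intro x hx hxq
    have h1 : IsUnit (algebraMap S₀ B x) := hx
    exact (mem_maximalIdeal _).mp hxq h1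
  haveI : IsLocalization.AtPrime B q := by
    refine IsLocalization.of_le M q.primeCompl hM ?_
    intro r hr
    by_contra hnu
    exact hr ((mem_maximalIdeal _).mpr hnu)
  let e : Localization.AtPrime q ≃ₐ[S₀] B := IsLocalization.algEquiv q.primeCompl _ _
  haveI : IsRegularLocalRing (Localization.AtPrime q) :=
    IsRegularLocalRing.of_ringEquiv e.symm.toRingEquiv
  haveI : Algebra.EssFiniteType k q.ResidueField := Algebra.EssFiniteType.comp k S₀ _
  have hbij : Function.Bijective (algebraMap k q.ResidueField) := by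
    refine ⟨RingHom.injective _, fun y => ?_⟩
    obtain ⟨z, rfl⟩ := IsLocalRing.residue_surjective (R := Localization.AtPrime q) y
    obtain ⟨c, hc⟩ := hres.2 (residue B (e z))
    refine ⟨c, ?_⟩
    rw [IsScalarTower.algebraMap_apply k (Localization.AtPrime q) q.ResidueField,
      IsLocalRing.ResidueField.algebraMap_eq]
    rw [IsScalarTower.algebraMap_apply k B (ResidueField B),
      IsLocalRing.ResidueField.algebraMap_eq] at hc
    rw [← sub_eq_zero, ← map_sub, residue_eq_zero_iff] at hc ⊢
    have h2 : e (algebraMap k (Localization.AtPrime q) c - z) = algebraMap k B c - e z := by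
      rw [map_sub]
      congr 1
      rw [IsScalarTower.algebraMap_apply k S₀ (Localization.AtPrime q), e.commutes,
        ← IsScalarTower.algebraMap_apply]
    by_contra hnu
    have hu : IsUnit (algebraMap k (Localization.AtPrime q) c - z) := by
      by_contra h'
      exact hnu ((mem_maximalIdeal _).mpr h')
    have := hu.map e
    rw [h2] at this
    exact (mem_maximalIdeal _).mp hc this
  haveI : Algebra.FormallySmooth k q.ResidueField :=
    Algebra.FormallySmooth.of_equiv (AlgEquiv.ofBijective (Algebra.ofId k _) hbij)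
  have hsm : Algebra.FormallySmooth k (Localization.AtPrime q) :=
    isSmoothAt_of_isRegularLocalRing k S₀ q
  exact Algebra.FormallySmooth.of_equiv (e.restrictScalars k)

/-- a retraction maps the maximal ideal into the maximal ideal. -/
theorem retraction_mem (A B : Type u) [CommRing A] [CommRing B] [IsLocalRing A] [IsLocalRing B]
    [Algebra A B] (ρ : B →ₐ[A] A) (b : B) (hb : b ∈ maximalIdeal B) : ρ b ∈ maximalIdeal A := by
  by_contra h
  have hu : IsUnit (ρ b) := by
    by_contra h'
    exact h ((mem_maximalIdeal _).mpr h')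
  have h1 : b - algebraMap A B (ρ b) ∈ RingHom.ker ρ.toRingHom := by
    rw [RingHom.mem_ker]
    simp
  have h2 : RingHom.ker ρ.toRingHom ≤ maximalIdeal B :=
    IsLocalRing.le_maximalIdeal (RingHom.ker_ne_top _)
  have h3 : algebraMap A B (ρ b) ∈ maximalIdeal B := by
    have := (maximalIdeal B).sub_mem hb (h2 h1)
    simpa using this
  exact (mem_maximalIdeal _).mp h3 (hu.map (algebraMap A B))

theorem isRegularLocalRing_fibre (A B : Type u) [CommRing A] [CommRing B] [IsLocalRing A]
    [IsDomain A] [IsPrincipalIdealRing A] [Algebra A B]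
    [IsLocalHom (algebraMap A B)] [IsRegularLocalRing B] (ρ : B →ₐ[A] A) :
    IsRegularLocalRing (B ⧸ (maximalIdeal A).map (algebraMap A B)) := by
  obtain ⟨π, hπ⟩ := (IsPrincipalIdealRing.principal (maximalIdeal A)).principal
  have hπ' : maximalIdeal A = Ideal.span {π} := hπ
  have hmap : (maximalIdeal A).map (algebraMap A B) = Ideal.span {algebraMap A B π} := by
    rw [hπ', Ideal.map_span, Set.image_singleton]
  have hπm : π ∈ maximalIdeal A := by rw [hπ']; exact Ideal.mem_span_singleton_self π
  by_cases h0 : π = 0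
  · have hbot : (maximalIdeal A).map (algebraMap A B) = ⊥ := by
      rw [hmap, h0, map_zero]; simp
    exact IsRegularLocalRing.of_ringEquiv
      ((Ideal.quotEquivOfEq hbot).trans (RingEquiv.quotientBot B)).symm
  · have hx : algebraMap A B π ∈ maximalIdeal B := by
      rw [mem_maximalIdeal, mem_nonunits_iff]
      intro hu
      exact (mem_maximalIdeal _).mp hπm (isUnit_of_map_unit (algebraMap A B) π hu)
    have hx2 : algebraMap A B π ∉ maximalIdeal B ^ 2 := by
      intro hmem
      have h1 : ρ (algebraMap A B π) ∈ (maximalIdeal B ^ 2).map ρ.toRingHom :=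
        Ideal.mem_map_of_mem _ hmem
      have h2 : (maximalIdeal B ^ 2).map ρ.toRingHom ≤ maximalIdeal A ^ 2 := by
        rw [Ideal.map_pow]
        refine Ideal.pow_right_mono ?_ 2
        rw [Ideal.map_le_iff_le_comap]
        intro b hb
        exact retraction_mem A B ρ b hb
      have h3 : π ∈ maximalIdeal A ^ 2 := by
        have := h2 h1
        simpa using this
      rw [hπ', Ideal.span_singleton_pow, Ideal.mem_span_singleton'] at h3
      obtain ⟨c, hc⟩ := h3
      have h4 : π * (c * π - 1) = 0 := by linear_combination hc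
      rcases mul_eq_zero.mp h4 with h5 | h5
      · exact h0 h5
      · have : IsUnit π := IsUnit.of_mul_eq_one c (by linear_combination h5)
        exact (mem_maximalIdeal _).mp hπm this
    haveI : Nontrivial (B ⧸ Ideal.span ({algebraMap A B π} : Set B)) :=
      Ideal.Quotient.nontrivial_iff.2 (fun h => by
        have : (1 : B) ∈ Ideal.span ({algebraMap A B π} : Set B) := by rw [h]; trivial
        have h6 : Ideal.span ({algebraMap A B π} : Set B) ≤ maximalIdeal B := by
          rw [Ideal.span_singleton_le_iff_mem]; exact hx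
        exact (maximalIdeal.isMaximal B).ne_top ((Ideal.eq_top_iff_one _).2 (h6 this)))
    haveI : IsLocalRing (B ⧸ Ideal.span ({algebraMap A B π} : Set B)) :=
      IsLocalRing.of_surjective' (Ideal.Quotient.mk _) Ideal.Quotient.mk_surjective
    have := (Groth.Agent.Lib.Helper5.isRegularLocalRing_quotient_span_singleton hx hx2).1
    exact IsRegularLocalRing.of_ringEquiv (Ideal.quotEquivOfEq hmap).symm

theorem formallySmooth_fibre (A B : Type u) [CommRing A] [CommRing B] [IsLocalRing A]
    [IsLocalRing B] [IsDomain A] [IsPrincipalIdealRing A] [Algebra A B]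
    [IsLocalHom (algebraMap A B)] [Algebra.EssFiniteType A B] [IsRegularLocalRing B]
    (ρ : B →ₐ[A] A) :
    Algebra.FormallySmooth (ResidueField A) (ResidueField A ⊗[A] B) := by
  haveI : IsLocalRing (ResidueField A ⊗[A] B) := inferInstance
  haveI : Algebra.EssFiniteType (ResidueField A) (ResidueField A ⊗[A] B) := inferInstance
  let ρ' : ResidueField A ⊗[A] B →ₐ[ResidueField A] ResidueField A :=
    (Algebra.TensorProduct.rid A (ResidueField A) (ResidueField A)).toAlgHom.comp
      (Algebra.TensorProduct.map (AlgHom.id (ResidueField A) (ResidueField A)) ρ)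
  have hres : Function.Bijective
      (algebraMap (ResidueField A) (ResidueField (ResidueField A ⊗[A] B))) := by
    refine ⟨RingHom.injective _, fun y => ?_⟩
    obtain ⟨c, rfl⟩ := IsLocalRing.residue_surjective y
    refine ⟨ρ' c, ?_⟩
    rw [IsScalarTower.algebraMap_apply (ResidueField A) (ResidueField A ⊗[A] B)
      (ResidueField (ResidueField A ⊗[A] B)), IsLocalRing.ResidueField.algebraMap_eq,
      ← sub_eq_zero, ← map_sub, residue_eq_zero_iff]
    have h1 : algebraMap (ResidueField A) (ResidueField A ⊗[A] B) (ρ' c) - c ∈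
        RingHom.ker ρ'.toRingHom := by
      rw [RingHom.mem_ker, map_sub]
      change ρ' (algebraMap _ _ (ρ' c)) - ρ' c = 0
      rw [AlgHom.commutes]
      simp
    exact IsLocalRing.le_maximalIdeal (RingHom.ker_ne_top _) h1
  haveI : IsRegularLocalRing (B ⧸ (maximalIdeal A).map (algebraMap A B)) :=
    isRegularLocalRing_fibre A B ρ
  haveI : IsRegularLocalRing (ResidueField A ⊗[A] B) :=
    IsRegularLocalRing.of_ringEquiv
      (Algebra.TensorProduct.quotIdealMapEquivQuotTensor B (maximalIdeal A)).toRingEquiv
  exact formallySmooth_of_isRegularLocalRing_of_bijective _ _ hres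

open Algebra in
theorem isSmoothAt_of_retraction {R S : Type u} [CommRing R] [CommRing S]
    [Algebra R S] [Module.Flat R S] [Algebra.FinitePresentation R S] (p : Ideal R) (q : Ideal S)
    [p.IsPrime] [q.IsPrime] [q.LiesOver p] [IsRegularLocalRing (Localization.AtPrime q)]
    (A' : Type u) [CommRing A'] [IsDomain A'] [IsPrincipalIdealRing A']
    [Algebra R A'] [IsLocalization.AtPrime A' p]
    (σ : Localization.AtPrime q →+* A')
    (hσ : ∀ r, σ (algebraMap R (Localization.AtPrime q) r) = algebraMap R A' r) :
    Algebra.IsSmoothAt R q := by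
  let Rp := Localization.AtPrime p
  let Sp := Localization (algebraMapSubmonoid S p.primeCompl)
  let Sq := Localization.AtPrime q
  let := Localization.AtPrime.algebraOfLiesOver p q
  let f : Sp →ₐ[S] Sq := IsLocalization.liftAlgHom (M := algebraMapSubmonoid S p.primeCompl)
        (f := Algebra.ofId _ _) (by
      rintro ⟨_, x, hx, rfl⟩
      simpa using! IsLocalization.map_units (M := q.primeCompl) Sq ⟨algebraMap _ _ x,
        by simp_all [q.over_def p]⟩)
  algebraize [f.toRingHom]
  have : IsScalarTower R Sp Sq := .to₁₃₄ _ S _ _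
  have : IsScalarTower Rp Sp Sq := .of_algebraMap_eq' <| by
    apply IsLocalization.ringHom_ext p.primeCompl
    simp only [RingHom.comp_assoc, ← IsScalarTower.algebraMap_eq]
  have : IsLocalization (algebraMapSubmonoid Sp q.primeCompl) Sq :=
    .isLocalization_of_submonoid_le _ _ (algebraMapSubmonoid S p.primeCompl) _
    (by rintro _ ⟨x, hx, rfl⟩; simp_all [q.over_def p])
  have : FinitePresentation Rp Sp := by
    have : Algebra.IsPushout R Rp S Sp :=
      .symm <| Algebra.isPushout_of_isLocalization p.primeCompl _ _ _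
    exact .equiv (Algebra.IsPushout.equiv R Rp S Sp)
  haveI : Algebra.EssFiniteType Sp Sq :=
    Algebra.EssFiniteType.of_isLocalization Sq (algebraMapSubmonoid Sp q.primeCompl)
  haveI : Algebra.EssFiniteType Rp Sq := Algebra.EssFiniteType.comp Rp Sp Sq
  let e : Rp ≃ₐ[R] A' := IsLocalization.algEquiv p.primeCompl Rp A'
  haveI : IsDomain Rp := e.toRingEquiv.toMulEquiv.isDomain A'
  haveI : IsPrincipalIdealRing Rp :=
    IsPrincipalIdealRing.of_surjective e.symm.toRingEquiv.toRingHom e.symm.surjective
  let ρ₀ : Sq →+* Rp := e.symm.toRingEquiv.toRingHom.comp σ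
  have hρ₀' : ρ₀.comp (algebraMap Rp Sq) = RingHom.id Rp := by
    apply IsLocalization.ringHom_ext p.primeCompl
    ext r
    simp only [RingHom.comp_apply, RingHom.id_apply]
    rw [← IsScalarTower.algebraMap_apply R Rp Sq]
    change e.symm (σ (algebraMap R Sq r)) = _
    rw [hσ, ← e.commutes r, e.symm_apply_apply]
  let ρ : Sq →ₐ[Rp] Rp := { ρ₀ with commutes' := fun a => RingHom.congr_fun hρ₀' a }
  haveI : IsRegularLocalRing Sq := ‹_›
  have : FormallySmooth (ResidueField Rp) (ResidueField Rp ⊗[Rp] Sq) :=
    formallySmooth_fibre Rp Sq ρ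
  have := FormallySmooth.of_formallySmooth_residueField_tensor
    (R := Rp) (S := Sq) (P := Sp) (algebraMapSubmonoid _ q.primeCompl)
  exact .comp R Rp Sq

theorem main {R : Type u} [CommRing R] [IsDedekindDomain R]
    {X : Scheme.{u}} (p : X ⟶ Spec (CommRingCat.of R)) [Flat p] [LocallyOfFinitePresentation p]
    (hreg : ∀ x : X, IsRegularLocalRing (X.presheaf.stalk x))
    (s : Spec (CommRingCat.of R) ⟶ X) (hs : s ≫ p = 𝟙 _) (t : Spec (CommRingCat.of R)) :
    s.base t ∈ p.smoothLocus := by
  obtain ⟨W, hW, hxW, -⟩ := exists_isAffineOpen_mem_and_subset (X := X) (x := s t)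
    (U := ⊤) trivial
  have hU := isAffineOpen_top (Spec (CommRingCat.of R))
  have hWU : W ≤ p ⁻¹ᵁ ⊤ := le_top
  have hfp := p.finitePresentation_appLE hU hW hWU
  have hflat := p.flat_appLE hU hW hWU
  rw [Scheme.Hom.mem_smoothLocus, formallySmooth_stalkMap_iff ⊤ hU W hW hWU hxW]
  algebraize [(p.appLE ⊤ W hWU).hom]
  have hpt : p (s t) = t := by
    have := congrArg (fun h : Spec (CommRingCat.of R) ⟶ Spec (CommRingCat.of R) => h t) hs
    simpa using this
  set q' : Ideal Γ(X, W) := (hW.primeIdealOf ⟨s t, hxW⟩).asIdeal with hq'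
  set p' : Ideal Γ(Spec (CommRingCat.of R), ⊤) := (hU.primeIdealOf ⟨t, trivial⟩).asIdeal with hp'
  haveI : q'.LiesOver p' := by
    constructor
    have h1 := IsAffineOpen.comap_primeIdealOf_appLE (f := p) (x := s t) ⊤ hU W hW hWU hxW
    rw [hp', hq']
    have h2 : hU.primeIdealOf ⟨t, trivial⟩ = hU.primeIdealOf ⟨p (s t), trivial⟩ := by
      congr 1
      exact Subtype.ext hpt.symm
    rw [h2, ← h1]
    rfl
  -- regular
  letI := X.presheaf.algebra_section_stalk ⟨s t, hxW⟩
  haveI := hW.isLocalization_stalk ⟨s t, hxW⟩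
  let e' := IsLocalization.algEquiv q'.primeCompl
    (Localization.AtPrime q') (X.presheaf.stalk (s t))
  haveI : IsRegularLocalRing (X.presheaf.stalk (s t)) := hreg _
  haveI : IsRegularLocalRing (Localization.AtPrime q') :=
    IsRegularLocalRing.of_ringEquiv e'.toRingEquiv.symm
  -- the local ring of the base
  letI := (Spec (CommRingCat.of R)).presheaf.algebra_section_stalk
    (U := (⊤ : (Spec (CommRingCat.of R)).Opens)) ⟨t, trivial⟩
  haveI := hU.isLocalization_stalk ⟨t, trivial⟩
  let eA : Localization.AtPrime t.asIdeal ≃+* (Spec (CommRingCat.of R)).presheaf.stalk t :=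
    (StructureSheaf.stalkIso R t).toRingEquiv
  haveI : IsDomain ((Spec (CommRingCat.of R)).presheaf.stalk t) :=
    eA.symm.toMulEquiv.isDomain _
  haveI : IsPrincipalIdealRing ((Spec (CommRingCat.of R)).presheaf.stalk t) :=
    IsPrincipalIdealRing.of_surjective eA.toRingHom eA.surjective
  let σ : Localization.AtPrime q' →+* (Spec (CommRingCat.of R)).presheaf.stalk t :=
    (s.stalkMap t).hom.comp e'.toRingEquiv.toRingHom
  have hσ : ∀ r, σ (algebraMap Γ(Spec (CommRingCat.of R), ⊤) (Localization.AtPrime q') r) =
      algebraMap Γ(Spec (CommRingCat.of R), ⊤) ((Spec (CommRingCat.of R)).presheaf.stalk t) r := by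
    intro r
    have key : ∀ (h : Spec (CommRingCat.of R) ⟶ Spec (CommRingCat.of R)) (_ : h = 𝟙 _)
        (V : (Spec (CommRingCat.of R)).Opens) (e : V ≤ h ⁻¹ᵁ ⊤),
        h.appLE ⊤ V e = (Spec (CommRingCat.of R)).presheaf.map (homOfLE le_top).op := by
      rintro h rfl V e
      simp [Scheme.Hom.appLE]
    have h1 : algebraMap Γ(Spec (CommRingCat.of R), ⊤) (Localization.AtPrime q') r =
        algebraMap Γ(X, W) (Localization.AtPrime q')
          (algebraMap Γ(Spec (CommRingCat.of R), ⊤) Γ(X, W) r) :=
      IsScalarTower.algebraMap_apply _ _ _ r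
    change (s.stalkMap t).hom (e' (algebraMap _ (Localization.AtPrime q') r)) = _
    rw [h1, e'.commutes]
    change (s.stalkMap t).hom (X.presheaf.germ W (s t) hxW ((p.appLE ⊤ W hWU).hom r)) =
      (Spec (CommRingCat.of R)).presheaf.germ ⊤ t trivial r
    have h2 := Scheme.Hom.germ_stalkMap_apply s W t hxW ((p.appLE ⊤ W hWU).hom r)
    refine h2.trans ?_
    have h3 : (s.app W).hom ((p.appLE ⊤ W hWU).hom r) =
        ((Spec (CommRingCat.of R)).presheaf.map (homOfLE le_top).op).hom r := by
      rw [← key (s ≫ p) hs (s ⁻¹ᵁ W) le_top, ← Scheme.Hom.appLE_comp_appLE s p ⊤ W (s ⁻¹ᵁ W) hWU le_rfl,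
        Scheme.Hom.appLE_eq_app]
      rfl
    rw [h3]
    exact TopCat.Presheaf.germ_res_apply _ _ _ _ _
  exact isSmoothAt_of_retraction p' q' _ σ hσ

end Groth.Agent.Lib.Helper6.SecSm
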