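import Mathlib
import Groth.Prelude.Def_Curv2
import Groth.Agent.Lib.Helper6GeomComp3

set_option autoImplicit false
universe u
open CategoryTheory CategoryTheory.Limits AlgebraicGeometry TensorProduct

namespace Groth.Agent.Lib.Helper6.SelfProd

open Groth.Agent.Lib.Helper6.BcBridge Groth.Agent.Lib.Helper6.SepCl
  Groth.Agent.Lib.Helper6.FinLevel Groth.Agent.Lib.Helper6.GalAct
  Groth.Agent.Lib.Helper6.IrrComp Groth.Agent.Lib.Helper6.ConnComp
  Groth.Agent.Lib.Helper6.SepComp Groth.Agent.Lib.Helper6.RelGal
  Groth.Agent.Lib.Helper6.FibCount Groth.Agent.Lib.Helper6.GeomComp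

section Ring

open Polynomial Groth.Agent.Lib.Helper14.GeomIrr

variable {k K : Type u} [Field k] [Field K] [Algebra k K]

/-- if `Spec (K ⊗_k K)` is irreducible then `k` is separably closed in `K` -/
theorem mem_range_of_isSeparable_of_self (h : (nilradical (K ⊗[k] K)).IsPrime)
    (α : K) (hα : IsSeparable k α) : α ∈ Set.range (algebraMap k K) := by
  have hint : IsIntegral k α := hα.isIntegral
  have hf : Irreducible (minpoly k α) := minpoly.irreducible hint
  haveI : Fact (Irreducible (minpoly k α)) := ⟨hf⟩
  let ψ : AdjoinRoot (minpoly k α) →ₐ[k] K :=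
    AdjoinRoot.liftAlgHom (minpoly k α) (Algebra.ofId k K) α (by
      have := minpoly.aeval k α
      rw [Polynomial.aeval_def] at this
      exact this)
  have hψ : Function.Injective ψ := ψ.toRingHom.injective
  have h1 : (nilradical (AdjoinRoot (minpoly k α) ⊗[k] K)).IsPrime :=
    isPrime_nilradical_of_injective
      (Algebra.TensorProduct.map ψ (AlgHom.id k K)).toRingHom (map_left_injective ψ hψ) h
  have h2 : (nilradical (AdjoinRoot ((minpoly k α).map (algebraMap k K)))).IsPrime :=
    isPrime_nilradical_of_ringEquiv
      ((adjoinRootTensorEquiv (K := K) (minpoly k α)).symm.toRingEquiv.trans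
        (Algebra.TensorProduct.comm k K (AdjoinRoot (minpoly k α))).toRingEquiv) h1
  have hsep : ((minpoly k α).map (algebraMap k K)).Separable := Polynomial.Separable.map hα
  have hirr := irreducible_of_isPrime_nilradical_adjoinRoot hsep h2
  have hroot : ((minpoly k α).map (algebraMap k K)).IsRoot α := by
    rw [IsRoot, Polynomial.eval_map, ← aeval_def, minpoly.aeval]
  have hdeg := degree_eq_one_of_irreducible_of_root hirr hroot
  rw [degree_map] at hdeg
  exact minpoly.mem_range_of_degree_eq_one k α hdeg

end Ring

section Fibre

/-- the generic fibre of a surjective morphism of irreducible schemes is irreducible -/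
theorem irreducibleSpace_generic_fibre {Y X : Scheme.{u}} (f : Y ⟶ X) [IrreducibleSpace Y]
    [IrreducibleSpace X] (hf : Function.Surjective f) :
    IrreducibleSpace ↥(pullback f (X.fromSpecResidueField (genericPoint X))) := by
  let ξ := genericPoint X
  let ι := X.fromSpecResidueField ξ
  have hξ' : f (genericPoint Y) = ξ := by
    have h1 : IsGenericPoint (f (genericPoint Y)) Set.univ := by
      rw [isGenericPoint_def, Set.eq_univ_iff_forall]
      intro x
      obtain ⟨w, rfl⟩ := hf x
      have hw : w ∈ closure {genericPoint Y} := by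
        rw [(genericPoint_spec Y).def]
        exact Set.mem_univ w
      have := image_closure_subset_closure_image f.continuous ⟨w, hw, rfl⟩
      rwa [Set.image_singleton] at this
    exact h1.eq (genericPoint_spec X)
  have hirr : IsIrreducible (f ⁻¹' {ξ}) := by
    refine ⟨⟨_, hξ'⟩, ?_⟩
    rintro U V hU hV ⟨u, -, hu⟩ ⟨v, -, hv⟩
    refine ⟨genericPoint Y, hξ', ?_, ?_⟩
    · rw [(genericPoint_spec Y).mem_open_set_iff hU]
      exact ⟨u, Set.mem_univ _, hu⟩
    · rw [(genericPoint_spec Y).mem_open_set_iff hV]
      exact ⟨v, Set.mem_univ _, hv⟩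
  have hrange : Set.range (pullback.fst f ι) = f ⁻¹' {ξ} := by
    rw [Scheme.Pullback.range_fst, Scheme.range_fromSpecResidueField]
  haveI : IsPreimmersion (pullback.fst f ι) :=
    MorphismProperty.pullback_fst (P := @IsPreimmersion) _ _ inferInstance
  exact irreducibleSpace_of_isInducing (pullback.fst f ι)
    (pullback.fst f ι).isEmbedding.isInducing (hrange ▸ hirr)

end Fibre

section Main

attribute [local instance] Curv2.resAlgebra

variable (k : Type u) [Field k] (X : Scheme.{u}) [X.Over (Spec (CommRingCat.of k))]

theorem geometricallyIrreducible_iff_irreducibleSpace_prod :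
    GeometricallyIrreducible (X ↘ Spec (CommRingCat.of k)) ↔
      IrreducibleSpace ↥(pullback (X ↘ Spec (CommRingCat.of k)) (X ↘ Spec (CommRingCat.of k))) := by
  let s := X ↘ Spec (CommRingCat.of k)
  constructor
  · intro h
    haveI : IrreducibleSpace X :=
      GeometricallyIrreducible.irreducibleSpace_of_subsingleton (f := s)
    infer_instance
  · intro h
    haveI : Nonempty X := ⟨pullback.fst s s (Classical.arbitrary _)⟩
    haveI : Surjective s := ⟨fun _ => ⟨Classical.arbitrary X, Subsingleton.elim _ _⟩⟩
    have hsurj : Function.Surjective (pullback.snd s s) :=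
      (inferInstance : Surjective (pullback.snd s s)).surj
    haveI : IrreducibleSpace X :=
      irreducibleSpace_of_surjective (pullback.snd s s).continuous hsurj
    rw [geometricallyIrreducible_iff_sepClosed_generic k X]
    let ξ := genericPoint X
    let ι := X.fromSpecResidueField ξ
    let κ := X.residueField ξ
    have h1 : IrreducibleSpace ↥(pullback (pullback.snd s s) ι) :=
      irreducibleSpace_generic_fibre (pullback.snd s s) hsurj
    let e1 := pullbackLeftPullbackSndIso s s ι
    let e2 : pullback s (ι ≫ s) ≅ Curv2.bc k X κ :=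
      pullback.congrHom rfl (specMap_resMap k X ξ).symm
    let e := e1 ≪≫ e2
    haveI : IrreducibleSpace ↥(Curv2.bc k X κ) :=
      irreducibleSpace_of_surjective e.hom.continuous e.hom.surjective
    have h2 := isPrime_nilradical_generic k X κ (Curv2.resMap k X ξ) (specMap_resMap k X ξ)
    intro a ha
    exact mem_range_of_isSeparable_of_self h2 a ha

end Main

end Groth.Agent.Lib.Helper6.SelfProd
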