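import Groth.Agent.Lib.Helper12SepGen
import Groth.Agent.Lib.Helper19FSField
import Mathlib

set_option autoImplicit false
universe u

namespace Groth.Agent.Lib.Helper6.SepGen

theorem sepGen_sub {k K : Type u} [Field k] [Field K] [Algebra k K]
    (h : ∃ (ι : Type u) (x : ι → K), IsTranscendenceBasis k x ∧
      Algebra.IsSeparable (IntermediateField.adjoin k (Set.range x)) K)
    (K' : IntermediateField k K) (hK' : ∃ s : Finset K, IntermediateField.adjoin k (s : Set K) = K') :
    ∃ (ι : Type u) (x : ι → K'), IsTranscendenceBasis k x ∧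
      Algebra.IsSeparable (IntermediateField.adjoin k (Set.range x)) K' := by
  obtain ⟨ι, x, hx, hsep⟩ := h
  haveI : Algebra.FormallySmooth k K :=
    Algebra.FormallySmooth.of_algebraicIndependent_of_isSeparable hx.1
  haveI : Algebra.IsGeometricallyReduced k K :=
    Groth.Agent.Lib.Helper19.PBasis.formallySmooth_field_iff.1 inferInstance
  haveI : Algebra.IsGeometricallyReduced k K' :=
    Algebra.IsGeometricallyReduced.of_injective K'.val K'.val.injective
  haveI : Algebra.EssFiniteType k K' := IntermediateField.essFiniteType_iff.2 hK'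
  obtain ⟨s, hs, hs'⟩ :=
    Groth.Agent.Lib.Helper12.SepGen.exists_isTranscendenceBasis_and_isSeparable k K'
  refine ⟨s, ((↑) : s → K'), hs, ?_⟩
  convert hs' <;> simp

end Groth.Agent.Lib.Helper6.SepGen
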