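import Groth.Agent.Lib.Helper4CurveHN2
import Groth.Agent.Lib.Helper6PullDeg
import Groth.Agent.Lib.Helper26ModRank
import Groth.Agent.Lib.Helper2PullbackSec

/-!
# Semistability with respect to an involution (helper6): S15156
-/

set_option autoImplicit false
set_option linter.style.haveILetI false
universe u
open CategoryTheory Limits AlgebraicGeometry Opposite TopologicalSpace

namespace Groth.Agent.Lib.Helper6.SigmaSS

section Equiv

variable {X : Scheme.{u}} (σ : X ⟶ X) (hσ : σ ≫ σ = 𝟙 X)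

/-- `σ^* σ^* ≅ id` for an involution `σ` -/
noncomputable def pullbackSqIso : Scheme.Modules.pullback σ ⋙ Scheme.Modules.pullback σ ≅ 𝟭 X.Modules :=
  Scheme.Modules.pullbackComp σ σ ≪≫ Scheme.Modules.pullbackCongr hσ ≪≫ Scheme.Modules.pullbackId X

include hσ in
/-- pullback along an involution is an equivalence -/
theorem isEquivalence_pullback : (Scheme.Modules.pullback σ).IsEquivalence :=
  (CategoryTheory.Equivalence.mk (Scheme.Modules.pullback σ) (Scheme.Modules.pullback σ)
    (pullbackSqIso σ hσ).symm (pullbackSqIso σ hσ)).isEquivalence_functor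

include hσ in
theorem mono_pullback_map {F G : X.Modules} (i : F ⟶ G) [Mono i] :
    Mono ((Scheme.Modules.pullback σ).map i) := by
  haveI := isEquivalence_pullback σ hσ
  infer_instance

include hσ in
theorem isIso_unit (F : X.Modules) :
    IsIso ((Scheme.Modules.pullbackPushforwardAdjunction σ).unit.app F) := by
  haveI := isEquivalence_pullback σ hσ
  infer_instance

end Equiv

section Euler

variable (k : Type u) [Field k] (X : Scheme.{u}) [X.Over (Spec (CommRingCat.of k))]

/-- the Euler characteristic is invariant under pullback along an involution over `k` -/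
theorem euler_pullback_involution [CompactSpace X] [QuasiSeparatedSpace X] (σ : X ⟶ X)
    (hσS : σ ≫ (X ↘ Spec (CommRingCat.of k)) = X ↘ Spec (CommRingCat.of k)) (hσ : σ ≫ σ = 𝟙 X)
    (F : X.Modules) [F.IsQuasicoherent] :
    Curv2.euler k X ((Scheme.Modules.pullback σ).obj F) = Curv2.euler k X F := by
  haveI : IsIso σ := ⟨σ, hσ, hσ⟩
  haveI : ((Scheme.Modules.pullback σ).obj F).IsQuasicoherent :=
    Groth.Agent.Lib.Helper2.PullbackSec.isQuasicoherent_pullback σ F
  rw [← Groth.Agent.Lib.Helper6.PullDeg.euler_push k X X σ hσS ((Scheme.Modules.pullback σ).obj F)]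
  haveI := isIso_unit σ hσ F
  exact (Groth.Agent.Lib.Helper4.CurveChi.euler_congr_iso k
    (asIso ((Scheme.Modules.pullbackPushforwardAdjunction σ).unit.app F))).symm

end Euler


section Main

open Groth.Agent.Lib.Helper4.CurveBun

variable (k : Type u) [Field k] (X : Scheme.{u}) [X.Over (Spec (CommRingCat.of k))]
  [IsIntegral X] [IsProper (X ↘ (Spec (CommRingCat.of k)))]

/-- **S15156** (over any field, any linearization): semistability can be tested on `σ`-invariant
sub-bundles, because the maximal destabilising sub-bundle is unique, hence `σ`-invariant -/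
theorem main (hpid : PIDStalks X) (hdim : topologicalKrullDim X = 1)
    (σ : X ⟶ X) (hσS : σ ≫ (X ↘ Spec (CommRingCat.of k)) = X ↘ Spec (CommRingCat.of k))
    (hσ : σ ≫ σ = 𝟙 X) (r : ℕ) (hr : 0 < r) (E : X.Modules) (hE : FlatMod.IsFinLocFreeOfRank r E)
    (φ : (Scheme.Modules.pullback σ).obj E ≅ E) :
    (∀ (F : X.Modules) (r' : ℕ) (i : F ⟶ E), Mono i → 0 < r' → FlatMod.IsFinLocFreeOfRank r' F →
      (∃ j : (Scheme.Modules.pullback σ).obj F ⟶ F, j ≫ i = (Scheme.Modules.pullback σ).map i ≫ φ.hom) →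
      Curv2.deg k X F r' * (r : ℤ) ≤ Curv2.deg k X E r * (r' : ℤ)) ↔
    (∀ (F : X.Modules) (r' : ℕ) (i : F ⟶ E), Mono i → 0 < r' → FlatMod.IsFinLocFreeOfRank r' F →
      Curv2.deg k X F r' * (r : ℤ) ≤ Curv2.deg k X E r * (r' : ℤ)) := by
  haveI : IsLocallyNoetherian X := LocallyOfFiniteType.isLocallyNoetherian (X ↘ (Spec (CommRingCat.of k)))
  haveI : AlgebraicGeometry.IsNoetherian X := Groth.Agent.Lib.Helper4.CurveRR.isNoetherian_of_proper k X
  constructor
  · intro h F r' i hi hr' hF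
    obtain ⟨E₁, r₁, i₁, hi₁, h0₁, hE₁, hA, hB⟩ :=
      Groth.Agent.Lib.Helper4.CurveHN.exists_destab k X hpid hdim r hr E hE
    haveI : E₁.IsQuasicoherent :=
      (Groth.Agent.Lib.Helper4.DegAdd.isCoh_of_isFinLocFreeOfRank E₁ r₁ hE₁).1
    have hE₁' : FlatMod.IsFinLocFreeOfRank r₁ ((Scheme.Modules.pullback σ).obj E₁) :=
      Groth.Agent.Lib.Helper26.ModRank.isFinLocFreeOfRank_pullback σ E₁ hE₁
    have hdeg : Curv2.deg k X ((Scheme.Modules.pullback σ).obj E₁) r₁ = Curv2.deg k X E₁ r₁ := by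
      unfold Curv2.deg
      rw [euler_pullback_involution k X σ hσS hσ E₁]
    haveI := hi₁
    haveI : Mono ((Scheme.Modules.pullback σ).map i₁) := mono_pullback_map σ hσ i₁
    have hi₁' : Mono ((Scheme.Modules.pullback σ).map i₁ ≫ φ.hom) := mono_comp _ _
    have hA' : ∀ (F : X.Modules) (r' : ℕ) (j : F ⟶ E), Mono j → 0 < r' → FlatMod.IsFinLocFreeOfRank r' F →
        Curv2.deg k X F r' * (r₁ : ℤ) ≤ Curv2.deg k X ((Scheme.Modules.pullback σ).obj E₁) r₁ * (r' : ℤ) := by
      intro F r' j hj hr' hF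
      rw [hdeg]
      exact hA F r' j hj hr' hF
    obtain ⟨v, hv⟩ := Groth.Agent.Lib.Helper4.CurveHN.destab_factors k X hpid hdim r E hE E₁
      ((Scheme.Modules.pullback σ).obj E₁) r₁ r₁ i₁ ((Scheme.Modules.pullback σ).map i₁ ≫ φ.hom)
      hi₁ h0₁ hE₁ hA hB hi₁' h0₁ hE₁' hA'
    have h1 := h E₁ r₁ i₁ hi₁ h0₁ hE₁ ⟨v, hv⟩
    have h2 := hA F r' i hi hr' hF
    have hr₁ : (0 : ℤ) < (r₁ : ℤ) := by exact_mod_cast h0₁
    have hr'0 : (0 : ℤ) ≤ (r' : ℤ) := by exact_mod_cast hr'.le
    have hr0 : (0 : ℤ) ≤ (r : ℤ) := by exact_mod_cast hr.le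
    by_contra hlt
    rw [not_le] at hlt
    have h3 := mul_le_mul_of_nonneg_right h2 hr0
    have h4 := mul_le_mul_of_nonneg_right h1 hr'0
    have h5 := mul_lt_mul_of_pos_right hlt hr₁
    nlinarith
  · intro h F r' i hi hr' hF _
    exact h F r' i hi hr' hF

end Main

end Groth.Agent.Lib.Helper6.SigmaSS
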