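import Groth.Agent.Lib.Helper6OrderPow
import Mathlib

set_option autoImplicit false
universe u v

namespace Groth.Agent.Lib.Helper6.Simple

open TensorProduct Coalgebra IsLocalRing WithConv Groth.Agent.Lib.Helper6.Hopf
  Groth.Agent.Lib.Helper6.OrderPow

section Sep

variable {k : Type u} [Field k] {V : Type v} [AddCommGroup V] [Module k V]

/-- Functionals of the form `f ⊗ g` separate the points of `V ⊗ V`. -/
lemma eq_zero_of_forall_map (z : V ⊗[k] V)
    (h : ∀ f g : V →ₗ[k] k, LinearMap.mul' k k (TensorProduct.map f g z) = 0) : z = 0 := by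
  let b := Module.Free.chooseBasis k V
  have key : ∀ i j, (Finsupp.lapply (i, j)) ∘ₗ (b.tensorProduct b).repr.toLinearMap =
      LinearMap.mul' k k ∘ₗ TensorProduct.map (b.coord i) (b.coord j) := by
    intro i j
    apply TensorProduct.ext'
    intro x y
    simp [Module.Basis.tensorProduct_repr_tmul_apply, mul_comm]
  have : (b.tensorProduct b).repr z = 0 := by
    ext ⟨i, j⟩
    have h1 := LinearMap.congr_fun (key i j) z
    simp only [LinearMap.coe_comp, Function.comp_apply, LinearEquiv.coe_coe,
      Finsupp.lapply_apply] at h1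
    rw [h1, h]
    rfl
  simpa using this

end Sep

section Span

variable {k : Type u} [Field k] {A : Type v} [CommRing A] [HopfAlgebra k A]

/-- The ideal generated by `y` is a Hopf ideal as soon as `ε y = 0`,
`Δ y = y ⊗ a + b ⊗ y` and `S y ∈ (y)`. -/
lemma isHopfIdeal_span_singleton (y a b : A) (hε : counit (R := k) y = 0)
    (hΔ : comul (R := k) y = y ⊗ₜ[k] a + b ⊗ₜ[k] y)
    (hS : HopfAlgebra.antipode k y ∈ Ideal.span {y}) :
    (Ideal.span {y}).IsHopfIdeal k := by
  set I : Ideal A := Ideal.span {y} with hI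
  refine { counit_eq_zero := ?_, map_mkQ_comul_eq_zero := ?_, antipode_mem := ?_ }
  · intro x hx
    have hle : I ≤ RingHom.ker (Bialgebra.counitAlgHom k A) := by
      rw [hI, Ideal.span_le]
      intro z hz
      rw [Set.mem_singleton_iff] at hz
      subst hz
      exact hε
    exact hle hx
  · intro x hx
    have hle : I ≤ RingHom.ker ((Algebra.TensorProduct.map (Ideal.Quotient.mkₐ k I)
        (Ideal.Quotient.mkₐ k I)).comp (Bialgebra.comulAlgHom k A)) := by
      rw [hI, Ideal.span_le]
      intro z hz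
      rw [Set.mem_singleton_iff] at hz
      subst hz
      have hy0 : Ideal.Quotient.mk (Ideal.span {z}) z = 0 :=
        Ideal.Quotient.eq_zero_iff_mem.2 (Ideal.subset_span rfl)
      simp only [SetLike.mem_coe, RingHom.mem_ker, AlgHom.coe_comp, Function.comp_apply,
        Bialgebra.comulAlgHom_apply, hΔ, map_add, Algebra.TensorProduct.map_tmul,
        Ideal.Quotient.mkₐ_eq_mk, hy0, zero_tmul, tmul_zero, add_zero]
    exact hle hx
  · intro x hx
    have hle : I ≤ Ideal.comap (HopfAlgebra.antipodeAlgHom k A) I := by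
      rw [hI, Ideal.span_le]
      intro z hz
      rw [Set.mem_singleton_iff] at hz
      subst hz
      exact hS
    exact hle hx

lemma antipode_primitive (y : A) (hε : counit (R := k) y = 0)
    (hΔ : comul (R := k) y = y ⊗ₜ[k] (1 : A) + (1 : A) ⊗ₜ[k] y) :
    HopfAlgebra.antipode k y = -y := by
  have h := HopfAlgebra.mul_antipode_rTensor_comul_apply (R := k) y
  rw [hΔ, hε, map_zero] at h
  simp only [map_add, LinearMap.rTensor_tmul, LinearMap.mul'_apply, mul_one,
    HopfAlgebra.antipode_one, one_mul] at h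
  exact eq_neg_of_add_eq_zero_left h

lemma isHopfIdeal_span_primitive (y : A) (hε : counit (R := k) y = 0)
    (hΔ : comul (R := k) y = y ⊗ₜ[k] (1 : A) + (1 : A) ⊗ₜ[k] y) :
    (Ideal.span {y}).IsHopfIdeal k := by
  apply isHopfIdeal_span_singleton y 1 1 hε hΔ
  rw [antipode_primitive y hε hΔ]
  exact neg_mem (Ideal.subset_span rfl)

lemma primitive_pow (p : ℕ) [Fact p.Prime] [CharP k p] (y : A)
    (hΔ : comul (R := k) y = y ⊗ₜ[k] (1 : A) + (1 : A) ⊗ₜ[k] y) :
    comul (R := k) (y ^ p) = (y ^ p) ⊗ₜ[k] (1 : A) + (1 : A) ⊗ₜ[k] (y ^ p) := by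
  haveI := charP_AA k A p
  rw [Bialgebra.comul_pow, hΔ, add_pow_char, Algebra.TensorProduct.tmul_pow,
    Algebra.TensorProduct.tmul_pow, one_pow]

/-- If the augmentation ideal is generated by `y` and `y ^ n = 0`, then the powers of `y`
span `A`. -/
lemma span_pow_eq_top (y : A) (hy : augI k A = Ideal.span {y}) (n : ℕ) (hn : y ^ n = 0) :
    Submodule.span k (Set.range (fun i : Fin n => y ^ (i : ℕ))) = ⊤ := by
  have key : ∀ m : ℕ, ∀ a : A, ∃ s ∈ Submodule.span k (Set.range (fun i : Fin m => y ^ (i : ℕ))),
      ∃ b : A, a = s + y ^ m * b := by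
    intro m
    induction m with
    | zero => intro a; exact ⟨0, zero_mem _, a, by simp⟩
    | succ m ih =>
      intro a
      obtain ⟨s, hs, b, hab⟩ := ih a
      have hb : b - algebraMap k A (counit (R := k) b) ∈ Ideal.span {y} := hy ▸ sub_counit_mem b
      obtain ⟨b', hb'⟩ := Ideal.mem_span_singleton'.1 hb
      refine ⟨s + counit (R := k) b • y ^ m, add_mem ?_ (Submodule.smul_mem _ _ ?_), b', ?_⟩
      · refine Submodule.span_mono ?_ hs
        rintro _ ⟨i, rfl⟩
        exact ⟨i.castSucc, rfl⟩
      · exact Submodule.subset_span ⟨Fin.last m, rfl⟩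
      · rw [hab, pow_succ, mul_assoc, mul_comm y b', hb', Algebra.smul_def]
        ring
  rw [eq_top_iff]
  intro a _
  obtain ⟨s, hs, b, hab⟩ := key n a
  rw [hab, hn, zero_mul, add_zero]
  exact hs

end Span

section Dual

variable {k : Type u} [Field k] {A : Type v} [CommRing A] [HopfAlgebra k A]
  [Coalgebra.IsCocomm k A]

variable (k A) in
/-- Evaluation at `1` as a ring hom from the dual algebra to `k`. -/
noncomputable def ev1 : WithConv (A →ₗ[k] k) →+* k where
  toFun f := f 1
  map_one' := by simp
  map_mul' f g := by simp [LinearMap.convMul_apply, Bialgebra.comul_one,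
    Algebra.TensorProduct.one_def]
  map_zero' := rfl
  map_add' _ _ := rfl

@[simp] lemma ev1_apply (f : WithConv (A →ₗ[k] k)) : ev1 k A f = f 1 := rfl

lemma ev1_algebraMap (c : k) : ev1 k A (algebraMap k (WithConv (A →ₗ[k] k)) c) = c := by
  simp

lemma ev1_surjective : Function.Surjective (ev1 k A) := fun c =>
  ⟨algebraMap k _ c, ev1_algebraMap c⟩

lemma finite_dual [Module.Finite k A] : Module.Finite k (WithConv (A →ₗ[k] k)) :=
  Module.Finite.equiv (WithConv.linearEquiv k (A →ₗ[k] k)).symm

theorem exists_primitive [Module.Finite k A] (hdual : IsLocalRing (WithConv (A →ₗ[k] k)))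
    (hA : 1 < Module.finrank k A) :
    ∃ x : A, x ≠ 0 ∧ counit (R := k) x = 0 ∧
      comul (R := k) x = x ⊗ₜ[k] (1 : A) + (1 : A) ⊗ₜ[k] x := by
  classical
  haveI := finite_dual (k := k) (A := A)
  set D := WithConv (A →ₗ[k] k) with hD
  set m : Ideal D := RingHom.ker (ev1 k A) with hm
  have hmmax : m.IsMaximal := RingHom.ker_isMaximal_of_surjective _ ev1_surjective
  have hmeq : maximalIdeal D = m := (IsLocalRing.eq_maximalIdeal hmmax).symm
  let W : Submodule k (Module.Dual k A) := Submodule.span k
     ({counit} ∪ {φ | ∃ f ∈ m, ∃ g ∈ m, φ = (f * g).ofConv})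
  have hW : W.dualCoannihilator ≠ ⊥ := by
    intro hbot
    have hWtop : W = ⊤ := by
      rw [← Subspace.dualCoannihilator_dualAnnihilator_eq (W := W), hbot,
        Submodule.dualAnnihilator_bot]
    have hform : ∀ φ ∈ W, ∃ c : k, ∃ h ∈ m * m, toConv φ = algebraMap k D c + h := by
      intro φ hφ
      induction hφ using Submodule.span_induction with
      | mem φ hφ =>
        rcases hφ with rfl | ⟨f, hf, g, hg, rfl⟩
        · refine ⟨1, 0, zero_mem _, ?_⟩
          rw [map_one, add_zero]
          rfl
        · exact ⟨0, f * g, Ideal.mul_mem_mul hf hg, by simp⟩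
      | zero => exact ⟨0, 0, zero_mem _, by simp⟩
      | add φ ψ _ _ hφ hψ =>
        obtain ⟨c, h, hh, e⟩ := hφ
        obtain ⟨c', h', hh', e'⟩ := hψ
        exact ⟨c + c', h + h', add_mem hh hh', by rw [toConv_add, e, e', map_add]; ring⟩
      | smul a φ _ hφ =>
        obtain ⟨c, h, hh, e⟩ := hφ
        refine ⟨a * c, algebraMap k D a * h, Ideal.mul_mem_left _ _ hh, ?_⟩
        have hsm : ∀ (P : D), a • P = algebraMap k D a * P := fun P => Algebra.smul_def a P
        rw [toConv_smul, e, hsm, map_mul]; ring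
    have hle : m ≤ m * m := by
      intro f hf
      obtain ⟨c, h, hh, e⟩ := hform f.ofConv (hWtop ▸ Submodule.mem_top)
      have h2 : ev1 k A h = 0 := Ideal.mul_le_right hh
      have hc : c = 0 := by
        have h1 := congrArg (ev1 k A) e
        rw [toConv_ofConv, map_add, ev1_algebraMap, h2, add_zero] at h1
        rw [← h1]; exact hf
      rw [toConv_ofConv, hc, map_zero, zero_add] at e
      rw [e]; exact hh
    have hmbot : m = ⊥ := by
      haveI : IsNoetherianRing D := IsNoetherianRing.of_finite k D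
      apply Submodule.eq_bot_of_le_smul_of_le_jacobson_bot m m (IsNoetherian.noetherian m)
      · simpa using hle
      · rw [IsLocalRing.jacobson_eq_maximalIdeal ⊥ bot_ne_top, hmeq]
    -- contradiction with `dim A > 1`
    have hex : ∃ a : A, a ∉ Submodule.span k {(1 : A)} := by
      by_contra hcon
      push Not at hcon
      have : Module.finrank k A ≤ 1 := by
        apply finrank_le_one (1 : A)
        intro w
        exact Submodule.mem_span_singleton.1 (hcon w)
      omega
    obtain ⟨a, ha⟩ := hex
    obtain ⟨f, hfa, hf1⟩ := Submodule.exists_dual_map_eq_bot_of_notMem ha inferInstance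
    have hf10 : f 1 = 0 := by
      have : f 1 ∈ (Submodule.span k {(1 : A)}).map f :=
        Submodule.mem_map_of_mem (Submodule.mem_span_singleton_self _)
      rw [hf1] at this
      exact this
    have : (toConv f : D) ∈ m := hf10
    rw [hmbot, Ideal.mem_bot] at this
    apply hfa
    have h0 : f = 0 := toConv_injective this
    rw [h0, LinearMap.zero_apply]
  obtain ⟨x, hxW, hx0⟩ := Submodule.exists_mem_ne_zero_of_ne_bot hW
  rw [Submodule.mem_dualCoannihilator] at hxW
  have hεx : counit (R := k) x = 0 := hxW _ (Submodule.subset_span (Or.inl rfl))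
  have hfg : ∀ f ∈ m, ∀ g ∈ m, (f * g) x = 0 := fun f hf g hg =>
    hxW _ (Submodule.subset_span (Or.inr ⟨f, hf, g, hg, rfl⟩))
  refine ⟨x, hx0, hεx, ?_⟩
  rw [← sub_eq_zero]
  apply eq_zero_of_forall_map
  intro f g
  set F : D := toConv f with hF
  set G : D := toConv g with hG
  set F₀ : D := F - algebraMap k D (f 1) with hF₀
  set G₀ : D := G - algebraMap k D (g 1) with hG₀
  have hF₀m : F₀ ∈ m := by
    rw [hm, RingHom.mem_ker, hF₀, map_sub, ev1_algebraMap]; exact sub_self _
  have hG₀m : G₀ ∈ m := by
    rw [hm, RingHom.mem_ker, hG₀, map_sub, ev1_algebraMap]; exact sub_self _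
  have hFG : F * G = F₀ * G₀ + f 1 • G₀ + g 1 • F₀ + algebraMap k D (f 1 * g 1) := by
    have hsm : ∀ (a : k) (P : D), a • P = algebraMap k D a * P := fun a P => Algebra.smul_def a P
    simp only [hF₀, hG₀, map_mul, hsm]; ring
  have h1 : LinearMap.mul' k k (TensorProduct.map f g (comul x)) = (F * G) x := rfl
  have h2 : (F * G) x = f 1 * g x + g 1 * f x := by
    rw [hFG]
    have e1 : ∀ (P Q : D), (P + Q) x = P x + Q x := fun _ _ => rfl
    have e2 : ∀ (c : k) (P : D), (c • P) x = c * P x := fun _ _ => rfl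
    have e5 : ∀ c : k, (algebraMap k D c) x = 0 := by
      intro c
      rw [LinearMap.convAlgebraMap_apply, hεx]; simp
    rw [e1, e1, e1, e2, e2, hfg _ hF₀m _ hG₀m, e5]
    have e3 : G₀ x = g x := by
      show g x - (algebraMap k D (g 1)) x = g x
      rw [e5, sub_zero]
    have e4 : F₀ x = f x := by
      show f x - (algebraMap k D (f 1)) x = f x
      rw [e5, sub_zero]
    rw [e3, e4]
    ring
  rw [map_sub, map_sub, map_add, map_add, h1, h2]
  simp
  ring

end Dual

section Main

variable {k : Type u} [Field k] {A : Type v} [CommRing A] [HopfAlgebra k A]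

/-- Common endgame: if `A` is local of dimension `> 1`, the augmentation ideal is generated
by `y` and `y ^ p = 0`, then `dim A = p` and the powers of `y` are a basis. -/
lemma finrank_eq_of_principal (p : ℕ) [Fact p.Prime] [CharP k p] [Module.Finite k A]
    [IsLocalRing A] (hA : 1 < Module.finrank k A) (y : A) (hy : augI k A = Ideal.span {y})
    (hn : y ^ p = 0) :
    Module.finrank k A = p ∧ LinearIndependent k (fun i : Fin p => y ^ (i : ℕ)) := by
  have hspan := span_pow_eq_top y hy p hn
  have hle : Module.finrank k A ≤ p := by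
    have h1 := finrank_range_le_card (R := k) (fun i : Fin p => y ^ (i : ℕ))
    rw [Set.finrank, hspan, finrank_top, Fintype.card_fin] at h1
    exact h1
  obtain ⟨m, hm⟩ := exists_pow (k := k) p _ A rfl
  have hp : p.Prime := Fact.out
  have hfin : Module.finrank k A = p := by
    rcases m with _ | _ | m
    · rw [hm] at hA; simp at hA
    · rw [hm, pow_one]
    · exfalso
      rw [hm] at hle
      have : p ^ 2 ≤ p ^ (m + 1 + 1) := Nat.pow_le_pow_right hp.pos (by omega)
      have h2 : p < p ^ 2 := by
        have := hp.two_le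
        nlinarith
      omega
  refine ⟨hfin, ?_⟩
  apply linearIndependent_of_top_le_span_of_card_eq_finrank
  · rw [hspan]
  · rw [Fintype.card_fin, hfin]

theorem alpha_p (p : ℕ) [Fact p.Prime] [CharP k p] [Coalgebra.IsCocomm k A]
    [Module.Finite k A] [IsLocalRing A]
    (hdual : IsLocalRing (WithConv (A →ₗ[k] k))) (hA : 1 < Module.finrank k A)
    (hsimple : ∀ I : Ideal A, I.IsHopfIdeal k → I = ⊥ ∨ I = RingHom.ker (Bialgebra.counitAlgHom k A)) :
    ∃ x : A, Coalgebra.comul x = x ⊗ₜ[k] (1 : A) + (1 : A) ⊗ₜ[k] x ∧ x ^ p = 0 ∧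
      LinearIndependent k (fun i : Fin p => x ^ (i : ℕ)) ∧ Module.finrank k A = p := by
  obtain ⟨x, hx0, hεx, hΔx⟩ := exists_primitive hdual hA
  have hp : p.Prime := Fact.out
  have hxI : x ∈ augI k A := mem_augI.2 hεx
  have hxm : x ∈ maximalIdeal A := by rw [maximalIdeal_eq_augI k A]; exact hxI
  -- `x ^ p = 0`
  have hxp : x ^ p = 0 := by
    have hH := isHopfIdeal_span_primitive (k := k) (x ^ p)
      (by rw [Bialgebra.counit_pow, hεx, zero_pow hp.ne_zero]) (primitive_pow p x hΔx)
    rcases hsimple _ hH with h | h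
    · have : x ^ p ∈ Ideal.span {x ^ p} := Ideal.subset_span rfl
      rw [h] at this
      exact this
    · exfalso
      have hx' : x ∈ Ideal.span {x ^ p} := by rw [h]; exact hxI
      obtain ⟨a, ha⟩ := Ideal.mem_span_singleton'.1 hx'
      have hu : IsUnit (1 - a * x ^ (p - 1)) := by
        have hmem : a * x ^ (p - 1) ∈ maximalIdeal A :=
          Ideal.mul_mem_left _ _ (Ideal.pow_mem_of_mem _ hxm _ (by have := hp.two_le; omega))
        have := IsLocalRing.isUnit_one_sub_self_of_mem_nonunits _ hmem
        exact this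
      have hz : x * (1 - a * x ^ (p - 1)) = 0 := by
        have hpp : x ^ p = x ^ (p - 1) * x := by
          rw [← pow_succ]; congr 1; have := hp.two_le; omega
        rw [mul_sub, mul_one, sub_eq_zero]
        conv_lhs => rw [← ha, hpp]
        ring
      exact hx0 (hu.mul_left_eq_zero.1 hz)
  -- `(x) = I`
  have hxgen : augI k A = Ideal.span {x} := by
    have hH := isHopfIdeal_span_primitive (k := k) x hεx hΔx
    rcases hsimple _ hH with h | h
    · exfalso
      have : x ∈ Ideal.span {x} := Ideal.subset_span rfl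
      rw [h] at this
      exact hx0 this
    · exact h.symm
  obtain ⟨h1, h2⟩ := finrank_eq_of_principal p hA x hxgen hxp
  exact ⟨x, hΔx, hxp, h2, h1⟩

end Main

end Groth.Agent.Lib.Helper6.Simple
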