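import Groth.Agent.Lib.Helper6Simple
import Mathlib

set_option autoImplicit false
universe u v

namespace Groth.Agent.Lib.Helper6.Simple

open TensorProduct Coalgebra IsLocalRing WithConv Groth.Agent.Lib.Helper6.Hopf
  Groth.Agent.Lib.Helper6.OrderPow

section Mult

variable {k : Type u} [Field k] {A : Type v} [CommRing A] [HopfAlgebra k A]
  [Coalgebra.IsCocomm k A]

lemma ker_ev1_ne_bot (hA : 1 < Module.finrank k A) : RingHom.ker (ev1 k A) ≠ ⊥ := by
  intro hmbot
  have hex : ∃ a : A, a ∉ Submodule.span k {(1 : A)} := by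
    by_contra hcon
    push Not at hcon
    have : Module.finrank k A ≤ 1 := by
      apply finrank_le_one (1 : A)
      intro w
      exact Submodule.mem_span_singleton.1 (hcon w)
    omega
  obtain ⟨a, ha⟩ := hex
  obtain ⟨f, hfa, hf1⟩ := Submodule.exists_dual_map_eq_bot_of_notMem ha inferInstance
  have hf10 : f 1 = 0 := by
    have : f 1 ∈ (Submodule.span k {(1 : A)}).map f :=
      Submodule.mem_map_of_mem (Submodule.mem_span_singleton_self _)
    rw [hf1] at this
    exact this
  have : (toConv f : WithConv (A →ₗ[k] k)) ∈ RingHom.ker (ev1 k A) := hf10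
  rw [hmbot, Ideal.mem_bot] at this
  apply hfa
  have h0 : f = 0 := toConv_injective this
  rw [h0, LinearMap.zero_apply]

/-- An algebra hom from the dual algebra to `k` is evaluation at a group-like element. -/
lemma exists_groupLike_of_algHom [Module.Finite k A] (φ : WithConv (A →ₗ[k] k) →ₐ[k] k) :
    ∃ g : A, IsGroupLikeElem k g ∧ ∀ f : A →ₗ[k] k, φ (toConv f) = f g := by
  let Φ : Module.Dual k (Module.Dual k A) :=
    φ.toLinearMap ∘ₗ (WithConv.linearEquiv k (A →ₗ[k] k)).symm.toLinearMap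
  let g := (Module.evalEquiv k A).symm Φ
  have hg : ∀ f : A →ₗ[k] k, φ (toConv f) = f g := by
    intro f
    have := Module.apply_evalEquiv_symm_apply (R := k) (M := A) f Φ
    rw [this]; rfl
  refine ⟨g, ⟨?_, ?_⟩, hg⟩
  · have h1 := hg counit
    rw [← h1]
    have : (toConv counit : WithConv (A →ₗ[k] k)) = 1 := by
      apply WithConv.ext
      ext a
      simp
    rw [this, map_one]
  · rw [← sub_eq_zero]
    apply eq_zero_of_forall_map
    intro f₁ f₂
    have h1 : LinearMap.mul' k k (TensorProduct.map f₁ f₂ (comul g)) =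
        (toConv f₁ * toConv f₂ : WithConv (A →ₗ[k] k)).ofConv g := rfl
    rw [map_sub, map_sub, h1, ← hg, toConv_ofConv, map_mul, hg, hg]
    simp

lemma exists_groupLike_ne_one [Module.Finite k A] [IsAlgClosed k]
    (hdual : IsReduced (WithConv (A →ₗ[k] k))) (hA : 1 < Module.finrank k A) :
    ∃ g : A, IsGroupLikeElem k g ∧ g ≠ 1 := by
  classical
  have := finite_dual (k := k) (A := A)
  set D := WithConv (A →ₗ[k] k) with hD
  have hm := ker_ev1_ne_bot (k := k) (A := A) hA
  obtain ⟨f, hfm, hf0⟩ := Submodule.exists_mem_ne_zero_of_ne_bot hm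
  haveI : IsArtinianRing D := IsArtinianRing.of_finite k D
  have hjac : (⊥ : Ideal D).jacobson = ⊥ := by
    rw [IsArtinianRing.jacobson_eq_radical]
    exact nilradical_eq_zero D
  have hfj : f ∉ (⊥ : Ideal D).jacobson := by rw [hjac]; exact hf0
  rw [Ideal.jacobson, Submodule.mem_sInf] at hfj
  push Not at hfj
  obtain ⟨M, ⟨-, hMmax⟩, hfM⟩ := hfj
  letI := Ideal.Quotient.field M
  have hbij : Function.Bijective (algebraMap k (D ⧸ M)) :=
    IsAlgClosed.algebraMap_bijective_of_isIntegral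
  let e : k ≃ₐ[k] (D ⧸ M) := AlgEquiv.ofBijective (Algebra.ofId k _) hbij
  let φ : D →ₐ[k] k := (e.symm : (D ⧸ M) →ₐ[k] k).comp (Ideal.Quotient.mkₐ k M)
  have hφf : φ f ≠ 0 := by
    intro h0
    apply hfM
    have : e.symm (Ideal.Quotient.mk M f) = 0 := h0
    rw [map_eq_zero_iff _ e.symm.injective] at this
    exact Ideal.Quotient.eq_zero_iff_mem.1 this
  obtain ⟨g, hg, hgφ⟩ := exists_groupLike_of_algHom φ
  refine ⟨g, hg, ?_⟩
  rintro rfl
  apply hφf
  have := hgφ f.ofConv
  rw [toConv_ofConv] at this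
  rw [this]
  exact hfm

end Mult

section Mult2

variable {k : Type u} [Field k] {A : Type v} [CommRing A] [HopfAlgebra k A]

/-- A nontrivial group-like element of a local finite Hopf algebra in characteristic `p`
yields one of order exactly `p`. -/
lemma exists_groupLike_order_p (p : ℕ) [Fact p.Prime] [CharP k p] [Module.Finite k A]
    [IsLocalRing A] (g : A) (hg : IsGroupLikeElem k g) (hg1 : g ≠ 1) :
    ∃ h : A, IsGroupLikeElem k h ∧ h ≠ 1 ∧ h ^ p = 1 := by
  classical
  haveI := charP_A k A p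
  have hp : p.Prime := Fact.out
  haveI : IsArtinianRing A := IsArtinianRing.of_finite k A
  have hgm : g - 1 ∈ maximalIdeal A := by
    rw [maximalIdeal_eq_augI k A, mem_augI, map_sub, hg.counit_eq_one, Bialgebra.counit_one,
      sub_self]
  obtain ⟨n, hn⟩ := IsArtinianRing.isNilpotent_jacobson_bot (R := A)
  rw [IsLocalRing.jacobson_eq_maximalIdeal ⊥ bot_ne_top] at hn
  have hgn : (g - 1) ^ n = 0 := by
    have := Ideal.pow_mem_pow hgm n
    rw [hn] at this
    exact this
  have hex : ∃ N, g ^ p ^ N = 1 := by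
    refine ⟨n, ?_⟩
    have h1 : (g - 1) ^ p ^ n = 0 := pow_eq_zero_of_le (Nat.lt_pow_self hp.one_lt).le hgn
    rw [sub_pow_char_pow, one_pow, sub_eq_zero] at h1
    exact h1
  set N₀ := Nat.find hex with hN₀
  have hN₀spec : g ^ p ^ N₀ = 1 := Nat.find_spec hex
  have hN₀ne : N₀ ≠ 0 := by
    intro h0
    rw [h0, pow_zero, pow_one] at hN₀spec
    exact hg1 hN₀spec
  obtain ⟨N₁, hN₁⟩ := Nat.exists_eq_succ_of_ne_zero hN₀ne
  refine ⟨g ^ p ^ N₁, hg.pow, ?_, ?_⟩
  · exact Nat.find_min hex (by omega)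
  · rw [← pow_mul, ← pow_succ, ← Nat.succ_eq_add_one, ← hN₁]
    exact hN₀spec

lemma span_pow_groupLike (p : ℕ) (h : A) (hp : 0 < p) (hhp : h ^ p = 1)
    (hspan : Submodule.span k (Set.range (fun i : Fin p => (h - 1) ^ (i : ℕ))) = ⊤) :
    Submodule.span k (Set.range (fun i : Fin p => h ^ (i : ℕ))) = ⊤ := by
  have hadj : Subalgebra.toSubmodule (Algebra.adjoin k {h}) ≤
      Submodule.span k (Set.range (fun i : Fin p => h ^ (i : ℕ))) := by
    rw [Algebra.adjoin_eq_span, Submodule.span_le]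
    intro z hz
    obtain ⟨n, rfl⟩ := Submonoid.mem_closure_singleton.1 hz
    rw [pow_eq_pow_mod n hhp]
    exact Submodule.subset_span ⟨⟨n % p, Nat.mod_lt _ hp⟩, rfl⟩
  have hle : Submodule.span k (Set.range (fun i : Fin p => (h - 1) ^ (i : ℕ))) ≤
      Submodule.span k (Set.range (fun i : Fin p => h ^ (i : ℕ))) := by
    rw [Submodule.span_le]
    rintro _ ⟨i, rfl⟩
    have hh0 : h ∈ Algebra.adjoin k {h} := Algebra.subset_adjoin (Set.mem_singleton h)
    have hmem : (h - 1) ^ (i : ℕ) ∈ Algebra.adjoin k {h} :=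
      pow_mem (sub_mem hh0 (one_mem _)) _
    exact hadj ((Subalgebra.mem_toSubmodule _).2 hmem)
  rw [hspan] at hle
  exact eq_top_iff.2 hle

theorem mu_p (p : ℕ) [Fact p.Prime] [CharP k p] [IsAlgClosed k] [Coalgebra.IsCocomm k A]
    [Module.Finite k A] [IsLocalRing A]
    (hdual : IsReduced (WithConv (A →ₗ[k] k))) (hA : 1 < Module.finrank k A)
    (hsimple : ∀ I : Ideal A, I.IsHopfIdeal k → I = ⊥ ∨ I = RingHom.ker (Bialgebra.counitAlgHom k A)) :
    ∃ g : A, IsGroupLikeElem k g ∧ g ^ p = 1 ∧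
      LinearIndependent k (fun i : Fin p => g ^ (i : ℕ)) ∧ Module.finrank k A = p := by
  obtain ⟨g, hg, hg1⟩ := exists_groupLike_ne_one hdual hA
  obtain ⟨h, hh, hh1, hhp⟩ := exists_groupLike_order_p p g hg hg1
  haveI := charP_A k A p
  have hp : p.Prime := Fact.out
  have hε : counit (R := k) (h - 1) = 0 := by
    rw [map_sub, hh.counit_eq_one, Bialgebra.counit_one, sub_self]
  have hΔ : comul (R := k) (h - 1) = (h - 1) ⊗ₜ[k] h + (1 : A) ⊗ₜ[k] (h - 1) := by
    rw [map_sub, hh.comul_eq_tmul_self, Bialgebra.comul_one, sub_tmul, tmul_sub,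
      Algebra.TensorProduct.one_def]
    abel
  have hS : HopfAlgebra.antipode k (h - 1) ∈ Ideal.span {h - 1} := by
    rw [Ideal.mem_span_singleton']
    refine ⟨-(HopfAlgebra.antipode k h), ?_⟩
    rw [map_sub, HopfAlgebra.antipode_one, neg_mul, mul_sub, mul_one, hh.antipode_mul_cancel]
    ring
  have hH := isHopfIdeal_span_singleton (k := k) (h - 1) h 1 hε hΔ hS
  have hgen : augI k A = Ideal.span {h - 1} := by
    rcases hsimple _ hH with h0 | h0
    · exfalso
      have : h - 1 ∈ Ideal.span {h - 1} := Ideal.subset_span rfl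
      rw [h0, Ideal.mem_bot, sub_eq_zero] at this
      exact hh1 this
    · exact h0.symm
  have hyp : (h - 1) ^ p = 0 := by
    rw [sub_pow_char, one_pow, hhp, sub_self]
  obtain ⟨h1, -⟩ := finrank_eq_of_principal p hA (h - 1) hgen hyp
  refine ⟨h, hh, hhp, ?_, h1⟩
  apply linearIndependent_of_top_le_span_of_card_eq_finrank
  · rw [span_pow_groupLike p h hp.pos hhp (span_pow_eq_top (h - 1) hgen p hyp)]
  · rw [Fintype.card_fin, h1]

end Mult2

end Groth.Agent.Lib.Helper6.Simple
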