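import Groth.Agent.Lib.Helper6Simple2
import Groth.Agent.S7974
import Mathlib

set_option autoImplicit false
universe u v

namespace Groth.Agent.Lib.Helper6.Simple

open TensorProduct Coalgebra IsLocalRing WithConv Groth.Agent.Lib.Helper6.Hopf
  Groth.Agent.Lib.Helper6.OrderPow

section Etale

variable {k : Type u} [Field k] [IsAlgClosed k]

/-- Over an algebraically closed field, every maximal ideal of a finite algebra is the kernel
of a `k`-point. -/
lemma exists_algHom_ker_eq {R : Type v} [CommRing R] [Algebra k R] [Module.Finite k R]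
    (M : Ideal R) (hM : M.IsMaximal) : ∃ g : R →ₐ[k] k, RingHom.ker g = M := by
  letI := Ideal.Quotient.field M
  have hbij : Function.Bijective (algebraMap k (R ⧸ M)) :=
    IsAlgClosed.algebraMap_bijective_of_isIntegral
  let e : k ≃ₐ[k] (R ⧸ M) := AlgEquiv.ofBijective (Algebra.ofId k _) hbij
  refine ⟨(e.symm : (R ⧸ M) →ₐ[k] k).comp (Ideal.Quotient.mkₐ k M), ?_⟩
  ext x
  rw [RingHom.mem_ker]
  show e.symm (Ideal.Quotient.mk M x) = 0 ↔ _
  rw [map_eq_zero_iff _ e.symm.injective, Ideal.Quotient.eq_zero_iff_mem]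

variable {A : Type v} [CommRing A] [HopfAlgebra k A]

lemma iInf_ker_eq_bot [Module.Finite k A] [IsReduced A] :
    (⨅ g : A →ₐ[k] k, RingHom.ker g) = ⊥ := by
  haveI : IsArtinianRing A := IsArtinianRing.of_finite k A
  have hjac : (⊥ : Ideal A).jacobson = ⊥ := by
    rw [IsArtinianRing.jacobson_eq_radical]
    exact nilradical_eq_zero A
  rw [eq_bot_iff, ← hjac]
  intro x hx
  rw [Ideal.jacobson, Submodule.mem_sInf]
  rintro M ⟨-, hM⟩
  obtain ⟨g, hg⟩ := exists_algHom_ker_eq (k := k) M hM
  rw [← hg]
  exact (Ideal.mem_iInf.1 hx) g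

/-- If finitely many points separate the elements of `A`, then `dim A` is at most their number. -/
lemma finrank_le_card_of_iInf_eq_bot [Module.Finite k A] (S : Set (A →ₐ[k] k)) [Finite S]
    (h : (⨅ g ∈ S, RingHom.ker g) = ⊥) : Module.finrank k A ≤ Nat.card S := by
  classical
  haveI := Fintype.ofFinite S
  let F : A →ₗ[k] (S → k) := LinearMap.pi (fun g => (g : A →ₐ[k] k).toLinearMap)
  have hinj : Function.Injective F := by
    rw [← LinearMap.ker_eq_bot, eq_bot_iff]
    intro a ha
    rw [LinearMap.mem_ker] at ha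
    have : a ∈ (⨅ g ∈ S, RingHom.ker g : Ideal A) := by
      rw [Ideal.mem_iInf]
      intro g
      rw [Ideal.mem_iInf]
      intro hg
      exact congrFun ha ⟨g, hg⟩
    rw [h] at this
    exact this
  have := LinearMap.finrank_le_finrank_of_injective hinj
  rw [Module.finrank_fintype_fun_eq_card] at this
  rw [Nat.card_eq_fintype_card]
  exact this

theorem etale_prime [Coalgebra.IsCocomm k A] [Module.Finite k A] [IsReduced A]
    (hA : 1 < Module.finrank k A)
    (hsimple : ∀ I : Ideal A, I.IsHopfIdeal k → I = ⊥ ∨ I = RingHom.ker (Bialgebra.counitAlgHom k A)) :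
    (Module.finrank k A).Prime := by
  classical
  haveI : Finite (A →ₐ[k] k) := Finite.algHom k A k
  haveI : Finite (WithConv (A →ₐ[k] k)) := Finite.of_equiv _ (WithConv.equiv (A →ₐ[k] k)).symm
  have hcard_le : Nat.card (WithConv (A →ₐ[k] k)) ≤ Module.finrank k A := by
    rw [Nat.card_congr (WithConv.equiv (A →ₐ[k] k))]
    exact card_algHom_le_finrank k A k
  have key : ∀ S : Subgroup (WithConv (A →ₐ[k] k)),
      (⨅ g ∈ S, RingHom.ker (WithConv.ofConv g : A →ₐ[k] k)) = ⊥ →
        Module.finrank k A ≤ Nat.card S := by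
    intro S hS
    let S' : Set (A →ₐ[k] k) := {g | toConv g ∈ S}
    let eS : S ≃ S' := 
      { toFun := fun g => ⟨g.1.ofConv, by show toConv g.1.ofConv ∈ S; exact g.2⟩
        invFun := fun g => ⟨toConv g.1, g.2⟩
        left_inv := fun g => rfl
        right_inv := fun g => rfl }
    haveI : Finite S' := Finite.of_equiv _ eS
    have h' : (⨅ g ∈ S', RingHom.ker g) = ⊥ := by
      rw [eq_bot_iff, ← hS]
      intro x hx
      simp only [Ideal.mem_iInf] at hx ⊢
      intro g hg
      exact hx g.ofConv hg
    have := finrank_le_card_of_iInf_eq_bot S' h'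
    rw [Nat.card_congr eS]
    exact this
  have hcard : Nat.card (WithConv (A →ₐ[k] k)) = Module.finrank k A := by
    refine le_antisymm hcard_le ?_
    have h1 : (⨅ g ∈ (⊤ : Subgroup (WithConv (A →ₐ[k] k))),
        RingHom.ker (WithConv.ofConv g : A →ₐ[k] k)) = ⊥ := by
      rw [eq_bot_iff, ← iInf_ker_eq_bot (k := k) (A := A)]
      intro x hx
      simp only [Ideal.mem_iInf] at hx ⊢
      intro g
      exact hx (toConv g) (Subgroup.mem_top _)
    have := key ⊤ h1
    rwa [Subgroup.card_top] at this
  have hsimp : ∀ S : Subgroup (WithConv (A →ₐ[k] k)), S = ⊥ ∨ S = ⊤ := by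
    intro S
    rcases hsimple _ (Groth.Agent.S7974.result k A S) with h | h
    · right
      apply Subgroup.eq_top_of_le_card
      rw [hcard]
      exact key S h
    · left
      rw [Subgroup.eq_bot_iff_forall]
      intro g hg
      have hle : RingHom.ker (Bialgebra.counitAlgHom k A) ≤
          RingHom.ker (WithConv.ofConv g : A →ₐ[k] k) := by
        rw [← h]
        exact iInf₂_le g hg
      apply WithConv.ext
      apply AlgHom.ext
      intro a
      have hmem : a - algebraMap k A (counit (R := k) a) ∈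
          RingHom.ker (Bialgebra.counitAlgHom k A) := sub_counit_mem a
      have := hle hmem
      rw [RingHom.mem_ker, map_sub, AlgHom.commutes, sub_eq_zero] at this
      rw [this]
      rfl
  haveI : Nontrivial (WithConv (A →ₐ[k] k)) := by
    rw [← Finite.one_lt_card_iff_nontrivial, hcard]
    exact hA
  haveI : IsSimpleGroup (WithConv (A →ₐ[k] k)) := ⟨fun H _ => hsimp H⟩
  have := IsSimpleGroup.prime_card (α := WithConv (A →ₐ[k] k))
  rwa [hcard] at this

end Etale

end Groth.Agent.Lib.Helper6.Simple
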