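import Mathlib
import Groth.Agent.Lib.Helper28FlatNormal
import Groth.Agent.Lib.Helper6OmProjC
import Groth.Agent.S5783

set_option autoImplicit false
universe u

namespace Groth.Agent.Lib.Helper6.SmDim

open IsLocalRing TensorProduct Groth.Agent.Lib.Helper28

variable {R S : Type u} [CommRing R] [CommRing S] [IsLocalRing R] [IsLocalRing S]
  [IsNoetherianRing R] [IsNoetherianRing S] [Algebra R S] [IsLocalHom (algebraMap R S)]

/-- The closed fibre ring `S / m_R S` of a formally smooth, essentially finite type local
homomorphism is a regular local ring. -/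
theorem isRegularLocalRing_fibre [Algebra.FormallySmooth R S] [Algebra.EssFiniteType R S]
    [IsLocalRing (S ⧸ (maximalIdeal R).map (algebraMap R S))] :
    IsRegularLocalRing (S ⧸ (maximalIdeal R).map (algebraMap R S)) := by
  letI : Field (R ⧸ maximalIdeal R) := Ideal.Quotient.field (maximalIdeal R)
  let e := Algebra.TensorProduct.quotIdealMapEquivQuotTensor S (maximalIdeal R)
  haveI : Algebra.FormallySmooth (R ⧸ maximalIdeal R) ((R ⧸ maximalIdeal R) ⊗[R] S) :=
    inferInstance
  haveI : Algebra.FormallySmooth (R ⧸ maximalIdeal R)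
      (S ⧸ (maximalIdeal R).map (algebraMap R S)) :=
    Algebra.FormallySmooth.of_equiv e.symm
  haveI : Algebra.EssFiniteType (R ⧸ maximalIdeal R) ((R ⧸ maximalIdeal R) ⊗[R] S) :=
    inferInstance
  haveI : Algebra.EssFiniteType (R ⧸ maximalIdeal R)
      (S ⧸ (maximalIdeal R).map (algebraMap R S)) :=
    Algebra.EssFiniteType.of_surjective e.symm.toAlgHom e.symm.surjective
  exact Groth.Agent.Lib.Helper6.OmProj.isRegularLocalRing_of_formallySmooth
    (k := R ⧸ maximalIdeal R)

/-- regular local rings are Cohen–Macaulay: `dim = depth` -/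
theorem ringKrullDim_eq_depth_of_isRegularLocalRing (F : Type u) [CommRing F]
    [IsRegularLocalRing F] :
    ringKrullDim F = ((LocCoh.depth F F : ℕ∞) : WithBot ℕ∞) := by
  haveI : IsLocalHom (algebraMap F F) := ⟨fun a ha => ha⟩
  have h := (Groth.Agent.S5783.result F F).mp inferInstance
  rw [← Module.supportDim_self_eq_ringKrullDim]
  exact h.1.supportDim_eq_depth

/-- `dim S + depth R = dim R + depth S` for a flat, formally smooth, ess. finite type local hom. -/
theorem ringKrullDim_add_depth_eq [Module.Flat R S] [Algebra.FormallySmooth R S]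
    [Algebra.EssFiniteType R S] :
    ringKrullDim S + ((LocCoh.depth R R : ℕ∞) : WithBot ℕ∞) =
      ringKrullDim R + ((LocCoh.depth S S : ℕ∞) : WithBot ℕ∞) := by
  have hne : (maximalIdeal R).map (algebraMap R S) ≠ ⊤ := by
    intro h
    have hle : (maximalIdeal R).map (algebraMap R S) ≤ maximalIdeal S := by
      rw [Ideal.map_le_iff_le_comap, IsLocalRing.maximalIdeal_comap]
    rw [h] at hle
    exact (IsLocalRing.maximalIdeal.isMaximal S).ne_top (top_le_iff.mp hle)
  haveI : IsLocalRing (S ⧸ (maximalIdeal R).map (algebraMap R S)) :=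
    Groth.Agent.Lib.Helper5.isLocalRing_quotient hne
  have h1 := ringKrullDim_eq_add_of_flat (R := R) (S := S) _ rfl
  have h2 := depth_eq_depth_add_depth_quotient_of_flat (R := R) (S := S) _ rfl
  haveI := isRegularLocalRing_fibre (R := R) (S := S)
  have h3 := ringKrullDim_eq_depth_of_isRegularLocalRing
    (S ⧸ (maximalIdeal R).map (algebraMap R S))
  rw [h1, h2, h3]
  push_cast
  abel

end Groth.Agent.Lib.Helper6.SmDim
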