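import Mathlib
import Groth.Agent.Lib.Helper6SmDim

set_option autoImplicit false
universe u
open CategoryTheory CategoryTheory.Limits AlgebraicGeometry TopologicalSpace

namespace Groth.Agent.Lib.Helper6.SmDim

open IsLocalRing

theorem stalkMap_flat_formallySmooth {X Y : Scheme.{u}} (f : X ⟶ Y) (x : X)
    (hx : ∃ U : X.Opens, x ∈ U ∧ Smooth (U.ι ≫ f)) :
    (f.stalkMap x).hom.Flat ∧ (f.stalkMap x).hom.FormallySmooth := by
  obtain ⟨U, hxU, hsm⟩ := hx
  have h1 : ((U.ι ≫ f).stalkMap ⟨x, hxU⟩).hom.Flat := Flat.stalkMap (U.ι ≫ f) ⟨x, hxU⟩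
  have h2 : ((U.ι ≫ f).stalkMap ⟨x, hxU⟩).hom.FormallySmooth := by
    have : (⟨x, hxU⟩ : U) ∈ (U.ι ≫ f).smoothLocus := by
      rw [Scheme.Hom.smoothLocus_eq_top]; trivial
    exact this
  rw [Scheme.Hom.stalkMap_comp] at h1 h2
  exact ⟨(RingHom.Flat.respectsIso.cancel_right_isIso _ (U.ι.stalkMap ⟨x, hxU⟩)).mp h1,
    (RingHom.FormallySmooth.respectsIso.cancel_right_isIso _ (U.ι.stalkMap ⟨x, hxU⟩)).mp h2⟩

theorem main4990 {X Y : Scheme.{u}} (f : X ⟶ Y)
    [IsLocallyNoetherian Y] [LocallyOfFiniteType f] (x : ↥X)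
    (hx : ∃ U : X.Opens, x ∈ U ∧ Smooth (U.ι ≫ f)) :
    ringKrullDim ↑(X.presheaf.stalk x) =
      ringKrullDim ↑(Y.presheaf.stalk (f.base x)) +
        ringKrullDim (↑(X.presheaf.stalk x) ⧸
          (IsLocalRing.maximalIdeal ↑(Y.presheaf.stalk (f.base x))).map (f.stalkMap x).hom) := by
  obtain ⟨hflat, -⟩ := stalkMap_flat_formallySmooth f x hx
  haveI : IsLocallyNoetherian X := LocallyOfFiniteType.isLocallyNoetherian f
  algebraize [(f.stalkMap x).hom]
  haveI : IsLocalHom (algebraMap (Y.presheaf.stalk (f.base x)) (X.presheaf.stalk x)) :=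
    inferInstanceAs (IsLocalHom (f.stalkMap x).hom)
  have h := Groth.Agent.Lib.Helper28.ringKrullDim_eq_add_of_flat
    (R := Y.presheaf.stalk (f.base x)) (S := X.presheaf.stalk x) _ rfl
  rw [h, add_comm]
  rfl

theorem main5025 {X Y : Scheme.{u}} (f : X ⟶ Y)
    [IsLocallyNoetherian Y] [LocallyOfFiniteType f] (x : ↥X)
    (hx : ∃ U : X.Opens, x ∈ U ∧ Smooth (U.ι ≫ f)) :
    ringKrullDim ↑(X.presheaf.stalk x) +
        ((LocCoh.depth ↑(Y.presheaf.stalk (f.base x)) ↑(Y.presheaf.stalk (f.base x)) : ℕ∞) : WithBot ℕ∞) =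
      ringKrullDim ↑(Y.presheaf.stalk (f.base x)) +
        ((LocCoh.depth ↑(X.presheaf.stalk x) ↑(X.presheaf.stalk x) : ℕ∞) : WithBot ℕ∞) := by
  obtain ⟨hflat, hsm⟩ := stalkMap_flat_formallySmooth f x hx
  have hft := LocallyOfFiniteType.stalkMap f x
  haveI : IsLocallyNoetherian X := LocallyOfFiniteType.isLocallyNoetherian f
  algebraize [(f.stalkMap x).hom]
  haveI : IsLocalHom (algebraMap (Y.presheaf.stalk (f.base x)) (X.presheaf.stalk x)) :=
    inferInstanceAs (IsLocalHom (f.stalkMap x).hom)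
  exact ringKrullDim_add_depth_eq (R := Y.presheaf.stalk (f.base x)) (S := X.presheaf.stalk x)

end Groth.Agent.Lib.Helper6.SmDim
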