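import Mathlib

set_option autoImplicit false

namespace Groth.Agent.Lib.Helper6.SmEtQuot

open MvPolynomial

/-- étale ring maps descend to quotients by an ideal and its extension -/
theorem etale_quotientMap {A B : Type*} [CommRing A] [CommRing B] (f : A →+* B) (hf : f.Etale)
    (I : Ideal A) : (Ideal.quotientMap (I.map f) f Ideal.le_comap_map).Etale := by
  algebraize [f]
  have e := Algebra.TensorProduct.quotIdealMapEquivQuotTensor B I
  have : Algebra.Etale (A ⧸ I) (B ⧸ I.map (algebraMap A B)) := Algebra.Etale.of_equiv e.symm
  exact RingHom.etale_algebraMap.mpr this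


/-- composition of étale ring maps, universe-polymorphic -/
theorem etale_comp {A B E : Type*} [CommRing A] [CommRing B] [CommRing E] (f : A →+* B)
    (g : B →+* E) (hf : f.Etale) (hg : g.Etale) : (g.comp f).Etale := by
  algebraize [f, g, g.comp f]
  exact Algebra.Etale.comp A B E

section L

variable {C : Type*} [CommRing C] (c : C) {n : ℕ} {D : Type*} [CommRing D]

/-- the polynomial ring over a localization is étale over the polynomial ring -/
theorem etale_map_localizationAway :
    (MvPolynomial.map (σ := Fin n) (algebraMap C (Localization.Away c))).Etale := by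
  letI := MvPolynomial.algebraMvPolynomial (σ := Fin n) (R := C) (S := Localization.Away c)
  have h1 : IsLocalization ((Submonoid.powers c).map (MvPolynomial.C (σ := Fin n)))
      (MvPolynomial (Fin n) (Localization.Away c)) :=
    MvPolynomial.isLocalization (Submonoid.powers c) (Localization.Away c)
  have h2 : IsLocalization.Away (MvPolynomial.C (σ := Fin n) c)
      (MvPolynomial (Fin n) (Localization.Away c)) := by
    have : (Submonoid.powers c).map (MvPolynomial.C (σ := Fin n)) = Submonoid.powers (MvPolynomial.C (σ := Fin n) c) := by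
      rw [Submonoid.map_powers]
    rw [this] at h1
    exact h1
  have := Algebra.Etale.of_isLocalizationAway (R := MvPolynomial (Fin n) C)
    (A := MvPolynomial (Fin n) (Localization.Away c)) (MvPolynomial.C (σ := Fin n) c)
  exact RingHom.etale_algebraMap.mpr this

/-- base change of an étale `K[T] → D` along the evaluation `T ↦ a`, `a` in a localization of `K`
inverted in `D`, is étale over `K` -/
theorem etale_quotient_of_etale_mvPolynomial {K : Type*} [CommRing K] (c : K) {n : ℕ}
    {D : Type*} [CommRing D] (Φ : MvPolynomial (Fin n) K →+* D) (hΦ : Φ.Etale)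
    (hunit : IsUnit ((Φ.comp MvPolynomial.C) c)) (a : Fin n → Localization.Away c) :
    ((Ideal.Quotient.mk (Ideal.span (Set.range fun i =>
        Φ (X i) - IsLocalization.Away.lift (S := Localization.Away c) c hunit (a i)))).comp
      (Φ.comp MvPolynomial.C)).Etale := by
  set lam : (Localization.Away c) →+* D := IsLocalization.Away.lift (S := Localization.Away c) c hunit with hlam
  have hlam_alg : ∀ r : K, lam (algebraMap K (Localization.Away c) r) = Φ (MvPolynomial.C r) := fun r =>
    IsLocalization.Away.lift_eq c hunit r
  -- the map of polynomial rings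
  set m : MvPolynomial (Fin n) K →+* MvPolynomial (Fin n) (Localization.Away c) :=
    MvPolynomial.map (algebraMap K (Localization.Away c)) with hm
  have hm_et : m.Etale := etale_map_localizationAway c
  set Φ' : MvPolynomial (Fin n) (Localization.Away c) →+* D := eval₂Hom lam (fun i => Φ (X i)) with hΦ'
  have hcomp : Φ'.comp m = Φ := by
    apply MvPolynomial.ringHom_ext
    · intro r
      simp [hΦ', hm, hlam_alg]
    · intro i
      simp [hΦ', hm]
  have hΦ'_et : Φ'.Etale := by
    algebraize [m, Φ', Φ'.comp m]
    have h1 : Algebra.Etale (MvPolynomial (Fin n) K) (MvPolynomial (Fin n) (Localization.Away c)) :=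
      RingHom.etale_algebraMap.mp hm_et
    have h2 : Algebra.Etale (MvPolynomial (Fin n) K) D := by
      apply RingHom.etale_algebraMap.mp
      show (Φ'.comp m).Etale
      rw [hcomp]; exact hΦ
    exact RingHom.etale_algebraMap.mpr
      (Algebra.Etale.of_restrictScalars (MvPolynomial (Fin n) K) (MvPolynomial (Fin n) (Localization.Away c)) D)
  -- the evaluation ideal
  set I : Ideal (MvPolynomial (Fin n) (Localization.Away c)) :=
    Ideal.span (Set.range fun i => (X i - MvPolynomial.C (a i) : MvPolynomial (Fin n) (Localization.Away c))) with hI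
  set ε : MvPolynomial (Fin n) (Localization.Away c) →+* (Localization.Away c) := eval₂Hom (RingHom.id (Localization.Away c)) a with hε
  have hεI : ∀ p ∈ I, ε p = 0 := by
    intro p hp
    have : I ≤ RingHom.ker ε := by
      rw [hI, Ideal.span_le]
      rintro _ ⟨i, rfl⟩
      simp [hε, RingHom.mem_ker]
    exact this hp
  have hmod : ∀ p : MvPolynomial (Fin n) (Localization.Away c), p - MvPolynomial.C (ε p) ∈ I := by
    intro p
    induction p using MvPolynomial.induction_on with
    | C r => simp [hε]
    | add p q hp hq =>
      have : p + q - MvPolynomial.C (ε (p + q)) =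
          (p - MvPolynomial.C (ε p)) + (q - MvPolynomial.C (ε q)) := by
        rw [map_add, map_add]; ring
      rw [this]; exact I.add_mem hp hq
    | mul_X p i hp =>
      have : p * X i - MvPolynomial.C (ε (p * X i)) =
          (p - MvPolynomial.C (ε p)) * X i + MvPolynomial.C (ε p) * (X i - MvPolynomial.C (a i)) := by
        have h1 : ε (p * X i) = ε p * a i := by simp [hε]
        rw [h1, map_mul]; ring
      rw [this]
      exact I.add_mem (I.mul_mem_right _ hp)
        (I.mul_mem_left _ (Ideal.subset_span ⟨i, rfl⟩))
  -- `(Localization.Away c) → (Localization.Away c)[T]/I` is bijective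
  set κ : (Localization.Away c) →+* MvPolynomial (Fin n) (Localization.Away c) ⧸ I :=
    (Ideal.Quotient.mk I).comp MvPolynomial.C with hκ
  have hκ_bij : Function.Bijective κ := by
    constructor
    · rw [injective_iff_map_eq_zero]
      intro r hr
      rw [hκ, RingHom.comp_apply, Ideal.Quotient.eq_zero_iff_mem] at hr
      have := hεI _ hr
      simpa [hε] using this
    · intro z
      obtain ⟨p, rfl⟩ := Ideal.Quotient.mk_surjective z
      refine ⟨ε p, ?_⟩
      rw [hκ, RingHom.comp_apply, eq_comm, Ideal.Quotient.eq]
      exact hmod p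
  have hImap : I.map Φ' = Ideal.span (Set.range fun i => Φ (X i) - lam (a i)) := by
    rw [hI, Ideal.map_span]
    congr 1
    ext z
    constructor
    · rintro ⟨_, ⟨i, rfl⟩, rfl⟩
      exact ⟨i, by simp [hΦ']⟩
    · rintro ⟨i, rfl⟩
      exact ⟨_, ⟨i, rfl⟩, by simp [hΦ']⟩
  suffices h : ∀ J₀ : Ideal D, J₀ = I.map Φ' →
      ((Ideal.Quotient.mk J₀).comp (Φ.comp MvPolynomial.C)).Etale from h _ hImap.symm
  intro J₀ hJ₀
  subst hJ₀
  have hfac : (Ideal.Quotient.mk (I.map Φ')).comp (Φ.comp MvPolynomial.C) =
      ((Ideal.quotientMap (I.map Φ') Φ' Ideal.le_comap_map).comp κ).comp (algebraMap K (Localization.Away c)) := by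
    ext r
    simp only [RingHom.comp_apply, hκ, Ideal.quotientMap_mk]
    congr 1
    rw [← hlam_alg]
    simp [hΦ']
  rw [hfac]
  have h1 : (algebraMap K (Localization.Away c)).Etale :=
    RingHom.etale_algebraMap.mpr (Algebra.Etale.of_isLocalizationAway c)
  have h2 : ((Ideal.quotientMap (I.map Φ') Φ' Ideal.le_comap_map).comp κ).Etale :=
    etale_comp _ _ (RingHom.Etale.of_bijective hκ_bij) (etale_quotientMap Φ' hΦ'_et I)
  exact etale_comp _ _ h1 h2

end L


universe u v w

/-- **Smooth `C → B` with `C ↠ B/J`: locally `B_f/J₀` is étale over `C`.** -/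
theorem main (R : Type u) (C : Type v) (B : Type w)
    [CommRing R] [CommRing C] [CommRing B] [Algebra R C] [Algebra C B] [Algebra R B]
    [IsScalarTower R C B] [Algebra.Smooth R C] [Algebra.Smooth C B] (J : Ideal B)
    (hsurj : Function.Surjective ((Ideal.Quotient.mk J).comp (algebraMap C B)))
    (x : PrimeSpectrum (B ⧸ J)) :
    ∃ f : B, Ideal.Quotient.mk J f ∉ x.asIdeal ∧
      ∃ J₀ : Ideal (Localization.Away f), J₀ ≤ J.map (algebraMap B (Localization.Away f)) ∧
        ((Ideal.Quotient.mk J₀).comp
          ((algebraMap B (Localization.Away f)).comp (algebraMap C B))).Etale := by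
  classical
  set q : Ideal B := x.asIdeal.comap (Ideal.Quotient.mk J) with hq
  haveI : q.IsPrime := Ideal.comap_isPrime _ _
  haveI : Algebra.FormallySmooth B (Localization.AtPrime q) :=
    Algebra.FormallySmooth.of_isLocalization q.primeCompl
  haveI : Algebra.IsSmoothAt C q := Algebra.FormallySmooth.comp C B (Localization.AtPrime q)
  obtain ⟨g, hgq, n, alg, htower, hstd⟩ :=
    Algebra.IsSmoothAt.exists_isStandardEtale_mvPolynomial (R := C) (S := B) (p := q)
  have hgx : Ideal.Quotient.mk J g ∉ x.asIdeal := hgq
  obtain ⟨c, hc⟩ := hsurj (Ideal.Quotient.mk J g)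
  have hcJ : g - algebraMap C B c ∈ J := by
    rw [← Ideal.Quotient.eq]; exact hc.symm
  set f : B := g * algebraMap C B c with hf
  have hfx : Ideal.Quotient.mk J f ∉ x.asIdeal := by
    rw [hf, map_mul]
    have h2 : Ideal.Quotient.mk J (algebraMap C B c) = Ideal.Quotient.mk J g := hc
    rw [h2]
    exact fun h => (x.isPrime.mem_or_mem h).elim hgx hgx
  refine ⟨f, hfx, ?_⟩
  -- units in `B_f`
  have hfu : IsUnit (algebraMap B (Localization.Away f) f) :=
    IsLocalization.Away.algebraMap_isUnit f
  have hgu : IsUnit (algebraMap B (Localization.Away f) g) := by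
    rw [hf, map_mul] at hfu
    exact isUnit_of_mul_isUnit_left hfu
  have hcu : IsUnit (algebraMap B (Localization.Away f) (algebraMap C B c)) := by
    rw [hf, map_mul] at hfu
    exact isUnit_of_mul_isUnit_right hfu
  -- the map `B_g → B_f`
  set ψ : Localization.Away g →+* Localization.Away f :=
    IsLocalization.Away.lift (S := Localization.Away g) g hgu with hψdef
  have hψ : ψ.comp (algebraMap B (Localization.Away g)) = algebraMap B (Localization.Away f) :=
    IsLocalization.Away.lift_comp g hgu
  have hψ_et : ψ.Etale := by
    algebraize [ψ]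
    haveI : IsScalarTower B (Localization.Away g) (Localization.Away f) :=
      IsScalarTower.of_algebraMap_eq' hψ.symm
    haveI : Algebra.Etale B (Localization.Away g) := Algebra.Etale.of_isLocalizationAway g
    haveI : Algebra.Etale B (Localization.Away f) := Algebra.Etale.of_isLocalizationAway f
    exact RingHom.etale_algebraMap.mpr
      (Algebra.Etale.of_restrictScalars B (Localization.Away g) (Localization.Away f))
  set φ : MvPolynomial (Fin n) C →+* Localization.Away g :=
    algebraMap (MvPolynomial (Fin n) C) (Localization.Away g) with hφdef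
  have hφ_et : φ.Etale := RingHom.etale_algebraMap.mpr inferInstance
  set Φ : MvPolynomial (Fin n) C →+* Localization.Away f := ψ.comp φ with hΦdef
  have hΦ_et : Φ.Etale := etale_comp φ ψ hφ_et hψ_et
  have hΦC : Φ.comp MvPolynomial.C =
      (algebraMap B (Localization.Away f)).comp (algebraMap C B) := by
    have h1 : φ.comp MvPolynomial.C = algebraMap C (Localization.Away g) := by
      rw [hφdef, IsScalarTower.algebraMap_eq C (MvPolynomial (Fin n) C) (Localization.Away g),
        MvPolynomial.algebraMap_eq]
    have h2 : algebraMap C (Localization.Away g) =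
        (algebraMap B (Localization.Away g)).comp (algebraMap C B) :=
      IsScalarTower.algebraMap_eq C B (Localization.Away g)
    rw [hΦdef, RingHom.comp_assoc, h1, h2, ← RingHom.comp_assoc, hψ]
  have hunit : IsUnit ((Φ.comp MvPolynomial.C) c) := by rw [hΦC]; exact hcu
  set lam : Localization.Away c →+* Localization.Away f :=
    IsLocalization.Away.lift (S := Localization.Away c) c hunit with hlamdef
  have hlam_alg : ∀ r : C, lam (algebraMap C (Localization.Away c) r) =
      algebraMap B (Localization.Away f) (algebraMap C B r) := fun r => by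
    rw [hlamdef, IsLocalization.Away.lift_eq, hΦC]; rfl
  -- congruences mod `J`
  have hmkf : Ideal.Quotient.mk J f = (Ideal.Quotient.mk J (algebraMap C B c)) ^ 2 := by
    have h2 : Ideal.Quotient.mk J (algebraMap C B c) = Ideal.Quotient.mk J g := hc
    rw [hf, map_mul, h2, sq]
  have key : ∀ d : Localization.Away f, ∃ a : Localization.Away c,
      d - lam a ∈ J.map (algebraMap B (Localization.Away f)) := by
    intro d
    obtain ⟨b, ⟨_, m, rfl⟩, rfl⟩ := IsLocalization.exists_mk'_eq (Submonoid.powers f) d
    obtain ⟨cb, hcb⟩ := hsurj (Ideal.Quotient.mk J b)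
    have hcb' : Ideal.Quotient.mk J (algebraMap C B cb) = Ideal.Quotient.mk J b := hcb
    refine ⟨IsLocalization.mk' (Localization.Away c) cb
      (⟨c ^ (2 * m), ⟨2 * m, rfl⟩⟩ : Submonoid.powers c), ?_⟩
    set d := IsLocalization.mk' (Localization.Away f) b
      (⟨f ^ m, ⟨m, rfl⟩⟩ : Submonoid.powers f) with hd
    set a := IsLocalization.mk' (Localization.Away c) cb
      (⟨c ^ (2 * m), ⟨2 * m, rfl⟩⟩ : Submonoid.powers c) with ha
    have h1 : d * algebraMap B (Localization.Away f) (f ^ m) =
        algebraMap B (Localization.Away f) b := IsLocalization.mk'_spec _ _ _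
    have h2 : lam a * algebraMap B (Localization.Away f) (algebraMap C B c) ^ (2 * m) =
        algebraMap B (Localization.Away f) (algebraMap C B cb) := by
      have h3 : a * algebraMap C (Localization.Away c) (c ^ (2 * m)) =
          algebraMap C (Localization.Away c) cb := IsLocalization.mk'_spec _ _ _
      have h4 := congrArg lam h3
      rw [map_mul, hlam_alg, hlam_alg, map_pow, map_pow] at h4
      exact h4
    have hu : IsUnit (algebraMap B (Localization.Away f) (f ^ m) *
        algebraMap B (Localization.Away f) (algebraMap C B c) ^ (2 * m)) := by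
      rw [map_pow]
      exact (hfu.pow m).mul (hcu.pow (2 * m))
    rw [← Ideal.mul_unit_mem_iff_mem _ hu]
    have h5 : (d - lam a) * (algebraMap B (Localization.Away f) (f ^ m) *
        algebraMap B (Localization.Away f) (algebraMap C B c) ^ (2 * m)) =
        algebraMap B (Localization.Away f)
          (b * algebraMap C B c ^ (2 * m) - algebraMap C B cb * f ^ m) := by
      rw [map_sub, map_mul, map_mul, map_pow (algebraMap B (Localization.Away f)) (algebraMap C B c),
        ← h1, ← h2]
      ring
    rw [h5]
    apply Ideal.mem_map_of_mem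
    rw [← Ideal.Quotient.eq_zero_iff_mem, map_sub, map_mul, map_mul, map_pow, map_pow, hmkf,
      hcb', ← pow_mul]
    ring
  choose a ha using fun i : Fin n => key (Φ (MvPolynomial.X i))
  refine ⟨Ideal.span (Set.range fun i => Φ (MvPolynomial.X i) - lam (a i)), ?_, ?_⟩
  · rw [Ideal.span_le]
    rintro _ ⟨i, rfl⟩
    exact ha i
  · have := etale_quotient_of_etale_mvPolynomial c Φ hΦ_et hunit a
    have hfinal : (Ideal.Quotient.mk (Ideal.span (Set.range fun i =>
          Φ (MvPolynomial.X i) - lam (a i)))).comp
          ((algebraMap B (Localization.Away f)).comp (algebraMap C B)) =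
        (Ideal.Quotient.mk (Ideal.span (Set.range fun i =>
          Φ (MvPolynomial.X i) - lam (a i)))).comp (Φ.comp MvPolynomial.C) := by
      rw [hΦC]
    rw [hfinal]
    exact this

end Groth.Agent.Lib.Helper6.SmEtQuot
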