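import Mathlib
import Groth.Agent.Lib.Helper6SmQF

set_option autoImplicit false
universe u

namespace Groth.Agent.Lib.Helper6.SmQFAt

open IsLocalRing

theorem isEtaleAt_of_isSmoothAt_of_quasiFiniteAt (A B : Type u) [CommRing A] [CommRing B]
    [Algebra A B] [Algebra.FinitePresentation A B] (q : Ideal B) [q.IsPrime]
    [Algebra.QuasiFiniteAt A q] (h : Algebra.IsSmoothAt A q) : Algebra.IsEtaleAt A q := by
  let p : Ideal A := q.under A
  haveI : q.LiesOver p := ⟨rfl⟩
  letI := Localization.AtPrime.algebraOfLiesOver p q
  haveI : Algebra.FormallySmooth A (Localization.AtPrime q) := h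
  haveI : Algebra.FormallySmooth (Localization.AtPrime p) (Localization.AtPrime q) :=
    (Algebra.FormallySmooth.iff_restrictScalars (R := A) (A := Localization.AtPrime p)).mp h
  haveI : Algebra.QuasiFinite (Localization.AtPrime p) (Localization.AtPrime q) :=
    Algebra.QuasiFinite.of_restrictScalars A _ _
  haveI : Algebra.EssFiniteType (Localization.AtPrime p) (Localization.AtPrime q) :=
    Algebra.EssFiniteType.of_comp A _ _
  haveI : IsLocalHom (algebraMap (Localization.AtPrime p) (Localization.AtPrime q)) := inferInstance
  haveI : Algebra.FormallyUnramified (Localization.AtPrime p) (Localization.AtPrime q) :=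
    Groth.Agent.Lib.Helper6.SmQF.formallyUnramified_of_formallySmooth_of_quasiFinite
  haveI : Algebra.FormallyUnramified A (Localization.AtPrime q) :=
    Algebra.FormallyUnramified.comp A (Localization.AtPrime p) _
  exact Algebra.FormallyEtale.of_formallyUnramified_and_formallySmooth

end Groth.Agent.Lib.Helper6.SmQFAt
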