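import Mathlib
import Groth.Prelude.Def_Curv2
import Groth.Agent.Lib.Helper6GeomComp3
import Groth.Agent.Lib.Helper6GeomRedSm
import Groth.Agent.Lib.Helper6SmRegSch
import Groth.Agent.Lib.Helper28Catenary

set_option autoImplicit false
universe u
open CategoryTheory CategoryTheory.Limits AlgebraicGeometry TensorProduct

namespace Groth.Agent.Lib.Helper6.SmRatPt

variable (k : Type u) [Field k] (X : Scheme.{u}) [X.Over (Spec (CommRingCat.of k))]

/-- the local ring at a smooth point of a scheme over a field is regular -/
theorem isRegularLocalRing_stalk_of_mem_smoothLocus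
    [LocallyOfFinitePresentation (X ↘ Spec (CommRingCat.of k))] (x : X)
    (hsm : x ∈ (X ↘ Spec (CommRingCat.of k)).smoothLocus) :
    IsRegularLocalRing (X.presheaf.stalk x) := by
  let f := X ↘ Spec (CommRingCat.of k)
  let U := f.smoothLocus
  haveI : Smooth (U.ι ≫ f) := Groth.Agent.Lib.Helper6.GeomRedSm.smooth_smoothLocus_ι_comp f
  let x' : U.toScheme := ⟨x, hsm⟩
  haveI h1 : IsRegularLocalRing (U.toScheme.presheaf.stalk x') :=
    Groth.Agent.Lib.Helper6.SmRegSch.isRegularLocalRing_stalk_of_smooth_over_field k U.toScheme
      (U.ι ≫ f) x'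
  have e : U.toScheme.presheaf.stalk x' ≃+* X.presheaf.stalk x :=
    (asIso (U.ι.stalkMap x')).commRingCatIsoToRingEquiv.symm
  exact IsRegularLocalRing.of_ringEquiv e

attribute [local instance] Curv2.resAlgebra

/-- on an integral scheme over `k` with a `k`-rational point whose local ring is integrally closed,
every element of the function field algebraic over `k` lies in `k` -/
theorem mem_range_of_isIntegral [IsIntegral X] (x : X)
    (hx : Function.Surjective (Curv2.resMap k X x))
    [IsIntegrallyClosed (X.presheaf.stalk x)]
    (a : X.residueField (genericPoint X)) (ha : IsIntegral k a) :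
    a ∈ Set.range (algebraMap k (X.residueField (genericPoint X))) := by
  let ξ := genericPoint X
  -- the residue map at the generic point is bijective
  have hres : Function.Bijective (X.residue ξ).hom := by
    constructor
    · exact (X.residue ξ).hom.injective
    · exact IsLocalRing.residue_surjective
  obtain ⟨a', ha'⟩ := hres.2 a
  let p := minpoly k a
  have hp : p.Monic := minpoly.monic ha
  -- `a'` is a root of `p` over the local ring at `x`
  have hspec : (X.presheaf.stalkSpecializes
      ((genericPoint_spec X).specializes (Set.mem_univ x))).hom.comp (Curv2.stalkMap k X x) =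
      Curv2.stalkMap k X ξ := by
    ext c
    simp only [Curv2.stalkMap, RingHom.coe_comp, Function.comp_apply]
    rw [← CommRingCat.comp_apply, X.presheaf.germ_stalkSpecializes]
  have hroot : Polynomial.eval₂ (algebraMap (X.presheaf.stalk x) X.functionField) a'
      (p.map (Curv2.stalkMap k X x)) = 0 := by
    rw [Polynomial.eval₂_map]
    have h2 : (algebraMap (X.presheaf.stalk x) X.functionField).comp (Curv2.stalkMap k X x) =
        Curv2.stalkMap k X ξ := hspec
    rw [h2]
    apply hres.1
    rw [map_zero, Polynomial.hom_eval₂, ha']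
    have h3 : (X.residue ξ).hom.comp (Curv2.stalkMap k X ξ) =
        algebraMap k (X.residueField ξ) := rfl
    rw [h3]
    exact minpoly.aeval k a
  have hint : IsIntegral (X.presheaf.stalk x) a' :=
    ⟨p.map (Curv2.stalkMap k X x), hp.map _, hroot⟩
  obtain ⟨b, hb⟩ := IsIntegrallyClosed.isIntegral_iff.mp hint
  -- `b` is a root of `p` over the local ring
  have hbroot : Polynomial.eval b (p.map (Curv2.stalkMap k X x)) = 0 := by
    apply IsFractionRing.injective (X.presheaf.stalk x) X.functionField
    rw [map_zero, ← hroot, ← hb, Polynomial.eval₂_hom]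
  -- reduce to the residue field
  obtain ⟨c, hc⟩ := hx ((X.residue x).hom b)
  have hcroot : Polynomial.eval c p = 0 := by
    apply (Curv2.resMap k X x).injective
    rw [map_zero, ← Polynomial.eval₂_hom, ← Polynomial.eval_map, hc]
    have h4 : Curv2.resMap k X x = (X.residue x).hom.comp (Curv2.stalkMap k X x) := rfl
    rw [h4, ← Polynomial.map_map, Polynomial.eval_map, Polynomial.eval₂_hom, hbroot, map_zero]
  have hdeg : p.degree = 1 :=
    Polynomial.degree_eq_one_of_irreducible_of_root (minpoly.irreducible ha) hcroot
  exact minpoly.mem_range_of_degree_eq_one k a hdeg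

/-- **A variety with a smooth rational point is geometrically integral.** -/
theorem geometricallyIntegral_of_smooth_rational_point [IsIntegral X]
    [LocallyOfFiniteType (X ↘ Spec (CommRingCat.of k))]
    (x : X) (hx : Function.Surjective (Curv2.resMap k X x))
    (hsm : x ∈ (X ↘ Spec (CommRingCat.of k)).smoothLocus) :
    GeometricallyIntegral (X ↘ Spec (CommRingCat.of k)) := by
  haveI : LocallyOfFinitePresentation (X ↘ Spec (CommRingCat.of k)) :=
    LocallyOfFinitePresentation.iff_locallyOfFiniteType.mpr inferInstance
  let f := X ↘ Spec (CommRingCat.of k)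
  rw [GeometricallyIntegral.eq_geometricallyReduced_inf_geometricallyIrreducible]
  refine ⟨?_, ?_⟩
  · show GeometricallyReduced f
    rw [Groth.Agent.Lib.Helper6.GeomRedSm.geometricallyReduced_iff_exists_dense_smooth k X]
    refine ⟨f.smoothLocus, ?_, Groth.Agent.Lib.Helper6.GeomRedSm.smooth_smoothLocus_ι_comp f⟩
    exact f.smoothLocus.2.dense ⟨x, hsm⟩
  · show GeometricallyIrreducible f
    rw [Groth.Agent.Lib.Helper6.GeomComp.geometricallyIrreducible_iff_sepClosed_generic k X]
    intro a ha
    haveI : IsRegularLocalRing (X.presheaf.stalk x) :=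
      isRegularLocalRing_stalk_of_mem_smoothLocus k X x hsm
    haveI : IsIntegrallyClosed (X.presheaf.stalk x) :=
      Groth.Agent.Lib.Helper28.isIntegrallyClosed_of_isRegularLocalRing _
    exact mem_range_of_isIntegral k X x hx a ha.isIntegral

end Groth.Agent.Lib.Helper6.SmRatPt
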