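import Groth.Agent.Lib.Helper6CurveDeg
import Groth.Agent.Lib.Helper27ExtHom1
import Groth.Agent.Lib.LeadCohRank

/-!
# `h⁰(L) > g` forces `H¹(L) = 0` for a line bundle on a curve, without Serre duality (helper6): S11823

For `s : O ⟶ L` nonzero, `H¹(s) : H¹(O) ⟶ H¹(L)` is surjective (the cokernel is a skyscraper).  A nonzero
functional `λ` on `H¹(L)` then makes `s ↦ λ ∘ H¹(s)` an injective `k`-linear map `Hom(O, L) → H¹(O)^*`.
-/

set_option autoImplicit false
set_option linter.style.haveILetI false
universe u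
open CategoryTheory Limits AlgebraicGeometry Opposite TopologicalSpace

namespace Groth.Agent.Lib.Helper6.SpecialH1

open Groth.Agent.Lib.Helper6.CurveDeg Groth.Agent.Lib.Helper27ExtHom1 Groth.Agent.Lib.Helper27ExtDual1
  Groth.Agent.Lib.Helper23.SecTw Groth.Agent.Lib.Helper4.Dev

section Gen

variable {k : Type u} [CommRing k] {X : Scheme.{u}} [X.Over (Spec (CommRingCat.of k))]

/-- the `k`-linear map `Hom(O, M) → H⁰(M)` -/
noncomputable def secLin (M : X.Modules) : (Coh.structureModule X ⟶ M) →ₗ[k] Coh.HH X M 0 where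
  toFun s := (h0 M).symm (sv s ⊤)
  map_add' s t := by rw [Groth.Agent.Lib.Helper23.SecTw.sv_add s t ⊤, map_add]
  map_smul' a s := by
    apply (h0 M).injective
    have h1 : (RingHom.id k) a • (h0 M).symm (sv s ⊤) =
      (Coh.toGlobal (X ↘ Spec (CommRingCat.of k)) a) • (h0 M).symm (sv s ⊤) := rfl
    rw [h1, h0_smul, AddEquiv.apply_symm_apply, AddEquiv.apply_symm_apply, sv_smul]

theorem secLin_surjective (M : X.Modules) : Function.Surjective (secLin (k := k) M) := by
  intro y
  refine ⟨secHom M (h0 M y), ?_⟩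
  change (h0 M).symm (sv (secHom M (h0 M y)) ⊤) = y
  rw [sv_secHom, res_self, AddEquiv.symm_apply_apply]

end Gen

variable (k : Type u) [Field k] (X : Scheme.{u}) [X.Over (Spec (CommRingCat.of k))]
  [IsIntegral X] [IsProper (X ↘ (Spec (CommRingCat.of k)))]

/-- a nonzero map of invertible modules on a curve is surjective on `H¹` -/
theorem HHlin_one_surjective (hdim : topologicalKrullDim X = 1) (N L : X.Modules)
    (hN : PicF.IsInvertible N) (hL : PicF.IsInvertible L) (φ : N ⟶ L) (hφ : φ ≠ 0) :
    Function.Surjective (Canon.HHlin k φ 1) := by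
  haveI : IsLocallyNoetherian X :=
    LocallyOfFiniteType.isLocallyNoetherian (X ↘ (Spec (CommRingCat.of k)))
  haveI : Mono φ := mono_of_ne_zero hN hL φ hφ
  have cN := isCoh_of_isInvertible N hN
  have cL := isCoh_of_isInvertible L hL
  have cQ : Coh.IsCoh (cokernel φ) := isCoh_cokernel φ cN cL
  have hZ : IsClosed (CohB1.support (cokernel φ)) := Groth.Agent.S0020.result X _ cQ.2
  have hη : genericPoint X ∉ CohB1.support (cokernel φ) :=
    fun h => h (subsingleton_stalk_cokernel hN hL φ hφ)
  have hsupp : topologicalKrullDim (CohB1.support (cokernel φ)) ≤ 0 :=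
    topologicalKrullDim_le_zero_of_ne_univ hdim.le _ hZ (fun h => hη (h ▸ Set.mem_univ _))
  have hsub : Subsingleton (Coh.HH X (cokernel φ) 1) :=
    Groth.Agent.S1526.result k X _ cQ hsupp 1 le_rfl
  intro x
  obtain ⟨y, hy⟩ := Groth.Agent.Lib.LeadCohRank.exact_mid (sesOfMono φ) (sesOfMono_shortExact φ) 1 x
    (hsub.elim _ _)
  exact ⟨y, hy⟩

/-- S11823 -/
theorem main (hdim : topologicalKrullDim X = 1) (L : X.Modules) (hL : PicF.IsInvertible L)
    (h0 : Curv2.genus k X < Module.finrank k (Coh.HH X L 0)) : Subsingleton (Coh.HH X L 1) := by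
  by_contra hns
  haveI : Nontrivial (Coh.HH X L 1) := not_subsingleton_iff_nontrivial.1 hns
  obtain ⟨v, hv⟩ := exists_ne (0 : Coh.HH X L 1)
  obtain ⟨lam, hlam⟩ : ∃ lam : Module.Dual k (Coh.HH X L 1), lam v ≠ 0 := by
    obtain ⟨g, hg⟩ := LinearMap.exists_leftInverse_of_injective
      (LinearMap.toSpanSingleton k (Coh.HH X L 1) v)
      (LinearMap.ker_eq_bot.2 (fun a b hab => by
        have h1 : a • v = b • v := hab
        exact smul_left_injective k hv h1))
    refine ⟨g, ?_⟩
    have h1 := LinearMap.congr_fun hg 1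
    simp only [LinearMap.comp_apply, LinearMap.toSpanSingleton_apply, one_smul, LinearMap.id_apply] at h1
    rw [h1]
    exact one_ne_zero
  have hO : PicF.IsInvertible (Coh.structureModule X) :=
    Groth.Agent.Lib.Helper23.TensorUnit.isInvertible_structureModule X
  have cO := isCoh_of_isInvertible _ hO
  haveI : IsLocallyNoetherian X :=
    LocallyOfFiniteType.isLocallyNoetherian (X ↘ (Spec (CommRingCat.of k)))
  haveI : Module.Finite k (Coh.HH X (Coh.structureModule X) 1) :=
    Groth.Agent.S0002.result k X _ cO 1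
  have hinj : Function.Injective (dualityLin L 1 lam (Coh.structureModule X)) := by
    rw [← LinearMap.ker_eq_bot, LinearMap.ker_eq_bot']
    intro s hs
    by_contra hs0
    obtain ⟨x, hx⟩ := HHlin_one_surjective k X hdim _ L hO hL s hs0 v
    apply hlam
    rw [← hx, ← dualityLin_apply, hs]
    rfl
  haveI : Module.Finite k (Coh.structureModule X ⟶ L) := Module.Finite.of_injective _ hinj
  have h1 : Module.finrank k (Coh.structureModule X ⟶ L) ≤
      Module.finrank k (Module.Dual k (Coh.HH X (Coh.structureModule X) 1)) :=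
    LinearMap.finrank_le_finrank_of_injective hinj
  rw [Subspace.dual_finrank_eq] at h1
  have h2 : Module.finrank k (Coh.HH X L 0) ≤ Module.finrank k (Coh.structureModule X ⟶ L) :=
    LinearMap.finrank_le_finrank_of_surjective (secLin_surjective (k := k) L)
  unfold Curv2.genus at h0
  omega

end Groth.Agent.Lib.Helper6.SpecialH1
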