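import Groth.Agent.Lib.Helper6BddVanish
import Groth.Agent.Lib.Helper6H0Crit
import Groth.Agent.Lib.Helper23InvDual
import Groth.Agent.Lib.Helper23LocGen
import Groth.Agent.Lib.Helper23AmpleFam2
import Groth.Agent.Lib.Helper4CurveRk2
import Groth.Agent.Lib.Helper4CurveHN

/-!
# Stable `L`-valued pairs of rank two have stable underlying bundle (helper6): S16006
-/

set_option autoImplicit false
set_option linter.style.haveILetI false
universe u
open CategoryTheory Limits AlgebraicGeometry Opposite TopologicalSpace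

namespace Groth.Agent.Lib.Helper6.StablePair

open Groth.Agent.Lib.Helper4.CurveBun Groth.Agent.Lib.Helper4.DegAdd Groth.Agent.Lib.Helper4.CurveRR
  Groth.Agent.Lib.Helper4.Dev Groth.Agent.Lib.Helper6.CurveDeg
  Groth.Agent.Lib.Helper4.CurveStab Groth.Agent.Lib.Helper23.SecTw
  Groth.Agent.Lib.Helper4.CurveAsym Groth.Agent.Lib.Helper6.TwistSS
  Groth.Agent.Lib.Helper27GlobGenPn Groth.Agent.Lib.Helper27SerreVan
  Groth.Agent.Lib.Helper6.GGCurve

/-- tensor cancellation by an invertible module -/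
theorem cancel {X : Scheme.{u}} (F M : X.Modules) (hF : PicF.IsInvertible F)
    (e : F ≅ CohB1.tensorMod F M) : Nonempty (M ≅ Coh.structureModule X) := by
  obtain ⟨e0⟩ := Groth.Agent.Lib.Helper23.InvDual.nonempty_tensorMod_dual_iso F hF
  have b : CohB1.tensorMod (RefHull.dual F) F ≅ Coh.structureModule X :=
    Groth.Agent.Lib.Helper23.AmpleFam2.tensorBraid (RefHull.dual F) F ≪≫ e0
  exact ⟨(lam M).symm ≪≫ ((Groth.Agent.Lib.Helper27SerreVan.tw M).mapIso b).symm ≪≫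
    Groth.Agent.Lib.Helper23.LocGen.tensorAssoc (RefHull.dual F) F M ≪≫
    ((tl (RefHull.dual F)).mapIso e).symm ≪≫ b⟩

variable (k : Type u) [Field k] (X : Scheme.{u}) [X.Over (Spec (CommRingCat.of k))]
  [IsIntegral X] [IsProper (X ↘ Spec (CommRingCat.of k))]

/-- S16006 -/
theorem main [IsAlgClosed k] [Smooth (X ↘ Spec (CommRingCat.of k))] (hdim : topologicalKrullDim X = 1)
    (L : X.Modules) (hL : PicF.IsInvertible L) (hL0 : Curv2.deg k X L 1 = 0)
    (hL2 : ¬ Nonempty (CohB1.tensorMod L L ≅ Coh.structureModule X))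
    (E : X.Modules) (hE : FlatMod.IsFinLocFreeOfRank 2 E)
    (φ : E ⟶ CohB1.tensorMod E L)
    (hst : ∀ (G : X.Modules) (j : G ⟶ E) (χ : G ⟶ CohB1.tensorMod G L), Mono j →
      FlatMod.IsFinLocFreeOfRank 1 G → χ ≫ wl j L = j ≫ φ →
      Curv2.deg k X G 1 * (2 : ℤ) < Curv2.deg k X E 2)
    (G : X.Modules) (j : G ⟶ E) (hj : Mono j) (hG : FlatMod.IsFinLocFreeOfRank 1 G) :
    Curv2.deg k X G 1 * (2 : ℤ) < Curv2.deg k X E 2 := by
  have hpid : PIDStalks X := pidStalks_of_smooth k X (X ↘ Spec (CommRingCat.of k)) hdim.le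
  haveI : IsLocallyNoetherian X := isLocallyNoetherian_of_proper k X
  by_contra hcon
  push Not at hcon
  haveI := hj
  obtain ⟨F, g, u, hg, hu, -, hG', hF, hdeg, hle, -⟩ :=
    Groth.Agent.Lib.Helper4.CurveSat.exists_saturation k X hpid hdim j 1 2 hG hE
  haveI := hg
  have hF1 : FlatMod.IsFinLocFreeOfRank 1 F := hF
  have hS := sesOfEpi_shortExact g
  have hS' := shortExact_tw L hL (sesOfEpi g) hS
  obtain ⟨hFL, hdFL⟩ := Groth.Agent.Lib.Helper6.H0Crit.rtwist_rank_deg k X hpid hdim L hL 1 F hF1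
  obtain ⟨hGL, hdGL⟩ :=
    Groth.Agent.Lib.Helper6.H0Crit.rtwist_rank_deg k X hpid hdim L hL 1 (kernel g) hG'
  rw [hL0] at hdFL hdGL
  have lift : ∀ {T : X.Modules} (t : T ⟶ CohB1.tensorMod E L), t ≫ wl g L = 0 →
      ∃ χ : T ⟶ CohB1.tensorMod (kernel g) L, χ ≫ wl (kernel.ι g) L = t := by
    intro T t ht
    haveI := hS'.mono_f
    exact ⟨hS'.exact.lift t ht, hS'.exact.lift_f t ht⟩
  by_cases hψ : kernel.ι g ≫ φ ≫ wl g L = 0
  · obtain ⟨χ, hχ⟩ := lift (kernel.ι g ≫ φ) (by rw [Category.assoc]; exact hψ)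
    have h1 := hst (kernel g) (kernel.ι g) χ inferInstance hG' hχ
    linarith
  · obtain ⟨-, hdle, hiso⟩ :=
      Groth.Agent.Lib.Helper4.CurveRk2.hom_rank_one k X hpid hdim hG' hFL _ hψ
    have hdeq : Curv2.deg k X (kernel g) 1 = Curv2.deg k X (CohB1.tensorMod F L) 1 := by
      linarith
    haveI hψiso : IsIso (kernel.ι g ≫ φ ≫ wl g L) := hiso hdeq
    haveI : Epi (φ ≫ wl g L) := epi_of_epi_fac (f := kernel.ι g) (g := φ ≫ wl g L) rfl
    obtain ⟨a, h2a, hK, hdK⟩ :=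
      Groth.Agent.Lib.Helper4.CurveSat.kernel_of_epi k X hpid (φ ≫ wl g L) 2 1 hE hFL
    obtain rfl : a = 1 := by omega
    have hcond : (kernel.ι (φ ≫ wl g L) ≫ φ) ≫ wl g L = 0 := by
      rw [Category.assoc]; exact kernel.condition _
    obtain ⟨θ, hθ⟩ := lift (kernel.ι (φ ≫ wl g L) ≫ φ) hcond
    by_cases hθ0 : θ = 0
    · have h1 := hst (kernel (φ ≫ wl g L)) (kernel.ι (φ ≫ wl g L)) 0 inferInstance hK
        (by rw [zero_comp, ← hθ, hθ0, zero_comp])
      linarith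
    · obtain ⟨-, -, hiso2⟩ :=
        Groth.Agent.Lib.Helper4.CurveRk2.hom_rank_one k X hpid hdim hK hGL θ hθ0
      haveI hθiso : IsIso θ := hiso2 (by linarith)
      have hne : kernel.ι (φ ≫ wl g L) ≫ g ≠ 0 := by
        intro h0
        have h1 : kernel.lift g (kernel.ι (φ ≫ wl g L)) h0 ≫ (kernel.ι g ≫ φ ≫ wl g L) = 0 := by
          rw [← Category.assoc, kernel.lift_ι]; exact kernel.condition _
        have h2 : kernel.lift g (kernel.ι (φ ≫ wl g L)) h0 = 0 := by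
          rw [← cancel_mono (kernel.ι g ≫ φ ≫ wl g L), h1, zero_comp]
        have h3 : kernel.ι (φ ≫ wl g L) = 0 := by
          rw [← kernel.lift_ι g (kernel.ι (φ ≫ wl g L)) h0, h2, zero_comp]
        exact Groth.Agent.Lib.Helper4.CurveHN.not_isZero_of_rank_pos X _ 1 one_pos hK
          (IsZero.of_mono_eq_zero _ h3)
      obtain ⟨-, -, hiso3⟩ :=
        Groth.Agent.Lib.Helper4.CurveRk2.hom_rank_one k X hpid hdim hK hF1 _ hne
      haveI : IsIso (kernel.ι (φ ≫ wl g L) ≫ g) := hiso3 (by linarith)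
      have e : F ≅ CohB1.tensorMod F (CohB1.tensorMod L L) :=
        (asIso (kernel.ι (φ ≫ wl g L) ≫ g)).symm ≪≫ asIso θ ≪≫
          (Groth.Agent.Lib.Helper27SerreVan.tw L).mapIso (asIso (kernel.ι g ≫ φ ≫ wl g L)) ≪≫
          Groth.Agent.Lib.Helper23.LocGen.tensorAssoc F L L
      exact hL2 (cancel F _ (Groth.Agent.Lib.Helper6.H0Semi.isInvertible_of_rank_one (X := X) hF1) e)

end Groth.Agent.Lib.Helper6.StablePair
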