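import Mathlib

/-!
# Syzygies: dimension shifting along an exact sequence (helper6)
-/

set_option autoImplicit false
universe u
open CategoryTheory Limits

namespace Groth.Agent.Lib.Helper6.Syzygy

variable {A : Type*} [Category A] [Abelian A] {B : Type*} [Category B] [Abelian B]
  (Φ : A ⥤ B) [Φ.Additive] [PreservesFiniteLimits Φ] [PreservesFiniteColimits Φ]

/-- dimension shifting through an exact functor -/
theorem shift {S : ShortComplex A} (hS : S.ShortExact) (n : ℕ) (hn : 1 ≤ n)
    (h2 : Projective (Φ.obj S.X₂)) (h3 : HasProjectiveDimensionLT (Φ.obj S.X₃) (n + 1)) :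
    HasProjectiveDimensionLT (Φ.obj S.X₁) n := by
  have hS' : (S.map Φ).ShortExact := hS.map_of_exact Φ
  have h2' : HasProjectiveDimensionLT (S.map Φ).X₂ n := by
    haveI : Projective (S.map Φ).X₂ := h2
    exact hasProjectiveDimensionLT_of_ge _ 1 n hn
  exact hS'.hasProjectiveDimensionLT_X₁ n h2' h3

/-- the short exact sequence `0 → ker f → X → ker g → 0` attached to an exact pair `f, g` -/
theorem shortExact_kernels {X Y Z : A} (f : X ⟶ Y) (g : Y ⟶ Z) (w : f ≫ g = 0)
    (hex : (ShortComplex.mk f g w).Exact) :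
    (ShortComplex.mk (kernel.ι f) (kernel.lift g f w)
      (by rw [← cancel_mono (kernel.ι g), Category.assoc, kernel.lift_ι, kernel.condition,
        zero_comp])).ShortExact := by
  have hw : kernel.ι f ≫ kernel.lift g f w = 0 := by
    rw [← cancel_mono (kernel.ι g), Category.assoc, kernel.lift_ι, kernel.condition, zero_comp]
  let S₁ : ShortComplex A := ShortComplex.mk (kernel.ι f) (kernel.lift g f w) hw
  let S₂ : ShortComplex A := ShortComplex.mk (kernel.ι f) f (kernel.condition f)
  have h2 : S₂.Exact := ShortComplex.exact_of_f_is_kernel _ (kernelIsKernel f)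
  let φ : S₁ ⟶ S₂ :=
    { τ₁ := 𝟙 _
      τ₂ := 𝟙 _
      τ₃ := kernel.ι g
      comm₁₂ := by simp [S₁, S₂]
      comm₂₃ := by simp [S₁, S₂] }
  haveI : Epi φ.τ₁ := inferInstanceAs (Epi (𝟙 _))
  haveI : IsIso φ.τ₂ := inferInstanceAs (IsIso (𝟙 _))
  haveI : Mono φ.τ₃ := inferInstanceAs (Mono (kernel.ι g))
  have h1 : S₁.Exact := (ShortComplex.exact_iff_of_epi_of_isIso_of_mono φ).2 h2
  haveI : Epi (kernel.lift g f w) := hex.epi_kernelLift
  exact { exact := h1, mono_f := inferInstanceAs (Mono (kernel.ι f)),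
          epi_g := inferInstanceAs (Epi (kernel.lift g f w)) }

/-- the kernels along an exact sequence whose last map is an epimorphism have bounded
projective dimension after applying an exact functor -/
theorem pd_kernel (m : ℕ) (S : ComposableArrows A (m + 1)) (hS : S.Exact)
    (hepi : Epi (S.map' m (m + 1)))
    (hP : ∀ (i : ℕ) (_ : 1 ≤ i) (hi : i ≤ m), Projective (Φ.obj (S.obj' i (by omega))))
    (hpd : HasProjectiveDimensionLT (Φ.obj (S.obj' (m + 1))) (m + 1)) :
    ∀ (t j : ℕ) (hj : j + t = m) (_ : 1 ≤ j),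
      HasProjectiveDimensionLT
        (Φ.obj (kernel (S.map' j (j + 1) (by omega) (by omega)))) j := by
  intro t
  induction t with
  | zero =>
    intro j hj hj1
    obtain rfl : j = m := by omega
    let T : ShortComplex A := ShortComplex.mk (kernel.ι (S.map' j (j + 1))) (S.map' j (j + 1))
      (kernel.condition _)
    have hT : T.ShortExact :=
      { exact := ShortComplex.exact_of_f_is_kernel _ (kernelIsKernel _)
        mono_f := inferInstanceAs (Mono (kernel.ι (S.map' j (j + 1))))
        epi_g := hepi }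
    exact shift Φ hT j hj1 (hP j hj1 le_rfl) hpd
  | succ t ih =>
    intro j hj hj1
    have ih' := ih (j + 1) (by omega) (by omega)
    have hex := hS.exact j (by omega)
    have hT := shortExact_kernels (S.map' j (j + 1) (by omega) (by omega))
      (S.map' (j + 1) (j + 2) (by omega) (by omega)) (hS.toIsComplex.zero j (by omega)) hex
    exact shift Φ hT j hj1 (hP j hj1 (by omega)) ih'

/-- the first object of an exact sequence starting with a monomorphism is the kernel of the
second map -/
theorem first_iso_kernel (m : ℕ) (S : ComposableArrows A (m + 1)) (hS : S.Exact)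
    (hmono : Mono (S.map' 0 1)) (hm : 1 ≤ m) :
    Nonempty (S.obj' 0 ≅ kernel (S.map' 1 2 (by omega) (by omega))) := by
  have hex := hS.exact 0 (by omega)
  let l : S.obj' 0 ⟶ kernel (S.map' 1 2 (by omega) (by omega)) :=
    kernel.lift _ (S.map' 0 1) (hS.toIsComplex.zero 0 (by omega))
  haveI : Epi l := hex.epi_kernelLift
  haveI : Mono l := by
    have h : l ≫ kernel.ι _ = S.map' 0 1 := kernel.lift_ι _ _ _
    haveI : Mono (l ≫ kernel.ι (S.map' 1 2 (by omega) (by omega))) := by rw [h]; exact hmono
    exact mono_of_mono l (kernel.ι _)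
  haveI : IsIso l := isIso_of_mono_of_epi l
  exact ⟨asIso l⟩

/-- the syzygy theorem in abstract form -/
theorem projective_first (m : ℕ) (S : ComposableArrows A (m + 1)) (hS : S.Exact)
    (hmono : Mono (S.map' 0 1)) (hepi : Epi (S.map' m (m + 1)))
    (hP : ∀ (i : ℕ) (_ : 1 ≤ i) (hi : i ≤ m), Projective (Φ.obj (S.obj' i (by omega))))
    (hpd : HasProjectiveDimensionLT (Φ.obj (S.obj' (m + 1))) (m + 1)) :
    Projective (Φ.obj (S.obj' 0)) := by
  rcases Nat.eq_zero_or_pos m with rfl | hm
  · -- `S.obj 0 ≅ S.obj 1`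
    haveI : IsIso (S.map' 0 1 (Nat.zero_le 1) le_rfl) := isIso_of_mono_of_epi _
    have h1 : HasProjectiveDimensionLT (Φ.obj (S.obj' 0 (Nat.zero_le _))) 1 :=
      hasProjectiveDimensionLT_of_iso
        (Φ.mapIso (asIso (S.map' 0 1 (Nat.zero_le 1) le_rfl))).symm 1
    exact projective_iff_hasProjectiveDimensionLT_one.2 h1
  · have h1 := pd_kernel Φ m S hS hepi hP hpd (m - 1) 1 (by omega) le_rfl
    have hex := hS.exact 0 (by omega)
    let l : S.obj' 0 ⟶ kernel (S.map' 1 2 (by omega) (by omega)) :=
      kernel.lift _ (S.map' 0 1) (hS.toIsComplex.zero 0 (by omega))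
    haveI : Epi l := hex.epi_kernelLift
    haveI : Mono l := by
      have h : l ≫ kernel.ι _ = S.map' 0 1 := kernel.lift_ι _ _ _
      haveI : Mono (l ≫ kernel.ι (S.map' 1 2 (by omega) (by omega))) := by rw [h]; exact hmono
      exact mono_of_mono l (kernel.ι _)
    haveI : IsIso l := isIso_of_mono_of_epi l
    have h2 : HasProjectiveDimensionLT (Φ.obj (S.obj' 0)) 1 :=
      hasProjectiveDimensionLT_of_iso (Φ.mapIso (asIso l)).symm 1
    exact projective_iff_hasProjectiveDimensionLT_one.2 h2

end Groth.Agent.Lib.Helper6.Syzygy
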