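import Groth.Agent.Lib.Helper6Syzygy
import Groth.Agent.S0563
import Groth.Agent.Lib.Helper1KBC2
import Groth.Agent.Lib.Helper1PC15
import Groth.Agent.Lib.Helper2LocFree
import Groth.Agent.Lib.Helper4FibDimL
import Groth.Agent.Lib.Helper5RLR
import Groth.Agent.Lib.Helper21HZB9
import Groth.Agent.Lib.Helper23FinPres
import Groth.Agent.Lib.Helper23FinType
import Groth.Agent.Lib.Helper23QCohLocal
import Groth.Agent.Lib.Helper4DevD

/-!
# Syzygies of coherent modules on regular schemes are locally free (helper6): S16240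
-/

set_option autoImplicit false
set_option linter.style.haveILetI false
universe u
open CategoryTheory Limits AlgebraicGeometry Opposite TopologicalSpace

namespace Groth.Agent.Lib.Helper6.SyzygySch

open Groth.Agent.Lib.Helper6.Syzygy Groth.Agent.Lib.Helper1.Sky Groth.Agent.Lib.Helper1.KBC
  Groth.Agent.Lib.Helper1.SPL

variable (X : Scheme.{u})

theorem isFlatAt_first [IsNoetherian X]
    (hreg : ∀ x : X, IsRegularLocalRing (X.presheaf.stalk x)) (m : ℕ)
    (hdim : topologicalKrullDim ↥X ≤ (m : WithBot ℕ∞))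
    (S : ComposableArrows X.Modules (m + 1)) (hS : S.Exact)
    (hmono : Mono (S.map' 0 1 (Nat.zero_le 1) (Nat.le_add_left 1 m)))
    (hepi : Epi (S.map' m (m + 1) (Nat.le_succ m) (le_refl (m + 1))))
    (hE : ∀ i : Fin m, FlatMod.IsFinLocFree (S.obj ⟨i.1 + 1, Nat.succ_lt_succ (Nat.lt_succ_of_lt i.2)⟩))
    (x : X) : FlatMod.IsFlatAt (S.obj 0) x := by
  haveI := hreg x
  have hP : ∀ (i : ℕ) (_ : 1 ≤ i) (hi : i ≤ m),
      Projective ((stalkFun x).obj (S.obj' i (by omega))) := by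
    intro i h1 hi
    obtain ⟨i', rfl⟩ : ∃ i', i = i' + 1 := ⟨i - 1, by omega⟩
    obtain ⟨U, k, hxU, ⟨e⟩⟩ := hE ⟨i', by omega⟩ x
    have h := (free_finite_stalk_of_restrict_iso_freeMod _ U.ι k e (⟨x, hxU⟩ : (U : Scheme.{u}))).1
    haveI : Module.Free (Groth.Agent.Lib.Helper1.Sky.Ox x) ((stalkFun x).obj (S.obj' (i' + 1) (by omega))) := h
    exact (IsProjective.iff_projective (R := Groth.Agent.Lib.Helper1.Sky.Ox x)
      ((stalkFun x).obj (S.obj' (i' + 1) (by omega)))).1 inferInstance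
  have hpd : HasProjectiveDimensionLT ((stalkFun x).obj (S.obj' (m + 1))) (m + 1) := by
    obtain ⟨d, hd⟩ := Groth.Agent.Lib.Helper5.exists_nat_ringKrullDim_eq (X.presheaf.stalk x)
    have hdm : d ≤ m := by
      have h1 := (Groth.Agent.Lib.Helper4.FibDim.ringKrullDim_stalk_le_topologicalKrullDim X x).trans hdim
      rw [hd] at h1
      exact_mod_cast h1
    have h2 := Groth.Agent.S0563.result (X.presheaf.stalk x) d hd
      ((stalkFun x).obj (S.obj' (m + 1)))
    exact hasProjectiveDimensionLT_of_ge _ (d + 1) (m + 1) (by omega)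
  have hproj := projective_first (stalkFun x) m S hS hmono hepi hP hpd
  haveI : Module.Projective (Groth.Agent.Lib.Helper1.Sky.Ox x) ((stalkFun x).obj (S.obj' 0)) :=
    (IsProjective.iff_projective (R := Groth.Agent.Lib.Helper1.Sky.Ox x) ((stalkFun x).obj (S.obj' 0))).2 hproj
  have hfl : Module.Flat (Groth.Agent.Lib.Helper1.Sky.Ox x) ((stalkFun x).obj (S.obj' 0)) := inferInstance
  exact hfl


/-- S16240 -/
theorem main [IsNoetherian X]
    (hreg : ∀ x : X, IsRegularLocalRing (X.presheaf.stalk x)) (m : ℕ)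
    (hdim : topologicalKrullDim ↥X ≤ (m : WithBot ℕ∞))
    (S : ComposableArrows X.Modules (m + 1)) (hS : S.Exact)
    (hmono : Mono (S.map' 0 1 (Nat.zero_le 1) (Nat.le_add_left 1 m)))
    (hepi : Epi (S.map' m (m + 1) (Nat.le_succ m) (le_refl (m + 1))))
    (hE : ∀ i : Fin m, FlatMod.IsFinLocFree (S.obj ⟨i.1 + 1, Nat.succ_lt_succ (Nat.lt_succ_of_lt i.2)⟩))
    (hF : Coh.IsCoh (S.obj (Fin.last (m + 1)))) :
    FlatMod.IsFinLocFree (S.obj 0) := by
  have hflat := isFlatAt_first X hreg m hdim S hS hmono hepi hE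
  have hcoh : ∀ (i : ℕ) (_ : 1 ≤ i) (hi : i ≤ m + 1), Coh.IsCoh (S.obj' i hi) := by
    intro i h1 hi
    rcases Nat.lt_or_ge i (m + 1) with h | h
    · obtain ⟨i', rfl⟩ : ∃ i', i = i' + 1 := ⟨i - 1, by omega⟩
      exact Groth.Agent.Lib.Helper21.HZB.isCoh_of_isFinLocFree _ (hE ⟨i', by omega⟩)
    · obtain rfl : i = m + 1 := by omega
      exact hF
  have hcoh0 : Coh.IsCoh (S.obj' 0 (Nat.zero_le _)) := by
    rcases Nat.eq_zero_or_pos m with rfl | hm
    · haveI : IsIso (S.map' 0 1 (Nat.zero_le 1) le_rfl) := isIso_of_mono_of_epi _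
      exact Groth.Agent.Lib.Helper4.Dev.isCoh_of_iso (asIso (S.map' 0 1 (Nat.zero_le 1) le_rfl)).symm
        (hcoh 1 le_rfl le_rfl)
    · obtain ⟨e⟩ := first_iso_kernel m S hS hmono hm
      exact Groth.Agent.Lib.Helper4.Dev.isCoh_of_iso e.symm
        (Groth.Agent.Lib.Helper4.Dev.isCoh_kernel _ (hcoh 1 le_rfl (by omega)) (hcoh 2 (by omega) (by omega)))
  haveI : (S.obj 0).IsQuasicoherent := hcoh0.1
  haveI : SheafOfModules.IsFiniteType (R := X.ringCatSheaf) (S.obj 0) := hcoh0.2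
  haveI := Groth.Agent.Lib.Helper23.FinType.isFinitePresentation_of_isFiniteType (S.obj 0)
  intro x
  obtain ⟨D, k, hxD, h⟩ :=
    Groth.Agent.Lib.Helper2.LocFree.exists_restrict_iso_freeMod_of_isFlatAt (S.obj 0) x (hflat x)
  exact ⟨D, k, hxD, h⟩

end Groth.Agent.Lib.Helper6.SyzygySch
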