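import Groth.Prelude
import Mathlib

/-!
# ToposFin base library, part 1 (helper6)

Sections of sheaves of sets on a small site, jointly epimorphic families (`JEpi`, elementwise),
sectionwise recognition of pullbacks, basic calculus of quasi-compact objects.
-/

set_option autoImplicit false

namespace Groth.Agent.Lib.Helper6.TF

open CategoryTheory Limits Opposite ToposFin

universe u w w'

variable {C : Type u} [SmallCategory C] {J : GrothendieckTopology C}

/-! ### sections -/

/-- Sections of a sheaf over an object of the site. -/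
abbrev Sec (X : Sh J) (U : C) : Type u := X.obj.obj (op U)

/-- Restriction of sections. -/
abbrev res (X : Sh J) {U V : C} (f : V ⟶ U) (x : Sec X U) : Sec X V := X.obj.map f.op x

/-- Action of a morphism of sheaves on sections. -/
abbrev ap {X Y : Sh J} (f : X ⟶ Y) {U : C} (x : Sec X U) : Sec Y U := f.hom.app (op U) x

lemma ap_res {X Y : Sh J} (f : X ⟶ Y) {U V : C} (g : V ⟶ U) (x : Sec X U) :
    ap f (res X g x) = res Y g (ap f x) :=
  NatTrans.naturality_apply f.hom g.op x

lemma res_res (X : Sh J) {U V W : C} (f : V ⟶ U) (g : W ⟶ V) (x : Sec X U) :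
    res X g (res X f x) = res X (g ≫ f) x := by
  simp [res]

lemma res_id (X : Sh J) {U : C} (x : Sec X U) : res X (𝟙 U) x = x := by
  simp [res]

lemma ap_comp {X Y Z : Sh J} (f : X ⟶ Y) (g : Y ⟶ Z) {U : C} (x : Sec X U) :
    ap (f ≫ g) x = ap g (ap f x) := rfl

lemma ap_id {X : Sh J} {U : C} (x : Sec X U) : ap (𝟙 X) x = x := rfl

lemma hom_ext_sec {X Y : Sh J} {f g : X ⟶ Y}
    (h : ∀ (U : C) (x : Sec X U), ap f x = ap g x) : f = g := by
  ext U x
  exact h U.unop x

lemma sec_ext (X : Sh J) {U : C} {S : Sieve U} (hS : S ∈ J U) {x y : Sec X U}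
    (h : ∀ ⦃V : C⦄ (f : V ⟶ U), S f → res X f x = res X f y) : x = y :=
  (((isSheaf_iff_isSheaf_of_type _ _).1 X.2).isSeparated _ hS).ext (fun _ f hf => h f hf)

lemma ap_injective_of_mono {X Y : Sh J} (f : X ⟶ Y) [Mono f] (U : C) :
    Function.Injective (ap f : Sec X U → Sec Y U) := by
  have : Mono f.hom := (sheafToPresheaf J (Type u)).map_mono f
  have h2 : Mono (f.hom.app (op U)) := inferInstance
  exact (mono_iff_injective _).1 h2

lemma mono_of_ap_injective {X Y : Sh J} (f : X ⟶ Y)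
    (h : ∀ U : C, Function.Injective (ap f : Sec X U → Sec Y U)) : Mono f := by
  refine ⟨fun {Z} a b hab => ?_⟩
  apply hom_ext_sec
  intro U x
  apply h U
  rw [← ap_comp, ← ap_comp, hab]

/-! ### jointly epimorphic families, elementwise -/

section JEpi

variable {X : Sh J} {ι : Type w} {F : ι → Sh J}

/-- The sieve of arrows along which a section lifts to some member of the family. -/
def liftSieve (π : ∀ i, F i ⟶ X) {U : C} (x : Sec X U) : Sieve U where
  arrows V f := ∃ (i : ι) (y : Sec (F i) V), ap (π i) y = res X f x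
  downward_closed := by
    rintro V W f ⟨i, y, hy⟩ g
    exact ⟨i, res (F i) g y, by rw [ap_res, hy, res_res]⟩

lemma liftSieve_res (π : ∀ i, F i ⟶ X) {U V : C} (f : V ⟶ U) (x : Sec X U) :
    liftSieve π (res X f x) = (liftSieve π x).pullback f := by
  ext W g
  simp only [liftSieve, Sieve.pullback_apply]
  constructor
  · rintro ⟨i, y, hy⟩
    exact ⟨i, y, by rw [hy, res_res]⟩
  · rintro ⟨i, y, hy⟩
    exact ⟨i, y, by rw [hy, res_res]⟩

/-- The family is jointly epimorphic: every section of the target lifts locally to a member. -/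
def JEpi (π : ∀ i, F i ⟶ X) : Prop :=
  ∀ (U : C) (x : Sec X U), liftSieve π x ∈ J U

lemma liftSieve_ap_mem_top (π : ∀ i, F i ⟶ X) (i : ι) {U : C} (y : Sec (F i) U) :
    liftSieve π (ap (π i) y) = ⊤ := by
  rw [eq_top_iff]
  rintro V f -
  exact ⟨i, res (F i) f y, ap_res _ _ _⟩

/-- Transitivity: if `π` is jointly epimorphic and every section in the image of a member of `π`
lifts locally along `σ`, then `σ` is jointly epimorphic. -/
lemma JEpi.trans {κ : Type w'} {H : κ → Sh J} {π : ∀ i, F i ⟶ X} (hπ : JEpi π)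
    (σ : ∀ k, H k ⟶ X)
    (h : ∀ (i : ι) (V : C) (y : Sec (F i) V), liftSieve σ (ap (π i) y) ∈ J V) : JEpi σ := by
  intro U x
  refine J.transitive (hπ U x) _ ?_
  rintro V f ⟨i, y, hy⟩
  rw [← liftSieve_res, ← hy]
  exact h i V y

/-- A family through which a jointly epimorphic family factors is jointly epimorphic. -/
lemma JEpi.of_factor {κ : Type w'} {H : κ → Sh J} {π : ∀ i, F i ⟶ X} (hπ : JEpi π)
    (σ : ∀ k, H k ⟶ X) (k : ι → κ) (φ : ∀ i, F i ⟶ H (k i)) (hφ : ∀ i, φ i ≫ σ (k i) = π i) :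
    JEpi σ := by
  refine hπ.trans σ (fun i V y => ?_)
  rw [← hφ i, ap_comp, liftSieve_ap_mem_top]
  exact J.top_mem V

/-- Composition of jointly epimorphic families. -/
lemma JEpi.comp {κ : ι → Type w'} {G : ∀ i, κ i → Sh J} {π : ∀ i, F i ⟶ X} (hπ : JEpi π)
    (ρ : ∀ i (k : κ i), G i k ⟶ F i) (hρ : ∀ i, JEpi (ρ i)) :
    JEpi (fun p : Σ i, κ i => ρ p.1 p.2 ≫ π p.1) := by
  refine hπ.trans _ (fun i V y => ?_)
  refine J.superset_covering ?_ (hρ i V y)
  rintro W g ⟨k, z, hz⟩
  exact ⟨⟨i, k⟩, z, by rw [ap_comp, hz, ap_res]⟩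

lemma jepi_of_epi {Y : Sh J} (f : Y ⟶ X) [Epi f] : JEpi (fun _ : PUnit.{w + 1} => f) := by
  have : Sheaf.IsLocallySurjective f := (Sheaf.isLocallySurjective_iff_epi f).2 inferInstance
  intro U x
  refine J.superset_covering ?_ (Presheaf.imageSieve_mem J f.hom x)
  rintro V g ⟨t, ht⟩
  exact ⟨PUnit.unit, t, ht⟩

lemma epi_of_jepi_single {Y : Sh J} (f : Y ⟶ X) (h : JEpi (fun _ : PUnit.{w + 1} => f)) : Epi f := by
  have : Sheaf.IsLocallySurjective f := by
    refine ⟨fun {U} x => ?_⟩
    refine J.superset_covering ?_ (h U x)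
    rintro V g ⟨_, t, ht⟩
    exact ⟨t, ht⟩
  exact (Sheaf.isLocallySurjective_iff_epi f).1 this

/-- Separation form of joint epimorphy. -/
def JSep (π : ∀ i, F i ⟶ X) : Prop :=
  ∀ (Z : Sh J) (a b : X ⟶ Z), (∀ i, π i ≫ a = π i ≫ b) → a = b

lemma JEpi.jsep {π : ∀ i, F i ⟶ X} (hπ : JEpi π) : JSep π := by
  intro Z a b hab
  apply hom_ext_sec
  intro U x
  apply sec_ext Z (hπ U x)
  rintro V f ⟨i, y, hy⟩
  rw [← ap_res, ← ap_res, ← hy, ← ap_comp, ← ap_comp, hab i]

/-- The subfunctor of sections which globally lift to a member of the family. -/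
def famRange (π : ∀ i, F i ⟶ X) : Subfunctor X.obj where
  obj U := {x | ∃ (i : ι) (y : (F i).obj.obj U), (π i).hom.app U y = x}
  map := by
    rintro U V f x ⟨i, y, rfl⟩
    exact ⟨i, (F i).obj.map f y, NatTrans.naturality_apply (π i).hom f y⟩

/-- The image sheaf of a family. -/
def famImage (π : ∀ i, F i ⟶ X) : Sh J :=
  ⟨((famRange π).sheafify J).toFunctor, by
    rw [isSheaf_iff_isSheaf_of_type]
    apply Subfunctor.sheafify_isSheaf
    rw [← isSheaf_iff_isSheaf_of_type]
    exact X.2⟩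

/-- The inclusion of the image sheaf. -/
def famImageι (π : ∀ i, F i ⟶ X) : famImage π ⟶ X := ⟨Subfunctor.ι _⟩

/-- The factorization of a member through the image sheaf. -/
def toFamImage (π : ∀ i, F i ⟶ X) (i : ι) : F i ⟶ famImage π :=
  ⟨{ app := fun U => ↾fun y => ⟨(π i).hom.app U y,
        (Subfunctor.le_sheafify J (famRange π)) U ⟨i, y, rfl⟩⟩
     naturality := by
      intro U V f
      ext y
      apply Subtype.ext
      exact NatTrans.naturality_apply (π i).hom f y }⟩

lemma toFamImage_ι (π : ∀ i, F i ⟶ X) (i : ι) : toFamImage π i ≫ famImageι π = π i := by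
  apply hom_ext_sec
  intro U x
  rfl

instance (π : ∀ i, F i ⟶ X) : Mono (famImageι π) := by
  apply mono_of_ap_injective
  intro U a b hab
  exact Subtype.ext hab

lemma mem_famImage_iff (π : ∀ i, F i ⟶ X) {U : C} (x : Sec X U) :
    x ∈ ((famRange π).sheafify J).obj (op U) ↔ liftSieve π x ∈ J U := by
  change (famRange π).sieveOfSection x ∈ J U ↔ _
  have : (famRange π).sieveOfSection x = liftSieve π x := by
    ext V f
    rfl
  rw [this]

lemma JSep.jepi {π : ∀ i, F i ⟶ X} (hπ : JSep π) : JEpi π := by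
  have hepi : Epi (famImageι π) := by
    refine ⟨fun {Z} a b hab => hπ Z a b (fun i => ?_)⟩
    rw [← toFamImage_ι π i, Category.assoc, Category.assoc, hab]
  have hiso : IsIso (famImageι π) := isIso_of_mono_of_epi _
  have hiso' : IsIso ((sheafToPresheaf J (Type u)).map (famImageι π)) := inferInstance
  have htop : (famRange π).sheafify J = ⊤ := by
    rw [Subfunctor.eq_top_iff_isIso]
    exact hiso'
  intro U x
  rw [← mem_famImage_iff, htop]
  trivial

lemma jepi_iff_jsep (π : ∀ i, F i ⟶ X) : JEpi π ↔ JSep π := ⟨JEpi.jsep, JSep.jepi⟩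

lemma jsep_iff_epi_desc (π : ∀ i, F i ⟶ X) [HasCoproduct F] : JSep π ↔ Epi (Sigma.desc π) := by
  constructor
  · intro h
    refine ⟨fun {Z} a b hab => h Z a b (fun i => ?_)⟩
    have := congrArg (fun t => Sigma.ι F i ≫ t) hab
    simpa using this
  · intro h Z a b hab
    rw [← cancel_epi (Sigma.desc π)]
    apply Sigma.hom_ext
    intro i
    simpa using hab i

lemma jepi_iff_epi_desc (π : ∀ i, F i ⟶ X) [HasCoproduct F] : JEpi π ↔ Epi (Sigma.desc π) :=
  (jepi_iff_jsep π).trans (jsep_iff_epi_desc π)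

lemma JEpi.reindex {κ : Type w'} (e : κ → ι) (he : Function.Surjective e) {π : ∀ i, F i ⟶ X}
    (hπ : JEpi π) : JEpi (fun k : κ => π (e k)) := by
  intro U x
  refine J.superset_covering ?_ (hπ U x)
  rintro V f ⟨i, y, hy⟩
  obtain ⟨k, rfl⟩ := he i
  exact ⟨k, y, hy⟩

lemma JEpi.of_reindex {κ : Type w'} (e : κ → ι) {π : ∀ i, F i ⟶ X}
    (hπ : JEpi (fun k : κ => π (e k))) : JEpi π := by
  intro U x
  refine J.superset_covering ?_ (hπ U x)
  rintro V f ⟨k, y, hy⟩
  exact ⟨e k, y, hy⟩

end JEpi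

end Groth.Agent.Lib.Helper6.TF
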