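import Groth.Agent.Lib.Helper6TF9

set_option autoImplicit false

namespace Groth.Agent.Lib.Helper6.TF

open CategoryTheory Limits Opposite ToposFin

universe u w w'

variable {C : Type u} [SmallCategory C] {J : GrothendieckTopology C}

/-! ### the sheaves associated to objects of the site -/

/-- The universal section of `eps J X`. -/
noncomputable def yo (X : C) : Sec (eps J X) X := (toSheafify J (yoneda.obj X)).app (op X) (𝟙 X)

lemma toSheafify_yoneda_app {X U : C} (f : U ⟶ X) :
    (toSheafify J (yoneda.obj X)).app (op U) f = res (eps J X) f (yo (J := J) X) := by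
  have := NatTrans.naturality_apply (toSheafify J (yoneda.obj X)) f.op (𝟙 X)
  rw [yo, res, ← this]
  simp

lemma eps_sec_locally {X U : C} (σ : Sec (eps J X) U) :
    ∃ S ∈ J U, ∀ ⦃V : C⦄ (h : V ⟶ U), S h →
      ∃ f : V ⟶ X, res (eps J X) h σ = res (eps J X) f (yo X) := by
  have hs : Presheaf.IsLocallySurjective J (toSheafify J (yoneda.obj X)) := inferInstance
  refine ⟨_, Presheaf.imageSieve_mem J (toSheafify J (yoneda.obj X)) σ, ?_⟩
  rintro V h ⟨f, hf⟩
  exact ⟨f, by rw [← toSheafify_yoneda_app]; exact hf.symm⟩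

lemma eps_res_yo_eq {X U : C} {f f' : U ⟶ X}
    (h : res (eps J X) f (yo X) = res (eps J X) f' (yo X)) :
    ∃ S ∈ J U, ∀ ⦃V : C⦄ (l : V ⟶ U), S l → l ≫ f = l ≫ f' := by
  have hi : Presheaf.IsLocallyInjective J (toSheafify J (yoneda.obj X)) := inferInstance
  rw [← toSheafify_yoneda_app, ← toSheafify_yoneda_app] at h
  exact ⟨_, hi.equalizerSieve_mem (X := op U) f f' h, fun V l hl => hl⟩

/-- The morphism from `eps J X` classifying a section. -/
noncomputable def ofSec {X : C} {F : Sh J} (s : Sec F X) : eps J X ⟶ F :=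
  ⟨sheafifyLift J (yonedaEquiv.symm s) F.2⟩

lemma ap_ofSec_yo {X : C} {F : Sh J} (s : Sec F X) : ap (ofSec s) (yo X) = s := by
  have h := toSheafify_sheafifyLift J (yonedaEquiv.symm s) F.2
  have := congrArg (fun t => t.app (op X) (𝟙 X)) h
  simp only [] at this
  change (sheafifyLift J (yonedaEquiv.symm s) F.2).app (op X)
    ((toSheafify J (yoneda.obj X)).app (op X) (𝟙 X)) = s
  have h2 : (yonedaEquiv.symm s).app (op X) (𝟙 X) = s := by
    simp [yonedaEquiv]
  exact this.trans h2

lemma hom_ext_eps {X : C} {F : Sh J} {a b : eps J X ⟶ F} (h : ap a (yo X) = ap b (yo X)) :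
    a = b := by
  apply hom_ext_sec
  intro U σ
  obtain ⟨S, hS, hS'⟩ := eps_sec_locally σ
  apply sec_ext F hS
  intro V k hk
  obtain ⟨f, hf⟩ := hS' k hk
  rw [← ap_res, ← ap_res, hf, ap_res, ap_res, h]

/-- The morphism induced by a morphism of the site. -/
noncomputable def epsMap {V X : C} (f : V ⟶ X) : eps J V ⟶ eps J X :=
  (presheafToSheaf J (Type u)).map (yoneda.map f)

lemma ap_epsMap_yo {V X : C} (f : V ⟶ X) :
    ap (epsMap (J := J) f) (yo V) = res (eps J X) f (yo X) := by
  have h := toSheafify_naturality J (yoneda.map f)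
  have := congrArg (fun t => t.app (op V) (𝟙 V)) h
  simp only [] at this
  rw [← toSheafify_yoneda_app]
  change (sheafifyMap J (yoneda.map f)).app (op V) ((toSheafify J (yoneda.obj V)).app (op V) (𝟙 V)) = _
  have h3 : (yoneda.map f).app (op V) (𝟙 V) = f := by simp
  refine this.symm.trans ?_
  change (toSheafify J (yoneda.obj X)).app (op V) ((yoneda.map f).app (op V) (𝟙 V)) = _
  rw [h3]

lemma epsMap_eq_ofSec {V X : C} (f : V ⟶ X) :
    epsMap (J := J) f = ofSec (res (eps J X) f (yo X)) :=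
  hom_ext_eps (by rw [ap_epsMap_yo, ap_ofSec_yo])

lemma ofSec_res {X V : C} {F : Sh J} (s : Sec F X) (f : V ⟶ X) :
    epsMap f ≫ ofSec s = ofSec (res F f s) :=
  hom_ext_eps (by rw [ap_comp, ap_epsMap_yo, ap_res, ap_ofSec_yo, ap_ofSec_yo])

lemma ofSec_comp {X : C} {F G : Sh J} (s : Sec F X) (a : F ⟶ G) :
    ofSec s ≫ a = ofSec (ap a s) :=
  hom_ext_eps (by rw [ap_comp, ap_ofSec_yo, ap_ofSec_yo])

/-- The sheaves `eps J U` generate. -/
lemma gen_eps : Gen (fun K : Sh J => ∃ U : C, K = eps J U) := by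
  intro F
  refine ⟨Σ U : C, Sec F U, fun p => eps J p.1, fun p => ofSec p.2, fun p => ⟨p.1, rfl⟩, ?_⟩
  intro U x
  have : liftSieve (fun p : Σ U : C, Sec F U => ofSec p.2) x = ⊤ := by
    rw [← ap_ofSec_yo x]
    exact liftSieve_ap_mem_top (fun p : Σ U : C, Sec F U => ofSec p.2) ⟨U, x⟩ (yo U)
  rw [this]
  exact J.top_mem U

/-- A covering family of arrows induces a jointly epimorphic family. -/
lemma jepi_epsMap_of_mem {X : C} {ι : Type w} {V : ι → C} (g : ∀ i, V i ⟶ X)
    (h : Sieve.ofArrows V g ∈ J X) : JEpi (fun i => epsMap (J := J) (g i)) := by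
  intro U σ
  obtain ⟨S, hS, hS'⟩ := eps_sec_locally σ
  refine J.transitive hS _ ?_
  intro U' k hk
  obtain ⟨f, hf⟩ := hS' k hk
  rw [← liftSieve_res, hf]
  refine J.superset_covering ?_ (J.pullback_stable f h)
  intro W l hl
  obtain ⟨T, m, g', hg', hm⟩ := hl
  obtain ⟨i⟩ := hg'
  refine ⟨i, res (eps J (V i)) m (yo (V i)), ?_⟩
  rw [ap_res, ap_epsMap_yo, res_res, res_res, hm]

/-- Conversely, if finitely many (or any family of) `epsMap (g i)` are jointly epimorphic, then
the arrows generate a covering sieve. -/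
lemma ofArrows_mem_of_jepi_epsMap {X : C} {ι : Type w} {V : ι → C} (g : ∀ i, V i ⟶ X)
    (h : JEpi (fun i => epsMap (J := J) (g i))) : Sieve.ofArrows V g ∈ J X := by
  refine J.transitive (h X (yo X)) _ ?_
  rintro U k ⟨i, y, hy⟩
  obtain ⟨S, hS, hS'⟩ := eps_sec_locally y
  refine J.transitive hS _ ?_
  intro U' k' hk'
  obtain ⟨m, hm⟩ := hS' k' hk'
  have h1 : res (eps J X) (m ≫ g i) (yo X) = res (eps J X) (k' ≫ k) (yo X) := by
    rw [← res_res, ← ap_epsMap_yo, ← ap_res, ← hm, ap_res, hy, res_res]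
  obtain ⟨S2, hS2, hS2'⟩ := eps_res_yo_eq h1
  refine J.superset_covering ?_ hS2
  intro W l hl
  have := hS2' l hl
  change Sieve.ofArrows V g ((l ≫ k') ≫ k)
  rw [Category.assoc, ← this, ← Category.assoc]
  exact Sieve.downward_closed _ (Sieve.ofArrows_mk V g i) _

/-- S3056. -/
lemma isQCSite_iff (X : C) : IsQCSite J X ↔ IsQC (eps J X) := by
  classical
  constructor
  · intro hX
    rw [isQC_iff]
    intro ι F π hπ
    obtain ⟨n, V, g, hg, hcov⟩ := hX _ (hπ X (yo X))
    choose i y hy using hg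
    refine ⟨Finset.univ.image i, ?_⟩
    refine (jepi_epsMap_of_mem g hcov).trans _ (fun k U σ => ?_)
    have : liftSieve (fun j : ↥(Finset.univ.image i) => π j) (ap (epsMap (g k)) σ) = ⊤ := by
      have h1 : epsMap (g k) = ofSec (y k) ≫ π (i k) := by
        apply hom_ext_eps
        rw [ap_epsMap_yo, ap_comp, ap_ofSec_yo, hy]
      rw [h1, ap_comp]
      exact liftSieve_ap_mem_top (fun j : ↥(Finset.univ.image i) => π j)
        ⟨i k, Finset.mem_image_of_mem i (Finset.mem_univ k)⟩ _
    rw [this]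
    exact J.top_mem U
  · intro hX S hS
    let ι := Σ V : C, {f : V ⟶ X // S f}
    have hπ : JEpi (fun p : ι => epsMap (J := J) p.2.1) := by
      refine jepi_epsMap_of_mem _ (J.superset_covering ?_ hS)
      intro V f hf
      exact Sieve.ofArrows_mk (fun p : ι => p.1) (fun p : ι => p.2.1) ⟨V, f, hf⟩
    obtain ⟨s, hs⟩ := IsQC.exists_finset hX _ hπ
    let e := s.equivFin
    refine ⟨s.card, fun k => (e.symm k).1.1, fun k => (e.symm k).1.2.1,
      fun k => (e.symm k).1.2.2, ?_⟩
    apply ofArrows_mem_of_jepi_epsMap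
    exact hs.reindex e.symm e.symm.surjective

end Groth.Agent.Lib.Helper6.TF
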