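import Groth.Agent.Lib.Helper6TF10

set_option autoImplicit false

namespace Groth.Agent.Lib.Helper6.TF

open CategoryTheory Limits Opposite ToposFin

universe u w w'

variable {C : Type u} [SmallCategory C] {J : GrothendieckTopology C}

lemma isQS_pullback_congr {A B X : Sh J} {a a' : A ⟶ X} {b b' : B ⟶ X} (ha : a = a')
    (hb : b = b') (h : IsQS (pullback a' b')) : IsQS (pullback a b) := by
  subst ha hb; exact h

section Site

variable [HasPullbacks C] (hC : ∀ X : C, IsQCSite J X)

lemma isPullback_epsMap {X U V : C} (f : U ⟶ X) (g : V ⟶ X) :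
    IsPullback (epsMap (J := J) (pullback.fst f g)) (epsMap (pullback.snd f g)) (epsMap f)
      (epsMap g) :=
  ((IsPullback.of_hasPullback f g).map yoneda).map (presheafToSheaf J (Type u))

include hC in
lemma isQC_eps (X : C) : IsQC (eps J X) := (isQCSite_iff X).1 (hC X)

include hC in
/-- A morphism `eps U ⟶ eps X` is, on a finite cover of `U`, induced by morphisms of the site. -/
lemma exists_finite_cover_epsMap {U X : C} (s : eps J U ⟶ eps J X) :
    ∃ (n : ℕ) (V : Fin n → C) (u : ∀ k, V k ⟶ U) (f : ∀ k, V k ⟶ X),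
      JEpi (fun k => epsMap (J := J) (u k)) ∧ ∀ k, epsMap (u k) ≫ s = epsMap (f k) := by
  obtain ⟨S, hS, hS'⟩ := eps_sec_locally (ap s (yo U))
  obtain ⟨n, V, u, hu, hcov⟩ := hC U S hS
  choose f hf using fun k => hS' (u k) (hu k)
  refine ⟨n, V, u, f, jepi_epsMap_of_mem u hcov, fun k => ?_⟩
  apply hom_ext_eps
  rw [ap_comp, ap_epsMap_yo, ap_res, hf k, ap_epsMap_yo]

include hC in
/-- S3069. -/
lemma isCoherent_eps (X : C) : IsCoherent (eps J X) := by
  refine ⟨isQC_eps hC X, ?_⟩
  have hP : ∀ K : Sh J, (∃ U : C, K = eps J U) → IsQC K := by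
    rintro K ⟨U, rfl⟩
    exact isQC_eps hC U
  rw [isQS_iff_gen gen_eps hP]
  rintro K s ⟨U, rfl⟩
  refine isQCHom_of_gen gen_eps s ?_
  rintro L t ⟨V, rfl⟩
  obtain ⟨n, U', u, f, hu, hf⟩ := exists_finite_cover_epsMap hC s
  obtain ⟨m, V', v, g, hv, hg⟩ := exists_finite_cover_epsMap hC t
  refine isQC_of_pbSec_cover (pullback_pbSec s t) _ _ hu hv (fun k l => ?_)
  refine ⟨eps J (pullback (f k) (g l)), epsMap (pullback.fst _ _), epsMap (pullback.snd _ _), ?_,
    isQC_eps hC _⟩
  rw [hf k, hg l]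
  exact pbSec_of_isPullback (isPullback_epsMap (f k) (g l))

include hC in
/-- S5584, first part. -/
lemma isQSHom_to_eps {X : C} {G : Sh J} (g : G ⟶ eps J X) (hG : IsQS G) : IsQSHom g := by
  have hP : ∀ K : Sh J, (∃ U : C, K = eps J U) → IsQC K := by
    rintro K ⟨U, rfl⟩
    exact isQC_eps hC U
  -- the cover of `G` by sections whose image comes from a morphism of the site
  let ι := Σ U : C, {p : Sec G U × (U ⟶ X) // ap g p.1 = res (eps J X) p.2 (yo X)}
  let γ : ∀ i : ι, eps J i.1 ⟶ G := fun i => ofSec i.2.1.1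
  have hγg : ∀ i : ι, γ i ≫ g = epsMap i.2.1.2 := fun i => by
    rw [ofSec_comp, epsMap_eq_ofSec, i.2.2]
  have hγ : JEpi γ := by
    intro U x
    obtain ⟨S, hS, hS'⟩ := eps_sec_locally (ap g x)
    refine J.superset_covering ?_ hS
    intro V k hk
    obtain ⟨f, hf⟩ := hS' k hk
    exact ⟨⟨V, ⟨(res G k x, f), by rw [ap_res]; exact hf⟩⟩, yo V, ap_ofSec_yo _⟩
  refine isQSHom_of_qs_source_cover gen_eps hP g γ hγ (fun i => isQC_eps hC _) (fun i j => ?_) hG
  refine isQS_pullback_congr (hγg i) (hγg j) ?_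
  exact isQS_of_iso (isPullback_epsMap _ _).isoPullback (isCoherent_eps hC _).2

include hC in
/-- S5584. -/
lemma isQS_pullback_over_eps {X : C} {G H : Sh J} (g : G ⟶ eps J X) (h : H ⟶ eps J X)
    (hG : IsQS G) (hH : IsQS H) : IsQSHom g ∧ IsQS (pullback g h) := by
  have hg := isQSHom_to_eps hC g hG
  exact ⟨hg, isQS_of_isQSHom _ (IsQSHom.base_change (pullback_pbSec g h) hg) hH⟩

include hC in
/-- S5583. -/
lemma isCoherent_pullback_over_eps {G H F : Sh J} (a : G ⟶ F) (b : H ⟶ F) (hG : IsCoherent G)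
    (hH : IsCoherent H) (hF : IsCoherent F) (X : C) (w : F ⟶ eps J X) :
    IsCoherent (pullback a b) := by
  refine ⟨hF.2 _ _ _ _ hG.1 hH.1, ?_⟩
  let m : pullback a b ⟶ pullback (a ≫ w) (b ≫ w) :=
    pullback.lift (pullback.fst _ _) (pullback.snd _ _) (by
      rw [← Category.assoc, pullback.condition, Category.assoc])
  have : Mono m := by
    apply mono_of_ap_injective
    intro U p q hpq
    apply pullback_sec_ext
    · have := congrArg (ap (pullback.fst (a ≫ w) (b ≫ w))) hpq
      rwa [← ap_comp, ← ap_comp, pullback.lift_fst] at this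
    · have := congrArg (ap (pullback.snd (a ≫ w) (b ≫ w))) hpq
      rwa [← ap_comp, ← ap_comp, pullback.lift_snd] at this
  exact isQS_of_mono m (isQS_pullback_over_eps hC _ _ hG.2 hH.2).2

end Site

end Groth.Agent.Lib.Helper6.TF
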