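import Groth.Agent.Lib.Helper6TF11

set_option autoImplicit false

namespace Groth.Agent.Lib.Helper6.TF

open CategoryTheory Limits Opposite ToposFin

universe u w w'

variable {C : Type u} [SmallCategory C] {J : GrothendieckTopology C}

lemma hasQCGenerators_of_gen {P : Sh J → Prop} (hgen : Gen P) (hP : ∀ K, P K → IsQC K) :
    HasQCGenerators J := by
  intro X
  obtain ⟨ι, F, π, hF, hπ⟩ := hgen X
  exact ⟨ι, F, π, fun i => hP _ (hF i), (jepi_iff_epi_desc π).1 hπ⟩

lemma isGenerating_of_gen {S : Set (Sh J)} (hgen : Gen (fun K : Sh J => K ∈ S)) :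
    IsGenerating S := by
  intro X
  obtain ⟨ι, F, π, hF, hπ⟩ := hgen X
  exact ⟨ι, F, π, hF, (jepi_iff_jsep π).1 hπ⟩

lemma isCoherent_of_iso {X Y : Sh J} (e : X ≅ Y) (hX : IsCoherent X) : IsCoherent Y :=
  ⟨isQC_of_iso e hX.1, isQS_of_iso e hX.2⟩

section Sites

variable {D : Type u} [SmallCategory D] (K : GrothendieckTopology D) (G : C ⥤ D)
  [Functor.IsContinuous G J K]

/-- The inverse image of the sheaf associated to `U` is the sheaf associated to `G U`. -/
noncomputable def epsPullbackIso (U : C) :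
    (G.sheafPullback (Type u) J K).obj (eps J U) ≅ eps K (G.obj U) := by
  let F := G.sheafPullback (Type u) J K
  let R := G.sheafPushforwardContinuous (Type u) J K
  let adj : F ⊣ R := G.sheafAdjunctionContinuous (Type u) J K
  let σ : Sec (F.obj (eps J U)) (G.obj U) :=
    (ap (adj.unit.app (eps J U)) (yo U) : Sec (R.obj (F.obj (eps J U))) U)
  let φ : eps K (G.obj U) ⟶ F.obj (eps J U) := ofSec σ
  let τ : Sec (R.obj (eps K (G.obj U))) U := (yo (G.obj U) : Sec (eps K (G.obj U)) (G.obj U))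
  let ψ : F.obj (eps J U) ⟶ eps K (G.obj U) := (adj.homEquiv _ _).symm (ofSec τ)
  have hψ : adj.homEquiv _ _ ψ = ofSec τ := Equiv.apply_symm_apply _ _
  have hRmap : ∀ {H H' : Sh K} (a : H ⟶ H') (x : Sec (R.obj H) U),
      ap (R.map a) x = (ap a (x : Sec H (G.obj U)) : Sec H' (G.obj U)) := fun a x => rfl
  refine ⟨ψ, φ, ?_, ?_⟩
  · apply (adj.homEquiv _ _).injective
    rw [adj.homEquiv_naturality_right, hψ]
    apply hom_ext_eps
    rw [ap_comp, ap_ofSec_yo, hRmap, adj.homEquiv_unit]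
    exact ap_ofSec_yo σ
  · apply hom_ext_eps
    rw [ap_comp, ap_ofSec_yo, ap_id]
    have h1 : (ap ψ σ : Sec (eps K (G.obj U)) (G.obj U)) =
        ap (adj.unit.app (eps J U) ≫ R.map ψ) (yo U) := rfl
    have h2 : adj.unit.app (eps J U) ≫ R.map ψ = ofSec τ := (adj.homEquiv_unit _ _ ψ).symm.trans hψ
    rw [h1, h2, ap_ofSec_yo]

variable [HasPullbacks C] [HasPullbacks D] (hC : ∀ X : C, IsQCSite J X)
  (hD : ∀ Y : D, IsQCSite K Y) [PreservesFiniteLimits (G.sheafPullback (Type u) J K)]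

include hC hD in
/-- S6182. -/
lemma sheafPullback_coherent :
    (∀ X : Sh J, IsQC X → IsQC ((G.sheafPullback (Type u) J K).obj X)) ∧
      (∀ X : Sh J, IsQS X → IsQS ((G.sheafPullback (Type u) J K).obj X)) := by
  have hP : ∀ L : Sh K, (∃ V : D, L = eps K V) → IsQC L := by
    rintro L ⟨V, rfl⟩
    exact isQC_eps hD V
  refine (map_coherent_iff_of_gen (G.sheafPullback (Type u) J K)
    (G.sheafPushforwardContinuous (Type u) J K) (G.sheafAdjunctionContinuous (Type u) J K)
    (hasQCGenerators_of_gen gen_eps hP) (S := {X : Sh J | ∃ U : C, X = eps J U}) ?_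
    (isGenerating_of_gen gen_eps)).2 ?_
  · rintro X ⟨U, rfl⟩
    exact isCoherent_eps hC U
  · rintro X ⟨U, rfl⟩
    exact isCoherent_of_iso (epsPullbackIso K G U).symm (isCoherent_eps hD _)

end Sites

end Groth.Agent.Lib.Helper6.TF
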