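import Groth.Agent.Lib.Helper6TF12

set_option autoImplicit false

namespace Groth.Agent.Lib.Helper6.TF

open CategoryTheory Limits Opposite ToposFin

universe u w w'

variable {C : Type u} [SmallCategory C] {J : GrothendieckTopology C}

lemma jepi_cofan_inj' {ι : Type w} {F : ι → Sh J} {c : Cofan F} (hc : IsColimit c) :
    JEpi c.inj := by
  rw [jepi_iff_jsep]
  intro Z a b hab
  exact Cofan.IsColimit.hom_ext hc _ _ hab

/-- Pieces of a quasi-compact object over a coproduct are quasi-compact. -/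
lemma isQC_pullback_cofan_inj {ι : Type u} {F : ι → Sh J} {c : Cofan F} (hc : IsColimit c)
    {A : Sh J} (a : A ⟶ c.pt) (hA : IsQC A) (i : ι) : IsQC (pullback (c.inj i) a) := by
  have hα : JEpi (fun i => pullback.snd (c.inj i) a) :=
    (jepi_cofan_inj hc).pullback a (fun i => pullback.fst (c.inj i) a) _
      (fun i => IsPullback.of_hasPullback _ _)
  refine isQC_of_disjoint_cover _ hα ?_ ?_ hA i
  · intro i U z z' hzz'
    refine pullback_sec_ext _ _ (cofan_inj_injective hc i U ?_) hzz'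
    rw [pullback_sec_condition, pullback_sec_condition, hzz']
  · intro i j hij U z z' hzz'
    refine cofan_inj_disjoint hc hij (ap (pullback.fst _ _) z) (ap (pullback.fst _ _) z') ?_
    rw [pullback_sec_condition, pullback_sec_condition, hzz']

lemma isQCHom_cofan_inj {ι : Type u} {F : ι → Sh J} {c : Cofan F} (hc : IsColimit c) (i : ι) :
    IsQCHom (c.inj i) :=
  fun _ a hA => isQC_pullback_cofan_inj hc a hA i

/-- S5581. -/
lemma isQSHom_cofan_iff {ι : Type u} {F : ι → Sh J} {c : Cofan F} (hc : IsColimit c) {Y : Sh J}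
    (f : c.pt ⟶ Y) : IsQSHom f ↔ ∀ i, IsQSHom (c.inj i ≫ f) := by
  constructor
  · intro hf i
    have := cofan_inj_mono hc i
    exact IsQSHom.comp (isQSHom_of_mono (c.inj i)) hf
  · intro h
    rw [isQSHom_iff]
    intro E T e a b hab he hT
    have hα : JEpi (fun i => pullback.snd (c.inj i) a) :=
      (jepi_cofan_inj hc).pullback a (fun i => pullback.fst (c.inj i) a) _
        (fun i => IsPullback.of_hasPullback _ _)
    obtain ⟨s, hs⟩ := IsQC.exists_finset hT _ hα
    have htriv : PbSec (𝟙 E) e e (𝟙 T) :=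
      ⟨by simp, fun U p q h _ => h, fun U x t hxt => ⟨x, rfl, hxt⟩⟩
    refine isQC_of_pbSec_cover_right htriv (fun i : s => pullback.snd (c.inj i) a) hs ?_
    rintro ⟨i, -⟩
    refine ⟨pullback e (pullback.snd (c.inj i) a), pullback.fst _ _, pullback.snd _ _, ?_, ?_⟩
    · rw [Category.comp_id]; exact pullback_pbSec _ _
    -- notation
    obtain ⟨α, hα'⟩ : ∃ α : pullback (c.inj i) a ⟶ T, α = pullback.snd (c.inj i) a := ⟨_, rfl⟩
    obtain ⟨σ, hσ'⟩ : ∃ σ : pullback (c.inj i) a ⟶ F i, σ = pullback.fst (c.inj i) a := ⟨_, rfl⟩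
    have hσα : σ ≫ c.inj i = α ≫ a := by rw [hα', hσ']; exact pullback.condition
    have hAi : IsQC (pullback (c.inj i) a) := isQC_pullback_cofan_inj hc a hT i
    rw [← hα']
    have hBi : IsQC (pullback (c.inj i) (α ≫ b)) := isQC_pullback_cofan_inj hc _ hAi i
    have hmono := cofan_inj_mono hc i
    have hw : (pullback.snd e α ≫ σ) ≫ c.inj i = pullback.snd e α ≫ α ≫ b := by
      rw [Category.assoc, hσα, ← Category.assoc, ← pullback.condition, Category.assoc, he.w,
        ← Category.assoc, pullback.condition, Category.assoc]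
    let e' : pullback e α ⟶ pullback (c.inj i) (α ≫ b) := pullback.lift _ _ hw
    have he'1 : e' ≫ pullback.fst _ _ = pullback.snd e α ≫ σ := pullback.lift_fst _ _ _
    have he'2 : e' ≫ pullback.snd _ _ = pullback.snd e α := pullback.lift_snd _ _ _
    refine (isQSHom_iff _).1 (h i) e' (pullback.snd _ _ ≫ σ) (pullback.fst _ _) ?_ ⟨?_, ?_, ?_⟩ hBi
    · calc (pullback.snd (c.inj i) (α ≫ b) ≫ σ) ≫ c.inj i ≫ f
          = pullback.snd (c.inj i) (α ≫ b) ≫ (σ ≫ c.inj i) ≫ f := by simp only [Category.assoc]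
        _ = pullback.snd (c.inj i) (α ≫ b) ≫ (α ≫ a) ≫ f := by rw [hσα]
        _ = pullback.snd (c.inj i) (α ≫ b) ≫ α ≫ (a ≫ f) := by simp only [Category.assoc]
        _ = pullback.snd (c.inj i) (α ≫ b) ≫ α ≫ (b ≫ f) := by rw [hab]
        _ = (pullback.snd (c.inj i) (α ≫ b) ≫ α ≫ b) ≫ f := by simp only [Category.assoc]
        _ = (pullback.fst (c.inj i) (α ≫ b) ≫ c.inj i) ≫ f := by rw [pullback.condition]
        _ = pullback.fst (c.inj i) (α ≫ b) ≫ c.inj i ≫ f := by simp only [Category.assoc]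
    · rw [← Category.assoc, he'2, he'1]
    · intro U z z' hzz'
      have h2 : ap (pullback.snd e α) z = ap (pullback.snd e α) z' := by
        rw [← he'2, ap_comp, ap_comp, hzz']
      refine pullback_sec_ext _ _ (he.inj U ?_) h2
      rw [pullback_sec_condition, pullback_sec_condition, h2]
    · intro U y hy
      have hy' : ap (pullback.snd (c.inj i) (α ≫ b) ≫ σ) y =
          ap σ (ap (pullback.snd (c.inj i) (α ≫ b)) y) := rfl
      have hab' : ap a (ap α (ap (pullback.snd _ _) y)) = ap b (ap α (ap (pullback.snd _ _) y)) := by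
        have h1 : ∀ z : Sec (pullback (c.inj i) a) U, ap a (ap α z) = ap (c.inj i) (ap σ z) := by
          intro z
          rw [← ap_comp, ← ap_comp, hσα]
        rw [h1, ← hy', hy]
        exact pullback_sec_condition (c.inj i) (α ≫ b) y
      obtain ⟨ε, hε⟩ := he.ex U _ hab'
      obtain ⟨q, hq1, hq2⟩ := pullback_sec_ex e α ε _ hε
      refine ⟨q, pullback_sec_ext _ _ ?_ ?_⟩
      · rw [← ap_comp, he'1, ap_comp, hq2, ← hy', hy]
      · rw [← ap_comp, he'2, hq2]

/-- S5580. -/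
lemma isQCHom_cofan_iff_fin {n : ℕ} {X : Fin n → Sh J} (c : Cofan X) (hc : IsColimit c) {Y : Sh J}
    (f : c.pt ⟶ Y) :
    (IsQCHom f ↔ ∀ i, IsQCHom (c.inj i ≫ f)) ∧ (IsCohHom f ↔ ∀ i, IsCohHom (c.inj i ≫ f)) := by
  have hc' : IsColimit (Cofan.mk c.pt fun k : ULift.{u} (Fin n) => c.inj (Equiv.ulift k)) :=
    (Cofan.isColimitEquivOfEquiv Equiv.ulift c) hc
  have h1 : IsQCHom f ↔ ∀ i, IsQCHom (c.inj i ≫ f) := by
    constructor
    · intro hf i
      exact IsQCHom.comp (isQCHom_cofan_inj hc' ⟨i⟩) hf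
    · intro h
      exact isQCHom_of_finite_cover_source f c.inj (jepi_cofan_inj' hc) h
  have h2 : IsQSHom f ↔ ∀ i, IsQSHom (c.inj i ≫ f) := by
    rw [isQSHom_cofan_iff hc' f]
    exact ⟨fun h i => h ⟨i⟩, fun h k => h k.down⟩
  refine ⟨h1, ?_⟩
  unfold IsCohHom
  rw [h1, h2]
  exact forall_and.symm

/-- S5579. -/
lemma prod_map_props {X Y X' Y' S : Sh J} (f : X ⟶ Y) (f' : X' ⟶ Y') (a : Y ⟶ S) (a' : Y' ⟶ S) :
    (IsQCHom f → IsQCHom f' →
      IsQCHom (pullback.map (f ≫ a) (f' ≫ a') a a' f f' (𝟙 S) (Category.comp_id _)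
        (Category.comp_id _))) ∧
    (IsQSHom f → IsQSHom f' →
      IsQSHom (pullback.map (f ≫ a) (f' ≫ a') a a' f f' (𝟙 S) (Category.comp_id _)
        (Category.comp_id _))) ∧
    (IsCohHom f → IsCohHom f' →
      IsCohHom (pullback.map (f ≫ a) (f' ≫ a') a a' f f' (𝟙 S) (Category.comp_id _)
        (Category.comp_id _))) := by
  let φ1 : pullback (f ≫ a) (f' ≫ a') ⟶ pullback a (f' ≫ a') :=
    pullback.map (f ≫ a) (f' ≫ a') a (f' ≫ a') f (𝟙 X') (𝟙 S) (Category.comp_id _)
      (by rw [Category.comp_id, Category.id_comp])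
  let φ2 : pullback a (f' ≫ a') ⟶ pullback a a' :=
    pullback.map a (f' ≫ a') a a' (𝟙 Y) f' (𝟙 S) (by rw [Category.comp_id, Category.id_comp])
      (Category.comp_id _)
  have h11 : φ1 ≫ pullback.fst _ _ = pullback.fst _ _ ≫ f := pullback.lift_fst _ _ _
  have h12 : φ1 ≫ pullback.snd _ _ = pullback.snd _ _ :=
    (pullback.lift_snd _ _ _).trans (Category.comp_id _)
  have h21 : φ2 ≫ pullback.fst _ _ = pullback.fst _ _ :=
    (pullback.lift_fst _ _ _).trans (Category.comp_id _)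
  have h22 : φ2 ≫ pullback.snd _ _ = pullback.snd _ _ ≫ f' := pullback.lift_snd _ _ _
  have hφ : pullback.map (f ≫ a) (f' ≫ a') a a' f f' (𝟙 S) (Category.comp_id _)
      (Category.comp_id _) = φ1 ≫ φ2 := by
    apply pullback.hom_ext
    · rw [Category.assoc, h21, h11]; exact pullback.lift_fst _ _ _
    · rw [Category.assoc, h22, ← Category.assoc, h12]; exact pullback.lift_snd _ _ _
  have hpb1 : PbSec (pullback.fst (f ≫ a) (f' ≫ a')) φ1 f (pullback.fst a (f' ≫ a')) := by
    refine ⟨h11.symm, ?_, ?_⟩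
    · intro U p q hp hq
      refine pullback_sec_ext _ _ hp ?_
      rw [← h12, ap_comp, ap_comp, hq]
    · intro U x r hxr
      obtain ⟨p, hp1, hp2⟩ := pullback_sec_ex (f ≫ a) (f' ≫ a') x
        (ap (pullback.snd a (f' ≫ a')) r) (by
          rw [ap_comp, hxr]; exact pullback_sec_condition a (f' ≫ a') r)
      refine ⟨p, hp1, pullback_sec_ext _ _ ?_ ?_⟩
      · rw [← ap_comp, h11, ap_comp, hp1, hxr]
      · rw [← ap_comp, h12, hp2]
  have hpb2 : PbSec (pullback.snd a (f' ≫ a')) φ2 f' (pullback.snd a a') := by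
    refine ⟨h22.symm, ?_, ?_⟩
    · intro U p q hp hq
      refine pullback_sec_ext _ _ ?_ hp
      rw [← h21, ap_comp, ap_comp, hq]
    · intro U x r hxr
      obtain ⟨p, hp1, hp2⟩ := pullback_sec_ex a (f' ≫ a')
        (ap (pullback.fst a a') r) x (by
          rw [ap_comp, hxr]; exact pullback_sec_condition a a' r)
      refine ⟨p, hp2, pullback_sec_ext _ _ ?_ ?_⟩
      · rw [← ap_comp, h21, hp1]
      · rw [← ap_comp, h22, ap_comp, hp2, hxr]
  have hqc : IsQCHom f → IsQCHom f' → IsQCHom (φ1 ≫ φ2) := fun hf hf' =>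
    IsQCHom.comp (IsQCHom.base_change hpb1 hf) (IsQCHom.base_change hpb2 hf')
  have hqs : IsQSHom f → IsQSHom f' → IsQSHom (φ1 ≫ φ2) := fun hf hf' =>
    IsQSHom.comp (IsQSHom.base_change hpb1 hf) (IsQSHom.base_change hpb2 hf')
  rw [hφ]
  exact ⟨hqc, hqs, fun hf hf' => ⟨hqc hf.1 hf'.1, hqs hf.2 hf'.2⟩⟩

end Groth.Agent.Lib.Helper6.TF
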