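import Groth.Agent.Lib.Helper6TF13

set_option autoImplicit false

namespace Groth.Agent.Lib.Helper6.TF

open CategoryTheory Limits Opposite ToposFin

universe u w w'

variable {C : Type u} [SmallCategory C] {J : GrothendieckTopology C}

/-! ### filtered colimits: reformulation of the comparison map -/

section Filtered

variable {I : Type u} [SmallCategory I] [IsFiltered I] (D : I ⥤ Sh J) (X : Sh J)

lemma post_apply (i : I) (a : X ⟶ D.obj i) :
    colimit.post D (coyoneda.obj (op X)) (colimit.ι (D ⋙ coyoneda.obj (op X)) i a) =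
      a ≫ colimit.ι D i := by
  have := ConcreteCategory.congr_hom (colimit.ι_post D (coyoneda.obj (op X)) i) a
  exact this

lemma post_injective_iff : Function.Injective (colimit.post D (coyoneda.obj (op X))) ↔
    ∀ (i : I) (a b : X ⟶ D.obj i), a ≫ colimit.ι D i = b ≫ colimit.ι D i →
      ∃ (j : I) (h : i ⟶ j), a ≫ D.map h = b ≫ D.map h := by
  constructor
  · intro hinj i a b hab
    have h1 : colimit.ι (D ⋙ coyoneda.obj (op X)) i a = colimit.ι (D ⋙ coyoneda.obj (op X)) i b := by
      apply hinj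
      rw [post_apply, post_apply, hab]
    obtain ⟨j, h, hj⟩ := (Types.FilteredColimit.isColimit_eq_iff' (colimit.isColimit (D ⋙ coyoneda.obj (op X))) (i := i) a b).1 h1
    exact ⟨j, h, hj⟩
  · intro h x y hxy
    obtain ⟨i, a, b, rfl, rfl⟩ := Types.FilteredColimit.jointly_surjective_of_isColimit₂
      (colimit.isColimit (D ⋙ coyoneda.obj (op X))) x y
    rw [colimit.cocone_ι, post_apply, post_apply] at hxy
    obtain ⟨j, k, hk⟩ := h i a b hxy
    exact (Types.FilteredColimit.isColimit_eq_iff' (colimit.isColimit (D ⋙ coyoneda.obj (op X))) (i := i) a b).2 ⟨j, k, hk⟩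

lemma post_surjective_iff : Function.Surjective (colimit.post D (coyoneda.obj (op X))) ↔
    ∀ f : X ⟶ colimit D, ∃ (i : I) (a : X ⟶ D.obj i), a ≫ colimit.ι D i = f := by
  constructor
  · intro hs f
    obtain ⟨x, hx⟩ := hs f
    obtain ⟨i, a, rfl⟩ := Types.jointly_surjective' x
    rw [post_apply] at hx
    exact ⟨i, a, hx⟩
  · intro h f
    obtain ⟨i, a, ha⟩ := h f
    exact ⟨colimit.ι (D ⋙ coyoneda.obj (op X)) i a, by rw [post_apply, ha]⟩

/-- The canonical maps to a colimit are jointly epimorphic. -/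
lemma jepi_colimit_ι {I : Type w} [Category.{w'} I] (D : I ⥤ Sh J) [HasColimit D] :
    JEpi (fun i => colimit.ι D i) := by
  rw [jepi_iff_jsep]
  intro Z a b hab
  exact colimit.hom_ext hab

/-- Two sections with the same image in a filtered colimit become equal locally at a further
stage. -/
lemma colimit_ι_eq {i : I} {U : C} (x y : Sec (D.obj i) U)
    (h : ap (colimit.ι D i) x = ap (colimit.ι D i) y) :
    ∃ S ∈ J U, ∀ ⦃V : C⦄ (f : V ⟶ U), S f →
      ∃ (j : I) (k : i ⟶ j), ap (D.map k) (res (D.obj i) f x) = ap (D.map k) (res (D.obj i) f y) := by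
  -- the presheaf colimit and its sheafification
  let P : Cᵒᵖ ⥤ Type u := colimit (D ⋙ sheafToPresheaf J (Type u))
  let Q : Sh J := (presheafToSheaf J (Type u)).obj P
  let q : ∀ i, D.obj i ⟶ Q := fun i =>
    ⟨colimit.ι (D ⋙ sheafToPresheaf J (Type u)) i ≫ toSheafify J P⟩
  have hq : ∀ ⦃i j : I⦄ (k : i ⟶ j), D.map k ≫ q j = q i := by
    intro i j k
    apply Sheaf.hom_ext
    change (D ⋙ sheafToPresheaf J (Type u)).map k ≫
      colimit.ι (D ⋙ sheafToPresheaf J (Type u)) j ≫ toSheafify J P = _
    rw [← Category.assoc, colimit.w]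
  let cc : Cocone D :=
    { pt := Q
      ι := { app := q, naturality := fun i j k => by simp [hq k] } }
  let d : colimit D ⟶ Q := colimit.desc D cc
  have hd : ∀ i, colimit.ι D i ≫ d = q i := fun i => colimit.ι_desc _ _
  have h1 : ap (q i) x = ap (q i) y := by
    rw [← hd i, ap_comp, ap_comp, h]
  have hinj : Presheaf.IsLocallyInjective J (toSheafify J P) := inferInstance
  refine ⟨_, hinj.equalizerSieve_mem (X := op U)
    ((colimit.ι (D ⋙ sheafToPresheaf J (Type u)) i).app (op U) x)
    ((colimit.ι (D ⋙ sheafToPresheaf J (Type u)) i).app (op U) y) h1, ?_⟩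
  intro V f hf
  -- evaluate at `V`
  have hf' : P.map f.op ((colimit.ι (D ⋙ sheafToPresheaf J (Type u)) i).app (op U) x) =
      P.map f.op ((colimit.ι (D ⋙ sheafToPresheaf J (Type u)) i).app (op U) y) := hf
  rw [← NatTrans.naturality_apply, ← NatTrans.naturality_apply] at hf'
  have hc := isColimitOfPreserves ((evaluation Cᵒᵖ (Type u)).obj (op V))
    (colimit.isColimit (D ⋙ sheafToPresheaf J (Type u)))
  obtain ⟨j, k, hk⟩ := (Types.FilteredColimit.isColimit_eq_iff' hc
    (res (D.obj i) f x) (res (D.obj i) f y)).1 hf'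
  exact ⟨j, k, hk⟩

end Filtered

end Groth.Agent.Lib.Helper6.TF
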