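import Groth.Agent.Lib.Helper6TF14

set_option autoImplicit false

namespace Groth.Agent.Lib.Helper6.TF

open CategoryTheory Limits Opposite ToposFin

universe u w w'

variable {C : Type u} [SmallCategory C] {J : GrothendieckTopology C}

section Filtered

variable {I : Type u} [SmallCategory I] [IsFiltered I] (D : I ⥤ Sh J)

lemma exists_common_bound {i : I} (s : Finset (Σ j : I, (i ⟶ j))) :
    ∃ (j₀ : I) (k₀ : i ⟶ j₀), ∀ l ∈ s, ∃ u : l.1 ⟶ j₀, l.2 ≫ u = k₀ := by
  classical
  induction s using Finset.induction_on with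
  | empty => exact ⟨i, 𝟙 i, fun l hl => by simp at hl⟩
  | insert l s _ ih =>
    obtain ⟨j₀, k₀, h⟩ := ih
    obtain ⟨j₁, g, g', hg⟩ := IsFiltered.span k₀ l.2
    refine ⟨j₁, k₀ ≫ g, fun l' hl' => ?_⟩
    rcases Finset.mem_insert.1 hl' with rfl | hl'
    · exact ⟨g', hg.symm⟩
    · obtain ⟨u, hu⟩ := h l' hl'
      exact ⟨u ≫ g, by rw [← Category.assoc, hu]⟩

/-- S3059, direct implication, in a convenient form. -/
lemma IsQC.eq_of_colimit_ι_eq {X : Sh J} (hX : IsQC X) {i : I} (a b : X ⟶ D.obj i)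
    (h : a ≫ colimit.ι D i = b ≫ colimit.ι D i) :
    ∃ (j : I) (k : i ⟶ j), a ≫ D.map k = b ≫ D.map k := by
  let Λ := Σ j : I, (i ⟶ j)
  let e : ∀ l : Λ, equalizer (a ≫ D.map l.2) (b ≫ D.map l.2) ⟶ X := fun l => equalizer.ι _ _
  have he : JEpi e := by
    intro U x
    obtain ⟨S, hS, hS'⟩ := colimit_ι_eq D (ap a x) (ap b x) (by
      rw [← ap_comp, ← ap_comp, h])
    refine J.superset_covering ?_ hS
    intro V f hf
    obtain ⟨j, k, hk⟩ := hS' f hf
    obtain ⟨z, hz⟩ := (equalizer_eqSec (a ≫ D.map k) (b ≫ D.map k)).ex V (res X f x) (by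
      rw [ap_comp, ap_comp, ap_res a, ap_res b]; exact hk)
    exact ⟨⟨j, k⟩, z, hz⟩
  obtain ⟨s, hs⟩ := IsQC.exists_finset hX e he
  obtain ⟨j₀, k₀, hk₀⟩ := exists_common_bound s
  refine ⟨j₀, k₀, hs.jsep _ _ _ (fun l => ?_)⟩
  obtain ⟨u, hu⟩ := hk₀ l.1 l.2
  have := equalizer.condition (a ≫ D.map l.1.2) (b ≫ D.map l.1.2)
  rw [← hu, D.map_comp]
  simp only [← Category.assoc] at this ⊢
  rw [this]

end Filtered

end Groth.Agent.Lib.Helper6.TF

namespace Groth.Agent.Lib.Helper6.TF

open CategoryTheory Limits Opposite ToposFin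

universe u w w'

variable {C : Type u} [SmallCategory C] {J : GrothendieckTopology C}

section Converse

variable {X : Sh J} {ι : Type u} {F : ι → Sh J} (π : ∀ i, F i ⟶ X)

/-- Sections of `X` locally liftable to members indexed by `s`. -/
def subS (s : Finset ι) : Subfunctor X.obj := (famRange (fun i : s => π i)).sheafify J

lemma mem_subS_iff (s : Finset ι) {U : C} (x : Sec X U) :
    x ∈ (subS π s).obj (op U) ↔ liftSieve (fun i : s => π i) x ∈ J U :=
  mem_famImage_iff _ x

lemma subS_mono {s t : Finset ι} (h : s ≤ t) : subS π s ≤ subS π t := by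
  intro U x hx
  have hx' := (mem_subS_iff π s (U := U.unop) x).1 hx
  refine (mem_subS_iff π t (U := U.unop) x).2 (J.superset_covering ?_ hx')
  rintro V f ⟨i, y, hy⟩
  exact ⟨⟨i.1, h i.2⟩, y, hy⟩

/-- The relation gluing the two copies of `X` along `subS π s`. -/
def quotRel (s : Finset ι) (U : Cᵒᵖ) : Setoid (X.obj.obj U × Bool) where
  r p q := p.1 = q.1 ∧ (p.2 = q.2 ∨ p.1 ∈ (subS π s).obj U)
  iseqv :=
    ⟨fun p => ⟨rfl, Or.inl rfl⟩,
     fun {p q} h => ⟨h.1.symm, h.2.elim (fun h' => Or.inl h'.symm) (fun h' => Or.inr (h.1 ▸ h'))⟩,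
     fun {p q r} h h' => ⟨h.1.trans h'.1, by
      rcases h.2 with h2 | h2
      · rcases h'.2 with h3 | h3
        · exact Or.inl (h2.trans h3)
        · exact Or.inr (h.1 ▸ h3)
      · exact Or.inr h2⟩⟩

/-- The presheaf `X ⊔_{X_s} X`. -/
def quotPre (s : Finset ι) : Cᵒᵖ ⥤ Type u where
  obj U := Quotient (quotRel π s U)
  map {U V} f := ↾(Quotient.map (sa := quotRel π s U) (sb := quotRel π s V)
    (fun p => (X.obj.map f p.1, p.2)) (by
      rintro ⟨x, b⟩ ⟨x', b'⟩ ⟨h1, h2⟩
      dsimp only at h1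
      subst h1
      exact ⟨rfl, h2.imp id (fun h => (subS π s).map f h)⟩))
  map_id U := by
    apply ConcreteCategory.hom_ext
    intro q
    induction q using Quotient.inductionOn with
    | h p =>
      obtain ⟨x, b⟩ := p
      change (⟦(X.obj.map (𝟙 U) x, b)⟧ : Quotient (quotRel π s U)) = ⟦(x, b)⟧
      simp
  map_comp f g := by
    apply ConcreteCategory.hom_ext
    intro q
    induction q using Quotient.inductionOn with
    | h p =>
      obtain ⟨x, b⟩ := p
      change (⟦(X.obj.map (f ≫ g) x, b)⟧ : Quotient (quotRel π s _)) =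
        ⟦(X.obj.map g (X.obj.map f x), b)⟧
      simp

/-- The transition maps. -/
def quotMap {s t : Finset ι} (h : s ≤ t) : quotPre π s ⟶ quotPre π t where
  app U := ↾(Quotient.map (sa := quotRel π s U) (sb := quotRel π t U) id (by
    rintro p q ⟨h1, h2⟩
    exact ⟨h1, h2.imp id (fun hx => subS_mono π h U hx)⟩))
  naturality U V f := by
    apply ConcreteCategory.hom_ext
    intro q
    induction q using Quotient.inductionOn with
    | h p => rfl

/-- The diagram of presheaves. -/
def quotFun : Finset ι ⥤ (Cᵒᵖ ⥤ Type u) where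
  obj s := quotPre π s
  map f := quotMap π (leOfHom f)
  map_id s := by
    ext U q
    induction q using Quotient.inductionOn with
    | h p => rfl
  map_comp f g := by
    ext U q
    induction q using Quotient.inductionOn with
    | h p => rfl

/-- The inclusions of the two copies of `X`. -/
def toQuot (b : Bool) : X.obj ⟶ quotPre π ∅ where
  app U := ↾(fun x => (⟦(x, b)⟧ : Quotient (quotRel π ∅ U)))
  naturality U V f := by
    apply ConcreteCategory.hom_ext
    intro x
    rfl

end Converse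

end Groth.Agent.Lib.Helper6.TF

namespace Groth.Agent.Lib.Helper6.TF

open CategoryTheory Limits Opposite ToposFin

universe u w w'

variable {C : Type u} [SmallCategory C] {J : GrothendieckTopology C}

/-- S3059, converse implication. -/
lemma isQC_of_post_injective (X : Sh J)
    (h : ∀ (I : Type u) [SmallCategory I] [IsFiltered I] (D : I ⥤ Sh J),
      Function.Injective (colimit.post D (coyoneda.obj (op X)))) : IsQC X := by
  classical
  rw [isQC_iff]
  intro ι F π hπ
  let D : Finset ι ⥤ Sh J := quotFun π ⋙ presheafToSheaf J (Type u)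
  let ab : Bool → (X ⟶ D.obj ∅) := fun bb => ⟨toQuot π bb ≫ toSheafify J (quotPre π ∅)⟩
  have e1 : ∀ (bb : Bool) {t : Finset ι} (k : (∅ : Finset ι) ⟶ t),
      ab bb ≫ D.map k =
        ⟨toQuot π bb ≫ quotMap π (leOfHom k) ≫ toSheafify J (quotPre π t)⟩ := by
    intro bb t k
    apply Sheaf.hom_ext
    change (toQuot π bb ≫ toSheafify J _) ≫ sheafifyMap J (quotMap π (leOfHom k)) = _
    rw [Category.assoc, ← toSheafify_naturality]
    rfl
  have e2 : ∀ (bb : Bool) {t : Finset ι} (k : (∅ : Finset ι) ⟶ t) {U : C} (x : Sec X U),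
      ap (ab bb ≫ D.map k) x =
        (toSheafify J (quotPre π t)).app (op U) (⟦(x, bb)⟧ : Quotient (quotRel π t (op U))) := by
    intro bb t k U x
    rw [e1]
    rfl
  have key1 : ab true ≫ colimit.ι D ∅ = ab false ≫ colimit.ι D ∅ := by
    apply hom_ext_sec
    intro U x
    apply sec_ext (colimit D) (hπ U x)
    rintro V f ⟨i, y, hy⟩
    rw [← ap_res, ← ap_res, ← hy]
    let k : (∅ : Finset ι) ⟶ {i} := homOfLE (Finset.empty_subset _)
    have hw : ∀ bb, ab bb ≫ colimit.ι D ∅ = (ab bb ≫ D.map k) ≫ colimit.ι D {i} := by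
      intro bb
      rw [Category.assoc, colimit.w]
    rw [hw true, hw false]
    change ap (colimit.ι D {i}) (ap (ab true ≫ D.map k) (ap (π i) y)) =
      ap (colimit.ι D {i}) (ap (ab false ≫ D.map k) (ap (π i) y))
    rw [e2, e2]
    congr 2
    apply Quotient.sound
    refine ⟨rfl, Or.inr ?_⟩
    rw [mem_subS_iff]
    have := liftSieve_ap_mem_top (fun j : ({i} : Finset ι) => π j) ⟨i, Finset.mem_singleton_self i⟩ y
    rw [this]
    exact J.top_mem V
  obtain ⟨t, k, hk⟩ := (post_injective_iff D X).1 (h (Finset ι) D) ∅ (ab true) (ab false) key1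
  refine ⟨t, ?_⟩
  intro U x
  have h2 : (toSheafify J (quotPre π t)).app (op U) (⟦(x, true)⟧ : Quotient (quotRel π t (op U))) =
      (toSheafify J (quotPre π t)).app (op U) (⟦(x, false)⟧ : Quotient (quotRel π t (op U))) := by
    rw [← e2 true k, ← e2 false k, hk]
  have hinj : Presheaf.IsLocallyInjective J (toSheafify J (quotPre π t)) := inferInstance
  have h3 := hinj.equalizerSieve_mem (X := op U) _ _ h2
  refine J.transitive h3 _ ?_
  intro V f hf
  have hf' : (⟦(res X f x, true)⟧ : Quotient (quotRel π t (op V))) = ⟦(res X f x, false)⟧ := hf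
  have h4 := Quotient.exact hf'
  rcases h4.2 with h5 | h5
  · exact absurd h5 (by simp)
  · rw [← liftSieve_res]
    exact (mem_subS_iff π t _).1 h5

/-- S3059. -/
lemma isQC_iff_post_injective (X : Sh J) :
    IsQC X ↔ ∀ (I : Type u) [SmallCategory I] [IsFiltered I] (D : I ⥤ Sh J),
      Function.Injective (colimit.post D (coyoneda.obj (op X))) := by
  constructor
  · intro hX I _ _ D
    rw [post_injective_iff]
    intro i a b hab
    exact IsQC.eq_of_colimit_ι_eq D hX a b hab
  · exact isQC_of_post_injective X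

end Groth.Agent.Lib.Helper6.TF
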