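import Groth.Agent.Lib.Helper6TF16

set_option autoImplicit false

namespace Groth.Agent.Lib.Helper6.TF

open CategoryTheory Limits Opposite ToposFin

universe u w w'

variable {C : Type u} [SmallCategory C] {J : GrothendieckTopology C}

lemma isFP_iff (X : Sh J) : IsFP X ↔
    ∀ (I : Type u) [SmallCategory I] [IsFiltered I] (D : I ⥤ Sh J),
      (∀ (i : I) (a b : X ⟶ D.obj i), a ≫ colimit.ι D i = b ≫ colimit.ι D i →
        ∃ (j : I) (h : i ⟶ j), a ≫ D.map h = b ≫ D.map h) ∧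
      (∀ f : X ⟶ colimit D, ∃ (i : I) (a : X ⟶ D.obj i), a ≫ colimit.ι D i = f) := by
  constructor
  · intro h I _ _ D
    exact ⟨(post_injective_iff D X).1 (h I D).1, (post_surjective_iff D X).1 (h I D).2⟩
  · intro h I _ _ D
    exact ⟨(post_injective_iff D X).2 (h I D).1, (post_surjective_iff D X).2 (h I D).2⟩

lemma IsFP.isQC {X : Sh J} (hX : IsFP X) : IsQC X :=
  (isQC_iff_post_injective X).2 (fun I _ _ D => (hX I D).1)

/-- Coequalizers of pairs between coherent objects, and their retracts, are finitely presentable. -/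
lemma isFP_of_retract_coequalizer {P : Sh J → Prop} (hgen : Gen P) (hP : ∀ K, P K → IsQC K)
    {X X₀ X₁ : Sh J} (a b : X₁ ⟶ X₀) (i : X ⟶ coequalizer a b) (p : coequalizer a b ⟶ X)
    (h₀ : IsCoherent X₀) (h₁ : IsQC X₁) (hip : i ≫ p = 𝟙 X) : IsFP X := by
  rw [isFP_iff]
  intro I _ _ D
  -- the coequalizer first
  have hQinj : ∀ (k : I) (f g : coequalizer a b ⟶ D.obj k),
      f ≫ colimit.ι D k = g ≫ colimit.ι D k → ∃ (j : I) (h : k ⟶ j), f ≫ D.map h = g ≫ D.map h := by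
    intro k f g hfg
    obtain ⟨j, h, hh⟩ := IsQC.eq_of_colimit_ι_eq D h₀.1 (coequalizer.π a b ≫ f)
      (coequalizer.π a b ≫ g) (by rw [Category.assoc, Category.assoc, hfg])
    refine ⟨j, h, ?_⟩
    rw [← cancel_epi (coequalizer.π a b)]
    simpa only [Category.assoc] using hh
  have hQsurj : ∀ f : coequalizer a b ⟶ colimit D,
      ∃ (k : I) (g : coequalizer a b ⟶ D.obj k), g ≫ colimit.ι D k = f := by
    intro f
    obtain ⟨k, f₀, hf₀⟩ := exists_factor_of_isCoherent D hgen hP h₀ (coequalizer.π a b ≫ f)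
    obtain ⟨j, h, hh⟩ := IsQC.eq_of_colimit_ι_eq D h₁ (a ≫ f₀) (b ≫ f₀) (by
      rw [Category.assoc, Category.assoc, hf₀, ← Category.assoc, ← Category.assoc,
        coequalizer.condition])
    refine ⟨j, coequalizer.desc (f₀ ≫ D.map h) (by simpa only [Category.assoc] using hh), ?_⟩
    rw [← cancel_epi (coequalizer.π a b), ← Category.assoc, coequalizer.π_desc, Category.assoc,
      colimit.w, hf₀]
  constructor
  · intro k f g hfg
    obtain ⟨j, h, hh⟩ := hQinj k (p ≫ f) (p ≫ g) (by rw [Category.assoc, Category.assoc, hfg])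
    refine ⟨j, h, ?_⟩
    have := congrArg (fun t => i ≫ t) hh
    beta_reduce at this
    rw [Category.assoc, Category.assoc, ← Category.assoc i, ← Category.assoc i, hip,
      Category.id_comp, Category.id_comp] at this
    exact this
  · intro f
    obtain ⟨k, g, hg⟩ := hQsurj (p ≫ f)
    refine ⟨k, i ≫ g, ?_⟩
    rw [Category.assoc, hg, ← Category.assoc, hip, Category.id_comp]

/-! ### the diagram of finite quotients -/

section Quot

variable {G : Sh J} {Λ : Type u} {H : Λ → Sh J} (a b : ∀ l, H l ⟶ G)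

/-- Finite coproduct of relations. -/
noncomputable abbrev HS (H : Λ → Sh J) (s : Finset Λ) : Sh J := ∐ (fun l : s => H l)

noncomputable abbrev AS (s : Finset Λ) : HS H s ⟶ G := Sigma.desc (fun l : s => a l)

noncomputable def QS (s : Finset Λ) : Sh J := coequalizer (AS a s) (AS b s)

noncomputable def qS (s : Finset Λ) : G ⟶ QS a b s := coequalizer.π _ _

lemma qS_cond (s : Finset Λ) (l : Λ) (hl : l ∈ s) : a l ≫ qS a b s = b l ≫ qS a b s := by
  have h := coequalizer.condition (AS a s) (AS b s)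
  have := congrArg (fun t => Sigma.ι (fun l : s => H l) ⟨l, hl⟩ ≫ t) h
  beta_reduce at this
  rw [Sigma.ι_desc_assoc, Sigma.ι_desc_assoc] at this
  exact this

lemma AS_qS {s t : Finset Λ} (h : s ≤ t) : AS a s ≫ qS a b t = AS b s ≫ qS a b t := by
  apply Sigma.hom_ext
  intro l
  rw [Sigma.ι_desc_assoc, Sigma.ι_desc_assoc]
  exact qS_cond a b t l (h l.2)

noncomputable def TS {s t : Finset Λ} (h : s ≤ t) : QS a b s ⟶ QS a b t :=
  coequalizer.desc (qS a b t) (AS_qS a b h)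

lemma qS_TS {s t : Finset Λ} (h : s ≤ t) : qS a b s ≫ TS a b h = qS a b t :=
  coequalizer.π_desc _ _

noncomputable def DS : Finset Λ ⥤ Sh J where
  obj s := QS a b s
  map f := TS a b (leOfHom f)
  map_id s := by
    apply coequalizer.hom_ext
    change qS a b s ≫ TS a b _ = qS a b s ≫ 𝟙 _
    rw [qS_TS, Category.comp_id]
  map_comp f g := by
    apply coequalizer.hom_ext
    change qS a b _ ≫ TS a b _ = qS a b _ ≫ TS a b _ ≫ TS a b _
    rw [qS_TS, ← Category.assoc, qS_TS, qS_TS]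

end Quot

end Groth.Agent.Lib.Helper6.TF

namespace Groth.Agent.Lib.Helper6.TF

open CategoryTheory Limits Opposite ToposFin

universe u w w'

variable {C : Type u} [SmallCategory C] {J : GrothendieckTopology C}

lemma isCoherent_sigma {κ : Type u} [Finite κ] (G : κ → Sh J) (hG : ∀ k, IsCoherent (G k)) :
    IsCoherent (∐ G) := by
  have hc : IsColimit (Cofan.mk (∐ G) (Sigma.ι G)) := coproductIsCoproduct G
  exact ⟨isQC_of_jepi_finite G (Sigma.ι G) (jepi_cofan_inj hc) (fun k => (hG k).1),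
    (isQS_cofan_iff hc).2 (fun k => (hG k).2)⟩

/-- S3072, direct implication. -/
lemma exists_retract_of_isFP (hgen : Gen (fun K : Sh J => IsCoherent K)) {X : Sh J}
    (hX : IsFP X) :
    ∃ (X₀ X₁ : Sh J) (a b : X₁ ⟶ X₀) (i : X ⟶ coequalizer a b) (p : coequalizer a b ⟶ X),
      IsCoherent X₀ ∧ IsCoherent X₁ ∧ i ≫ p = 𝟙 X := by
  classical
  obtain ⟨κ, hκ, Gk, π, hGk, hπ⟩ := IsQC.exists_finite_gen_cover hgen (IsFP.isQC hX)
  have hGcoh : IsCoherent (∐ Gk) := isCoherent_sigma Gk hGk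
  obtain ⟨p, hp⟩ : ∃ p : ∐ Gk ⟶ X, p = Sigma.desc π := ⟨_, rfl⟩
  have hpepi : Epi p := by rw [hp]; exact (jepi_iff_epi_desc π).1 hπ
  obtain ⟨Λ, H, η, hH, hη⟩ := hgen (pullback p p)
  obtain ⟨a, ha⟩ : ∃ a : ∀ l, H l ⟶ ∐ Gk, ∀ l, a l = η l ≫ pullback.fst p p := ⟨_, fun l => rfl⟩
  obtain ⟨b, hb⟩ : ∃ b : ∀ l, H l ⟶ ∐ Gk, ∀ l, b l = η l ≫ pullback.snd p p := ⟨_, fun l => rfl⟩
  have hab : ∀ l, a l ≫ p = b l ≫ p := fun l => by
    rw [ha, hb, Category.assoc, Category.assoc, pullback.condition]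
  have hr : ∀ s : Finset Λ, AS a s ≫ p = AS b s ≫ p := fun s => by
    apply Sigma.hom_ext
    intro l
    rw [Sigma.ι_desc_assoc, Sigma.ι_desc_assoc]
    exact hab l
  obtain ⟨q, r, hqcond, hDmap, hqr⟩ : ∃ (q : ∀ s, ∐ Gk ⟶ (DS a b).obj s)
      (r : ∀ s, (DS a b).obj s ⟶ X),
      (∀ (s : Finset Λ) (l : Λ), l ∈ s → a l ≫ q s = b l ≫ q s) ∧
      (∀ {s t : Finset Λ} (h : s ⟶ t), q s ≫ (DS a b).map h = q t) ∧
      (∀ s, q s ≫ r s = p) :=
    ⟨fun s => qS a b s, fun s => coequalizer.desc p (hr s), fun s l hl => qS_cond a b s l hl,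
      fun h => qS_TS a b (leOfHom h), fun s => coequalizer.π_desc _ _⟩
  have hι : ∀ s : Finset Λ, q ∅ ≫ colimit.ι (DS a b) ∅ = q s ≫ colimit.ι (DS a b) s := by
    intro s
    rw [← colimit.w (DS a b) (homOfLE (Finset.empty_subset s)), ← Category.assoc, hDmap]
  obtain ⟨c, hc⟩ := exists_desc_of_epi p (q ∅ ≫ colimit.ι (DS a b) ∅) (by
    intro U x y hxy
    obtain ⟨ρ, hρ1, hρ2⟩ := pullback_sec_ex p p x y hxy
    apply sec_ext (colimit (DS a b)) (hη U ρ)
    rintro V f ⟨l, w, hw⟩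
    rw [← ap_res, ← ap_res]
    have hx : res (∐ Gk) f x = ap (a l) w := by rw [ha, ap_comp, hw, ap_res, hρ1]
    have hy : res (∐ Gk) f y = ap (b l) w := by rw [hb, ap_comp, hw, ap_res, hρ2]
    rw [hx, hy, hι {l}, ← ap_comp, ← ap_comp, ← Category.assoc, ← Category.assoc,
      hqcond {l} l (Finset.mem_singleton_self l)])
  obtain ⟨s, cs, hcs⟩ := ((isFP_iff X).1 hX (Finset Λ) (DS a b)).2 c
  obtain ⟨t, h, hh⟩ := IsQC.eq_of_colimit_ι_eq (DS a b) hGcoh.1 (p ≫ cs) (q s) (by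
    rw [Category.assoc, hcs, hc, hι s])
  have : Finite (↥t) := inferInstance
  refine ⟨∐ Gk, HS H t, AS a t, AS b t, cs ≫ (DS a b).map h, r t, hGcoh,
    isCoherent_sigma _ (fun l => hH l), ?_⟩
  rw [← cancel_epi p]
  calc p ≫ (cs ≫ (DS a b).map h) ≫ r t = ((p ≫ cs) ≫ (DS a b).map h) ≫ r t := by
        simp only [Category.assoc]
    _ = (q s ≫ (DS a b).map h) ≫ r t := by rw [hh]
    _ = q t ≫ r t := by rw [hDmap]
    _ = p := hqr t
    _ = p ≫ 𝟙 X := (Category.comp_id _).symm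

/-- S3072. -/
lemma isFP_iff_retract (hgen : Gen (fun K : Sh J => IsCoherent K)) (X : Sh J) :
    IsFP X ↔ ∃ (X₀ X₁ : Sh J) (a b : X₁ ⟶ X₀) (i : X ⟶ coequalizer a b)
      (p : coequalizer a b ⟶ X), IsCoherent X₀ ∧ IsCoherent X₁ ∧ i ≫ p = 𝟙 X := by
  constructor
  · exact exists_retract_of_isFP hgen
  · rintro ⟨X₀, X₁, a, b, i, p, h₀, h₁, hip⟩
    exact isFP_of_retract_coequalizer hgen (fun K hK => hK.1) a b i p h₀ h₁.1 hip

end Groth.Agent.Lib.Helper6.TF
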