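import Groth.Agent.Lib.Helper6TF17

set_option autoImplicit false

namespace Groth.Agent.Lib.Helper6.TF

open CategoryTheory Limits Opposite ToposFin

universe u w w'

variable {C : Type u} [SmallCategory C] {J : GrothendieckTopology C}

lemma IsQC.exists_fin_gen_cover {P : Sh J → Prop} (hgen : Gen P) {X : Sh J} (hX : IsQC X) :
    ∃ (n : ℕ) (F : Fin n → Sh J) (π : ∀ k, F k ⟶ X), (∀ k, P (F k)) ∧ JEpi π := by
  obtain ⟨κ, hκ, F, π, hF, hπ⟩ := IsQC.exists_finite_gen_cover hgen hX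
  obtain ⟨n, ⟨e⟩⟩ := Finite.exists_equiv_fin κ
  exact ⟨n, fun k => F (e.symm k), fun k => π (e.symm k), fun k => hF _,
    hπ.reindex e.symm e.symm.surjective⟩

/-- A retract of a coherent object is coherent. -/
lemma isCoherent_of_retract {X Q : Sh J} (i : X ⟶ Q) (p : Q ⟶ X) (hip : i ≫ p = 𝟙 X)
    (hQ : IsCoherent Q) : IsCoherent X := by
  have : IsSplitMono i := ⟨⟨⟨p, hip⟩⟩⟩
  have : IsSplitEpi p := ⟨⟨⟨i, hip⟩⟩⟩
  exact ⟨isQC_of_epi p hQ.1, isQS_of_mono i hQ.2⟩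

/-- An epimorphism from `G` whose kernel pair is covered by `L` exhibits the target as a
coequalizer. -/
lemma nonempty_iso_coequalizer {G L X : Sh J} (p : G ⟶ X) [Epi p] (η : L ⟶ pullback p p) [Epi η] :
    Nonempty (X ≅ coequalizer (η ≫ pullback.fst p p) (η ≫ pullback.snd p p)) := by
  have hab : (η ≫ pullback.fst p p) ≫ p = (η ≫ pullback.snd p p) ≫ p := by
    rw [Category.assoc, Category.assoc, pullback.condition]
  let d : coequalizer (η ≫ pullback.fst p p) (η ≫ pullback.snd p p) ⟶ X := coequalizer.desc p hab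
  have hd : coequalizer.π _ _ ≫ d = p := coequalizer.π_desc _ _
  have hη : JEpi (fun _ : PUnit.{1} => η) := jepi_of_epi η
  obtain ⟨e, he⟩ := exists_desc_of_epi p
    (coequalizer.π (η ≫ pullback.fst p p) (η ≫ pullback.snd p p)) (by
      intro U x y hxy
      obtain ⟨ρ, hρ1, hρ2⟩ := pullback_sec_ex p p x y hxy
      apply sec_ext _ (hη U ρ)
      rintro V f ⟨_, w, hw⟩
      rw [← ap_res, ← ap_res, ← hρ1, ← hρ2, ← ap_res, ← ap_res, ← hw]
      exact congrArg (fun t => ap t w)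
        (coequalizer.condition (η ≫ pullback.fst p p) (η ≫ pullback.snd p p)))
  refine ⟨⟨e, d, ?_, ?_⟩⟩
  · rw [← cancel_epi p, ← Category.assoc, he, hd, Category.comp_id]
  · rw [← cancel_epi (coequalizer.π (η ≫ pullback.fst p p) (η ≫ pullback.snd p p)),
      ← Category.assoc, hd, he, Category.comp_id]

/-- S5588. -/
lemma mem_iff_isCoherent_of_closed {S : Set (Sh J)} (hqc : ∀ K ∈ S, IsQC K)
    (hiso : ∀ ⦃K L : Sh J⦄, K ∈ S → Nonempty (K ≅ L) → L ∈ S)
    (hgen : IsGenerating S) (hpb : ClosedUnderPullbacks S)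
    (hcolim : ∀ (K : Type) [SmallCategory K] [FinCategory K] (D : K ⥤ Sh J),
      (∀ k, D.obj k ∈ S) → colimit D ∈ S) :
    (∀ X : Sh J, X ∈ S ↔ IsCoherent X) ∧ (∀ X : Sh J, IsFP X → IsCoherent X) := by
  have hG := gen_of_isGenerating hgen
  have hcoh : ∀ X : Sh J, X ∈ S → IsCoherent X := fun X hX => isCoherent_of_mem hqc hgen hpb hX
  have hsigma : ∀ {n : ℕ} (F : Fin n → Sh J), (∀ k, F k ∈ S) → ∐ F ∈ S := fun F hF =>
    hcolim (Discrete (Fin _)) (Discrete.functor F) (fun k => hF k.as)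
  have hcoeq : ∀ {A B : Sh J} (a b : A ⟶ B), A ∈ S → B ∈ S → coequalizer a b ∈ S := by
    intro A B a b hA hB
    refine hcolim WalkingParallelPair (parallelPair a b) (fun k => ?_)
    cases k
    · exact hA
    · exact hB
  have hmem : ∀ X : Sh J, IsCoherent X → X ∈ S := by
    intro X hX
    obtain ⟨n, K, π, hK, hπ⟩ := IsQC.exists_fin_gen_cover hG hX.1
    have hGS : ∐ K ∈ S := hsigma K hK
    have hp : Epi (Sigma.desc π) := (jepi_iff_epi_desc π).1 hπ
    have hR : IsQC (pullback (Sigma.desc π) (Sigma.desc π)) :=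
      hX.2 _ _ _ _ (hqc _ hGS) (hqc _ hGS)
    obtain ⟨m, L, η, hL, hη⟩ := IsQC.exists_fin_gen_cover hG hR
    have hLS : ∐ L ∈ S := hsigma L hL
    have hη' : Epi (Sigma.desc η) := (jepi_iff_epi_desc η).1 hη
    obtain ⟨e⟩ := nonempty_iso_coequalizer (Sigma.desc π) (Sigma.desc η)
    exact hiso (hcoeq _ _ hLS hGS) ⟨e.symm⟩
  refine ⟨fun X => ⟨hcoh X, hmem X⟩, fun X hX => ?_⟩
  obtain ⟨X₀, X₁, a, b, i, p, h₀, h₁, hip⟩ :=
    exists_retract_of_isFP (hG.mono (fun K hK => hcoh K hK)) hX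
  exact isCoherent_of_retract i p hip (hcoh _ (hcoeq a b (hmem _ h₁) (hmem _ h₀)))

end Groth.Agent.Lib.Helper6.TF
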