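import Groth.Agent.Lib.Helper6TF18

set_option autoImplicit false

namespace Groth.Agent.Lib.Helper6.TF

open CategoryTheory Limits Opposite ToposFin

universe u

variable {C : Type u} [SmallCategory C] {J : GrothendieckTopology C}

attribute [local instance] Cardinal.fact_isRegular_aleph0

/-- The prelude's `IsFP` is Mathlib's `IsFinitelyPresentable`. -/
lemma isFP_iff_isFinitelyPresentable (X : Sh J) : IsFP X ↔ IsFinitelyPresentable.{u} X := by
  rw [isFinitelyPresentable_iff_preservesFilteredColimitsOfSize]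
  constructor
  · intro h
    refine ⟨fun I _ _ => ⟨fun {D} => ?_⟩⟩
    have : IsIso (colimit.post D (coyoneda.obj (op X))) := (isIso_iff_bijective _).2 (h I D)
    exact preservesColimit_of_isIso_post _ _
  · intro h I _ _ D
    have : PreservesColimitsOfShape I (coyoneda.obj (op X)) :=
      h.preserves_filtered_colimits I
    exact (isIso_iff_bijective _).1 inferInstance

lemma jepi_ofSec (F : Sh J) : JEpi (fun p : Σ U : C, Sec F U => ofSec p.2) := by
  intro U x
  have : liftSieve (fun p : Σ U : C, Sec F U => ofSec p.2) x = ⊤ := by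
    rw [← ap_ofSec_yo x]
    exact liftSieve_ap_mem_top (fun p : Σ U : C, Sec F U => ofSec p.2) ⟨U, x⟩ (yo U)
  rw [this]
  exact J.top_mem U

/-- A small generating family extracted from a class of generators. -/
lemma exists_small_gen {P : Sh J → Prop} (hgen : Gen P) :
    ∃ (κ : Type u) (G : κ → Sh J), (∀ k, P (G k)) ∧ Gen (fun K : Sh J => ∃ k, K = G k) := by
  choose ιU FU πU hFU hπU using fun U : C => hgen (eps J U)
  refine ⟨Σ U : C, ιU U, fun p => FU p.1 p.2, fun p => hFU p.1 p.2, ?_⟩
  intro X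
  refine ⟨Σ p : (Σ U : C, Sec X U), ιU p.1, fun q => FU q.1.1 q.2,
    fun q => πU q.1.1 q.2 ≫ ofSec q.1.2, fun q => ⟨⟨q.1.1, q.2⟩, rfl⟩, ?_⟩
  exact (jepi_ofSec X).comp (fun p k => πU p.1 k) (fun p => hπU p.1)

/-- Under coherent generators, every object is a small filtered colimit of objects of finite
presentation (Adámek–Rosický 1.20 via Mathlib). -/
lemma exists_filtered_fp_presentation (hgen : Gen (fun K : Sh J => IsCoherent K)) (X : Sh J) :
    ∃ (I : Type u) (_ : SmallCategory I) (_ : IsFiltered I) (D : I ⥤ Sh J),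
      (∀ i, IsFP (D.obj i)) ∧ Nonempty (X ≅ colimit D) := by
  obtain ⟨κ, G, hG, hGgen⟩ := exists_small_gen hgen
  have hP1 : (ObjectProperty.ofObj G).IsStrongGenerator := by
    rw [ObjectProperty.isStrongGenerator_iff]
    refine ⟨?_, ?_⟩
    · intro X Y f g h
      obtain ⟨ι, F, π, hF, hπ⟩ := hGgen X
      refine hπ.jsep Y f g (fun i => ?_)
      obtain ⟨k, hk⟩ := hF i
      exact h (F i) (by rw [hk]; exact ⟨k⟩) (π i)
    · intro X Y i _ hi
      obtain ⟨ι, F, π, hF, hπ⟩ := hGgen Y
      have : Epi i := ⟨fun {Z} a b hab => hπ.jsep Z a b (fun j => by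
        obtain ⟨k, hk⟩ := hF j
        obtain ⟨φ, hφ⟩ := hi (F j) (by rw [hk]; exact ⟨k⟩) (π j)
        simp only at hφ
        rw [← hφ, Category.assoc, hab, Category.assoc])⟩
      exact isIso_of_mono_of_epi i
  have hP2 : ObjectProperty.ofObj G ≤ isCardinalPresentable (Sh J) Cardinal.aleph0.{u} := by
    rintro _ ⟨k⟩
    exact (isFP_iff_isFinitelyPresentable _).1
      (fun I _ _ D => isFP_of_isCoherent D hgen (fun K hK => hK.1) (hG k))
  have : IsCardinalLocallyPresentable (Sh J) Cardinal.aleph0.{u} :=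
    (IsCardinalLocallyPresentable.iff_exists_isStrongGenerator (Sh J) _).2
      ⟨ObjectProperty.ofObj G, inferInstance, hP1, hP2⟩
  obtain ⟨Q, _, hQ⟩ := HasCardinalFilteredGenerator.exists_generator (Sh J) Cardinal.aleph0.{u}
  obtain ⟨I, _, hI, ⟨p⟩⟩ := hQ.exists_colimitsOfShape X
  have hfil : IsFiltered I := isFiltered_of_isCardinalFiltered I Cardinal.aleph0.{u}
  refine ⟨I, inferInstance, hfil, p.diag, fun i => ?_, ⟨?_⟩⟩
  · exact (isFP_iff_isFinitelyPresentable _).2 (hQ.le_isCardinalPresentable _ (p.prop_diag_obj i))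
  · exact p.isColimit.coconePointUniqueUpToIso (colimit.isColimit _)

end Groth.Agent.Lib.Helper6.TF
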