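import Groth.Agent.Lib.Helper6TF1

set_option autoImplicit false

namespace Groth.Agent.Lib.Helper6.TF

open CategoryTheory Limits Opposite ToposFin

universe u w w'

variable {C : Type u} [SmallCategory C] {J : GrothendieckTopology C}

/-! ### sectionwise pullbacks -/

/-- A commutative square of sheaves which is a pullback on sections. -/
structure PbSec {P X Y Z : Sh J} (fst : P ⟶ X) (snd : P ⟶ Y) (f : X ⟶ Z) (g : Y ⟶ Z) : Prop where
  w : fst ≫ f = snd ≫ g
  ext : ∀ (U : C) (p q : Sec P U), ap fst p = ap fst q → ap snd p = ap snd q → p = q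
  ex : ∀ (U : C) (a : Sec X U) (b : Sec Y U), ap f a = ap g b →
    ∃ p : Sec P U, ap fst p = a ∧ ap snd p = b

section

variable {P X Y Z : Sh J} {fst : P ⟶ X} {snd : P ⟶ Y} {f : X ⟶ Z} {g : Y ⟶ Z}

lemma pbSec_of_isPullback (h : IsPullback fst snd f g) : PbSec fst snd f g where
  w := h.w
  ext U p q h1 h2 :=
    Types.ext_of_isPullback ((h.map (sheafToPresheaf J (Type u))).app (op U)) h1 h2
  ex U a b hab :=
    Types.exists_of_isPullback ((h.map (sheafToPresheaf J (Type u))).app (op U)) a b hab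

lemma PbSec.isPullback (h : PbSec fst snd f g) : IsPullback fst snd f g := by
  have h1 : IsPullback ((sheafToPresheaf J (Type u)).map fst) ((sheafToPresheaf J (Type u)).map snd)
      ((sheafToPresheaf J (Type u)).map f) ((sheafToPresheaf J (Type u)).map g) := by
    apply IsPullback.of_forall_isPullback_app
    intro U
    rw [Types.isPullback_iff]
    refine ⟨?_, ?_, ?_⟩
    · have := congrArg (fun t => t.hom.app U) h.w
      exact this
    · rintro p q ⟨h1, h2⟩
      exact h.ext U.unop p q h1 h2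
    · intro a b hab
      exact h.ex U.unop a b hab
  exact IsPullback.of_map_of_faithful (sheafToPresheaf J (Type u)) h1

lemma isPullback_iff_pbSec : IsPullback fst snd f g ↔ PbSec fst snd f g :=
  ⟨pbSec_of_isPullback, PbSec.isPullback⟩

end

/-- Pullback stability of jointly epimorphic families. -/
lemma JEpi.pullback {X Y : Sh J} {ι : Type w} {F : ι → Sh J} {π : ∀ i, F i ⟶ X} (hπ : JEpi π)
    (g : Y ⟶ X) {P : ι → Sh J} (fst : ∀ i, P i ⟶ F i) (snd : ∀ i, P i ⟶ Y)
    (h : ∀ i, IsPullback (fst i) (snd i) (π i) g) : JEpi snd := by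
  intro U y
  refine J.superset_covering ?_ (hπ U (ap g y))
  rintro V f ⟨i, z, hz⟩
  rw [← ap_res] at hz
  obtain ⟨p, -, hp⟩ := (pbSec_of_isPullback (h i)).ex V z (res Y f y) hz
  exact ⟨i, p, hp⟩

/-! ### quasi-compact objects -/

lemma isQC_iff (X : Sh J) : IsQC X ↔ ∀ (ι : Type u) (F : ι → Sh J) (π : ∀ i, F i ⟶ X), JEpi π →
    ∃ s : Finset ι, JEpi (fun i : s => π i) := by
  constructor
  · intro h ι F π hπ
    obtain ⟨s, hs⟩ := h ι F π ((jepi_iff_epi_desc π).1 hπ)
    exact ⟨s, (jepi_iff_epi_desc _).2 hs⟩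
  · intro h ι F π hπ
    obtain ⟨s, hs⟩ := h ι F π ((jepi_iff_epi_desc π).2 hπ)
    exact ⟨s, (jepi_iff_epi_desc _).1 hs⟩

/-- An object covered by a finite family of quasi-compact objects is quasi-compact. -/
lemma isQC_of_jepi_finite {κ : Type w} [Finite κ] {X : Sh J} (G : κ → Sh J) (ρ : ∀ k, G k ⟶ X)
    (hρ : JEpi ρ) (hG : ∀ k, IsQC (G k)) : IsQC X := by
  classical
  have := Fintype.ofFinite κ
  rw [isQC_iff]
  intro ι F π hπ
  have h1 : ∀ k, ∃ s : Finset ι, JEpi (fun i : s => pullback.snd (π i) (ρ k)) := by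
    intro k
    have := hπ.pullback (ρ k) (fun i => pullback.fst (π i) (ρ k)) (fun i => pullback.snd (π i) (ρ k))
      (fun i => IsPullback.of_hasPullback _ _)
    exact (isQC_iff _).1 (hG k) ι _ _ this
  choose s hs using h1
  refine ⟨Finset.univ.biUnion s, ?_⟩
  refine hρ.trans _ (fun k V y => ?_)
  refine J.superset_covering ?_ (hs k V y)
  rintro W g ⟨i, z, hz⟩
  refine ⟨⟨i.1, Finset.mem_biUnion.2 ⟨k, Finset.mem_univ _, i.2⟩⟩, ap (pullback.fst (π i.1) (ρ k)) z, ?_⟩
  dsimp only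
  rw [← ap_comp, pullback.condition, ap_comp, hz, ap_res]

lemma isQC_of_epi {X Y : Sh J} (f : X ⟶ Y) [Epi f] (hX : IsQC X) : IsQC Y :=
  isQC_of_jepi_finite (fun _ : PUnit.{1} => X) (fun _ => f) (jepi_of_epi f) (fun _ => hX)

lemma isQC_of_iso {X Y : Sh J} (e : X ≅ Y) (hX : IsQC X) : IsQC Y :=
  isQC_of_epi e.hom hX

lemma isQC_iff_of_iso {X Y : Sh J} (e : X ≅ Y) : IsQC X ↔ IsQC Y :=
  ⟨isQC_of_iso e, isQC_of_iso e.symm⟩

/-- Extraction of a finite subfamily, for index types in any universe. -/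
lemma IsQC.exists_finset {X : Sh J} (hX : IsQC X) {ι : Type u} {F : ι → Sh J} (π : ∀ i, F i ⟶ X)
    (hπ : JEpi π) : ∃ s : Finset ι, JEpi (fun i : s => π i) :=
  (isQC_iff X).1 hX ι F π hπ

end Groth.Agent.Lib.Helper6.TF
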