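import Groth.Agent.Lib.Helper6TF19

set_option autoImplicit false

namespace Groth.Agent.Lib.Helper6.TF

open CategoryTheory Limits Opposite ToposFin

universe u

variable {C : Type u} [SmallCategory C] {J : GrothendieckTopology C}

lemma ofSec_injective {X : C} {F : Sh J} {s t : Sec F X} (h : ofSec s = ofSec t) : s = t := by
  rw [← ap_ofSec_yo s, ← ap_ofSec_yo t, h]

section

variable [HasPullbacks C] (hJ : ∀ U : C, IsQCSite J U)
  {I : Type u} [SmallCategory I] [IsFiltered I] (D : I ⥤ Sh J)

include hJ in
lemma post_sheafToPresheaf_bijective (U : C) :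
    Function.Bijective ((colimit.post D (sheafToPresheaf J (Type u))).app (op U)) := by
  have hP : ∀ K : Sh J, (∃ V : C, K = eps J V) → IsQC K := by
    rintro K ⟨V, rfl⟩
    exact isQC_eps hJ V
  -- evaluation at `U` of the presheaf colimit is a colimit of types
  let F := D ⋙ sheafToPresheaf J (Type u)
  have hc : IsColimit (((evaluation Cᵒᵖ (Type u)).obj (op U)).mapCocone (colimit.cocone F)) :=
    isColimitOfPreserves _ (colimit.isColimit F)
  have hθ : ∀ (i : I) (y : Sec (D.obj i) U),
      (colimit.post D (sheafToPresheaf J (Type u))).app (op U)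
        ((colimit.ι F i).app (op U) y) = ap (colimit.ι D i) y := by
    intro i y
    have := colimit.ι_post D (sheafToPresheaf J (Type u)) i
    exact congrFun (congrArg (fun t => t.app (op U)) this) y
  constructor
  · intro a b hab
    obtain ⟨i, y, rfl⟩ := Types.jointly_surjective_of_isColimit hc a
    obtain ⟨i', y', rfl⟩ := Types.jointly_surjective_of_isColimit hc b
    change (colimit.post D (sheafToPresheaf J (Type u))).app (op U)
      ((colimit.ι F i).app (op U) y) = (colimit.post D (sheafToPresheaf J (Type u))).app (op U)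
      ((colimit.ι F i').app (op U) y') at hab
    rw [hθ, hθ] at hab
    let j₀ := IsFiltered.max i i'
    let k : i ⟶ j₀ := IsFiltered.leftToMax i i'
    let k' : i' ⟶ j₀ := IsFiltered.rightToMax i i'
    have e1 : ap (colimit.ι D j₀) (ap (D.map k) y) = ap (colimit.ι D i) y := by
      rw [← ap_comp, colimit.w]
    have e2 : ap (colimit.ι D j₀) (ap (D.map k') y') = ap (colimit.ι D i') y' := by
      rw [← ap_comp, colimit.w]
    have h3 : ofSec (ap (D.map k) y) ≫ colimit.ι D j₀ = ofSec (ap (D.map k') y') ≫ colimit.ι D j₀ := by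
      rw [ofSec_comp, ofSec_comp, e1, e2, hab]
    obtain ⟨j, l, hl⟩ := IsQC.eq_of_colimit_ι_eq D (isQC_eps hJ U) _ _ h3
    rw [ofSec_comp, ofSec_comp] at hl
    have h4 := ofSec_injective hl
    refine (Types.FilteredColimit.isColimit_eq_iff _ hc).2 ⟨j, k ≫ l, k' ≫ l, ?_⟩
    change ap (D.map (k ≫ l)) y = ap (D.map (k' ≫ l)) y'
    rw [D.map_comp, D.map_comp, ap_comp, ap_comp]
    exact h4
  · intro x
    obtain ⟨i, a, ha⟩ := exists_factor_of_isCoherent D gen_eps hP (isCoherent_eps hJ U) (ofSec x)
    refine ⟨(colimit.ι F i).app (op U) (ap a (yo U)), ?_⟩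
    rw [hθ, ← ap_comp, ha, ap_ofSec_yo]

include hJ in
/-- S14621: on a quasi-compact site with pullbacks, filtered colimits of sheaves of sets are
computed objectwise. -/
lemma preservesColimit_sheafToPresheaf : PreservesColimit D (sheafToPresheaf J (Type u)) := by
  have : ∀ X : Cᵒᵖ, IsIso ((colimit.post D (sheafToPresheaf J (Type u))).app X) := fun X =>
    (isIso_iff_bijective _).2 (post_sheafToPresheaf_bijective hJ D X.unop)
  have : IsIso (colimit.post D (sheafToPresheaf J (Type u))) := NatIso.isIso_of_isIso_app _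
  exact preservesColimit_of_isIso_post _ _

end

end Groth.Agent.Lib.Helper6.TF
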