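import Groth.Agent.Lib.Helper6TF2

set_option autoImplicit false

namespace Groth.Agent.Lib.Helper6.TF

open CategoryTheory Limits Opposite ToposFin

universe u w w'

variable {C : Type u} [SmallCategory C] {J : GrothendieckTopology C}

/-! ### empty sheaves -/

/-- A sheaf is empty: it has sections only over objects covered by the empty sieve. -/
def IsEmptySh (F : Sh J) : Prop := ∀ U : C, Nonempty (Sec F U) → ⊥ ∈ J U

lemma sec_subsingleton_of_bot_mem (F : Sh J) {U : C} (h : ⊥ ∈ J U) : Subsingleton (Sec F U) :=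
  ⟨fun _ _ => sec_ext F h (fun _ _ hf => hf.elim)⟩

lemma sec_nonempty_of_bot_mem (F : Sh J) {U : C} (h : ⊥ ∈ J U) : Nonempty (Sec F U) := by
  have hF := (isSheaf_iff_isSheaf_of_type _ _).1 F.2
  let x : Presieve.FamilyOfElements F.obj (⊥ : Sieve U).arrows := fun V f hf => hf.elim
  have hx : x.Compatible := fun _ _ _ _ _ _ _ h₁ _ _ => h₁.elim
  exact ⟨(hF _ h).amalgamate x hx⟩

lemma IsEmptySh.of_hom {F G : Sh J} (f : F ⟶ G) (hG : IsEmptySh G) : IsEmptySh F :=
  fun U ⟨x⟩ => hG U ⟨ap f x⟩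

/-- An empty sheaf is initial. -/
noncomputable def IsEmptySh.isInitial {F : Sh J} (hF : IsEmptySh F) : IsInitial F :=
  IsInitial.ofUniqueHom
    (fun Z => ⟨{
      app := fun U => ↾fun x => Classical.choice (sec_nonempty_of_bot_mem Z (hF U.unop ⟨x⟩))
      naturality := by
        intro U V f
        ext x
        have := sec_subsingleton_of_bot_mem Z (hF V.unop ⟨F.obj.map f x⟩)
        exact Subsingleton.elim (α := Sec Z V.unop) _ _ }⟩)
    (fun Z m => by
      apply hom_ext_sec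
      intro U x
      have := sec_subsingleton_of_bot_mem Z (hF U ⟨x⟩)
      exact Subsingleton.elim _ _)

lemma isEmptySh_initial : IsEmptySh (⊥_ (Sh J)) := by
  let π : ∀ i : PEmpty.{1}, (PEmpty.elim i : Sh J) ⟶ ⊤_ (Sh J) := fun i => PEmpty.elim i
  have hE : IsEmptySh (famImage π) := by
    rintro U ⟨x⟩
    have hx : liftSieve π x.1 ∈ J U := (mem_famImage_iff π x.1).1 x.2
    refine J.superset_covering ?_ hx
    rintro V f ⟨i, -⟩
    exact i.elim
  exact hE.of_hom (initial.to _)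

lemma isEmptySh_iff_nonempty_iso (F : Sh J) : IsEmptySh F ↔ Nonempty (F ≅ ⊥_ (Sh J)) := by
  constructor
  · intro h
    exact ⟨h.isInitial.uniqueUpToIso initialIsInitial⟩
  · rintro ⟨e⟩
    exact isEmptySh_initial.of_hom e.hom

/-- Empty members may be removed from a jointly epimorphic family. -/
lemma JEpi.of_isEmptySh_compl {X : Sh J} {ι : Type w} {F : ι → Sh J} {π : ∀ i, F i ⟶ X}
    (hπ : JEpi π) (s : Set ι) (h : ∀ i, i ∉ s → IsEmptySh (F i)) : JEpi (fun i : s => π i) := by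
  classical
  intro U x
  refine J.transitive (hπ U x) _ ?_
  rintro V f ⟨i, y, hy⟩
  rw [← liftSieve_res, ← hy]
  by_cases hi : i ∈ s
  · rw [liftSieve_ap_mem_top (fun i : s => π i) ⟨i, hi⟩ y]
    exact J.top_mem V
  · exact J.superset_covering bot_le (h i hi V ⟨y⟩)

/-! ### coproducts -/

section Coprod

variable {ι : Type u} (F : ι → Sh J)

/-- The presheaf coproduct of the underlying presheaves. -/
def sigmaPre : Cᵒᵖ ⥤ Type u where
  obj U := Σ i, (F i).obj.obj U
  map f := ↾fun p => ⟨p.1, (F p.1).obj.map f p.2⟩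
  map_id U := by
    apply ConcreteCategory.hom_ext
    rintro ⟨i, a⟩
    change (⟨i, (F i).obj.map (𝟙 U) a⟩ : Σ i, (F i).obj.obj U) = ⟨i, a⟩
    simp
  map_comp f g := by
    apply ConcreteCategory.hom_ext
    rintro ⟨i, a⟩
    change (⟨i, (F i).obj.map (f ≫ g) a⟩ : Σ i, (F i).obj.obj _) =
      ⟨i, (F i).obj.map g ((F i).obj.map f a)⟩
    simp

/-- The injections into the presheaf coproduct. -/
def sigmaPreι (i : ι) : (F i).obj ⟶ sigmaPre F where
  app U := ↾fun a => ⟨i, a⟩

/-- The sheafified coproduct. -/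
noncomputable def sigmaSh : Sh J := (presheafToSheaf J (Type u)).obj (sigmaPre F)

/-- The injections into the sheafified coproduct. -/
noncomputable def sigmaShι (i : ι) : F i ⟶ sigmaSh F := ⟨sigmaPreι F i ≫ toSheafify J (sigmaPre F)⟩

lemma sigmaShι_eq {i j : ι} {U : C} (a : Sec (F i) U) (b : Sec (F j) U)
    (h : ap (sigmaShι F i) a = ap (sigmaShι F j) b) :
    ∃ S ∈ J U, ∀ ⦃V : C⦄ (f : V ⟶ U), S f →
      ∃ e : i = j, res (F j) f b = e ▸ res (F i) f a := by
  have hinj : Presheaf.IsLocallyInjective J (toSheafify J (sigmaPre F)) := inferInstance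
  have := hinj.equalizerSieve_mem (X := op U) (⟨i, a⟩ : (sigmaPre F).obj (op U)) ⟨j, b⟩ h
  refine ⟨_, this, ?_⟩
  intro V f hf
  have hf' : (⟨i, (F i).obj.map f.op a⟩ : Σ i, (F i).obj.obj (op V)) = ⟨j, (F j).obj.map f.op b⟩ := hf
  obtain ⟨rfl, h2⟩ := Sigma.mk.inj_iff.1 hf'
  exact ⟨rfl, (eq_of_heq h2).symm⟩

variable {F}

lemma jepi_cofan_inj {c : Cofan F} (hc : IsColimit c) : JEpi c.inj := by
  rw [jepi_iff_jsep]
  intro Z a b hab
  exact Cofan.IsColimit.hom_ext hc _ _ hab

lemma cofan_inj_eq {c : Cofan F} (hc : IsColimit c) {i j : ι} {U : C} (a : Sec (F i) U)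
    (b : Sec (F j) U) (h : ap (c.inj i) a = ap (c.inj j) b) :
    ∃ S ∈ J U, ∀ ⦃V : C⦄ (f : V ⟶ U), S f →
      ∃ e : i = j, res (F j) f b = e ▸ res (F i) f a := by
  apply sigmaShι_eq F a b
  have h1 := fun k => Cofan.IsColimit.fac hc (sigmaShι F) k
  rw [← h1 i, ← h1 j, ap_comp, ap_comp, h]

lemma cofan_inj_injective {c : Cofan F} (hc : IsColimit c) (i : ι) (U : C) :
    Function.Injective (ap (c.inj i) : Sec (F i) U → Sec c.pt U) := by
  intro a b h
  obtain ⟨S, hS, hS'⟩ := cofan_inj_eq hc a b h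
  apply sec_ext (F i) hS
  intro V f hf
  obtain ⟨e, he⟩ := hS' f hf
  exact he.symm

lemma cofan_inj_mono {c : Cofan F} (hc : IsColimit c) (i : ι) : Mono (c.inj i) :=
  mono_of_ap_injective _ (cofan_inj_injective hc i)

lemma cofan_inj_disjoint {c : Cofan F} (hc : IsColimit c) {i j : ι} (hij : i ≠ j) {U : C}
    (a : Sec (F i) U) (b : Sec (F j) U) (h : ap (c.inj i) a = ap (c.inj j) b) : ⊥ ∈ J U := by
  obtain ⟨S, hS, hS'⟩ := cofan_inj_eq hc a b h
  refine J.superset_covering ?_ hS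
  intro V f hf
  obtain ⟨e, -⟩ := hS' f hf
  exact (hij e).elim

end Coprod

/-! ### disjoint covers by subobjects -/

/-- Pieces of a disjoint cover by subobjects of a quasi-compact object are quasi-compact. -/
lemma isQC_of_disjoint_cover {X : Sh J} {ι : Type u} {F : ι → Sh J} (m : ∀ i, F i ⟶ X)
    (hm : JEpi m) (hinj : ∀ i (U : C), Function.Injective (ap (m i) : Sec (F i) U → Sec X U))
    (hdisj : ∀ i j, i ≠ j → ∀ (U : C) (a : Sec (F i) U) (b : Sec (F j) U),
      ap (m i) a = ap (m j) b → ⊥ ∈ J U)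
    (hX : IsQC X) (i : ι) : IsQC (F i) := by
  classical
  rw [isQC_iff]
  intro κ G ρ hρ
  -- the family on `X`: `ρ k ≫ m i` and `m j` for `j ≠ i`
  let H : κ ⊕ {j : ι // j ≠ i} → Sh J := Sum.elim G (fun j => F j.1)
  let σ : ∀ t, H t ⟶ X := fun t =>
    match t with
    | Sum.inl k => ρ k ≫ m i
    | Sum.inr j => m j.1
  have hσ : JEpi σ := by
    refine hm.trans σ (fun j V y => ?_)
    by_cases hj : j = i
    · subst hj
      refine J.superset_covering ?_ (hρ V y)
      rintro W g ⟨k, z, hz⟩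
      exact ⟨Sum.inl k, z, by
        change ap (ρ k ≫ m j) z = _
        rw [ap_comp, hz, ap_res]⟩
    · have h := liftSieve_ap_mem_top σ (Sum.inr ⟨j, hj⟩) (y : Sec (H (Sum.inr ⟨j, hj⟩)) V)
      rw [show liftSieve σ (ap (m j) y) = ⊤ from h]
      exact J.top_mem V
  obtain ⟨t, ht⟩ := IsQC.exists_finset hX σ hσ
  refine ⟨t.preimage Sum.inl (Sum.inl_injective.injOn), ?_⟩
  intro U a
  refine J.transitive (ht U (ap (m i) a)) _ ?_
  rintro V f ⟨⟨s, hs⟩, y, hy⟩
  rw [← liftSieve_res]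
  match s, hs, y, hy with
  | Sum.inl k, hs, y, hy =>
    have hy' : ap (ρ k) y = res (F i) f a := by
      apply hinj i V
      rw [ap_res, ← hy]
      rfl
    rw [← hy']
    have hk : k ∈ t.preimage Sum.inl (Sum.inl_injective.injOn) := by
      simpa using hs
    rw [liftSieve_ap_mem_top (fun k : ↥(t.preimage Sum.inl (Sum.inl_injective.injOn)) => ρ k)
      ⟨k, hk⟩ y]
    exact J.top_mem V
  | Sum.inr j, hs, y, hy =>
    have : ⊥ ∈ J V := by
      refine hdisj j.1 i j.2 V y (res (F i) f a) ?_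
      rw [ap_res, ← hy]
      rfl
    exact J.superset_covering bot_le this

end Groth.Agent.Lib.Helper6.TF
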