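import Groth.Agent.Lib.Helper6TF3

set_option autoImplicit false

namespace Groth.Agent.Lib.Helper6.TF

open CategoryTheory Limits Opposite ToposFin

universe u w w'

variable {C : Type u} [SmallCategory C] {J : GrothendieckTopology C}

/-! ### sections of chosen pullbacks -/

section

variable {X Y Z : Sh J} (f : X ⟶ Z) (g : Y ⟶ Z)

lemma pullback_pbSec : PbSec (pullback.fst f g) (pullback.snd f g) f g :=
  pbSec_of_isPullback (IsPullback.of_hasPullback f g)

lemma pullback_sec_ext {U : C} {p q : Sec (pullback f g) U}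
    (h1 : ap (pullback.fst f g) p = ap (pullback.fst f g) q)
    (h2 : ap (pullback.snd f g) p = ap (pullback.snd f g) q) : p = q :=
  (pullback_pbSec f g).ext U p q h1 h2

lemma pullback_sec_ex {U : C} (a : Sec X U) (b : Sec Y U) (h : ap f a = ap g b) :
    ∃ p : Sec (pullback f g) U, ap (pullback.fst f g) p = a ∧ ap (pullback.snd f g) p = b :=
  (pullback_pbSec f g).ex U a b h

lemma pullback_sec_condition {U : C} (p : Sec (pullback f g) U) :
    ap f (ap (pullback.fst f g) p) = ap g (ap (pullback.snd f g) p) := by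
  rw [← ap_comp, ← ap_comp, pullback.condition]

end

lemma PbSec.condition {P X Y Z : Sh J} {fst : P ⟶ X} {snd : P ⟶ Y} {f : X ⟶ Z} {g : Y ⟶ Z}
    (h : PbSec fst snd f g) {U : C} (p : Sec P U) : ap f (ap fst p) = ap g (ap snd p) := by
  rw [← ap_comp, ← ap_comp, h.w]

/-! ### quasi-compact morphisms -/

lemma isQCHom_iff {X Y : Sh J} (f : X ⟶ Y) : IsQCHom f ↔
    ∀ {P Y' : Sh J} (fst : P ⟶ X) (snd : P ⟶ Y') (g : Y' ⟶ Y), IsPullback fst snd f g →
      IsQC Y' → IsQC P := by
  constructor
  · intro h P Y' fst snd g hpb hY'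
    exact isQC_of_iso hpb.isoPullback.symm (h Y' g hY')
  · intro h Y' g hY'
    exact h _ _ g (IsPullback.of_hasPullback f g) hY'

lemma IsQCHom.isQC {X Y : Sh J} {f : X ⟶ Y} (hf : IsQCHom f) {P Y' : Sh J} {fst : P ⟶ X}
    {snd : P ⟶ Y'} {g : Y' ⟶ Y} (h : PbSec fst snd f g) (hY' : IsQC Y') : IsQC P :=
  (isQCHom_iff f).1 hf fst snd g h.isPullback hY'

lemma isQCHom_of_pbSec {X Y : Sh J} (f : X ⟶ Y)
    (h : ∀ {P Y' : Sh J} (fst : P ⟶ X) (snd : P ⟶ Y') (g : Y' ⟶ Y), PbSec fst snd f g →
      IsQC Y' → IsQC P) : IsQCHom f :=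
  (isQCHom_iff f).2 (fun fst snd g hpb hY' => h fst snd g (pbSec_of_isPullback hpb) hY')

/-- Sectionwise equalizer. -/
structure EqSec {E T X : Sh J} (e : E ⟶ T) (a b : T ⟶ X) : Prop where
  w : e ≫ a = e ≫ b
  inj : ∀ U : C, Function.Injective (ap e : Sec E U → Sec T U)
  ex : ∀ (U : C) (t : Sec T U), ap a t = ap b t → ∃ x : Sec E U, ap e x = t

lemma equalizer_eqSec {T X : Sh J} (a b : T ⟶ X) : EqSec (equalizer.ι a b) a b where
  w := equalizer.condition a b
  inj U := ap_injective_of_mono _ U
  ex U t ht := by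
    -- compare with the pullback of the diagonal-free description: use the lift from the image
    let π : ∀ _ : PUnit.{1}, equalizer a b ⟶ T := fun _ => equalizer.ι a b
    -- the subsheaf of `T` where `a = b`
    let G : Subfunctor T.obj :=
      { obj := fun V => {s | a.hom.app V s = b.hom.app V s}
        map := by
          intro V W g s hs
          change a.hom.app W (T.obj.map g s) = b.hom.app W (T.obj.map g s)
          rw [NatTrans.naturality_apply a.hom g s, NatTrans.naturality_apply b.hom g s]
          exact congrArg _ hs }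
    have hG : Presieve.IsSheaf J G.toFunctor := by
      rw [Subfunctor.isSheaf_iff _ ((isSheaf_iff_isSheaf_of_type _ _).1 T.2)]
      intro V s hs
      change a.hom.app V s = b.hom.app V s
      refine sec_ext X (U := V.unop) hs ?_
      intro W g hg
      have hg' : a.hom.app (op W) (T.obj.map g.op s) = b.hom.app (op W) (T.obj.map g.op s) := hg
      rw [NatTrans.naturality_apply a.hom g.op s, NatTrans.naturality_apply b.hom g.op s] at hg'
      exact hg'
    let E : Sh J := ⟨G.toFunctor, (isSheaf_iff_isSheaf_of_type _ _).2 hG⟩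
    let i : E ⟶ T := ⟨G.ι⟩
    have hi : i ≫ a = i ≫ b := by
      apply hom_ext_sec
      intro V s
      exact s.2
    have h1 : ap (equalizer.lift i hi ≫ equalizer.ι a b) (⟨t, ht⟩ : Sec E U) = t := by
      rw [equalizer.lift_ι]
      rfl
    exact ⟨ap (equalizer.lift i hi) (⟨t, ht⟩ : Sec E U), h1⟩

lemma isQSHom_iff {X Y : Sh J} (f : X ⟶ Y) : IsQSHom f ↔
    ∀ {E T : Sh J} (e : E ⟶ T) (a b : T ⟶ X), a ≫ f = b ≫ f → EqSec e a b → IsQC T → IsQC E := by
  constructor
  · intro h E T e a b hab he hT
    have hD : IsQCHom (pullback.diagonal f) := h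
    refine IsQCHom.isQC hD (fst := e ≫ a) (snd := e) (g := pullback.lift a b hab) ?_ hT
    refine ⟨?_, ?_, ?_⟩
    · apply pullback.hom_ext
      · rw [Category.assoc, Category.assoc, pullback.diagonal_fst, Category.assoc, pullback.lift_fst,
          Category.comp_id]
      · rw [Category.assoc, Category.assoc, pullback.diagonal_snd, Category.assoc, pullback.lift_snd,
          Category.comp_id, he.w]
    · intro U p q _ h2
      exact he.inj U h2
    · intro U x t hxt
      have h1 : x = ap a t := by
        have := congrArg (ap (pullback.fst f f)) hxt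
        rwa [← ap_comp, ← ap_comp, pullback.diagonal_fst, pullback.lift_fst] at this
      have h2 : x = ap b t := by
        have := congrArg (ap (pullback.snd f f)) hxt
        rwa [← ap_comp, ← ap_comp, pullback.diagonal_snd, pullback.lift_snd] at this
      obtain ⟨p, hp⟩ := he.ex U t (h1.symm.trans h2)
      exact ⟨p, by rw [ap_comp, hp, h1], hp⟩
  · intro h
    change IsQCHom (pullback.diagonal f)
    apply isQCHom_of_pbSec
    intro P T fst' snd' g hpb hT
    refine h snd' (g ≫ pullback.fst f f) (g ≫ pullback.snd f f) ?_ ?_ hT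
    · simp [pullback.condition]
    · have w1 : snd' ≫ g ≫ pullback.fst f f = fst' := by
        rw [← Category.assoc, ← hpb.w]; simp
      have w2 : snd' ≫ g ≫ pullback.snd f f = fst' := by
        rw [← Category.assoc, ← hpb.w]; simp
      refine ⟨by rw [w1, w2], ?_, ?_⟩
      · intro U p q hpq
        refine hpb.ext U p q ?_ hpq
        rw [← w1, ap_comp, ap_comp, hpq]
        rfl
      · intro U t ht
        refine (hpb.ex U (ap (g ≫ pullback.fst f f) t) t ?_).imp (fun p hp => hp.2)
        apply pullback_sec_ext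
        · rw [← ap_comp, pullback.diagonal_fst]; rfl
        · rw [← ap_comp, pullback.diagonal_snd, ← ap_comp]; exact ht

lemma isQS_iff (X : Sh J) : IsQS X ↔
    ∀ {P A B : Sh J} (fst : P ⟶ A) (snd : P ⟶ B) (a : A ⟶ X) (b : B ⟶ X), PbSec fst snd a b →
      IsQC A → IsQC B → IsQC P := by
  constructor
  · intro h P A B fst snd a b hpb hA hB
    exact isQC_of_iso hpb.isPullback.isoPullback.symm (h A B a b hA hB)
  · intro h A B a b hA hB
    exact h _ _ a b (pullback_pbSec a b) hA hB

end Groth.Agent.Lib.Helper6.TF
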