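import Groth.Agent.Lib.Helper6TF4

set_option autoImplicit false

namespace Groth.Agent.Lib.Helper6.TF

open CategoryTheory Limits Opposite ToposFin

universe u w w'

variable {C : Type u} [SmallCategory C] {J : GrothendieckTopology C}

/-! ### pasting of sectionwise pullbacks -/

section Paste

variable {R P X Y Y' T : Sh J} {fst : P ⟶ X} {snd : P ⟶ Y'} {f : X ⟶ Y} {g : Y' ⟶ Y}
  {r1 : R ⟶ P} {r2 : R ⟶ T} {t : T ⟶ Y'}

lemma PbSec.flip (h : PbSec fst snd f g) : PbSec snd fst g f where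
  w := h.w.symm
  ext U p q h1 h2 := h.ext U p q h2 h1
  ex U a b hab := by
    obtain ⟨p, hp1, hp2⟩ := h.ex U b a hab.symm
    exact ⟨p, hp2, hp1⟩

lemma PbSec.paste (h1 : PbSec r1 r2 snd t) (h2 : PbSec fst snd f g) :
    PbSec (r1 ≫ fst) r2 f (t ≫ g) where
  w := by rw [Category.assoc, h2.w, ← Category.assoc, h1.w, Category.assoc]
  ext U p q hp hq := by
    refine h1.ext U p q (h2.ext U _ _ hp ?_) hq
    rw [← ap_comp, ← ap_comp, h1.w, ap_comp, ap_comp, hq]
  ex U a b hab := by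
    obtain ⟨p, hp1, hp2⟩ := h2.ex U a (ap t b) hab
    obtain ⟨r, hr1, hr2⟩ := h1.ex U p b hp2
    exact ⟨r, by rw [ap_comp, hr1, hp1], hr2⟩

lemma PbSec.of_paste (h12 : PbSec (r1 ≫ fst) r2 f (t ≫ g)) (h2 : PbSec fst snd f g)
    (w : r1 ≫ snd = r2 ≫ t) : PbSec r1 r2 snd t where
  w := w
  ext U p q hp hq := h12.ext U p q (by rw [ap_comp, ap_comp, hp]) hq
  ex U a b hab := by
    obtain ⟨r, hr1, hr2⟩ := h12.ex U (ap fst a) b (by
      rw [ap_comp, ← hab]; exact h2.condition a)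
    refine ⟨r, h2.ext U _ _ hr1 ?_, hr2⟩
    rw [← ap_comp, w, ap_comp, hr2, hab]

end Paste

lemma isIso_of_bijective_sec {X Y : Sh J} (f : X ⟶ Y)
    (h : ∀ U : C, Function.Bijective (ap f : Sec X U → Sec Y U)) : IsIso f := by
  have : Mono f := mono_of_ap_injective f (fun U => (h U).1)
  have : Epi f := by
    apply epi_of_jepi_single.{u, 0}
    intro U y
    obtain ⟨x, hx⟩ := (h U).2 y
    rw [← hx, liftSieve_ap_mem_top (fun _ : PUnit.{1} => f) PUnit.unit x]
    exact J.top_mem U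
  exact isIso_of_mono_of_epi f

/-! ### quasi-compact morphisms: formal properties -/

lemma isQCHom_of_isIso {X Y : Sh J} (f : X ⟶ Y) [IsIso f] : IsQCHom f := by
  apply isQCHom_of_pbSec
  intro P T fst snd g hpb hT
  have : IsIso snd := by
    apply isIso_of_bijective_sec
    intro U
    constructor
    · intro p q hpq
      refine hpb.ext U p q ?_ hpq
      have h1 := hpb.condition p
      have h2 := hpb.condition q
      rw [hpq, ← h2] at h1
      have hinj := ap_injective_of_mono f U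
      exact hinj h1
    · intro τ
      obtain ⟨p, -, hp⟩ := hpb.ex U (ap (inv f) (ap g τ)) τ (by
        rw [← ap_comp, IsIso.inv_hom_id]; rfl)
      exact ⟨p, hp⟩
  exact isQC_of_iso (asIso snd).symm hT

lemma IsQCHom.comp {X Y Z : Sh J} {f : X ⟶ Y} {g : Y ⟶ Z} (hf : IsQCHom f) (hg : IsQCHom g) :
    IsQCHom (f ≫ g) := by
  apply isQCHom_of_pbSec
  intro P T fst snd t hpb hT
  have hQ : IsQC (pullback g t) := IsQCHom.isQC hg (pullback_pbSec g t) hT
  let l : P ⟶ pullback g t := pullback.lift (fst ≫ f) snd (by rw [Category.assoc, hpb.w])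
  have hl1 : l ≫ pullback.fst g t = fst ≫ f := pullback.lift_fst _ _ _
  have hl2 : l ≫ pullback.snd g t = snd := pullback.lift_snd _ _ _
  have h2 : PbSec (l ≫ pullback.snd g t) fst t (f ≫ g) := by
    rw [hl2]; exact hpb.flip
  have := (PbSec.of_paste (r1 := l) (r2 := fst) (fst := pullback.snd g t) (snd := pullback.fst g t)
    (f := t) (g := g) (t := f) h2 (pullback_pbSec g t).flip hl1)
  exact IsQCHom.isQC hf this.flip hQ

lemma IsQCHom.base_change {P X Y Y' : Sh J} {fst : P ⟶ X} {snd : P ⟶ Y'} {f : X ⟶ Y} {g : Y' ⟶ Y}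
    (hpb : PbSec fst snd f g) (hf : IsQCHom f) : IsQCHom snd := by
  apply isQCHom_of_pbSec
  intro R T r1 r2 t h1 hT
  exact IsQCHom.isQC hf (h1.paste hpb) hT

lemma isQCHom_of_comp_mono {X Y Y' : Sh J} (h : X ⟶ Y) (j : Y ⟶ Y') [Mono j]
    (hj : IsQCHom (h ≫ j)) : IsQCHom h := by
  apply isQCHom_of_pbSec
  intro P T fst snd t hpb hT
  refine IsQCHom.isQC hj (fst := fst) (snd := snd) (g := t ≫ j) ⟨?_, hpb.ext, ?_⟩ hT
  · rw [← Category.assoc, hpb.w, Category.assoc]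
  · intro U a b hab
    refine hpb.ex U a b (ap_injective_of_mono j U ?_)
    exact hab

lemma isQCHom_of_isQC_of_isQS {X Y : Sh J} (f : X ⟶ Y) (hX : IsQC X) (hY : IsQS Y) : IsQCHom f := by
  apply isQCHom_of_pbSec
  intro P T fst snd t hpb hT
  exact (isQS_iff Y).1 hY fst snd f t hpb hX hT

lemma IsQCHom.isQC_source {X Y : Sh J} {f : X ⟶ Y} (hf : IsQCHom f) (hY : IsQC Y) : IsQC X := by
  refine IsQCHom.isQC hf (fst := 𝟙 X) (snd := f) (g := 𝟙 Y) ⟨by simp, ?_, ?_⟩ hY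
  · intro U p q h _; exact h
  · intro U a b hab; exact ⟨a, rfl, hab⟩

/-! ### quasi-separated morphisms: formal properties -/

lemma isQSHom_of_mono {X Y : Sh J} (f : X ⟶ Y) [Mono f] : IsQSHom f := by
  rw [isQSHom_iff]
  intro E T e a b hab he hT
  have hab' : a = b := (cancel_mono f).1 hab
  have : IsIso e := by
    apply isIso_of_bijective_sec
    intro U
    exact ⟨he.inj U, fun t => he.ex U t (by rw [hab'])⟩
  exact isQC_of_iso (asIso e).symm hT

lemma isQSHom_of_comp {X Y Z : Sh J} (f : X ⟶ Y) (g : Y ⟶ Z) (h : IsQSHom (f ≫ g)) : IsQSHom f := by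
  rw [isQSHom_iff] at h ⊢
  intro E T e a b hab he hT
  exact h e a b (by rw [← Category.assoc, hab, Category.assoc]) he hT

lemma IsQSHom.comp {X Y Z : Sh J} {f : X ⟶ Y} {g : Y ⟶ Z} (hf : IsQSHom f) (hg : IsQSHom g) :
    IsQSHom (f ≫ g) := by
  rw [isQSHom_iff] at hf hg ⊢
  intro E T e a b hab he hT
  -- first the equalizer of `a ≫ f` and `b ≫ f`
  have hE' : IsQC (equalizer (a ≫ f) (b ≫ f)) :=
    hg (equalizer.ι (a ≫ f) (b ≫ f)) (a ≫ f) (b ≫ f) (by simpa using hab) (equalizer_eqSec _ _) hT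
  let ι' := equalizer.ι (a ≫ f) (b ≫ f)
  have hι' : ι' ≫ a ≫ f = ι' ≫ b ≫ f := equalizer.condition _ _
  let l : E ⟶ equalizer (a ≫ f) (b ≫ f) := equalizer.lift e (by
    rw [← Category.assoc, he.w, Category.assoc])
  have hl : l ≫ ι' = e := equalizer.lift_ι _ _
  refine hf l (ι' ≫ a) (ι' ≫ b) (by simpa using hι') ⟨?_, ?_, ?_⟩ hE'
  · rw [← Category.assoc, ← Category.assoc, hl, he.w]
  · intro U p q hpq
    apply he.inj U
    rw [← hl, ap_comp, ap_comp, hpq]
  · intro U t ht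
    obtain ⟨x, hx⟩ := he.ex U (ap ι' t) ht
    refine ⟨x, ap_injective_of_mono ι' U ?_⟩
    rw [← ap_comp, hl, hx]

lemma IsQSHom.base_change {P X Y Y' : Sh J} {fst : P ⟶ X} {snd : P ⟶ Y'} {f : X ⟶ Y} {g : Y' ⟶ Y}
    (hpb : PbSec fst snd f g) (hf : IsQSHom f) : IsQSHom snd := by
  rw [isQSHom_iff] at hf ⊢
  intro E T e a b hab he hT
  refine hf e (a ≫ fst) (b ≫ fst) ?_ ⟨?_, he.inj, ?_⟩ hT
  · rw [Category.assoc, Category.assoc, hpb.w, ← Category.assoc, hab, Category.assoc]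
  · rw [← Category.assoc, he.w, Category.assoc]
  · intro U t ht
    refine he.ex U t (hpb.ext U _ _ ht ?_)
    rw [← ap_comp, ← ap_comp, hab]

/-- A quasi-separated morphism to a quasi-separated object has quasi-separated source. -/
lemma isQS_of_isQSHom {X Y : Sh J} (f : X ⟶ Y) (hf : IsQSHom f) (hY : IsQS Y) : IsQS X := by
  rw [isQSHom_iff] at hf
  rw [isQS_iff]
  intro P A B fst snd a b hpb hA hB
  have hT : IsQC (pullback (a ≫ f) (b ≫ f)) := hY A B _ _ hA hB
  let l : P ⟶ pullback (a ≫ f) (b ≫ f) := pullback.lift fst snd (by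
    rw [← Category.assoc, hpb.w, Category.assoc])
  have hl1 : l ≫ pullback.fst _ _ = fst := pullback.lift_fst _ _ _
  have hl2 : l ≫ pullback.snd _ _ = snd := pullback.lift_snd _ _ _
  refine hf l (pullback.fst _ _ ≫ a) (pullback.snd _ _ ≫ b) ?_ ⟨?_, ?_, ?_⟩ hT
  · simpa using pullback.condition
  · rw [← Category.assoc, ← Category.assoc, hl1, hl2, hpb.w]
  · intro U p q hpq
    refine hpb.ext U p q ?_ ?_
    · rw [← hl1, ap_comp, ap_comp, hpq]
    · rw [← hl2, ap_comp, ap_comp, hpq]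
  · intro U t ht
    obtain ⟨p, hp1, hp2⟩ := hpb.ex U (ap (pullback.fst _ _) t) (ap (pullback.snd _ _) t) ht
    refine ⟨p, pullback_sec_ext _ _ ?_ ?_⟩
    · rw [← ap_comp, hl1, hp1]
    · rw [← ap_comp, hl2, hp2]

/-- If `g` is quasi-separated and `f ≫ g` is quasi-compact then `f` is quasi-compact. -/
lemma isQCHom_of_comp_of_isQSHom {X Y Z : Sh J} (f : X ⟶ Y) (g : Y ⟶ Z) (hg : IsQSHom g)
    (hfg : IsQCHom (f ≫ g)) : IsQCHom f := by
  rw [isQSHom_iff] at hg
  apply isQCHom_of_pbSec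
  intro P T fst snd t hpb hT
  have hQ : IsQC (pullback (f ≫ g) (t ≫ g)) := IsQCHom.isQC hfg (pullback_pbSec _ _) hT
  let l : P ⟶ pullback (f ≫ g) (t ≫ g) := pullback.lift fst snd (by
    rw [← Category.assoc, hpb.w, Category.assoc])
  have hl1 : l ≫ pullback.fst _ _ = fst := pullback.lift_fst _ _ _
  have hl2 : l ≫ pullback.snd _ _ = snd := pullback.lift_snd _ _ _
  refine hg l (pullback.fst _ _ ≫ f) (pullback.snd _ _ ≫ t) ?_ ⟨?_, ?_, ?_⟩ hQ
  · simpa using pullback.condition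
  · rw [← Category.assoc, ← Category.assoc, hl1, hl2, hpb.w]
  · intro U p q hpq
    refine hpb.ext U p q ?_ ?_
    · rw [← hl1, ap_comp, ap_comp, hpq]
    · rw [← hl2, ap_comp, ap_comp, hpq]
  · intro U τ hτ
    obtain ⟨p, hp1, hp2⟩ := hpb.ex U (ap (pullback.fst _ _) τ) (ap (pullback.snd _ _) τ) hτ
    refine ⟨p, pullback_sec_ext _ _ ?_ ?_⟩
    · rw [← ap_comp, hl1, hp1]
    · rw [← ap_comp, hl2, hp2]

end Groth.Agent.Lib.Helper6.TF
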