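import Groth.Agent.Lib.Helper6TF5

set_option autoImplicit false

namespace Groth.Agent.Lib.Helper6.TF

open CategoryTheory Limits Opposite ToposFin

universe u w w'

variable {C : Type u} [SmallCategory C] {J : GrothendieckTopology C}

/-! ### generators -/

/-- Every object is covered by objects satisfying `P`. -/
def Gen (P : Sh J → Prop) : Prop :=
  ∀ X : Sh J, ∃ (ι : Type u) (F : ι → Sh J) (π : ∀ i, F i ⟶ X), (∀ i, P (F i)) ∧ JEpi π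

lemma Gen.mono {P Q : Sh J → Prop} (h : Gen P) (hPQ : ∀ K, P K → Q K) : Gen Q := by
  intro X
  obtain ⟨ι, F, π, hF, hπ⟩ := h X
  exact ⟨ι, F, π, fun i => hPQ _ (hF i), hπ⟩

lemma gen_of_hasQCGenerators (h : HasQCGenerators J) : Gen (fun K : Sh J => IsQC K) := by
  intro X
  obtain ⟨ι, F, π, hF, hπ⟩ := h X
  exact ⟨ι, F, π, hF, (jepi_iff_epi_desc π).2 hπ⟩

lemma gen_of_hasCoherentGenerators (h : HasCoherentGenerators J) :
    Gen (fun K : Sh J => IsCoherent K) := by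
  intro X
  obtain ⟨ι, F, π, hF, hπ⟩ := h X
  exact ⟨ι, F, π, hF, (jepi_iff_epi_desc π).2 hπ⟩

lemma gen_of_isGenerating {S : Set (Sh J)} (h : IsGenerating S) : Gen (fun K : Sh J => K ∈ S) := by
  intro X
  obtain ⟨ι, F, π, hF, hπ⟩ := h X
  exact ⟨ι, F, π, hF, (jepi_iff_jsep π).2 hπ⟩

lemma gen_of_family {α : Type u} (G : α → Sh J)
    (hgen : ∀ X : Sh J, ∃ (ι : Type u) (a : ι → α) (π : ∀ i, G (a i) ⟶ X), Epi (Sigma.desc π)) :
    Gen (fun K : Sh J => ∃ a, K = G a) := by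
  intro X
  obtain ⟨ι, a, π, hπ⟩ := hgen X
  exact ⟨ι, fun i => G (a i), π, fun i => ⟨a i, rfl⟩, (jepi_iff_epi_desc π).2 hπ⟩

/-- A quasi-compact object has a finite cover by generators refining any given cover. -/
lemma IsQC.exists_finite_refinement {P : Sh J → Prop} (hgen : Gen P) {X : Sh J} (hX : IsQC X)
    {ι : Type u} {Y : ι → Sh J} (g : ∀ i, Y i ⟶ X) (hg : JEpi g) :
    ∃ (κ : Type u) (_ : Finite κ) (F : κ → Sh J) (π : ∀ k, F k ⟶ X) (i : κ → ι)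
      (φ : ∀ k, F k ⟶ Y (i k)), (∀ k, P (F k)) ∧ JEpi π ∧ ∀ k, φ k ≫ g (i k) = π k := by
  choose ιi Fi πi hFi hπi using fun i => hgen (Y i)
  have h1 : JEpi (fun p : Σ i, ιi i => πi p.1 p.2 ≫ g p.1) := hg.comp πi hπi
  obtain ⟨s, hs⟩ := IsQC.exists_finset hX _ h1
  exact ⟨↥s, inferInstance, fun k => Fi k.1.1 k.1.2, fun k => πi k.1.1 k.1.2 ≫ g k.1.1,
    fun k => k.1.1, fun k => πi k.1.1 k.1.2, fun k => hFi _ _, hs, fun k => rfl⟩

lemma IsQC.exists_finite_gen_cover {P : Sh J → Prop} (hgen : Gen P) {X : Sh J} (hX : IsQC X) :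
    ∃ (κ : Type u) (_ : Finite κ) (F : κ → Sh J) (π : ∀ k, F k ⟶ X), (∀ k, P (F k)) ∧ JEpi π := by
  obtain ⟨ι, F, π, hF, hπ⟩ := hgen X
  obtain ⟨s, hs⟩ := IsQC.exists_finset hX π hπ
  exact ⟨↥s, inferInstance, fun k => F k, fun k => π k, fun k => hF k, hs⟩

/-! ### covers of fibre products -/

section Cover

variable {P A B X : Sh J} {fst : P ⟶ A} {snd : P ⟶ B} {a : A ⟶ X} {b : B ⟶ X}
  {I : Type w} {I' : Type w'} {A' : I → Sh J} {B' : I' → Sh J}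

lemma jepi_pbSec_cover (hpb : PbSec fst snd a b)
    (α : ∀ i, A' i ⟶ A) (β : ∀ j, B' j ⟶ B) (hα : JEpi α) (hβ : JEpi β)
    {Q : I × I' → Sh J} (q1 : ∀ p, Q p ⟶ A' p.1) (q2 : ∀ p, Q p ⟶ B' p.2)
    (hQ : ∀ p, PbSec (q1 p) (q2 p) (α p.1 ≫ a) (β p.2 ≫ b))
    (m : ∀ p, Q p ⟶ P) (hm1 : ∀ p, m p ≫ fst = q1 p ≫ α p.1)
    (hm2 : ∀ p, m p ≫ snd = q2 p ≫ β p.2) : JEpi m := by
  intro U x
  refine J.superset_covering ?_
    (J.intersection_covering (hα U (ap fst x)) (hβ U (ap snd x)))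
  rintro V f ⟨⟨i, z, hz⟩, ⟨j, w, hw⟩⟩
  obtain ⟨q, hq1, hq2⟩ := (hQ (i, j)).ex V z w (by
    rw [ap_comp, ap_comp, hz, hw, ← ap_res, ← ap_res]
    exact hpb.condition _)
  refine ⟨(i, j), q, hpb.ext V _ _ ?_ ?_⟩
  · rw [← ap_comp, hm1, ap_comp, hq1, hz, ap_res]
  · rw [← ap_comp, hm2, ap_comp, hq2, hw, ap_res]

/-- A fibre product is quasi-compact if it is covered by finitely many quasi-compact fibre
products. -/
lemma isQC_of_pbSec_cover [Finite I] [Finite I'] (hpb : PbSec fst snd a b)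
    (α : ∀ i, A' i ⟶ A) (β : ∀ j, B' j ⟶ B) (hα : JEpi α) (hβ : JEpi β)
    (h : ∀ i j, ∃ (Q : Sh J) (q1 : Q ⟶ A' i) (q2 : Q ⟶ B' j),
      PbSec q1 q2 (α i ≫ a) (β j ≫ b) ∧ IsQC Q) : IsQC P := by
  choose Q q1 q2 hQ hQqc using h
  let m : ∀ p : I × I', Q p.1 p.2 ⟶ P := fun p =>
    hpb.isPullback.lift (q1 p.1 p.2 ≫ α p.1) (q2 p.1 p.2 ≫ β p.2) (by
      simpa using (hQ p.1 p.2).w)
  have hm := jepi_pbSec_cover hpb α β hα hβ (Q := fun p => Q p.1 p.2)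
    (fun p => q1 p.1 p.2) (fun p => q2 p.1 p.2) (fun p => hQ p.1 p.2) m
    (fun p => hpb.isPullback.lift_fst _ _ _) (fun p => hpb.isPullback.lift_snd _ _ _)
  exact isQC_of_jepi_finite _ m hm (fun p => hQqc p.1 p.2)

lemma jepi_id (A : Sh J) : JEpi (fun _ : PUnit.{1} => 𝟙 A) := jepi_of_epi (𝟙 A)

lemma isQC_of_pbSec_cover_right [Finite I'] (hpb : PbSec fst snd a b)
    (β : ∀ j, B' j ⟶ B) (hβ : JEpi β)
    (h : ∀ j, ∃ (Q : Sh J) (q1 : Q ⟶ A) (q2 : Q ⟶ B' j), PbSec q1 q2 a (β j ≫ b) ∧ IsQC Q) :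
    IsQC P := by
  refine isQC_of_pbSec_cover hpb (fun _ : PUnit.{1} => 𝟙 A) β (jepi_id A) hβ (fun _ j => ?_)
  obtain ⟨Q, q1, q2, hQ, hQqc⟩ := h j
  exact ⟨Q, q1, q2, by rw [Category.id_comp]; exact hQ, hQqc⟩

lemma isQC_of_pbSec_cover_left [Finite I] (hpb : PbSec fst snd a b)
    (α : ∀ i, A' i ⟶ A) (hα : JEpi α)
    (h : ∀ i, ∃ (Q : Sh J) (q1 : Q ⟶ A' i) (q2 : Q ⟶ B), PbSec q1 q2 (α i ≫ a) b ∧ IsQC Q) :
    IsQC P := by
  refine isQC_of_pbSec_cover hpb α (fun _ : PUnit.{1} => 𝟙 B) hα (jepi_id B) (fun i _ => ?_)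
  obtain ⟨Q, q1, q2, hQ, hQqc⟩ := h i
  exact ⟨Q, q1, q2, by rw [Category.id_comp]; exact hQ, hQqc⟩

end Cover

/-! ### locality on the target -/

/-- A morphism is quasi-compact if its pullbacks to generators are quasi-compact objects. -/
lemma isQCHom_of_gen {P : Sh J → Prop} (hgen : Gen P) {X Y : Sh J} (f : X ⟶ Y)
    (h : ∀ (K : Sh J) (s : K ⟶ Y), P K → IsQC (pullback f s)) : IsQCHom f := by
  apply isQCHom_of_pbSec
  intro Q T fst snd t hpb hT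
  obtain ⟨κ, hκ, F, π, hF, hπ⟩ := IsQC.exists_finite_gen_cover hgen hT
  refine isQC_of_pbSec_cover_right hpb π hπ (fun k => ?_)
  exact ⟨_, _, _, pullback_pbSec f (π k ≫ t), h _ _ (hF k)⟩

/-- Quasi-compactness of a morphism is local on the target. -/
lemma isQCHom_of_local_target {P : Sh J → Prop} (hgen : Gen P) (hP : ∀ K, P K → IsQC K)
    {X Y : Sh J} (f : X ⟶ Y) {ι : Type u} {Yi : ι → Sh J} (g : ∀ i, Yi i ⟶ Y) (hg : JEpi g)
    {Xi : ι → Sh J} (p1 : ∀ i, Xi i ⟶ X) (p2 : ∀ i, Xi i ⟶ Yi i)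
    (hpb : ∀ i, PbSec (p1 i) (p2 i) f (g i)) (h : ∀ i, IsQCHom (p2 i)) : IsQCHom f := by
  apply isQCHom_of_pbSec
  intro Q T fst snd t hQ hT
  have hτ : JEpi (fun i => pullback.snd (g i) t) :=
    hg.pullback t (fun i => pullback.fst (g i) t) (fun i => pullback.snd (g i) t)
      (fun i => IsPullback.of_hasPullback _ _)
  obtain ⟨κ, hκ, F, π, i, φ, hF, hπ, hφ⟩ := IsQC.exists_finite_refinement hgen hT _ hτ
  refine isQC_of_pbSec_cover_right hQ π hπ (fun k => ?_)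
  let ψ : F k ⟶ Yi (i k) := φ k ≫ pullback.fst (g (i k)) t
  have hψ : π k ≫ t = ψ ≫ g (i k) := by
    rw [← hφ k, Category.assoc, ← pullback.condition, Category.assoc]
  refine ⟨pullback (p2 (i k)) ψ, pullback.fst _ _ ≫ p1 (i k), pullback.snd _ _, ?_, ?_⟩
  · rw [hψ]
    exact (pullback_pbSec (p2 (i k)) ψ).paste (hpb (i k))
  · exact IsQCHom.isQC (h (i k)) (pullback_pbSec _ _) (hP _ (hF k))

end Groth.Agent.Lib.Helper6.TF
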