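import Groth.Agent.Lib.Helper6TF6

set_option autoImplicit false

namespace Groth.Agent.Lib.Helper6.TF

open CategoryTheory Limits Opposite ToposFin

universe u w w'

variable {C : Type u} [SmallCategory C] {J : GrothendieckTopology C}

/-! ### a local criterion for quasi-separated morphisms -/

/-- The sieve of arrows along which a pair of sections lifts to a member of a family of pairs. -/
def pairSieve {X : Sh J} {Λ : Type w} {W : Λ → Sh J} (u v : ∀ l, W l ⟶ X) {U : C}
    (x1 x2 : Sec X U) : Sieve U where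
  arrows V g := ∃ (l : Λ) (z : Sec (W l) V), ap (u l) z = res X g x1 ∧ ap (v l) z = res X g x2
  downward_closed := by
    rintro V V' g ⟨l, z, h1, h2⟩ g'
    exact ⟨l, res (W l) g' z, by rw [ap_res, h1, res_res], by rw [ap_res, h2, res_res]⟩

lemma isQSHom_of_local {P : Sh J → Prop} (hgen : Gen P) (hP : ∀ K, P K → IsQC K)
    {X Y : Sh J} (f : X ⟶ Y) {Λ : Type u} {W : Λ → Sh J} (u v : ∀ l, W l ⟶ X)
    (hcov : ∀ (U : C) (x1 x2 : Sec X U), ap f x1 = ap f x2 → pairSieve u v x1 x2 ∈ J U)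
    (h : ∀ (l : Λ) {E' T' : Sh J} (e' : E' ⟶ T') (t' : T' ⟶ W l),
      EqSec e' (t' ≫ u l) (t' ≫ v l) → IsQC T' → IsQC E') : IsQSHom f := by
  rw [isQSHom_iff]
  intro E T e a b hab he hT
  -- the objects `T_l` of triples `(t, w)` with `a t = u w`, `b t = v w`
  obtain ⟨Tl, τ, ω, hτa, hτb, hτ⟩ : ∃ (Tl : Λ → Sh J) (τ : ∀ l, Tl l ⟶ T) (ω : ∀ l, Tl l ⟶ W l),
      (∀ l, τ l ≫ a = ω l ≫ u l) ∧ (∀ l, τ l ≫ b = ω l ≫ v l) ∧ JEpi τ := by
    refine ⟨fun l => equalizer (pullback.fst a (u l) ≫ b) (pullback.snd a (u l) ≫ v l),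
      fun l => equalizer.ι _ _ ≫ pullback.fst a (u l),
      fun l => equalizer.ι _ _ ≫ pullback.snd a (u l), fun l => ?_, fun l => ?_, ?_⟩
    · simp only [Category.assoc, pullback.condition]
    · simp only [Category.assoc]
      exact equalizer.condition _ _
    · intro U t
      have h1 : ap f (ap a t) = ap f (ap b t) := by rw [← ap_comp, ← ap_comp, hab]
      refine J.superset_covering ?_ (hcov U (ap a t) (ap b t) h1)
      rintro V g ⟨l, z, hz1, hz2⟩
      obtain ⟨p, hp1, hp2⟩ := pullback_sec_ex a (u l) (res T g t) z (by rw [ap_res, hz1])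
      obtain ⟨q, hq⟩ := (equalizer_eqSec (pullback.fst a (u l) ≫ b)
        (pullback.snd a (u l) ≫ v l)).ex V p (by rw [ap_comp, ap_comp, hp1, hp2, ap_res, hz2])
      exact ⟨l, q, by rw [ap_comp, hq, hp1]⟩
  obtain ⟨κ, hκ, F, π, l, φ, hF, hπ, hφ⟩ := IsQC.exists_finite_refinement hgen hT τ hτ
  have htriv : PbSec (𝟙 E) e e (𝟙 T) :=
    ⟨by simp, fun U p q h _ => h, fun U x t hxt => ⟨x, rfl, hxt⟩⟩
  refine isQC_of_pbSec_cover_right htriv π hπ (fun k => ?_)
  refine ⟨pullback e (π k), pullback.fst _ _, pullback.snd _ _, ?_, ?_⟩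
  · rw [Category.comp_id]; exact pullback_pbSec _ _
  · refine h (l k) (pullback.snd e (π k)) (φ k ≫ ω (l k)) ⟨?_, ?_, ?_⟩ (hP _ (hF k))
    · calc pullback.snd e (π k) ≫ (φ k ≫ ω (l k)) ≫ u (l k)
          = pullback.snd e (π k) ≫ φ k ≫ (τ (l k) ≫ a) := by rw [hτa]; simp
        _ = (pullback.snd e (π k) ≫ π k) ≫ a := by rw [← hφ k]; simp
        _ = (pullback.snd e (π k) ≫ π k) ≫ b := by
            rw [← pullback.condition, Category.assoc, Category.assoc, he.w]
        _ = pullback.snd e (π k) ≫ φ k ≫ (τ (l k) ≫ b) := by rw [← hφ k]; simp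
        _ = pullback.snd e (π k) ≫ (φ k ≫ ω (l k)) ≫ v (l k) := by rw [hτb]; simp
    · intro U p q hpq
      refine pullback_sec_ext _ _ (he.inj U ?_) hpq
      have h1 := pullback_sec_condition e (π k) p
      have h2 := pullback_sec_condition e (π k) q
      rw [h1, h2, hpq]
    · intro U z hz
      have e1 : ∀ y : Sec (Tl (l k)) U, ap a (ap (τ (l k)) y) = ap (u (l k)) (ap (ω (l k)) y) := by
        intro y; rw [← ap_comp, ← ap_comp, hτa]
      have e2 : ∀ y : Sec (Tl (l k)) U, ap b (ap (τ (l k)) y) = ap (v (l k)) (ap (ω (l k)) y) := by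
        intro y; rw [← ap_comp, ← ap_comp, hτb]
      have hz' : ap a (ap (π k) z) = ap b (ap (π k) z) := by
        rw [← hφ k, ap_comp, e1, e2]
        exact hz
      obtain ⟨x, hx⟩ := he.ex U _ hz'
      obtain ⟨p, -, hp⟩ := pullback_sec_ex e (π k) x z hx
      exact ⟨p, hp⟩

end Groth.Agent.Lib.Helper6.TF

namespace Groth.Agent.Lib.Helper6.TF

open CategoryTheory Limits Opposite ToposFin

universe u w w'

variable {C : Type u} [SmallCategory C] {J : GrothendieckTopology C}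

/-! ### locality on the target, iff forms (S3064) -/

lemma isQCHom_local_iff {P : Sh J → Prop} (hgen : Gen P) (hP : ∀ K, P K → IsQC K)
    {X Y : Sh J} (f : X ⟶ Y) {ι : Type u} {Yi : ι → Sh J} (g : ∀ i, Yi i ⟶ Y) (hg : JEpi g) :
    IsQCHom f ↔ ∀ i, IsQCHom (pullback.snd f (g i)) :=
  ⟨fun h i => IsQCHom.base_change (pullback_pbSec f (g i)) h,
   fun h => isQCHom_of_local_target hgen hP f g hg _ _ (fun i => pullback_pbSec f (g i)) h⟩

lemma isQSHom_local_iff {P : Sh J → Prop} (hgen : Gen P) (hP : ∀ K, P K → IsQC K)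
    {X Y : Sh J} (f : X ⟶ Y) {ι : Type u} {Yi : ι → Sh J} (g : ∀ i, Yi i ⟶ Y) (hg : JEpi g) :
    IsQSHom f ↔ ∀ i, IsQSHom (pullback.snd f (g i)) := by
  refine ⟨fun h i => IsQSHom.base_change (pullback_pbSec f (g i)) h, fun h => ?_⟩
  refine isQSHom_of_local hgen hP f
    (W := fun i => pullback (pullback.snd f (g i)) (pullback.snd f (g i)))
    (fun i => pullback.fst _ _ ≫ pullback.fst f (g i))
    (fun i => pullback.snd _ _ ≫ pullback.fst f (g i)) ?_ ?_
  · intro U x1 x2 hx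
    refine J.superset_covering ?_ (hg U (ap f x1))
    rintro V k ⟨i, z, hz⟩
    obtain ⟨ξ1, h11, h12⟩ := pullback_sec_ex f (g i) (res X k x1) z (by rw [ap_res, hz])
    obtain ⟨ξ2, h21, h22⟩ := pullback_sec_ex f (g i) (res X k x2) z (by rw [ap_res, ← hx, hz])
    obtain ⟨w, hw1, hw2⟩ := pullback_sec_ex (pullback.snd f (g i)) (pullback.snd f (g i)) ξ1 ξ2
      (by rw [h12, h22])
    exact ⟨i, w, by rw [ap_comp, hw1, h11], by rw [ap_comp, hw2, h21]⟩
  · intro i E' T' e' t' he' hT'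
    refine (isQSHom_iff _).1 (h i) e' (t' ≫ pullback.fst _ _) (t' ≫ pullback.snd _ _) ?_
      ⟨?_, he'.inj, ?_⟩ hT'
    · rw [Category.assoc, Category.assoc, pullback.condition]
    · apply pullback.hom_ext
      · have := he'.w
        simpa only [Category.assoc] using this
      · simp only [Category.assoc, pullback.condition]
    · intro U τ hτ
      refine he'.ex U τ ?_
      rw [ap_comp, ap_comp, ap_comp, ap_comp] at *
      rw [hτ]

/-! ### finite covers of the source (S3065) -/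

lemma isQCHom_of_finite_cover_source {Y Z : Sh J} (g : Y ⟶ Z) {κ : Type w} [Finite κ]
    {X : κ → Sh J} (f : ∀ k, X k ⟶ Y) (hf : JEpi f) (h : ∀ k, IsQCHom (f k ≫ g)) : IsQCHom g := by
  apply isQCHom_of_pbSec
  intro Q T fst snd t hpb hT
  refine isQC_of_pbSec_cover_left hpb f hf (fun k => ?_)
  exact ⟨_, _, _, pullback_pbSec (f k ≫ g) t, IsQCHom.isQC (h k) (pullback_pbSec _ _) hT⟩

/-! ### quasi-separated objects via generators (S3068) -/

lemma isQS_iff_gen {P : Sh J → Prop} (hgen : Gen P) (hP : ∀ K, P K → IsQC K) (Y : Sh J) :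
    IsQS Y ↔ ∀ (K : Sh J) (s : K ⟶ Y), P K → IsQCHom s := by
  constructor
  · intro hY K s hK
    exact isQCHom_of_isQC_of_isQS s (hP K hK) hY
  · intro h
    rw [isQS_iff]
    intro Q A B fst snd a b hpb hA hB
    obtain ⟨κ, hκ, F, α, hF, hα⟩ := IsQC.exists_finite_gen_cover hgen hA
    refine isQC_of_pbSec_cover_left hpb α hα (fun k => ?_)
    exact ⟨_, _, _, pullback_pbSec (α k ≫ a) b,
      IsQCHom.isQC (h _ (α k ≫ a) (hF k)) (pullback_pbSec _ _) hB⟩

/-! ### subobjects and coproducts of quasi-separated objects (S3074) -/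

lemma isQS_of_mono {X Y : Sh J} (i : X ⟶ Y) [Mono i] (hY : IsQS Y) : IsQS X := by
  rw [isQS_iff] at hY ⊢
  intro Q A B fst snd a b hpb hA hB
  refine hY fst snd (a ≫ i) (b ≫ i) ⟨?_, hpb.ext, ?_⟩ hA hB
  · rw [← Category.assoc, hpb.w, Category.assoc]
  · intro U x y hxy
    exact hpb.ex U x y (ap_injective_of_mono i U hxy)

lemma isQC_of_isEmptySh {X : Sh J} (hX : IsEmptySh X) : IsQC X := by
  refine isQC_of_jepi_finite (fun i : PEmpty.{1} => i.elim) (fun i => i.elim) ?_ (fun i => i.elim)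
  intro U x
  exact J.superset_covering bot_le (hX U ⟨x⟩)

/-! ### quasi-separatedness from a cover by quasi-compact morphisms (S3075) -/

lemma isQS_of_cover {Y : Sh J} {ι : Type u} {Yi : ι → Sh J} (g : ∀ i, Yi i ⟶ Y) (hg : JEpi g)
    (hqs : ∀ i, IsQS (Yi i)) (hqc : ∀ i, IsQCHom (g i)) : IsQS Y := by
  rw [isQS_iff]
  intro Q A B fst snd a b hpb hA hB
  have hα : JEpi (fun i => pullback.snd (g i) a) :=
    hg.pullback a (fun i => pullback.fst (g i) a) _ (fun i => IsPullback.of_hasPullback _ _)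
  have hβ : JEpi (fun i => pullback.snd (g i) b) :=
    hg.pullback b (fun i => pullback.fst (g i) b) _ (fun i => IsPullback.of_hasPullback _ _)
  have hAi : ∀ i, IsQC (pullback (g i) a) := fun i =>
    IsQCHom.isQC (hqc i) (pullback_pbSec (g i) a) hA
  have hBi : ∀ i, IsQC (pullback (g i) b) := fun i =>
    IsQCHom.isQC (hqc i) (pullback_pbSec (g i) b) hB
  obtain ⟨s, hs⟩ := IsQC.exists_finset hA _ hα
  obtain ⟨t, ht⟩ := IsQC.exists_finset hB _ hβ
  refine isQC_of_pbSec_cover hpb (fun i : s => pullback.snd (g i) a)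
    (fun j : t => pullback.snd (g j) b) hs ht (fun i j => ?_)
  -- `W = Y_i ×_Y B_j`
  have hW : IsQC (pullback (g i) (pullback.snd (g j) b ≫ b)) :=
    IsQCHom.isQC (hqc i) (pullback_pbSec _ _) (hBi j)
  have hQ : IsQC (pullback (pullback.fst (g i) a) (pullback.fst (g i) (pullback.snd (g j) b ≫ b))) :=
    hqs i _ _ _ _ (hAi i) hW
  refine ⟨_, pullback.fst _ _, pullback.snd _ _ ≫ pullback.snd _ _, ?_, hQ⟩
  have h2 := (pullback_pbSec (g i) (pullback.snd (g j) b ≫ b)).flip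
  have h1 := (pullback_pbSec (pullback.fst (g i) a)
    (pullback.fst (g i) (pullback.snd (g j) b ≫ b))).flip
  have := (h1.paste h2).flip
  have e : pullback.snd (g ↑i) a ≫ a = pullback.fst (g ↑i) a ≫ g ↑i := pullback.condition.symm
  rw [e]
  exact this

/-! ### S3067 -/

lemma isQS_iff_of_coherent_cover {P : Sh J → Prop} (hgen : Gen P) (hP : ∀ K, P K → IsQC K)
    {Y : Sh J} {ι : Type u} {Yi : ι → Sh J} (g : ∀ i, Yi i ⟶ Y) (hg : JEpi g)
    (hY : ∀ i, IsCoherent (Yi i)) :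
    (IsQS Y ↔ ∀ i, IsQCHom (g i)) ∧ (IsQS Y ↔ ∀ i j, IsQC (pullback (g i) (g j))) := by
  have h1 : IsQS Y ↔ ∀ i, IsQCHom (g i) :=
    ⟨fun h i => isQCHom_of_isQC_of_isQS (g i) (hY i).1 h,
     fun h => isQS_of_cover g hg (fun i => (hY i).2) h⟩
  refine ⟨h1, fun h => fun i j => h _ _ _ _ (hY i).1 (hY j).1, fun h => h1.2 (fun i => ?_)⟩
  refine isQCHom_of_local_target hgen hP (g i) g hg _ _ (fun j => pullback_pbSec (g i) (g j))
    (fun j => ?_)
  exact isQCHom_of_isQC_of_isQS _ (h i j) (hY j).2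

end Groth.Agent.Lib.Helper6.TF
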