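import Groth.Agent.Lib.Helper6TF7

set_option autoImplicit false

namespace Groth.Agent.Lib.Helper6.TF

open CategoryTheory Limits Opposite ToposFin

universe u w w'

variable {C : Type u} [SmallCategory C] {J : GrothendieckTopology C}

/-- Covering lemma for pairs of sections with the same image. -/
lemma pairSieve_mem_of_jepi {X Y : Sh J} (f : X ⟶ Y) {ι : Type w} {Xi : ι → Sh J}
    (g : ∀ i, Xi i ⟶ X) (hg : JEpi g) {U : C} (x1 x2 : Sec X U) (hx : ap f x1 = ap f x2) :
    pairSieve (W := fun p : ι × ι => pullback (g p.1 ≫ f) (g p.2 ≫ f))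
      (fun p => pullback.fst _ _ ≫ g p.1) (fun p => pullback.snd _ _ ≫ g p.2) x1 x2 ∈ J U := by
  refine J.superset_covering ?_ (J.intersection_covering (hg U x1) (hg U x2))
  rintro V k ⟨⟨i, z1, hz1⟩, ⟨j, z2, hz2⟩⟩
  obtain ⟨w, hw1, hw2⟩ := pullback_sec_ex (g i ≫ f) (g j ≫ f) z1 z2 (by
    rw [ap_comp, ap_comp, hz1, hz2, ap_res, ap_res, hx])
  exact ⟨(i, j), w, by rw [ap_comp, hw1, hz1], by rw [ap_comp, hw2, hz2]⟩

/-- S3070. -/
lemma isQSHom_of_qs_source_cover {P : Sh J → Prop} (hgen : Gen P) (hP : ∀ K, P K → IsQC K)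
    {X Y : Sh J} (f : X ⟶ Y) {ι : Type u} {Xi : ι → Sh J} (g : ∀ i, Xi i ⟶ X) (hg : JEpi g)
    (hqc : ∀ i, IsQC (Xi i)) (hqs : ∀ i j, IsQS (pullback (g i ≫ f) (g j ≫ f))) (hX : IsQS X) :
    IsQSHom f := by
  refine isQSHom_of_local hgen hP f
    (W := fun p : ι × ι => pullback (g p.1 ≫ f) (g p.2 ≫ f))
    (fun p => pullback.fst _ _ ≫ g p.1) (fun p => pullback.snd _ _ ≫ g p.2)
    (fun U x1 x2 hx => pairSieve_mem_of_jepi f g hg x1 x2 hx) ?_
  rintro ⟨i, j⟩ E' T' e' t' he' hT'
  have hD : IsQC (pullback (g i) (g j)) := hX _ _ _ _ (hqc i) (hqc j)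
  let d : pullback (g i) (g j) ⟶ pullback (g i ≫ f) (g j ≫ f) :=
    pullback.lift (pullback.fst _ _) (pullback.snd _ _) (by
      rw [← Category.assoc, pullback.condition, Category.assoc])
  have hd1 : d ≫ pullback.fst _ _ = pullback.fst _ _ := pullback.lift_fst _ _ _
  have hd2 : d ≫ pullback.snd _ _ = pullback.snd _ _ := pullback.lift_snd _ _ _
  have hdqc : IsQCHom d := isQCHom_of_isQC_of_isQS d hD (hqs i j)
  have hw : (e' ≫ t' ≫ pullback.fst _ _) ≫ g i = (e' ≫ t' ≫ pullback.snd _ _) ≫ g j := by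
    have := he'.w
    simpa only [Category.assoc] using this
  let ℓ : E' ⟶ pullback (g i) (g j) := pullback.lift _ _ hw
  have hℓ1 : ℓ ≫ pullback.fst _ _ = e' ≫ t' ≫ pullback.fst _ _ := pullback.lift_fst _ _ _
  have hℓ2 : ℓ ≫ pullback.snd _ _ = e' ≫ t' ≫ pullback.snd _ _ := pullback.lift_snd _ _ _
  refine IsQCHom.isQC hdqc (fst := ℓ) (snd := e') (g := t') ⟨?_, ?_, ?_⟩ hT'
  · apply pullback.hom_ext
    · rw [Category.assoc, hd1, hℓ1, Category.assoc]
    · rw [Category.assoc, hd2, hℓ2, Category.assoc]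
  · intro U p q _ h2
    exact he'.inj U h2
  · intro U δ τ hδτ
    have h1 : ap (pullback.fst (g i) (g j)) δ = ap (pullback.fst _ _) (ap t' τ) := by
      rw [← hδτ, ← ap_comp, hd1]
    have h2 : ap (pullback.snd (g i) (g j)) δ = ap (pullback.snd _ _) (ap t' τ) := by
      rw [← hδτ, ← ap_comp, hd2]
    obtain ⟨x, hx⟩ := he'.ex U τ (by
      simp only [ap_comp]
      rw [← h1, ← h2]
      exact pullback_sec_condition (g i) (g j) δ)
    refine ⟨x, pullback_sec_ext _ _ ?_ ?_, hx⟩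
    · rw [← ap_comp, hℓ1, ap_comp, ap_comp, hx, h1]
    · rw [← ap_comp, hℓ2, ap_comp, ap_comp, hx, h2]

/-- S3071. -/
lemma isQSHom_of_qs_source {P : Sh J → Prop} (hgen : Gen P) (hP : ∀ K, P K → IsCoherent K)
    (hprod : ∀ K L, P K → P L → IsQS (K ⨯ L)) {X Y : Sh J} (f : X ⟶ Y) (hX : IsQS X) :
    IsQSHom f := by
  obtain ⟨ι, F, g, hF, hg⟩ := hgen X
  refine isQSHom_of_qs_source_cover hgen (fun K hK => (hP K hK).1) f g hg
    (fun i => (hP _ (hF i)).1) (fun i j => ?_) hX
  let m : pullback (g i ≫ f) (g j ≫ f) ⟶ F i ⨯ F j :=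
    prod.lift (pullback.fst _ _) (pullback.snd _ _)
  have : Mono m := by
    apply mono_of_ap_injective
    intro U p q hpq
    apply pullback_sec_ext
    · have := congrArg (ap (prod.fst (X := F i) (Y := F j))) hpq
      rwa [← ap_comp, ← ap_comp, prod.lift_fst] at this
    · have := congrArg (ap (prod.snd (X := F i) (Y := F j))) hpq
      rwa [← ap_comp, ← ap_comp, prod.lift_snd] at this
  exact isQS_of_mono m (hprod _ _ (hF i) (hF j))

/-- S3074 (2). -/
lemma isQS_cofan_iff {ι : Type u} {F : ι → Sh J} {c : Cofan F} (hc : IsColimit c) :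
    IsQS c.pt ↔ ∀ i, IsQS (F i) := by
  constructor
  · intro h i
    have := cofan_inj_mono hc i
    exact isQS_of_mono (c.inj i) h
  · intro h
    rw [isQS_iff]
    intro Q A B fst snd a b hpb hA hB
    -- decomposition of a quasi-compact object over the coproduct
    have key : ∀ {A : Sh J} (a : A ⟶ c.pt), IsQC A →
        (∀ i, IsQC (pullback (c.inj i) a)) ∧
        ∃ s : Finset ι, JEpi (fun i : s => pullback.snd (c.inj i) a) := by
      intro A a hA
      have hα : JEpi (fun i => pullback.snd (c.inj i) a) :=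
        (jepi_cofan_inj hc).pullback a (fun i => pullback.fst (c.inj i) a) _
          (fun i => IsPullback.of_hasPullback _ _)
      refine ⟨fun i => isQC_of_disjoint_cover _ hα ?_ ?_ hA i, IsQC.exists_finset hA _ hα⟩
      · intro i U z z' hzz'
        refine pullback_sec_ext _ _ (cofan_inj_injective hc i U ?_) hzz'
        rw [pullback_sec_condition, pullback_sec_condition, hzz']
      · intro i j hij U z z' hzz'
        refine cofan_inj_disjoint hc hij (ap (pullback.fst _ _) z) (ap (pullback.fst _ _) z') ?_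
        rw [pullback_sec_condition, pullback_sec_condition, hzz']
    obtain ⟨hAi, s, hs⟩ := key a hA
    obtain ⟨hBi, t, ht⟩ := key b hB
    refine isQC_of_pbSec_cover hpb (fun i : s => pullback.snd (c.inj i) a)
      (fun j : t => pullback.snd (c.inj j) b) hs ht ?_
    rintro ⟨i, hi⟩ ⟨j, hj⟩
    by_cases hij : i = j
    · subst hij
      refine ⟨pullback (pullback.fst (c.inj i) a) (pullback.fst (c.inj i) b), pullback.fst _ _,
        pullback.snd _ _, ?_, h i _ _ _ _ (hAi i) (hBi i)⟩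
      have := cofan_inj_mono hc i
      have e1 : pullback.snd (c.inj i) a ≫ a = pullback.fst (c.inj i) a ≫ c.inj i :=
        pullback.condition.symm
      have e2 : pullback.snd (c.inj i) b ≫ b = pullback.fst (c.inj i) b ≫ c.inj i :=
        pullback.condition.symm
      dsimp only
      rw [e1, e2]
      have h0 := pullback_pbSec (pullback.fst (c.inj i) a) (pullback.fst (c.inj i) b)
      refine ⟨?_, h0.ext, ?_⟩
      · rw [← Category.assoc, h0.w, Category.assoc]
      · intro U x y hxy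
        exact h0.ex U x y (ap_injective_of_mono (c.inj i) U hxy)
    · refine ⟨_, _, _, pullback_pbSec _ _, isQC_of_isEmptySh ?_⟩
      rintro U ⟨p⟩
      refine cofan_inj_disjoint hc hij
        (ap (pullback.fst (c.inj i) a) (ap (pullback.fst _ _) p))
        (ap (pullback.fst (c.inj j) b) (ap (pullback.snd _ _) p)) ?_
      have := pullback_sec_condition (pullback.snd (c.inj i) a ≫ a) (pullback.snd (c.inj j) b ≫ b) p
      rw [ap_comp, ap_comp, ← pullback_sec_condition, ← pullback_sec_condition] at this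
      exact this

/-- S3076 (a). -/
lemma isQSHom_of_cover_qc {P : Sh J → Prop} (hgen : Gen P) (hP : ∀ K, P K → IsQC K)
    {Y Z : Sh J} (g : Y ⟶ Z) {ι : Type u} {X : ι → Sh J} (f : ∀ i, X i ⟶ Y) (hf : JEpi f)
    (hqc : ∀ i, IsQCHom (f i)) (hqs : ∀ i, IsQSHom (f i ≫ g)) : IsQSHom g := by
  refine isQSHom_of_local hgen hP g
    (W := fun p : ι × ι => pullback (f p.1 ≫ g) (f p.2 ≫ g))
    (fun p => pullback.fst _ _ ≫ f p.1) (fun p => pullback.snd _ _ ≫ f p.2)
    (fun U x1 x2 hx => pairSieve_mem_of_jepi g f hf x1 x2 hx) ?_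
  rintro ⟨i, j⟩ E' T' e' t' he' hT'
  obtain ⟨α, hα⟩ : ∃ α : T' ⟶ X i, α = t' ≫ pullback.fst _ _ := ⟨_, rfl⟩
  obtain ⟨β, hβ⟩ : ∃ β : T' ⟶ X j, β = t' ≫ pullback.snd _ _ := ⟨_, rfl⟩
  have hαβ : α ≫ f i ≫ g = β ≫ f j ≫ g := by
    rw [hα, hβ, Category.assoc, Category.assoc, pullback.condition]
  have he'w : e' ≫ α ≫ f i = e' ≫ β ≫ f j := by
    have := he'.w
    rw [hα, hβ]
    simpa only [Category.assoc] using this
  have hR : IsQC (pullback (α ≫ f i) (f j)) :=
    IsQCHom.isQC (hqc j) (pullback_pbSec (α ≫ f i) (f j)).flip hT'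
  let ℓ : E' ⟶ pullback (α ≫ f i) (f j) := pullback.lift e' (e' ≫ β) (by
    rw [Category.assoc]; exact he'w)
  have hℓ1 : ℓ ≫ pullback.fst _ _ = e' := pullback.lift_fst _ _ _
  have hℓ2 : ℓ ≫ pullback.snd _ _ = e' ≫ β := pullback.lift_snd _ _ _
  refine (isQSHom_iff _).1 (hqs j) ℓ (pullback.snd _ _) (pullback.fst _ _ ≫ β) ?_ ⟨?_, ?_, ?_⟩ hR
  · rw [← Category.assoc, ← pullback.condition, Category.assoc, Category.assoc, Category.assoc,
      hαβ]
  · rw [hℓ2, ← Category.assoc, hℓ1]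
  · intro U x x' hxx'
    apply he'.inj U
    rw [← hℓ1, ap_comp, ap_comp, hxx']
  · intro U r hr
    have hcond := pullback_sec_condition (α ≫ f i) (f j) r
    obtain ⟨x, hx⟩ := he'.ex U (ap (pullback.fst _ _) r) (by
      have h1 : ap (f i) (ap α (ap (pullback.fst _ _) r)) =
          ap (f j) (ap β (ap (pullback.fst _ _) r)) := by
        have := hcond
        rw [hr] at this
        exact this
      have h2 : ∀ y : Sec T' U, ap (f i) (ap α y) = ap (f j) (ap β y) →
          ap (t' ≫ pullback.fst _ _ ≫ f i) y = ap (t' ≫ pullback.snd _ _ ≫ f j) y := by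
        intro y hy
        rw [hα, hβ] at hy
        exact hy
      exact h2 _ h1)
    refine ⟨x, pullback_sec_ext _ _ ?_ ?_⟩
    · rw [← ap_comp, hℓ1, hx]
    · rw [← ap_comp, hℓ2, ap_comp, hx, hr, ap_comp]

end Groth.Agent.Lib.Helper6.TF
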