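import Groth.Agent.Lib.Helper6TF8

set_option autoImplicit false

namespace Groth.Agent.Lib.Helper6.TF

open CategoryTheory Limits Opposite ToposFin

universe u w w'

variable {C : Type u} [SmallCategory C] {J : GrothendieckTopology C}

lemma isQS_of_iso {X Y : Sh J} (e : X ≅ Y) (hX : IsQS X) : IsQS Y :=
  isQS_of_mono e.inv hX

lemma eqSec_of_isLimit {E T X : Sh J} {e : E ⟶ T} {a b : T ⟶ X} (w : e ≫ a = e ≫ b)
    (h : IsLimit (Fork.ofι e w)) : EqSec e a b := by
  let i := h.conePointUniqueUpToIso (equalizerIsEqualizer a b)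
  have hi : i.hom ≫ equalizer.ι a b = e := by
    have := h.conePointUniqueUpToIso_hom_comp (equalizerIsEqualizer a b) WalkingParallelPair.zero
    simpa using this
  have hi' : i.inv ≫ e = equalizer.ι a b := by
    rw [Iso.inv_comp_eq]; exact hi.symm
  have h0 := equalizer_eqSec a b
  refine ⟨w, ?_, ?_⟩
  · intro U x y hxy
    have : Mono e := hi ▸ (inferInstance : Mono (i.hom ≫ equalizer.ι a b))
    exact ap_injective_of_mono e U hxy
  · intro U t ht
    obtain ⟨x, hx⟩ := h0.ex U t ht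
    exact ⟨ap i.inv x, by rw [← ap_comp, hi', hx]⟩

/-! ### locally coherent and algebraic topoi -/

section LocCoh

variable {S : Set (Sh J)} (hqc : ∀ K ∈ S, IsQC K) (hgen : IsGenerating S)
  (hpb : ClosedUnderPullbacks S)

include hqc hgen hpb in
/-- In a locally coherent topos, the chosen generators are coherent. -/
lemma isQS_of_mem {K : Sh J} (hK : K ∈ S) : IsQS K := by
  rw [isQS_iff_gen (gen_of_isGenerating hgen) hqc]
  intro L s hL
  refine isQCHom_of_gen (gen_of_isGenerating hgen) s (fun M t hM => ?_)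
  obtain ⟨P', p, q, hP', hsq⟩ := hpb s t hL hM hK
  exact isQC_of_iso hsq.isoPullback (hqc P' hP')

include hqc hgen hpb in
lemma isCoherent_of_mem {K : Sh J} (hK : K ∈ S) : IsCoherent K :=
  ⟨hqc K hK, isQS_of_mem hqc hgen hpb hK⟩

include hqc hgen hpb in
/-- S5587. -/
lemma isQSHom_iff_of_locCoh {X Y : Sh J} (f : X ⟶ Y) :
    IsQSHom f ↔ ∀ (Y' : Sh J) (g : Y' ⟶ Y), IsQS Y' → IsQS (pullback f g) := by
  have hG := gen_of_isGenerating hgen
  constructor
  · intro hf Y' g hY'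
    exact isQS_of_isQSHom _ (IsQSHom.base_change (pullback_pbSec f g) hf) hY'
  · intro h
    obtain ⟨ι, Yi, g, hYi, hg⟩ := hG Y
    rw [isQSHom_local_iff hG hqc f g hg]
    intro i
    have hXi : IsQS (pullback f (g i)) := h _ (g i) (isQS_of_mem hqc hgen hpb (hYi i))
    obtain ⟨κ, G, γ, hGm, hγ⟩ := hG (pullback f (g i))
    refine isQSHom_of_qs_source_cover hG hqc _ γ hγ (fun k => hqc _ (hGm k)) (fun k l => ?_) hXi
    obtain ⟨P', p, q, hP', hsq⟩ := hpb (γ k ≫ pullback.snd f (g i)) (γ l ≫ pullback.snd f (g i))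
      (hGm k) (hGm l) (hYi i)
    exact isQS_of_iso hsq.isoPullback (isQS_of_mem hqc hgen hpb hP')

variable (heq : ClosedUnderEqualizers S)

include hqc hgen hpb heq in
/-- In an algebraic topos, products of generators are quasi-separated. -/
lemma isQS_prod_of_mem {K L : Sh J} (hK : K ∈ S) (hL : L ∈ S) : IsQS (K ⨯ L) := by
  have hG := gen_of_isGenerating hgen
  rw [isQS_iff_gen hG hqc]
  intro M s hM
  refine isQCHom_of_gen hG s (fun N t hN => ?_)
  obtain ⟨P1, p, q, hP1, hsq⟩ := hpb (s ≫ prod.fst) (t ≫ prod.fst) hM hN hK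
  obtain ⟨E, e, we, hE, ⟨hlim⟩⟩ := heq (p ≫ s ≫ prod.snd) (q ≫ t ≫ prod.snd) hP1 hL
  have hsq' := pbSec_of_isPullback hsq
  have he := eqSec_of_isLimit we hlim
  have hpb' : PbSec (e ≫ p) (e ≫ q) s t := by
    refine ⟨?_, ?_, ?_⟩
    · apply Limits.prod.hom_ext
      · simp only [Category.assoc]
        rw [hsq.w]
      · simp only [Category.assoc]
        exact we
    · intro U x y h1 h2
      apply he.inj U
      exact hsq'.ext U _ _ h1 h2
    · intro U m n hmn
      obtain ⟨y, hy1, hy2⟩ := hsq'.ex U m n (by rw [ap_comp, ap_comp, hmn])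
      obtain ⟨x, hx⟩ := he.ex U y (by
        simp only [ap_comp]
        rw [hy1, hy2, hmn])
      exact ⟨x, by rw [ap_comp, hx, hy1], by rw [ap_comp, hx, hy2]⟩
  exact isQC_of_iso hpb'.isPullback.isoPullback (hqc E hE)

include hqc hgen hpb heq in
/-- In an algebraic topos, every morphism with quasi-separated source is quasi-separated. -/
lemma isQSHom_of_isQS_source_alg {X Y : Sh J} (f : X ⟶ Y) (hX : IsQS X) : IsQSHom f :=
  isQSHom_of_qs_source (gen_of_isGenerating hgen)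
    (fun K hK => isCoherent_of_mem hqc hgen hpb hK)
    (fun K L hK hL => isQS_prod_of_mem hqc hgen hpb heq hK hL) f hX

end LocCoh

/-- S5585. -/
lemma alg_isQS_isCoherent_iff (hE : IsAlgebraic J) {X Y : Sh J} (f : X ⟶ Y) :
    (IsQS Y → (IsQS X ↔ IsQSHom f)) ∧ (IsCoherent Y → (IsCoherent X ↔ IsCohHom f)) := by
  obtain ⟨S, hqc, hgen, hpb, heq⟩ := hE
  have h1 : IsQS X → IsQSHom f := isQSHom_of_isQS_source_alg hqc hgen hpb heq f
  refine ⟨fun hY => ⟨h1, fun hf => isQS_of_isQSHom f hf hY⟩, fun hY => ⟨fun hX => ?_, fun hf => ?_⟩⟩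
  · exact ⟨isQCHom_of_isQC_of_isQS f hX.1 hY.2, h1 hX.2⟩
  · exact ⟨IsQCHom.isQC_source hf.1 hY.1, isQS_of_isQSHom f hf.2 hY.2⟩

/-- S5586. -/
lemma alg_local_iff (hE : IsAlgebraic J) {X Y : Sh J} (f : X ⟶ Y) {ι : Type u}
    (Yi : ι → Sh J) (g : ∀ i, Yi i ⟶ Y) (hg : JEpi g) :
    ((∀ i, IsQS (Yi i)) → (IsQSHom f ↔ ∀ i, IsQS (pullback f (g i)))) ∧
    ((∀ i, IsCoherent (Yi i)) → (IsCohHom f ↔ ∀ i, IsCoherent (pullback f (g i)))) := by
  have hE' := hE
  obtain ⟨S, hqc, hgen, hpb, heq⟩ := hE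
  have hG := gen_of_isGenerating hgen
  constructor
  · intro hYi
    rw [isQSHom_local_iff hG hqc f g hg]
    exact forall_congr' (fun i => ((alg_isQS_isCoherent_iff hE' (pullback.snd f (g i))).1 (hYi i)).symm)
  · intro hYi
    have : IsCohHom f ↔ ∀ i, IsCohHom (pullback.snd f (g i)) := by
      unfold IsCohHom
      rw [isQCHom_local_iff hG hqc f g hg, isQSHom_local_iff hG hqc f g hg]
      exact forall_and.symm
    rw [this]
    exact forall_congr' (fun i => ((alg_isQS_isCoherent_iff hE' (pullback.snd f (g i))).2 (hYi i)).symm)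

/-! ### morphisms of topoi -/

section Adj

variable {D : Type u} [SmallCategory D] {K : GrothendieckTopology D}
  (F : Sh K ⥤ Sh J) (R : Sh J ⥤ Sh K) (adj : F ⊣ R)

include adj in
lemma jepi_map_of_adj {X : Sh K} {ι : Type w} {G : ι → Sh K} (π : ∀ i, G i ⟶ X) (hπ : JEpi π) :
    JEpi (fun i => F.map (π i)) := by
  rw [jepi_iff_jsep] at hπ ⊢
  intro Z a b hab
  apply (adj.homEquiv X Z).injective
  apply hπ
  intro i
  rw [← adj.homEquiv_naturality_left, ← adj.homEquiv_naturality_left, hab i]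

include adj in
/-- S5589. -/
lemma map_isQC_iff_of_gen {S : Set (Sh K)} (hS : ∀ X ∈ S, IsQC X) (hgen : IsGenerating S) :
    (∀ X : Sh K, IsQC X → IsQC (F.obj X)) ↔ ∀ X ∈ S, IsQC (F.obj X) := by
  refine ⟨fun h X hX => h X (hS X hX), fun h X hX => ?_⟩
  obtain ⟨κ, hκ, G, π, hG, hπ⟩ := IsQC.exists_finite_gen_cover (gen_of_isGenerating hgen) hX
  exact isQC_of_jepi_finite _ _ (jepi_map_of_adj F R adj π hπ) (fun k => h _ (hG k))

variable [PreservesFiniteLimits F]

include adj in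
/-- S5590. -/
lemma map_coherent_iff_of_gen (hE' : HasQCGenerators J) {S : Set (Sh K)}
    (hS : ∀ X ∈ S, IsCoherent X) (hgen : IsGenerating S) :
    ((∀ X : Sh K, IsQC X → IsQC (F.obj X)) ∧ (∀ X : Sh K, IsQS X → IsQS (F.obj X))) ↔
      ∀ X ∈ S, IsCoherent (F.obj X) := by
  constructor
  · rintro ⟨h1, h2⟩ X hX
    exact ⟨h1 X (hS X hX).1, h2 X (hS X hX).2⟩
  · intro h
    have h1 : ∀ X : Sh K, IsQC X → IsQC (F.obj X) :=
      (map_isQC_iff_of_gen F R adj (fun X hX => (hS X hX).1) hgen).2 (fun X hX => (h X hX).1)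
    refine ⟨h1, fun Y hY => ?_⟩
    obtain ⟨ι, Xi, g, hXi, hg⟩ := gen_of_isGenerating hgen Y
    refine (isQS_iff_of_coherent_cover (gen_of_hasQCGenerators hE') (fun K h => h)
      (fun i => F.map (g i)) (jepi_map_of_adj F R adj g hg) (fun i => h _ (hXi i))).2.2 (fun i j => ?_)
    have hq : IsQC (pullback (g i) (g j)) := hY _ _ _ _ (hS _ (hXi i)).1 (hS _ (hXi j)).1
    exact isQC_of_iso (PreservesPullback.iso F (g i) (g j)) (h1 _ hq)

include adj in
/-- S5591. -/
lemma map_isQCHom {S : Set (Sh K)} (hqc : ∀ X ∈ S, IsQC X) (hgen : IsGenerating S)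
    (hpb : ClosedUnderPullbacks S) {S' : Set (Sh J)} (hqc' : ∀ X ∈ S', IsQC X)
    (hgen' : IsGenerating S')
    (hFqc : ∀ X : Sh K, IsQC X → IsQC (F.obj X)) (hFqs : ∀ X : Sh K, IsQS X → IsQS (F.obj X))
    {X Y : Sh K} (v : X ⟶ Y) (hv : IsQCHom v) : IsQCHom (F.map v) := by
  obtain ⟨ι, Yi, g, hYi, hg⟩ := gen_of_isGenerating hgen Y
  refine isQCHom_of_local_target (gen_of_isGenerating hgen') hqc' (F.map v)
    (fun i => F.map (g i)) (jepi_map_of_adj F R adj g hg)
    (fun i => F.map (pullback.fst v (g i))) (fun i => F.map (pullback.snd v (g i)))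
    (fun i => pbSec_of_isPullback ((IsPullback.of_hasPullback v (g i)).map F)) (fun i => ?_)
  refine isQCHom_of_isQC_of_isQS _ (hFqc _ ?_) (hFqs _ (isQS_of_mem hqc hgen hpb (hYi i)))
  exact IsQCHom.isQC hv (pullback_pbSec v (g i)) (hqc _ (hYi i))

end Adj

end Groth.Agent.Lib.Helper6.TF
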