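import Mathlib
import Groth.Prelude.Def_Curv2
import Groth.Agent.Lib.Helper6SepClosedPts
import Groth.Agent.Lib.Helper6SmRegSch
import Groth.Agent.Lib.Helper7Cartier2

set_option autoImplicit false
universe u
open CategoryTheory CategoryTheory.Limits AlgebraicGeometry TensorProduct IsLocalRing

namespace Groth.Agent.Lib.Helper6.TameSep

section Alg

/-- Let `k → A → B` be local rings with `B` formally smooth over `k`, `m_A B ⊆ m_B²` and
`κ(B)` formally smooth over `κ(A)`. Then `κ(B)` is formally smooth over `k`. -/
theorem formallySmooth_residueField_of_tower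
    (k A B : Type u) [CommRing k] [CommRing A] [CommRing B] [IsLocalRing A] [IsLocalRing B]
    [Algebra k A] [Algebra k B] [Algebra A B] [IsScalarTower k A B]
    [IsLocalHom (algebraMap A B)] [Algebra.FormallySmooth k B]
    (hmap : (maximalIdeal A).map (algebraMap A B) ≤ maximalIdeal B ^ 2)
    [Algebra.FormallySmooth (ResidueField A) (ResidueField B)] :
    Algebra.FormallySmooth k (ResidueField B) := by
  let f : B →ₐ[k] ResidueField B := IsScalarTower.toAlgHom k B (ResidueField B)
  have hf : Function.Surjective f := residue_surjective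
  have hker : RingHom.ker f.toRingHom = maximalIdeal B := ker_residue (R := B)
  let Q := B ⧸ (RingHom.ker f.toRingHom ^ 2)
  -- the `κ(A)`-algebra structure on `Q`
  let ψ : ResidueField A →+* Q :=
    Ideal.Quotient.lift (maximalIdeal A) ((Ideal.Quotient.mk _).comp (algebraMap A B)) (by
      intro a ha
      rw [RingHom.comp_apply, Ideal.Quotient.eq_zero_iff_mem, hker]
      exact hmap (Ideal.mem_map_of_mem _ ha))
  letI : Algebra (ResidueField A) Q := ψ.toAlgebra
  let g' : Q →ₐ[ResidueField A] ResidueField B :=
    { f.kerSquareLift.toRingHom with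
      commutes' := fun z => by
        obtain ⟨a, rfl⟩ := Ideal.Quotient.mk_surjective z
        rfl }
  have hg'surj : Function.Surjective g' := by
    intro z
    obtain ⟨b, rfl⟩ := hf z
    exact ⟨Ideal.Quotient.mk _ b, rfl⟩
  have hnil : IsNilpotent (RingHom.ker (g' : Q →+* ResidueField B)) := by
    refine ⟨2, ?_⟩
    have : RingHom.ker (g' : Q →+* ResidueField B) = RingHom.ker f.kerSquareLift.toRingHom := rfl
    rw [this, AlgHom.ker_kerSquareLift, Ideal.cotangentIdeal_square]
    rfl
  let σ : ResidueField B →ₐ[ResidueField A] Q :=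
    Algebra.FormallySmooth.liftOfSurjective (AlgHom.id _ _) g' hg'surj hnil
  have hσ : ∀ z, g' (σ z) = z := fun z =>
    Algebra.FormallySmooth.liftOfSurjective_apply (AlgHom.id _ _) g' hg'surj hnil z
  let g : ResidueField B →ₐ[k] Q :=
    { σ.toRingHom with
      commutes' := fun c => by
        have h1 : algebraMap k (ResidueField B) c =
            algebraMap (ResidueField A) (ResidueField B) (residue A (algebraMap k A c)) := by
          change residue B (algebraMap k B c) = residue B (algebraMap A B (algebraMap k A c))
          rw [← IsScalarTower.algebraMap_apply]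
        change σ (algebraMap k (ResidueField B) c) = _
        rw [h1, σ.commutes]
        change Ideal.Quotient.mk _ (algebraMap A B (algebraMap k A c)) =
          Ideal.Quotient.mk _ (algebraMap k B c)
        rw [← IsScalarTower.algebraMap_apply] }
  refine (Algebra.FormallySmooth.iff_split_surjection f hf).mpr ⟨g, ?_⟩
  ext z
  exact hσ z

/-- a finite formally smooth field extension is separable -/
theorem isSeparable_of_formallySmooth_of_finite (k κ : Type u) [Field k] [Field κ] [Algebra k κ]
    [Module.Finite k κ] [Algebra.FormallySmooth k κ] : Algebra.IsSeparable k κ := by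
  let K := AlgebraicClosure k
  haveI : Algebra.FinitePresentation k κ :=
    (Algebra.FinitePresentation.of_finiteType (R := k) (A := κ)).mp inferInstance
  haveI : Algebra.Smooth k κ := ⟨inferInstance, inferInstance⟩
  haveI : Algebra.Smooth K (K ⊗[k] κ) := inferInstance
  haveI : IsReduced (K ⊗[k] κ) := by
    apply isReduced_ofLocalizationMaximal
    intro J hJ
    haveI : IsRegularLocalRing (Localization.AtPrime J) :=
      Groth.Agent.Lib.Helper6.SmRegSch.isRegularLocalRing_of_ringHom_smooth
        (algebraMap K (K ⊗[k] κ)) (RingHom.smooth_algebraMap.mpr inferInstance) J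
    haveI : IsDomain (Localization.AtPrime J) :=
      Groth.Agent.Lib.Helper5.isDomain_of_isRegularLocalRing _
    infer_instance
  haveI : Algebra.IsGeometricallyReduced k κ :=
    (Algebra.isGeometricallyReduced_field_iff k κ).mpr inferInstance
  exact Groth.Agent.Lib.Helper7.ExalLib.isSeparable_of_isGeometricallyReduced_of_isAlgebraic

end Alg

section Sch

attribute [local instance] Curv2.resAlgebra

variable (k : Type u) [Field k] (X : Scheme.{u}) [X.Over (Spec (CommRingCat.of k))]

/-- `Curv2.stalkMap` is the stalk map of the structure morphism, up to `k ≅ O_{Spec k, pt}` -/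
theorem stalkMap_eq (x : X) :
    Curv2.stalkMap k X x = ((X ↘ Spec (CommRingCat.of k)).stalkMap x).hom.comp
      (StructureSheaf.toStalk k ((X ↘ Spec (CommRingCat.of k)) x)).hom := by
  have e : (Scheme.ΓSpecIso (CommRingCat.of k)).inv ≫ (X ↘ Spec (CommRingCat.of k)).appTop ≫
      X.presheaf.germ ⊤ x trivial =
      StructureSheaf.toStalk k ((X ↘ Spec (CommRingCat.of k)) x) ≫
        (X ↘ Spec (CommRingCat.of k)).stalkMap x := by
    have e1 : StructureSheaf.toStalk k ((X ↘ Spec (CommRingCat.of k)) x) =
        (Scheme.ΓSpecIso (CommRingCat.of k)).inv ≫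
          (Spec (CommRingCat.of k)).presheaf.germ ⊤ ((X ↘ Spec (CommRingCat.of k)) x) trivial :=
      rfl
    rw [e1]
    erw [Category.assoc, Scheme.Hom.germ_stalkMap]
    rfl
  exact congrArg (fun m => m.hom) e

/-- the local rings of a smooth `k`-scheme are formally smooth over `k` -/
theorem formallySmooth_stalkMap [Smooth (X ↘ Spec (CommRingCat.of k))] (x : X) :
    (Curv2.stalkMap k X x).FormallySmooth := by
  rw [stalkMap_eq]
  have h1 : ((X ↘ Spec (CommRingCat.of k)).stalkMap x).hom.FormallySmooth := by
    have := Scheme.Hom.smoothLocus_eq_top (X ↘ Spec (CommRingCat.of k))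
    rw [← Scheme.Hom.mem_smoothLocus, this]
    trivial
  have h2 : (StructureSheaf.toStalk k ((X ↘ Spec (CommRingCat.of k)) x)).hom.FormallySmooth := by
    have : Algebra.FormallySmooth k ((Spec.structureSheaf k).presheaf.stalk
        ((X ↘ Spec (CommRingCat.of k)) x)) :=
      Algebra.FormallySmooth.of_isLocalization
        (((X ↘ Spec (CommRingCat.of k)) x : PrimeSpectrum k).asIdeal.primeCompl)
    exact RingHom.formallySmooth_algebraMap.mpr this
  exact h2.comp h1

/-- the residue field of a closed point of a locally finite type `k`-scheme is finite over `k` -/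
theorem finite_resMap_of_isClosed [LocallyOfFiniteType (X ↘ Spec (CommRingCat.of k))] (x : X)
    (hx : IsClosed ({x} : Set X)) : (Curv2.resMap k X x).Finite := by
  haveI := isClosed_singleton_iff_isClosedImmersion.mp hx
  have h1 : LocallyOfFiniteType (X.fromSpecResidueField x ≫ (X ↘ Spec (CommRingCat.of k))) :=
    inferInstance
  have h2 : IsFinite (X.fromSpecResidueField x ≫ (X ↘ Spec (CommRingCat.of k))) :=
    isFinite_iff_locallyOfFiniteType_of_jacobsonSpace.mpr h1
  rw [← Groth.Agent.Lib.Helper6.GeomComp.specMap_resMap k X x] at h2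
  exact (IsFinite.SpecMap_iff _).mp h2

/-- compatibility of the `k`-structures on local rings under a `k`-morphism -/
theorem stalkMap_comp (Y : Scheme.{u}) [Y.Over (Spec (CommRingCat.of k))] (f : X ⟶ Y)
    (hf : f ≫ (Y ↘ Spec (CommRingCat.of k)) = X ↘ Spec (CommRingCat.of k)) (x : X) :
    (f.stalkMap x).hom.comp (Curv2.stalkMap k Y (f.base x)) = Curv2.stalkMap k X x := by
  have e : ((Scheme.ΓSpecIso (CommRingCat.of k)).inv ≫ (Y ↘ Spec (CommRingCat.of k)).appTop ≫
      Y.presheaf.germ ⊤ (f.base x) trivial) ≫ f.stalkMap x =
      (Scheme.ΓSpecIso (CommRingCat.of k)).inv ≫ (X ↘ Spec (CommRingCat.of k)).appTop ≫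
        X.presheaf.germ ⊤ x trivial := by
    have h3 : Y.presheaf.germ ⊤ (f.base x) trivial ≫ f.stalkMap x =
        f.appTop ≫ X.presheaf.germ ⊤ x trivial :=
      Scheme.Hom.germ_stalkMap f ⊤ x trivial
    have h4 : (X ↘ Spec (CommRingCat.of k)).appTop =
        (Y ↘ Spec (CommRingCat.of k)).appTop ≫ f.appTop := by
      rw [← hf, Scheme.Hom.comp_appTop]
    rw [Category.assoc, Category.assoc, h3, h4, Category.assoc]
  exact congrArg (fun m => m.hom) e

/-- **A point of a smooth `k`-scheme at which a `k`-morphism is ramified (`m_y O_x ⊆ m_x²`) with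
separable residue field extension has residue field separable over `k`.** -/
theorem isSeparable_residueField_of_ramified [Smooth (X ↘ Spec (CommRingCat.of k))]
    (Y : Scheme.{u}) [Y.Over (Spec (CommRingCat.of k))] (f : X ⟶ Y)
    (hf : f ≫ (Y ↘ Spec (CommRingCat.of k)) = X ↘ Spec (CommRingCat.of k))
    (x : X) (hx : IsClosed ({x} : Set X))
    (hle : (IsLocalRing.maximalIdeal (Y.presheaf.stalk (f.base x))).map (f.stalkMap x).hom ≤
      IsLocalRing.maximalIdeal (X.presheaf.stalk x) ^ 2)
    (hsep : @Algebra.IsSeparable (Y.residueField (f.base x)) (X.residueField x) _ _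
      (f.residueFieldMap x).hom.toAlgebra) :
    Algebra.IsSeparable k (X.residueField x) := by
  have hres : (f.residueFieldMap x).hom.FormallySmooth := by
    letI := (f.residueFieldMap x).hom.toAlgebra
    haveI := hsep
    haveI : Algebra.FormallyEtale (Y.residueField (f.base x)) (X.residueField x) :=
      Algebra.FormallyEtale.of_isSeparable _ _
    exact RingHom.formallySmooth_algebraMap.mpr inferInstance
  have hfs : (Curv2.resMap k X x).FormallySmooth := by
    letI a1 : Algebra k (Y.presheaf.stalk (f.base x)) := (Curv2.stalkMap k Y (f.base x)).toAlgebra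
    letI a2 : Algebra k (X.presheaf.stalk x) := (Curv2.stalkMap k X x).toAlgebra
    letI a3 : Algebra (Y.presheaf.stalk (f.base x)) (X.presheaf.stalk x) :=
      (f.stalkMap x).hom.toAlgebra
    haveI : IsScalarTower k (Y.presheaf.stalk (f.base x)) (X.presheaf.stalk x) :=
      IsScalarTower.of_algebraMap_eq' (stalkMap_comp k X Y f hf x).symm
    haveI : IsLocalHom (algebraMap (Y.presheaf.stalk (f.base x)) (X.presheaf.stalk x)) :=
      (inferInstance : IsLocalHom (f.stalkMap x).hom)
    haveI : Algebra.FormallySmooth k (X.presheaf.stalk x) := formallySmooth_stalkMap k X x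
    haveI hκ : Algebra.FormallySmooth (ResidueField (Y.presheaf.stalk (f.base x)))
        (ResidueField (X.presheaf.stalk x)) := by
      rw [← RingHom.formallySmooth_algebraMap]
      have h1 : algebraMap (ResidueField (Y.presheaf.stalk (f.base x)))
          (ResidueField (X.presheaf.stalk x)) = (f.residueFieldMap x).hom := by
        apply Ideal.Quotient.ringHom_ext
        ext a
        rfl
      rw [h1]
      exact hres
    have h := formallySmooth_residueField_of_tower k (Y.presheaf.stalk (f.base x))
      (X.presheaf.stalk x) hle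
    rw [← RingHom.formallySmooth_algebraMap] at h
    exact h
  have hfin : (Curv2.resMap k X x).Finite := finite_resMap_of_isClosed k X x hx
  haveI : Module.Finite k (X.residueField x) := hfin
  haveI : Algebra.FormallySmooth k (X.residueField x) := hfs
  exact isSeparable_of_formallySmooth_of_finite k (X.residueField x)

end Sch

end Groth.Agent.Lib.Helper6.TameSep
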