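import Mathlib
import Groth.Agent.Lib.Helper6EtCrit
import Groth.Agent.Lib.Helper6InjOpen

set_option autoImplicit false
universe u
open CategoryTheory CategoryTheory.Limits AlgebraicGeometry IsLocalRing

namespace Groth.Agent.Lib.Helper6.TanCI

variable {X Y : Scheme.{u}}

set_option backward.isDefEq.respectTransparency.types false in
/-- on a Jacobson scheme, a morphism locally of finite type whose stalk maps at all closed points
are formally unramified is formally unramified -/
theorem formallyUnramified_of_stalkMap_closedPoints (f : X ⟶ Y) [LocallyOfFiniteType f]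
    [JacobsonSpace X]
    (H : ∀ x : X, IsClosed ({x} : Set X) → (f.stalkMap x).hom.FormallyUnramified) :
    FormallyUnramified f := by
  constructor
  intro U hU V hV e
  have hft := f.finiteType_appLE hU hV e
  algebraize [(f.appLE U V e).hom]
  rw [← RingHom.algebraMap_toAlgebra (f.appLE U V e).hom, RingHom.formallyUnramified_algebraMap,
    ← Algebra.unramifiedLocus_eq_univ_iff]
  have hJ : JacobsonSpace ↥(Spec Γ(X, V)) :=
    JacobsonSpace.of_isOpenEmbedding hV.fromSpec.isOpenEmbedding
  by_contra hne
  have hcl : IsClosed (Algebra.unramifiedLocus Γ(Y, U) Γ(X, V))ᶜ :=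
    Algebra.isOpen_unramifiedLocus.isClosed_compl
  have hnonempty : ((Algebra.unramifiedLocus Γ(Y, U) Γ(X, V))ᶜ).Nonempty := by
    rw [Set.nonempty_compl]; exact hne
  obtain ⟨q, hq1, hq2⟩ := @nonempty_inter_closedPoints _ _ hJ _ hnonempty
    hcl.isLocallyClosed
  apply hq1
  -- the corresponding closed point of `X`
  have hq3 : q ∈ hV.fromSpec ⁻¹' closedPoints X := by
    rw [hV.fromSpec.isOpenEmbedding.preimage_closedPoints]; exact hq2
  have hx : IsClosed ({hV.fromSpec q} : Set X) := hq3
  have hxV : hV.fromSpec q ∈ V := by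
    have : hV.fromSpec q ∈ Set.range hV.fromSpec := ⟨q, rfl⟩
    rw [hV.range_fromSpec] at this
    exact this
  have hq4 : hV.primeIdealOf ⟨hV.fromSpec q, hxV⟩ = q := by
    apply hV.fromSpec.isOpenEmbedding.injective
    rw [hV.fromSpec_primeIdealOf]
  have H2 := H _ hx
  change Algebra.IsUnramifiedAt Γ(Y, U) q.asIdeal
  rw [← hq4]
  let p := (hU.primeIdealOf ⟨f (hV.fromSpec q), e hxV⟩).asIdeal
  let q' := (hV.primeIdealOf ⟨hV.fromSpec q, hxV⟩).asIdeal
  have : q'.LiesOver p :=
    ⟨congr($(IsAffineOpen.comap_primeIdealOf_appLE U hU V hV e hxV).1).symm⟩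
  let := Localization.AtPrime.algebraOfLiesOver p q'
  have hun' : Algebra.FormallyUnramified (Localization.AtPrime p) (Localization.AtPrime q') := by
    rw [← RingHom.formallyUnramified_algebraMap]
    exact (RingHom.FormallyUnramified.respectsIso.arrow_mk_iso_iff
      (IsAffineOpen.arrowStalkMapIso f U hU V hV e hxV)).mp H2
  exact Algebra.FormallyUnramified.comp Γ(Y, U) (Localization.AtPrime p) (Localization.AtPrime q')


/-- Nakayama: an ideal of a Noetherian local ring which together with `m²` generates `m` is `m` -/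
theorem eq_maximalIdeal_of_sup_sq_eq {S : Type*} [CommRing S] [IsLocalRing S] [IsNoetherianRing S]
    (I : Ideal S) (hI : I ≤ maximalIdeal S) (h : I ⊔ maximalIdeal S ^ 2 = maximalIdeal S) :
    I = maximalIdeal S := by
  refine le_antisymm hI ?_
  refine Submodule.le_of_le_smul_of_le_jacobson_bot (I := maximalIdeal S)
    (IsNoetherian.noetherian _) (IsLocalRing.maximalIdeal_le_jacobson ⊥) ?_
  rw [smul_eq_mul, ← pow_two, h]

section Sections

open Groth.Agent.Lib.Helper10.GaloisOrbit

variable {k : Type u} [Field k] (sX : X ⟶ Spec (CommRingCat.of k))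

/-- data of a section `Spec k ⟶ X` -/
theorem section_aux (x : X) (φ : X.residueField x ⟶ CommRingCat.of k)
    (ha : (Spec.map φ ≫ X.fromSpecResidueField x) ≫ sX = 𝟙 _) :
    resHom k sX x ≫ φ = 𝟙 _ ∧ ∀ t, (resHom k sX x).hom (φ.hom t) = t := by
  have h1 : resHom k sX x ≫ φ = 𝟙 _ := by
    apply Spec.map_injective
    rw [Spec.map_comp, map_resHom, Spec.map_id, ← Category.assoc]
    exact ha
  refine ⟨h1, fun t => ?_⟩
  apply φ.hom.injective
  change (resHom k sX x ≫ φ).hom (φ.hom t) = _
  rw [h1]
  rfl

/-- two sections of a `k`-scheme through the same point are equal -/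
theorem section_ext (a b : Spec (CommRingCat.of k) ⟶ X) (ha : a ≫ sX = 𝟙 _) (hb : b ≫ sX = 𝟙 _)
    (h : a (closedPoint k) = b (closedPoint k)) : a = b := by
  obtain ⟨⟨x1, φ1⟩, rfl⟩ := (Scheme.SpecToEquivOfField k X).symm.surjective a
  obtain ⟨⟨x2, φ2⟩, rfl⟩ := (Scheme.SpecToEquivOfField k X).symm.surjective b
  have hx : x1 = x2 := by simpa [Scheme.SpecToEquivOfField] using h
  subst hx
  obtain ⟨h1, h1'⟩ := section_aux sX x1 φ1 ha
  obtain ⟨h2, h2'⟩ := section_aux sX x1 φ2 hb
  have : φ1 = φ2 := by
    ext t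
    have e2 : φ2.hom ((resHom k sX x1).hom (φ1.hom t)) = φ1.hom t := by
      change (resHom k sX x1 ≫ φ2).hom (φ1.hom t) = _
      rw [h2]; rfl
    rw [h1'] at e2
    exact e2.symm
  rw [this]

/-- the image of a section of a scheme locally of finite type over a field is a closed point -/
theorem isClosed_of_section [LocallyOfFiniteType sX] (a : Spec (CommRingCat.of k) ⟶ X)
    (ha : a ≫ sX = 𝟙 _) : IsClosed ({a (closedPoint k)} : Set X) := by
  haveI : JacobsonSpace X := LocallyOfFiniteType.jacobsonSpace sX
  obtain ⟨⟨x, φ⟩, rfl⟩ := (Scheme.SpecToEquivOfField k X).symm.surjective a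
  have hx : (Spec.map φ ≫ X.fromSpecResidueField x) (closedPoint k) = x := by
    simp
  change IsClosed ({(Spec.map φ ≫ X.fromSpecResidueField x) (closedPoint k)} : Set X)
  rw [hx, isClosed_singleton_iff_locallyOfFiniteType]
  obtain ⟨h1, h1'⟩ := section_aux sX x φ ha
  have hb : Function.Bijective (resHom k sX x).hom :=
    ⟨(resHom k sX x).hom.injective, fun t => ⟨φ.hom t, h1' t⟩⟩
  haveI : IsIso (resHom k sX x) := by
    rw [ConcreteCategory.isIso_iff_bijective]; exact hb
  haveI : LocallyOfFiniteType (X.fromSpecResidueField x ≫ sX) := by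
    rw [← map_resHom]; infer_instance
  exact locallyOfFiniteType_of_comp (X.fromSpecResidueField x) sX

end Sections


/-- **Closed immersion criterion via points and tangent vectors** (case `K = k` algebraically
closed). -/
theorem isClosedImmersion_of_tangent (k : Type u) [Field k] [IsAlgClosed k]
    (f : X ⟶ Y) (q : Y ⟶ Spec (CommRingCat.of k)) [LocallyOfFiniteType q]
    [LocallyOfFiniteType (f ≫ q)] [IsProper f]
    (hinj : Set.InjOn f.base {x : X | IsClosed ({x} : Set X)})
    (hT : ∀ x : X, IsClosed ({x} : Set X) →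
      Ideal.map (f.stalkMap x).hom (maximalIdeal (Y.presheaf.stalk (f.base x))) ⊔
        maximalIdeal (X.presheaf.stalk x) ^ 2 = maximalIdeal (X.presheaf.stalk x)) :
    IsClosedImmersion f := by
  rw [IsClosedImmersion.iff_isProper_and_mono]
  refine ⟨inferInstance, ?_⟩
  haveI : LocallyOfFiniteType f := locallyOfFiniteType_of_comp f q
  haveI : JacobsonSpace X := LocallyOfFiniteType.jacobsonSpace (f ≫ q)
  haveI : IsLocallyNoetherian X := LocallyOfFiniteType.isLocallyNoetherian (f ≫ q)
  have hunr : FormallyUnramified f := by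
    refine formallyUnramified_of_stalkMap_closedPoints f (fun x hx => ?_)
    refine Groth.Agent.Lib.Helper6.EtCrit.formallyUnramified_stalkMap_of_map_maximalIdeal k
      (f ≫ q) q f rfl x hx ?_
    refine eq_maximalIdeal_of_sup_sq_eq _ ?_ (hT x hx)
    exact ((local_hom_TFAE (f.stalkMap x).hom).out 0 2 rfl rfl).mp inferInstance
  have hsurj : Surjective (pullback.diagonal f) :=
    Groth.Agent.Lib.Helper6.InjOpen.surjective_diagonal_of_injective_on_points (f ≫ q) q f rfl
      (fun a b ha hb hab => section_ext (f ≫ q) a b ha hb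
        (hinj (isClosed_of_section (f ≫ q) a ha) (isClosed_of_section (f ≫ q) b hb)
          (by rw [← Scheme.Hom.comp_apply, ← Scheme.Hom.comp_apply, hab])))
  haveI : IsOpenImmersion (pullback.diagonal f) := inferInstance
  haveI : IsIso (pullback.diagonal f) := by
    apply isIso_of_isOpenImmersion_of_opensRange_eq_top
    apply TopologicalSpace.Opens.ext
    rw [Scheme.Hom.coe_opensRange, TopologicalSpace.Opens.coe_top, Set.range_eq_univ]
    exact hsurj.surj
  exact (pullback.isIso_diagonal_iff f).mp inferInstance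

end Groth.Agent.Lib.Helper6.TanCI
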