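import Groth.Prelude
import Mathlib

open CategoryTheory CategoryTheory.Limits AlgebraicGeometry TensorProduct

namespace Groth.Agent.Lib.Helper6

universe u

theorem range_comap_tensorProduct {A A' A'' : Type u} [CommRing A] [CommRing A'] [CommRing A'']
    [Algebra A A'] [Algebra A A''] :
    Set.range (PrimeSpectrum.comap (algebraMap A (A' ⊗[A] A''))) =
      Set.range (PrimeSpectrum.comap (algebraMap A A')) ∩
        Set.range (PrimeSpectrum.comap (algebraMap A A'')) := by
  have h1 := Scheme.Pullback.range_fst_comp
    (Spec.map (CommRingCat.ofHom (algebraMap A A'))) (Spec.map (CommRingCat.ofHom (algebraMap A A'')))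
  have h2 : Spec.map (CommRingCat.ofHom (algebraMap A (A' ⊗[A] A''))) =
      (pullbackSpecIso A A' A'').inv ≫ pullback.fst _ _ ≫
        Spec.map (CommRingCat.ofHom (algebraMap A A')) := by
    rw [← Category.assoc, pullbackSpecIso_inv_fst', ← Spec.map_comp, ← CommRingCat.ofHom_comp,
      ← IsScalarTower.algebraMap_eq]
  have h3 : Set.range (Spec.map (CommRingCat.ofHom (algebraMap A (A' ⊗[A] A'')))) =
      Set.range (pullback.fst (Spec.map (CommRingCat.ofHom (algebraMap A A')))
        (Spec.map (CommRingCat.ofHom (algebraMap A A''))) ≫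
        Spec.map (CommRingCat.ofHom (algebraMap A A'))) := by
    rw [h2, Scheme.Hom.comp_base, TopCat.coe_comp, Set.range_comp,
      Set.range_eq_univ.mpr (pullbackSpecIso A A' A'').inv.surjective, Set.image_univ]
  rw [h1] at h3
  exact h3

end Groth.Agent.Lib.Helper6
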