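import Mathlib
import Groth.Agent.Lib.Helper6Tower

set_option autoImplicit false
universe u

namespace Groth.Agent.Lib.Helper6.Tower

open TensorProduct KaehlerDifferential

theorem isEtaleAt_mvPolynomial_iff (A C : Type u) [CommRing A] [CommRing C]
    [Algebra A C] [Algebra.Smooth A C] (r : ℕ) [Algebra (MvPolynomial (Fin r) A) C]
    [IsScalarTower A (MvPolynomial (Fin r) A) C] (q : Ideal C) [q.IsPrime] :
    Algebra.IsEtaleAt (MvPolynomial (Fin r) A) q ↔
      LinearIndependent (Localization.AtPrime q)
          (fun i : Fin r => KaehlerDifferential.D A (Localization.AtPrime q)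
            (algebraMap C (Localization.AtPrime q) (algebraMap (MvPolynomial (Fin r) A) C (MvPolynomial.X i)))) ∧
        Submodule.span (Localization.AtPrime q)
          (Set.range fun i : Fin r => KaehlerDifferential.D A (Localization.AtPrime q)
            (algebraMap C (Localization.AtPrime q) (algebraMap (MvPolynomial (Fin r) A) C (MvPolynomial.X i)))) = ⊤ := by
  haveI : Algebra.FormallySmooth A (Localization.AtPrime q) := Algebra.FormallySmooth.comp A C _
  haveI : IsScalarTower A (MvPolynomial (Fin r) A) (Localization.AtPrime q) := by
    refine IsScalarTower.of_algebraMap_eq (fun a => ?_)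
    rw [IsScalarTower.algebraMap_apply A C (Localization.AtPrime q),
      IsScalarTower.algebraMap_apply (MvPolynomial (Fin r) A) C (Localization.AtPrime q),
      ← IsScalarTower.algebraMap_apply A (MvPolynomial (Fin r) A) C]
  rw [show Algebra.IsEtaleAt (MvPolynomial (Fin r) A) q =
    Algebra.FormallyEtale (MvPolynomial (Fin r) A) (Localization.AtPrime q) from rfl,
    formallyEtale_iff_bijective A (MvPolynomial (Fin r) A) (Localization.AtPrime q)]
  let b := (KaehlerDifferential.mvPolynomialBasis A (Fin r)).baseChange (Localization.AtPrime q)
  have hb : ∀ i, mapBaseChange A (MvPolynomial (Fin r) A) (Localization.AtPrime q) (b i) =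
      KaehlerDifferential.D A (Localization.AtPrime q)
        (algebraMap C (Localization.AtPrime q)
          (algebraMap (MvPolynomial (Fin r) A) C (MvPolynomial.X i))) := by
    intro i
    simp only [b, Module.Basis.baseChange_apply, KaehlerDifferential.mvPolynomialBasis_apply,
      mapBaseChange_tmul, KaehlerDifferential.map_D, one_smul]
    rw [← IsScalarTower.algebraMap_apply]
  constructor
  · intro hbij
    let e := LinearEquiv.ofBijective _ hbij
    have h1 := (b.map e).linearIndependent
    have h2 := (b.map e).span_eq
    have heq : (⇑(b.map e)) = fun i : Fin r => KaehlerDifferential.D A (Localization.AtPrime q)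
        (algebraMap C (Localization.AtPrime q)
          (algebraMap (MvPolynomial (Fin r) A) C (MvPolynomial.X i))) := by
      funext i
      rw [Module.Basis.map_apply]
      exact hb i
    rw [heq] at h1 h2
    exact ⟨h1, h2⟩
  · rintro ⟨hli, hsp⟩
    let b' := Module.Basis.mk hli (by rw [hsp])
    let e := b.equiv b' (Equiv.refl _)
    have : mapBaseChange A (MvPolynomial (Fin r) A) (Localization.AtPrime q) = e.toLinearMap := by
      apply b.ext
      intro i
      rw [hb i, LinearEquiv.coe_coe, Module.Basis.equiv_apply, Equiv.refl_apply,
        Module.Basis.mk_apply]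
    rw [this]
    exact e.bijective

end Groth.Agent.Lib.Helper6.Tower
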