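import Mathlib
import Groth.Agent.Lib.Helper6Tower

set_option autoImplicit false
universe u
open TensorProduct KaehlerDifferential

namespace Groth.Agent.Lib.Helper6.TowerAt

section LemmaX

variable {C : Type u} [CommRing C] (T : Type u) [CommRing T] [Algebra C T]
  (κ : Type u) [CommRing κ] [Algebra C κ] [Algebra T κ] [IsScalarTower C T κ]
  {M N : Type u} [AddCommGroup M] [Module C M] [AddCommGroup N] [Module C N]

/-- `κ ⊗[T] (T ⊗[C] f)` is injective iff `κ ⊗[C] f` is. -/
theorem lTensor_baseChange_injective_iff (f : M →ₗ[C] N) :
    Function.Injective ((f.baseChange T).lTensor κ) ↔ Function.Injective (f.lTensor κ) := by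
  let eM := TensorProduct.AlgebraTensorModule.cancelBaseChange C T κ κ M
  let eN := TensorProduct.AlgebraTensorModule.cancelBaseChange C T κ κ N
  have hsq : ∀ x, eN ((f.baseChange T).lTensor κ x) = f.lTensor κ (eM x) := by
    intro x
    induction x using TensorProduct.induction_on with
    | zero => simp
    | add x y hx hy => simp only [map_add, hx, hy]
    | tmul a y =>
      induction y using TensorProduct.induction_on with
      | zero => simp
      | add x y hx hy => simp only [map_add, tmul_add, hx, hy]
      | tmul t m => simp [eM, eN]
  constructor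
  · intro h x y hxy
    obtain ⟨x, rfl⟩ := eM.surjective x
    obtain ⟨y, rfl⟩ := eM.surjective y
    rw [← hsq, ← hsq] at hxy
    rw [h (eN.injective hxy)]
  · intro h x y hxy
    apply eM.injective
    apply h
    rw [← hsq, ← hsq, hxy]

end LemmaX

section Main

variable (A B C : Type u) [CommRing A] [CommRing B] [CommRing C] [Algebra A B] [Algebra B C]
  [Algebra A C] [IsScalarTower A B C]

theorem map_map (T : Type u) [CommRing T] [Algebra C T] [Algebra B T] [Algebra A T]
    [IsScalarTower B C T] [IsScalarTower A C T] [IsScalarTower A B T] (m : Ω[B⁄A]) :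
    KaehlerDifferential.map A A C T (KaehlerDifferential.map A A B C m) =
      KaehlerDifferential.map A A B T m := by
  have hm : m ∈ Submodule.span B (Set.range <| KaehlerDifferential.D A B) := by
    rw [KaehlerDifferential.span_range_derivation]; trivial
  refine Submodule.span_induction ?_ ?_ ?_ ?_ hm
  · rintro _ ⟨b, rfl⟩
    simp only [KaehlerDifferential.map_D]
    rw [← IsScalarTower.algebraMap_apply]
  · simp
  · intro x y _ _ hx hy
    simp only [map_add, hx, hy]
  · intro b x _ hx
    rw [map_smul, LinearMap.map_smul_of_tower, map_smul, hx]

/-- The square comparing `mapBaseChange A B C` base changed to a formally étale `C`-algebra `T`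
with `mapBaseChange A B T`. -/
theorem mapBaseChange_square (T : Type u) [CommRing T] [Algebra C T] [Algebra B T] [Algebra A T]
    [IsScalarTower B C T] [IsScalarTower A C T] [IsScalarTower A B T]
    [Algebra.FormallyEtale C T] (x : T ⊗[C] (C ⊗[B] Ω[B⁄A])) :
    tensorKaehlerEquivOfFormallyEtale A C T ((mapBaseChange A B C).baseChange T x) =
      mapBaseChange A B T (TensorProduct.AlgebraTensorModule.cancelBaseChange B C T T Ω[B⁄A] x) := by
  induction x using TensorProduct.induction_on with
  | zero => simp
  | add x y hx hy => simp only [map_add, hx, hy]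
  | tmul t y =>
    induction y using TensorProduct.induction_on with
    | zero => simp
    | add x y hx hy => simp only [map_add, tmul_add, hx, hy]
    | tmul c m =>
      simp only [LinearMap.baseChange_tmul, mapBaseChange_tmul,
        TensorProduct.AlgebraTensorModule.cancelBaseChange_tmul]
      rw [tensorKaehlerEquivOfFormallyEtale_apply, mapBaseChange_tmul, map_smul, map_map,
        smul_comm, smul_assoc]

open Groth.Agent.Lib.Helper6.Tower in
theorem isSmoothAt_iff_injective_lTensor [Algebra.FinitePresentation A B]
    [Algebra.FinitePresentation A C] (q : Ideal C) [q.IsPrime] (hC : Algebra.IsSmoothAt A q) :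
    Algebra.IsSmoothAt B q ↔
      Function.Injective ((mapBaseChange A B C).lTensor q.ResidueField) := by
  haveI : Algebra.FormallySmooth A (Localization.AtPrime q) := hC
  haveI : Algebra.FormallyEtale C (Localization.AtPrime q) := .of_isLocalization q.primeCompl
  haveI : Module.Free (Localization.AtPrime q) Ω[(Localization.AtPrime q)⁄A] :=
    Module.free_of_flat_of_isLocalRing
  change Algebra.FormallySmooth B (Localization.AtPrime q) ↔ _
  rw [formallySmooth_iff_exists_retraction A B (Localization.AtPrime q),
    IsLocalRing.split_injective_iff_lTensor_residueField_injective,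
    ← lTensor_baseChange_injective_iff (Localization.AtPrime q) q.ResidueField
      (mapBaseChange A B C)]
  let eM := TensorProduct.AlgebraTensorModule.cancelBaseChange B C (Localization.AtPrime q)
    (Localization.AtPrime q) Ω[B⁄A]
  let eN := tensorKaehlerEquivOfFormallyEtale A C (Localization.AtPrime q)
  have hcomp : (mapBaseChange A B (Localization.AtPrime q)) ∘ₗ eM.toLinearMap =
      eN.toLinearMap ∘ₗ ((mapBaseChange A B C).baseChange (Localization.AtPrime q)) :=
    LinearMap.ext fun x => (mapBaseChange_square A B C (Localization.AtPrime q) x).symm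
  have h2 := congrArg (LinearMap.lTensor q.ResidueField) hcomp
  rw [LinearMap.lTensor_comp, LinearMap.lTensor_comp] at h2
  have h3 : ∀ x, (mapBaseChange A B (Localization.AtPrime q)).lTensor q.ResidueField
      (eM.lTensor q.ResidueField x) = eN.lTensor q.ResidueField
        ((((mapBaseChange A B C).baseChange (Localization.AtPrime q))).lTensor q.ResidueField x) :=
    fun x => LinearMap.congr_fun h2 x
  constructor
  · intro h x y hxy
    apply (eM.lTensor q.ResidueField).injective
    apply h
    rw [h3, h3, hxy]
  · intro h x y hxy
    obtain ⟨x, rfl⟩ := (eM.lTensor q.ResidueField).surjective x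
    obtain ⟨y, rfl⟩ := (eM.lTensor q.ResidueField).surjective y
    rw [h3, h3] at hxy
    rw [h ((eN.lTensor q.ResidueField).injective hxy)]

end Main

end Groth.Agent.Lib.Helper6.TowerAt
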