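import Groth.Agent.Lib.Helper6SSVanishB

/-!
# Twisting bundles on a curve by line bundles: ranks, sub-bundles and (semi)stability (helper6)
-/

set_option autoImplicit false
set_option linter.style.haveILetI false
universe u
open CategoryTheory Limits AlgebraicGeometry Opposite TopologicalSpace
open scoped TensorProduct

namespace Groth.Agent.Lib.Helper6.TwistSS

open Groth.Agent.Lib.Helper4.CurveBun Groth.Agent.Lib.Helper4.DegAdd Groth.Agent.Lib.Helper4.CurveRR
  Groth.Agent.Lib.Helper4.Dev Groth.Agent.Lib.Helper27GlobGenPn Groth.Agent.Lib.Helper23.SecTw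

variable (k : Type u) [Field k] (X : Scheme.{u}) [X.Over (Spec (CommRingCat.of k))]
  [IsIntegral X] [IsProper (X ↘ (Spec (CommRingCat.of k)))]

include k in
/-- the tensor product of two bundles on a curve is a bundle of the product rank -/
theorem isFinLocFreeOfRank_tensorMod (hpid : PIDStalks X) (F D : X.Modules) (s d : ℕ)
    (hF : FlatMod.IsFinLocFreeOfRank s F) (hD : FlatMod.IsFinLocFreeOfRank d D) :
    FlatMod.IsFinLocFreeOfRank (s * d) (CohB1.tensorMod F D) := by
  haveI : IsLocallyNoetherian X := isLocallyNoetherian_of_proper k X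
  have cF := isCoh_of_isFinLocFreeOfRank F s hF
  have cFD : Coh.IsCoh (CohB1.tensorMod F D) :=
    Groth.Agent.Lib.Helper4.CurveChi.isCoh_tensorMod_locFree F D cF d hD
  have hfree : ∀ y : X, Module.Free (X.presheaf.stalk y) ((CohB1.tensorMod F D).presheaf.stalk y) ∧
      Module.finrank (X.presheaf.stalk y) ((CohB1.tensorMod F D).presheaf.stalk y) = s * d := by
    intro y
    obtain ⟨f1, f2, f3⟩ := Groth.Agent.Lib.Helper4.KTensor.stalk_of_isFinLocFreeOfRank F s hF y
    obtain ⟨g1, g2, g3⟩ := Groth.Agent.Lib.Helper4.KTensor.stalk_of_isFinLocFreeOfRank D d hD y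
    haveI := f1
    haveI := f2
    haveI := g1
    haveI := g2
    let e := Groth.Agent.Lib.Helper4.KTensor.stalkTensorEquiv F D y
    refine ⟨Module.Free.of_equiv e.symm, ?_⟩
    rw [e.finrank_eq, Module.finrank_tensorProduct, f3, g3]
  have htf : TorSh.IsTorsionFree (CohB1.tensorMod F D) := by
    intro y
    haveI := (hfree y).1
    infer_instance
  obtain ⟨r', hr'⟩ := Groth.Agent.Lib.Helper4.CurveSat.isFinLocFreeOfRank_of_torsionFree hpid cFD htf
  have h1 := (Groth.Agent.Lib.Helper4.KTensor.stalk_of_isFinLocFreeOfRank _ r' hr' (genericPoint X)).2.2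
  rw [(hfree (genericPoint X)).2] at h1
  rw [h1]
  exact hr'

/-- a sub-bundle `G` of `N ⊗ E` (`N` invertible) gives the sub-bundle `G ⊗ N^∨` of `E` -/
theorem exists_sub_of_twist (hpid : PIDStalks X) (hdim : topologicalKrullDim X = 1) (N : X.Modules)
    (hNinv : PicF.IsInvertible N) (E : X.Modules) (G : X.Modules) (r' : ℕ)
    (hG : FlatMod.IsFinLocFreeOfRank r' G) (i : G ⟶ CohB1.tensorMod N E) [Mono i] :
    ∃ (G' : X.Modules) (i' : G' ⟶ E), Mono i' ∧ FlatMod.IsFinLocFreeOfRank r' G' ∧
      Curv2.deg k X G' r' = Curv2.deg k X G r' - (r' : ℤ) * Curv2.deg k X N 1 := by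
  have hN1 := isFinLocFreeOfRank_one_of_isInvertible N hNinv
  have hDinv := Groth.Agent.Lib.Helper23.InvDual.isInvertible_dual N hNinv
  obtain ⟨e₀⟩ := Groth.Agent.Lib.Helper23.InvDual.nonempty_tensorMod_dual_iso N hNinv
  have hD1 := isFinLocFreeOfRank_one_of_isInvertible _ hDinv
  have hDflat := Groth.Agent.Lib.Helper4.CurveChi.isFlat_of_isFinLocFreeOfRank _ 1 hD1
  obtain ⟨ν, -⟩ := Groth.Agent.Lib.Helper27LinRes.exists_untwist N (RefHull.dual N) e₀
  have hdND := Groth.Agent.Lib.Helper4.CurveDegT.deg_tensor k X hdim.le 1 1 N (RefHull.dual N) hN1 hD1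
  rw [Groth.Agent.Lib.Helper4.CurveSSAb.deg_congr_iso k X e₀ (1 * 1)] at hdND
  have hdO : Curv2.deg k X (Coh.structureModule X) (1 * 1) = 0 := by
    unfold Curv2.deg
    push_cast
    ring
  rw [hdO] at hdND
  have hGD := isFinLocFreeOfRank_tensorMod k X hpid G (RefHull.dual N) r' 1 hG hD1
  rw [mul_one] at hGD
  have hdGD := Groth.Agent.Lib.Helper4.CurveDegT.deg_tensor k X hdim.le r' 1 G (RefHull.dual N) hG hD1
  haveI := Groth.Agent.Lib.Helper6.SimpleSub.mono_wl i (RefHull.dual N) hDflat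
  haveI : Mono (wl (Groth.Agent.Lib.Helper23.AmpleFam2.tensorBraid N E).hom (RefHull.dual N)) := by
    have : IsIso (wl (Groth.Agent.Lib.Helper23.AmpleFam2.tensorBraid N E).hom (RefHull.dual N)) :=
      (inferInstance : IsIso ((Groth.Agent.Lib.Helper27SerreVan.tw (RefHull.dual N)).map
        (Groth.Agent.Lib.Helper23.AmpleFam2.tensorBraid N E).hom))
    infer_instance
  refine ⟨CohB1.tensorMod G (RefHull.dual N),
    wl i (RefHull.dual N) ≫ wl (Groth.Agent.Lib.Helper23.AmpleFam2.tensorBraid N E).hom (RefHull.dual N) ≫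
      (ν E).hom, ?_, hGD, ?_⟩
  · exact mono_comp _ _
  · have : (r' * 1 : ℕ) = r' := mul_one r'
    rw [this] at hdGD
    rw [hdGD]
    push_cast at hdND ⊢
    linear_combination (-(r' : ℤ)) * hdND

/-- rank and degree of a twist `N ⊗ E` -/
theorem twist_rank_deg (hpid : PIDStalks X) (hdim : topologicalKrullDim X = 1) (N : X.Modules)
    (hNinv : PicF.IsInvertible N) (r : ℕ) (E : X.Modules) (hE : FlatMod.IsFinLocFreeOfRank r E) :
    FlatMod.IsFinLocFreeOfRank r (CohB1.tensorMod N E) ∧
      Curv2.deg k X (CohB1.tensorMod N E) r = Curv2.deg k X E r + (r : ℤ) * Curv2.deg k X N 1 := by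
  have hN1 := isFinLocFreeOfRank_one_of_isInvertible N hNinv
  have h1 := isFinLocFreeOfRank_tensorMod k X hpid N E 1 r hN1 hE
  have h2 := Groth.Agent.Lib.Helper4.CurveDegT.deg_tensor k X hdim.le 1 r N E hN1 hE
  rw [one_mul] at h1 h2
  refine ⟨h1, ?_⟩
  rw [h2]
  push_cast
  ring

/-- a twist of a semistable bundle by a line bundle is semistable -/
theorem twist_semistable (hpid : PIDStalks X) (hdim : topologicalKrullDim X = 1) (N : X.Modules)
    (hNinv : PicF.IsInvertible N) (r : ℕ) (E : X.Modules) (hE : FlatMod.IsFinLocFreeOfRank r E)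
    (hss : ModFun.IsSlopeSemistable k X E r) :
    ModFun.IsSlopeSemistable k X (CohB1.tensorMod N E) r := by
  intro G r' i hi hr' hG
  haveI := hi
  obtain ⟨G', i', hi', hG', hd⟩ := exists_sub_of_twist k X hpid hdim N hNinv E G r' hG i
  have h1 := hss G' r' i' hi' hr' hG'
  rw [(twist_rank_deg k X hpid hdim N hNinv r E hE).2, hd] at *
  nlinarith

/-- a twist of a stable bundle by a line bundle is stable -/
theorem twist_stable (hpid : PIDStalks X) (hdim : topologicalKrullDim X = 1) (N : X.Modules)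
    (hNinv : PicF.IsInvertible N) (r : ℕ) (E : X.Modules) (hE : FlatMod.IsFinLocFreeOfRank r E)
    (hst : ModFun.IsSlopeStable k X E r) :
    ModFun.IsSlopeStable k X (CohB1.tensorMod N E) r := by
  intro G r' i hi hr' hlt hG
  haveI := hi
  obtain ⟨G', i', hi', hG', hd⟩ := exists_sub_of_twist k X hpid hdim N hNinv E G r' hG i
  have h1 := hst G' r' i' hi' hr' hlt hG'
  rw [(twist_rank_deg k X hpid hdim N hNinv r E hE).2, hd] at *
  nlinarith

end Groth.Agent.Lib.Helper6.TwistSS
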