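import Mathlib
import Groth.Agent.Lib.Helper6ConnAB
import Groth.Agent.Lib.Helper6ConnE
import Groth.Agent.Lib.Helper6AnBound

/-!
# Elements of finitely generated `ℂ`-domains having roots of all orders are constant
-/

set_option autoImplicit false

open Polynomial Topology
open Groth.Agent.Lib.Helper6.ConnZ Groth.Agent.Lib.Helper6.ConnA

namespace Groth.Agent.Lib.Helper6.UnitA

/-- Nullstellensatz: maximal ideals of finitely generated `ℂ`-algebras are kernels of points -/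
lemma exists_algHom_ker_eq (R : Type*) [CommRing R] [Algebra ℂ R] [Algebra.FiniteType ℂ R]
    (m : Ideal R) [hm : m.IsMaximal] : ∃ ψ : R →ₐ[ℂ] ℂ, RingHom.ker (ψ : R →+* ℂ) = m := by
  letI := Ideal.Quotient.field m
  have hft' : Algebra.FiniteType ℂ (R ⧸ m) :=
    Algebra.FiniteType.of_surjective (Ideal.Quotient.mkₐ ℂ m) (Ideal.Quotient.mkₐ_surjective ℂ m)
  have hfin : Module.Finite ℂ (R ⧸ m) := finite_of_finite_type_of_isJacobsonRing ℂ _
  have hbij : Function.Bijective (algebraMap ℂ (R ⧸ m)) :=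
    IsAlgClosed.algebraMap_bijective_of_isIntegral
  let e : ℂ ≃ₐ[ℂ] (R ⧸ m) := AlgEquiv.ofBijective (Algebra.ofId ℂ (R ⧸ m)) hbij
  refine ⟨(e.symm : (R ⧸ m) →ₐ[ℂ] ℂ).comp (Ideal.Quotient.mkₐ ℂ m), ?_⟩
  ext a
  rw [RingHom.mem_ker]
  change e.symm (Ideal.Quotient.mk m a) = 0 ↔ _
  rw [map_eq_zero_iff _ e.symm.injective, Ideal.Quotient.eq_zero_iff_mem]

section param

variable {n : ℕ} {R : Type*} [CommRing R] [IsDomain R] [Algebra ℂ R] [Algebra.FiniteType ℂ R]
  [Algebra (MvPolynomial (Fin n) ℂ) R] [IsScalarTower ℂ (MvPolynomial (Fin n) ℂ) R]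
  [FaithfulSMul (MvPolynomial (Fin n) ℂ) R] [Module.Finite (MvPolynomial (Fin n) ℂ) R]

/-- lying over for points: every root of the specialised minimal polynomial of `v` is the value
of `v` at a point of `R` over the given point of affine space -/
theorem exists_algHom_of_root (v : R) (z : (Fin n → ℂ) × ℂ)
    (hz : ee z (minpoly (MvPolynomial (Fin n) ℂ) v) = 0) :
    ∃ ψ : R →ₐ[ℂ] ℂ, (∀ a : MvPolynomial (Fin n) ℂ,
        ψ (algebraMap (MvPolynomial (Fin n) ℂ) R a) = MvPolynomial.eval z.1 a) ∧ ψ v = z.2 := by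
  classical
  haveI : Algebra.IsIntegral (MvPolynomial (Fin n) ℂ) R := Algebra.IsIntegral.of_finite _ R
  have hv : IsIntegral (MvPolynomial (Fin n) ℂ) v := Algebra.IsIntegral.isIntegral v
  set θ : (MvPolynomial (Fin n) ℂ)[X] →+* ℂ := ee z with hθ
  have hθC : ∀ c : ℂ, θ (C (MvPolynomial.C c)) = c := by
    intro c
    rw [hθ, ee_C, MvPolynomial.eval_C]
  have hθsurj : Function.Surjective θ := fun c => ⟨_, hθC c⟩
  haveI hmax : (RingHom.ker θ).IsMaximal := RingHom.ker_isMaximal_of_surjective θ hθsurj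
  letI : Algebra (MvPolynomial (Fin n) ℂ)[X] R := (aeval v : _ →ₐ[MvPolynomial (Fin n) ℂ] R).toRingHom.toAlgebra
  have halg : ∀ P : (MvPolynomial (Fin n) ℂ)[X],
      algebraMap (MvPolynomial (Fin n) ℂ)[X] R P = aeval v P := fun P => rfl
  haveI : IsScalarTower (MvPolynomial (Fin n) ℂ) (MvPolynomial (Fin n) ℂ)[X] R :=
    IsScalarTower.of_algebraMap_eq fun a => by
      rw [halg, Polynomial.algebraMap_apply, aeval_C]; rfl
  haveI : Algebra.IsIntegral (MvPolynomial (Fin n) ℂ)[X] R :=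
    ⟨fun r => (Algebra.IsIntegral.isIntegral (R := MvPolynomial (Fin n) ℂ) r).tower_top⟩
  have hker : RingHom.ker (algebraMap (MvPolynomial (Fin n) ℂ)[X] R) ≤ RingHom.ker θ := by
    intro P hP
    rw [RingHom.mem_ker, halg] at hP
    obtain ⟨Q, hQ⟩ := minpoly.isIntegrallyClosed_dvd hv hP
    rw [RingHom.mem_ker, hQ, map_mul, hz, zero_mul]
  obtain ⟨𝔮, h𝔮max, h𝔮⟩ := Ideal.exists_ideal_over_maximal_of_isIntegral (S := R) (RingHom.ker θ) hker
  obtain ⟨ψ, hψ⟩ := exists_algHom_ker_eq R 𝔮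
  have key : ∀ P : (MvPolynomial (Fin n) ℂ)[X], ψ (aeval v P) = θ P := by
    intro P
    have h1 : P - C (MvPolynomial.C (θ P)) ∈ RingHom.ker θ := by
      rw [RingHom.mem_ker, map_sub, hθC, sub_self]
    rw [← h𝔮, Ideal.mem_comap, halg, ← hψ, RingHom.mem_ker] at h1
    change ψ (aeval v (P - C (MvPolynomial.C (θ P)))) = 0 at h1
    rw [map_sub, map_sub, sub_eq_zero, aeval_C, ← MvPolynomial.algebraMap_eq,
      ← IsScalarTower.algebraMap_apply, AlgHom.commutes] at h1
    exact h1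
  refine ⟨ψ, fun a => ?_, ?_⟩
  · have := key (C a)
    rw [aeval_C, hθ, ee_C] at this
    exact this
  · have := key X
    rw [aeval_X] at this
    rw [this, hθ]
    unfold ee
    simp


/-- coordinates of a point -/
noncomputable def coord (n : ℕ) [Algebra (MvPolynomial (Fin n) ℂ) R] (ψ : R →ₐ[ℂ] ℂ) : Fin n → ℂ :=
  fun i => ψ (algebraMap (MvPolynomial (Fin n) ℂ) R (MvPolynomial.X i))

omit [IsDomain R] [Algebra.FiniteType ℂ R] [FaithfulSMul (MvPolynomial (Fin n) ℂ) R]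
  [Module.Finite (MvPolynomial (Fin n) ℂ) R] in
lemma eval_coord (ψ : R →ₐ[ℂ] ℂ) (a : MvPolynomial (Fin n) ℂ) :
    MvPolynomial.eval (coord n ψ) a = ψ (algebraMap (MvPolynomial (Fin n) ℂ) R a) := by
  have : (MvPolynomial.aeval (coord n ψ) : MvPolynomial (Fin n) ℂ →ₐ[ℂ] ℂ) =
      ψ.comp (IsScalarTower.toAlgHom ℂ (MvPolynomial (Fin n) ℂ) R) := by
    apply MvPolynomial.algHom_ext
    intro i
    simp [coord]
  have h2 := congrArg (fun f => f a) this
  simpa [MvPolynomial.coe_aeval_eq_eval] using h2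

omit [IsDomain R] [Algebra.FiniteType ℂ R] [FaithfulSMul (MvPolynomial (Fin n) ℂ) R]
  [Module.Finite (MvPolynomial (Fin n) ℂ) R] in
lemma ee_coord (ψ : R →ₐ[ℂ] ℂ) (g : R) (P : (MvPolynomial (Fin n) ℂ)[X]) :
    ee (coord n ψ, ψ g) P = ψ (aeval g P) := by
  have h3 := Polynomial.hom_eval₂ P (algebraMap (MvPolynomial (Fin n) ℂ) R) (ψ : R →+* ℂ) g
  unfold ee
  rw [coe_eval₂RingHom, aeval_def]
  change _ = (ψ : R →+* ℂ) _
  rw [h3]
  congr 1
  exact RingHom.ext fun a => eval_coord ψ a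

omit [Algebra.FiniteType ℂ R] [FaithfulSMul (MvPolynomial (Fin n) ℂ) R] in
/-- values of a fixed element at points grow at most polynomially in the coordinates -/
theorem exists_bound_value (f : R) :
    ∃ (C : ℝ) (M : ℕ), 0 ≤ C ∧ ∀ ψ : R →ₐ[ℂ] ℂ, ‖ψ f‖ ≤ C * (1 + ‖coord n ψ‖) ^ M := by
  haveI : Algebra.IsIntegral (MvPolynomial (Fin n) ℂ) R := Algebra.IsIntegral.of_finite _ R
  have hf : IsIntegral (MvPolynomial (Fin n) ℂ) f := Algebra.IsIntegral.isIntegral f
  set μ := minpoly (MvPolynomial (Fin n) ℂ) f with hμ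
  have hμm : μ.Monic := minpoly.monic hf
  obtain ⟨C₁, M₁, hC₁, h₁⟩ := exists_bound_sum_eval (Finset.range μ.natDegree) (fun j => μ.coeff j)
  refine ⟨1 + C₁, M₁, by positivity, fun ψ => ?_⟩
  have hroot : (μ.map (MvPolynomial.eval (coord n ψ))).eval (ψ f) = 0 := by
    have := ee_coord ψ f μ
    rw [ee_apply] at this
    rw [this, hμ, minpoly.aeval, map_zero]
  have h2 := (AnBound.norm_root_lt μ hμm (MvPolynomial.eval (coord n ψ)) (ψ f) hroot).le
  have h1v : (1 : ℝ) ≤ 1 + ‖coord n ψ‖ := by linarith [norm_nonneg (coord n ψ)]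
  have h3 : (1 : ℝ) ≤ (1 + ‖coord n ψ‖) ^ M₁ := one_le_pow₀ h1v
  calc ‖ψ f‖ ≤ 1 + ∑ j ∈ Finset.range μ.natDegree, ‖MvPolynomial.eval (coord n ψ) (μ.coeff j)‖ := h2
    _ ≤ 1 + C₁ * (1 + ‖coord n ψ‖) ^ M₁ := by linarith [h₁ (coord n ψ)]
    _ ≤ (1 + C₁) * (1 + ‖coord n ψ‖) ^ M₁ := by nlinarith

/-- bound on the coefficients of the minimal polynomial of a `k`-th root -/
theorem norm_coeff_pow_le (f v : R) (k : ℕ) (hk : 0 < k) (hvk : v ^ k = f) (C : ℝ) (M : ℕ)
    (hC : 0 ≤ C) (hb : ∀ ψ : R →ₐ[ℂ] ℂ, ‖ψ f‖ ≤ C * (1 + ‖coord n ψ‖) ^ M) (x : Fin n → ℂ) (j : ℕ) :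
    ‖MvPolynomial.eval x ((minpoly (MvPolynomial (Fin n) ℂ) v).coeff j)‖ ^ k ≤
      (C * (1 + ‖x‖) ^ M) ^ ((minpoly (MvPolynomial (Fin n) ℂ) v).natDegree - j) *
        ((minpoly (MvPolynomial (Fin n) ℂ) v).natDegree.choose j : ℝ) ^ k := by
  haveI : Algebra.IsIntegral (MvPolynomial (Fin n) ℂ) R := Algebra.IsIntegral.of_finite _ R
  have hv : IsIntegral (MvPolynomial (Fin n) ℂ) v := Algebra.IsIntegral.isIntegral v
  set μ := minpoly (MvPolynomial (Fin n) ℂ) v with hμ
  have hμm : μ.Monic := minpoly.monic hv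
  set D : ℝ := C * (1 + ‖x‖) ^ M with hD
  have hD0 : 0 ≤ D := by positivity
  set B : ℝ := D ^ ((k : ℝ)⁻¹) with hB
  have hB0 : 0 ≤ B := Real.rpow_nonneg hD0 _
  have hBk : B ^ k = D := Real.rpow_inv_natCast_pow hD0 hk.ne'
  have hroots : ∀ t ∈ (μ.map (MvPolynomial.eval x)).roots, ‖t‖ ≤ B := by
    intro t ht
    have ht0 : (μ.map (MvPolynomial.eval x)).eval t = 0 := (Polynomial.mem_roots'.1 ht).2
    obtain ⟨ψ, hψa, hψv⟩ := exists_algHom_of_root v (x, t) (by rw [ee_apply]; exact ht0)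
    have hcoord : coord n ψ = x := by
      funext i
      simp only [coord]
      rw [hψa]
      simp
    have h1 : ‖t‖ ^ k ≤ D := by
      have := hb ψ
      rw [hcoord, ← hvk, map_pow, norm_pow, hψv] at this
      exact this
    by_contra hlt
    push Not at hlt
    have : B ^ k < ‖t‖ ^ k := pow_lt_pow_left₀ hlt hB0 hk.ne'
    rw [hBk] at this
    linarith
  have h2 := Polynomial.coeff_le_of_roots_le (f := MvPolynomial.eval x) j hμm
    (IsAlgClosed.splits _) hroots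
  rw [Polynomial.coeff_map] at h2
  calc ‖MvPolynomial.eval x (μ.coeff j)‖ ^ k
      ≤ (B ^ (μ.natDegree - j) * (μ.natDegree.choose j : ℝ)) ^ k :=
        pow_le_pow_left₀ (norm_nonneg _) h2 k
    _ = D ^ (μ.natDegree - j) * (μ.natDegree.choose j : ℝ) ^ k := by
        rw [mul_pow, ← pow_mul, mul_comm (μ.natDegree - j) k, pow_mul, hBk]

end param

/-- a polynomial in several variables whose `k`-th power grows with exponent `< k` is constant -/
theorem eval_eq_eval_zero_of_growth {n : ℕ} (p : MvPolynomial (Fin n) ℂ) (k : ℕ) (C : ℝ) (L : ℕ)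
    (hL : L < k) (hb : ∀ x : Fin n → ℂ, ‖MvPolynomial.eval x p‖ ^ k ≤ C * (1 + ‖x‖) ^ L)
    (x : Fin n → ℂ) : MvPolynomial.eval x p = MvPolynomial.eval 0 p := by
  set g : Fin n → ℂ[X] := fun i => Polynomial.C (x i) * Polynomial.X with hg
  set q : ℂ[X] := MvPolynomial.aeval g p with hq
  have hqs : ∀ s : ℂ, q.eval s = MvPolynomial.eval (s • x) p := by
    intro s
    have h1 : ((Polynomial.aeval s : ℂ[X] →ₐ[ℂ] ℂ).comp (MvPolynomial.aeval g)) =
        MvPolynomial.aeval (s • x) := by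
      apply MvPolynomial.algHom_ext
      intro i
      rw [AlgHom.comp_apply, MvPolynomial.aeval_X, MvPolynomial.aeval_X, hg]
      simp only [map_mul, Polynomial.aeval_C, Polynomial.aeval_X, Pi.smul_apply, smul_eq_mul]
      rw [mul_comm]
      rfl
    have h2 := congrArg (fun φ => φ p) h1
    simpa [MvPolynomial.coe_aeval_eq_eval, Polynomial.coe_aeval_eq_eval] using h2
  have hC0 : 0 ≤ C := by
    have := hb 0
    simp only [norm_zero, add_zero, one_pow, mul_one] at this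
    exact le_trans (by positivity) this
  have hgrow : ∀ s : ℂ, ‖(q ^ k).eval s‖ ≤ (C * (1 + ‖x‖) ^ L) * (1 + ‖s‖) ^ L := by
    intro s
    rw [eval_pow, norm_pow, hqs]
    refine (hb (s • x)).trans ?_
    rw [norm_smul, mul_assoc, ← mul_pow]
    gcongr
    nlinarith [norm_nonneg s, norm_nonneg x, mul_nonneg (norm_nonneg s) (norm_nonneg x)]
  obtain ⟨p', hp'deg, hp'⟩ := ConnE.exists_polynomial_of_entire (fun s => (q ^ k).eval s)
    (q ^ k).differentiable _ L hgrow
  have heq : q ^ k = p' := Polynomial.funext hp'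
  have hdeg : k * q.natDegree ≤ L := by
    rw [← Polynomial.natDegree_pow, heq]
    exact hp'deg
  have hq0 : q.natDegree = 0 := by
    by_contra hne
    have : k ≤ k * q.natDegree := Nat.le_mul_of_pos_right k (Nat.pos_of_ne_zero hne)
    omega
  have hqc : q = Polynomial.C (q.coeff 0) := Polynomial.eq_C_of_natDegree_eq_zero hq0
  have h1 : q.eval 1 = q.eval 0 := by
    rw [hqc]; simp
  rw [hqs, hqs, one_smul, zero_smul] at h1
  exact h1


/-- **Theorem**: an element of a finitely generated `ℂ`-algebra which is a domain, having `k`-th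
roots for all `k > 0`, is a constant. -/
theorem exists_algebraMap_eq_of_forall_root (R : Type*) [CommRing R] [IsDomain R] [Algebra ℂ R]
    [Algebra.FiniteType ℂ R] (f : R) (h : ∀ k : ℕ, 0 < k → ∃ v : R, v ^ k = f) :
    ∃ a : ℂ, f = algebraMap ℂ R a := by
  classical
  obtain ⟨n, φ, hinj, hfin⟩ := exists_finite_inj_algHom_of_fg ℂ R
  letI : Algebra (MvPolynomial (Fin n) ℂ) R := φ.toRingHom.toAlgebra
  haveI : IsScalarTower ℂ (MvPolynomial (Fin n) ℂ) R :=
    IsScalarTower.of_algebraMap_eq (fun c => (φ.commutes c).symm)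
  haveI : Module.Finite (MvPolynomial (Fin n) ℂ) R := hfin
  haveI : FaithfulSMul (MvPolynomial (Fin n) ℂ) R :=
    (faithfulSMul_iff_algebraMap_injective _ R).2 hinj
  haveI : Algebra.IsIntegral (MvPolynomial (Fin n) ℂ) R := Algebra.IsIntegral.of_finite _ R
  set N : ℕ := (⊤ : Submodule (MvPolynomial (Fin n) ℂ) R).spanFinrank with hN
  obtain ⟨C, M, hC, hb⟩ := exists_bound_value (n := n) f
  set k : ℕ := M * N + 1 with hk
  obtain ⟨v, hv⟩ := h k (by omega)
  have hvint : IsIntegral (MvPolynomial (Fin n) ℂ) v := Algebra.IsIntegral.isIntegral v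
  set μ := minpoly (MvPolynomial (Fin n) ℂ) v with hμ
  have hμm : μ.Monic := minpoly.monic hvint
  have hμN : μ.natDegree ≤ N := minpoly.natDegree_le_spanFinrank _ v
  have hconst : ∀ (j : ℕ) (x : Fin n → ℂ),
      MvPolynomial.eval x (μ.coeff j) = MvPolynomial.eval 0 (μ.coeff j) := by
    intro j x
    refine eval_eq_eval_zero_of_growth (μ.coeff j) k
      (C ^ (μ.natDegree - j) * (μ.natDegree.choose j : ℝ) ^ k) (M * (μ.natDegree - j)) ?_ ?_ x
    · have h1 : M * (μ.natDegree - j) ≤ M * N :=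
        Nat.mul_le_mul_left M ((Nat.sub_le _ _).trans hμN)
      omega
    · intro y
      have h1 := norm_coeff_pow_le f v k (by omega) hv C M hC hb y j
      rw [mul_pow, ← pow_mul] at h1
      linarith
  set μ₀ : ℂ[X] := μ.map (MvPolynomial.eval 0) with hμ₀
  have hμ₀m : μ₀.Monic := hμm.map _
  have hμeq : μ = μ₀.map (algebraMap ℂ (MvPolynomial (Fin n) ℂ)) := by
    apply Polynomial.ext
    intro j
    rw [Polynomial.coeff_map, hμ₀, Polynomial.coeff_map, MvPolynomial.algebraMap_eq]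
    apply MvPolynomial.funext
    intro x
    rw [MvPolynomial.eval_C]
    exact hconst j x
  have hroot : aeval v μ₀ = 0 := by
    have h1 : aeval v μ = 0 := minpoly.aeval _ v
    rw [hμeq, aeval_map_algebraMap] at h1
    exact h1
  have hvC : IsIntegral ℂ v := ⟨μ₀, hμ₀m, hroot⟩
  obtain ⟨a, ha⟩ := (IsAlgClosed.algebraMap_bijective_of_isIntegral (k := ℂ)
    (K := integralClosure ℂ R)).2 ⟨v, hvC⟩
  have hva : v = algebraMap ℂ R a := by
    have := congrArg (Subtype.val) ha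
    exact this.symm
  refine ⟨a ^ k, ?_⟩
  rw [← hv, hva, map_pow]

end Groth.Agent.Lib.Helper6.UnitA
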