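import Mathlib
import Groth.Agent.Lib.Helper6ConnD

/-!
# Continuous roots of nowhere vanishing regular functions are regular
-/

set_option autoImplicit false

open AlgebraicGeometry CategoryTheory CategoryTheory.Limits TopologicalSpace Opposite An Topology
open Polynomial
open scoped Bivariate

namespace Groth.Agent.Lib.Helper6.UnitB

open Groth.Agent.Lib.Helper6

/-- the standard étale pair `(Xⁿ - u, n Xⁿ⁻¹)` -/
noncomputable def pair {R : Type} [CommRing R] (u : R) (n : ℕ) (hn : 0 < n) : StandardEtalePair R where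
  f := X ^ n - C u
  monic_f := monic_X_pow_sub_C u hn.ne'
  g := derivative (X ^ n - C u)
  cond := ⟨1, 0, 1, by simp⟩

section ring

variable {R : Type} [CommRing R] (u : R) (n : ℕ) (hn : 0 < n)

/-- the point of the standard étale algebra attached to a point `e` of `R` and a root `t` -/
noncomputable def chi (e : R →+* ℂ) (t : ℂ) (ht : t ^ n = e u) (hu : e u ≠ 0) :
    (pair u n hn).Ring →+* ℂ :=
  letI : Algebra R ℂ := e.toAlgebra
  ((pair u n hn).lift t ⟨by
      change aeval t (X ^ n - C u) = 0
      simp only [map_sub, map_pow, aeval_X, aeval_C]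
      rw [ht, sub_eq_zero]
      rfl, by
      change IsUnit (aeval t (derivative (X ^ n - C u)))
      simp only [derivative_sub, derivative_X_pow, derivative_C, sub_zero, map_mul, map_pow,
        aeval_X, map_natCast]
      rw [isUnit_iff_ne_zero]
      have ht0 : t ≠ 0 := by
        rintro rfl
        rw [zero_pow hn.ne'] at ht
        exact hu ht.symm
      exact mul_ne_zero (Nat.cast_ne_zero.2 hn.ne') (pow_ne_zero _ ht0)⟩ :
    (pair u n hn).Ring →ₐ[R] ℂ).toRingHom

lemma chi_algebraMap (e : R →+* ℂ) (t : ℂ) (ht : t ^ n = e u) (hu : e u ≠ 0) (r : R) :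
    chi u n hn e t ht hu (algebraMap R _ r) = e r := by
  letI : Algebra R ℂ := e.toAlgebra
  unfold chi
  exact AlgHom.commutes _ r

lemma chi_X (e : R →+* ℂ) (t : ℂ) (ht : t ^ n = e u) (hu : e u ≠ 0) :
    chi u n hn e t ht hu (pair u n hn).X = t := by
  letI : Algebra R ℂ := e.toAlgebra
  unfold chi
  exact StandardEtalePair.lift_X _ _ _

lemma X_pow_eq : (pair u n hn).X ^ n = algebraMap R _ u := by
  have h := ((pair u n hn).hasMap_X).1
  change aeval (pair u n hn).X (X ^ n - C u) = 0 at h
  simp only [map_sub, map_pow, aeval_X, aeval_C] at h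
  exact sub_eq_zero.1 h

/-- the inverse of `g(X)` in the standard étale algebra -/
noncomputable def yy : (pair u n hn).Ring :=
  Ideal.Quotient.mk (Ideal.span {C (pair u n hn).f, Y * C (pair u n hn).g - 1}) Polynomial.X

lemma aeval_g_mul_yy : aeval (pair u n hn).X (pair u n hn).g * yy u n hn = 1 :=
  (pair u n hn).aeval_X_g_mul_mk_X

lemma chi_yy (e : R →+* ℂ) (t : ℂ) (ht : t ^ n = e u) (hu : e u ≠ 0) :
    chi u n hn e t ht hu (yy u n hn) = ((n : ℂ) * t ^ (n - 1))⁻¹ := by
  have h1 := congrArg (chi u n hn e t ht hu) (aeval_g_mul_yy u n hn)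
  rw [map_mul, map_one] at h1
  have h2 : chi u n hn e t ht hu (aeval (pair u n hn).X (pair u n hn).g) =
      (n : ℂ) * t ^ (n - 1) := by
    change chi u n hn e t ht hu (aeval (pair u n hn).X (derivative (X ^ n - C u))) = _
    simp only [derivative_sub, derivative_X_pow, derivative_C, sub_zero, map_mul, map_pow,
      aeval_X, map_natCast]
    rw [chi_X]
  rw [h2] at h1
  exact eq_inv_of_mul_eq_one_right h1

lemma mem_of_generators (𝒮 : Subring (pair u n hn).Ring)
    (h1 : ∀ r : R, algebraMap R (pair u n hn).Ring r ∈ 𝒮) (h2 : (pair u n hn).X ∈ 𝒮)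
    (h3 : yy u n hn ∈ 𝒮) (s : (pair u n hn).Ring) : s ∈ 𝒮 := by
  obtain ⟨F, rfl⟩ := Ideal.Quotient.mk_surjective
    (I := Ideal.span {C (pair u n hn).f, Y * C (pair u n hn).g - 1}) s
  induction F using Polynomial.induction_on' with
  | add p q hp hq =>
    rw [map_add]
    exact 𝒮.add_mem hp hq
  | monomial j G =>
    rw [← C_mul_X_pow_eq_monomial, map_mul, map_pow]
    refine 𝒮.mul_mem ?_ (𝒮.pow_mem h3 j)
    induction G using Polynomial.induction_on' with
    | add p q hp hq =>
      rw [map_add C, map_add]
      exact 𝒮.add_mem hp hq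
    | monomial i r =>
      rw [← C_mul_X_pow_eq_monomial, map_mul C, map_pow C, map_mul, map_pow]
      exact 𝒮.mul_mem (h1 r) (𝒮.pow_mem h2 i)

end ring

section scheme

variable {W : Scheme.{0}} [W.Over SC] [IsAffine W] [LocallyOfFiniteType (W ↘ SC)]

lemma appTop_spec_comp_isoSpec_inv' (S : CommRingCat.{0}) (f : Γ(W, ⊤) ⟶ S) :
    (Spec.map f ≫ W.isoSpec.inv).appTop = f ≫ (Scheme.ΓSpecIso S).inv := by
  rw [Scheme.Hom.comp_appTop, isoSpec_inv_appTop', ← Scheme.ΓSpecIso_inv_naturality]

lemma continuous_evTop (r : Γ(W, ⊤)) : Continuous fun p : Pts W => p.evTop r :=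
  (continuous_apply r).comp continuous_evAll

/-- a continuous `n`-th root of a nowhere vanishing regular function on an affine scheme of
finite type over `ℂ` is regular; in particular the function has an `n`-th root -/
theorem exists_root_of_continuous (u : Γ(W, ⊤)) (n : ℕ) (hn : 0 < n) (w : Pts W → ℂ)
    (hw : Continuous w) (hwn : ∀ p, w p ^ n = p.evTop u) (hu : ∀ p : Pts W, p.evTop u ≠ 0) :
    ∃ v : Γ(W, ⊤), v ^ n = u := by
  set P := pair (R := Γ(W, ⊤)) u n hn with hP
  set S : CommRingCat.{0} := CommRingCat.of P.Ring with hS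
  set f : Γ(W, ⊤) ⟶ S := CommRingCat.ofHom (algebraMap Γ(W, ⊤) P.Ring) with hf
  set b : Spec S ⟶ W := Spec.map f ≫ W.isoSpec.inv with hb
  letI : (Spec S).Over SC := ⟨b ≫ (W ↘ SC)⟩
  haveI : b.IsOver SC := ⟨rfl⟩
  haveI : Etale (Spec.map f) := by
    rw [HasRingHomProperty.Spec_iff (P := @Etale)]
    change (algebraMap Γ(W, ⊤) P.Ring).Etale
    rw [RingHom.etale_algebraMap]
    infer_instance
  haveI : Etale b := by rw [hb]; infer_instance
  haveI : IsSeparated b := by rw [hb]; infer_instance
  haveI : LocallyOfFiniteType (Spec S ↘ SC) := by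
    change LocallyOfFiniteType (b ≫ (W ↘ SC))
    infer_instance
  have hbtop : ∀ r : Γ(W, ⊤), b.appTop r = (Scheme.ΓSpecIso S).inv (algebraMap Γ(W, ⊤) P.Ring r) := by
    intro r
    rw [hb, appTop_spec_comp_isoSpec_inv']
    rfl
  -- the points
  set e : Pts W → (Γ(W, ⊤) →+* ℂ) := fun p => evHom p ⊤ (Opens.mem_top _) with he
  set χ : Pts W → (P.Ring →+* ℂ) := fun p => chi u n hn (e p) (w p) (hwn p) (hu p) with hχ
  set ψ : Pts W → (Γ(Spec S, ⊤) →+* ℂ) := fun p => (χ p).comp (Scheme.ΓSpecIso S).hom.hom with hψ
  have hψb : ∀ p (r : Γ(W, ⊤)), ψ p (b.appTop r) = p.evTop r := by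
    intro p r
    rw [hbtop]
    change χ p ((Scheme.ΓSpecIso S).hom ((Scheme.ΓSpecIso S).inv (algebraMap Γ(W, ⊤) P.Ring r))) = _
    have : (Scheme.ΓSpecIso S).hom ((Scheme.ΓSpecIso S).inv (algebraMap Γ(W, ⊤) P.Ring r)) =
        algebraMap Γ(W, ⊤) P.Ring r :=
      congrArg (fun φ => φ.hom (algebraMap Γ(W, ⊤) P.Ring r)) (Scheme.ΓSpecIso S).inv_hom_id
    rw [this]
    exact chi_algebraMap u n hn (e p) (w p) (hwn p) (hu p) r
  have hψstr : ∀ p c, ψ p (strHom (Spec S) c) = c := by
    intro p c
    have h1 : strHom (Spec S) c = b.appTop (strHom W c) := rfl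
    rw [h1, hψb, evTop_strHom]
  set φ : Pts W → Pts (Spec S) := fun p => ptOfRingHom (ψ p) (hψstr p) with hφ
  have hφev : ∀ p (s : Γ(Spec S, ⊤)), (φ p).evTop s = ψ p s := fun p s => evTop_ptOfRingHom _ _ s
  -- continuity
  have hcont : ∀ s : P.Ring, Continuous fun p => χ p s := by
    let 𝒮 : Subring P.Ring :=
      { carrier := {s | Continuous fun p => χ p s}
        mul_mem' := fun {a b} ha hb => by
          change Continuous fun p => χ p (a * b)
          simp only [map_mul]
          exact Continuous.mul ha hb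
        one_mem' := by
          change Continuous fun p => χ p 1
          simp only [map_one]
          exact continuous_const
        add_mem' := fun {a b} ha hb => by
          change Continuous fun p => χ p (a + b)
          simp only [map_add]
          exact Continuous.add ha hb
        zero_mem' := by
          change Continuous fun p => χ p 0
          simp only [map_zero]
          exact continuous_const
        neg_mem' := fun {a} ha => by
          change Continuous fun p => χ p (-a)
          simp only [map_neg]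
          exact Continuous.neg ha }
    intro s
    refine mem_of_generators u n hn 𝒮 ?_ ?_ ?_ s
    · intro r
      change Continuous fun p => χ p (algebraMap _ _ r)
      have : (fun p => χ p (algebraMap Γ(W, ⊤) P.Ring r)) = fun p : Pts W => p.evTop r := by
        funext p
        exact chi_algebraMap u n hn (e p) (w p) (hwn p) (hu p) r
      rw [this]
      exact continuous_evTop r
    · change Continuous fun p => χ p P.X
      have : (fun p => χ p P.X) = w := by
        funext p
        exact chi_X u n hn (e p) (w p) (hwn p) (hu p)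
      rw [this]
      exact hw
    · change Continuous fun p => χ p (yy u n hn)
      have : (fun p => χ p (yy u n hn)) = fun p => ((n : ℂ) * w p ^ (n - 1))⁻¹ := by
        funext p
        exact chi_yy u n hn (e p) (w p) (hwn p) (hu p)
      rw [this]
      apply Continuous.inv₀ (continuous_const.mul (hw.pow _))
      intro p
      have hw0 : w p ≠ 0 := by
        intro h0
        have := hwn p
        rw [h0, zero_pow hn.ne'] at this
        exact hu p this.symm
      exact mul_ne_zero (Nat.cast_ne_zero.2 hn.ne') (pow_ne_zero _ hw0)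
  have hφc : Continuous φ := by
    rw [(isInducing_evAll (X := Spec S)).continuous_iff]
    apply continuous_pi
    intro s
    change Continuous fun p => (φ p).evTop s
    simp only [hφev]
    exact hcont _
  have hφb : ∀ p, Pts.map b (φ p) = Pts.map (𝟙 W) p := by
    intro p
    rw [Pts.map_id]
    apply ext_of_evTop
    intro r
    rw [evTop_map, hφev, hψb]
  obtain ⟨g, hg, -⟩ := Conn.exists_lift_of_continuous (𝟙 W) b φ hφc hφb
  refine ⟨g.appTop ((Scheme.ΓSpecIso S).inv P.X), ?_⟩
  rw [← map_pow, ← map_pow, X_pow_eq, ← hbtop]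
  have h1 : (g ≫ b).appTop u = u := by rw [hg]; simp
  rw [Scheme.Hom.comp_appTop] at h1
  exact h1

end scheme

end Groth.Agent.Lib.Helper6.UnitB
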