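import Mathlib
import Groth.Agent.Lib.Helper6UnitA
import Groth.Agent.Lib.Helper6UnitB
import Groth.Agent.Lib.Helper6ConnC
import Groth.Agent.Lib.Helper6AnFib

/-!
# A null-homotopic invertible regular function on a connected `ℂ`-scheme of finite type is constant
-/

set_option autoImplicit false

open AlgebraicGeometry CategoryTheory CategoryTheory.Limits TopologicalSpace Opposite An Topology

namespace Groth.Agent.Lib.Helper6.UnitC

open Groth.Agent.Lib.Helper6

/-- a null-homotopic map to `ℂ \ {0}` has a continuous logarithm -/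
theorem exists_log {T : Type*} [TopologicalSpace T] (φ : C(T, {z : ℂ // z ≠ 0}))
    (z₀ : {z : ℂ // z ≠ 0}) (hnull : φ.Homotopic (ContinuousMap.const T z₀)) :
    ∃ ℓ : C(T, ℂ), ∀ x, Complex.exp (ℓ x) = (φ x).1 := by
  obtain ⟨H⟩ := hnull.symm
  have cov := Complex.isCoveringMap_exp
  set c₀ : ℂ := Complex.log z₀.1 with hc₀
  have hexp : Complex.exp c₀ = z₀.1 := Complex.exp_log z₀.2
  have H_0 : ∀ a : T, (H : C(unitInterval × T, {z : ℂ // z ≠ 0})) (0, a) =
      (⟨_, ((ContinuousMap.const T c₀) a).exp_ne_zero⟩ : {z : ℂ // z ≠ 0}) := by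
    intro a
    apply Subtype.ext
    have := H.apply_zero a
    change ((H : C(unitInterval × T, {z : ℂ // z ≠ 0})) (0, a)).1 = Complex.exp c₀
    rw [hexp]
    exact congrArg Subtype.val this
  set L := cov.liftHomotopy (H : C(unitInterval × T, {z : ℂ // z ≠ 0})) (ContinuousMap.const T c₀) H_0
    with hL
  have hlift := cov.liftHomotopy_lifts (H : C(unitInterval × T, {z : ℂ // z ≠ 0}))
    (ContinuousMap.const T c₀) H_0
  refine ⟨L.comp ((ContinuousMap.const T (1 : unitInterval)).prodMk (ContinuousMap.id T)), fun x => ?_⟩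
  have h1 := congrFun hlift (1, x)
  have h2 := H.apply_one x
  have h3 : Complex.exp (L (1, x)) = ((H : C(unitInterval × T, {z : ℂ // z ≠ 0})) (1, x)).1 :=
    congrArg Subtype.val h1
  change Complex.exp (L (1, x)) = _
  rw [h3]
  exact congrArg Subtype.val h2

/-- on an affine scheme of finite type over `ℂ`, a regular function having `k`-th roots for all
`k > 0` takes only finitely many values on `ℂ`-points -/
theorem finite_values_affine {W : Scheme.{0}} [W.Over SC] [IsAffine W]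
    [LocallyOfFiniteType (W ↘ SC)] (u : Γ(W, ⊤))
    (h : ∀ k : ℕ, 0 < k → ∃ v : Γ(W, ⊤), v ^ k = u) :
    ∃ S : Set ℂ, S.Finite ∧ ∀ p : Pts W, p.evTop u ∈ S := by
  classical
  letI : Algebra ℂ Γ(W, ⊤) := (strHom W).toAlgebra
  haveI hft : Algebra.FiniteType ℂ Γ(W, ⊤) := strHom_finiteType (X := W)
  haveI := isLocallyNoetherian_of_lft (X := W)
  haveI : IsNoetherianRing Γ(W, ⊤) :=
    IsLocallyNoetherian.component_noetherian (X := W) ⟨⊤, isAffineOpen_top W⟩
  have hfin : (minimalPrimes Γ(W, ⊤)).Finite := minimalPrimes.finite_of_isNoetherianRing _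
  refine ⟨{c | ∃ 𝔭 ∈ minimalPrimes Γ(W, ⊤), u - algebraMap ℂ Γ(W, ⊤) c ∈ 𝔭}, ?_, ?_⟩
  · have hrw : {c | ∃ 𝔭 ∈ minimalPrimes Γ(W, ⊤), u - algebraMap ℂ Γ(W, ⊤) c ∈ 𝔭} =
        ⋃ 𝔭 ∈ minimalPrimes Γ(W, ⊤), {c | u - algebraMap ℂ Γ(W, ⊤) c ∈ 𝔭} := by
      ext c
      simp
    rw [hrw]
    refine hfin.biUnion fun 𝔭 h𝔭 => Set.Subsingleton.finite ?_
    intro c hc c' hc'
    by_contra hne
    have h1 : algebraMap ℂ Γ(W, ⊤) (c' - c) ∈ 𝔭 := by
      have := 𝔭.sub_mem hc hc'
      convert this using 1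
      rw [map_sub]
      ring
    have hunit : IsUnit (algebraMap ℂ Γ(W, ⊤) (c' - c)) :=
      (IsUnit.mk0 _ (sub_ne_zero.2 (Ne.symm hne))).map _
    exact h𝔭.1.1.ne_top (Ideal.eq_top_of_isUnit_mem _ h1 hunit)
  · intro p
    set 𝔪 : Ideal Γ(W, ⊤) := RingHom.ker (evHom p ⊤ (Opens.mem_top _)) with h𝔪
    haveI : 𝔪.IsPrime := RingHom.ker_isPrime _
    obtain ⟨𝔭, h𝔭, hle⟩ := Ideal.exists_minimalPrimes_le (I := (⊥ : Ideal Γ(W, ⊤))) (J := 𝔪) bot_le
    haveI : 𝔭.IsPrime := h𝔭.1.1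
    haveI : IsDomain (Γ(W, ⊤) ⧸ 𝔭) := Ideal.Quotient.isDomain 𝔭
    haveI : Algebra.FiniteType ℂ (Γ(W, ⊤) ⧸ 𝔭) :=
      Algebra.FiniteType.of_surjective (Ideal.Quotient.mkₐ ℂ 𝔭) (Ideal.Quotient.mkₐ_surjective ℂ 𝔭)
    obtain ⟨a, ha⟩ := UnitA.exists_algebraMap_eq_of_forall_root (Γ(W, ⊤) ⧸ 𝔭)
      (Ideal.Quotient.mk 𝔭 u) (fun k hk => by
        obtain ⟨v, hv⟩ := h k hk
        exact ⟨Ideal.Quotient.mk 𝔭 v, by rw [← map_pow, hv]⟩)
    have hmem : u - algebraMap ℂ Γ(W, ⊤) a ∈ 𝔭 := by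
      rw [← Ideal.Quotient.eq_zero_iff_mem, map_sub, ha]
      exact sub_self _
    have hval : p.evTop u = a := by
      have h1 := hle hmem
      rw [h𝔪, RingHom.mem_ker, map_sub, sub_eq_zero] at h1
      exact h1.trans (evTop_strHom p a)
    rw [hval]
    exact ⟨𝔭, h𝔭, hmem⟩

/-- **Theorem**: a regular function on a connected scheme locally of finite type over `ℂ` without
zeros on `ℂ`-points, whose induced map `X(ℂ) → ℂ \ {0}` is null-homotopic, is constant on
`ℂ`-points. -/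
theorem evTop_eq_of_nullhomotopic (X : Scheme.{0}) [X.Over SC] [LocallyOfFiniteType (X ↘ SC)]
    [ConnectedSpace X] (u : Γ(X, ⊤)) (φ : C(Pts X, {z : ℂ // z ≠ 0}))
    (hφ : ∀ x : Pts X, (φ x).1 = x.evTop u) (z₀ : {z : ℂ // z ≠ 0})
    (hnull : φ.Homotopic (ContinuousMap.const (Pts X) z₀)) :
    ∀ x y : Pts X, x.evTop u = y.evTop u := by
  classical
  obtain ⟨ℓ, hℓ⟩ := exists_log φ z₀ hnull
  have hu : ∀ x : Pts X, x.evTop u ≠ 0 := fun x => by rw [← hφ]; exact (φ x).2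
  set w : ℕ → Pts X → ℂ := fun k x => Complex.exp (ℓ x / k) with hw
  have hwc : ∀ k, Continuous (w k) := fun k =>
    Complex.continuous_exp.comp (ℓ.continuous.div_const _)
  have hwk : ∀ k, 0 < k → ∀ x, w k x ^ k = x.evTop u := by
    intro k hk x
    rw [hw]
    simp only
    rw [← Complex.exp_nat_mul, mul_div_cancel₀ _ (Nat.cast_ne_zero.2 hk.ne'), hℓ, hφ]
  set F : Pts X → ℂ := fun x => x.evTop u with hF
  have hFc : Continuous F := (φ.continuous.subtype_val).congr hφ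
  haveI : PreconnectedSpace (Pts X) := Conn.preconnectedSpace_pts (X := X)
  have hloc : IsLocallyConstant F := by
    rw [IsLocallyConstant.iff_eventually_eq]
    intro x
    obtain ⟨_, ⟨(U : X.Opens), hU : IsAffineOpen U, rfl⟩, hxU, -⟩ :=
      X.isBasis_affineOpens.exists_subset_of_mem_open (Set.mem_univ x.pt) isOpen_univ
    haveI : IsAffine U.toScheme := hU
    haveI : LocallyOfFiniteType (U.toScheme ↘ SC) := by
      rw [← Scheme.Opens.ι_comp_over]; infer_instance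
    set uU : Γ(U.toScheme, ⊤) := U.ι.appTop u with huU
    have hev : ∀ p : Pts U.toScheme, p.evTop uU = (Pts.map U.ι p).evTop u :=
      fun p => (evTop_map U.ι p u).symm
    have hroots : ∀ k : ℕ, 0 < k → ∃ v : Γ(U.toScheme, ⊤), v ^ k = uU := by
      intro k hk
      refine UnitB.exists_root_of_continuous uU k hk (fun p => w k (Pts.map U.ι p))
        ((hwc k).comp (Pts.continuous_map U.ι)) (fun p => ?_) (fun p => ?_)
      · rw [hev]
        exact hwk k hk _
      · rw [hev]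
        exact hu _
    obtain ⟨S, hSfin, hS⟩ := finite_values_affine uU hroots
    have hN : IsOpen (Pts.pt ⁻¹' (U : Set X) : Set (Pts X)) := Pts.isOpen_preimage_pt U
    have hclosed : IsClosed (S \ {F x}) := (hSfin.subset Set.sdiff_subset).isClosed
    have hO : IsOpen ((Pts.pt ⁻¹' (U : Set X)) ∩ F ⁻¹' (S \ {F x})ᶜ) :=
      hN.inter (hclosed.isOpen_compl.preimage hFc)
    have hxO : x ∈ (Pts.pt ⁻¹' (U : Set X)) ∩ F ⁻¹' (S \ {F x})ᶜ :=
      ⟨hxU, fun hmem => hmem.2 rfl⟩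
    filter_upwards [hO.mem_nhds hxO] with y hy
    have hyU : y ∈ Set.range (Pts.map U.ι) := by
      rw [range_map_of_isOpenImmersion]
      simpa using hy.1
    obtain ⟨p, rfl⟩ := hyU
    have hyS : F (Pts.map U.ι p) ∈ S := by
      rw [hF]
      simp only
      rw [← hev]
      exact hS p
    by_contra hne
    exact hy.2 ⟨hyS, hne⟩
  exact fun x y => hloc.apply_eq_of_preconnectedSpace x y

end Groth.Agent.Lib.Helper6.UnitC
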