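import Mathlib

/-!
# Units of finitely generated domains over a field modulo algebraic units
-/

set_option autoImplicit false

open scoped WithZero nonZeroDivisors
open Polynomial IsDedekindDomain

namespace Groth.Agent.Lib.Helper6.UnitsFG


section degval

variable (σ : Type*) (k : Type*) [Field k]

open Classical in
/-- the valuation `exp (totalDegree)` on a polynomial ring over a field -/
noncomputable def degVal₀ : Valuation (MvPolynomial σ k) ℤᵐ⁰ where
  toFun f := if f = 0 then 0 else WithZero.exp (f.totalDegree : ℤ)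
  map_zero' := by simp
  map_one' := by simp
  map_mul' f g := by
    by_cases hf : f = 0
    · simp [hf]
    by_cases hg : g = 0
    · simp [hg]
    simp only [hf, hg, mul_eq_zero, or_self, if_false]
    rw [MvPolynomial.totalDegree_mul_of_isDomain hf hg, Nat.cast_add, WithZero.exp_add]
  map_add_le_max' f g := by
    by_cases hfg : f + g = 0
    · simp [hfg]
    simp only [hfg, if_false]
    have h1 := MvPolynomial.totalDegree_add f g
    by_cases hf : f = 0
    · subst hf
      simp only [zero_add] at hfg ⊢
      simp [hfg]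
    by_cases hg : g = 0
    · subst hg
      simp only [add_zero] at hfg ⊢
      simp [hfg]
    simp only [hf, hg, if_false]
    rw [le_max_iff]
    rcases le_max_iff.1 h1 with h | h
    · left
      exact WithZero.exp_le_exp.2 (by exact_mod_cast h)
    · right
      exact WithZero.exp_le_exp.2 (by exact_mod_cast h)

lemma degVal₀_apply (f : MvPolynomial σ k) (hf : f ≠ 0) :
    degVal₀ σ k f = WithZero.exp (f.totalDegree : ℤ) := by
  classical
  change (if f = 0 then 0 else WithZero.exp (f.totalDegree : ℤ)) = _
  rw [if_neg hf]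

lemma degVal₀_le_one_iff (f : MvPolynomial σ k) :
    degVal₀ σ k f ≤ 1 ↔ ∃ c : k, f = MvPolynomial.C c := by
  by_cases hf : f = 0
  · subst hf
    simp only [map_zero, zero_le, true_iff]
    exact ⟨0, by simp⟩
  rw [degVal₀_apply σ k f hf, ← WithZero.exp_zero, WithZero.exp_le_exp]
  constructor
  · intro h
    have h0 : f.totalDegree = 0 := by omega
    exact ⟨_, MvPolynomial.totalDegree_eq_zero_iff_eq_C.1 h0⟩
  · rintro ⟨c, rfl⟩
    simp

lemma degVal₀_supp : (degVal₀ σ k).supp = ⊥ := by
  ext f
  rw [Valuation.mem_supp_iff, Ideal.mem_bot]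
  constructor
  · intro h
    by_contra hf
    rw [degVal₀_apply σ k f hf] at h
    exact WithZero.exp_ne_zero h
  · rintro rfl
    simp

end degval

section fracval

variable {σ : Type*} {k : Type*} [Field k] (F : Type*) [Field F] [Algebra (MvPolynomial σ k) F]
  [IsFractionRing (MvPolynomial σ k) F]

/-- the degree valuation on the fraction field of a polynomial ring -/
noncomputable def degVal : Valuation F ℤᵐ⁰ :=
  (degVal₀ σ k).extendToLocalization (S := (MvPolynomial σ k)⁰) (by
    intro x hx
    change x ∉ (degVal₀ σ k).supp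
    rw [degVal₀_supp, Ideal.mem_bot]
    exact nonZeroDivisors.ne_zero hx) F

lemma degVal_algebraMap (f : MvPolynomial σ k) :
    degVal (σ := σ) (k := k) F (algebraMap (MvPolynomial σ k) F f) = degVal₀ σ k f :=
  Valuation.extendToLocalization_apply_map_apply _ _ _ _

lemma nontrivial_valueGroup [Nonempty σ] :
    Nontrivial (MonoidWithZeroHom.valueGroup
      (MonoidWithZeroHom.ofClass (degVal (σ := σ) (k := k) F))) := by
  obtain ⟨i⟩ := ‹Nonempty σ›
  have hX : degVal (σ := σ) (k := k) F (algebraMap (MvPolynomial σ k) F (MvPolynomial.X i)) =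
      WithZero.exp (1 : ℤ) := by
    rw [degVal_algebraMap, degVal₀_apply _ _ _ (MvPolynomial.X_ne_zero i), MvPolynomial.totalDegree_X]
    rfl
  have h0 : degVal (σ := σ) (k := k) F (algebraMap (MvPolynomial σ k) F (MvPolynomial.X i)) ≠ 0 := by
    rw [hX]; exact WithZero.exp_ne_zero
  refine ⟨⟨⟨Units.mk0 _ h0, MonoidWithZeroHom.mem_valueGroup _ ⟨_, rfl⟩⟩, 1, ?_⟩⟩
  intro h
  have h1 := congrArg (fun u => (u.1 : ℤᵐ⁰)) h
  simp only [Units.val_mk0, OneMemClass.coe_one, Units.val_one] at h1
  rw [hX, ← WithZero.exp_zero, WithZero.exp_inj] at h1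
  exact one_ne_zero h1

end fracval



lemma subgroup_fg_of_noetherian {M : Type*} [AddCommGroup M] [IsNoetherian ℤ M]
    (P : Subgroup (Multiplicative M)) : P.FG := by
  have h1 : P = AddSubgroup.toSubgroup (AddSubgroup.toSubgroup.symm P) :=
    (OrderIso.apply_symm_apply _ _).symm
  rw [h1, ← AddSubgroup.fg_iff_mul_fg]
  set Q : AddSubgroup M := AddSubgroup.toSubgroup.symm P
  have h2 : (AddSubgroup.toIntSubmodule Q).FG := IsNoetherian.noetherian _
  rw [Submodule.fg_iff_addSubgroup_fg] at h2
  exact h2

lemma fg_quotient_of_ker_le {Γ : Type*} [CommGroup Γ] {M : Type*} [AddCommGroup M]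
    [IsNoetherian ℤ M]
    (Θ : Γ →* Multiplicative M) (H : Subgroup Γ) (hH : Θ.ker ≤ H) : Group.FG (Γ ⧸ H) := by
  have h1 : Group.FG Θ.range := (Group.fg_iff_subgroup_fg _).2 (subgroup_fg_of_noetherian _)
  have h2 : Group.FG (Γ ⧸ Θ.ker) :=
    Group.fg_of_surjective (f := (QuotientGroup.quotientKerEquivRange Θ).symm.toMonoidHom)
      (QuotientGroup.quotientKerEquivRange Θ).symm.surjective
  refine Group.fg_of_surjective (f := QuotientGroup.map Θ.ker H (MonoidHom.id Γ) ?_) ?_
  · intro x hx
    exact hH hx
  · intro y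
    obtain ⟨x, rfl⟩ := QuotientGroup.mk_surjective y
    exact ⟨QuotientGroup.mk x, rfl⟩



section dedekind

variable (C : Type*) [CommRing C] [IsDedekindDomain C] (L : Type*) [Field L] [Algebra C L]
  [IsFractionRing C L]

/-- the vector of valuations of a nonzero element of the fraction field of a Dedekind domain -/
noncomputable def valHom : Lˣ →* Multiplicative (HeightOneSpectrum C → ℤ) where
  toFun x := Multiplicative.ofAdd (fun P => WithZero.log (P.valuation L (x : L)))
  map_one' := by
    apply Multiplicative.toAdd.injective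
    funext P
    simp
  map_mul' x y := by
    apply Multiplicative.toAdd.injective
    funext P
    have hx : P.valuation L (x : L) ≠ 0 := (Valuation.ne_zero_iff _).2 x.ne_zero
    have hy : P.valuation L (y : L) ≠ 0 := (Valuation.ne_zero_iff _).2 y.ne_zero
    simp only [Units.val_mul, map_mul, toAdd_mul, toAdd_ofAdd, Pi.add_apply]
    exact WithZero.log_mul hx hy

lemma mem_range_of_valHom_eq_one (x : Lˣ) (hx : valHom C L x = 1) :
    (x : L) ∈ (algebraMap C L).range := by
  apply HeightOneSpectrum.mem_integers_of_valuation_le_one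
  intro P
  have h1 : WithZero.log (P.valuation L (x : L)) = 0 := by
    have := congrFun (congrArg Multiplicative.toAdd hx) P
    simpa [valHom] using this
  have h0 : P.valuation L (x : L) ≠ 0 := (Valuation.ne_zero_iff _).2 x.ne_zero
  rw [← WithZero.exp_log h0, h1, WithZero.exp_zero]

end dedekind

section finite

lemma finite_heightOneSpectrum (O : Type*) [CommRing O] [IsDomain O] [IsDiscreteValuationRing O]
    (C : Type*) [CommRing C] [IsDedekindDomain C] [Algebra O C] [Algebra.IsIntegral O C]
    [FaithfulSMul O C] : Finite (HeightOneSpectrum C) := by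
  obtain ⟨π, hπ⟩ := IsDiscreteValuationRing.exists_irreducible O
  have hπ0 : algebraMap O C π ≠ 0 := by
    rw [Ne, map_eq_zero_iff _ (FaithfulSMul.algebraMap_injective O C)]
    exact hπ.ne_zero
  have hI : Ideal.span {algebraMap O C π} ≠ 0 := by
    rw [Ne, Ideal.zero_eq_bot, Ideal.span_singleton_eq_bot]
    exact hπ0
  have hfin := Ideal.finite_factors hI
  have hall : ∀ P : HeightOneSpectrum C, P ∈ {v : HeightOneSpectrum C | v.asIdeal ∣ Ideal.span {algebraMap O C π}} := by
    intro P
    rw [Set.mem_ofPred_eq, Ideal.dvd_iff_le, Ideal.span_singleton_le_iff_mem]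
    haveI : P.asIdeal.IsMaximal := P.isMaximal
    have hmax : (P.asIdeal.comap (algebraMap O C)).IsMaximal :=
      Ideal.isMaximal_comap_of_isIntegral_of_isMaximal P.asIdeal
    have heq : P.asIdeal.comap (algebraMap O C) = IsLocalRing.maximalIdeal O :=
      IsLocalRing.eq_maximalIdeal hmax
    have : π ∈ P.asIdeal.comap (algebraMap O C) := by
      rw [heq, IsLocalRing.mem_maximalIdeal, mem_nonunits_iff]
      exact hπ.not_isUnit
    exact this
  have : (Set.univ : Set (HeightOneSpectrum C)).Finite := by
    refine hfin.subset ?_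
    intro P _
    exact hall P
  exact Set.finite_univ_iff.1 this

end finite

end Groth.Agent.Lib.Helper6.UnitsFG
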