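import Mathlib
import Groth.Agent.Lib.Helper6UnitsFGA

/-!
# Units of finitely generated domains over a field modulo algebraic units, II
-/

set_option autoImplicit false

open scoped WithZero nonZeroDivisors
open Polynomial IsDedekindDomain

namespace Groth.Agent.Lib.Helper6.UnitsFG

theorem exists_valHom_field (σ : Type*) (k : Type*) [Field k]
    (F : Type*) [Field F] [Algebra (MvPolynomial σ k) F] [IsFractionRing (MvPolynomial σ k) F]
    (K : Type*) [Field K] [Algebra F K] [FiniteDimensional F K]
    [Algebra (MvPolynomial σ k) K] [IsScalarTower (MvPolynomial σ k) F K]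
    [Algebra k K] [IsScalarTower k (MvPolynomial σ k) K] :
    ∃ (n : ℕ) (Θ : Kˣ →* Multiplicative (Fin n → ℤ)),
      ∀ x : Kˣ, Θ x = 1 → IsIntegral (MvPolynomial σ k) (x : K) → IsIntegral k (x : K) := by
  classical
  rcases isEmpty_or_nonempty σ with hσ | hσ
  · refine ⟨0, 1, fun x _ hx => ?_⟩
    haveI : Algebra.IsIntegral k (MvPolynomial σ k) :=
      Algebra.isIntegral_of_surjective (by
        rw [MvPolynomial.algebraMap_eq]; exact MvPolynomial.C_surjective σ)
    exact isIntegral_trans _ hx
  · haveI := nontrivial_valueGroup (σ := σ) (k := k) F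
    let v : Valuation F ℤᵐ⁰ := degVal (σ := σ) (k := k) F
    let O : ValuationSubring F := v.valuationSubring
    haveI : IsDiscreteValuationRing O := inferInstance
    let L : IntermediateField F K := separableClosure F K
    haveI : Algebra.IsSeparable F L := inferInstance
    haveI : FiniteDimensional F L := inferInstance
    haveI : IsPurelyInseparable L K := inferInstance
    haveI : FiniteDimensional L K := inferInstance
    haveI : IsPurelyInseparable.HasExponent L K := inferInstance
    letI algOL : Algebra O L := ((algebraMap F L).comp O.subtype).toAlgebra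
    letI algOK : Algebra O K := ((algebraMap F K).comp O.subtype).toAlgebra
    haveI : IsScalarTower O F L := IsScalarTower.of_algebraMap_eq (fun _ => rfl)
    haveI : IsScalarTower O F K := IsScalarTower.of_algebraMap_eq (fun _ => rfl)
    haveI : IsScalarTower O L K := IsScalarTower.of_algebraMap_eq (fun _ => rfl)
    let C := integralClosure O L
    haveI : IsDedekindDomain C := integralClosure.isDedekindDomain O F L
    haveI : IsFractionRing C L := integralClosure.isFractionRing_of_finite_extension F L
    haveI : FaithfulSMul O C := by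
      rw [faithfulSMul_iff_algebraMap_injective]
      intro a b hab
      have h1 : algebraMap F L (a : F) = algebraMap F L (b : F) := congrArg Subtype.val hab
      exact Subtype.ext ((algebraMap F L).injective h1)
    haveI : Finite (HeightOneSpectrum C) := finite_heightOneSpectrum O C
    obtain ⟨n, ⟨e⟩⟩ := Finite.exists_equiv_fin (HeightOneSpectrum C)
    let p := ringExpChar L
    haveI : ExpChar L p := inferInstance
    let N := IsPurelyInseparable.exponent L K
    let fr : K →+* L := IsPurelyInseparable.iterateFrobenius L K p (le_refl N)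
    let Ψ : Kˣ →* Multiplicative (HeightOneSpectrum C → ℤ) :=
      (valHom C L).comp (Units.map fr.toMonoidHom)
    let Θ : Kˣ →* Multiplicative (Fin n → ℤ) :=
      { toFun := fun x => Multiplicative.ofAdd (fun j => Multiplicative.toAdd (Ψ x) (e.symm j))
        map_one' := by
          apply Multiplicative.toAdd.injective
          funext j
          simp
        map_mul' := fun a b => by
          apply Multiplicative.toAdd.injective
          funext j
          simp }
    refine ⟨n, Θ, fun x hx hxint => ?_⟩
    have hΨ : Ψ x = 1 := by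
      apply Multiplicative.toAdd.injective
      funext P
      have := congrFun (congrArg Multiplicative.toAdd hx) (e P)
      simpa [Θ] using this
    have hmem := mem_range_of_valHom_eq_one C L _ hΨ
    set t : L := fr (x : K) with ht
    have htO : IsIntegral O t := by
      obtain ⟨c, hc⟩ := hmem
      have : (c : L) = t := hc
      rw [← this]
      exact c.2
    set y : K := (x : K) ^ p ^ N with hy
    have hyt : algebraMap L K t = y :=
      IsPurelyInseparable.algebraMap_iterateFrobenius L p (le_refl N) (x : K)
    have hyO : IsIntegral O y := by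
      rw [← hyt]
      exact htO.algebraMap
    have hyB : IsIntegral (MvPolynomial σ k) y := hxint.pow _
    have e1 := minpoly.isIntegrallyClosed_eq_field_fractions' F hyB
    have e2 := minpoly.isIntegrallyClosed_eq_field_fractions' F hyO
    have hcoef : ∀ j, (minpoly (MvPolynomial σ k) y).coeff j ∈
        Set.range (MvPolynomial.C : k →+* MvPolynomial σ k) := by
      intro j
      have h3 : algebraMap (MvPolynomial σ k) F ((minpoly (MvPolynomial σ k) y).coeff j) =
          algebraMap O F ((minpoly O y).coeff j) := by
        rw [← Polynomial.coeff_map, ← Polynomial.coeff_map, ← e1, ← e2]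
      have h4 : degVal₀ σ k ((minpoly (MvPolynomial σ k) y).coeff j) ≤ 1 := by
        rw [← degVal_algebraMap F, h3]
        exact ((minpoly O y).coeff j).2
      obtain ⟨c, hc⟩ := (degVal₀_le_one_iff σ k _).1 h4
      exact ⟨c, hc.symm⟩
    have hlift : minpoly (MvPolynomial σ k) y ∈
        Polynomial.lifts (MvPolynomial.C : k →+* MvPolynomial σ k) :=
      (Polynomial.lifts_iff_coeff_lifts _).2 hcoef
    obtain ⟨q, hq, -, hqm⟩ := Polynomial.lifts_and_degree_eq_and_monic hlift (minpoly.monic hyB)
    have hyk : IsIntegral k y := by
      refine ⟨q, hqm, ?_⟩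
      have : algebraMap k K = (algebraMap (MvPolynomial σ k) K).comp MvPolynomial.C := by
        rw [IsScalarTower.algebraMap_eq k (MvPolynomial σ k) K, MvPolynomial.algebraMap_eq]
      rw [this, ← Polynomial.eval₂_map, hq]
      exact minpoly.aeval _ _
    exact hyk.of_pow (pow_pos (expChar_pos L p) N)


attribute [local instance] FractionRing.liftAlgebra

theorem exists_valHom_domain (k : Type*) [Field k] (A : Type*) [CommRing A] [IsDomain A]
    [Algebra k A] [Algebra.FiniteType k A] :
    ∃ (n : ℕ) (Θ : Aˣ →* Multiplicative (Fin n → ℤ)),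
      ∀ u : Aˣ, Θ u = 1 → IsIntegral k (u : A) := by
  obtain ⟨d, g, hginj, hgfin⟩ := exists_finite_inj_algHom_of_fg k A
  let B := MvPolynomial (Fin d) k
  letI : Algebra B A := g.toRingHom.toAlgebra
  haveI : IsScalarTower k B A := IsScalarTower.of_algebraMap_eq (fun c => (g.commutes c).symm)
  haveI : Module.Finite B A := hgfin
  haveI : FaithfulSMul B A := (faithfulSMul_iff_algebraMap_injective B A).2 hginj
  let F := FractionRing B
  let K := FractionRing A
  haveI : Algebra.IsIntegral B A := Algebra.IsIntegral.of_finite B A
  haveI : Algebra.IsAlgebraic B A := inferInstance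
  haveI : FiniteDimensional F K := by
    rw [FiniteDimensional, ← Module.rank_lt_aleph0_iff, Algebra.IsAlgebraic.rank_fractionRing]
    exact Module.rank_lt_aleph0 B A
  haveI : IsScalarTower B F K := inferInstance
  haveI : IsScalarTower k B K := IsScalarTower.of_algebraMap_eq (fun c => by
    rw [IsScalarTower.algebraMap_apply B A K, ← IsScalarTower.algebraMap_apply k B A,
      ← IsScalarTower.algebraMap_apply k A K])
  obtain ⟨n, Θ, hΘ⟩ := exists_valHom_field (Fin d) k F K
  refine ⟨n, Θ.comp (Units.map (algebraMap A K).toMonoidHom), fun u hu => ?_⟩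
  have h1 : IsIntegral B ((u : A)) := Algebra.IsIntegral.isIntegral _
  have h2 : IsIntegral B (algebraMap A K u) := h1.algebraMap
  have h3 := hΘ (Units.map (algebraMap A K).toMonoidHom u) hu h2
  exact (isIntegral_algebraMap_iff (IsFractionRing.injective A K)).1 h3


theorem fg_units_quotient {k : Type*} [Field k] {R : Type*} [CommRing R] [Nontrivial R]
    (φ : k →+* R) {I : Type*} [Finite I] (A : I → Type*) [∀ i, CommRing (A i)]
    [∀ i, IsDomain (A i)] (r : ∀ i, R →+* A i)
    (hr : ∀ s : R, (∀ i, r i s = 0) → s = 0)
    (hft : ∀ i, ((r i).comp φ).FiniteType)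
    (hint : ∀ x : R, φ.IsIntegralElem x → x ∈ Set.range φ) :
    Group.FG (Rˣ ⧸ (Units.map (φ : k →* R)).range) := by
  classical
  cases nonempty_fintype I
  have key : ∀ i, ∃ (n : ℕ) (Θ : (A i)ˣ →* Multiplicative (Fin n → ℤ)),
      ∀ u : (A i)ˣ, Θ u = 1 → ((r i).comp φ).IsIntegralElem (u : A i) := by
    intro i
    letI : Algebra k (A i) := ((r i).comp φ).toAlgebra
    haveI : Algebra.FiniteType k (A i) := hft i
    exact exists_valHom_domain k (A i)
  choose n Θ hΘ using key
  let Θt : Rˣ →* Multiplicative ((Σ i : I, Fin (n i)) → ℤ) :=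
    { toFun := fun u => Multiplicative.ofAdd
        (fun ij => Multiplicative.toAdd (Θ ij.1 (Units.map (r ij.1 : R →* A ij.1) u)) ij.2)
      map_one' := by
        apply Multiplicative.toAdd.injective
        funext ij
        simp
      map_mul' := fun a b => by
        apply Multiplicative.toAdd.injective
        funext ij
        simp }
  refine fg_quotient_of_ker_le Θt _ ?_
  intro u hu
  rw [MonoidHom.mem_ker] at hu
  have h1 : ∀ i, Θ i (Units.map (r i : R →* A i) u) = 1 := by
    intro i
    apply Multiplicative.toAdd.injective
    funext j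
    have := congrFun (congrArg Multiplicative.toAdd hu) ⟨i, j⟩
    simpa [Θt] using this
  have h2 : ∀ i, ((r i).comp φ).IsIntegralElem (r i (u : R)) := fun i => hΘ i _ (h1 i)
  choose p hpm hp using h2
  have hP : φ.IsIntegralElem (u : R) := by
    refine ⟨∏ i, p i, Polynomial.monic_prod_of_monic _ _ (fun i _ => hpm i), ?_⟩
    apply hr
    intro i₀
    rw [Polynomial.eval₂_finsetProd, map_prod]
    apply Finset.prod_eq_zero (Finset.mem_univ i₀)
    rw [Polynomial.hom_eval₂]
    exact hp i₀
  obtain ⟨c, hc⟩ := hint _ hP
  have hc0 : c ≠ 0 := by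
    rintro rfl
    rw [map_zero] at hc
    exact u.ne_zero hc.symm
  exact ⟨Units.mk0 c hc0, Units.ext hc⟩


end Groth.Agent.Lib.Helper6.UnitsFG
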