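import Mathlib
import Groth.Agent.Lib.Helper6UnitsFGB

/-!
# Units of a reduced connected scheme of finite type over a field modulo constants
-/

set_option autoImplicit false
universe u
open CategoryTheory CategoryTheory.Limits AlgebraicGeometry TopologicalSpace

namespace Groth.Agent.Lib.Helper6.UnitsFG

theorem exists_affine_in_component (X : Scheme.{u})
    (hirr : (irreducibleComponents (X : Type u)).Finite) (Z : Set X)
    (hZ : Z ∈ irreducibleComponents (X : Type u)) :
    ∃ U : X.Opens, IsAffineOpen U ∧ (U : Set X).Nonempty ∧ (U : Set X) ⊆ Z := by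
  have hcl := closure_sUnion_irreducibleComponents_sdiff_singleton hirr Z hZ
  have hopen : IsOpen (⋃₀ (irreducibleComponents (X : Type u) \ {Z}))ᶜ := by
    rw [Set.sUnion_eq_biUnion, isOpen_compl_iff]
    refine Set.Finite.isClosed_biUnion (hirr.sdiff (t := {Z})) ?_
    intro W hW
    exact isClosed_of_mem_irreducibleComponents W hW.1
  have hsub : (⋃₀ (irreducibleComponents (X : Type u) \ {Z}))ᶜ ⊆ Z := by
    exact subset_closure.trans hcl.le
  have hne : ((⋃₀ (irreducibleComponents (X : Type u) \ {Z}))ᶜ).Nonempty := by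
    by_contra h
    rw [Set.not_nonempty_iff_eq_empty] at h
    rw [h, closure_empty] at hcl
    exact hZ.1.nonempty.ne_empty hcl.symm
  obtain ⟨x, hx⟩ := hne
  let V : X.Opens := ⟨_, hopen⟩
  obtain ⟨U, hU, hxU, hUV⟩ := Opens.isBasis_iff_nbhd.1 X.isBasis_affineOpens (U := V) hx
  exact ⟨U, hU, ⟨x, hxU⟩, fun y hy => hsub (hUV hy)⟩

theorem units_fg (k : Type u) [Field k] (X : Scheme.{u}) (f : X ⟶ Spec (CommRingCat.of k))
    [LocallyOfFiniteType f] [IsReduced X] [ConnectedSpace X]
    (hirr : (irreducibleComponents (X : Type u)).Finite)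
    (hint : ∀ x : Γ(X, ⊤),
      (f.appTop.hom.comp (Scheme.ΓSpecIso (CommRingCat.of k)).inv.hom).IsIntegralElem x →
      x ∈ Set.range (f.appTop.hom.comp (Scheme.ΓSpecIso (CommRingCat.of k)).inv.hom)) :
    Group.FG ((Γ(X, ⊤))ˣ ⧸ (Units.map ((f.appTop.hom.comp
      (Scheme.ΓSpecIso (CommRingCat.of k)).inv.hom : k →+* Γ(X, ⊤)) : k →* Γ(X, ⊤))).range) := by
  haveI : Finite ↥(irreducibleComponents (X : Type u)) := hirr.to_subtype
  have key : ∀ Z : ↥(irreducibleComponents (X : Type u)), ∃ U : X.Opens,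
      IsAffineOpen U ∧ (U : Set X).Nonempty ∧ (U : Set X) ⊆ Z.1 :=
    fun Z => exists_affine_in_component X hirr Z.1 Z.2
  choose U hUaff hUne hUZ using key
  haveI : Nonempty ↥(⊤ : X.Opens) := by
    obtain ⟨x⟩ := (inferInstance : Nonempty X)
    exact ⟨⟨x, trivial⟩⟩
  haveI : Nontrivial Γ(X, ⊤) := inferInstance
  haveI hdom : ∀ Z, IsDomain Γ(X, U Z) := by
    intro Z
    have hirrU : IsIrreducible (U Z : Set X) :=
      ⟨hUne Z, Z.2.1.2.open_subset (U Z).2 (hUZ Z)⟩
    haveI : IrreducibleSpace (U Z).toScheme := Subtype.irreducibleSpace hirrU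
    haveI : IsIntegral (U Z).toScheme := isIntegral_of_irreducibleSpace_of_isReduced _
    exact (U Z).topIso.commRingCatIsoToRingEquiv.symm.toMulEquiv.isDomain _
  refine fg_units_quotient (f.appTop.hom.comp (Scheme.ΓSpecIso (CommRingCat.of k)).inv.hom)
    (fun Z => Γ(X, U Z)) (fun Z => (X.presheaf.map (homOfLE le_top).op).hom) ?_ ?_ hint
  · intro s hs
    rw [← basicOpen_eq_bot_iff]
    by_contra hne
    obtain ⟨x, hx⟩ : ((X.basicOpen s : X.Opens) : Set X).Nonempty := by
      rw [Set.nonempty_iff_ne_empty]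
      intro h
      exact hne (Opens.ext h)
    let Z : ↥(irreducibleComponents (X : Type u)) :=
      ⟨irreducibleComponent x, irreducibleComponent_mem_irreducibleComponents x⟩
    obtain ⟨u, hu⟩ := hUne Z
    obtain ⟨y, hyZ, hys, hyU⟩ := Z.2.1.2 (X.basicOpen s) (U Z) (X.basicOpen s).2 (U Z).2
      ⟨x, mem_irreducibleComponent, hx⟩ ⟨u, hUZ Z hu, hu⟩
    have h1 : X.basicOpen ((X.presheaf.map (homOfLE (le_top : U Z ≤ ⊤)).op).hom s) =
        U Z ⊓ X.basicOpen s := Scheme.basicOpen_res _ _ _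
    have h2 : y ∈ X.basicOpen ((X.presheaf.map (homOfLE (le_top : U Z ≤ ⊤)).op).hom s) := by
      rw [h1]
      exact ⟨hyU, hys⟩
    rw [hs Z, Scheme.basicOpen_zero] at h2
    exact h2
  · intro Z
    have h1 := f.finiteType_appLE (isAffineOpen_top (Spec (CommRingCat.of k))) (hUaff Z)
      (le_top : U Z ≤ f ⁻¹ᵁ ⊤)
    have h2 : ((Scheme.ΓSpecIso (CommRingCat.of k)).inv.hom).FiniteType :=
      RingHom.FiniteType.of_surjective _
        (ConcreteCategory.bijective_of_isIso (Scheme.ΓSpecIso (CommRingCat.of k)).inv).2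
    have h3 := h1.comp h2
    convert h3 using 1
    rw [← RingHom.comp_assoc, ← CommRingCat.hom_comp]
    rfl

end Groth.Agent.Lib.Helper6.UnitsFG
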