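import Mathlib
import Groth.Agent.Lib.Helper6UnitsFGC

/-!
# Units of an integral variety over an algebraically closed field modulo constants: free of finite rank
-/

set_option autoImplicit false
universe u
open CategoryTheory CategoryTheory.Limits AlgebraicGeometry TopologicalSpace

namespace Groth.Agent.Lib.Helper6.UnitsFG

lemma exists_hom_of_fg_torsionFree {Γ : Type*} [CommGroup Γ] (H : Subgroup Γ)
    (hfg : Group.FG (Γ ⧸ H))
    (htf : ∀ (u : Γ) (n : ℕ), 0 < n → u ^ n ∈ H → u ∈ H) :
    ∃ (n : ℕ) (v : Γ →* Multiplicative (Fin n → ℤ)), Function.Surjective v ∧ v.ker = H := by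
  haveI : IsMulTorsionFree (Γ ⧸ H) := by
    apply IsMulTorsionFree.of_not_isOfFinOrder
    intro a ha hfin
    obtain ⟨u, rfl⟩ := QuotientGroup.mk_surjective a
    rw [isOfFinOrder_iff_pow_eq_one] at hfin
    obtain ⟨n, hn, hun⟩ := hfin
    rw [← QuotientGroup.mk_pow, QuotientGroup.eq_one_iff] at hun
    exact ha ((QuotientGroup.eq_one_iff u).2 (htf u n hn hun))
  haveI : Module.Finite ℤ (Additive (Γ ⧸ H)) := Module.Finite.iff_addGroup_fg.2 inferInstance
  obtain ⟨n, b⟩ := Module.basisOfFiniteTypeTorsionFree' (R := ℤ) (M := Additive (Γ ⧸ H))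
  let e : Additive (Γ ⧸ H) ≃+ (Fin n → ℤ) := b.equivFun.toAddEquiv
  let v : Γ →* Multiplicative (Fin n → ℤ) :=
    { toFun := fun u => Multiplicative.ofAdd (e (Additive.ofMul (QuotientGroup.mk u : Γ ⧸ H)))
      map_one' := by
        have : Additive.ofMul ((1 : Γ) : Γ ⧸ H) = 0 := rfl
        rw [this, map_zero]
        rfl
      map_mul' := fun a b => by
        have : Additive.ofMul ((a * b : Γ) : Γ ⧸ H) =
            Additive.ofMul (a : Γ ⧸ H) + Additive.ofMul (b : Γ ⧸ H) := rfl
        rw [this, map_add]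
        rfl }
  refine ⟨n, v, ?_, ?_⟩
  · intro y
    obtain ⟨x, hx⟩ := e.surjective (Multiplicative.toAdd y)
    obtain ⟨u, hu⟩ := QuotientGroup.mk_surjective (Additive.toMul x)
    refine ⟨u, ?_⟩
    change Multiplicative.ofAdd (e (Additive.ofMul (QuotientGroup.mk u))) = y
    rw [hu]
    exact congrArg Multiplicative.ofAdd hx
  · ext u
    rw [MonoidHom.mem_ker]
    change Multiplicative.ofAdd (e (Additive.ofMul (QuotientGroup.mk u))) = 1 ↔ _
    constructor
    · intro h
      have h1 : e (Additive.ofMul (QuotientGroup.mk u)) = 0 := h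
      have h2 : Additive.ofMul (QuotientGroup.mk u : Γ ⧸ H) = 0 := by
        rw [← e.map_zero] at h1
        exact e.injective h1
      exact (QuotientGroup.eq_one_iff u).1 h2
    · intro h
      have h2 : Additive.ofMul (QuotientGroup.mk u : Γ ⧸ H) = 0 := (QuotientGroup.eq_one_iff u).2 h
      rw [h2, map_zero]
      rfl

theorem units_free (k : Type u) [Field k] [IsAlgClosed k] (X : Scheme.{u})
    (f : X ⟶ Spec (CommRingCat.of k)) [LocallyOfFiniteType f] [IsIntegral X] :
    ∃ (n : ℕ) (v : (Γ(X, ⊤))ˣ →* Multiplicative (Fin n → ℤ)), Function.Surjective v ∧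
      v.ker = (Units.map ((f.appTop.hom.comp
        (Scheme.ΓSpecIso (CommRingCat.of k)).inv.hom : k →+* Γ(X, ⊤)) : k →* Γ(X, ⊤))).range := by
  set φ : k →+* Γ(X, ⊤) := f.appTop.hom.comp (Scheme.ΓSpecIso (CommRingCat.of k)).inv.hom with hφ
  have hint : ∀ x : Γ(X, ⊤), φ.IsIntegralElem x → x ∈ Set.range φ := by
    intro x hx
    letI : Algebra k Γ(X, ⊤) := φ.toAlgebra
    have hx' : IsIntegral k x := hx
    have hirr : Irreducible (minpoly k x) := minpoly.irreducible hx'
    have hdeg : (minpoly k x).degree = 1 := IsAlgClosed.degree_eq_one_of_irreducible k hirr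
    exact minpoly.mem_range_of_degree_eq_one k x hdeg
  have hirr : (irreducibleComponents (X : Type u)).Finite := by
    rw [irreducibleComponents_eq_singleton]
    exact Set.finite_singleton _
  have hfg := units_fg k X f hirr hint
  refine exists_hom_of_fg_torsionFree _ hfg ?_
  intro u n hn hun
  obtain ⟨c, hc⟩ := hun
  have h1 : ((u : Γ(X, ⊤))) ^ n = φ (c : k) := by
    have := congrArg Units.val hc
    simpa using this.symm
  have h2 : φ.IsIntegralElem (u : Γ(X, ⊤)) := by
    refine ⟨Polynomial.X ^ n - Polynomial.C (c : k), Polynomial.monic_X_pow_sub_C _ hn.ne', ?_⟩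
    simp [h1]
  obtain ⟨c', hc'⟩ := hint _ h2
  have hc0 : c' ≠ 0 := by
    rintro rfl
    rw [map_zero] at hc'
    exact u.ne_zero hc'.symm
  exact ⟨Units.mk0 c' hc0, Units.ext hc'⟩

end Groth.Agent.Lib.Helper6.UnitsFG
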