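import Mathlib.AlgebraicGeometry.Morphisms.FormallyUnramified
import Mathlib.AlgebraicGeometry.Morphisms.Separated
import Mathlib.AlgebraicGeometry.Fiber

/-!
# The equalizer of two morphisms into a formally unramified scheme is open
-/

set_option autoImplicit false
open CategoryTheory AlgebraicGeometry Limits
universe u

namespace Groth.Agent.Lib.Helper7

/-- The open locus on which two `S`-morphisms into a formally unramified `S`-scheme (locally of
finite type) agree. -/
theorem exists_opens_eq_of_formallyUnramified {X Y S : Scheme.{u}} (h : Y ⟶ S)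
    [FormallyUnramified h] [LocallyOfFiniteType h] (f g : X ⟶ Y) (w : g ≫ h = f ≫ h) :
    ∃ E : X.Opens, E.ι ≫ f = E.ι ≫ g ∧
      (∀ (T : Scheme.{u}) (i : T ⟶ X), i ≫ f = i ≫ g → Set.range i.base ⊆ (E : Set X)) ∧
      (IsSeparated h → IsClosed (E : Set X)) := by
  let k : X ⟶ pullback h h := pullback.lift f g w.symm
  have hk1 : k ≫ pullback.fst h h = f := pullback.lift_fst _ _ _
  have hk2 : k ≫ pullback.snd h h = g := pullback.lift_snd _ _ _
  have hΔ : IsOpenImmersion (pullback.diagonal h) := inferInstance
  refine ⟨k ⁻¹ᵁ (pullback.diagonal h).opensRange, ?_, ?_, ?_⟩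
  · set E : X.Opens := k ⁻¹ᵁ (pullback.diagonal h).opensRange with hE
    have hrange : Set.range (E.ι ≫ k).base ⊆ Set.range (pullback.diagonal h).base := by
      rintro _ ⟨x, rfl⟩
      exact x.2
    set l := IsOpenImmersion.lift (pullback.diagonal h) (E.ι ≫ k) hrange with hl
    have hfac : l ≫ pullback.diagonal h = E.ι ≫ k :=
      IsOpenImmersion.lift_fac (pullback.diagonal h) (E.ι ≫ k) hrange
    have e1 : E.ι ≫ f = l := by
      calc E.ι ≫ f = (E.ι ≫ k) ≫ pullback.fst h h := by rw [Category.assoc, hk1]
        _ = (l ≫ pullback.diagonal h) ≫ pullback.fst h h := by rw [hfac]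
        _ = l := by rw [Category.assoc, pullback.diagonal_fst, Category.comp_id]
    have e2 : E.ι ≫ g = l := by
      calc E.ι ≫ g = (E.ι ≫ k) ≫ pullback.snd h h := by rw [Category.assoc, hk2]
        _ = (l ≫ pullback.diagonal h) ≫ pullback.snd h h := by rw [hfac]
        _ = l := by rw [Category.assoc, pullback.diagonal_snd, Category.comp_id]
    rw [e1, e2]
  · rintro T i hi _ ⟨t, rfl⟩
    have : i ≫ k = (i ≫ f) ≫ pullback.diagonal h := by
      apply pullback.hom_ext
      · rw [Category.assoc, hk1, Category.assoc, pullback.diagonal_fst, Category.comp_id]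
      · rw [Category.assoc, hk2, Category.assoc, pullback.diagonal_snd, Category.comp_id, hi]
    change k.base (i.base t) ∈ Set.range (pullback.diagonal h).base
    rw [← Scheme.Hom.comp_apply, this, Scheme.Hom.comp_apply]
    exact ⟨_, rfl⟩
  · intro hsep
    have : IsClosedImmersion (pullback.diagonal h) := inferInstance
    exact (pullback.diagonal h).isClosedEmbedding.isClosed_range.preimage k.continuous

end Groth.Agent.Lib.Helper7
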