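import Mathlib
import Groth.Agent.Lib.Helper7Unram

set_option autoImplicit false
universe u
open CategoryTheory AlgebraicGeometry

namespace Groth.Agent.Lib.Helper6.UnrSec

theorem sections_eq (R : Type u) [CommRing R] (I : Ideal R)
    (hI : I ≤ (⊥ : Ideal R).jacobson)
    (X : Scheme.{u}) (p : X ⟶ Spec (CommRingCat.of R)) [FormallyUnramified p] [LocallyOfFiniteType p]
    (t₁ t₂ : Spec (CommRingCat.of R) ⟶ X) (h₁ : t₁ ≫ p = 𝟙 _) (h₂ : t₂ ≫ p = 𝟙 _)
    (h : Spec.map (CommRingCat.ofHom (Ideal.Quotient.mk I)) ≫ t₁ =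
      Spec.map (CommRingCat.ofHom (Ideal.Quotient.mk I)) ≫ t₂) :
    t₁ = t₂ := by
  obtain ⟨E, hE, hmax, -⟩ := Groth.Agent.Lib.Helper7.exists_opens_eq_of_formallyUnramified
    p t₁ t₂ (by rw [h₁, h₂])
  have hrange := hmax _ _ h
  have hE_top : E = ⊤ := by
    by_contra hne
    obtain ⟨J, hJ⟩ := (PrimeSpectrum.isClosed_iff_zeroLocus_ideal _).mp E.isOpen.isClosed_compl
    have hJne : J ≠ ⊤ := by
      rintro rfl
      apply hne
      rw [Submodule.top_coe, PrimeSpectrum.zeroLocus_univ] at hJ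
      ext x
      simp only [TopologicalSpace.Opens.coe_top, Set.mem_univ, iff_true]
      by_contra hx
      have : x ∈ (E : Set _)ᶜ := hx
      rw [hJ] at this
      exact this
    obtain ⟨m, hm, hJm⟩ := Ideal.exists_le_maximal J hJne
    have hIm : I ≤ m := hI.trans (sInf_le ⟨bot_le, hm⟩)
    let pt : PrimeSpectrum R := ⟨m, hm.isPrime⟩
    have h1 : pt ∈ (E : Set (Spec (CommRingCat.of R)))ᶜ := by
      rw [hJ]
      exact hJm
    have h2 : pt ∈ Set.range (Spec.map (CommRingCat.ofHom (Ideal.Quotient.mk I))).base := by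
      have : Set.range (PrimeSpectrum.comap (Ideal.Quotient.mk I)) =
          PrimeSpectrum.zeroLocus (RingHom.ker (Ideal.Quotient.mk I)) :=
        _root_.range_comap_of_surjective _ _ Ideal.Quotient.mk_surjective
      rw [Ideal.mk_ker] at this
      change pt ∈ Set.range (PrimeSpectrum.comap (Ideal.Quotient.mk I))
      rw [this]
      exact hIm
    exact h1 (hrange h2)
  subst hE_top
  haveI : IsIso (⊤ : (Spec (CommRingCat.of R)).Opens).ι :=
    inferInstanceAs (IsIso (Scheme.topIso _).hom)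
  exact (cancel_epi _).mp hE

end Groth.Agent.Lib.Helper6.UnrSec
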