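import Mathlib
import Groth.Agent.Lib.Helper22VC12

set_option autoImplicit false
set_option linter.style.haveILetI false
set_option linter.unusedSectionVars false
universe u

namespace Groth.Agent.Lib.Helper6.VCMod

open TensorProduct IsLocalRing Groth.Agent.Lib.Helper22.VC

attribute [local instance] Algebra.TensorProduct.rightAlgebra

/-- Local case, prime over the closed point. -/
theorem flat_localizedModule_of_local {A : Type u} [CommRing A] [IsLocalRing A]
    [IsNoetherianRing A] [IsReduced A]
    (B : Type u) [CommRing B] [Algebra A B] [Algebra.FiniteType A B] (P : Ideal B) [P.IsPrime]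
    (hP : (maximalIdeal A).map (algebraMap A B) ≤ P)
    (M : Type u) [AddCommGroup M] [Module B M] [Module A M] [IsScalarTower A B M]
    [Module.Finite B M]
    (H : ∀ (R : Type u) [CommRing R] [IsDomain R] [IsDiscreteValuationRing R] [Algebra A R],
        Module.Flat R (R ⊗[A] M)) :
    Module.Flat A (LocalizedModule P.primeCompl M) := by
  refine (flatAt_of_test B P hP M ?_).flat
  intro A' _ _ _ _ _ R' _ _ _ _ _ _ _ 𝔮 _ h1 h2
  refine TFAt.of_model (A := A) (R'₁ := A' ⊗[A] B) M 𝔮 ?_
  intro 𝔮₁ h𝔮₁ _ _
  let e := Algebra.IsPushout.cancelBaseChange A A' B (A' ⊗[A] B) M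
  intro a ha z hz
  refine ⟨1, ?_, ?_⟩
  · exact fun h => h𝔮₁.ne_top ((Ideal.eq_top_iff_one _).2 h)
  · rw [one_smul]
    apply e.injective
    rw [map_zero]
    have h0 : a • e z = 0 := by
      rw [← map_smul, ← algebraMap_smul (A' ⊗[A] B) a z, hz, map_zero]
    have hflat := H A'
    have hreg := Module.Flat.isSMulRegular_of_nonZeroDivisors (M := A' ⊗[A] M)
      (mem_nonZeroDivisors_of_ne_zero ha)
    exact hreg (by simp only [smul_zero]; exact h0)

/-- Localizing `S ⊗[B] M` (with `S` a localization of `B`) at a prime `𝔫` of `S` is the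
localization of `M` at the contraction of `𝔫`. -/
theorem isLocalizedModule_comp {B S : Type u} [CommRing B] [CommRing S] [Algebra B S]
    (T : Submonoid B) [IsLocalization T S] (𝔫 : Ideal S) [𝔫.IsPrime] (P : Ideal B) [P.IsPrime]
    (hP : 𝔫.comap (algebraMap B S) = P) (M : Type u) [AddCommGroup M] [Module B M] :
    IsLocalizedModule P.primeCompl
      (((LocalizedModule.mkLinearMap 𝔫.primeCompl (S ⊗[B] M)).restrictScalars B).comp
        (TensorProduct.mk B S M 1)) := by
  have h1 : IsBaseChange S (TensorProduct.mk B S M 1) := TensorProduct.isBaseChange B M S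
  have h2 : IsBaseChange (Localization.AtPrime 𝔫)
      (LocalizedModule.mkLinearMap 𝔫.primeCompl (S ⊗[B] M)) :=
    IsLocalizedModule.isBaseChange 𝔫.primeCompl _ _
  have h3 := IsBaseChange.comp h1 h2
  haveI h4 : IsLocalization.AtPrime (Localization.AtPrime 𝔫) (𝔫.comap (algebraMap B S)) :=
    IsLocalization.isLocalization_isLocalization_atPrime_isLocalization T
      (Localization.AtPrime 𝔫) 𝔫
  subst hP
  exact (isLocalizedModule_iff_isBaseChange (𝔫.comap (algebraMap B S)).primeCompl
    (Localization.AtPrime 𝔫) _).mpr h3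

set_option maxHeartbeats 2000000 in
/-- General base: the localization of `M` at any prime of `B` is flat over `A`. -/
theorem flat_localizedModule_of_forall_dvr {A : Type u} [CommRing A] [IsNoetherianRing A]
    [IsReduced A]
    (B : Type u) [CommRing B] [Algebra A B] [Algebra.FiniteType A B] (P : Ideal B) [P.IsPrime]
    (M : Type u) [AddCommGroup M] [Module B M] [Module A M] [IsScalarTower A B M]
    [Module.Finite B M]
    (H : ∀ (R : Type u) [CommRing R] [IsDomain R] [IsDiscreteValuationRing R] [Algebra A R],
        Module.Flat R (R ⊗[A] M)) :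
    Module.Flat A (LocalizedModule P.primeCompl M) := by
  set p := P.comap (algebraMap A B) with hp
  let Ap := Localization.AtPrime p
  haveI : IsReduced Ap := inferInstance
  haveI : IsNoetherianRing Ap := inferInstance
  let S := Ap ⊗[A] B
  let T : Submonoid B := Algebra.algebraMapSubmonoid B p.primeCompl
  haveI : IsLocalization T S := inferInstance
  have hdisj : Disjoint (T : Set B) (P : Set B) := by
    rw [Set.disjoint_left]
    rintro _ ⟨r, hr, rfl⟩ hmem
    exact hr hmem
  let 𝔫 : Ideal S := P.map (algebraMap B S)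
  haveI : 𝔫.IsPrime := IsLocalization.isPrime_of_isPrime_disjoint T S P inferInstance hdisj
  have hcomap𝔫 : 𝔫.comap (algebraMap B S) = P :=
    IsLocalization.under_map_of_isPrime_disjoint T S inferInstance hdisj
  have h𝔫 : (maximalIdeal Ap).map (algebraMap Ap S) ≤ 𝔫 := by
    rw [← IsLocalization.AtPrime.map_eq_maximalIdeal p Ap, Ideal.map_map,
      ← IsScalarTower.algebraMap_eq, IsScalarTower.algebraMap_eq A B S, ← Ideal.map_map]
    exact Ideal.map_mono Ideal.map_comap_le
  let N := S ⊗[B] M
  have HN : ∀ (R : Type u) [CommRing R] [IsDomain R] [IsDiscreteValuationRing R] [Algebra Ap R],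
        Module.Flat R (R ⊗[Ap] N) := by
    intro R _ _ _ _
    letI algAR : Algebra A R := ((algebraMap Ap R).comp (algebraMap A Ap)).toAlgebra
    haveI : IsScalarTower A Ap R := IsScalarTower.of_algebraMap_eq (fun _ => rfl)
    have hflat := H R
    let e1 : N ≃ₗ[Ap] Ap ⊗[A] M := Algebra.IsPushout.cancelBaseChange A Ap B (Ap ⊗[A] B) M
    let e2 : R ⊗[Ap] N ≃ₗ[R] R ⊗[Ap] (Ap ⊗[A] M) :=
      TensorProduct.AlgebraTensorModule.congr (LinearEquiv.refl R R) e1
    let e3 : R ⊗[Ap] (Ap ⊗[A] M) ≃ₗ[R] R ⊗[A] M :=
      TensorProduct.AlgebraTensorModule.cancelBaseChange A Ap R R M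
    exact Module.Flat.of_linearEquiv (e2 ≪≫ₗ e3)
  have hflat : Module.Flat Ap (LocalizedModule 𝔫.primeCompl N) :=
    flat_localizedModule_of_local S 𝔫 h𝔫 N HN
  haveI : Module.Flat A Ap := IsLocalization.flat Ap p.primeCompl
  have hflatA : Module.Flat A (LocalizedModule 𝔫.primeCompl N) := Module.Flat.trans A Ap _
  haveI := isLocalizedModule_comp T 𝔫 P hcomap𝔫 M
  let e := IsLocalizedModule.iso P.primeCompl
    (((LocalizedModule.mkLinearMap 𝔫.primeCompl (S ⊗[B] M)).restrictScalars B).comp
        (TensorProduct.mk B S M 1))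
  exact Module.Flat.of_linearEquiv (e.restrictScalars A)

/-- **Valuative criterion of flatness for modules, affine form** (EGA IV 11.8.1). -/
theorem main (A : Type u) [CommRing A] [IsReduced A]
    [IsNoetherianRing A] (B : Type u) [CommRing B] [Algebra A B] [Algebra.FiniteType A B]
    (M : Type u) [AddCommGroup M] [Module A M] [Module B M] [IsScalarTower A B M]
    [Module.Finite B M] :
    Module.Flat A M ↔
      ∀ (R : Type u) [CommRing R] [IsDomain R] [IsDiscreteValuationRing R] [Algebra A R],
        Module.Flat R (R ⊗[A] M) := by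
  constructor
  · intro h R _ _ _ _
    infer_instance
  · intro H
    refine Module.flat_of_isLocalized_maximal B M (fun P _ => LocalizedModule P.primeCompl M)
      (fun P _ => LocalizedModule.mkLinearMap P.primeCompl M) ?_
    intro P hPmax
    exact flat_localizedModule_of_forall_dvr B P M H

end Groth.Agent.Lib.Helper6.VCMod

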