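import Groth.Agent.Lib.Helper6FrobEtale
import Groth.Prelude.Def_Versch

set_option autoImplicit false

namespace Groth.Agent.Lib.Helper6.VEtale

open Coalgebra TensorProduct WithConv FrobAlg

universe u v

section

variable (p : ℕ) [Fact p.Prime] {k : Type u} [Field k] [CharP k p]
  {A : Type v} [CommRing A] [HopfAlgebra k A] [Coalgebra.IsCocomm k A] [FiniteDimensional k A]
  {ι : Type*} [Fintype ι] [DecidableEq ι] (b : Module.Basis ι k A)

/-- dual basis vectors in `D` -/
noncomputable def e' (i : ι) : CartDual.D k A := toConv (b.coord i)

omit [Fintype ι] [DecidableEq ι] [IsCocomm k A] [FiniteDimensional k A] in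
lemma e'_apply (i : ι) (a : A) : e' b i a = b.repr a i := rfl

omit [DecidableEq ι] [IsCocomm k A] [FiniteDimensional k A] in
lemma expand_dual (x : CartDual.D k A) : x = ∑ i, x (b i) • e' b i := by
  apply WithConv.ofConv_injective
  apply b.ext
  intro j
  simp only [WithConv.ofConv_sum, WithConv.ofConv_smul, LinearMap.sum_apply,
    LinearMap.smul_apply, smul_eq_mul]
  rw [Finset.sum_eq_single j]
  · change _ = x (b j) * (e' b j) (b j)
    rw [e'_apply]
    simp
  · intro i _ hij
    change x (b i) * (e' b i) (b j) = 0
    rw [e'_apply]
    simp [Ne.symm hij]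
  · intro h; exact absurd (Finset.mem_univ j) h

/-- the matrix of the `p`-power map of `D` in the dual basis -/
noncomputable def MM : Matrix ι ι k := fun i j => ((e' b i) ^ p) (b j)

omit [DecidableEq ι] [FiniteDimensional k A] in
lemma pow_apply_eq (i : ι) (a : A) : ((e' b i) ^ p) a = (MM p b).mulVec (b.equivFun a) i := by
  conv_lhs => rw [← b.sum_repr a]
  change ((e' b i) ^ p).ofConv (∑ j, b.repr a j • b j) = _
  rw [map_sum]
  simp only [map_smul, smul_eq_mul, Matrix.mulVec, dotProduct, MM, Module.Basis.equivFun_apply]
  refine Finset.sum_congr rfl (fun j _ => ?_)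
  rw [mul_comm]

end

section VSide

variable (p : ℕ) [Fact p.Prime] {k : Type u} [Field k] [CharP k p]
  {A : Type v} [CommRing A] [HopfAlgebra k A] [Coalgebra.IsCocomm k A] [FiniteDimensional k A]
  {ι : Type*} [Fintype ι] [DecidableEq ι] (b : Module.Basis ι k A)

omit [IsCocomm k A] [FiniteDimensional k A] [Fintype ι] [DecidableEq ι] in
lemma repr_comm_eq_evTw (z : A ⊗[k] Twist p k) (i : ι) :
    (Algebra.TensorProduct.basis (Twist p k) b).repr (TensorProduct.comm k A (Twist p k) z) i =
      Versch.evTw p k A (e' b i) z := by
  induction z using TensorProduct.induction_on with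
  | zero => simp
  | add z w hz hw => simp only [map_add, Finsupp.add_apply, hz, hw]
  | tmul a s =>
    rw [TensorProduct.comm_tmul, Algebra.TensorProduct.basis_repr_tmul, Versch.evTw_tmul, e'_apply]
    simp [mul_comm]

/-- the coordinate description of `v` -/
lemma comm_v_eq (v : A →+* BaseChange p k A) (hv : Versch.IsVerschiebung p k A v) (a : A) :
    TensorProduct.comm k A (Twist p k) (v a) =
      (Algebra.TensorProduct.basis (Twist p k) b).equivFun.symm
        (fun i => toTwist p k ((MM p b).mulVec (b.equivFun a) i)) := by
  rw [Versch.isVerschiebung_iff] at hv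
  apply (Algebra.TensorProduct.basis (Twist p k) b).equivFun.injective
  rw [LinearEquiv.apply_symm_apply]
  funext i
  rw [Module.Basis.equivFun_apply, repr_comm_eq_evTw, hv, pow_apply_eq]

lemma v_bijective_iff (v : A →+* BaseChange p k A) (hv : Versch.IsVerschiebung p k A v) :
    Function.Bijective v ↔ Function.Bijective (MM p b).mulVec := by
  let G : (ι → k) → BaseChange p k A := fun r =>
    (TensorProduct.comm k A (Twist p k)).symm
      ((Algebra.TensorProduct.basis (Twist p k) b).equivFun.symm (fun i => toTwist p k (r i)))
  have hG : Function.Bijective G := by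
    refine (TensorProduct.comm k A (Twist p k)).symm.bijective.comp
      ((Algebra.TensorProduct.basis (Twist p k) b).equivFun.symm.bijective.comp ?_)
    exact (Equiv.piCongrRight (fun _ : ι => (toTwist p k).toEquiv)).bijective
  have hv' : (v : A → BaseChange p k A) = G ∘ (MM p b).mulVec ∘ b.equivFun := by
    funext a
    simp only [G, Function.comp_apply]
    rw [← comm_v_eq p b v hv a, LinearEquiv.symm_apply_apply]
  rw [hv', Function.Bijective.of_comp_iff' hG, Function.Bijective.of_comp_iff _ b.equivFun.bijective]

end VSide

section FSide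

variable (p : ℕ) [Fact p.Prime] {k : Type u} [Field k] [CharP k p]
  {A : Type v} [CommRing A] [HopfAlgebra k A] [Coalgebra.IsCocomm k A] [FiniteDimensional k A]
  {ι : Type*} [Fintype ι] [DecidableEq ι] (b : Module.Basis ι k A)

/-- the dual basis as a basis of `D` -/
noncomputable def bD : Module.Basis ι k (CartDual.D k A) :=
  b.dualBasis.map (CartDual.toDual k A).symm

omit [IsCocomm k A] [FiniteDimensional k A] in
lemma bD_apply (i : ι) : bD b i = e' b i := by
  simp [bD, e']

lemma relFrob_coord (c : ι → Twist p k) :
    relFrob p k (CartDual.D k A) ((TensorProduct.comm k (CartDual.D k A) (Twist p k)).symm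
      ((Algebra.TensorProduct.basis (Twist p k) (bD b)).equivFun.symm c)) =
    (bD b).equivFun.symm ((MM p b).transpose.mulVec (fun i => (toTwist p k).symm (c i))) := by
  rw [Module.Basis.equivFun_symm_apply, Module.Basis.equivFun_symm_apply, map_sum, map_sum]
  have h1 : ∀ i, relFrob p k (CartDual.D k A)
      ((TensorProduct.comm k (CartDual.D k A) (Twist p k)).symm
        (c i • (Algebra.TensorProduct.basis (Twist p k) (bD b)) i)) =
      (toTwist p k).symm (c i) • ∑ j, (MM p b) i j • e' b j := by
    intro i
    rw [Algebra.TensorProduct.basis_apply, TensorProduct.smul_tmul', smul_eq_mul, mul_one,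
      TensorProduct.comm_symm_tmul, FrobEtale.relFrob_tmul, bD_apply, mul_comm,
      ← Algebra.smul_def]
    congr 1
    exact expand_dual b ((e' b i) ^ p)
  simp only [h1, Finset.smul_sum, smul_smul]
  rw [Finset.sum_comm]
  refine Finset.sum_congr rfl (fun j _ => ?_)
  rw [bD_apply, ← Finset.sum_smul]
  congr 1
  simp only [Matrix.mulVec, dotProduct, Matrix.transpose_apply]
  refine Finset.sum_congr rfl (fun i _ => ?_)
  rw [mul_comm]

lemma relFrob_comp_eq :
    (relFrob p k (CartDual.D k A) : BaseChange p k (CartDual.D k A) → CartDual.D k A) ∘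
      ((TensorProduct.comm k (CartDual.D k A) (Twist p k)).symm ∘
        (Algebra.TensorProduct.basis (Twist p k) (bD b)).equivFun.symm) =
    (bD b).equivFun.symm ∘ (MM p b).transpose.mulVec ∘
      (fun c i => (toTwist p k).symm (c i)) := by
  funext c
  exact relFrob_coord p b c

lemma relFrob_injective_iff :
    Function.Injective (relFrob p k (CartDual.D k A)) ↔ IsUnit (MM p b) := by
  have hP : Function.Bijective ((TensorProduct.comm k (CartDual.D k A) (Twist p k)).symm ∘
      (Algebra.TensorProduct.basis (Twist p k) (bD b)).equivFun.symm) :=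
    (TensorProduct.comm k (CartDual.D k A) (Twist p k)).symm.bijective.comp
      (Algebra.TensorProduct.basis (Twist p k) (bD b)).equivFun.symm.bijective
  have hS : Function.Bijective (fun (c : ι → Twist p k) i => (toTwist p k).symm (c i)) :=
    (Equiv.piCongrRight (fun _ : ι => (toTwist p k).symm.toEquiv)).bijective
  rw [← Function.Injective.of_comp_iff' _ hP, relFrob_comp_eq,
    Function.Injective.of_comp_iff (bD b).equivFun.symm.injective,
    Function.Injective.of_comp_iff' _ hS, Matrix.mulVec_injective_iff_isUnit,
    Matrix.isUnit_transpose]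

lemma relFrob_bijective_iff :
    Function.Bijective (relFrob p k (CartDual.D k A)) ↔ IsUnit (MM p b) := by
  have hP : Function.Bijective ((TensorProduct.comm k (CartDual.D k A) (Twist p k)).symm ∘
      (Algebra.TensorProduct.basis (Twist p k) (bD b)).equivFun.symm) :=
    (TensorProduct.comm k (CartDual.D k A) (Twist p k)).symm.bijective.comp
      (Algebra.TensorProduct.basis (Twist p k) (bD b)).equivFun.symm.bijective
  have hS : Function.Bijective (fun (c : ι → Twist p k) i => (toTwist p k).symm (c i)) :=
    (Equiv.piCongrRight (fun _ : ι => (toTwist p k).symm.toEquiv)).bijective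
  rw [← Function.Bijective.of_comp_iff _ hP, relFrob_comp_eq,
    Function.Bijective.of_comp_iff' (bD b).equivFun.symm.bijective,
    Function.Bijective.of_comp_iff _ hS]
  constructor
  · intro h
    rw [← Matrix.isUnit_transpose]
    exact Matrix.mulVec_injective_iff_isUnit.1 h.1
  · intro h
    rw [← Matrix.isUnit_transpose] at h
    exact ⟨Matrix.mulVec_injective_iff_isUnit.2 h, Matrix.mulVec_surjective_iff_isUnit.2 h⟩

omit [IsCocomm k A] [FiniteDimensional k A] in
lemma mulVec_bijective_iff : Function.Bijective (MM p b).mulVec ↔ IsUnit (MM p b) := by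
  constructor
  · intro h
    exact Matrix.mulVec_injective_iff_isUnit.1 h.1
  · intro h
    exact ⟨Matrix.mulVec_injective_iff_isUnit.2 h, Matrix.mulVec_surjective_iff_isUnit.2 h⟩

end FSide

section EtaleInj

variable (p : ℕ) [Fact p.Prime] {k : Type u} [Field k] [CharP k p]
  {B : Type v} [CommRing B] [Algebra k B] [CharP B p]

/-- `Twist p k` is a field -/
@[reducible] noncomputable def twistField : Field (Twist p k) := inferInstanceAs (Field k)

lemma pow_eq_relFrob_tmul [CharP (BaseChange p k B) p] (z : BaseChange p k B) :
    z ^ p = relFrob p k B z ⊗ₜ[k] (1 : Twist p k) := by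
  induction z using TensorProduct.induction_on with
  | zero =>
    rw [zero_pow (Fact.out : p.Prime).ne_zero, map_zero, TensorProduct.zero_tmul]
  | add z w hz hw => rw [add_pow_char, hz, hw, map_add, TensorProduct.add_tmul]
  | tmul x t =>
    rw [Algebra.TensorProduct.tmul_pow, FrobEtale.relFrob_tmul, mul_comm, ← Algebra.smul_def,
      TensorProduct.smul_tmul, Algebra.smul_def, mul_one, algebraMap_twist, map_pow,
      RingEquiv.apply_symm_apply]

lemma relFrob_injective_of_etale [Algebra.Etale k B] [Nontrivial B] :
    Function.Injective (relFrob p k B) := by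
  let _ : Field (Twist p k) := twistField p (k := k)
  have hnt : Nontrivial (BaseChange p k B) := inferInstance
  have hchar : CharP (BaseChange p k B) p :=
    charP_of_injective_algebraMap (algebraMap k (BaseChange p k B)).injective p
  have hred' : IsReduced (Twist p k ⊗[k] B) :=
    Algebra.FormallyUnramified.isReduced_of_field (Twist p k) (Twist p k ⊗[k] B)
  have hred : IsReduced (BaseChange p k B) :=
    isReduced_of_injective (Algebra.TensorProduct.comm k B (Twist p k))
      (Algebra.TensorProduct.comm k B (Twist p k)).injective
  rw [injective_iff_map_eq_zero]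
  intro z hz
  have h1 := pow_eq_relFrob_tmul p z
  rw [hz, TensorProduct.zero_tmul] at h1
  exact IsReduced.eq_zero _ ⟨p, h1⟩

end EtaleInj

section Main

variable (p : ℕ) [Fact p.Prime] {k : Type u} [Field k] [CharP k p]
  {A : Type v} [CommRing A] [HopfAlgebra k A] [Coalgebra.IsCocomm k A] [FiniteDimensional k A]

/-- S15890: the Cartier dual is étale iff the Verschiebung is bijective. -/
theorem etale_dual_iff_verschiebung_bijective (v : A →+* BaseChange p k A)
    (hv : Versch.IsVerschiebung p k A v) :
    Algebra.Etale k (CartDual.D k A) ↔ Function.Bijective v := by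
  classical
  let b := Module.finBasis k A
  rw [v_bijective_iff p b v hv, mulVec_bijective_iff]
  constructor
  · intro h
    have hnt : Nontrivial (CartDual.D k A) :=
      CharP.nontrivial_of_char_ne_one (R := CartDual.D k A) (Fact.out : p.Prime).ne_one
    exact (relFrob_injective_iff p b).1 (relFrob_injective_of_etale p)
  · intro h
    have hb := (relFrob_bijective_iff p b).2 h
    have h1 : Algebra.FormallyEtale k (CartDual.D k A) :=
      FrobEtale.formallyEtale_of_bijective_relFrob p k (CartDual.D k A) hb
    have h2 : Algebra.FinitePresentation k (CartDual.D k A) :=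
      Algebra.FinitePresentation.of_finiteType.1 inferInstance
    exact ⟨h1, h2⟩

end Main

end Groth.Agent.Lib.Helper6.VEtale
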