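import Groth.Prelude
import Mathlib

open AlgebraicGeometry CategoryTheory CategoryTheory.Limits IsLocalRing

namespace Groth.Agent.Lib.Helper6

universe u

set_option backward.isDefEq.respectTransparency.types false in
theorem exists_dominated_stalk_of_universallyClosed {X Y : Scheme.{u}} [IsIntegral X]
    (f : X ⟶ Y) [UniversallyClosed f]
    (R : ValuationSubring X.functionField) (y : Y) (hy : f.base (genericPoint X) ⤳ y)
    (hdom : (∀ a : Y.presheaf.stalk y,
        (Y.presheaf.stalkSpecializes hy ≫ f.stalkMap (genericPoint X)).hom a ∈ R) ∧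
      ∀ a ∈ IsLocalRing.maximalIdeal (Y.presheaf.stalk y),
        R.valuation ((Y.presheaf.stalkSpecializes hy ≫ f.stalkMap (genericPoint X)).hom a) < 1) :
    ∃ x : X, (∀ a : X.presheaf.stalk x, algebraMap (X.presheaf.stalk x) X.functionField a ∈ R) ∧
      ∀ a ∈ IsLocalRing.maximalIdeal (X.presheaf.stalk x),
        R.valuation (algebraMap (X.presheaf.stalk x) X.functionField a) < 1 := by
  let ψ : Y.presheaf.stalk y ⟶ X.functionField :=
    Y.presheaf.stalkSpecializes hy ≫ f.stalkMap (genericPoint X)
  let ψR : Y.presheaf.stalk y ⟶ CommRingCat.of R :=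
    CommRingCat.ofHom (ψ.hom.codRestrict R.toSubring hdom.1)
  let ι : CommRingCat.of R ⟶ X.functionField := CommRingCat.ofHom R.subtype
  have hψ : ψR ≫ ι = ψ := rfl
  let i₁ : Spec (CommRingCat.of X.functionField) ⟶ X := X.fromSpecStalk (genericPoint X)
  let i₂ : Spec (CommRingCat.of R) ⟶ Y := Spec.map ψR ≫ Y.fromSpecStalk y
  have w : i₁ ≫ f = Spec.map (CommRingCat.ofHom (algebraMap R X.functionField)) ≫ i₂ := by
    change X.fromSpecStalk (genericPoint X) ≫ f = Spec.map ι ≫ Spec.map ψR ≫ Y.fromSpecStalk y
    rw [← Spec.map_comp_assoc, hψ, ← Scheme.SpecMap_stalkMap_fromSpecStalk,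
      ← Scheme.SpecMap_stalkSpecializes_fromSpecStalk hy, ← Spec.map_comp_assoc]
  have hex : ValuativeCriterion.Existence f := by
    have : (ValuativeCriterion.Existence ⊓ @QuasiCompact) f := by
      rw [← UniversallyClosed.eq_valuativeCriterion]; infer_instance
    exact this.1
  obtain ⟨l, hl₁, hl₂⟩ :=
    (hex { R := R, K := X.functionField, i₁ := i₁, i₂ := i₂, commSq := ⟨w⟩ }).exists_lift
  dsimp only at hl₁ hl₂
  let x : X := l.base (closedPoint R)
  let φ : X.presheaf.stalk x ⟶ CommRingCat.of R := Scheme.stalkClosedPointTo l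
  have hl : Spec.map φ ≫ X.fromSpecStalk x = l := Scheme.Spec_stalkClosedPointTo_fromSpecStalk l
  have hsp : genericPoint X ⤳ x := genericPoint_specializes x
  have key : φ ≫ ι = X.presheaf.stalkSpecializes hsp := by
    apply Spec.map_injective
    rw [← cancel_mono (X.fromSpecStalk x), Scheme.SpecMap_stalkSpecializes_fromSpecStalk,
      Spec.map_comp, Category.assoc, hl]
    exact hl₁
  have halg : ∀ a : X.presheaf.stalk x,
      algebraMap (X.presheaf.stalk x) X.functionField a = ((φ.hom a : R) : X.functionField) := by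
    intro a
    have := congr($(key).hom a)
    exact this.symm
  refine ⟨x, fun a => ?_, fun a ha => ?_⟩
  · rw [halg]; exact (φ.hom a).2
  · rw [halg, ← ValuationSubring.valuation_lt_one_iff]
    have : IsLocalHom φ.hom := Scheme.isLocalHom_stalkClosedPointTo' l
    exact map_nonunit φ.hom a ha

end Groth.Agent.Lib.Helper6
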