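import Groth.Prelude
import Mathlib

open AlgebraicGeometry CategoryTheory CategoryTheory.Limits IsLocalRing

namespace Groth.Agent.Lib.Helper6

universe u

theorem closedPoint_top_eq {k : Type*} [Field k] :
    (closedPoint (⊤ : ValuationSubring k)) =
      PrimeSpectrum.comap (⊤ : ValuationSubring k).subtype (closedPoint k) := by
  apply PrimeSpectrum.ext
  ext a
  simp only [closedPoint, PrimeSpectrum.comap_asIdeal, Ideal.mem_comap]
  rw [IsLocalRing.mem_maximalIdeal, IsLocalRing.mem_maximalIdeal, mem_nonunits_iff,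
    mem_nonunits_iff]
  constructor
  · intro h hu
    apply h
    have ha : (a : k) ≠ 0 := hu.ne_zero
    refine ⟨⟨a, ⟨(a : k)⁻¹, trivial⟩, ?_, ?_⟩, rfl⟩
    · ext; simp [ha]
    · ext; simp [ha]
  · intro h hu
    exact h (hu.map (⊤ : ValuationSubring k).subtype)

set_option backward.isDefEq.respectTransparency.types false in
theorem exists_valuationSubring_of_specializes {X Y : Scheme.{u}} (p : X ⟶ Y) (x : X) (y' : Y)
    (hsp : p.base x ⤳ y') (hne : y' ≠ p.base x) :
    ∃ (A : ValuationSubring (X.residueField x)) (h : Spec (CommRingCat.of A) ⟶ Y), A ≠ ⊤ ∧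
      h.base (IsLocalRing.closedPoint A) = y' ∧
      Spec.map (CommRingCat.ofHom A.subtype) ≫ h = X.fromSpecResidueField x ≫ p := by
  let stalk_y_to_residue_x : Y.presheaf.stalk y' ⟶ X.residueField x :=
    Y.presheaf.stalkSpecializes hsp ≫ p.stalkMap x ≫ X.residue x
  obtain ⟨A, hA, hA_local⟩ := exists_factor_valuationRing stalk_y_to_residue_x.hom
  let stalk_y_to_A : Y.presheaf.stalk y' ⟶ .of A :=
    CommRingCat.ofHom (stalk_y_to_residue_x.hom.codRestrict _ hA)
  have w : X.fromSpecResidueField x ≫ p =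
      Spec.map (CommRingCat.ofHom (algebraMap A (X.residueField x))) ≫
        Spec.map stalk_y_to_A ≫ Y.fromSpecStalk y' := by
    rw [Scheme.fromSpecResidueField, Category.assoc, ← Scheme.SpecMap_stalkMap_fromSpecStalk,
      ← Scheme.SpecMap_stalkSpecializes_fromSpecStalk hsp]
    simp_rw [← Spec.map_comp_assoc]
    rfl
  have hcl : (Spec.map stalk_y_to_A ≫ Y.fromSpecStalk y').base (closedPoint A) = y' := by
    simp only [Scheme.Hom.comp_base, TopCat.coe_comp, Function.comp_apply]
    have : Spec.map stalk_y_to_A (closedPoint A) = closedPoint (Y.presheaf.stalk y') :=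
      comap_closedPoint (S := A) (stalk_y_to_residue_x.hom.codRestrict A.toSubring hA)
    rw [this, Y.fromSpecStalk_closedPoint]
  refine ⟨A, Spec.map stalk_y_to_A ≫ Y.fromSpecStalk y', ?_, hcl, w.symm⟩
  rintro rfl
  apply hne
  rw [← hcl, closedPoint_top_eq]
  have h1 := congr($(w).base (closedPoint (X.residueField x)))
  simp only [Scheme.Hom.comp_base, TopCat.coe_comp, Function.comp_apply] at h1
  rw [Scheme.fromSpecResidueField_apply] at h1
  rw [h1]
  rfl

end Groth.Agent.Lib.Helper6
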