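import Mathlib

set_option autoImplicit false
universe u v

namespace Groth.Agent.Lib.Helper6.VanDantzig

open Topology Set Filter Pointwise DirectSum

section VD

variable {G : Type u} [AddGroup G] [TopologicalSpace G] [IsTopologicalAddGroup G]

lemma exist_add_closure_nhds {W : Set G} (hWc : IsCompact W) (hWo : IsOpen W) :
    ∃ T ∈ 𝓝 (0 : G), W + T ⊆ W := by
  apply hWc.induction_on (p := fun S ↦ ∃ T ∈ 𝓝 (0 : G), S + T ⊆ W)
  · exact ⟨Set.univ, Filter.univ_mem, by simp⟩
  · exact fun _ _ huv ⟨T, hT, mem⟩ ↦ ⟨T, hT, (Set.add_subset_add_right huv).trans mem⟩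
  · rintro U V ⟨T₁, hT₁, mem1⟩ ⟨T₂, hT₂, mem2⟩
    refine ⟨T₁ ∩ T₂, Filter.inter_mem hT₁ hT₂, ?_⟩
    rw [Set.union_add]
    exact Set.union_subset ((Set.add_subset_add_left Set.inter_subset_left).trans mem1)
      ((Set.add_subset_add_left Set.inter_subset_right).trans mem2)
  · intro x memW
    have : (x, 0) ∈ (fun p : G × G ↦ p.1 + p.2) ⁻¹' W := by simp [memW]
    rcases isOpen_prod_iff.mp (continuous_add.isOpen_preimage W hWo) x 0 this with
      ⟨U, V, Uopen, Vopen, xmemU, zeromemV, prodsub⟩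
    have h6 : U + V ⊆ W := Set.add_subset_iff.mpr (fun _ hx _ hy ↦ prodsub (Set.mk_mem_prod hx hy))
    exact ⟨U ∩ W, ⟨U, Uopen.mem_nhds xmemU, W, fun _ a ↦ a, rfl⟩, V, Vopen.mem_nhds zeromemV,
      fun _ a ↦ h6 ((Set.add_subset_add_right Set.inter_subset_left) a)⟩

/-- An open compact neighbourhood of `0` contains an open (hence compact) subgroup. -/
lemma exists_openAddSubgroup_subset_of_isCompact_isOpen {W : Set G} (hWc : IsCompact W)
    (hWo : IsOpen W) (h0 : (0 : G) ∈ W) :
    ∃ U : AddSubgroup G, IsOpen (U : Set G) ∧ (U : Set G) ⊆ W := by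
  obtain ⟨T, hT, hTW⟩ := exist_add_closure_nhds hWc hWo
  set T' : Set G := T ∩ -T with hT'
  have hT'nhds : T' ∈ 𝓝 (0 : G) := Filter.inter_mem hT (neg_mem_nhds_zero G hT)
  have hT'neg : ∀ t ∈ T', -t ∈ T' := by
    rintro t ⟨h1, h2⟩
    exact ⟨h2, by simpa using h1⟩
  have hT'W : ∀ w ∈ W, ∀ t ∈ T', w + t ∈ W := fun w hw t ht =>
    hTW (Set.add_mem_add hw ht.1)
  refine ⟨AddSubgroup.closure T', ?_, ?_⟩
  · apply AddSubgroup.isOpen_of_mem_nhds (g := 0)
    exact Filter.mem_of_superset hT'nhds AddSubgroup.subset_closure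
  · have key : ∀ s ∈ AddSubgroup.closure T',
        (∀ w ∈ W, w + s ∈ W) ∧ (∀ w ∈ W, w - s ∈ W) := by
      intro s hs
      induction hs using AddSubgroup.closure_induction with
      | mem t ht =>
        refine ⟨fun w hw => hT'W w hw t ht, fun w hw => ?_⟩
        rw [sub_eq_add_neg]
        exact hT'W w hw _ (hT'neg t ht)
      | zero => simp
      | add s t _ _ hs ht =>
        refine ⟨fun w hw => ?_, fun w hw => ?_⟩
        · rw [← add_assoc]; exact ht.1 _ (hs.1 w hw)
        · rw [sub_add_eq_sub_sub_swap]; exact hs.2 _ (ht.2 w hw)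
      | neg s _ hs =>
        refine ⟨fun w hw => ?_, fun w hw => ?_⟩
        · rw [← sub_eq_add_neg]; exact hs.2 w hw
        · rw [sub_neg_eq_add]; exact hs.1 w hw
    intro s hs
    have := (key s hs).1 0 h0
    simpa using this

end VD

section LC

variable {G : Type u} [AddGroup G] [TopologicalSpace G] [IsTopologicalAddGroup G]
  [T2Space G] [LocallyCompactSpace G] [TotallyDisconnectedSpace G]

/-- van Dantzig: in a locally compact totally disconnected Hausdorff group, every
neighbourhood of `0` contains a compact open subgroup. -/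
theorem exists_compact_openAddSubgroup_subset {W : Set G} (hW : W ∈ 𝓝 (0 : G)) :
    ∃ U : AddSubgroup G, IsOpen (U : Set G) ∧ IsCompact (U : Set G) ∧ (U : Set G) ⊆ W := by
  obtain ⟨K, hKc, h0K, hKW⟩ := exists_compact_subset isOpen_interior
    (mem_interior_iff_mem_nhds.2 hW)
  obtain ⟨V, hVclopen, h0V, hVK⟩ := (loc_compact_Haus_tot_disc_of_zero_dim (H := G)).mem_nhds_iff.1
    (isOpen_interior.mem_nhds h0K)
  have hVclopen : IsClopen V := hVclopen
  have hVc : IsCompact V := hKc.of_isClosed_subset hVclopen.isClosed (hVK.trans interior_subset)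
  obtain ⟨U, hUo, hUV⟩ := exists_openAddSubgroup_subset_of_isCompact_isOpen hVc hVclopen.isOpen h0V
  refine ⟨U, hUo, hVc.of_isClosed_subset (AddSubgroup.isClosed_of_isOpen U hUo) hUV, ?_⟩
  exact hUV.trans (hVK.trans (interior_subset.trans (hKW.trans interior_subset)))

end LC

section RF

/-- A nonzero element of a finitely generated abelian group survives in some finite cyclic
quotient. -/
lemma exists_hom_zmod_ne_zero {Q : Type u} [AddCommGroup Q] [AddGroup.FG Q] (q : Q) (hq : q ≠ 0) :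
    ∃ (N : ℕ) (_ : NeZero N) (φ : Q →+ ZMod N), φ q ≠ 0 := by
  classical
  obtain ⟨n, ι, _, p, hp, e, ⟨f⟩⟩ := AddCommGroup.equiv_free_prod_directSum_zmod Q
  have hfq : f q ≠ 0 := fun h => hq (by simpa using h)
  by_cases ht : (f q).2 = 0
  · have hv : (f q).1 ≠ 0 := by
      intro hv
      apply hfq
      exact Prod.ext hv ht
    obtain ⟨j, hj⟩ : ∃ j, (f q).1 j ≠ 0 := by
      by_contra hcon
      push Not at hcon
      exact hv (Finsupp.ext hcon)
    set N : ℕ := ((f q).1 j).natAbs + 1 with hN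
    refine ⟨N, ⟨by omega⟩, ?_, ?_⟩
    · exact (Int.castAddHom (ZMod N)).comp
        ((Finsupp.applyAddHom j).comp ((AddMonoidHom.fst _ _).comp f.toAddMonoidHom))
    · show (((f q).1 j : ℤ) : ZMod N) ≠ 0
      rw [Ne, ZMod.intCast_zmod_eq_zero_iff_dvd]
      intro hdvd
      apply hj
      apply Int.eq_zero_of_abs_lt_dvd hdvd
      rw [hN, Int.abs_eq_natAbs]
      push_cast
      omega
  · obtain ⟨i, hi⟩ : ∃ i, (f q).2 i ≠ 0 := by
      by_contra hcon
      push Not at hcon
      exact ht (DFinsupp.ext hcon)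
    refine ⟨p i ^ e i, ⟨pow_ne_zero _ (hp i).ne_zero⟩, ?_, ?_⟩
    · exact (DFinsupp.evalAddMonoidHom i).comp ((AddMonoidHom.snd _ _).comp f.toAddMonoidHom)
    · exact hi

end RF

section Main

variable {B : Type u} [AddCommGroup B] [TopologicalSpace B] [IsTopologicalAddGroup B]

/-- The quotient of a compactly generated group by an open subgroup is finitely generated. -/
lemma fg_quotient_of_isOpen (U : AddSubgroup B) (hUo : IsOpen (U : Set B))
    (hcg : ∃ K : Set B, IsCompact K ∧ AddSubgroup.closure K = ⊤) : AddGroup.FG (B ⧸ U) := by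
  obtain ⟨K, hKc, hK⟩ := hcg
  let π : B →+ B ⧸ U := QuotientAddGroup.mk' U
  have hopen : ∀ x : B, IsOpen (π ⁻¹' {π x}) := by
    intro x
    have : π ⁻¹' {π x} = (fun y => -x + y) ⁻¹' (U : Set B) := by
      ext y
      simp only [Set.mem_preimage, Set.mem_singleton_iff, SetLike.mem_coe]
      rw [eq_comm]
      exact QuotientAddGroup.eq
    rw [this]
    exact hUo.preimage (continuous_const.add continuous_id)
  obtain ⟨t, -, htK⟩ := hKc.elim_nhds_subcover (fun x => π ⁻¹' {π x})
    (fun x _ => (hopen x).mem_nhds rfl)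
  rw [AddGroup.fg_iff]
  refine ⟨π '' (t : Set B), ?_, (t.finite_toSet).image _⟩
  rw [eq_top_iff]
  calc (⊤ : AddSubgroup (B ⧸ U)) = (⊤ : AddSubgroup B).map π :=
        (AddSubgroup.map_top_of_surjective π (QuotientAddGroup.mk'_surjective U)).symm
    _ = AddSubgroup.closure (π '' K) := by rw [← hK, AddMonoidHom.map_closure]
    _ ≤ AddSubgroup.closure (π '' (t : Set B)) := by
        apply AddSubgroup.closure_mono
        rintro _ ⟨k, hk, rfl⟩
        have := htK hk
        simp only [Set.mem_iUnion, Set.mem_preimage, Set.mem_singleton_iff] at this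
        obtain ⟨x, hx, hkx⟩ := this
        exact ⟨x, hx, hkx.symm⟩

theorem residually_finite [T2Space B] [LocallyCompactSpace B] [TotallyDisconnectedSpace B]
    (hcg : ∃ K : Set B, IsCompact K ∧ AddSubgroup.closure K = ⊤) (b : B) (hb : b ≠ 0) :
    ∃ B' : AddSubgroup B, IsOpen (B' : Set B) ∧ B'.FiniteIndex ∧ b ∉ B' := by
  have hW : ({b}ᶜ : Set B) ∈ 𝓝 (0 : B) :=
    isOpen_compl_singleton.mem_nhds (by simpa using hb.symm)
  obtain ⟨U, hUo, -, hUW⟩ := exists_compact_openAddSubgroup_subset hW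
  have hbU : b ∉ U := fun h => hUW h rfl
  haveI := fg_quotient_of_isOpen U hUo hcg
  let π : B →+ B ⧸ U := QuotientAddGroup.mk' U
  have hπb : π b ≠ 0 := by
    intro h
    exact hbU ((QuotientAddGroup.eq_zero_iff b).1 h)
  obtain ⟨N, hN, φ, hφ⟩ := exists_hom_zmod_ne_zero (π b) hπb
  refine ⟨(φ.comp π).ker, ?_, ?_, ?_⟩
  · apply AddSubgroup.isOpen_mono (H₁ := U) _ hUo
    intro u hu
    rw [AddMonoidHom.mem_ker, AddMonoidHom.comp_apply]
    have : π u = 0 := (QuotientAddGroup.eq_zero_iff u).2 hu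
    rw [this, map_zero]
  · exact AddSubgroup.finiteIndex_ker _
  · rw [AddMonoidHom.mem_ker]
    exact hφ

end Main

section Ext

theorem exists_extension {A : Type u} {B : Type v} [AddCommGroup A] [TopologicalSpace A]
    [IsTopologicalAddGroup A]
    [AddCommGroup B] [TopologicalSpace B] [IsTopologicalAddGroup B]
    [T2Space B] [LocallyCompactSpace B] [TotallyDisconnectedSpace B]
    (i : A →+ B) (hind : IsInducing i)
    (χ : A →+ ℚ ⧸ AddSubgroup.zmultiples (1 : ℚ)) (hχ : IsOpen (χ.ker : Set A)) :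
    ∃ ψ : B →+ ℚ ⧸ AddSubgroup.zmultiples (1 : ℚ), IsOpen (ψ.ker : Set B) ∧ ψ.comp i = χ := by
  obtain ⟨W, hWo, hWχ⟩ := hind.isOpen_iff.1 hχ
  have h0W : (0 : B) ∈ W := by
    have : (0 : A) ∈ i ⁻¹' W := by rw [hWχ]; exact zero_mem _
    simpa using this
  obtain ⟨U, hUo, -, hUW⟩ := exists_compact_openAddSubgroup_subset (hWo.mem_nhds h0W)
  let f : A × U →+ B := i.coprod U.subtype
  let χ' : A × U →+ ℚ ⧸ AddSubgroup.zmultiples (1 : ℚ) := χ.comp (AddMonoidHom.fst A U)
  have hker : f.ker ≤ χ'.ker := by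
    rintro ⟨a, u⟩ hau
    rw [AddMonoidHom.mem_ker] at hau ⊢
    have h1 : i a + (u : B) = 0 := hau
    have h2 : i a = -(u : B) := eq_neg_of_add_eq_zero_left h1
    have h3 : i a ∈ W := hUW (by rw [h2]; exact U.neg_mem u.2)
    have h4 : a ∈ i ⁻¹' W := h3
    rw [hWχ] at h4
    exact h4
  let fbar : (A × U) ⧸ f.ker →+ B := QuotientAddGroup.kerLift f
  have hfbar : Function.Injective fbar := QuotientAddGroup.kerLift_injective f
  let gbar : (A × U) ⧸ f.ker →+ ℚ ⧸ AddSubgroup.zmultiples (1 : ℚ) :=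
    QuotientAddGroup.lift f.ker χ' hker
  obtain ⟨ψ, hψ⟩ := (Module.Baer.of_divisible
    (ℚ ⧸ AddSubgroup.zmultiples (1 : ℚ))).extension_property_addMonoidHom fbar hfbar gbar
  have hψf : ∀ x : A × U, ψ (f x) = χ' x := by
    intro x
    have := DFunLike.congr_fun hψ (QuotientAddGroup.mk x)
    exact this
  refine ⟨ψ, ?_, ?_⟩
  · apply AddSubgroup.isOpen_mono (H₁ := U) _ hUo
    intro u hu
    rw [AddMonoidHom.mem_ker]
    have := hψf (0, ⟨u, hu⟩)
    simpa [f, χ'] using this
  · ext a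
    have := hψf (a, 0)
    simpa [f, χ'] using this

end Ext

end Groth.Agent.Lib.Helper6.VanDantzig
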