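import Groth.Agent.Lib.Helper6VanDantzig
import Groth.Prelude.Def_W4c61motalbdualityCompl

set_option autoImplicit false
universe u v

namespace Groth.Agent.Lib.Helper6.VanDantzig

open Topology Set Filter Pointwise W4c61motalbduality

section Inj

lemma isTorsion_QZ : IsAddTorsion (ℚ ⧸ AddSubgroup.zmultiples (1 : ℚ)) := by
  intro q
  obtain ⟨r, rfl⟩ := QuotientAddGroup.mk_surjective q
  rw [isOfFinAddOrder_iff_nsmul_eq_zero]
  refine ⟨r.den, r.den_pos, ?_⟩
  rw [← QuotientAddGroup.mk_nsmul, QuotientAddGroup.eq_zero_iff]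
  refine ⟨r.num, ?_⟩
  simp only [zsmul_eq_mul, mul_one, nsmul_eq_mul]
  rw [mul_comm]
  exact (Rat.mul_den_eq_num r).symm

variable {B : Type v} [AddCommGroup B] [TopologicalSpace B] [IsTopologicalAddGroup B]

/-- A character with open kernel on a compactly generated group has kernel of finite index. -/
lemma finiteIndex_ker_of_isOpen (hcg : ∃ K : Set B, IsCompact K ∧ AddSubgroup.closure K = ⊤)
    (ψ : B →+ ℚ ⧸ AddSubgroup.zmultiples (1 : ℚ)) (hψ : IsOpen (ψ.ker : Set B)) :
    ψ.ker.FiniteIndex := by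
  haveI := fg_quotient_of_isOpen ψ.ker hψ hcg
  have htors : IsAddTorsion (B ⧸ ψ.ker) := by
    intro q
    have h1 := isTorsion_QZ (QuotientAddGroup.kerLift ψ q)
    exact (QuotientAddGroup.kerLift_injective ψ).isOfFinAddOrder_iff.1 h1
  haveI : Finite (B ⧸ ψ.ker) := AddCommGroup.finite_of_fg_isAddTorsion _ htors
  exact AddSubgroup.finiteIndex_of_finite_quotient

variable {A : Type u} [AddCommGroup A] [TopologicalSpace A] [IsTopologicalAddGroup A]
  [T2Space B] [LocallyCompactSpace B] [TotallyDisconnectedSpace B]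

/-- Every open finite-index subgroup of `A` contains the trace of one of `B`. -/
lemma exists_openFI_comap_le (hcg : ∃ K : Set B, IsCompact K ∧ AddSubgroup.closure K = ⊤)
    (i : A →+ B) (hi : Continuous i) (hind : IsInducing i) (U : OpenFI A) :
    ∃ V : OpenFI B, (V.comap i hi).toAddSubgroup ≤ U.toAddSubgroup := by
  classical
  haveI := U.finiteIndex'
  haveI : Finite (A ⧸ U.toAddSubgroup) := AddSubgroup.finite_quotient_of_finiteIndex
  let π : A →+ A ⧸ U.toAddSubgroup := QuotientAddGroup.mk' U.toAddSubgroup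
  have hchar : ∀ q : A ⧸ U.toAddSubgroup, ∃ ψ : B →+ ℚ ⧸ AddSubgroup.zmultiples (1 : ℚ),
      IsOpen (ψ.ker : Set B) ∧ (q ≠ 0 → ∀ a : A, π a = q → ψ (i a) ≠ 0) := by
    intro q
    by_cases hq : q = 0
    · exact ⟨0, by simp, fun h => absurd hq h⟩
    · obtain ⟨c, hc⟩ := CharacterModule.exists_character_apply_ne_zero_of_ne_zero hq
      let χ : A →+ ℚ ⧸ AddSubgroup.zmultiples (1 : ℚ) :=
        (show (A ⧸ U.toAddSubgroup) →+ ℚ ⧸ AddSubgroup.zmultiples (1 : ℚ) from c).comp π
      have hχ : IsOpen (χ.ker : Set A) := by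
        apply AddSubgroup.isOpen_mono (H₁ := U.toAddSubgroup) _ U.isOpen'
        intro a ha
        rw [AddMonoidHom.mem_ker]
        have : π a = 0 := (QuotientAddGroup.eq_zero_iff a).2 ha
        show c (π a) = 0
        rw [this, map_zero]
      obtain ⟨ψ, hψo, hψ⟩ := exists_extension i hind χ hχ
      refine ⟨ψ, hψo, fun _ a ha => ?_⟩
      have : ψ (i a) = χ a := DFunLike.congr_fun hψ a
      rw [this]
      show c (π a) ≠ 0
      rw [ha]
      exact hc
  choose ψ hψo hψ using hchar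
  haveI : ∀ q, (ψ q).ker.FiniteIndex := fun q => finiteIndex_ker_of_isOpen hcg (ψ q) (hψo q)
  refine ⟨⟨⨅ q, (ψ q).ker, ?_, ?_⟩, ?_⟩
  · rw [AddSubgroup.coe_iInf]
    exact isOpen_iInter_of_finite hψo
  · exact AddSubgroup.finiteIndex_iInf (fun q => inferInstance)
  · intro a ha
    by_contra haU
    have hq : π a ≠ 0 := fun h => haU ((QuotientAddGroup.eq_zero_iff a).1 h)
    have h1 : i a ∈ ⨅ q, (ψ q).ker := ha
    rw [AddSubgroup.mem_iInf] at h1
    exact hψ (π a) hq a rfl (h1 (π a))

theorem ficompl_map_injective (hcg : ∃ K : Set B, IsCompact K ∧ AddSubgroup.closure K = ⊤)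
    (i : A →+ B) (hi : Continuous i) (hind : IsInducing i) :
    Function.Injective (FICompl.map i hi) := by
  rw [injective_iff_map_eq_zero]
  intro x hx
  ext U
  obtain ⟨V, hV⟩ := exists_openFI_comap_le hcg i hi hind U
  have hcompat := x.2 (V.comap i hi) U hV
  have h0 : x.1 (V.comap i hi) = 0 := by
    obtain ⟨a, ha⟩ := QuotientAddGroup.mk_surjective (x.1 (V.comap i hi))
    have h1 : (FICompl.map i hi x).1 V = 0 := by rw [hx]; rfl
    have h2 : (FICompl.map i hi x).1 V = QuotientAddGroup.map (V.comap i hi).toAddSubgroup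
        V.toAddSubgroup i (V.comap_le i) (x.1 (V.comap i hi)) := rfl
    rw [h2, ← ha, QuotientAddGroup.map_mk, QuotientAddGroup.eq_zero_iff] at h1
    rw [← ha, QuotientAddGroup.eq_zero_iff]
    exact h1
  rw [h0, map_zero] at hcompat
  exact hcompat.symm

end Inj

end Groth.Agent.Lib.Helper6.VanDantzig
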