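import Groth.Agent.Lib.Helper6VanDantzig2

set_option autoImplicit false
universe u v w

namespace Groth.Agent.Lib.Helper6.VanDantzig

open Topology Set Filter Pointwise W4c61motalbduality CategoryTheory

section Konig

/-- A directed inverse system of nonempty subsets of finite sets has a compatible family. -/
theorem exists_compatible_family {J : Type u} [Preorder J] [IsDirectedOrder J]
    (X : J → Type v) [∀ j, Finite (X j)] (S : ∀ j, Set (X j)) (hS : ∀ j, (S j).Nonempty)
    (r : ∀ {j k : J}, j ≤ k → X k → X j)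
    (r_id : ∀ j (x : X j), r (le_refl j) x = x)
    (r_comp : ∀ {j k l} (h1 : j ≤ k) (h2 : k ≤ l) (x : X l), r h1 (r h2 x) = r (h1.trans h2) x)
    (r_S : ∀ {j k} (h : j ≤ k) (x : X k), x ∈ S k → r h x ∈ S j) :
    ∃ s : ∀ j, X j, (∀ j, s j ∈ S j) ∧ ∀ {j k} (h : j ≤ k), r h (s k) = s j := by
  let F : Jᵒᵖ ⥤ Type v :=
    { obj := fun j => S j.unop
      map := fun {j k} f => TypeCat.ofHom (fun x : S j.unop =>
        (⟨r f.unop.le x.1, r_S _ _ x.2⟩ : S k.unop))
      map_id := by
        intro j
        ext x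
        exact r_id _ _
      map_comp := by
        intro j k l f g
        ext x
        exact (r_comp _ _ _).symm }
  haveI : ∀ j : Jᵒᵖ, Finite (F.obj j) := fun j => Subtype.finite
  haveI : ∀ j : Jᵒᵖ, Nonempty (F.obj j) := fun j => (hS j.unop).to_subtype
  obtain ⟨u, hu⟩ := nonempty_sections_of_finite_inverse_system F
  refine ⟨fun j => (u (Opposite.op j)).1, fun j => (u (Opposite.op j)).2, ?_⟩
  intro j k h
  have := hu (homOfLE h).op
  exact congrArg Subtype.val this

end Konig

section OpenFIOrder

variable {B : Type v} [AddCommGroup B] [TopologicalSpace B]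

/-- Reverse inclusion on open finite-index subgroups. -/
@[reducible] def openFIPreorder : Preorder (OpenFI B) :=
  Preorder.lift (fun V => OrderDual.toDual V.toAddSubgroup)

attribute [local instance] openFIPreorder

lemma openFI_le_iff (V V' : OpenFI B) : V ≤ V' ↔ V'.toAddSubgroup ≤ V.toAddSubgroup := Iff.rfl

/-- Intersection of two open finite-index subgroups. -/
def openFIInf (V V' : OpenFI B) : OpenFI B where
  toAddSubgroup := V.toAddSubgroup ⊓ V'.toAddSubgroup
  isOpen' := by
    rw [AddSubgroup.coe_inf]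
    exact V.isOpen'.inter V'.isOpen'
  finiteIndex' := by
    haveI := V.finiteIndex'
    haveI := V'.finiteIndex'
    infer_instance

instance openFI_isDirected : IsDirectedOrder (OpenFI B) :=
  ⟨fun V V' => ⟨openFIInf V V',
    (inf_le_left : V.toAddSubgroup ⊓ V'.toAddSubgroup ≤ V.toAddSubgroup),
    (inf_le_right : V.toAddSubgroup ⊓ V'.toAddSubgroup ≤ V'.toAddSubgroup)⟩⟩

instance openFI_finite_quotient (V : OpenFI B) : Finite (B ⧸ V.toAddSubgroup) := by
  haveI := V.finiteIndex'
  exact AddSubgroup.finite_quotient_of_finiteIndex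

/-- The transition maps `B/V' → B/V` for `V' ⊆ V`. -/
def openFIRes {V V' : OpenFI B} (h : V ≤ V') : B ⧸ V'.toAddSubgroup → B ⧸ V.toAddSubgroup :=
  QuotientAddGroup.map V'.toAddSubgroup V.toAddSubgroup (AddMonoidHom.id B) h

@[simp] lemma openFIRes_mk {V V' : OpenFI B} (h : V ≤ V') (b : B) :
    openFIRes h (QuotientAddGroup.mk b) = QuotientAddGroup.mk b := rfl

lemma openFIRes_id (V : OpenFI B) (x : B ⧸ V.toAddSubgroup) : openFIRes (le_refl V) x = x := by
  obtain ⟨b, rfl⟩ := QuotientAddGroup.mk_surjective x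
  rfl

lemma openFIRes_comp {V V' V'' : OpenFI B} (h1 : V ≤ V') (h2 : V' ≤ V'')
    (x : B ⧸ V''.toAddSubgroup) : openFIRes h1 (openFIRes h2 x) = openFIRes (h1.trans h2) x := by
  obtain ⟨b, rfl⟩ := QuotientAddGroup.mk_surjective x
  rfl

/-- A compatible family for the transition maps is an element of the completion. -/
lemma mem_FICompl_of_compat (s : ∀ V : OpenFI B, B ⧸ V.toAddSubgroup)
    (hs : ∀ {V V' : OpenFI B} (h : V ≤ V'), openFIRes h (s V') = s V) : s ∈ FICompl B := by
  intro U V h
  exact hs (V := V) (V' := U) h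

end OpenFIOrder

section Surj

variable {B : Type v} {C : Type w} [AddCommGroup B] [TopologicalSpace B]
  [AddCommGroup C] [TopologicalSpace C]

attribute [local instance] openFIPreorder

/-- Image of an open finite-index subgroup under an open surjection. -/
def openFIMap (p : B →+ C) (hpo : IsOpenMap p) (hps : Function.Surjective p) (V : OpenFI B) :
    OpenFI C where
  toAddSubgroup := V.toAddSubgroup.map p
  isOpen' := by
    rw [AddSubgroup.coe_map]
    exact hpo _ V.isOpen'
  finiteIndex' := by
    haveI := V.finiteIndex'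
    refine ⟨fun h0 => AddSubgroup.FiniteIndex.index_ne_zero (H := V.toAddSubgroup) ?_⟩
    have := AddSubgroup.index_map_dvd V.toAddSubgroup hps
    rw [h0] at this
    exact Nat.eq_zero_of_zero_dvd this

theorem ficompl_map_surjective (p : B →+ C) (hp : Continuous p) (hpo : IsOpenMap p)
    (hps : Function.Surjective p) : Function.Surjective (FICompl.map p hp) := by
  intro z
  let S : ∀ V : OpenFI B, Set (B ⧸ V.toAddSubgroup) := fun V =>
    {y | ∀ (W : OpenFI C) (h : V.toAddSubgroup ≤ W.toAddSubgroup.comap p),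
      QuotientAddGroup.map V.toAddSubgroup W.toAddSubgroup p h y = z.1 W}
  have hS : ∀ V, (S V).Nonempty := by
    intro V
    let W₀ := openFIMap p hpo hps V
    obtain ⟨c, hc⟩ := QuotientAddGroup.mk_surjective (z.1 W₀)
    obtain ⟨b, rfl⟩ := hps c
    refine ⟨QuotientAddGroup.mk b, fun W h => ?_⟩
    have hW : W₀.toAddSubgroup ≤ W.toAddSubgroup := by
      rintro _ ⟨v, hv, rfl⟩
      exact h hv
    have := z.2 W₀ W hW
    rw [← hc] at this
    rw [← this]
    rfl
  have r_S : ∀ {V V' : OpenFI B} (h : V ≤ V') (x : B ⧸ V'.toAddSubgroup), x ∈ S V' →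
      openFIRes h x ∈ S V := by
    intro V V' h x hx W hW
    obtain ⟨b, rfl⟩ := QuotientAddGroup.mk_surjective x
    have := hx W (le_trans h hW)
    exact this
  obtain ⟨s, hsS, hs⟩ := exists_compatible_family (fun V : OpenFI B => B ⧸ V.toAddSubgroup) S hS
    (fun h => openFIRes h) openFIRes_id openFIRes_comp r_S
  refine ⟨⟨s, mem_FICompl_of_compat s hs⟩, ?_⟩
  ext W
  exact hsS (W.comap p hp) W le_rfl

end Surj

section Ker

variable {A : Type u} {B : Type v} {C : Type w} [AddCommGroup A] [TopologicalSpace A]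
  [AddCommGroup B] [TopologicalSpace B] [AddCommGroup C] [TopologicalSpace C]

attribute [local instance] openFIPreorder

/-- Finite intersections of open finite-index subgroups. -/
def openFIiInf {ι : Type*} [Finite ι] (V : ι → OpenFI B) : OpenFI B where
  toAddSubgroup := ⨅ j, (V j).toAddSubgroup
  isOpen' := by
    rw [AddSubgroup.coe_iInf]
    exact isOpen_iInter_of_finite (fun j => (V j).isOpen')
  finiteIndex' := AddSubgroup.finiteIndex_iInf (fun j => (V j).finiteIndex')

theorem ficompl_ker_eq_range (i : A →+ B) (hi : Continuous i) (p : B →+ C) (hp : Continuous p)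
    (hpo : IsOpenMap p) (hps : Function.Surjective p) (hex : p.ker = i.range) :
    (FICompl.map p hp).ker = (FICompl.map i hi).range := by
  apply le_antisymm
  · intro y hy
    rw [AddMonoidHom.mem_ker] at hy
    have hkey : ∀ V : OpenFI B, ∃ a : A,
        (QuotientAddGroup.mk (i a) : B ⧸ V.toAddSubgroup) = y.1 V := by
      intro V
      let W₀ := openFIMap p hpo hps V
      obtain ⟨b, hb⟩ := QuotientAddGroup.mk_surjective (y.1 V)
      have h1 : (FICompl.map p hp y).1 W₀ = 0 := by rw [hy]; rfl
      have hVle : V.toAddSubgroup ≤ (W₀.comap p hp).toAddSubgroup := fun v hv => ⟨v, hv, rfl⟩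
      have h2 : y.1 (W₀.comap p hp) = QuotientAddGroup.mk b := by
        have := y.2 V (W₀.comap p hp) hVle
        rw [← hb] at this
        exact this.symm
      have h3 : (QuotientAddGroup.mk (p b) : C ⧸ W₀.toAddSubgroup) = 0 := by
        rw [← h1]
        show _ = QuotientAddGroup.map _ _ p _ (y.1 (W₀.comap p hp))
        rw [h2]
        rfl
      rw [QuotientAddGroup.eq_zero_iff] at h3
      obtain ⟨v, hv, hpv⟩ := h3
      have hmem : b - v ∈ p.ker := by rw [AddMonoidHom.mem_ker, map_sub, hpv, sub_self]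
      rw [hex] at hmem
      obtain ⟨a, ha⟩ := hmem
      refine ⟨a, ?_⟩
      rw [← hb, ha, QuotientAddGroup.eq]
      simpa using hv
    let T : ∀ U : OpenFI A, Set (A ⧸ U.toAddSubgroup) := fun U =>
      {x | ∀ (V : OpenFI B) (h : U.toAddSubgroup ≤ V.toAddSubgroup.comap i),
        QuotientAddGroup.map U.toAddSubgroup V.toAddSubgroup i h x = y.1 V}
    have hT : ∀ U, (T U).Nonempty := by
      intro U
      by_contra hne
      rw [Set.not_nonempty_iff_eq_empty] at hne
      have hbad : ∀ x : A ⧸ U.toAddSubgroup, ∃ (V : OpenFI B)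
          (h : U.toAddSubgroup ≤ V.toAddSubgroup.comap i),
          QuotientAddGroup.map U.toAddSubgroup V.toAddSubgroup i h x ≠ y.1 V := by
        intro x
        have hx : x ∉ T U := by rw [hne]; exact Set.notMem_empty x
        by_contra hcon
        push Not at hcon
        exact hx hcon
      choose Vx hVx hne' using hbad
      let V := openFIiInf Vx
      obtain ⟨a, ha⟩ := hkey V
      apply hne' (QuotientAddGroup.mk a)
      have hVle : V.toAddSubgroup ≤ (Vx (QuotientAddGroup.mk a)).toAddSubgroup := iInf_le _ _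
      have := y.2 V (Vx (QuotientAddGroup.mk a)) hVle
      rw [← ha] at this
      exact this
    have r_T : ∀ {U U' : OpenFI A} (h : U ≤ U') (x : A ⧸ U'.toAddSubgroup), x ∈ T U' →
        openFIRes h x ∈ T U := by
      intro U U' h x hx V hV
      obtain ⟨a, rfl⟩ := QuotientAddGroup.mk_surjective x
      have := hx V (le_trans h hV)
      exact this
    obtain ⟨s, hsT, hs⟩ := exists_compatible_family (fun U : OpenFI A => A ⧸ U.toAddSubgroup) T hT
      (fun h => openFIRes h) openFIRes_id openFIRes_comp r_T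
    refine ⟨⟨s, mem_FICompl_of_compat s hs⟩, ?_⟩
    ext V
    exact hsT (V.comap i hi) V le_rfl
  · rintro _ ⟨x, rfl⟩
    rw [AddMonoidHom.mem_ker]
    ext W
    obtain ⟨a, ha⟩ := QuotientAddGroup.mk_surjective (x.1 ((W.comap p hp).comap i hi))
    have h1 : (FICompl.map p hp (FICompl.map i hi x)).1 W =
        QuotientAddGroup.map _ _ p (W.comap_le p) (QuotientAddGroup.map _ _ i
          ((W.comap p hp).comap_le i) (x.1 ((W.comap p hp).comap i hi))) := rfl
    rw [h1, ← ha]
    have hpi : p (i a) = 0 := by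
      have : i a ∈ p.ker := by rw [hex]; exact ⟨a, rfl⟩
      exact this
    show (QuotientAddGroup.mk (p (i a)) : C ⧸ W.toAddSubgroup) = 0
    rw [hpi]
    rfl

end Ker

end Groth.Agent.Lib.Helper6.VanDantzig
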