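import Mathlib
import Groth.Prelude.Def_Curv2
import Groth.Agent.Lib.Helper6GalCount2
import Groth.Agent.Lib.Helper6SelfProd

set_option autoImplicit false
universe u
open CategoryTheory CategoryTheory.Limits AlgebraicGeometry TensorProduct

namespace Groth.Agent.Lib.Helper6.Var2

open Groth.Agent.Lib.Helper6.BcBridge Groth.Agent.Lib.Helper6.SepCl
  Groth.Agent.Lib.Helper6.FinLevel Groth.Agent.Lib.Helper6.GalAct
  Groth.Agent.Lib.Helper6.IrrComp Groth.Agent.Lib.Helper6.ConnComp
  Groth.Agent.Lib.Helper6.SepComp Groth.Agent.Lib.Helper6.RelGal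
  Groth.Agent.Lib.Helper6.FibCount Groth.Agent.Lib.Helper6.GeomComp

section Ring

open Polynomial Groth.Agent.Lib.Helper14.GeomIrr

variable {k K : Type u} [Field k] [Field K] [Algebra k K]

/-- if `Spec (E ⊗_k K)` is irreducible for an extension `E` containing a root of the minimal
polynomial of the separable `α ∈ K`, then `α ∈ k` -/
theorem mem_range_of_isSeparable_of_tensor {E : Type u} [Field E] [Algebra k E]
    (α : K) (hα : IsSeparable k α) (ψ : AdjoinRoot (minpoly k α) →ₐ[k] E)
    (h : (nilradical (E ⊗[k] K)).IsPrime) : α ∈ Set.range (algebraMap k K) := by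
  have hint : IsIntegral k α := hα.isIntegral
  have hf : Irreducible (minpoly k α) := minpoly.irreducible hint
  haveI : Fact (Irreducible (minpoly k α)) := ⟨hf⟩
  have hψ : Function.Injective ψ := ψ.toRingHom.injective
  have h1 : (nilradical (AdjoinRoot (minpoly k α) ⊗[k] K)).IsPrime :=
    isPrime_nilradical_of_injective
      (Algebra.TensorProduct.map ψ (AlgHom.id k K)).toRingHom (map_left_injective ψ hψ) h
  have h2 : (nilradical (AdjoinRoot ((minpoly k α).map (algebraMap k K)))).IsPrime :=
    isPrime_nilradical_of_ringEquiv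
      ((adjoinRootTensorEquiv (K := K) (minpoly k α)).symm.toRingEquiv.trans
        (Algebra.TensorProduct.comm k K (AdjoinRoot (minpoly k α))).toRingEquiv) h1
  have hsep : ((minpoly k α).map (algebraMap k K)).Separable := Polynomial.Separable.map hα
  have hirr := irreducible_of_isPrime_nilradical_adjoinRoot hsep h2
  have hroot : ((minpoly k α).map (algebraMap k K)).IsRoot α := by
    rw [IsRoot, Polynomial.eval_map, ← aeval_def, minpoly.aeval]
  have hdeg := degree_eq_one_of_irreducible_of_root hirr hroot
  rw [degree_map] at hdeg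
  exact minpoly.mem_range_of_degree_eq_one k α hdeg

end Ring

section Nowhere

variable (k : Type u) [Field k] (X : Scheme.{u}) [X.Over (Spec (CommRingCat.of k))]
  (K : Type u) [Field K] [Algebra k K]

/-- `X` irreducible, `K/k` Galois with `X_K` reducible with finitely many components: the points
of `X` with a single point of `X_K` above them lie in a closed nowhere dense subset -/
theorem exists_closed_nowhereDense_of_finite [IrreducibleSpace X] [IsGalois k K]
    (hfin : (irreducibleComponents (Curv2.bc k X K)).Finite)
    (hnot : ¬ IrreducibleSpace (Curv2.bc k X K)) :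
    ∃ Y : Set X, IsClosed Y ∧ interior Y = ∅ ∧ ∀ x : X,
      (∀ w w' : Curv2.bc k X K, Curv2.bcFst k X K w = x →
        Curv2.bcFst k X K w' = x → w = w') → x ∈ Y := by
  classical
  have huniv : (Set.univ : Set X) ∈ irreducibleComponents X := by
    rw [irreducibleComponents_eq_singleton]
    rfl
  let comps := irreducibleComponents (Curv2.bc k X K)
  let idx : Set (Set (Curv2.bc k X K) × Set (Curv2.bc k X K)) :=
    {q | q.1 ∈ comps ∧ q.2 ∈ comps ∧ q.1 ≠ q.2}
  have hidx : idx.Finite := (hfin.prod hfin).subset (fun q hq => ⟨hq.1, hq.2.1⟩)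
  let Y' : Set (Curv2.bc k X K) := ⋃ q ∈ idx, q.1 ∩ q.2
  have hY' : IsClosed Y' := hidx.isClosed_biUnion fun q hq =>
    (isClosed_of_mem_irreducibleComponents _ hq.1).inter
      (isClosed_of_mem_irreducibleComponents _ hq.2.1)
  refine ⟨(Curv2.bcFst k X K) '' Y', isClosedMap_bcFst k X K _ hY', ?_, ?_⟩
  · by_contra hne
    have hne' : (interior ((Curv2.bcFst k X K) '' Y')).Nonempty :=
      Set.nonempty_iff_ne_empty.mpr hne
    have hη : genericPoint X ∈ interior ((Curv2.bcFst k X K) '' Y') := by
      rw [(genericPoint_spec X).mem_open_set_iff isOpen_interior]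
      obtain ⟨o, ho⟩ := hne'
      exact ⟨o, Set.mem_univ _, ho⟩
    obtain ⟨y', hy'Y, hy'⟩ := interior_subset hη
    obtain ⟨q, hq, hy'q⟩ := Set.mem_iUnion₂.mp hy'Y
    have h1 := GalCount.closure_eq_of_over_generic k X K q.1 hq.1 y' hy'q.1 hy'
    have h2 := GalCount.closure_eq_of_over_generic k X K q.2 hq.2.1 y' hy'q.2 hy'
    exact hq.2.2 (h1.symm.trans h2)
  · intro x hx
    obtain ⟨x', hx'⟩ := bcFst_surjective k X K x
    have hT1 := irreducibleComponent_mem_irreducibleComponents x'
    have hex : ∃ T2 ∈ comps, T2 ≠ irreducibleComponent x' := by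
      by_contra hcon
      rw [not_exists] at hcon
      apply hnot
      have hall : ∀ T2 ∈ comps, T2 = irreducibleComponent x' := fun T2 hT2 => by
        by_contra hne
        exact hcon T2 ⟨hT2, hne⟩
      have huniv' : (Set.univ : Set (Curv2.bc k X K)) = irreducibleComponent x' := by
        rw [← sUnion_irreducibleComponents]
        apply Set.Subset.antisymm
        · rintro w ⟨T2, hT2, hw⟩
          exact hall T2 hT2 ▸ hw
        · exact fun w hw => ⟨_, hT1, hw⟩
      haveI : Nonempty (Curv2.bc k X K) := ⟨x'⟩
      haveI : PreirreducibleSpace (Curv2.bc k X K) :=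
        ⟨by rw [huniv']; exact isIrreducible_irreducibleComponent.isPreirreducible⟩
      exact ⟨inferInstance⟩
    obtain ⟨T2, hT2, hne⟩ := hex
    obtain ⟨σ, hσ⟩ := exists_galAct_image_eq k X K (irreducibleComponent x') T2
      hT1 hT2 (by
        rw [image_eq_of_image_subset k X K Set.univ huniv _ hT1
          (Set.subset_univ _), image_eq_of_image_subset k X K Set.univ huniv
          _ hT2 (Set.subset_univ _)])
    have hfix : Curv2.galAct k X K σ x' = x' :=
      hx _ _ (by rw [galAct_fst_apply, hx']) hx'
    have hx'T2 : x' ∈ T2 := by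
      rw [← hσ]
      exact ⟨x', mem_irreducibleComponent, hfix⟩
    refine ⟨x', ?_, hx'⟩
    exact Set.mem_iUnion₂.mpr ⟨(irreducibleComponent x', T2), ⟨hT1, hT2, hne.symm⟩,
      mem_irreducibleComponent, hx'T2⟩

end Nowhere

section S7596

attribute [local instance] Curv2.resAlgebra

variable (k : Type u) [Field k] (X : Scheme.{u}) [X.Over (Spec (CommRingCat.of k))]

/-- an irreducible `k`-scheme with dense `k`-rational points is geometrically irreducible -/
theorem geometricallyIrreducible_of_dense_rational [IrreducibleSpace X]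
    (hd : Dense {x : X | Function.Surjective (Curv2.resMap k X x)}) :
    GeometricallyIrreducible (X ↘ Spec (CommRingCat.of k)) := by
  by_contra hgi
  rw [geometricallyIrreducible_iff_sepClosed_generic k X] at hgi
  push Not at hgi
  obtain ⟨a, ha, hna⟩ := hgi
  let f := minpoly k a
  have hfsep : f.Separable := ha
  let E := f.SplittingField
  haveI : IsGalois k E := IsGalois.of_separable_splitting_field (p := f) hfsep
  haveI : FiniteDimensional k E := Polynomial.IsSplittingField.finiteDimensional E f
  have hint : IsIntegral k a := ha.isIntegral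
  -- a root of `f` in `E`
  have hdeg : f.degree ≠ 0 := (minpoly.degree_pos hint).ne'
  have hsplits : (f.map (algebraMap k E)).Splits := Polynomial.SplittingField.splits f
  obtain ⟨r, hr⟩ := Polynomial.Splits.exists_eval_eq_zero hsplits (by
    rw [Polynomial.degree_map]; exact hdeg)
  let ψ : AdjoinRoot f →ₐ[k] E := AdjoinRoot.liftAlgHom f (Algebra.ofId k E) r (by
    rw [Polynomial.eval_map] at hr
    exact hr)
  have hnot : ¬ IrreducibleSpace (Curv2.bc k X E) := by
    intro hirr
    have h1 := isPrime_nilradical_generic k X E (Curv2.resMap k X (genericPoint X))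
      (specMap_resMap k X (genericPoint X))
    have h2 : (nilradical (E ⊗[k] X.residueField (genericPoint X))).IsPrime :=
      Groth.Agent.Lib.Helper14.GeomIrr.isPrime_nilradical_of_ringEquiv
        (Algebra.TensorProduct.comm k E (X.residueField (genericPoint X))).toRingEquiv h1
    exact hna (mem_range_of_isSeparable_of_tensor a ha ψ h2)
  have hfib : ((Curv2.bcFst k X E) ⁻¹' {genericPoint X}).Finite :=
    (Curv2.bcFst k X E).finite_preimage_singleton _
  have hcard := GalCount.card_irreducibleComponents_eq_fibre k X E
  have hfin : (irreducibleComponents (Curv2.bc k X E)).Finite := by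
    apply Nat.finite_of_card_ne_zero
    rw [hcard]
    haveI : Finite ↥((Curv2.bcFst k X E) ⁻¹' {genericPoint X}) := hfib
    obtain ⟨w, hw⟩ := bcFst_surjective k X E (genericPoint X)
    haveI : Nonempty ↥((Curv2.bcFst k X E) ⁻¹' {genericPoint X}) := ⟨⟨w, hw⟩⟩
    exact Nat.card_pos.ne'
  obtain ⟨Y, hYc, hYint, hY⟩ := exists_closed_nowhereDense_of_finite k X E hfin hnot
  -- rational points have a single point above them
  have hsub : {x : X | Function.Surjective (Curv2.resMap k X x)} ⊆ Y := by
    intro x hx
    apply hY
    intro w w' hw hw'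
    refine PInsepPts.eq_of_isPurelyInseparable k X E x (Curv2.resMap k X x)
      (specMap_resMap k X x) ?_ w w' hw hw'
    have hbij : Function.Bijective (algebraMap k (X.residueField x)) :=
      ⟨(algebraMap k (X.residueField x)).injective, hx⟩
    let e : k ≃ₐ[k] X.residueField x :=
      AlgEquiv.ofBijective (Algebra.ofId k (X.residueField x)) hbij
    exact e.isPurelyInseparable
  have hYuniv : Y = Set.univ := by
    have := hd.mono hsub
    rw [← hYc.closure_eq]
    exact this.closure_eq
  rw [hYuniv, interior_univ] at hYint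
  exact Set.univ_nonempty.ne_empty hYint

end S7596

end Groth.Agent.Lib.Helper6.Var2
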