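import Mathlib
import Groth.Prelude.Def_Curv2
import Groth.Prelude.Def_FDesc
import Groth.Agent.Lib.Helper6ConnComp3

set_option autoImplicit false
universe u
open CategoryTheory CategoryTheory.Limits AlgebraicGeometry TensorProduct

namespace Groth.Agent.Lib.Helper6.Var3

open Groth.Agent.Lib.Helper6.BcBridge Groth.Agent.Lib.Helper6.SepCl
  Groth.Agent.Lib.Helper6.FinLevel Groth.Agent.Lib.Helper6.GalAct
  Groth.Agent.Lib.Helper6.IrrComp Groth.Agent.Lib.Helper6.ConnComp

section Card

variable (k : Type u) [Field k] (X : Scheme.{u}) [X.Over (Spec (CommRingCat.of k))]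

theorem geometricallyIrreducible_bcTower (Ω L : Type u) [Field Ω] [Algebra k Ω] [IsSepClosed Ω]
    [Field L] [Algebra k L] [Algebra Ω L] [IsScalarTower k Ω L] :
    GeometricallyIrreducible (bcTower k X Ω L) := by
  letI : (Curv2.bc k X Ω).Over (Spec (CommRingCat.of Ω)) := ⟨Curv2.bcSnd k X Ω⟩
  have h1 : GeometricallyIrreducible (Curv2.bcFst Ω (Curv2.bc k X Ω) L) :=
    geometricallyIrreducible_bcFst Ω (Curv2.bc k X Ω) L
  have h2 : bcTower k X Ω L =
      (bcBcIso k X Ω L).inv ≫ Curv2.bcFst Ω (Curv2.bc k X Ω) L := rfl
  rw [h2]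
  have := (MorphismProperty.cancel_left_of_respectsIso @GeometricallyIrreducible
    (bcBcIso k X Ω L).inv (Curv2.bcFst Ω (Curv2.bc k X Ω) L))
  exact this.mpr h1

/-- the number of irreducible components of `X_K` is at most that of `X_Ω`, `Ω` separably
closed -/
theorem card_irreducibleComponents_le (K Ω : Type u) [Field K] [Algebra k K] [Field Ω]
    [Algebra k Ω] [IsSepClosed Ω] :
    Cardinal.mk (irreducibleComponents (Curv2.bc k X K)) ≤
      Cardinal.mk (irreducibleComponents (Curv2.bc k X Ω)) := by
  obtain ⟨L, _, _, _, _, _, _⟩ := exists_common_ext k K Ω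
  -- every component of `X_K` is the closure of the image of a component of `X_L`
  have hex : ∀ T : irreducibleComponents (Curv2.bc k X K),
      ∃ T' : irreducibleComponents (Curv2.bc k X L),
        closure ((bcTower k X K L) '' T'.1) = T.1 := by
    rintro ⟨T, hT⟩
    obtain ⟨η, hη⟩ := QuasiSober.sober hT.1 (isClosed_of_mem_irreducibleComponents _ hT)
    obtain ⟨w, hw⟩ := bcTower_surjective k X K L η
    refine ⟨⟨irreducibleComponent w, irreducibleComponent_mem_irreducibleComponents w⟩, ?_⟩
    have hirr : IsIrreducible (closure ((bcTower k X K L) '' irreducibleComponent w)) :=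
      (isIrreducible_irreducibleComponent.image _
        (bcTower k X K L).continuous.continuousOn).closure
    have hle : T ≤ closure ((bcTower k X K L) '' irreducibleComponent w) := by
      rw [← hη.def]
      refine closure_minimal ?_ isClosed_closure
      rw [Set.singleton_subset_iff]
      exact subset_closure ⟨w, mem_irreducibleComponent, hw⟩
    exact le_antisymm (hT.2 hirr hle) hle
  choose φ hφ using hex
  have hφinj : Function.Injective φ := by
    intro T₁ T₂ h
    apply Subtype.ext
    rw [← hφ T₁, ← hφ T₂, h]
  haveI := geometricallyIrreducible_bcTower k X Ω L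
  let e := (bcTower k X Ω L).irreducibleComponentsEquiv (isOpenMap_bcTower k X Ω L)
  exact (Cardinal.mk_le_of_injective hφinj).trans (Cardinal.mk_le_of_injective e.injective)

end Card

end Groth.Agent.Lib.Helper6.Var3
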