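import Mathlib

set_option autoImplicit false

namespace Groth.Agent.Lib.Helper6.Veronese

universe u

lemma split (e M a b c d1 d2 d3 : ℕ) (hM : 1 ≤ M) (hw : a + 2 * b + 3 * c = M * (6 * e))
    (h1 : a = 0 ∨ 1 ≤ d1) (h2 : b = 0 ∨ 1 ≤ d2) (h3 : c = 0 ∨ 1 ≤ d3)
    (he : 5 * d1 + 4 * d2 + 3 * d3 ≤ e) :
    ∃ a1 b1 c1, a1 ≤ a ∧ b1 ≤ b ∧ c1 ≤ c ∧ a1 + 2 * b1 + 3 * c1 = 6 * e := by
  obtain ⟨q, hq⟩ : ∃ q, q = M * e := ⟨_, rfl⟩
  have hqe : e ≤ q := by rw [hq]; exact Nat.le_mul_of_pos_left e hM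
  have hw' : a + 2 * b + 3 * c = 6 * q := by rw [hw, hq]; ring
  -- remainder
  have hρ : (a % 6 + 2 * (b % 3) + 3 * (c % 2)) % 6 = 0 := by omega
  have hρe : a % 6 + 2 * (b % 3) + 3 * (c % 2) ≤ e := by omega
  -- number of blocks needed
  obtain ⟨N, hN⟩ : ∃ N, N + (a % 6 + 2 * (b % 3) + 3 * (c % 2)) / 6 = e := ⟨e - (a % 6 + 2 * (b % 3) + 3 * (c % 2)) / 6, by omega⟩
  have hNle : N ≤ a / 6 + b / 3 + c / 2 := by omega
  by_cases hc1 : N ≤ a / 6
  · exact ⟨a % 6 + 6 * N, b % 3, c % 2, by omega, by omega, by omega, by omega⟩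
  · by_cases hc2 : N ≤ a / 6 + b / 3
    · exact ⟨a % 6 + 6 * (a / 6), b % 3 + 3 * (N - a / 6), c % 2, by omega, by omega, by omega,
        by omega⟩
    · exact ⟨a % 6 + 6 * (a / 6), b % 3 + 3 * (b / 3), c % 2 + 2 * (N - a / 6 - b / 3),
        by omega, by omega, by omega, by omega⟩

section Alg

variable {k : Type u} [Field k] {R : Type u} [CommRing R] [Algebra k R]
  (ℛ : ℕ → Submodule k R) [GradedAlgebra ℛ]

lemma mul_le_graded (m n : ℕ) : ℛ m * ℛ n ≤ ℛ (m + n) :=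
  Submodule.mul_le.2 (fun _ hx _ hy => SetLike.mul_mem_graded hx hy)

lemma pow_le (i a : ℕ) : ℛ i ^ a ≤ ℛ (a * i) := by
  induction a with
  | zero =>
    rw [pow_zero, zero_mul, Submodule.one_le]
    exact SetLike.one_mem_graded ℛ
  | succ a ih =>
    rw [pow_succ, Nat.succ_mul]
    exact (mul_le_mul' ih le_rfl).trans (mul_le_graded ℛ _ _)

/-- The span of monomials with exponents `(a, b, c)`. -/
def term (a b c : ℕ) : Submodule k R := ℛ 1 ^ a * ℛ 2 ^ b * ℛ 3 ^ c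

lemma term_le (a b c : ℕ) : term ℛ a b c ≤ ℛ (a + 2 * b + 3 * c) := by
  have h1 := pow_le ℛ 1 a
  have h2 := pow_le ℛ 2 b
  have h3 := pow_le ℛ 3 c
  have := (mul_le_mul' (mul_le_mul' h1 h2) h3).trans
    ((mul_le_mul' (mul_le_graded ℛ _ _) le_rfl).trans (mul_le_graded ℛ _ _))
  refine this.trans (le_of_eq (congrArg ℛ ?_))
  ring

lemma term_mul (a b c a' b' c' : ℕ) :
    term ℛ a b c * term ℛ a' b' c' = term ℛ (a + a') (b + b') (c + c') := by
  unfold term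
  rw [pow_add, pow_add, pow_add]
  ring

/-- All monomials. -/
def S : Submodule k R := ⨆ p : ℕ × ℕ × ℕ, term ℛ p.1 p.2.1 p.2.2

/-- Monomials of weight `n`. -/
def T (n : ℕ) : Submodule k R :=
  ⨆ p : {p : ℕ × ℕ × ℕ // p.1 + 2 * p.2.1 + 3 * p.2.2 = n}, term ℛ p.1.1 p.1.2.1 p.1.2.2

lemma S_eq_top
    (hgen : Algebra.adjoin k ((ℛ 1 : Set R) ∪ (ℛ 2 : Set R) ∪ (ℛ 3 : Set R)) = ⊤) :
    S ℛ = ⊤ := by
  have h1 : (1 : R) ∈ S ℛ := by
    refine Submodule.mem_iSup_of_mem (0, 0, 0) ?_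
    simp only [term, pow_zero, mul_one]
    exact Submodule.one_le.1 le_rfl
  have hSS : S ℛ * S ℛ ≤ S ℛ := by
    unfold S
    rw [Submodule.iSup_mul]
    apply iSup_le
    intro p
    rw [Submodule.mul_iSup]
    apply iSup_le
    intro q
    rw [term_mul]
    exact le_iSup (fun p : ℕ × ℕ × ℕ => term ℛ p.1 p.2.1 p.2.2)
      (p.1 + q.1, p.2.1 + q.2.1, p.2.2 + q.2.2)
  have hmul : ∀ x y, x ∈ S ℛ → y ∈ S ℛ → x * y ∈ S ℛ :=
    fun x y hx hy => hSS (Submodule.mul_mem_mul hx hy)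
  have hle : Algebra.adjoin k ((ℛ 1 : Set R) ∪ (ℛ 2 : Set R) ∪ (ℛ 3 : Set R)) ≤
      Submodule.toSubalgebra (S ℛ) h1 hmul := by
    apply Algebra.adjoin_le
    rintro x ((hx | hx) | hx)
    · refine Submodule.mem_iSup_of_mem (1, 0, 0) ?_
      simpa [term] using hx
    · refine Submodule.mem_iSup_of_mem (0, 1, 0) ?_
      simpa [term] using hx
    · refine Submodule.mem_iSup_of_mem (0, 0, 1) ?_
      simpa [term] using hx
  rw [hgen] at hle
  rw [eq_top_iff]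
  intro x _
  exact hle (Algebra.mem_top : x ∈ (⊤ : Subalgebra k R))

lemma decompose_mem_T (x : R) (hxS : x ∈ S ℛ) :
    ∀ n, ((DirectSum.decompose ℛ x n : ℛ n) : R) ∈ T ℛ n := by
  unfold S at hxS
  induction hxS using Submodule.iSup_induction' with
  | mem p y hy =>
    intro n
    have hyw := term_le ℛ _ _ _ hy
    by_cases hn : p.1 + 2 * p.2.1 + 3 * p.2.2 = n
    · subst hn
      rw [DirectSum.decompose_of_mem_same ℛ hyw]
      exact Submodule.mem_iSup_of_mem (⟨p, rfl⟩ : {q : ℕ × ℕ × ℕ //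
        q.1 + 2 * q.2.1 + 3 * q.2.2 = p.1 + 2 * p.2.1 + 3 * p.2.2}) hy
    · rw [DirectSum.decompose_of_mem_ne ℛ hyw hn]
      exact Submodule.zero_mem _
  | zero =>
    intro n
    rw [DirectSum.decompose_zero]
    exact Submodule.zero_mem _
  | add y z _ _ hy hz =>
    intro n
    rw [DirectSum.decompose_add]
    exact Submodule.add_mem _ (hy n) (hz n)

lemma le_T
    (hgen : Algebra.adjoin k ((ℛ 1 : Set R) ∪ (ℛ 2 : Set R) ∪ (ℛ 3 : Set R)) = ⊤) (n : ℕ) :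
    ℛ n ≤ T ℛ n := by
  intro x hx
  have hxS : x ∈ S ℛ := by rw [S_eq_top ℛ hgen]; exact Submodule.mem_top
  have := decompose_mem_T ℛ x hxS n
  rwa [DirectSum.decompose_of_mem_same ℛ hx] at this

lemma pow_eq_bot_or (i a : ℕ) [Module.Finite k (ℛ i)] :
    ℛ i ^ a = ⊥ ∨ (a = 0 ∨ 1 ≤ Module.finrank k (ℛ i)) := by
  by_cases ha : a = 0
  · exact Or.inr (Or.inl ha)
  · by_cases hd : Module.finrank k (ℛ i) = 0
    · left
      have : ℛ i = ⊥ := Submodule.finrank_eq_zero.1 hd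
      rw [this, ← Submodule.zero_eq_bot, zero_pow ha]
    · exact Or.inr (Or.inr (by omega))

variable [Module.Finite k (ℛ 1)] [Module.Finite k (ℛ 2)] [Module.Finite k (ℛ 3)]

lemma key (e : ℕ)
    (he : 5 * Module.finrank k (ℛ 1) + 4 * Module.finrank k (ℛ 2) +
      3 * Module.finrank k (ℛ 3) ≤ e) :
    ∀ m, 1 ≤ m → ∀ a b c, a + 2 * b + 3 * c = m * (6 * e) →
      term ℛ a b c ≤ ℛ (6 * e) ^ m := by
  intro m hm
  induction m, hm using Nat.le_induction with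
  | base =>
    intro a b c hw
    rw [pow_one]
    exact (term_le ℛ a b c).trans (le_of_eq (congrArg ℛ (by omega)))
  | succ m hm ih =>
    intro a b c hw
    rcases pow_eq_bot_or ℛ 1 a with h1 | h1
    · unfold term
      rw [h1, Submodule.bot_mul, Submodule.bot_mul]
      exact bot_le
    rcases pow_eq_bot_or ℛ 2 b with h2 | h2
    · unfold term
      rw [h2, Submodule.mul_bot, Submodule.bot_mul]
      exact bot_le
    rcases pow_eq_bot_or ℛ 3 c with h3 | h3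
    · unfold term
      rw [h3, Submodule.mul_bot]
      exact bot_le
    obtain ⟨a1, b1, c1, ha, hb, hc, hw1⟩ :=
      split e (m + 1) a b c _ _ _ (by omega) hw h1 h2 h3 he
    have hsplit : term ℛ a b c = term ℛ a1 b1 c1 * term ℛ (a - a1) (b - b1) (c - c1) := by
      rw [term_mul]
      congr <;> omega
    rw [hsplit, pow_succ']
    refine mul_le_mul' ?_ (ih _ _ _ ?_)
    · exact (term_le ℛ a1 b1 c1).trans (le_of_eq (congrArg ℛ hw1))
    · have : (m + 1) * (6 * e) = m * (6 * e) + 6 * e := by ring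
      omega

theorem main
    (hgen : Algebra.adjoin k ((ℛ 1 : Set R) ∪ (ℛ 2 : Set R) ∪ (ℛ 3 : Set R)) = ⊤)
    (e : ℕ)
    (he : 5 * Module.finrank k (ℛ 1) + 4 * Module.finrank k (ℛ 2) +
      3 * Module.finrank k (ℛ 3) ≤ e)
    (m : ℕ) (hm : 0 < m) :
    ℛ (m * (6 * e)) = ℛ (6 * e) ^ m := by
  apply le_antisymm
  · refine (le_T ℛ hgen _).trans ?_
    unfold T
    apply iSup_le
    rintro ⟨⟨a, b, c⟩, hw⟩
    exact key ℛ e he m hm a b c hw
  · exact pow_le ℛ (6 * e) m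

end Alg

end Groth.Agent.Lib.Helper6.Veronese
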