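import Groth.Prelude
import Mathlib

/-!
# `S_(f) ≃ S^{(d)}/(f - 1)` (helper6)
-/

open HomogeneousLocalization

namespace Groth.Agent.Lib.Helper6

universe u

section
variable {R A : Type u} [CommRing R] [CommRing A] [Algebra R A] (𝒜 : ℕ → Submodule R A)
  [GradedAlgebra 𝒜]
  {B : Type u} [CommRing B] [Algebra R B] (ℬ : ℕ → Submodule R B) [GradedAlgebra ℬ]
  (d : ℕ) (φ : B →ₐ[R] A)
  (hdeg : ∀ n : ℕ, Submodule.map φ.toLinearMap (ℬ n) = 𝒜 (n * d)) (f' : B) (hf' : f' ∈ ℬ 1)

include hdeg in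
theorem veronese_map_mem {n : ℕ} {x : B} (hx : x ∈ ℬ n) : φ x ∈ 𝒜 (n • d) := by
  rw [smul_eq_mul, ← hdeg n]
  exact ⟨x, hx, rfl⟩

include hdeg hf' in
theorem veronese_f_mem : φ f' ∈ 𝒜 d := by
  have := veronese_map_mem 𝒜 ℬ d φ hdeg hf'
  rwa [one_smul] at this

/-- The degree `n` piece of the comparison map. -/
noncomputable def veroneseAwayPiece (n : ℕ) : ℬ n →+ Away 𝒜 (φ f') where
  toFun x := Away.mk 𝒜 (veronese_f_mem 𝒜 ℬ d φ hdeg f' hf') n (φ x)
    (veronese_map_mem 𝒜 ℬ d φ hdeg x.2)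
  map_zero' := by
    apply HomogeneousLocalization.val_injective
    simp [Away.val_mk, Localization.mk_zero]
  map_add' x y := by
    apply HomogeneousLocalization.val_injective
    simp only [Away.val_mk, HomogeneousLocalization.val_add, Submodule.coe_add, map_add,
      Localization.add_mk_self]

theorem val_veroneseAwayPiece (n : ℕ) (x : ℬ n) :
    (veroneseAwayPiece 𝒜 ℬ d φ hdeg f' hf' n x).val =
      Localization.mk (φ x) ⟨φ f' ^ n, pow_mem (Submonoid.mem_powers (φ f')) n⟩ := rfl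

/-- The comparison ring homomorphism `S' → S_(f)`. -/
noncomputable def veroneseAwayHom : B →+* Away 𝒜 (φ f') :=
  (DirectSum.toSemiring (veroneseAwayPiece 𝒜 ℬ d φ hdeg f' hf')
    (by
      apply HomogeneousLocalization.val_injective
      rw [val_veroneseAwayPiece, HomogeneousLocalization.val_one]
      change Localization.mk (φ (1 : B)) _ = 1
      simp)
    (by
      intro i j x y
      apply HomogeneousLocalization.val_injective
      rw [HomogeneousLocalization.val_mul, val_veroneseAwayPiece, val_veroneseAwayPiece,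
        val_veroneseAwayPiece, Localization.mk_mul]
      change Localization.mk (φ ((x : B) * (y : B))) _ = _
      rw [map_mul]
      congr 1
      ext
      simp [pow_add])).comp (DirectSum.decomposeRingEquiv ℬ).toRingHom

theorem veroneseAwayHom_apply_of_mem {n : ℕ} {x : B} (hx : x ∈ ℬ n) :
    veroneseAwayHom 𝒜 ℬ d φ hdeg f' hf' x =
      Away.mk 𝒜 (veronese_f_mem 𝒜 ℬ d φ hdeg f' hf') n (φ x)
        (veronese_map_mem 𝒜 ℬ d φ hdeg hx) := by
  simp only [veroneseAwayHom, RingHom.coe_comp, Function.comp_apply, RingEquiv.toRingHom_eq_coe,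
    RingHom.coe_coe]
  change DirectSum.toSemiring _ _ _ (DirectSum.decompose ℬ x) = _
  rw [DirectSum.decompose_of_mem ℬ hx, DirectSum.toSemiring_of]
  rfl

theorem veroneseAwayHom_sub_one :
    veroneseAwayHom 𝒜 ℬ d φ hdeg f' hf' (f' - 1) = 0 := by
  rw [map_sub, map_one, sub_eq_zero, veroneseAwayHom_apply_of_mem 𝒜 ℬ d φ hdeg f' hf' hf']
  apply HomogeneousLocalization.val_injective
  rw [Away.val_mk, HomogeneousLocalization.val_one]
  simp only [pow_one]
  exact Localization.mk_self ⟨φ f', _⟩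

include hf' in
/-- Every element is congruent to a homogeneous one modulo `f' - 1`. -/
theorem exists_homogeneous_mk_eq (x : B) :
    ∃ (N : ℕ) (y : B), y ∈ ℬ N ∧
      Ideal.Quotient.mk (Ideal.span {f' - 1}) x = Ideal.Quotient.mk (Ideal.span {f' - 1}) y := by
  have hf1 : Ideal.Quotient.mk (Ideal.span {f' - 1}) f' = 1 := by
    rw [← map_one (Ideal.Quotient.mk (Ideal.span {f' - 1})), Ideal.Quotient.mk_eq_mk_iff_sub_mem]
    exact Ideal.subset_span rfl
  induction x using DirectSum.Decomposition.inductionOn ℬ with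
  | zero => exact ⟨0, 0, zero_mem _, rfl⟩
  | homogeneous m => exact ⟨_, m, m.2, rfl⟩
  | add a b ha hb =>
    obtain ⟨N₁, y₁, hy₁, h₁⟩ := ha
    obtain ⟨N₂, y₂, hy₂, h₂⟩ := hb
    refine ⟨N₁ + N₂, y₁ * f' ^ N₂ + f' ^ N₁ * y₂, ?_, ?_⟩
    · refine Submodule.add_mem _ ?_ ?_
      · have := SetLike.mul_mem_graded hy₁ (SetLike.pow_mem_graded N₂ hf')
        simpa using this
      · have := SetLike.mul_mem_graded (SetLike.pow_mem_graded N₁ hf') hy₂
        simpa using this
    · simp only [map_add, map_mul, map_pow, hf1, one_pow, mul_one, one_mul, h₁, h₂]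

include hdeg hf' in
theorem veronese_exists_equiv (hφ : Function.Injective φ) :
    ∃ e : Away 𝒜 (φ f') ≃+* B ⧸ Ideal.span {f' - 1},
      ∀ (n : ℕ) (x : B), x ∈ ℬ n →
        (e.symm (Ideal.Quotient.mk (Ideal.span {f' - 1}) x)).val =
          Localization.mk (φ x) ⟨φ f' ^ n, pow_mem (Submonoid.mem_powers (φ f')) n⟩ := by
  let ψ := veroneseAwayHom 𝒜 ℬ d φ hdeg f' hf'
  have hker : ∀ a ∈ Ideal.span {f' - 1}, ψ a = 0 := by
    intro a ha
    rw [Ideal.mem_span_singleton] at ha
    obtain ⟨c, rfl⟩ := ha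
    rw [map_mul, veroneseAwayHom_sub_one, zero_mul]
  let ψbar : B ⧸ Ideal.span {f' - 1} →+* Away 𝒜 (φ f') := Ideal.Quotient.lift _ ψ hker
  have hf1 : Ideal.Quotient.mk (Ideal.span {f' - 1}) f' = 1 := by
    rw [← map_one (Ideal.Quotient.mk (Ideal.span {f' - 1})), Ideal.Quotient.mk_eq_mk_iff_sub_mem]
    exact Ideal.subset_span rfl
  have hbij : Function.Bijective ψbar := by
    constructor
    · rw [injective_iff_map_eq_zero]
      intro q hq
      obtain ⟨x, rfl⟩ := Ideal.Quotient.mk_surjective q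
      obtain ⟨N, y, hy, hxy⟩ := exists_homogeneous_mk_eq ℬ f' hf' x
      rw [hxy] at hq ⊢
      have h1 : ψ y = 0 := hq
      rw [veroneseAwayHom_apply_of_mem 𝒜 ℬ d φ hdeg f' hf' hy] at h1
      have h2 := congrArg HomogeneousLocalization.val h1
      rw [Away.val_mk, HomogeneousLocalization.val_zero, Localization.mk_eq_mk',
        IsLocalization.mk'_eq_zero_iff] at h2
      obtain ⟨⟨_, k, rfl⟩, hk⟩ := h2
      simp only at hk
      have h3 : f' ^ k * y = 0 := by
        apply hφ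
        rw [map_mul, map_pow, map_zero]
        exact hk
      have : Ideal.Quotient.mk (Ideal.span {f' - 1}) (f' ^ k * y) = 0 := by rw [h3, map_zero]
      rw [map_mul, map_pow, hf1, one_pow, one_mul] at this
      exact this
    · intro z
      obtain ⟨n, a, ha, rfl⟩ := Away.mk_surjective 𝒜 (veronese_f_mem 𝒜 ℬ d φ hdeg f' hf') z
      have ha' : a ∈ Submodule.map φ.toLinearMap (ℬ n) := by
        rw [hdeg n, ← smul_eq_mul]
        exact ha
      obtain ⟨x, hx, rfl⟩ := ha'
      refine ⟨Ideal.Quotient.mk _ x, ?_⟩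
      change ψ x = _
      rw [veroneseAwayHom_apply_of_mem 𝒜 ℬ d φ hdeg f' hf' hx]
      rfl
  refine ⟨(RingEquiv.ofBijective ψbar hbij).symm, ?_⟩
  intro n x hx
  rw [RingEquiv.symm_symm]
  change (ψ x).val = _
  rw [veroneseAwayHom_apply_of_mem 𝒜 ℬ d φ hdeg f' hf' hx, Away.val_mk]

end

end Groth.Agent.Lib.Helper6
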