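import Mathlib
import Groth.Prelude.Def_EGA41
import Groth.Agent.Lib.Helper7MacLane

set_option autoImplicit false
set_option linter.style.haveILetI false
set_option linter.unusedSectionVars false
open TensorProduct KaehlerDifferential
universe u v w

namespace Groth.Agent.Lib.Helper7.PPow

section Descent
variable {k₀ : Type*} {K : Type*} [Field k₀] [Field K] [Algebra k₀ K] {J : Type*}

/-- elementary linear independence with scalars restricted to a subset -/
def IndepIn (F : Set K) (v : J → K) (s : Finset J) : Prop :=
  ∀ c : J → K, (∀ j, c j ∈ F) → ∑ j ∈ s, c j * v j = 0 → ∀ j ∈ s, c j = 0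

lemma IndepIn.mono {F F' : Set K} (h : F ⊆ F') {v : J → K} {s : Finset J}
    (hi : IndepIn F' v s) : IndepIn F v s :=
  fun c hc => hi c (fun j => h (hc j))

lemma IndepIn.subset {F : Set K} (h0 : (0 : K) ∈ F) {v : J → K} {s s' : Finset J}
    (hs : s' ⊆ s) (hi : IndepIn F v s) : IndepIn F v s' := by
  classical
  intro c hc hsum j hj
  have h1 := hi (fun j => if j ∈ s' then c j else 0)
    (fun j => by by_cases h : j ∈ s' <;> simp [h, hc j, h0])
    (by
      rw [← Finset.sum_subset hs (fun x _ hx => by simp [hx]), ← hsum]
      exact Finset.sum_congr rfl fun x hx => by simp [hx]) j (hs hj)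
  simpa [hj] using h1

theorem exists_indepIn_of_iInf {ι : Type*} [Preorder ι] [IsDirected ι (· ≤ ·)] [Nonempty ι]
    (Q : ι → IntermediateField k₀ K) (hQ : Antitone Q) (v : J → K) (s : Finset J)
    (h : IndepIn ((⨅ i, Q i : IntermediateField k₀ K) : Set K) v s) :
    ∃ i, IndepIn (Q i : Set K) v s := by
  classical
  induction s using Finset.induction_on with
  | empty => exact ⟨Classical.arbitrary ι, fun c _ _ j hj => absurd hj (Finset.notMem_empty j)⟩
  | insert a s' ha ih =>
    obtain ⟨i₀, hi₀⟩ := ih (h.subset (zero_mem _) (Finset.subset_insert a s'))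
    by_contra hcon
    push Not at hcon
    have key : ∀ i, i₀ ≤ i → ∃ b : J → K, (∀ j, b j ∈ Q i) ∧
        v a + ∑ j ∈ s', b j * v j = 0 := by
      intro i hi
      have hnot := hcon i
      unfold IndepIn at hnot
      push Not at hnot
      obtain ⟨c, hc, hsum, j, hj, hcj⟩ := hnot
      have hi' : IndepIn (Q i : Set K) v s' := hi₀.mono (fun x hx => hQ hi hx)
      rw [Finset.sum_insert ha] at hsum
      have hca : c a ≠ 0 := by
        intro h0
        rw [h0, zero_mul, zero_add] at hsum
        have := hi' c hc hsum
        rcases Finset.mem_insert.1 hj with rfl | hj'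
        · exact hcj h0
        · exact hcj (this j hj')
      refine ⟨fun j => c j / c a, fun j => div_mem (hc j) (hc a), ?_⟩
      have : v a + ∑ j ∈ s', c j / c a * v j =
          (c a)⁻¹ * (c a * v a + ∑ j ∈ s', c j * v j) := by
        rw [mul_add, Finset.mul_sum, ← mul_assoc, inv_mul_cancel₀ hca, one_mul]
        congr 1
        refine Finset.sum_congr rfl fun j _ => ?_
        field_simp
      rw [this, hsum, mul_zero]
    obtain ⟨b₀, hb₀, hrel₀⟩ := key i₀ le_rfl
    have hmem : ∀ j ∈ s', ∀ i, b₀ j ∈ Q i := by
      intro j hj i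
      obtain ⟨i', hi'₁, hi'₂⟩ := exists_ge_ge i₀ i
      obtain ⟨b, hb, hrel⟩ := key i' hi'₁
      have hdiff : ∑ j ∈ s', (b j - b₀ j) * v j = 0 := by
        have : ∑ j ∈ s', (b j - b₀ j) * v j =
            (v a + ∑ j ∈ s', b j * v j) - (v a + ∑ j ∈ s', b₀ j * v j) := by
          simp only [sub_mul, Finset.sum_sub_distrib]; ring
        rw [this, hrel, hrel₀, sub_zero]
      have := hi₀ (fun j => b j - b₀ j) (fun j => sub_mem (hQ hi'₁ (hb j)) (hb₀ j)) hdiff j hj
      have hbj : b j = b₀ j := sub_eq_zero.1 this
      rw [← hbj]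
      exact hQ hi'₂ (hb j)
    let c : J → K := fun j => if j = a then 1 else if j ∈ s' then b₀ j else 0
    have hc : ∀ j, c j ∈ ((⨅ i, Q i : IntermediateField k₀ K) : Set K) := by
      intro j
      rw [IntermediateField.coe_iInf, Set.mem_iInter]
      intro i
      simp only [c]
      split_ifs with h1 h2
      · exact one_mem _
      · exact hmem j h2 i
      · exact zero_mem _
    have hsum : ∑ j ∈ insert a s', c j * v j = 0 := by
      rw [Finset.sum_insert ha]
      have h1 : c a = 1 := by simp [c]
      have h2 : ∀ j ∈ s', c j * v j = b₀ j * v j := by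
        intro j hj
        have : j ≠ a := fun h => ha (h ▸ hj)
        simp [c, this, hj]
      rw [h1, one_mul, Finset.sum_congr rfl h2, hrel₀]
    have := h c hc hsum a (Finset.mem_insert_self a s')
    simp [c] at this

lemma linearIndependent_iff_indepIn [Fintype J] (F : IntermediateField k₀ K) (v : J → K) :
    LinearIndependent F v ↔ IndepIn (F : Set K) v Finset.univ := by
  rw [Fintype.linearIndependent_iff]
  constructor
  · intro h c hc hsum j _
    have := h (fun j => ⟨c j, hc j⟩) (by
      rw [← hsum]
      exact Finset.sum_congr rfl fun j _ => by rw [Algebra.smul_def]; rfl) j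
    exact congrArg Subtype.val this
  · intro h g hsum j
    have := h (fun j => (g j : K)) (fun j => (g j).2) (by
      rw [← hsum]
      exact Finset.sum_congr rfl fun j _ => by rw [Algebra.smul_def]; rfl) j (Finset.mem_univ j)
    exact Subtype.ext this

end Descent

end Groth.Agent.Lib.Helper7.PPow
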