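import Mathlib
import Groth.Prelude.Def_EGA41
import Groth.Agent.Lib.Helper7Descent

set_option autoImplicit false
set_option linter.style.haveILetI false
set_option linter.unusedSectionVars false
open TensorProduct KaehlerDifferential
universe u v w

namespace Groth.Agent.Lib.Helper7.PPow

section Const

variable {k₀ K : Type u} [Field k₀] [Field K] [Algebra k₀ K]

/-- the field of constants of `d_{K/F}` -/
def constField (F : IntermediateField k₀ K) : IntermediateField k₀ K where
  carrier := {y | D F K y = 0}
  mul_mem' := fun {a b} ha hb => by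
    simp only [Set.mem_ofPred_eq] at *
    rw [Derivation.leibniz, ha, hb, smul_zero, smul_zero, add_zero]
  one_mem' := (D F K).map_one_eq_zero
  add_mem' := fun {a b} ha hb => by
    simp only [Set.mem_ofPred_eq] at *
    rw [map_add, ha, hb, add_zero]
  zero_mem' := map_zero (D F K)
  algebraMap_mem' := fun r => by
    change D F K (algebraMap k₀ K r) = 0
    rw [IsScalarTower.algebraMap_apply k₀ F K, Derivation.map_algebraMap]
  inv_mem' := fun a ha => by
    simp only [Set.mem_ofPred_eq] at *
    rw [Derivation.leibniz_inv, ha, smul_zero]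

lemma mem_constField {F : IntermediateField k₀ K} {y : K} : y ∈ constField F ↔ D F K y = 0 :=
  Iff.rfl

variable (p : ℕ) [Fact p.Prime] [CharP K p]

/-- `k₀(K^p)` -/
abbrev pField (k₀ K : Type u) [Field k₀] [Field K] [Algebra k₀ K] (p : ℕ) :
    IntermediateField k₀ K :=
  IntermediateField.adjoin k₀ (Set.range fun y : K => y ^ p)

lemma sup_pField_le_constField (F : IntermediateField k₀ K) :
    F ⊔ pField k₀ K p ≤ constField F := by
  refine sup_le ?_ ?_
  · intro y hy
    rw [mem_constField]
    exact Derivation.map_algebraMap (D F K) (⟨y, hy⟩ : F)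
  · rw [IntermediateField.adjoin_le_iff]
    rintro _ ⟨y, rfl⟩
    exact D_pow_char_eq_zero p y

lemma D_eq_zero_of_mem_sup (F : IntermediateField k₀ K) {y : K} (hy : y ∈ F ⊔ pField k₀ K p) :
    D F K y = 0 := sup_pField_le_constField p F hy

lemma mem_sup_of_D_eq_zero (F : IntermediateField k₀ K) {y : K} (hy : D F K y = 0) :
    y ∈ F ⊔ pField k₀ K p := by
  have h := mem_pPowerSubalgebra_of_D_eq_zero p (k := F) hy
  rw [EGA41.pPowerSubalgebra] at h
  clear hy
  induction h using Algebra.adjoin_induction with
  | mem z hz => exact (le_sup_right : pField k₀ K p ≤ _) (IntermediateField.subset_adjoin _ _ hz)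
  | algebraMap r => exact (le_sup_left : F ≤ F ⊔ pField k₀ K p) r.2
  | add a c _ _ ha hc => exact add_mem ha hc
  | mul a c _ _ ha hc => exact mul_mem ha hc

lemma mem_pField_of_D_eq_zero {y : K} (hy : D k₀ K y = 0) : y ∈ pField k₀ K p := by
  have h := mem_pPowerSubalgebra_of_D_eq_zero p (k := k₀) hy
  rw [EGA41.pPowerSubalgebra] at h
  exact IntermediateField.algebra_adjoin_le_adjoin k₀ _ h

lemma D_eq_zero_of_mem_pField {y : K} (hy : y ∈ pField k₀ K p) : D k₀ K y = 0 := by
  induction hy using IntermediateField.adjoin_induction with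
  | mem z hz =>
    obtain ⟨w, rfl⟩ := hz
    exact D_pow_char_eq_zero p w
  | algebraMap r => exact Derivation.map_algebraMap _ r
  | add a c _ _ ha hc => rw [map_add, ha, hc, add_zero]
  | inv a _ ha => rw [Derivation.leibniz_inv, ha, smul_zero]
  | mul a c _ _ ha hc => rw [Derivation.leibniz, ha, hc, smul_zero, smul_zero, add_zero]

end Const

section Main2475

variable {k₀ K : Type u} [Field k₀] [Field K] [Algebra k₀ K] (p : ℕ) [Fact p.Prime] [CharP K p]

/-- spanning of `Ω_{K/k₀}` by the differentials of a `p`-generating set over `k₀(K^p)` -/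
lemma span_D_eq_top_of_adjoin_pField {T : Set K}
    (hgen : Algebra.adjoin (pField k₀ K p) T = ⊤) :
    Submodule.span K (Set.range fun t : T => D k₀ K (t : K)) = ⊤ := by
  have hD : ∀ e : pField k₀ K p, D k₀ K (algebraMap (pField k₀ K p) K e) = 0 :=
    fun e => D_eq_zero_of_mem_pField p e.2
  rw [eq_top_iff, ← KaehlerDifferential.span_range_derivation, Submodule.span_le]
  rintro _ ⟨y, rfl⟩
  have hy : y ∈ Algebra.adjoin (pField k₀ K p) T := by rw [hgen]; trivial
  have := D_mem_span_of_mem_adjoin (k := k₀) (E := pField k₀ K p) (K := K) hD hy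
  have h2 : (Set.range fun t : T => D k₀ K (t : K)) = D k₀ K '' T := by
    ext z
    simp
  rw [h2]
  exact this

variable {ι : Type*} [Preorder ι] [IsDirected ι (· ≤ ·)] [Nonempty ι]
  (k : ι → IntermediateField k₀ K)

theorem iInf_sup_pField_eq_iff (hk : Antitone k) :
    (⨅ i, k i ⊔ pField k₀ K p) = pField k₀ K p ↔
      ∀ ω : Ω[K⁄k₀], (∀ i, KaehlerDifferential.map k₀ (k i) K K ω = 0) → ω = 0 := by
  classical
  constructor
  · intro ha ω hω
    let P := pField k₀ K p
    have hE : ∀ y : K, y ^ p ∈ Set.range (algebraMap P K) :=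
      fun y => ⟨⟨y ^ p, IntermediateField.subset_adjoin _ _ ⟨y, rfl⟩⟩, rfl⟩
    obtain ⟨T, -, hT, hgen⟩ := exists_pfreeSet_adjoin_eq_top p hE (pfreeSet_empty (E := P) p)
    have hspan := span_D_eq_top_of_adjoin_pField p hgen
    have hω' : ω ∈ Submodule.span K (Set.range fun t : T => D k₀ K (t : K)) := by
      rw [hspan]; trivial
    obtain ⟨c, rfl⟩ := Finsupp.mem_span_range_iff_exists_finsupp.1 hω'
    let S := c.support
    let x : S → K := fun t => ((t : T) : K)
    have hfreeP : PFree P p x :=
      PFree.comp_injective p hT (f := fun t : S => (t : T)) Subtype.val_injective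
    let J := {e : S →₀ ℕ // ∀ i, e i < p}
    haveI : Finite J := Finite.of_injective
      (fun e : J => fun i : S => (⟨e.1 i, e.2 i⟩ : Fin p)) (by
        intro e e' h
        apply Subtype.ext
        ext i
        exact congrArg Fin.val (congrFun h i))
    haveI : Fintype J := Fintype.ofFinite J
    let v : J → K := fun e => e.1.prod fun i n => x i ^ n
    have hliP : LinearIndependent P v := (pfree_iff_linearIndependent p x).1 hfreeP
    have hQ : Antitone (fun i => k i ⊔ P) := fun i j hij => sup_le_sup_right (hk hij) P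
    have h1 : IndepIn ((⨅ i, k i ⊔ P : IntermediateField k₀ K) : Set K) v Finset.univ := by
      rw [ha]
      exact (linearIndependent_iff_indepIn P v).1 hliP
    obtain ⟨i, hi⟩ := exists_indepIn_of_iInf (fun i => k i ⊔ P) hQ v Finset.univ h1
    let Qi : IntermediateField k₀ K := k i ⊔ P
    have hliQ : LinearIndependent Qi v := (linearIndependent_iff_indepIn Qi v).2 hi
    have hfreeQ : PFree Qi p x := (pfree_iff_linearIndependent p x).2 hliQ
    letI : Algebra (k i) Qi :=
      (IntermediateField.inclusion (le_sup_left : k i ≤ Qi)).toRingHom.toAlgebra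
    haveI : IsScalarTower (k i) Qi K := IsScalarTower.of_algebraMap_eq fun _ => rfl
    have hEQ : ∀ y : K, y ^ p ∈ Set.range (algebraMap Qi K) :=
      fun y => ⟨⟨y ^ p, (le_sup_right : P ≤ Qi) (IntermediateField.subset_adjoin _ _ ⟨y, rfl⟩)⟩,
        rfl⟩
    have hliD : LinearIndependent K (fun t : S => D (k i) K (x t)) :=
      linearIndependent_D_of_pfree (k := k i) (E := Qi) p hEQ hfreeQ
    have h0 := hω i
    rw [Finsupp.sum, map_sum] at h0
    simp only [map_smul, KaehlerDifferential.map_D, Algebra.algebraMap_self, RingHom.id_apply]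
      at h0
    have h0' : ∑ t : S, c t • D (k i) K (x t) = 0 := by
      rw [← h0]
      exact Finset.sum_coe_sort S (fun t => c t • D (k i) K (t : K))
    have hc := Fintype.linearIndependent_iff.1 hliD (fun t => c t) h0'
    have hc0 : c = 0 := by
      ext t
      by_cases ht : t ∈ S
      · exact hc ⟨t, ht⟩
      · simpa [S] using ht
    rw [hc0]
    simp
  · intro hc
    apply le_antisymm
    · intro y hy
      have hy' : y ∈ ((⨅ i, k i ⊔ pField k₀ K p : IntermediateField k₀ K) : Set K) := hy
      rw [IntermediateField.coe_iInf, Set.mem_iInter] at hy'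
      have hy0 : D k₀ K y = 0 := by
        apply hc
        intro i
        rw [KaehlerDifferential.map_D]
        exact D_eq_zero_of_mem_sup p (k i) (hy' i)
      exact mem_pField_of_D_eq_zero p hy0
    · exact le_iInf fun i => le_sup_right

end Main2475

end Groth.Agent.Lib.Helper7.PPow
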