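import Mathlib
import Groth.Prelude.Def_EGA41
import Groth.Agent.Lib.Helper7Admissible

set_option autoImplicit false
set_option maxHeartbeats 4000000
set_option synthInstance.maxHeartbeats 400000
set_option backward.isDefEq.respectTransparency.types false
set_option linter.style.haveILetI false
set_option linter.unusedSectionVars false
open TensorProduct KaehlerDifferential
universe u v w

namespace Groth.Agent.Lib.Helper7.PPow

section ConstOf

variable {k₀ K : Type*} [Field k₀] [Field K] [Algebra k₀ K]
  {R M : Type*} [CommRing R] [Algebra R K] [AddCommGroup M] [Module K M] [Module R M]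
  [IsScalarTower R K M]

/-- the field of constants of a derivation vanishing on `k₀` -/
def constFieldOf (d : Derivation R K M) (h0 : ∀ r : k₀, d (algebraMap k₀ K r) = 0) :
    IntermediateField k₀ K where
  carrier := {y | d y = 0}
  mul_mem' := fun {a b} ha hb => by
    simp only [Set.mem_ofPred_eq] at *
    rw [Derivation.leibniz, ha, hb, smul_zero, smul_zero, add_zero]
  one_mem' := d.map_one_eq_zero
  add_mem' := fun {a b} ha hb => by
    simp only [Set.mem_ofPred_eq] at *
    rw [map_add, ha, hb, add_zero]
  zero_mem' := map_zero d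
  algebraMap_mem' := h0
  inv_mem' := fun a ha => by
    simp only [Set.mem_ofPred_eq] at *
    rw [Derivation.leibniz_inv, ha, smul_zero]

lemma mem_constFieldOf {d : Derivation R K M} {h0 : ∀ r : k₀, d (algebraMap k₀ K r) = 0} {y : K} :
    y ∈ constFieldOf d h0 ↔ d y = 0 := Iff.rfl

/-- a derivation vanishing on an intermediate field `F` is `F`-linear -/
def derivationOfConst (d : Derivation R K M) (F : IntermediateField k₀ K)
    (h : ∀ a ∈ F, d a = 0) : Derivation F K M where
  toFun := d
  map_add' := d.map_add
  map_smul' := fun a y => by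
    simp only [RingHom.id_apply]
    have ha : d ((algebraMap F K) a) = 0 := h _ a.2
    rw [Algebra.smul_def, Derivation.leibniz, ha, smul_zero, add_zero,
      IsScalarTower.algebraMap_smul K a (d y)]
  map_one_eq_zero' := d.map_one_eq_zero
  leibniz' := d.leibniz

@[simp] lemma derivationOfConst_apply (d : Derivation R K M) (F : IntermediateField k₀ K)
    (h : ∀ a ∈ F, d a = 0) (y : K) : derivationOfConst d F h y = d y := rfl

end ConstOf

section Main4549

variable {k₀ K L : Type u} [Field k₀] [Field K] [Field L]
  [Algebra k₀ K] [Algebra K L] [Algebra k₀ L] [IsScalarTower k₀ K L]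
  (p : ℕ) [Fact p.Prime] [CharP K p]

/-- For every finitely generated `L`-submodule `N` of `L ⊗_K Ω_{K/k₀}` there is a subfield `k` of
`K`, containing `k₀(K^p)` and of finite index, such that `N → L ⊗_K Ω_{K/k}` is injective. -/
theorem exists_finite_subfield_injOn (N : Submodule L (L ⊗[K] Ω[K⁄k₀])) (hN : N.FG) :
    ∃ k : IntermediateField k₀ K, (∀ y : K, y ^ p ∈ k) ∧ Module.Finite k K ∧
      ∀ ω ∈ N, ((KaehlerDifferential.map k₀ k K K).restrictScalars K).baseChange L ω = 0 →
        ω = 0 := by
  classical
  let P := pField k₀ K p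
  have hE : ∀ y : K, y ^ p ∈ Set.range (algebraMap P K) :=
    fun y => ⟨⟨y ^ p, IntermediateField.subset_adjoin _ _ ⟨y, rfl⟩⟩, rfl⟩
  obtain ⟨T, -, hT, hgen⟩ := exists_pfreeSet_adjoin_eq_top p hE (pfreeSet_empty (E := P) p)
  have hspanK := span_D_eq_top_of_adjoin_pField p hgen
  have hliK : LinearIndependent K (fun t : T => D k₀ K (t : K)) :=
    linearIndependent_D_of_pfree (k := k₀) (E := P) p hE hT
  have hliL : LinearIndependent L (fun t : T => (1 : L) ⊗ₜ[K] D k₀ K (t : K)) :=
    Module.Flat.linearIndependent_one_tmul hliK
  have hspanL : Submodule.span L (Set.range fun t : T => (1 : L) ⊗ₜ[K] D k₀ K (t : K)) = ⊤ := by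
    have h1 := Submodule.baseChange_span (R := K) (A := L)
      (Set.range fun t : T => D k₀ K (t : K))
    rw [hspanK, Submodule.baseChange_top] at h1
    rw [h1, ← Set.range_comp]
    rfl
  let b : Module.Basis T L (L ⊗[K] Ω[K⁄k₀]) := Module.Basis.mk hliL hspanL.ge
  have hb : ∀ t, b t = (1 : L) ⊗ₜ[K] D k₀ K (t : K) := fun t => by
    simp only [b, Module.Basis.mk_apply]
  obtain ⟨G, hG⟩ := hN
  let S : Finset T := G.biUnion fun g => (b.repr g).support
  have hsupp : ∀ ω ∈ N, (b.repr ω).support ⊆ S := by
    intro ω hω
    rw [← hG] at hω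
    induction hω using Submodule.span_induction with
    | mem g hg => exact Finset.subset_biUnion_of_mem (fun g => (b.repr g).support) hg
    | zero => simp
    | add x y _ _ hx hy =>
      rw [map_add]; exact Finsupp.support_add.trans (Finset.union_subset hx hy)
    | smul a x _ hx => rw [map_smul]; exact Finsupp.support_smul.trans hx
  let S' : Set K := (fun t : T => (t : K)) '' (S : Set T)
  let k : IntermediateField k₀ K := P ⊔ IntermediateField.adjoin k₀ (T \ S')
  have hPk : P ≤ k := le_sup_left
  have hpow : ∀ y : K, y ^ p ∈ k := fun y => hPk (IntermediateField.subset_adjoin _ _ ⟨y, rfl⟩)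
  refine ⟨k, hpow, ?_, ?_⟩
  · -- finiteness
    haveI : Finite S' := (S.finite_toSet.image _).to_subtype
    have hint : ∀ x ∈ S', IsIntegral k x := by
      intro x _
      refine IsIntegral.of_pow (Fact.out : p.Prime).pos ?_
      exact (isIntegral_algebraMap (R := k) (A := K) (x := ⟨x ^ p, hpow x⟩))
    haveI := IntermediateField.finiteDimensional_adjoin (K := k) hint
    have htop : IntermediateField.adjoin k S' = ⊤ := by
      rw [eq_top_iff]
      intro y hy'
      have hy : y ∈ Algebra.adjoin P T := by rw [hgen]; trivial
      clear hy'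
      induction hy using Algebra.adjoin_induction with
      | mem t ht =>
        by_cases hts : t ∈ S'
        · exact IntermediateField.subset_adjoin _ _ hts
        · have : t ∈ k := (le_sup_right : _ ≤ k)
            (IntermediateField.subset_adjoin _ _ ⟨ht, hts⟩)
          exact (IntermediateField.adjoin k S').algebraMap_mem ⟨t, this⟩
      | algebraMap r => exact (IntermediateField.adjoin k S').algebraMap_mem ⟨r.1, hPk r.2⟩
      | add a c _ _ ha hc => exact add_mem ha hc
      | mul a c _ _ ha hc => exact mul_mem ha hc
    rw [htop] at this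
    exact Module.Finite.equiv (IntermediateField.topEquiv (F := k) (E := K)).toLinearEquiv
  · intro ω hω h0
    have hd : ∀ t : S, ∃ d : Derivation k K K, d ((t : T) : K) = 1 ∧
        ∀ t' : S, t' ≠ t → d ((t' : T) : K) = 0 := by
      intro t
      obtain ⟨d, hd1, hd2⟩ := exists_derivation_of_pfreeSet p hE hT hgen (t : T).2
      have h0 : ∀ r : k₀, d (algebraMap k₀ K r) = 0 := fun r => by
        rw [IsScalarTower.algebraMap_apply k₀ P K, Derivation.map_algebraMap]
      have hconst : k ≤ constFieldOf d h0 := by
        refine sup_le ?_ ?_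
        · intro a ha
          exact Derivation.map_algebraMap d (⟨a, ha⟩ : P)
        · rw [IntermediateField.adjoin_le_iff]
          rintro a ⟨haT, haS⟩
          refine hd2 a haT ?_
          rintro rfl
          exact haS ⟨(t : T), t.2, rfl⟩
      refine ⟨derivationOfConst d k (fun a ha => hconst ha), hd1, fun t' hne => ?_⟩
      refine hd2 _ (t' : T).2 ?_
      intro h
      exact hne (Subtype.ext (Subtype.ext h))
    choose d hd1 hd2 using hd
    have hliS : LinearIndependent K (fun t : S => D k K ((t : T) : K)) := by
      rw [linearIndependent_iff']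
      intro s g hsum t ht
      have := congrArg (d t).liftKaehlerDifferential hsum
      simp only [map_sum, map_smul, Derivation.liftKaehlerDifferential_comp_D, map_zero] at this
      rw [Finset.sum_eq_single t] at this
      · simpa [hd1] using this
      · intro t' _ hne; rw [hd2 t t' hne, smul_zero]
      · intro h; exact absurd ht h
    have hliSL : LinearIndependent L (fun t : S => (1 : L) ⊗ₜ[K] D k K ((t : T) : K)) :=
      Module.Flat.linearIndependent_one_tmul hliS
    have hωsum : ∃ c : T → L, ω = ∑ t ∈ S, c t • ((1 : L) ⊗ₜ[K] D k₀ K (t : K)) := by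
      refine ⟨fun t => b.repr ω t, ?_⟩
      conv_lhs => rw [← b.linearCombination_repr ω, Finsupp.linearCombination_apply]
      rw [Finsupp.sum_of_support_subset (b.repr ω) (hsupp ω hω) (fun i a => a • b i)
        (fun t _ => zero_smul _ _)]
      exact Finset.sum_congr rfl fun t _ => by rw [hb]
    obtain ⟨c, hc⟩ := hωsum
    have h1 : ((KaehlerDifferential.map k₀ k K K).restrictScalars K).baseChange L
        (∑ t ∈ S, c t • ((1 : L) ⊗ₜ[K] D k₀ K (t : K))) =
          ∑ t ∈ S, c t • ((1 : L) ⊗ₜ[K] D k K (t : K)) := by
      rw [map_sum]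
      refine Finset.sum_congr rfl fun t _ => ?_
      rw [map_smul, LinearMap.baseChange_tmul, LinearMap.restrictScalars_apply,
        KaehlerDifferential.map_D]
      rfl
    rw [hc, h1] at h0
    have h0' : ∑ t : S, c (t : T) • ((1 : L) ⊗ₜ[K] D k K ((t : T) : K)) = 0 := by
      rw [← h0]
      exact Finset.sum_coe_sort S (fun t => c t • ((1 : L) ⊗ₜ[K] D k K (t : K)))
    have hc0 := Fintype.linearIndependent_iff.1 hliSL (fun t => c t) h0'
    rw [hc]
    exact Finset.sum_eq_zero fun t ht => by rw [hc0 ⟨t, ht⟩, zero_smul]

end Main4549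

end Groth.Agent.Lib.Helper7.PPow
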