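import Mathlib
import Groth.Prelude.Def_EGA41
import Groth.Agent.Lib.Helper7Admissible2

set_option autoImplicit false
set_option linter.style.haveILetI false
set_option linter.unusedSectionVars false
open TensorProduct KaehlerDifferential
universe u v w

namespace Groth.Agent.Lib.Helper7.PPow

section C0

variable {k₀ K : Type u} [Field k₀] [Field K] [Algebra k₀ K] (p : ℕ) [Fact p.Prime] [CharP K p]
  {ι : Type*} [Preorder ι] [IsDirected ι (· ≤ ·)] [Nonempty ι]
  (k : ι → IntermediateField k₀ K)

/-- a finite family `p`-free over `k₀(K^p) = ⋂ k_i(K^p)` has linearly independent differentials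
over some `k_i` -/
theorem exists_index_linearIndependent_D (hk : Antitone k)
    (ha : (⨅ i, k i ⊔ pField k₀ K p) = pField k₀ K p)
    {σ : Type*} [Finite σ] (x : σ → K) (hfreeP : PFree (pField k₀ K p) p x) :
    ∃ i, LinearIndependent K (fun t : σ => D (k i) K (x t)) := by
  classical
  let P := pField k₀ K p
  let J := {e : σ →₀ ℕ // ∀ i, e i < p}
  haveI : Finite J := Finite.of_injective
    (fun e : J => fun i : σ => (⟨e.1 i, e.2 i⟩ : Fin p)) (by
      intro e e' h
      apply Subtype.ext
      ext i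
      exact congrArg Fin.val (congrFun h i))
  haveI : Fintype J := Fintype.ofFinite J
  let v : J → K := fun e => e.1.prod fun i n => x i ^ n
  have hliP : LinearIndependent P v := (pfree_iff_linearIndependent p x).1 hfreeP
  have hQ : Antitone (fun i => k i ⊔ P) := fun i j hij => sup_le_sup_right (hk hij) P
  have h1 : IndepIn ((⨅ i, k i ⊔ P : IntermediateField k₀ K) : Set K) v Finset.univ := by
    rw [ha]
    exact (linearIndependent_iff_indepIn P v).1 hliP
  obtain ⟨i, hi⟩ := exists_indepIn_of_iInf (fun i => k i ⊔ P) hQ v Finset.univ h1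
  let Qi : IntermediateField k₀ K := k i ⊔ P
  have hliQ : LinearIndependent Qi v := (linearIndependent_iff_indepIn Qi v).2 hi
  have hfreeQ : PFree Qi p x := (pfree_iff_linearIndependent p x).2 hliQ
  letI : Algebra (k i) Qi :=
    (IntermediateField.inclusion (le_sup_left : k i ≤ Qi)).toRingHom.toAlgebra
  haveI : IsScalarTower (k i) Qi K := IsScalarTower.of_algebraMap_eq fun _ => rfl
  have hEQ : ∀ y : K, y ^ p ∈ Set.range (algebraMap Qi K) :=
    fun y => ⟨⟨y ^ p, (le_sup_right : P ≤ Qi) (IntermediateField.subset_adjoin _ _ ⟨y, rfl⟩)⟩,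
      rfl⟩
  exact ⟨i, linearIndependent_D_of_pfree (k := k i) (E := Qi) p hEQ hfreeQ⟩

end C0

section C1

variable {k₀ K L : Type u} [Field k₀] [Field K] [Field L]
  [Algebra k₀ K] [Algebra K L] [Algebra k₀ L] [IsScalarTower k₀ K L]
  (p : ℕ) [Fact p.Prime] [CharP K p]

/-- A finitely generated submodule of `L ⊗_K Ω_{K/k₀}` is supported on a finite part `S` of a
`p`-basis; any subfield over which `S` stays differentially independent is admissible for it. -/
theorem exists_finset_pbasis_injOn (N : Submodule L (L ⊗[K] Ω[K⁄k₀])) (hN : N.FG) :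
    ∃ (T : Set K) (_ : PFreeSet (pField k₀ K p) p T) (S : Finset T),
      ∀ F : IntermediateField k₀ K, LinearIndependent K (fun t : S => D F K ((t : T) : K)) →
        ∀ ω ∈ N, ((KaehlerDifferential.map k₀ F K K).restrictScalars K).baseChange L ω = 0 →
          ω = 0 := by
  classical
  let P := pField k₀ K p
  have hE : ∀ y : K, y ^ p ∈ Set.range (algebraMap P K) :=
    fun y => ⟨⟨y ^ p, IntermediateField.subset_adjoin _ _ ⟨y, rfl⟩⟩, rfl⟩
  obtain ⟨T, -, hT, hgen⟩ := exists_pfreeSet_adjoin_eq_top p hE (pfreeSet_empty (E := P) p)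
  have hspanK := span_D_eq_top_of_adjoin_pField p hgen
  have hliK : LinearIndependent K (fun t : T => D k₀ K (t : K)) :=
    linearIndependent_D_of_pfree (k := k₀) (E := P) p hE hT
  have hliL : LinearIndependent L (fun t : T => (1 : L) ⊗ₜ[K] D k₀ K (t : K)) :=
    Module.Flat.linearIndependent_one_tmul hliK
  have hspanL : Submodule.span L (Set.range fun t : T => (1 : L) ⊗ₜ[K] D k₀ K (t : K)) = ⊤ := by
    have h1 := Submodule.baseChange_span (R := K) (A := L)
      (Set.range fun t : T => D k₀ K (t : K))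
    rw [hspanK, Submodule.baseChange_top] at h1
    rw [h1, ← Set.range_comp]
    rfl
  let b : Module.Basis T L (L ⊗[K] Ω[K⁄k₀]) := Module.Basis.mk hliL hspanL.ge
  have hb : ∀ t, b t = (1 : L) ⊗ₜ[K] D k₀ K (t : K) := fun t => by
    simp only [b, Module.Basis.mk_apply]
  obtain ⟨G, hG⟩ := hN
  let S : Finset T := G.biUnion fun g => (b.repr g).support
  have hsupp : ∀ ω ∈ N, (b.repr ω).support ⊆ S := by
    intro ω hω
    rw [← hG] at hω
    induction hω using Submodule.span_induction with
    | mem g hg => exact Finset.subset_biUnion_of_mem (fun g => (b.repr g).support) hg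
    | zero => simp
    | add x y _ _ hx hy =>
      rw [map_add]; exact Finsupp.support_add.trans (Finset.union_subset hx hy)
    | smul a x _ hx => rw [map_smul]; exact Finsupp.support_smul.trans hx
  refine ⟨T, hT, S, ?_⟩
  intro F hliS ω hω h0
  have hliSL : LinearIndependent L (fun t : S => (1 : L) ⊗ₜ[K] D F K ((t : T) : K)) :=
    Module.Flat.linearIndependent_one_tmul hliS
  have hωsum : ∃ c : T → L, ω = ∑ t ∈ S, c t • ((1 : L) ⊗ₜ[K] D k₀ K (t : K)) := by
    refine ⟨fun t => b.repr ω t, ?_⟩
    conv_lhs => rw [← b.linearCombination_repr ω, Finsupp.linearCombination_apply]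
    rw [Finsupp.sum_of_support_subset (b.repr ω) (hsupp ω hω) (fun i a => a • b i)
      (fun t _ => zero_smul _ _)]
    exact Finset.sum_congr rfl fun t _ => by rw [hb]
  obtain ⟨c, hc⟩ := hωsum
  have h1 : ((KaehlerDifferential.map k₀ F K K).restrictScalars K).baseChange L
      (∑ t ∈ S, c t • ((1 : L) ⊗ₜ[K] D k₀ K (t : K))) =
        ∑ t ∈ S, c t • ((1 : L) ⊗ₜ[K] D F K (t : K)) := by
    rw [map_sum]
    refine Finset.sum_congr rfl fun t _ => ?_
    rw [map_smul, LinearMap.baseChange_tmul, LinearMap.restrictScalars_apply,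
      KaehlerDifferential.map_D]
    rfl
  rw [hc, h1] at h0
  have h0' : ∑ t : S, c (t : T) • ((1 : L) ⊗ₜ[K] D F K ((t : T) : K)) = 0 := by
    rw [← h0]
    exact Finset.sum_coe_sort S (fun t => c t • ((1 : L) ⊗ₜ[K] D F K (t : K)))
  have hc0 := Fintype.linearIndependent_iff.1 hliSL (fun t => c t) h0'
  rw [hc]
  exact Finset.sum_eq_zero fun t ht => by rw [hc0 ⟨t, ht⟩, zero_smul]

variable {ι : Type*} [Preorder ι] [IsDirected ι (· ≤ ·)] [Nonempty ι]
  (k : ι → IntermediateField k₀ K)

/-- (a) ⇒ (b): under `⋂ k_i(K^p) = k₀(K^p)`, every finitely generated submodule of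
`L ⊗_K Ω_{K/k₀}` embeds into `L ⊗_K Ω_{K/k_i}` for some `i`. -/
theorem exists_index_injOn (hk : Antitone k)
    (ha : (⨅ i, k i ⊔ pField k₀ K p) = pField k₀ K p)
    (N : Submodule L (L ⊗[K] Ω[K⁄k₀])) (hN : N.FG) :
    ∃ i, ∀ ω ∈ N,
      ((KaehlerDifferential.map k₀ (k i) K K).restrictScalars K).baseChange L ω = 0 → ω = 0 := by
  obtain ⟨T, hT, S, hS⟩ := exists_finset_pbasis_injOn (L := L) p N hN
  have hfreeP : PFree (pField k₀ K p) p (fun t : S => ((t : T) : K)) :=
    PFree.comp_injective p hT (f := fun t : S => (t : T)) Subtype.val_injective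
  obtain ⟨i, hi⟩ := exists_index_linearIndependent_D p k hk ha _ hfreeP
  exact ⟨i, hS (k i) hi⟩

end C1

end Groth.Agent.Lib.Helper7.PPow
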