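import Mathlib
import Groth.Prelude.Def_EGA41
import Groth.Agent.Lib.Helper7Admissible3
import Groth.Agent.Lib.Helper7Cartier

set_option autoImplicit false
set_option linter.style.haveILetI false
set_option linter.unusedSectionVars false
open TensorProduct KaehlerDifferential Polynomial
universe u v w

namespace Groth.Agent.Lib.Helper7.PPow

section BtoA

variable {k₀ K : Type u} [Field k₀] [Field K] [Algebra k₀ K] (p : ℕ) [Fact p.Prime] [CharP K p]
  {ι : Type*} (k : ι → IntermediateField k₀ K)

/-- (b) ⇒ (a): test against `L = K(y^{1/p})`. -/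
theorem iInf_sup_pField_le_of_forall_ext
    (hb : ∀ (L : Type u) [Field L] [Algebra K L] [Algebra k₀ L] [IsScalarTower k₀ K L],
        Module.Finite L (EGA41.imperfection k₀ K L) →
          ∃ i, ∀ ω ∈ EGA41.imperfection k₀ K L,
            ((KaehlerDifferential.map k₀ (k i) K K).restrictScalars K).baseChange L ω = 0 →
              ω = 0) :
    (⨅ i, k i ⊔ pField k₀ K p) ≤ pField k₀ K p := by
  intro y hy
  by_contra hyP
  have hyp : ∀ b : K, b ^ p ≠ y := fun b hb =>
    hyP (hb ▸ IntermediateField.subset_adjoin _ _ ⟨b, rfl⟩)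
  have hirr : Irreducible (X ^ p - C y : K[X]) :=
    X_pow_sub_C_irreducible_of_prime (Fact.out) hyp
  haveI : Fact (Irreducible (X ^ p - C y : K[X])) := ⟨hirr⟩
  let L := AdjoinRoot (X ^ p - C y : K[X])
  let z : L := AdjoinRoot.root _
  have hz : z ^ p = algebraMap K L y := by
    have := AdjoinRoot.eval₂_root (X ^ p - C y : K[X])
    simp only [eval₂_sub, eval₂_pow, eval₂_X, eval₂_C, sub_eq_zero] at this
    exact this
  haveI : CharP L p := charP_of_injective_algebraMap (algebraMap K L).injective p
  have hsurj : Function.Surjective (MvPolynomial.aeval (R := K) (fun _ : Unit => z)) := by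
    have h2 : Algebra.adjoin K (Set.range fun _ : Unit => z) = ⊤ := by
      rw [Set.range_const]; exact AdjoinRoot.adjoinRoot_eq_top
    rw [Algebra.adjoin_range_eq_range_aeval] at h2
    intro w
    have : w ∈ (MvPolynomial.aeval (R := K) fun _ : Unit => z).range := by rw [h2]; trivial
    exact this
  obtain ⟨hfin, _⟩ :=
    Groth.Agent.Lib.Helper7.ExalLib.simple_imperfection_bounds (k := k₀) (K := K) z hsurj
  obtain ⟨i, hi⟩ := hb L hfin
  have hω : (1 : L) ⊗ₜ[K] D k₀ K y ∈ EGA41.imperfection k₀ K L := by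
    rw [EGA41.imperfection, LinearMap.mem_ker, KaehlerDifferential.mapBaseChange_tmul, one_smul,
      KaehlerDifferential.map_D, ← hz]
    exact D_pow_char_eq_zero p z
  have hy' : y ∈ ((⨅ i, k i ⊔ pField k₀ K p : IntermediateField k₀ K) : Set K) := hy
  rw [IntermediateField.coe_iInf, Set.mem_iInter] at hy'
  have h0 : ((KaehlerDifferential.map k₀ (k i) K K).restrictScalars K).baseChange L
      ((1 : L) ⊗ₜ[K] D k₀ K y) = 0 := by
    rw [LinearMap.baseChange_tmul, LinearMap.restrictScalars_apply, KaehlerDifferential.map_D]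
    change (1 : L) ⊗ₜ[K] D (k i) K y = 0
    rw [D_eq_zero_of_mem_sup p (k i) (hy' i), TensorProduct.tmul_zero]
  have h1 := hi _ hω h0
  have h2 : D k₀ K y = 0 := by
    have hinj : Function.Injective (TensorProduct.mk K L (Ω[K⁄k₀]) 1) :=
      Module.Flat.tensorProduct_mk_injective (R := K) (S := L) (M := Ω[K⁄k₀])
    apply hinj
    rw [map_zero]
    exact h1
  exact hyP (mem_pField_of_D_eq_zero p h2)

end BtoA

end Groth.Agent.Lib.Helper7.PPow
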