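import Mathlib
import Groth.Prelude.Def_EGA41
import Groth.Agent.Lib.Helper7Admissible3
import Groth.Agent.Lib.Helper7Imperf2

set_option autoImplicit false
set_option linter.style.haveILetI false
set_option linter.unusedSectionVars false
open TensorProduct KaehlerDifferential
universe u v w

namespace Groth.Agent.Lib.Helper7.PPow

open Groth.Agent.Lib.Helper7.ExalLib

section Ascent

variable {k₀ K L : Type u} [Field k₀] [Field K] [Field L]
  [Algebra k₀ K] [Algebra K L] [Algebra k₀ L] [IsScalarTower k₀ K L]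

/-- elements of `Ω_{L/k₀}` dying in `Ω_{L/F'}` (`F'` the image in `L` of a subfield `F` of `K`)
come from `ker (L ⊗ Ω_{K/k₀} → L ⊗ Ω_{K/F})`. -/
lemma exists_mem_ker_of_map_eq_zero (F : IntermediateField k₀ K) {ω : Ω[L⁄k₀]}
    (hω : KaehlerDifferential.map k₀ (F.map (IsScalarTower.toAlgHom k₀ K L)) L L ω = 0) :
    ∃ θ : L ⊗[K] Ω[K⁄k₀], bcPhi k₀ F K L θ = 0 ∧
      KaehlerDifferential.mapBaseChange k₀ K L θ = ω := by
  set F' := F.map (IsScalarTower.toAlgHom k₀ K L) with hF'
  have hex := KaehlerDifferential.exact_mapBaseChange_map k₀ F' L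
  obtain ⟨τ, rfl⟩ := (hex ω).1 hω
  clear hω
  induction τ using TensorProduct.induction_on with
  | zero => exact ⟨0, map_zero _, by rw [map_zero, map_zero]⟩
  | add a b ha hb =>
    obtain ⟨θa, h1, h2⟩ := ha
    obtain ⟨θb, h3, h4⟩ := hb
    exact ⟨θa + θb, by rw [map_add, h1, h3, add_zero], by rw [map_add, map_add, h2, h4]⟩
  | tmul c m =>
    have hm : m ∈ Submodule.span F' (Set.range (D k₀ F')) := by
      rw [KaehlerDifferential.span_range_derivation]; trivial
    induction hm using Submodule.span_induction generalizing c with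
    | mem x hx =>
      obtain ⟨a', rfl⟩ := hx
      obtain ⟨a, ha, haa'⟩ := (IntermediateField.mem_map F).1 a'.2
      refine ⟨c ⊗ₜ D k₀ K a, ?_, ?_⟩
      · have h0 : D F K a = 0 := Derivation.map_algebraMap (D F K) (⟨a, ha⟩ : F)
        rw [bcPhi_tmul_D, h0, TensorProduct.tmul_zero]
      · rw [KaehlerDifferential.mapBaseChange_tmul, KaehlerDifferential.mapBaseChange_tmul,
          KaehlerDifferential.map_D, KaehlerDifferential.map_D]
        congr 2
    | zero => exact ⟨0, map_zero _, by rw [TensorProduct.tmul_zero, map_zero, map_zero]⟩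
    | add x y _ _ hx hy =>
      obtain ⟨θa, h1, h2⟩ := hx c
      obtain ⟨θb, h3, h4⟩ := hy c
      exact ⟨θa + θb, by rw [map_add, h1, h3, add_zero],
        by rw [TensorProduct.tmul_add, map_add, map_add, h2, h4]⟩
    | smul r x _ hx =>
      obtain ⟨θa, h1, h2⟩ := hx (r • c)
      refine ⟨θa, h1, ?_⟩
      rw [h2, TensorProduct.tmul_smul, TensorProduct.smul_tmul']

lemma ker_bcPhi_antitone {F F' : IntermediateField k₀ K} (h : F ≤ F') :
    LinearMap.ker (bcPhi k₀ F K L) ≤ LinearMap.ker (bcPhi k₀ F' K L) := by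
  rw [ker_bcPhi_eq_span, Submodule.span_le]
  rintro _ ⟨y, rfl⟩
  have h0 : D F' K (algebraMap F K y) = 0 :=
    Derivation.map_algebraMap (D F' K) (⟨(y : K), h y.2⟩ : F')
  rw [SetLike.mem_coe, LinearMap.mem_ker, bcPhi_tmul_D, h0, TensorProduct.tmul_zero]

variable (p : ℕ) [Fact p.Prime] [CharP K p] [CharP L p]
  {ι : Type*} [Preorder ι] [IsDirected ι (· ≤ ·)] [Nonempty ι]
  (k : ι → IntermediateField k₀ K)

/-- EGA 0_IV 21.8.?: the condition `⋂ k_α(K^p) = k₀(K^p)` ascends to extensions `L` of `K`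
with `Υ_{L/K/k₀}` of finite rank. -/
theorem iInf_sup_pField_eq_of_finite (hk : Antitone k)
    (ha : (⨅ i, k i ⊔ pField k₀ K p) = pField k₀ K p)
    [Module.Finite L (EGA41.imperfection k₀ K L)] :
    (⨅ i, (k i).map (IsScalarTower.toAlgHom k₀ K L) ⊔ pField k₀ L p) = pField k₀ L p := by
  have hk' : Antitone (fun i => (k i).map (IsScalarTower.toAlgHom k₀ K L)) :=
    fun i j hij => IntermediateField.map_mono _ (hk hij)
  refine (iInf_sup_pField_eq_iff p (fun i => (k i).map (IsScalarTower.toAlgHom k₀ K L)) hk').2 ?_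
  intro ω hω
  -- preimages
  have hθ : ∀ i, ∃ θ : L ⊗[K] Ω[K⁄k₀], bcPhi k₀ (k i) K L θ = 0 ∧
      KaehlerDifferential.mapBaseChange k₀ K L θ = ω :=
    fun i => exists_mem_ker_of_map_eq_zero (k i) (hω i)
  choose θ hθ1 hθ2 using hθ
  -- admissible index for Υ
  obtain ⟨i₀, hi₀⟩ := exists_index_injOn (L := L) p k hk ha
    (EGA41.imperfection k₀ K L) (Module.Finite.iff_fg.1 inferInstance)
  have hconst : ∀ i, i₀ ≤ i → θ i = θ i₀ := by
    intro i hi
    have hmem : θ i - θ i₀ ∈ EGA41.imperfection k₀ K L := by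
      rw [EGA41.imperfection, LinearMap.mem_ker, map_sub, hθ2, hθ2, sub_self]
    have h1 : bcPhi k₀ (k i₀) K L (θ i) = 0 :=
      ker_bcPhi_antitone (hk hi) (LinearMap.mem_ker.2 (hθ1 i))
    have h2 : bcPhi k₀ (k i₀) K L (θ i - θ i₀) = 0 := by
      rw [map_sub, h1, hθ1, sub_zero]
    exact sub_eq_zero.1 (hi₀ _ hmem h2)
  have hall : ∀ i, bcPhi k₀ (k i) K L (θ i₀) = 0 := by
    intro i
    obtain ⟨j, hj1, hj2⟩ := exists_ge_ge i₀ i
    have h1 : bcPhi k₀ (k j) K L (θ i₀) = 0 := by rw [← hconst j hj1]; exact hθ1 j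
    exact ker_bcPhi_antitone (hk hj2) (LinearMap.mem_ker.2 h1)
  -- θ i₀ = 0
  obtain ⟨j, hj⟩ := exists_index_injOn (L := L) p k hk ha
    (Submodule.span L {θ i₀}) (Submodule.fg_span_singleton _)
  have h0 : θ i₀ = 0 := hj _ (Submodule.mem_span_singleton_self _) (hall j)
  rw [← hθ2 i₀, h0, map_zero]

end Ascent

end Groth.Agent.Lib.Helper7.PPow
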