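import Mathlib
import Groth.Prelude.Def_GrMap
import Groth.Agent.Lib.Helper24AssocGr

/-!
# Isomorphic associated graded rings from a common filtered source (helper7)

If `φ₁ : P → R₁`, `φ₂ : P → R₂` are filtered ring homs which are surjective on graded pieces and
have the same "initial kernels", then `gr R₁ ≃+* gr R₂` compatibly with the maps from `gr P`.
-/

set_option autoImplicit false
universe u v

namespace Groth.Agent.Lib.Helper7.CdJGr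

open AssocGr Polynomial

variable {P : Type v} {R₁ R₂ : Type u} [CommRing P] [CommRing R₁] [CommRing R₂]
  {φ₁ : P →+* R₁} {φ₂ : P →+* R₂} {𝓟 : FiltBl.IdealFiltration P}
  {𝓕₁ : FiltBl.IdealFiltration R₁} {𝓕₂ : FiltBl.IdealFiltration R₂}

theorem exists_preimage_gr (h₁ : IsFiltHom φ₁ 𝓟 𝓕₁)
    (hs₁ : ∀ n, ∀ b ∈ 𝓕₁.F n, ∃ a ∈ 𝓟.F n, b - φ₁ a ∈ 𝓕₁.F (n + 1))
    (n : ℕ) (x : GrRing 𝓕₁) (hx : x ∈ gr 𝓕₁ n) :
    ∃ y : GrRing 𝓟, y ∈ gr 𝓟 n ∧ AssocGr.map h₁ y = x := by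
  obtain ⟨b, hb⟩ := inDeg_surjective 𝓕₁ n ⟨x, hx⟩
  obtain ⟨a, ha, hab⟩ := hs₁ n b.1 b.2
  refine ⟨(inDeg 𝓟 n ⟨a, ha⟩ : GrRing 𝓟), (inDeg 𝓟 n ⟨a, ha⟩).2, ?_⟩
  rw [map_inDeg]
  have h1 : inDeg 𝓕₁ n (b - ⟨φ₁ a, h₁.apply_mem ha⟩) = 0 := by
    rw [inDeg_eq_zero_iff]
    exact hab
  rw [map_sub, sub_eq_zero] at h1
  rw [← h1, hb]

theorem exists_grEquiv (h₁ : IsFiltHom φ₁ 𝓟 𝓕₁) (h₂ : IsFiltHom φ₂ 𝓟 𝓕₂)
    (hs₁ : ∀ n, ∀ b ∈ 𝓕₁.F n, ∃ a ∈ 𝓟.F n, b - φ₁ a ∈ 𝓕₁.F (n + 1))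
    (hs₂ : ∀ n, ∀ b ∈ 𝓕₂.F n, ∃ a ∈ 𝓟.F n, b - φ₂ a ∈ 𝓕₂.F (n + 1))
    (hker : ∀ n, ∀ a ∈ 𝓟.F n, (φ₁ a ∈ 𝓕₁.F (n + 1) ↔ φ₂ a ∈ 𝓕₂.F (n + 1))) :
    ∃ e : GrRing 𝓕₁ ≃+* GrRing 𝓕₂, (∀ x, e (AssocGr.map h₁ x) = AssocGr.map h₂ x) ∧
      (∀ n x, x ∈ gr 𝓕₁ n → e x ∈ gr 𝓕₂ n) := by
  have surj₁ := Groth.Agent.Lib.Helper24AssocGr.map_surjective h₁ hs₁
  have surj₂ := Groth.Agent.Lib.Helper24AssocGr.map_surjective h₂ hs₂
  have hK : RingHom.ker (AssocGr.map h₁) = RingHom.ker (AssocGr.map h₂) := by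
    ext x
    obtain ⟨f, rfl⟩ := mkG_surjective 𝓟 x
    rw [RingHom.mem_ker, RingHom.mem_ker, map_mkG, map_mkG, mkG_eq_zero_iff, mkG_eq_zero_iff,
      mem_succIdeal_iff, mem_succIdeal_iff]
    refine forall_congr' fun n => ?_
    rw [coe_reesMap, coe_reesMap, coeff_map, coeff_map]
    exact hker n _ (f.2 n)
  let e : GrRing 𝓕₁ ≃+* GrRing 𝓕₂ :=
    (RingHom.quotientKerEquivOfSurjective surj₁).symm.trans
      ((Ideal.quotEquivOfEq hK).trans (RingHom.quotientKerEquivOfSurjective surj₂))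
  have he : ∀ x, e (AssocGr.map h₁ x) = AssocGr.map h₂ x := by
    intro x
    have h1 : (RingHom.quotientKerEquivOfSurjective surj₁).symm (AssocGr.map h₁ x) =
        Ideal.Quotient.mk _ x := by
      rw [RingEquiv.symm_apply_eq]
      rfl
    change (RingHom.quotientKerEquivOfSurjective surj₂)
      (Ideal.quotEquivOfEq hK ((RingHom.quotientKerEquivOfSurjective surj₁).symm
        (AssocGr.map h₁ x))) = _
    rw [h1, Ideal.quotEquivOfEq_mk]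
    rfl
  refine ⟨e, he, ?_⟩
  intro n x hx
  obtain ⟨y, hy, rfl⟩ := exists_preimage_gr h₁ hs₁ n x hx
  rw [he]
  exact map_mem_gr h₂ hy

/-- graded surjectivity from surjectivity modulo the ideal, for adic filtrations -/
theorem exists_sub_mem_pow_succ {P : Type v} {R : Type u} [CommRing P] [CommRing R]
    (φ : P →+* R) (mP : Ideal P) (m : Ideal R) (hm : mP.map φ = m)
    (hres : ∀ r : R, ∃ p : P, r - φ p ∈ m) (n : ℕ) :
    ∀ b ∈ m ^ n, ∃ a ∈ mP ^ n, b - φ a ∈ m ^ (n + 1) := by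
  intro b hb
  have hb' : b ∈ (mP ^ n).map φ := by rw [Ideal.map_pow, hm]; exact hb
  have hmem : ∀ y ∈ (mP ^ n).map φ, y ∈ m ^ n := by
    intro y hy
    rw [Ideal.map_pow, hm] at hy; exact hy
  refine Submodule.span_induction (p := fun b _ => ∃ a ∈ mP ^ n, b - φ a ∈ m ^ (n + 1))
    ?_ ?_ ?_ ?_ hb'
  · rintro _ ⟨a, ha, rfl⟩
    exact ⟨a, ha, by rw [sub_self]; exact Ideal.zero_mem _⟩
  · exact ⟨0, Ideal.zero_mem _, by rw [map_zero, sub_zero]; exact Ideal.zero_mem _⟩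
  · rintro x y _ _ ⟨a, ha, hxa⟩ ⟨a', ha', hya⟩
    refine ⟨a + a', Ideal.add_mem _ ha ha', ?_⟩
    have : x + y - φ (a + a') = (x - φ a) + (y - φ a') := by rw [map_add]; ring
    rw [this]
    exact Ideal.add_mem _ hxa hya
  · rintro r x hx ⟨a, ha, hxa⟩
    obtain ⟨q, hq⟩ := hres r
    refine ⟨q * a, Ideal.mul_mem_left _ _ ha, ?_⟩
    have h1 : r • x - φ (q * a) = φ q * (x - φ a) + (r - φ q) * x := by
      rw [map_mul, smul_eq_mul]; ring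
    rw [h1]
    refine Ideal.add_mem _ (Ideal.mul_mem_left _ _ hxa) ?_
    have h2 : (r - φ q) * x ∈ m * m ^ n := Ideal.mul_mem_mul hq (hmem x hx)
    rw [← pow_succ'] at h2
    exact h2

/-- surjectivity modulo all powers -/
theorem exists_sub_mem_pow {P : Type v} {R : Type u} [CommRing P] [CommRing R]
    (φ : P →+* R) (mP : Ideal P) (m : Ideal R) (hm : mP.map φ = m)
    (hres : ∀ r : R, ∃ p : P, r - φ p ∈ m) (n : ℕ) :
    ∀ r : R, ∃ p : P, r - φ p ∈ m ^ n := by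
  induction n with
  | zero => intro r; exact ⟨0, by rw [pow_zero, Ideal.one_eq_top]; trivial⟩
  | succ n ih =>
    intro r
    obtain ⟨p, hp⟩ := ih r
    obtain ⟨a, _, hab⟩ := exists_sub_mem_pow_succ φ mP m hm hres n _ hp
    refine ⟨p + a, ?_⟩
    have : r - φ (p + a) = r - φ p - φ a := by rw [map_add]; ring
    rw [this]
    exact hab

end Groth.Agent.Lib.Helper7.CdJGr
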