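import Mathlib
import Groth.Agent.Lib.Helper5LocalFlat3

/-!
# A local homomorphism agreeing modulo `m^2` with an isomorphism of completions (helper7)

`main`: let `RY, RX, RU` be Noetherian local rings, `ε : RX → RU` a flat local homomorphism with
`m_X RU = m_U` and trivial residue field extension (e.g. the stalk map of an elementary étale
neighbourhood), `φ : RY^ ≃ RX^` an isomorphism of completions, and `α : RY → RU` a local
homomorphism which agrees with `ε ∘ φ` modulo `m_U^2`. Then `α` is flat, `m_Y RU = m_U` and the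
residue field extension of `α` is trivial.
-/

set_option autoImplicit false
set_option linter.style.haveILetI false
universe u

namespace Groth.Agent.Lib.Helper7.CommonNbhd

open IsLocalRing TensorProduct

section Endo

theorem injective_of_surjective_endo {A : Type*} [CommRing A] [IsNoetherianRing A]
    (f : A →+* A) (hf : Function.Surjective f) : Function.Injective f := by
  let K : ℕ →o Ideal A :=
    ⟨fun n => RingHom.ker (f ^ n), fun m n hmn a ha => by
      rw [RingHom.mem_ker] at ha ⊢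
      obtain ⟨k, rfl⟩ := Nat.exists_eq_add_of_le hmn
      rw [add_comm, pow_add, RingHom.mul_def, RingHom.comp_apply, ha, map_zero]⟩
  obtain ⟨n, hn⟩ := monotone_stabilizes_iff_noetherian.mpr (inferInstance : IsNoetherian A A) K
  rw [injective_iff_map_eq_zero]
  intro a ha
  have hs : Function.Surjective (f ^ n) := by
    rw [RingHom.coe_pow]; exact hf.iterate n
  obtain ⟨b, rfl⟩ := hs a
  have hb : b ∈ K (n + 1) := by
    change (f ^ (n + 1)) b = 0
    rw [pow_succ', RingHom.mul_def, RingHom.comp_apply]; exact ha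
  rw [← hn (n + 1) (Nat.le_succ n)] at hb
  exact hb

theorem injective_of_surjective_of_ringEquiv {A B : Type*} [CommRing A] [CommRing B]
    [IsNoetherianRing A] (e : A ≃+* B) (f : A →+* B) (hf : Function.Surjective f) :
    Function.Injective f := by
  have h := injective_of_surjective_endo ((e.symm : B →+* A).comp f)
    (e.symm.surjective.comp hf)
  exact Function.Injective.of_comp (f := e.symm) h

end Endo

section LocalHom
variable {A B : Type*} [CommRing A] [CommRing B] [IsLocalRing A] [IsLocalRing B] (g : A →+* B)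

theorem exists_sub_mem_pow (hmax : (maximalIdeal A).map g = maximalIdeal B)
    (hres : ∀ r : B, ∃ c : A, r - g c ∈ maximalIdeal B) (n : ℕ) (r : B) :
    ∃ c : A, r - g c ∈ maximalIdeal B ^ n := by
  induction n generalizing r with
  | zero => exact ⟨0, by simp⟩
  | succ n ih =>
    obtain ⟨c, hc⟩ := ih r
    have hpow : maximalIdeal B ^ n = (maximalIdeal A ^ n).map g := by rw [Ideal.map_pow, hmax]
    have key : ∀ z ∈ (maximalIdeal A ^ n).map g,
        ∃ c' : A, z - g c' ∈ maximalIdeal B ^ (n + 1) := by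
      intro z hz
      refine Submodule.span_induction
        (p := fun z _ => ∃ c' : A, z - g c' ∈ maximalIdeal B ^ (n + 1)) ?_ ?_ ?_ ?_ hz
      · rintro _ ⟨a, ha, rfl⟩; exact ⟨a, by simp⟩
      · exact ⟨0, by simp⟩
      · rintro x y _ _ ⟨c1, h1⟩ ⟨c2, h2⟩
        refine ⟨c1 + c2, ?_⟩
        have e : x + y - g (c1 + c2) = (x - g c1) + (y - g c2) := by rw [map_add]; ring
        rw [e]; exact Ideal.add_mem _ h1 h2
      · rintro s x hx ⟨c1, h1⟩
        obtain ⟨c2, h2⟩ := hres s
        refine ⟨c2 * c1, ?_⟩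
        have hx' : x ∈ maximalIdeal B ^ n := by rw [hpow]; exact hx
        have e : s • x - g (c2 * c1) = (s - g c2) * x + g c2 * (x - g c1) := by
          rw [map_mul, smul_eq_mul]; ring
        rw [e]
        refine Ideal.add_mem _ ?_ (Ideal.mul_mem_left _ _ h1)
        rw [pow_succ']
        exact Ideal.mul_mem_mul h2 hx'
    obtain ⟨c', hc'⟩ := key _ (hpow ▸ hc)
    refine ⟨c + c', ?_⟩
    have e : r - g (c + c') = r - g c - g c' := by rw [map_add]; ring
    rw [e]; exact hc'

theorem mem_pow_of_map_mem_pow (hflat : g.Flat) [IsLocalHom g]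
    (hmax : (maximalIdeal A).map g = maximalIdeal B) (n : ℕ) (c : A)
    (h : g c ∈ maximalIdeal B ^ n) : c ∈ maximalIdeal A ^ n := by
  letI := g.toAlgebra
  haveI : Module.Flat A B := hflat
  haveI : IsLocalHom (algebraMap A B) := ‹IsLocalHom g›
  haveI := Module.FaithfullyFlat.of_flat_of_isLocalHom (A := A) (B := B)
  have h1 := Ideal.comap_map_eq_self_of_faithfullyFlat (B := B) (maximalIdeal A ^ n)
  rw [← h1, Ideal.mem_comap, Ideal.map_pow]
  change g c ∈ (Ideal.map g (maximalIdeal A)) ^ n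
  rwa [hmax]

theorem mem_pow_maximalIdeal_iff_of_ringEquiv (φ : A ≃+* B) (n : ℕ) (z : A) :
    φ z ∈ maximalIdeal B ^ n ↔ z ∈ maximalIdeal A ^ n := by
  have h1 : (maximalIdeal A).map (φ : A →+* B) = maximalIdeal B := by
    apply le_antisymm
    · rw [Ideal.map_le_iff_le_comap]
      intro a ha
      rw [Ideal.mem_comap, mem_maximalIdeal, mem_nonunits_iff] at *
      intro hu
      exact ha ((isUnit_map_iff φ a).mp hu)
    · intro b hb
      have hb' : b = φ (φ.symm b) := (φ.apply_symm_apply b).symm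
      rw [hb']
      apply Ideal.mem_map_of_mem
      rw [mem_maximalIdeal, mem_nonunits_iff] at *
      intro hu
      exact hb (by rw [hb']; exact hu.map φ)
  have h2 : (maximalIdeal A ^ n).map (φ : A →+* B) = maximalIdeal B ^ n := by
    rw [Ideal.map_pow, h1]
  rw [← h2]
  constructor
  · intro h
    obtain ⟨x, hx, hxz⟩ := (Ideal.mem_map_of_equiv φ _).mp h
    rwa [← φ.injective hxz]
  · intro h
    exact Ideal.mem_map_of_mem _ h

end LocalHom

section Aux

/-- local criterion of flatness, adic form with `IB ≤ rad B` (wrapper around helper5). -/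
theorem flat_of_flat_quotient_pow {A B : Type u} [CommRing A] [CommRing B]
    [Algebra A B] [IsNoetherianRing A] [IsNoetherianRing B] (I : Ideal A)
    (hjac : I.map (algebraMap A B) ≤ (⊥ : Ideal B).jacobson)
    (h : ∀ n : ℕ, 0 < n → Module.Flat (A ⧸ I ^ n) ((A ⧸ I ^ n) ⊗[A] B)) :
    Module.Flat A B := by
  rw [Module.Flat.iff_lTensor_injective']
  intro J
  rw [injective_iff_map_eq_zero]
  intro z hz
  obtain ⟨⟨r, hr⟩, hrz⟩ :=
    Groth.Agent.Lib.Helper5.exists_smul_eq_self_of_lTensor_eq_zero (B := B) B I h J z hz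
  have hu : IsUnit (1 - r) := by
    have := (Ideal.mem_jacobson_bot.mp (hjac hr)) (-1)
    have e : r * -1 + 1 = 1 - r := by ring
    rwa [e] at this
  have h0 : (1 - r) • z = 0 := by
    have e1 : ((1 - r) + r) • z = (1 - r) • z + r • z := add_smul _ _ _
    have hrz' : r • z = z := hrz
    rw [sub_add_cancel, one_smul, hrz'] at e1
    exact right_eq_add.mp e1
  obtain ⟨u, hu'⟩ := hu
  have h1 : ((u⁻¹ : Bˣ) : B) • ((u : B) • z) = z := by
    rw [smul_smul, Units.inv_mul, one_smul]
  rw [← h1, hu', h0, smul_zero]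

theorem ker_evalₐ {R : Type u} [CommRing R] (K : Ideal R) (hK : K.FG) (k : ℕ) :
    RingHom.ker (AdicCompletion.evalₐ K k).toRingHom =
      (K.map (algebraMap R (AdicCompletion K R))) ^ k := by
  ext x
  trans x ∈ LinearMap.ker (AdicCompletion.eval K R k)
  · have eq : K ^ k * ⊤ = K ^ k := Ideal.mul_top _
    have hinj : Function.Injective (Ideal.Quotient.factor (le_of_eq eq)) := by
      rw [RingHom.injective_iff_ker_eq_bot, Ideal.Quotient.factor_ker]
      exact Ideal.map_mk_eq_bot_of_le (le_of_eq eq.symm)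
    rw [RingHom.mem_ker, LinearMap.mem_ker]
    change AdicCompletion.evalₐ K k x = 0 ↔ _
    rw [← AdicCompletion.factor_eval_eq_evalₐ K x (le_of_eq eq)]
    exact map_eq_zero_iff _ hinj
  · rw [← AdicCompletion.pow_smul_top_eq_ker_eval hK, ← Ideal.map_pow, Ideal.smul_top_eq_map,
      Submodule.restrictScalars_mem]

theorem evalₐ_eq_zero_iff (R : Type u) [CommRing R] [IsLocalRing R] [IsNoetherianRing R]
    (n : ℕ) (z : AdicCompletion (maximalIdeal R) R) :
    AdicCompletion.evalₐ (maximalIdeal R) n z = 0 ↔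
      z ∈ maximalIdeal (AdicCompletion (maximalIdeal R) R) ^ n := by
  rw [AdicCompletion.maximalIdeal_eq_map,
    ← ker_evalₐ _ (maximalIdeal R).fg_of_isNoetherianRing n]
  rfl

end Aux

section Main
variable {RY RX RU : Type u} [CommRing RY] [CommRing RX] [CommRing RU]
  [IsLocalRing RY] [IsLocalRing RX] [IsLocalRing RU]
  [IsNoetherianRing RY] [IsNoetherianRing RX] [IsNoetherianRing RU]

/-- completion of a local ring at its maximal ideal -/
abbrev Cpl (R : Type u) [CommRing R] [IsLocalRing R] : Type u :=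
  AdicCompletion (maximalIdeal R) R

theorem evalₐ_iff (φ : Cpl RY ≃+* Cpl RX) (n : ℕ) (z : Cpl RY) :
    AdicCompletion.evalₐ (maximalIdeal RX) n (φ z) = 0 ↔
      AdicCompletion.evalₐ (maximalIdeal RY) n z = 0 := by
  rw [evalₐ_eq_zero_iff, evalₐ_eq_zero_iff, mem_pow_maximalIdeal_iff_of_ringEquiv]

theorem exists_lift (φ : Cpl RY ≃+* Cpl RX) (n : ℕ) (c : RX) :
    ∃ b : RY, AdicCompletion.evalₐ (maximalIdeal RX) n (φ (algebraMap RY (Cpl RY) b)) =
      Ideal.Quotient.mk _ c := by
  obtain ⟨b, hb⟩ := Ideal.Quotient.mk_surjective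
    (AdicCompletion.evalₐ (maximalIdeal RY) n (φ.symm (algebraMap RX (Cpl RX) c)))
  refine ⟨b, ?_⟩
  have h0 : AdicCompletion.evalₐ (maximalIdeal RY) n
      (φ.symm (algebraMap RX (Cpl RX) c) - algebraMap RY (Cpl RY) b) = 0 := by
    rw [map_sub, sub_eq_zero, ← hb]
    exact (AdicCompletion.evalₐ_of _ _ b).symm
  rw [← evalₐ_iff φ, map_sub, φ.apply_symm_apply, map_sub, sub_eq_zero] at h0
  rw [← h0]
  exact AdicCompletion.evalₐ_of _ _ c

theorem main (α : RY →+* RU) (ε : RX →+* RU) [IsLocalHom α] [IsLocalHom ε]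
    (hεflat : ε.Flat) (hεmax : (maximalIdeal RX).map ε = maximalIdeal RU)
    (hεres : ∀ r : RU, ∃ c : RX, r - ε c ∈ maximalIdeal RU)
    (φ : Cpl RY ≃+* Cpl RX)
    (happ : ∀ (b : RY) (c : RX),
      AdicCompletion.evalₐ (maximalIdeal RX) 2 (φ (algebraMap RY (Cpl RY) b)) =
        Ideal.Quotient.mk (maximalIdeal RX ^ 2) c → α b - ε c ∈ maximalIdeal RU ^ 2) :
    α.Flat ∧ (maximalIdeal RY).map α = maximalIdeal RU ∧
      ∀ r : RU, ∃ b : RY, r - α b ∈ maximalIdeal RU := by
  have hεloc : ∀ c ∈ maximalIdeal RX, ε c ∈ maximalIdeal RU := fun c hc => by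
    rw [← hεmax]; exact Ideal.mem_map_of_mem _ hc
  have hsq : maximalIdeal RU ^ 2 ≤ maximalIdeal RU := Ideal.pow_le_self two_ne_zero
  have hlift : ∀ c : RX, ∃ b : RY, α b - ε c ∈ maximalIdeal RU ^ 2 := fun c => by
    obtain ⟨b, hb⟩ := exists_lift φ 2 c
    exact ⟨b, happ b c hb⟩
  have hmemY : ∀ b : RY, α b ∈ maximalIdeal RU → b ∈ maximalIdeal RY := fun b hb => by
    rw [mem_maximalIdeal, mem_nonunits_iff] at hb ⊢
    exact fun hu => hb (hu.map α)
  -- (3)
  have h3 : ∀ r : RU, ∃ b : RY, r - α b ∈ maximalIdeal RU := fun r => by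
    obtain ⟨c, hc⟩ := hεres r
    obtain ⟨b, hb⟩ := hlift c
    refine ⟨b, ?_⟩
    have e : r - α b = (r - ε c) - (α b - ε c) := by ring
    rw [e]; exact Ideal.sub_mem _ hc (hsq hb)
  -- (2)
  have h2 : (maximalIdeal RY).map α = maximalIdeal RU := by
    apply le_antisymm
    · exact ((local_hom_TFAE α).out 0 2).mp ‹_›
    · have hle : (maximalIdeal RX).map ε ≤
          (maximalIdeal RY).map α ⊔ maximalIdeal RU • maximalIdeal RU := by
        rw [Ideal.map_le_iff_le_comap]
        intro c hc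
        rw [Ideal.mem_comap]
        obtain ⟨b, hb⟩ := hlift c
        have hb' : b ∈ maximalIdeal RY := hmemY b (by
          have e : α b = (α b - ε c) + ε c := by ring
          rw [e]; exact Ideal.add_mem _ (hsq hb) (hεloc c hc))
        have e : ε c = α b - (α b - ε c) := by ring
        rw [e]
        refine Ideal.sub_mem _ (Ideal.mem_sup_left (Ideal.mem_map_of_mem _ hb'))
          (Ideal.mem_sup_right ?_)
        rwa [smul_eq_mul, ← pow_two]
      rw [hεmax] at hle
      exact Submodule.le_of_le_smul_of_le_jacobson_bot (IsNoetherian.noetherian _)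
        (by rw [jacobson_eq_maximalIdeal ⊥ bot_ne_top]) hle
  refine ⟨?_, h2, h3⟩
  -- (1)
  have hpowα : ∀ n, (maximalIdeal RY ^ n).map α = maximalIdeal RU ^ n := fun n => by
    rw [Ideal.map_pow, h2]
  have hpowε : ∀ n, (maximalIdeal RX ^ n).map ε = maximalIdeal RU ^ n := fun n => by
    rw [Ideal.map_pow, hεmax]
  -- injectivity modulo powers
  have KEY : ∀ (n : ℕ) (a : RY), α a ∈ maximalIdeal RU ^ n → a ∈ maximalIdeal RY ^ n := by
    intro n a ha
    have hα : maximalIdeal RY ^ n ≤ (maximalIdeal RU ^ n).comap α := by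
      rw [← Ideal.map_le_iff_le_comap, hpowα]
    have hε : maximalIdeal RX ^ n ≤ (maximalIdeal RU ^ n).comap ε := by
      rw [← Ideal.map_le_iff_le_comap, hpowε]
    let αn : (RY ⧸ maximalIdeal RY ^ n) →+* (RU ⧸ maximalIdeal RU ^ n) :=
      Ideal.quotientMap _ α hα
    let εn : (RX ⧸ maximalIdeal RX ^ n) →+* (RU ⧸ maximalIdeal RU ^ n) :=
      Ideal.quotientMap _ ε hε
    let Φ0 : RY →+* (RX ⧸ maximalIdeal RX ^ n) :=
      (AdicCompletion.evalₐ (maximalIdeal RX) n).toRingHom.comp
        ((φ : Cpl RY →+* Cpl RX).comp (algebraMap RY (Cpl RY)))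
    have hΦ0 : ∀ b : RY, Φ0 b = 0 ↔ b ∈ maximalIdeal RY ^ n := by
      intro b
      change AdicCompletion.evalₐ (maximalIdeal RX) n (φ (algebraMap RY (Cpl RY) b)) = 0 ↔ _
      rw [evalₐ_iff φ]
      change AdicCompletion.evalₐ (maximalIdeal RY) n (AdicCompletion.of _ _ b) = 0 ↔ _
      rw [AdicCompletion.evalₐ_of, Ideal.Quotient.eq_zero_iff_mem]
    let Φn : (RY ⧸ maximalIdeal RY ^ n) →+* (RX ⧸ maximalIdeal RX ^ n) :=
      Ideal.Quotient.lift _ Φ0 (fun b hb => (hΦ0 b).mpr hb)
    have hΦn : Function.Bijective Φn := by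
      constructor
      · rw [injective_iff_map_eq_zero]
        intro x hx
        obtain ⟨b, rfl⟩ := Ideal.Quotient.mk_surjective x
        rw [Ideal.Quotient.lift_mk] at hx
        exact Ideal.Quotient.eq_zero_iff_mem.mpr ((hΦ0 b).mp hx)
      · intro y
        obtain ⟨c, rfl⟩ := Ideal.Quotient.mk_surjective y
        obtain ⟨b, hb⟩ := exists_lift φ n c
        exact ⟨Ideal.Quotient.mk _ b, by rw [Ideal.Quotient.lift_mk]; exact hb⟩
    have hεn : Function.Bijective εn := by
      constructor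
      · rw [injective_iff_map_eq_zero]
        intro x hx
        obtain ⟨c, rfl⟩ := Ideal.Quotient.mk_surjective x
        rw [Ideal.quotientMap_mk, Ideal.Quotient.eq_zero_iff_mem] at hx
        exact Ideal.Quotient.eq_zero_iff_mem.mpr
          (mem_pow_of_map_mem_pow ε hεflat hεmax n c hx)
      · intro y
        obtain ⟨r, rfl⟩ := Ideal.Quotient.mk_surjective y
        obtain ⟨c, hc⟩ := exists_sub_mem_pow ε hεmax hεres n r
        refine ⟨Ideal.Quotient.mk _ c, ?_⟩
        rw [Ideal.quotientMap_mk]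
        exact (Ideal.Quotient.eq.mpr hc).symm
    have hαn : Function.Surjective αn := by
      intro y
      obtain ⟨r, rfl⟩ := Ideal.Quotient.mk_surjective y
      obtain ⟨c, hc⟩ := exists_sub_mem_pow α h2 h3 n r
      refine ⟨Ideal.Quotient.mk _ c, ?_⟩
      rw [Ideal.quotientMap_mk]
      exact (Ideal.Quotient.eq.mpr hc).symm
    have hinj := injective_of_surjective_of_ringEquiv
      (RingEquiv.ofBijective (εn.comp Φn) (hεn.comp hΦn)) αn hαn
    have h0 : αn (Ideal.Quotient.mk (maximalIdeal RY ^ n) a) = αn 0 := by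
      rw [Ideal.quotientMap_mk, map_zero]
      exact Ideal.Quotient.eq_zero_iff_mem.mpr ha
    exact Ideal.Quotient.eq_zero_iff_mem.mp (hinj h0)
  letI := α.toAlgebra
  change Module.Flat RY RU
  apply flat_of_flat_quotient_pow (maximalIdeal RY)
  · change (maximalIdeal RY).map α ≤ _
    rw [h2, jacobson_eq_maximalIdeal ⊥ bot_ne_top]
  · intro n _
    let L : (RY ⧸ maximalIdeal RY ^ n) →ₗ[RY ⧸ maximalIdeal RY ^ n]
        (RY ⧸ maximalIdeal RY ^ n) ⊗[RY] RU :=
      LinearMap.toSpanSingleton _ _ (1 ⊗ₜ 1)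
    have hLmk : ∀ a : RY, L (Ideal.Quotient.mk _ a) = (Ideal.Quotient.mk _ a) ⊗ₜ[RY] (1 : RU) := by
      intro a
      change (Ideal.Quotient.mk (maximalIdeal RY ^ n) a) • ((1 : RY ⧸ maximalIdeal RY ^ n) ⊗ₜ[RY] (1 : RU)) = _
      rw [TensorProduct.smul_tmul', smul_eq_mul, mul_one]
    let Q := TensorProduct.quotTensorEquivQuotSMul RU (maximalIdeal RY ^ n)
    have hQL : ∀ a : RY, Q (L (Ideal.Quotient.mk _ a)) = Submodule.Quotient.mk (α a) := by
      intro a
      rw [hLmk, TensorProduct.quotTensorEquivQuotSMul_mk_tmul]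
      congr 1
      rw [Algebra.smul_def, mul_one]; rfl
    have hmem : ∀ z : RU, z ∈ (maximalIdeal RY ^ n • ⊤ : Submodule RY RU) ↔
        z ∈ maximalIdeal RU ^ n := by
      intro z
      rw [Ideal.smul_top_eq_map, Submodule.restrictScalars_mem, ← hpowα n]
      rfl
    have hL : Function.Bijective L := by
      constructor
      · intro x y hxy
        obtain ⟨a, rfl⟩ := Ideal.Quotient.mk_surjective x
        obtain ⟨b, rfl⟩ := Ideal.Quotient.mk_surjective y
        have h1 := congrArg Q hxy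
        rw [hQL, hQL, Submodule.Quotient.eq, hmem, ← map_sub] at h1
        exact Ideal.Quotient.eq.mpr (KEY n _ h1)
      · intro t
        obtain ⟨r, hr⟩ := Submodule.Quotient.mk_surjective _ (Q t)
        obtain ⟨c, hc⟩ := exists_sub_mem_pow α h2 h3 n r
        refine ⟨Ideal.Quotient.mk _ c, Q.injective ?_⟩
        rw [hQL, ← hr, Submodule.Quotient.eq, hmem]
        have e : α c - r = -(r - α c) := by ring
        rw [e]; exact Ideal.neg_mem_iff _ |>.mpr hc
    exact Module.Flat.of_linearEquiv (LinearEquiv.ofBijective L hL).symm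

end Main

end Groth.Agent.Lib.Helper7.CommonNbhd
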