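import Mathlib
import Groth.Agent.Lib.Helper7EtaleSection
import Groth.Agent.Lib.Helper18SecD

/-!
# Strict étale neighbourhoods carrying a section of a smooth algebra (helper7)

`D` smooth over `C`, `σ : D →ₐ[C] C ⧸ J`.  Then there are an étale `C`-algebra `C'`, a lift
`τ : D →ₐ[C] C'` and `ψ : C' →ₐ[C] C ⧸ J` with `ψ ∘ τ = σ` and `ker ψ = J C'`
(so `C ⧸ J ≃ C' ⧸ J C'`).
-/

set_option autoImplicit false
set_option linter.style.haveILetI false
universe u

namespace Groth.Agent.Lib.Helper7.EtaleNbhd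

open TensorProduct

/-- Shrinking an étale algebra with a section over `V(J)` to a strict étale neighbourhood. -/
theorem exists_away_ker_eq {C C₁ : Type u} [CommRing C] [CommRing C₁] [Algebra C C₁]
    [Algebra.Etale C C₁] (J : Ideal C) (ψ₁ : C₁ →ₐ[C] C ⧸ J) :
    ∃ g₁ : C₁, ψ₁ g₁ = 1 ∧ ∀ x, ψ₁ x = 0 → x * g₁ ∈ J.map (algebraMap C C₁) := by
  let T := (C ⧸ J) ⊗[C] C₁
  let sbar : T →ₐ[C ⧸ J] C ⧸ J :=
    Algebra.TensorProduct.lift (AlgHom.id (C ⧸ J) (C ⧸ J)) ψ₁ (fun _ _ => Commute.all _ _)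
  obtain ⟨e, he, hker⟩ := Groth.Agent.Helper18Sec.exists_idempotent sbar
  have hse : sbar e = 0 := by
    have : e ∈ RingHom.ker sbar := by rw [hker]; exact Ideal.subset_span rfl
    exact this
  -- `C₁ → T` is surjective
  have hsurj : Function.Surjective (fun x : C₁ => (1 : C ⧸ J) ⊗ₜ[C] x) := by
    intro t
    induction t using TensorProduct.induction_on with
    | zero => exact ⟨0, by simp⟩
    | tmul a x =>
      obtain ⟨c, rfl⟩ := Ideal.Quotient.mk_surjective a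
      refine ⟨c • x, ?_⟩
      change (1 : C ⧸ J) ⊗ₜ[C] (c • x) = (Ideal.Quotient.mk J c) ⊗ₜ[C] x
      rw [TensorProduct.tmul_smul, TensorProduct.smul_tmul']
      congr 1
      rw [Algebra.smul_def, mul_one]
      rfl
    | add a b ha hb =>
      obtain ⟨x, hx⟩ := ha
      obtain ⟨y, hy⟩ := hb
      exact ⟨x + y, by simp only [TensorProduct.tmul_add]; rw [← hx, ← hy]⟩
  obtain ⟨g₁, hg₁⟩ := hsurj (1 - e)
  have hg₁' : (1 : C ⧸ J) ⊗ₜ[C] g₁ = 1 - e := hg₁
  have hsb : ∀ x : C₁, sbar ((1 : C ⧸ J) ⊗ₜ[C] x) = ψ₁ x := by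
    intro x
    change Algebra.TensorProduct.lift (AlgHom.id (C ⧸ J) (C ⧸ J)) ψ₁ _ ((1 : C ⧸ J) ⊗ₜ[C] x) = _
    rw [Algebra.TensorProduct.lift_tmul, map_one, one_mul]
  refine ⟨g₁, ?_, ?_⟩
  · rw [← hsb, hg₁', map_sub, map_one, hse, sub_zero]
  · intro x hx
    have h1 : (1 : C ⧸ J) ⊗ₜ[C] x ∈ RingHom.ker sbar := by
      rw [RingHom.mem_ker, hsb, hx]
    rw [hker, Ideal.mem_span_singleton'] at h1
    obtain ⟨a, ha⟩ := h1
    have h2 : (1 : C ⧸ J) ⊗ₜ[C] (x * g₁) = 0 := by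
      have : (1 : C ⧸ J) ⊗ₜ[C] (x * g₁) = ((1 : C ⧸ J) ⊗ₜ[C] x) * ((1 : C ⧸ J) ⊗ₜ[C] g₁) := by
        rw [Algebra.TensorProduct.tmul_mul_tmul, one_mul]
      rw [this, hg₁', ← ha, mul_assoc, mul_sub, mul_one, he.eq, sub_self, mul_zero]
    have h3 := congrArg (TensorProduct.quotTensorEquivQuotSMul C₁ J) h2
    rw [TensorProduct.quotTensorEquivQuotSMul_mk_one_tmul, map_zero,
      Submodule.Quotient.mk_eq_zero, Ideal.smul_top_eq_map] at h3
    exact h3

/-- **Strict étale neighbourhoods**: a section over `V(J)` of a smooth `C`-algebra `D` lifts to a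
section over an étale `C`-algebra `C'` with `C ⧸ J ≃ C' ⧸ J C'`. -/
theorem exists_etale_nbhd {C D : Type u} [CommRing C] [CommRing D] [Algebra C D]
    [Algebra.Smooth C D] (J : Ideal C) (σ : D →ₐ[C] C ⧸ J) :
    ∃ (C' : Type u) (_ : CommRing C') (_ : Algebra C C') (_ : Algebra.Etale C C')
      (τ : D →ₐ[C] C') (ψ : C' →ₐ[C] C ⧸ J), ψ.comp τ = σ ∧
        RingHom.ker ψ = J.map (algebraMap C C') := by
  obtain ⟨C₁, _, _, _, τ₁, ψ₁, h₁⟩ :=
    Groth.Agent.Lib.Helper7.EtaleSection.exists_etale_section J σ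
  obtain ⟨g₁, hg₁, hker⟩ := exists_away_ker_eq J ψ₁
  let C' := Localization.Away g₁
  haveI : Algebra.Etale C₁ C' := Algebra.Etale.of_isLocalizationAway g₁
  haveI : Algebra.Etale C C' := Algebra.Etale.comp C C₁ C'
  let ψ : C' →ₐ[C] C ⧸ J := IsLocalization.liftAlgHom (M := Submonoid.powers g₁) (f := ψ₁) (by
    rintro ⟨_, k, rfl⟩
    rw [map_pow, hg₁, one_pow]
    exact isUnit_one)
  have hψ : ∀ x : C₁, ψ (algebraMap C₁ C' x) = ψ₁ x := fun x =>
    IsLocalization.lift_eq _ x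
  refine ⟨C', inferInstance, inferInstance, inferInstance,
    (IsScalarTower.toAlgHom C C₁ C').comp τ₁, ψ, ?_, ?_⟩
  · ext d
    have := congr($h₁ d)
    simp only [AlgHom.comp_apply] at this ⊢
    rw [← this]
    exact hψ _
  · apply le_antisymm
    · intro y hy
      rw [RingHom.mem_ker] at hy
      obtain ⟨x, s, rfl⟩ := IsLocalization.exists_mk'_eq (Submonoid.powers g₁) y
      obtain ⟨k, hk⟩ := s.2
      have hx : ψ₁ x = 0 := by
        have h2 : ψ (IsLocalization.mk' C' x s * algebraMap C₁ C' (s : C₁)) = ψ₁ x := by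
          rw [IsLocalization.mk'_spec, hψ]
        rw [map_mul, hy, zero_mul] at h2
        exact h2.symm
      have h3 := hker x hx
      have h4 : IsLocalization.mk' C' x s ∈
          (J.map (algebraMap C C₁)).map (algebraMap C₁ C') := by
        rw [IsLocalization.mk'_mem_map_algebraMap_iff (Submonoid.powers g₁)]
        exact ⟨g₁, ⟨1, pow_one g₁⟩, by rwa [mul_comm]⟩
      rwa [Ideal.map_map, ← IsScalarTower.algebraMap_eq] at h4
    · rw [Ideal.map_le_iff_le_comap]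
      intro c hc
      rw [Ideal.mem_comap, RingHom.mem_ker, AlgHom.commutes]
      exact Ideal.Quotient.eq_zero_iff_mem.mpr hc

end Groth.Agent.Lib.Helper7.EtaleNbhd
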