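import Mathlib
import Groth.Agent.S0595
import Groth.Agent.Lib.Helper7EtaleNbhd
import Groth.Agent.Lib.Helper7CommonNbhd
import Groth.Agent.Lib.Helper7CdJGr
import Groth.Agent.Lib.Helper26HenselLift
import Groth.Agent.Lib.Helper19ComplNoeth

/-!
# Artin approximation of polynomial systems in a strict étale neighbourhood, with the map to the
completion (helper7)
-/

set_option autoImplicit false
set_option linter.style.haveILetI false
universe u

namespace Groth.Agent.Lib.Helper7.CdJApprox

open Groth.Agent.Lib.Helper7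

section Compl

variable {P : Type u} [CommRing P] (m : Ideal P)

/-- the ideal `m Λ` of the completion `Λ` -/
noncomputable abbrev M : Ideal (AdicCompletion m P) := m.map (algebraMap P (AdicCompletion m P))

theorem mem_M_pow_iff (hm : m.FG) (j : ℕ) (x : AdicCompletion m P) :
    x ∈ M m ^ j ↔ AdicCompletion.evalₐ m j x = 0 := by
  rw [← CommonNbhd.ker_evalₐ m hm j]
  rfl

theorem algebraMap_mem_M_pow_iff (hm : m.FG) (j : ℕ) (p : P) :
    algebraMap P (AdicCompletion m P) p ∈ M m ^ j ↔ p ∈ m ^ j := by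
  rw [mem_M_pow_iff m hm, AdicCompletion.algebraMap_apply, Algebra.algebraMap_self,
    RingHom.id_apply, AdicCompletion.evalₐ_of, Ideal.Quotient.eq_zero_iff_mem]

theorem exists_sub_mem_M_pow (hm : m.FG) (j : ℕ) (x : AdicCompletion m P) :
    ∃ p : P, x - algebraMap P (AdicCompletion m P) p ∈ M m ^ j := by
  obtain ⟨p, hp⟩ := Ideal.Quotient.mk_surjective (AdicCompletion.evalₐ m j x)
  refine ⟨p, ?_⟩
  rw [mem_M_pow_iff m hm, map_sub, AdicCompletion.algebraMap_apply, Algebra.algebraMap_self,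
    RingHom.id_apply, AdicCompletion.evalₐ_of, hp, sub_self]

end Compl

theorem exists_approx (P : Type u) [CommRing P] [IsNoetherianRing P] (m : Ideal P)
    (hreg : CAlg.IsRegularHom P (AdicCompletion m P))
    {σ τ : Type} [Fintype σ] [Fintype τ] (E : τ → MvPolynomial σ P)
    (y : σ → AdicCompletion m P) (hy : ∀ t, MvPolynomial.aeval y (E t) = 0)
    (N' : ℕ) (hN' : 1 ≤ N') :
    ∃ (B' : Type u) (_ : CommRing B') (_ : Algebra P B') (_ : Algebra.Etale P B')
      (θ : B' →ₐ[P] AdicCompletion m P) (y' : σ → B'),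
      (∀ t, MvPolynomial.aeval y' (E t) = 0) ∧
      (∀ i, θ (y' i) - y i ∈ M m ^ N') ∧
      (∀ b : B', ∃ p : P, b - algebraMap P B' p ∈ m.map (algebraMap P B')) ∧
      (∀ (j : ℕ) (x : B'), θ x ∈ M m ^ j → x ∈ (m.map (algebraMap P B')) ^ j) := by
  classical
  have hmfg : m.FG := IsNoetherian.noetherian m
  haveI : IsNoetherianRing (AdicCompletion m P) :=
    Groth.Agent.Lib.Helper19.isNoetherianRing_adicCompletion m
  -- the finitely presented algebra of the system
  let D₀ := MvPolynomial σ P ⧸ Ideal.span (Set.range E)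
  haveI : Algebra.FinitePresentation P D₀ :=
    Algebra.FinitePresentation.quotient ⟨(Finset.univ.image E), by simp⟩
  let fB : D₀ →ₐ[P] AdicCompletion m P :=
    Ideal.Quotient.liftₐ _ (MvPolynomial.aeval y) (by
      intro p hp
      have hle : Ideal.span (Set.range E) ≤ RingHom.ker (MvPolynomial.aeval y : _ →ₐ[P] _) := by
        rw [Ideal.span_le]
        rintro _ ⟨i, rfl⟩
        exact hy i
      exact hle hp)
  obtain ⟨D, _, _, hsm, g, h, hgh⟩ := Groth.Agent.S0595.result P (AdicCompletion m P) hreg D₀ fB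
  haveI := hsm
  obtain ⟨B', _, _, _, τ', ψ, hψτ, hkerψ⟩ :=
    Groth.Agent.Lib.Helper7.EtaleNbhd.exists_etale_nbhd (m ^ N')
      ((AdicCompletion.evalₐ m N').comp h)
  let mkB : MvPolynomial σ P →ₐ[P] D₀ := Ideal.Quotient.mkₐ P _
  let y' : σ → B' := fun j => τ' (g (mkB (MvPolynomial.X j)))
  have haeval : ∀ p : MvPolynomial σ P, MvPolynomial.aeval y' p = τ' (g (mkB p)) := by
    intro p
    have : (MvPolynomial.aeval y' : _ →ₐ[P] B') = (τ'.comp g).comp mkB := by
      apply MvPolynomial.algHom_ext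
      intro j
      simp [y']
    exact congr($this p)
  have hy' : ∀ t, MvPolynomial.aeval y' (E t) = 0 := by
    intro t
    rw [haeval]
    have : mkB (E t) = 0 := by
      change Ideal.Quotient.mk _ (E t) = 0
      rw [Ideal.Quotient.eq_zero_iff_mem]
      exact Ideal.subset_span ⟨t, rfl⟩
    rw [this, map_zero, map_zero]
  have hψy : ∀ j, ψ (y' j) = AdicCompletion.evalₐ m N' (y j) := by
    intro j
    have h1 : ψ (y' j) = AdicCompletion.evalₐ m N' (h (g (mkB (MvPolynomial.X j)))) :=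
      congr($hψτ (g (mkB (MvPolynomial.X j))))
    rw [h1]
    have h2 : h (g (mkB (MvPolynomial.X j))) = fB (mkB (MvPolynomial.X j)) :=
      congr($hgh (mkB (MvPolynomial.X j)))
    rw [h2]
    congr 1
    have h3 : fB (mkB (MvPolynomial.X j)) = MvPolynomial.aeval y (MvPolynomial.X j) :=
      Ideal.Quotient.liftₐ_apply _ _ _ _
    rw [h3, MvPolynomial.aeval_X]
  -- `ψ` is surjective
  have hψsurj : ∀ z : P ⧸ m ^ N', ∃ p : P, z = ψ (algebraMap P B' p) := by
    intro z
    obtain ⟨p, rfl⟩ := Ideal.Quotient.mk_surjective z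
    exact ⟨p, (ψ.commutes p).symm⟩
  -- residue surjectivity
  have hres : ∀ b : B', ∃ p : P, b - algebraMap P B' p ∈ m.map (algebraMap P B') := by
    intro b
    obtain ⟨p, hp⟩ := hψsurj (ψ b)
    refine ⟨p, ?_⟩
    have h1 : b - algebraMap P B' p ∈ RingHom.ker ψ := by
      rw [RingHom.mem_ker, map_sub, hp, sub_self]
    rw [hkerψ] at h1
    exact Ideal.map_mono (Ideal.pow_le_self (by omega)) h1
  -- the Henselian lift
  haveI : IsAdicComplete (M m) (AdicCompletion m P) := AdicCompletion.isAdicComplete_self m hmfg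
  let ρ : (P ⧸ m ^ N') →ₐ[P] (AdicCompletion m P ⧸ M m) :=
    Ideal.Quotient.liftₐ (m ^ N')
      ((Ideal.Quotient.mkₐ P (M m)).comp (Algebra.ofId P (AdicCompletion m P))) (by
        intro p hp
        rw [AlgHom.comp_apply, Ideal.Quotient.mkₐ_eq_mk, Ideal.Quotient.eq_zero_iff_mem]
        exact Ideal.mem_map_of_mem _ (Ideal.pow_le_self (by omega) hp))
  have hρmk : ∀ p : P, ρ (Ideal.Quotient.mk _ p) =
      Ideal.Quotient.mk (M m) (algebraMap P (AdicCompletion m P) p) := fun p => rfl
  obtain ⟨θ, hθ⟩ := Groth.Agent.Lib.Helper26.HenselLift.exists_algHom_lift (M m) (ρ.comp ψ)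
  -- `mk_M = ρ ∘ evalₐ`
  have hρeval : ∀ x : AdicCompletion m P,
      ρ (AdicCompletion.evalₐ m N' x) = Ideal.Quotient.mk (M m) x := by
    intro x
    obtain ⟨p, hp⟩ := exists_sub_mem_M_pow m hmfg N' x
    have h1 : AdicCompletion.evalₐ m N' x = Ideal.Quotient.mk _ p := by
      have := (mem_M_pow_iff m hmfg N' _).mp hp
      rw [map_sub, AdicCompletion.algebraMap_apply, Algebra.algebraMap_self,
        RingHom.id_apply, AdicCompletion.evalₐ_of, sub_eq_zero] at this
      exact this
    rw [h1, hρmk, eq_comm, Ideal.Quotient.eq]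
    have h2 : x - algebraMap P (AdicCompletion m P) p ∈ M m :=
      Ideal.pow_le_self (by omega) hp
    exact h2
  -- the kernel of `ρ` is nilpotent
  have hkerρ : IsNilpotent (RingHom.ker (ρ : (P ⧸ m ^ N') →+* (AdicCompletion m P ⧸ M m))) := by
    refine ⟨N', ?_⟩
    have hle : RingHom.ker (ρ : (P ⧸ m ^ N') →+* (AdicCompletion m P ⧸ M m)) ≤
        m.map (Ideal.Quotient.mk (m ^ N')) := by
      intro z hz
      obtain ⟨p, rfl⟩ := Ideal.Quotient.mk_surjective z
      rw [RingHom.mem_ker] at hz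
      have hz' : ρ (Ideal.Quotient.mk _ p) = 0 := hz
      rw [hρmk, Ideal.Quotient.eq_zero_iff_mem] at hz'
      have h1 : algebraMap P (AdicCompletion m P) p ∈ M m ^ 1 := by rw [pow_one]; exact hz'
      rw [algebraMap_mem_M_pow_iff m hmfg, pow_one] at h1
      exact Ideal.mem_map_of_mem _ h1
    rw [Ideal.zero_eq_bot, eq_bot_iff]
    refine le_trans (Ideal.pow_right_mono hle N') ?_
    rw [← Ideal.map_pow, Ideal.map_quotient_self]
  -- `evalₐ ∘ θ = ψ`
  have hevalθ : ((AdicCompletion.evalₐ m N').comp θ : B' →ₐ[P] P ⧸ m ^ N') = ψ := by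
    apply Algebra.FormallyUnramified.ext' (ρ : (P ⧸ m ^ N') →+* (AdicCompletion m P ⧸ M m)) hkerρ
    intro x
    change ρ (AdicCompletion.evalₐ m N' (θ x)) = ρ (ψ x)
    rw [hρeval, hθ]
    rfl
  have hθy : ∀ i, θ (y' i) - y i ∈ M m ^ N' := by
    intro i
    rw [mem_M_pow_iff m hmfg, map_sub, sub_eq_zero, ← hψy i]
    exact congr($hevalθ (y' i))
  refine ⟨B', inferInstance, inferInstance, inferInstance, θ, y', hy', hθy, hres, ?_⟩
  intro j x hx
  obtain ⟨p, hp⟩ := CdJGr.exists_sub_mem_pow (algebraMap P B') m (m.map (algebraMap P B')) rfl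
    hres j x
  have h1 : θ (x - algebraMap P B' p) ∈ M m ^ j := by
    have hle : ((m.map (algebraMap P B')) ^ j).map (θ : B' →+* AdicCompletion m P) ≤ M m ^ j := by
      rw [Ideal.map_pow, Ideal.map_map]
      refine Ideal.pow_right_mono (le_of_eq ?_) j
      congr 1
      exact θ.comp_algebraMap
    exact hle (Ideal.mem_map_of_mem _ hp)
  have h2 : algebraMap P (AdicCompletion m P) p ∈ M m ^ j := by
    have h3 : algebraMap P (AdicCompletion m P) p = θ x - θ (x - algebraMap P B' p) := by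
      rw [map_sub, θ.commutes]; ring
    rw [h3]
    exact Ideal.sub_mem _ hx h1
  rw [algebraMap_mem_M_pow_iff m hmfg] at h2
  have h4 : x = (x - algebraMap P B' p) + algebraMap P B' p := by ring
  rw [h4]
  refine Ideal.add_mem _ hp ?_
  rw [← Ideal.map_pow]
  exact Ideal.mem_map_of_mem _ h2

end Groth.Agent.Lib.Helper7.CdJApprox
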