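import Mathlib
import Groth.Prelude.Def_GrMap
import Groth.Agent.Lib.Helper24AssocGr
import Groth.Agent.Lib.Helper7CommonNbhd
import Groth.Agent.Lib.Helper7CdJApprox
import Groth.Agent.Lib.Helper19ComplNoeth

/-!
# Ring-theoretic parts of Artin's algebraization of versal formal objects (helper7)
-/

set_option autoImplicit false
set_option linter.style.haveILetI false
universe u

namespace Groth.Agent.Lib.Helper7.ArtAlgz

open IsLocalRing Groth.Agent.Lib.Helper7 Groth.Agent.Lib.Helper7.CdJApprox AssocGr

section Quot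

variable {A : Type u} [CommRing A] (m : Ideal A) [hm : m.IsMaximal]

theorem nilradical_quot_pow (j : ℕ) (hj : j ≠ 0) :
    nilradical (A ⧸ m ^ j) = m.map (Ideal.Quotient.mk (m ^ j)) := by
  ext x
  obtain ⟨a, rfl⟩ := Ideal.Quotient.mk_surjective x
  rw [Ideal.mem_quotient_iff_mem (Ideal.pow_le_self hj), mem_nilradical]
  constructor
  · rintro ⟨n, hn⟩
    rw [← map_pow, Ideal.Quotient.eq_zero_iff_mem] at hn
    have h1 : a ∈ (m ^ j).radical := ⟨n, hn⟩
    rw [Ideal.radical_pow _ hj, hm.isPrime.radical] at h1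
    exact h1
  · intro ha
    refine ⟨j, ?_⟩
    rw [← map_pow, Ideal.Quotient.eq_zero_iff_mem]
    exact Ideal.pow_mem_pow ha j

theorem isMaximal_map_quot_pow (j : ℕ) (hj : j ≠ 0) :
    (m.map (Ideal.Quotient.mk (m ^ j))).IsMaximal :=
  Ideal.IsMaximal.map_of_surjective_of_ker_le Ideal.Quotient.mk_surjective
    (by rw [Ideal.mk_ker]; exact Ideal.pow_le_self hj)

theorem isLocalRing_quot_pow (j : ℕ) (hj : j ≠ 0) : IsLocalRing (A ⧸ m ^ j) := by
  haveI : (nilradical (A ⧸ m ^ j)).IsMaximal := by
    rw [nilradical_quot_pow m j hj]; exact isMaximal_map_quot_pow m j hj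
  exact IsLocalRing.of_isMaximal_nilradical _

theorem isArtinianRing_quot_pow [IsNoetherianRing A] (j : ℕ) (hj : j ≠ 0) :
    IsArtinianRing (A ⧸ m ^ j) := by
  haveI : (nilradical (A ⧸ m ^ j)).IsMaximal := by
    rw [nilradical_quot_pow m j hj]; exact isMaximal_map_quot_pow m j hj
  haveI : Ring.KrullDimLE 0 (A ⧸ m ^ j) := Ring.KrullDimLE.of_isMaximal_nilradical _
  exact isArtinianRing_iff_krullDimLE_zero.mpr inferInstance

theorem residue_surjective_quot_pow {k : Type*} [Field k] [Algebra k A]
    (hAk : ∀ a : A, ∃ c : k, a - algebraMap k A c ∈ m) (j : ℕ) (hj : j ≠ 0) :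
    haveI := isLocalRing_quot_pow m j hj
    Function.Surjective (fun c : k => IsLocalRing.residue (A ⧸ m ^ j)
      (algebraMap k (A ⧸ m ^ j) c)) := by
  haveI := isLocalRing_quot_pow m j hj
  intro z
  obtain ⟨b, rfl⟩ := IsLocalRing.residue_surjective z
  obtain ⟨a, rfl⟩ := Ideal.Quotient.mk_surjective b
  obtain ⟨c, hc⟩ := hAk a
  refine ⟨c, ?_⟩
  change IsLocalRing.residue (A ⧸ m ^ j) (algebraMap k (A ⧸ m ^ j) c) =
    IsLocalRing.residue (A ⧸ m ^ j) (Ideal.Quotient.mk _ a)
  rw [eq_comm, ← sub_eq_zero, ← map_sub, IsLocalRing.residue_eq_zero_iff]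
  have h1 : Ideal.Quotient.mk (m ^ j) a - algebraMap k (A ⧸ m ^ j) c =
      Ideal.Quotient.mk (m ^ j) (a - algebraMap k A c) := by
    rw [map_sub]; rfl
  rw [h1]
  have h2 : m.map (Ideal.Quotient.mk (m ^ j)) ≤ maximalIdeal (A ⧸ m ^ j) :=
    IsLocalRing.le_maximalIdeal (isMaximal_map_quot_pow m j hj).ne_top
  exact h2 (Ideal.mem_map_of_mem _ hc)

end Quot

/-- a `k`-algebra map from a local `k`-algebra to a `k`-algebra `B` sends the maximal ideal into
any proper ideal `n` with `k → B/n` surjective -/
theorem map_mem_of_mem_maximalIdeal {k R B : Type*} [Field k] [CommRing R] [IsLocalRing R]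
    [Algebra k R] [CommRing B] [Algebra k B] (ψ : R →ₐ[k] B) (n : Ideal B) (hn : n ≠ ⊤)
    (hB : ∀ b : B, ∃ c : k, b - algebraMap k B c ∈ n) (x : R) (hx : x ∈ maximalIdeal R) :
    ψ x ∈ n := by
  obtain ⟨c, hc⟩ := hB (ψ x)
  by_cases hc0 : c = 0
  · rw [hc0, map_zero, sub_zero] at hc; exact hc
  · exfalso
    have hu : IsUnit (x - algebraMap k R c) := by
      by_contra hnu
      have h1 : x - algebraMap k R c ∈ maximalIdeal R := (mem_maximalIdeal _).mpr hnu
      have h2 : algebraMap k R c ∈ maximalIdeal R := by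
        have : algebraMap k R c = x - (x - algebraMap k R c) := by ring
        rw [this]; exact Ideal.sub_mem _ hx h1
      have h3 : IsUnit (algebraMap k R c) := (IsUnit.mk0 c hc0).map (algebraMap k R)
      exact (mem_maximalIdeal _).mp h2 h3
    have h4 : IsUnit (ψ x - algebraMap k B c) := by
      have := hu.map ψ
      rwa [map_sub, ψ.commutes] at this
    exact hn (Ideal.eq_top_of_isUnit_mem _ hc h4)

section Gr

theorem rees_adic_eq {R : Type u} [CommRing R] (I : Ideal R) :
    (FiltBl.IdealFiltration.adic I).rees = reesAlgebra I := by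
  ext f
  exact Iff.rfl

theorem isNoetherianRing_grRing_adic {R : Type u} [CommRing R] [IsNoetherianRing R] (I : Ideal R) :
    IsNoetherianRing (GrRing (FiltBl.IdealFiltration.adic I)) := by
  haveI : IsNoetherianRing ↥(FiltBl.IdealFiltration.adic I).rees := by
    rw [rees_adic_eq]; infer_instance
  exact inferInstanceAs (IsNoetherianRing
    (↥(FiltBl.IdealFiltration.adic I).rees ⧸ succIdeal (FiltBl.IdealFiltration.adic I)))

/-- `gr_m A → gr_{mÂ} Â` is bijective -/
theorem bijective_map_completion {A : Type u} [CommRing A] (m : Ideal A) (hmfg : m.FG) :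
    Function.Bijective (AssocGr.map
      (IsFiltHom.adicMap (algebraMap A (AdicCompletion m A)) m)) := by
  constructor
  · apply Groth.Agent.Lib.Helper24AssocGr.map_injective
    intro n a _ ha'
    change a ∈ m ^ (n + 1)
    rw [← algebraMap_mem_M_pow_iff m hmfg]
    exact ha'
  · apply Groth.Agent.Lib.Helper24AssocGr.map_surjective
    intro n b hb
    obtain ⟨a, ha⟩ := exists_sub_mem_M_pow m hmfg (n + 1) b
    refine ⟨a, ?_, ha⟩
    change a ∈ m ^ n
    rw [← algebraMap_mem_M_pow_iff m hmfg]
    have : algebraMap A (AdicCompletion m A) a = b - (b - algebraMap A (AdicCompletion m A) a) := by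
      ring
    rw [this]
    exact Ideal.sub_mem _ hb (Ideal.pow_le_pow_right (Nat.le_succ n) ha)

end Gr

/-- the bijectivity criterion -/
theorem bijective_of_grEquiv {k : Type u} [Field k] {R A : Type u} [CommRing R] [Algebra k R]
    [IsLocalRing R] [IsNoetherianRing R] [IsAdicComplete (maximalIdeal R) R]
    [CommRing A] [Algebra k A] [IsNoetherianRing A] (m : Ideal A) [hm : m.IsMaximal]
    (hAk : ∀ a : A, ∃ c : k, a - algebraMap k A c ∈ m)
    (α₀ : R →ₐ[k] AdicCompletion m A)
    (hφ : ∀ a ∈ m, ∃ x : R, α₀ x - algebraMap A (AdicCompletion m A) a ∈ M m ^ 2)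
    (e : GrRing (FiltBl.IdealFiltration.adic (maximalIdeal R)) ≃+*
      GrRing (FiltBl.IdealFiltration.adic m)) :
    Function.Bijective α₀ := by
  have hmfg : m.FG := IsNoetherian.noetherian m
  haveI : IsNoetherianRing (AdicCompletion m A) :=
    Groth.Agent.Lib.Helper19.isNoetherianRing_adicCompletion m
  haveI : IsAdicComplete (M m) (AdicCompletion m A) := AdicCompletion.isAdicComplete_self m hmfg
  -- `M ≠ ⊤`
  have hMtop : M m ≠ ⊤ := by
    intro h
    have h1 : (1 : AdicCompletion m A) ∈ M m ^ 1 := by rw [pow_one, h]; trivial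
    have h2 : algebraMap A (AdicCompletion m A) 1 ∈ M m ^ 1 := by rwa [map_one]
    rw [algebraMap_mem_M_pow_iff m hmfg, pow_one] at h2
    exact hm.ne_top ((Ideal.eq_top_iff_one _).mpr h2)
  -- residue field of the completion
  have hÂk : ∀ z : AdicCompletion m A, ∃ c : k, z - algebraMap k (AdicCompletion m A) c ∈ M m := by
    intro z
    obtain ⟨a, ha⟩ := exists_sub_mem_M_pow m hmfg 1 z
    rw [pow_one] at ha
    obtain ⟨c, hc⟩ := hAk a
    refine ⟨c, ?_⟩
    have h1 : z - algebraMap k (AdicCompletion m A) c =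
        (z - algebraMap A (AdicCompletion m A) a) +
          algebraMap A (AdicCompletion m A) (a - algebraMap k A c) := by
      rw [map_sub]
      have : algebraMap A (AdicCompletion m A) (algebraMap k A c) =
          algebraMap k (AdicCompletion m A) c := rfl
      rw [this]; ring
    rw [h1]
    exact Ideal.add_mem _ ha (Ideal.mem_map_of_mem _ hc)
  -- (P1)
  have hP1 : ∀ x ∈ maximalIdeal R, α₀ x ∈ M m :=
    fun x hx => map_mem_of_mem_maximalIdeal α₀ (M m) hMtop hÂk x hx
  -- (P3)
  have hmap : (maximalIdeal R).map (α₀ : R →+* AdicCompletion m A) = M m := by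
    apply le_antisymm
    · rw [Ideal.map_le_iff_le_comap]
      exact fun x hx => hP1 x hx
    · apply Submodule.le_of_le_smul_of_le_jacobson_bot (I := M m) (IsNoetherian.noetherian _)
        (IsAdicComplete.le_jacobson_bot (M m))
      rw [Ideal.map_le_iff_le_comap]
      intro a ha
      rw [Ideal.mem_comap]
      obtain ⟨x, hx⟩ := hφ a ha
      have hxm : x ∈ maximalIdeal R := by
        by_contra hxu
        have hu : IsUnit x := by
          by_contra h; exact hxu ((mem_maximalIdeal _).mpr h)
        have h1 : α₀ x ∈ M m := by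
          have : α₀ x = (α₀ x - algebraMap A (AdicCompletion m A) a) +
              algebraMap A (AdicCompletion m A) a := by ring
          rw [this]
          exact Ideal.add_mem _ (Ideal.pow_le_self two_ne_zero hx) (Ideal.mem_map_of_mem _ ha)
        exact hMtop (Ideal.eq_top_of_isUnit_mem _ h1 (hu.map α₀))
      have h2 : algebraMap A (AdicCompletion m A) a =
          α₀ x - (α₀ x - algebraMap A (AdicCompletion m A) a) := by ring
      rw [h2]
      refine Submodule.sub_mem _ (Submodule.mem_sup_left (Ideal.mem_map_of_mem _ hxm))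
        (Submodule.mem_sup_right ?_)
      rw [smul_eq_mul, ← pow_two]
      exact hx
  -- (P4)
  have hsurj : Function.Surjective α₀ := by
    haveI : IsHausdorff ((maximalIdeal R).map (α₀ : R →+* AdicCompletion m A))
        (AdicCompletion m A) := by rw [hmap]; infer_instance
    apply surjective_of_mk_map_comp_surjective (I := maximalIdeal R)
      (α₀ : R →+* AdicCompletion m A)
    intro z
    obtain ⟨z, rfl⟩ := Ideal.Quotient.mk_surjective z
    obtain ⟨c, hc⟩ := hÂk z
    refine ⟨algebraMap k R c, ?_⟩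
    rw [RingHom.comp_apply, eq_comm, Ideal.Quotient.eq, hmap]
    change z - α₀ (algebraMap k R c) ∈ M m
    rw [α₀.commutes]
    exact hc
  -- graded surjectivity
  have hfilt : IsFiltHom (α₀ : R →+* AdicCompletion m A)
      (FiltBl.IdealFiltration.adic (maximalIdeal R)) (FiltBl.IdealFiltration.adic (M m)) :=
    IsFiltHom.adic (le_of_eq hmap)
  have hgrsurj : Function.Surjective (AssocGr.map hfilt) := by
    apply Groth.Agent.Lib.Helper24AssocGr.map_surjective
    intro n b hb
    have hb' : b ∈ (maximalIdeal R ^ n).map (α₀ : R →+* AdicCompletion m A) := by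
      rw [Ideal.map_pow, hmap]; exact hb
    obtain ⟨a, ha, rfl⟩ := (Ideal.mem_map_iff_of_surjective _ hsurj).mp hb'
    refine ⟨a, ha, ?_⟩
    have h0 : α₀ a - (α₀ : R →+* AdicCompletion m A) a = 0 := sub_self (α₀ a)
    rw [h0]; exact Ideal.zero_mem _
  haveI := isNoetherianRing_grRing_adic (maximalIdeal R)
  let E : GrRing (FiltBl.IdealFiltration.adic (maximalIdeal R)) ≃+*
      GrRing (FiltBl.IdealFiltration.adic (M m)) :=
    e.trans (RingEquiv.ofBijective _ (bijective_map_completion m hmfg))
  have hgrinj := CommonNbhd.injective_of_surjective_of_ringEquiv E (AssocGr.map hfilt) hgrsurj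
  have hpiece := Groth.Agent.Lib.Helper24AssocGr.piece_injective_of_map_injective hfilt hgrinj
  refine ⟨?_, hsurj⟩
  rw [injective_iff_map_eq_zero]
  intro x hx
  have hall : ∀ n, x ∈ maximalIdeal R ^ n := by
    intro n
    induction n with
    | zero => rw [pow_zero, Ideal.one_eq_top]; trivial
    | succ n ih =>
      refine hpiece n x ih ?_
      change α₀ x ∈ M m ^ (n + 1)
      rw [hx]; exact Ideal.zero_mem _
  have hH : IsHausdorff (maximalIdeal R) R := inferInstance
  apply hH.haus'
  intro n
  rw [SModEq.zero, smul_eq_mul, Ideal.mul_top]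
  exact hall n

end Groth.Agent.Lib.Helper7.ArtAlgz
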