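import Mathlib
import Groth.Agent.Lib.Helper26FPColim

/-!
# Helper7FunctorModel (helper7): elements of `F(T)` for a functor preserving filtered colimits come from
a finitely presented model

`exists_fp_model`: for `F : Under A ⥤ Type` preserving filtered colimits and `ξ ∈ F(T)`, there are a finite
polynomial system `f` over `A` with a solution `â` in `T` such that every solution `a'` of `f` in an
`A`-algebra `T'` produces `ξ' ∈ F(T')`, and `ξ'`, `ξ` have the same image in `F(Q)` whenever
`ρ : T' → Q`, `π : T → Q` satisfy `ρ (a' j) = π (â j)`.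
-/

set_option autoImplicit false
universe u
open CategoryTheory CategoryTheory.Limits

namespace Groth.Agent.Lib.Helper7.FunctorModel

open Groth.Agent.Lib.Helper26.FPColim

theorem exists_fp_model (A : Type u) [CommRing A] (T : Type u) [CommRing T] [Algebra A T]
    (F : Under (CommRingCat.of A) ⥤ Type u)
    (hF : ∀ (J : Type u) [SmallCategory J] [IsFiltered J], PreservesColimitsOfShape J F)
    (ξ : F.obj (uObj A T)) :
    ∃ (k l : ℕ) (f : Fin l → MvPolynomial (Fin k) A) (â : Fin k → T),
      (∀ i, MvPolynomial.aeval â (f i) = 0) ∧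
      ∀ (T' : Type u) [CommRing T'] [Algebra A T'] (a' : Fin k → T'),
        (∀ i, MvPolynomial.aeval a' (f i) = 0) →
        ∃ ξ' : F.obj (uObj A T'),
          ∀ (Q : Type u) [CommRing Q] [Algebra A Q] (π : T →ₐ[A] Q) (ρ : T' →ₐ[A] Q),
            (∀ j, ρ (a' j) = π (â j)) → F.map (uHom ρ) ξ' = F.map (uHom π) ξ := by
  classical
  obtain ⟨hc⟩ := isColimit_cocone A T
  haveI := hF (Idx A T)
  have hc' := isColimitOfPreserves F hc
  obtain ⟨a, ξa, hξa⟩ := Types.jointly_surjective_of_isColimit hc' ξ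
  obtain ⟨gens, hgens⟩ := a.fg
  let eg : Fin gens.card ≃ gens := gens.equivFin.symm
  let e : {x // x ∈ a.s} ≃ Fin a.s.card := a.s.equivFin
  let f : Fin gens.card → MvPolynomial (Fin a.s.card) A := fun i =>
    MvPolynomial.rename e ((eg i : gens) : Pol A T a.s)
  let â : Fin a.s.card → T := fun j => ((e.symm j : {x // x ∈ a.s}) : T)
  have hf : ∀ i, MvPolynomial.aeval â (f i) = 0 := by
    intro i
    simp only [f]
    rw [MvPolynomial.aeval_rename]
    have h1 : ((eg i : gens) : Pol A T a.s) ∈ a.J := by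
      rw [← hgens]
      exact Ideal.subset_span (eg i).2
    have h2 := a.le_ker h1
    rw [RingHom.mem_ker] at h2
    have h3 : (â ∘ e) = fun x : {x // x ∈ a.s} => (x : T) := by
      funext x
      simp [â]
    rw [h3]
    exact h2
  refine ⟨a.s.card, gens.card, f, â, hf, ?_⟩
  intro T' _ _ a' ha'
  let ψ0 : Pol A T a.s →ₐ[A] T' := MvPolynomial.aeval (fun x => a' (e x))
  have hψ0 : ∀ p ∈ a.J, ψ0 p = 0 := by
    intro p hp
    have hle : a.J ≤ RingHom.ker ψ0.toRingHom := by
      rw [← hgens, Ideal.span_le]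
      intro g hg
      rw [SetLike.mem_coe, RingHom.mem_ker]
      have h1 := ha' (eg.symm ⟨g, hg⟩)
      simp only [f, Equiv.apply_symm_apply] at h1
      rw [MvPolynomial.aeval_rename] at h1
      exact h1
    exact hle hp
  let ψ : (Pol A T a.s ⧸ a.J) →ₐ[A] T' := Ideal.Quotient.liftₐ a.J ψ0 hψ0
  have hξa' : F.map (uHom (toA a)) ξa = ξ := hξa
  refine ⟨F.map (uHom ψ) ξa, ?_⟩
  intro Q _ _ π ρ hπρ
  rw [← hξa']
  have e1 : F.map (uHom ρ) (F.map (uHom ψ) ξa) = F.map (uHom ψ ≫ uHom ρ) ξa :=
    (FunctorToTypes.map_comp_apply F _ _ ξa).symm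
  have e2 : F.map (uHom π) (F.map (uHom (toA a)) ξa) = F.map (uHom (toA a) ≫ uHom π) ξa :=
    (FunctorToTypes.map_comp_apply F _ _ ξa).symm
  have key : ρ.comp ψ = π.comp (toA a) := by
    refine Ideal.Quotient.algHom_ext _ ?_
    apply MvPolynomial.algHom_ext
    intro x
    show ρ (ψ (Ideal.Quotient.mk _ (MvPolynomial.X x))) =
      π (toA a (Ideal.Quotient.mk _ (MvPolynomial.X x)))
    have h1 : ψ (Ideal.Quotient.mk _ (MvPolynomial.X x)) = a' (e x) := by
      show ψ0 (MvPolynomial.X x) = a' (e x)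
      simp [ψ0]
    have h2 : toA a (Ideal.Quotient.mk _ (MvPolynomial.X x)) = (x : T) := by
      rw [toA_mk]
      simp [ev]
    rw [h1, h2, hπρ (e x)]
    simp [â]
  rw [e1, e2, ← uHom_comp, ← uHom_comp, key]

end Groth.Agent.Lib.Helper7.FunctorModel
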