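import Mathlib
import Groth.Agent.S0595
import Groth.Agent.Lib.Helper7FunctorModel
import Groth.Agent.Lib.Helper7EtaleSection
import Groth.Agent.Lib.Helper19ComplNoeth

/-!
# Artin approximation for functors in an étale neighbourhood (helper7)

`A` Noetherian, `I` an ideal with `A → Â_I` regular, `F` a functor on `A`-algebras commuting with
filtered colimits, `ξ ∈ F(Â)`.  Then for each `n` there is an étale `A`-algebra `A'` with an
`A`-algebra map `ψ : A' → A/I^n` and `ξ' ∈ F(A')` with the same image as `ξ` in `F(A/I^n)`.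
(Popescu + étale-local sections of smooth maps.)
-/

set_option autoImplicit false
set_option linter.style.haveILetI false
universe u

open CategoryTheory CategoryTheory.Limits

namespace Groth.Agent.Lib.Helper7.ArtinEtale

open Groth.Agent.Lib.Helper26.FPColim

theorem exists_etale_nbhd_functor (A : Type u) [CommRing A] [IsNoetherianRing A] (I : Ideal A)
    (hreg : CAlg.IsRegularHom A (AdicCompletion I A))
    (F : Under (CommRingCat.of A) ⥤ Type u)
    (hF : ∀ (J : Type u) [SmallCategory J] [IsFiltered J], PreservesColimitsOfShape J F)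
    (n : ℕ) (ξ : F.obj (uObj A (AdicCompletion I A))) :
    ∃ (A' : Type u) (_ : CommRing A') (_ : Algebra A A') (_ : Algebra.Etale A A')
      (ψ : A' →ₐ[A] A ⧸ I ^ n) (ξ' : F.obj (uObj A A')),
      F.map (uHom ψ) ξ' = F.map (uHom (AdicCompletion.evalₐ I n)) ξ := by
  classical
  haveI : IsNoetherianRing (AdicCompletion I A) :=
    Groth.Agent.Lib.Helper19.isNoetherianRing_adicCompletion I
  obtain ⟨k, l, f, â, hf, hmodel⟩ :=
    Groth.Agent.Lib.Helper7.FunctorModel.exists_fp_model A (AdicCompletion I A) F hF ξ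
  -- the finitely presented algebra `B = A[X]/(f)`
  let B := MvPolynomial (Fin k) A ⧸ Ideal.span (Set.range f)
  haveI : Algebra.FinitePresentation A B :=
    Algebra.FinitePresentation.quotient ⟨(Finset.univ.image f), by simp⟩
  let fB : B →ₐ[A] AdicCompletion I A :=
    Ideal.Quotient.liftₐ _ (MvPolynomial.aeval â) (by
      intro p hp
      have hle : Ideal.span (Set.range f) ≤ RingHom.ker (MvPolynomial.aeval â : _ →ₐ[A] _) := by
        rw [Ideal.span_le]
        rintro _ ⟨i, rfl⟩
        exact hf i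
      exact hle hp)
  obtain ⟨D, _, _, hsm, g, h, hgh⟩ := Groth.Agent.S0595.result A (AdicCompletion I A) hreg B fB
  haveI := hsm
  obtain ⟨A', _, _, _, τ, ψ, hψτ⟩ :=
    Groth.Agent.Lib.Helper7.EtaleSection.exists_etale_section (I ^ n)
      ((AdicCompletion.evalₐ I n).comp h)
  let mkB : MvPolynomial (Fin k) A →ₐ[A] B := Ideal.Quotient.mkₐ A _
  let a' : Fin k → A' := fun j => τ (g (mkB (MvPolynomial.X j)))
  have haeval : ∀ p : MvPolynomial (Fin k) A, MvPolynomial.aeval a' p = τ (g (mkB p)) := by
    intro p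
    have : (MvPolynomial.aeval a' : _ →ₐ[A] A') = (τ.comp g).comp mkB := by
      apply MvPolynomial.algHom_ext
      intro j
      simp [a']
    exact congr($this p)
  have ha' : ∀ i, MvPolynomial.aeval a' (f i) = 0 := by
    intro i
    rw [haeval]
    have : mkB (f i) = 0 := by
      change Ideal.Quotient.mk _ (f i) = 0
      rw [Ideal.Quotient.eq_zero_iff_mem]
      exact Ideal.subset_span ⟨i, rfl⟩
    rw [this, map_zero, map_zero]
  obtain ⟨ξ', hξ'⟩ := hmodel A' a' ha'
  refine ⟨A', inferInstance, inferInstance, inferInstance, ψ, ξ', ?_⟩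
  apply hξ' _ (AdicCompletion.evalₐ I n) ψ
  intro j
  have h1 : ψ (a' j) = AdicCompletion.evalₐ I n (h (g (mkB (MvPolynomial.X j)))) :=
    congr($hψτ (g (mkB (MvPolynomial.X j))))
  rw [h1]
  have h2 : h (g (mkB (MvPolynomial.X j))) = fB (mkB (MvPolynomial.X j)) :=
    congr($hgh (mkB (MvPolynomial.X j)))
  rw [h2]
  congr 1
  have h3 : fB (mkB (MvPolynomial.X j)) = MvPolynomial.aeval â (MvPolynomial.X j) :=
    Ideal.Quotient.liftₐ_apply _ _ _ _
  rw [h3, MvPolynomial.aeval_X]

end Groth.Agent.Lib.Helper7.ArtinEtale
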