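import Mathlib
import Groth.Prelude

/-!
# Helper7ArtinFunctor (helper7): from polynomial approximation (S0597 form) to the hypothesis of S14624
-/

set_option autoImplicit false
universe u

namespace Groth.Agent.Lib.Helper7.ArtinFunctor

/-- polynomial approximation in the S0597 form gives the hypothesis of S14624 -/
theorem hAP_of_approx (A : Type u) [CommRing A] (I : Ideal A)
    (happ : ∀ (n m : ℕ) (F : Fin m → MvPolynomial (Fin n) A) (a : Fin n → AdicCompletion I A),
      (∀ j, MvPolynomial.eval a (MvPolynomial.map (algebraMap A (AdicCompletion I A)) (F j)) = 0) →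
      ∀ N : ℕ, ∃ b : Fin n → A, (∀ j, MvPolynomial.eval b (F j) = 0) ∧
        ∀ i, a i - algebraMap A (AdicCompletion I A) (b i) ∈
          (I ^ N).map (algebraMap A (AdicCompletion I A))) :
    ∀ (k l c : ℕ) (f : Fin l → MvPolynomial (Fin k) A) (â : Fin k → AdicCompletion I A),
      (∀ i, MvPolynomial.aeval â (f i) = 0) →
      ∃ a : Fin k → A, (∀ i, MvPolynomial.eval a (f i) = 0) ∧
        ∀ j, Ideal.Quotient.mk (I ^ c) (a j) = AdicCompletion.evalₐ I c (â j) := by
  intro k l c f â hâ
  obtain ⟨b, hb, hclose⟩ := happ k l f â (fun j => by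
    rw [MvPolynomial.eval_map, ← MvPolynomial.aeval_def]
    exact hâ j) c
  refine ⟨b, hb, fun j => ?_⟩
  have h1 : AdicCompletion.evalₐ I c (â j - algebraMap A (AdicCompletion I A) (b j)) = 0 := by
    have hle : (I ^ c).map (algebraMap A (AdicCompletion I A)) ≤
        RingHom.ker (AdicCompletion.evalₐ I c : AdicCompletion I A →+* A ⧸ I ^ c) := by
      rw [Ideal.map_le_iff_le_comap]
      intro x hx
      rw [Ideal.mem_comap, RingHom.mem_ker]
      change AdicCompletion.evalₐ I c (algebraMap A (AdicCompletion I A) x) = 0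
      rw [AlgHom.commutes, Ideal.Quotient.algebraMap_eq, Ideal.Quotient.eq_zero_iff_mem]
      exact hx
    exact (RingHom.mem_ker).mp (hle (hclose j))
  rw [map_sub, sub_eq_zero, AlgHom.commutes, Ideal.Quotient.algebraMap_eq] at h1
  exact h1.symm

end Groth.Agent.Lib.Helper7.ArtinFunctor
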