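import Mathlib
import Groth.Agent.Lib.Helper26SymSmooth
import Groth.Agent.Lib.Helper26HenselLift

/-!
# Étale neighbourhoods mapping to a Henselian pair (helper7)

`D` smooth over `R`, `h : D →ₐ[R] Λ` with `(Λ, K)` a Henselian pair such that `M⁻¹R → Λ/K` is
surjective for a submonoid `M` of `R` acting invertibly on `Λ`.  Then there are an étale
`R`-algebra `R'`, `τ : D →ₐ[R] R'` and `ψ : R' →ₐ[R] Λ` with `ψ ∘ τ ≡ h` modulo `K`.
-/

set_option autoImplicit false
set_option linter.style.haveILetI false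
universe u

namespace Groth.Agent.Lib.Helper7.EtaleToHensel

open TensorProduct

/-- Standard smooth case. -/
theorem exists_etale_lift_of_isStandardSmooth {R E Λ : Type u} [CommRing R] [CommRing E]
    [CommRing Λ] [Algebra R E] [Algebra.IsStandardSmooth R E] [Algebra R Λ] (K : Ideal Λ)
    [HenselianRing Λ K] (M : Submonoid R) (hM : ∀ u ∈ M, IsUnit (algebraMap R Λ u))
    (hsurj : ∀ l : Λ, ∃ r : R, ∃ u ∈ M, algebraMap R Λ u * l - algebraMap R Λ r ∈ K)
    (h : E →ₐ[R] Λ) :
    ∃ (R' : Type u) (_ : CommRing R') (_ : Algebra R R') (_ : Algebra.Etale R R')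
      (τ : E →ₐ[R] R') (ψ : R' →ₐ[R] Λ), ∀ d, ψ (τ d) - h d ∈ K := by
  classical
  obtain ⟨n, g, hgC, hget⟩ := RingHom.IsStandardSmooth.exists_etale_mvPolynomial
    (f := algebraMap R E) (RingHom.isStandardSmooth_algebraMap.mpr inferInstance)
  have hgC' : ∀ r : R, g (MvPolynomial.C r) = algebraMap R E r := fun r => congr($hgC r)
  choose r u hu hru using fun i : Fin n => hsurj (h (g (MvPolynomial.X i)))
  let U : R := ∏ i, u i
  have hUM : U ∈ M := Submonoid.prod_mem M (fun i _ => hu i)
  let r' : Fin n → R := fun i => r i * ∏ j ∈ Finset.univ.erase i, u j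
  have hr' : ∀ i, algebraMap R Λ U * h (g (MvPolynomial.X i)) - algebraMap R Λ (r' i) ∈ K := by
    intro i
    have h1 : U = u i * ∏ j ∈ Finset.univ.erase i, u j :=
      (Finset.mul_prod_erase Finset.univ u (Finset.mem_univ i)).symm
    have h2 : algebraMap R Λ U * h (g (MvPolynomial.X i)) - algebraMap R Λ (r' i) =
        algebraMap R Λ (∏ j ∈ Finset.univ.erase i, u j) *
          (algebraMap R Λ (u i) * h (g (MvPolynomial.X i)) - algebraMap R Λ (r i)) := by
      simp only [r']
      rw [h1, map_mul, map_mul]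
      ring
    rw [h2]
    exact Ideal.mul_mem_left _ _ (hru i)
  have hUunit : IsUnit (algebraMap R Λ U) := hM U hUM
  -- the localization `R_U`
  let RU := Localization.Away U
  letI algRUΛ : Algebra RU Λ :=
    (IsLocalization.Away.lift U (g := algebraMap R Λ) hUunit).toAlgebra
  haveI : IsScalarTower R RU Λ := IsScalarTower.of_algebraMap_eq (fun x =>
    (IsLocalization.Away.lift_eq U hUunit x).symm)
  let a : Fin n → RU := fun i => algebraMap R RU (r' i) * IsLocalization.Away.invSelf U
  have ha : ∀ i, h (g (MvPolynomial.X i)) - algebraMap RU Λ (a i) ∈ K := by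
    intro i
    have h1 : algebraMap RU Λ (algebraMap R RU U) * algebraMap RU Λ (a i) =
        algebraMap R Λ (r' i) := by
      rw [← map_mul, IsScalarTower.algebraMap_apply R RU Λ (r' i)]
      congr 1
      simp only [a]
      rw [mul_comm (algebraMap R RU (r' i)), ← mul_assoc, IsLocalization.Away.mul_invSelf,
        one_mul]
    have h2 : algebraMap R Λ U * (h (g (MvPolynomial.X i)) - algebraMap RU Λ (a i)) ∈ K := by
      rw [mul_sub, IsScalarTower.algebraMap_apply R RU Λ U, h1,
        ← IsScalarTower.algebraMap_apply R RU Λ U]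
      exact hr' i
    exact (Ideal.unit_mul_mem_iff_mem K hUunit).mp h2
  -- algebra structures over the polynomial ring
  letI algPRU : Algebra (MvPolynomial (Fin n) R) RU :=
    (MvPolynomial.aeval a : _ →ₐ[R] RU).toRingHom.toAlgebra
  letI algPE : Algebra (MvPolynomial (Fin n) R) E := g.toAlgebra
  haveI : Algebra.Etale (MvPolynomial (Fin n) R) E := RingHom.etale_algebraMap.mp hget
  haveI : IsScalarTower R (MvPolynomial (Fin n) R) E := IsScalarTower.of_algebraMap_eq (fun x => by
    change algebraMap R E x = g (MvPolynomial.C x)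
    exact (hgC' x).symm)
  haveI : IsScalarTower R (MvPolynomial (Fin n) R) RU := IsScalarTower.of_algebraMap_eq (fun x => by
    change algebraMap R RU x = MvPolynomial.aeval a (MvPolynomial.C x)
    rw [MvPolynomial.aeval_C])
  let gA : MvPolynomial (Fin n) R →ₐ[R] E := { g with commutes' := fun x => hgC' x }
  have hcomm : ∀ p : MvPolynomial (Fin n) R,
      Ideal.Quotient.mk K (h (g p)) =
        Ideal.Quotient.mk K (algebraMap RU Λ (MvPolynomial.aeval a p)) := by
    intro p
    have : ((Ideal.Quotient.mkₐ R K).comp h).comp gA =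
        ((Ideal.Quotient.mkₐ R K).comp (IsScalarTower.toAlgHom R RU Λ)).comp
          (MvPolynomial.aeval a) := by
      apply MvPolynomial.algHom_ext
      intro i
      simp only [AlgHom.comp_apply, MvPolynomial.aeval_X, Ideal.Quotient.mkₐ_eq_mk]
      rw [Ideal.Quotient.mk_eq_mk_iff_sub_mem]
      exact ha i
    exact congr($this p)
  letI algPΛ : Algebra (MvPolynomial (Fin n) R) Λ :=
    ((algebraMap RU Λ).comp (algebraMap (MvPolynomial (Fin n) R) RU)).toAlgebra
  haveI : IsScalarTower (MvPolynomial (Fin n) R) RU Λ :=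
    IsScalarTower.of_algebraMap_eq (fun _ => rfl)
  haveI : IsScalarTower (MvPolynomial (Fin n) R) RU (Λ ⧸ K) :=
    IsScalarTower.of_algebraMap_eq (fun _ => rfl)
  let σ' : E →ₐ[MvPolynomial (Fin n) R] Λ ⧸ K :=
    { ((Ideal.Quotient.mkₐ R K).comp h).toRingHom with
      commutes' := fun p => by
        change Ideal.Quotient.mk K (h (g p)) =
          Ideal.Quotient.mk K (algebraMap RU Λ (MvPolynomial.aeval a p))
        exact hcomm p }
  let R' := RU ⊗[MvPolynomial (Fin n) R] E
  haveI : Algebra.Etale RU R' := Algebra.Etale.baseChange (MvPolynomial (Fin n) R) E RU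
  haveI : Algebra.Etale R RU := Algebra.Etale.of_isLocalizationAway U
  haveI : Algebra.Etale R R' := Algebra.Etale.comp R RU R'
  let σ : R' →ₐ[RU] Λ ⧸ K :=
    Algebra.TensorProduct.lift (Algebra.ofId RU (Λ ⧸ K)) σ' (fun _ _ => Commute.all _ _)
  obtain ⟨ψ₀, hψ₀⟩ := Groth.Agent.Lib.Helper26.HenselLift.exists_algHom_lift K σ
  let τ₀ : E →ₐ[MvPolynomial (Fin n) R] R' := Algebra.TensorProduct.includeRight
  let τ : E →ₐ[R] R' :=
    { τ₀.toRingHom with
      commutes' := fun x => by
        change τ₀ (algebraMap R E x) = algebraMap R R' x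
        have h1 : algebraMap R E x = algebraMap (MvPolynomial (Fin n) R) E (MvPolynomial.C x) :=
          (hgC' x).symm
        rw [h1, τ₀.commutes, IsScalarTower.algebraMap_apply (MvPolynomial (Fin n) R) RU R',
          IsScalarTower.algebraMap_apply R RU R']
        congr 1
        change MvPolynomial.aeval a (MvPolynomial.C x) = _
        rw [MvPolynomial.aeval_C] }
  refine ⟨R', inferInstance, inferInstance, inferInstance, τ,
    ψ₀.restrictScalars R, fun d => ?_⟩
  rw [← Ideal.Quotient.mk_eq_mk_iff_sub_mem]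
  change Ideal.Quotient.mk K (ψ₀ ((1 : RU) ⊗ₜ[MvPolynomial (Fin n) R] d)) = _
  rw [hψ₀]
  change Algebra.TensorProduct.lift _ _ _ ((1 : RU) ⊗ₜ[MvPolynomial (Fin n) R] d) = _
  rw [Algebra.TensorProduct.lift_tmul, map_one, one_mul]
  rfl

/-- **Étale neighbourhoods mapping to a Henselian pair.** -/
theorem exists_etale_lift {R D Λ : Type u} [CommRing R] [CommRing D] [CommRing Λ]
    [Algebra R D] [Algebra.Smooth R D] [Algebra R Λ] (K : Ideal Λ) [HenselianRing Λ K]
    (M : Submonoid R) (hM : ∀ u ∈ M, IsUnit (algebraMap R Λ u))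
    (hsurj : ∀ l : Λ, ∃ r : R, ∃ u ∈ M, algebraMap R Λ u * l - algebraMap R Λ r ∈ K)
    (h : D →ₐ[R] Λ) :
    ∃ (R' : Type u) (_ : CommRing R') (_ : Algebra R R') (_ : Algebra.Etale R R')
      (τ : D →ₐ[R] R') (ψ : R' →ₐ[R] Λ), ∀ d, ψ (τ d) - h d ∈ K := by
  obtain ⟨B, _, _, _, _, -, ⟨ρ⟩, hstd⟩ :=
    Groth.Agent.Lib.Helper26.SymSmooth.exists_smooth_retract_isStandardSmooth R D
  obtain ⟨R', _, _, _, τB, ψ, hψ⟩ :=
    exists_etale_lift_of_isStandardSmooth K M hM hsurj (h.comp (ρ.restrictScalars R))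
  refine ⟨R', inferInstance, inferInstance, inferInstance,
    τB.comp (IsScalarTower.toAlgHom R D B), ψ, fun d => ?_⟩
  have := hψ (algebraMap D B d)
  simpa using this

end Groth.Agent.Lib.Helper7.EtaleToHensel
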