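import Mathlib
import Groth.Agent.S0595
import Groth.Agent.Lib.Helper7EtaleToHensel
import Groth.Agent.Lib.Helper19ComplNoeth
import Groth.Agent.Lib.Helper2HenselRad

/-!
# Artin approximation in an étale neighbourhood of a prime (helper7)
-/

set_option autoImplicit false
set_option linter.style.haveILetI false
universe u

namespace Groth.Agent.Lib.Helper7.ArtinPrime

open IsLocalRing

variable {R : Type u} [CommRing R] [IsNoetherianRing R] (p : Ideal R) [p.IsPrime]

local notation "S" => Localization.AtPrime p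
local notation "mS" => IsLocalRing.maximalIdeal (Localization.AtPrime p)
local notation "Λ" => AdicCompletion (IsLocalRing.maximalIdeal (Localization.AtPrime p))
  (Localization.AtPrime p)

/-- Elements of the completion are approximated by elements of `S`. -/
theorem exists_close [IsNoetherianRing S] (k : ℕ) (l : Λ) :
    ∃ c : S, l - algebraMap S Λ c ∈ (mS ^ k).map (algebraMap S Λ) := by
  have hfg : (mS).FG := IsNoetherian.noetherian _
  obtain ⟨c, hc⟩ := Submodule.Quotient.mk_surjective _ (AdicCompletion.eval mS S k l)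
  refine ⟨c, ?_⟩
  have h1 : l - algebraMap S Λ c ∈ LinearMap.ker (AdicCompletion.eval mS S k) := by
    rw [LinearMap.mem_ker, map_sub, ← hc]
    exact sub_self _
  rw [← AdicCompletion.pow_smul_top_eq_ker_eval hfg, Ideal.smul_top_eq_map] at h1
  exact h1

theorem main [IsNoetherianRing S] [IsNoetherianRing Λ] [IsScalarTower R S Λ]
    (hregR : CAlg.IsRegularHom R Λ) {n m : ℕ}
    (F : Fin m → MvPolynomial (Fin n) R) (a : Fin n → Λ)
    (ha : ∀ j, MvPolynomial.aeval a (MvPolynomial.map (algebraMap R S) (F j)) = 0) (N : ℕ) :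
    ∃ (R' : Type u) (_ : CommRing R') (_ : Algebra R R'), Algebra.Etale R R' ∧
      ∃ (ψ : R' →+* Λ) (p' : Ideal R'), p'.IsPrime ∧
        (∀ r : R, ψ (algebraMap R R' r) = algebraMap S Λ (algebraMap R S r)) ∧
        p'.comap (algebraMap R R') = p ∧
        (∀ x : R', ∃ r s : R, s ∉ p ∧ algebraMap R R' s * x - algebraMap R R' r ∈ p') ∧
        (∀ x ∈ p', ψ x ∈ (mS).map (algebraMap S Λ)) ∧
        ∃ b : Fin n → R', (∀ j, MvPolynomial.aeval b (F j) = 0) ∧
          ∀ i, a i - ψ (b i) ∈ (mS ^ N).map (algebraMap S Λ) := by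
  classical
  have hfg : (mS).FG := IsNoetherian.noetherian _
  -- the finitely presented algebra
  let B := MvPolynomial (Fin n) R ⧸ Ideal.span (Set.range F)
  haveI : Algebra.FinitePresentation R B :=
    Algebra.FinitePresentation.quotient ⟨(Finset.univ.image F), by simp⟩
  have ha' : ∀ j, MvPolynomial.aeval a (F j) = 0 := by
    intro j
    rw [← ha j, MvPolynomial.aeval_map_algebraMap]
  let fB : B →ₐ[R] Λ :=
    Ideal.Quotient.liftₐ _ (MvPolynomial.aeval a) (by
      intro q hq
      have hle : Ideal.span (Set.range F) ≤ RingHom.ker (MvPolynomial.aeval a : _ →ₐ[R] Λ) := by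
        rw [Ideal.span_le]
        rintro _ ⟨i, rfl⟩
        exact ha' i
      exact hle hq)
  obtain ⟨D, _, _, hsm, g, h, hgh⟩ := Groth.Agent.S0595.result R Λ hregR B fB
  haveI := hsm
  -- the Henselian pair
  let K : Ideal Λ := (mS ^ (N + 1)).map (algebraMap S Λ)
  haveI hc : IsAdicComplete mS Λ := AdicCompletion.isAdicComplete hfg
  haveI hc' : IsAdicComplete ((mS).map (algebraMap S Λ)) Λ :=
    (IsAdicComplete.map_algebraMap_iff mS Λ).mpr hc
  have hH : HenselianRing Λ ((mS).map (algebraMap S Λ)) := inferInstance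
  haveI : HenselianRing Λ K := Groth.Agent.Lib.Helper2.henselianRing_of_le _ K hH (by
    simp only [K]
    rw [Ideal.map_pow]
    exact Ideal.pow_le_self (by omega))
  have hM : ∀ u ∈ p.primeCompl, IsUnit (algebraMap R Λ u) := fun u hu => by
    rw [IsScalarTower.algebraMap_apply R S Λ]
    exact (IsLocalization.map_units S ⟨u, hu⟩).map _
  have hsurj : ∀ l : Λ, ∃ r : R, ∃ u ∈ p.primeCompl,
      algebraMap R Λ u * l - algebraMap R Λ r ∈ K := by
    intro l
    obtain ⟨c, hc⟩ := exists_close p (N + 1) l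
    obtain ⟨r, u, hcu⟩ := IsLocalization.exists_mk'_eq p.primeCompl c
    refine ⟨r, u, u.2, ?_⟩
    have h1 : algebraMap R S u * c = algebraMap R S r := by
      rw [← hcu, mul_comm, IsLocalization.mk'_spec]
    have h2 : algebraMap R Λ u * l - algebraMap R Λ r =
        algebraMap R Λ u * (l - algebraMap S Λ c) := by
      rw [mul_sub, IsScalarTower.algebraMap_apply R S Λ r, ← h1, map_mul,
        ← IsScalarTower.algebraMap_apply R S Λ]
    rw [h2]
    exact Ideal.mul_mem_left _ _ hc
  obtain ⟨R', _, _, _, τ, ψ, hψ⟩ :=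
    Groth.Agent.Lib.Helper7.EtaleToHensel.exists_etale_lift K p.primeCompl hM hsurj h
  -- the prime
  let ev : Λ →ₐ[S] S ⧸ mS := AdicCompletion.evalOneₐ mS
  have hevR : ∀ r : R, ev (algebraMap R Λ r) = Ideal.Quotient.mk mS (algebraMap R S r) := by
    intro r
    rw [IsScalarTower.algebraMap_apply R S Λ, AlgHom.commutes]
    rfl
  let q : R' →+* S ⧸ mS := ev.toRingHom.comp ψ.toRingHom
  have hq : ∀ x, q x = ev (ψ x) := fun x => rfl
  have hqR : ∀ r : R, q (algebraMap R R' r) = Ideal.Quotient.mk mS (algebraMap R S r) := by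
    intro r
    rw [hq, AlgHom.commutes, hevR]
  refine ⟨R', inferInstance, inferInstance, inferInstance, ψ.toRingHom, RingHom.ker q,
    RingHom.ker_isPrime q, ?_, ?_, ?_, ?_, ?_⟩
  · intro r
    change ψ (algebraMap R R' r) = _
    rw [AlgHom.commutes, IsScalarTower.algebraMap_apply R S Λ]
  · ext r
    rw [Ideal.mem_comap, RingHom.mem_ker, hqR, Ideal.Quotient.eq_zero_iff_mem,
      IsLocalization.AtPrime.to_map_mem_maximal_iff S p]
  · intro x
    obtain ⟨t, ht⟩ := Ideal.Quotient.mk_surjective (q x)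
    obtain ⟨r, s, hts⟩ := IsLocalization.exists_mk'_eq p.primeCompl t
    refine ⟨r, s, s.2, ?_⟩
    have h1 : algebraMap R S s * t = algebraMap R S r := by
      rw [← hts, mul_comm, IsLocalization.mk'_spec]
    rw [RingHom.mem_ker, map_sub, map_mul, hqR, hqR, ← ht, ← map_mul, h1, sub_self]
  · intro x hx
    rw [RingHom.mem_ker, hq] at hx
    change ψ x ∈ _
    obtain ⟨c, hc⟩ := exists_close p 1 (ψ x)
    rw [pow_one] at hc
    have hev0 : ∀ y ∈ (mS).map (algebraMap S Λ), ev y = 0 := by
      intro y hy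
      have hle : (mS).map (algebraMap S Λ) ≤ RingHom.ker ev := by
        rw [Ideal.map_le_iff_le_comap]
        intro z hz
        rw [Ideal.mem_comap, RingHom.mem_ker, AlgHom.commutes]
        exact Ideal.Quotient.eq_zero_iff_mem.mpr hz
      exact hle hy
    have h1 := hev0 _ hc
    rw [map_sub, hx, zero_sub, neg_eq_zero, AlgHom.commutes] at h1
    have hcm : c ∈ mS := Ideal.Quotient.eq_zero_iff_mem.mp h1
    have h2 : ψ x = (ψ x - algebraMap S Λ c) + algebraMap S Λ c := by ring
    rw [h2]
    exact Ideal.add_mem _ hc (Ideal.mem_map_of_mem _ hcm)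
  · let mkB : MvPolynomial (Fin n) R →ₐ[R] B := Ideal.Quotient.mkₐ R _
    let b : Fin n → R' := fun j => τ (g (mkB (MvPolynomial.X j)))
    have haeval : ∀ P : MvPolynomial (Fin n) R, MvPolynomial.aeval b P = τ (g (mkB P)) := by
      intro P
      have : (MvPolynomial.aeval b : _ →ₐ[R] R') = (τ.comp g).comp mkB := by
        apply MvPolynomial.algHom_ext
        intro j
        simp [b]
      exact congr($this P)
    refine ⟨b, fun j => ?_, fun i => ?_⟩
    · rw [haeval]
      have : mkB (F j) = 0 := by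
        change Ideal.Quotient.mk _ (F j) = 0
        rw [Ideal.Quotient.eq_zero_iff_mem]
        exact Ideal.subset_span ⟨j, rfl⟩
      rw [this, map_zero, map_zero]
    · have h1 := hψ (g (mkB (MvPolynomial.X i)))
      have h2 : h (g (mkB (MvPolynomial.X i))) = fB (mkB (MvPolynomial.X i)) :=
        congr($hgh (mkB (MvPolynomial.X i)))
      have h3 : fB (mkB (MvPolynomial.X i)) = MvPolynomial.aeval a (MvPolynomial.X i) :=
        Ideal.Quotient.liftₐ_apply _ _ _ _
      rw [h2, h3, MvPolynomial.aeval_X] at h1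
      have h4 : a i - ψ (b i) ∈ K := by
        have := Ideal.neg_mem_iff K |>.mpr h1
        rwa [neg_sub] at this
      exact Ideal.map_mono (Ideal.pow_le_pow_right (Nat.le_succ N)) h4

end Groth.Agent.Lib.Helper7.ArtinPrime
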