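import Groth.Agent.Lib.LeadAzumayaLocal

open TensorProduct

universe u

namespace Groth.Agent.Lib.Helper7.AzFib

section
variable {R : Type*} [CommRing R] {M N : Type*} [AddCommGroup M] [Module R M]
  [AddCommGroup N] [Module R N]

theorem bijective_of_lTensor_localization_maximal (F : M →ₗ[R] N)
    (H : ∀ (P : Ideal R) [P.IsMaximal],
      Function.Bijective (F.lTensor (Localization.AtPrime P))) : Function.Bijective F := by
  refine bijective_of_isLocalized_maximal (fun P _ => Localization.AtPrime P ⊗[R] M)
    (fun P _ => TensorProduct.mk R (Localization.AtPrime P) M 1)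
    (fun P _ => Localization.AtPrime P ⊗[R] N)
    (fun P _ => TensorProduct.mk R (Localization.AtPrime P) N 1) F ?_
  intro P _
  have : IsLocalizedModule.map P.primeCompl (TensorProduct.mk R (Localization.AtPrime P) M 1)
      (TensorProduct.mk R (Localization.AtPrime P) N 1) F = F.lTensor _ := by
    apply IsLocalizedModule.linearMap_ext P.primeCompl
      (TensorProduct.mk R (Localization.AtPrime P) M 1)
      (TensorProduct.mk R (Localization.AtPrime P) N 1)
    ext x
    simp only [LinearMap.coe_comp, Function.comp_apply, TensorProduct.mk_apply,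
      LinearMap.lTensor_tmul]
    exact IsLocalizedModule.map_apply P.primeCompl
      (TensorProduct.mk R (Localization.AtPrime P) M 1)
      (TensorProduct.mk R (Localization.AtPrime P) N 1) F x
  rw [this]
  exact H P

end

section
variable (R : Type*) [CommRing R] (S : Type*) [CommRing S] [Algebra R S]
  (K : Type*) [CommRing K] [Algebra R K] [Algebra S K] [IsScalarTower R S K]
  (A : Type*) [Ring A] [Algebra R A]

/-- `K ⊗[S] (S ⊗[R] A) ≃ₐ[K] K ⊗[R] A` for a noncommutative `A`. -/
noncomputable def cancelBaseChangeAlg : K ⊗[S] (S ⊗[R] A) ≃ₐ[K] K ⊗[R] A :=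
  AlgEquiv.symm <| AlgEquiv.ofLinearEquiv
    (TensorProduct.AlgebraTensorModule.cancelBaseChange R S K K A).symm
    (by simp [Algebra.TensorProduct.one_def]) <|
      LinearMap.map_mul_of_map_mul_tmul (fun _ _ _ _ ↦ by simp)

end

section
open Groth.Agent.Lib.LeadAzumaya

variable {R : Type*} [CommRing R] (A : Type*) [Ring A] [Algebra R A]

theorem fibre_csa_of_isAzumaya [IsAzumaya R A] (p : Ideal R) [p.IsPrime] :
    Algebra.IsCentral p.ResidueField (p.ResidueField ⊗[R] A) ∧
      IsSimpleRing (p.ResidueField ⊗[R] A) := by
  have : IsAzumaya p.ResidueField (p.ResidueField ⊗[R] A) := isAzumaya_baseChange _ A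
  exact ⟨inferInstance, isSimpleRing_of_isAzumaya_field (k := p.ResidueField)⟩

variable [Module.Finite R A] [Module.Projective R A]

theorem isAzumaya_localization_of_fibre (m : Ideal R) [m.IsMaximal]
    (hc : Algebra.IsCentral m.ResidueField (m.ResidueField ⊗[R] A))
    (hs : IsSimpleRing (m.ResidueField ⊗[R] A)) :
    IsAzumaya (Localization.AtPrime m) (Localization.AtPrime m ⊗[R] A) := by
  let Rm := Localization.AtPrime m
  let e : IsLocalRing.ResidueField Rm ⊗[Rm] (Rm ⊗[R] A) ≃ₐ[IsLocalRing.ResidueField Rm]
      m.ResidueField ⊗[R] A := cancelBaseChangeAlg R Rm (IsLocalRing.ResidueField Rm) A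
  have : Algebra.IsCentral (IsLocalRing.ResidueField Rm)
      (IsLocalRing.ResidueField Rm ⊗[Rm] (Rm ⊗[R] A)) :=
    Algebra.IsCentral.of_algEquiv _ _ _ e.symm
  have : IsSimpleRing (IsLocalRing.ResidueField Rm ⊗[Rm] (Rm ⊗[R] A)) :=
    IsSimpleRing.of_ringEquiv e.symm.toRingEquiv hs
  have : Nontrivial (Rm ⊗[R] A) := by
    by_contra hne
    rw [not_nontrivial_iff_subsingleton] at hne
    have : Subsingleton (IsLocalRing.ResidueField Rm ⊗[Rm] (Rm ⊗[R] A)) := inferInstance
    exact not_subsingleton _ this
  have : Module.Free Rm (Rm ⊗[R] A) := Module.free_of_flat_of_isLocalRing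
  exact (isAzumaya_iff_residueField Rm).mpr ⟨inferInstance, inferInstance⟩

theorem isAzumaya_of_fibres
    (h : ∀ (p : Ideal R) [p.IsPrime], Algebra.IsCentral p.ResidueField (p.ResidueField ⊗[R] A) ∧
      IsSimpleRing (p.ResidueField ⊗[R] A)) : IsAzumaya R A := by
  have hbij : Function.Bijective (AlgHom.mulLeftRight R A) := by
    apply bijective_of_lTensor_localization_maximal (AlgHom.mulLeftRight R A).toLinearMap
    intro m _
    have := isAzumaya_localization_of_fibre A m (h m).1 (h m).2
    exact (bijective_mulLeftRight_baseChange_iff (Localization.AtPrime m) A).mp IsAzumaya.bij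
  have hff : Module.FaithfullyFlat R A := by
    refine ⟨fun m hm htop => ?_⟩
    have hs := (h m).2
    have hsub : Subsingleton (m.ResidueField ⊗[R] A) := by
      have key : ∀ (a : A) (c : m.ResidueField), c ⊗ₜ[R] a = 0 := by
        intro a c
        have ha : a ∈ m • (⊤ : Submodule R A) := by rw [htop]; trivial
        refine Submodule.smul_induction_on ha ?_ ?_
        · intro r hr n _
          rw [TensorProduct.tmul_smul, TensorProduct.smul_tmul', Algebra.smul_def,
            (Ideal.algebraMap_residueField_eq_zero).mpr hr, zero_mul, TensorProduct.zero_tmul]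
        · intro x y hx hy
          rw [TensorProduct.tmul_add, hx, hy, add_zero]
      refine ⟨fun x y => ?_⟩
      have hz : ∀ z : m.ResidueField ⊗[R] A, z = 0 := by
        intro z
        induction z using TensorProduct.induction_on with
        | zero => rfl
        | tmul c a => exact key a c
        | add x y hx hy => rw [hx, hy, add_zero]
      rw [hz x, hz y]
    exact not_subsingleton _ hsub
  have : FaithfulSMul R A := faithfulSMul_of_faithfullyFlat (R := R) (M := A)
  exact { bij := hbij }

end

end Groth.Agent.Lib.Helper7.AzFib
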