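import Mathlib

/-!
# `C ⊗[R₀[X]] L` as a quotient of `C ⊗[R₀] L` (helper7)
-/

set_option autoImplicit false
set_option linter.style.haveILetI false
set_option linter.unusedSectionVars false
universe u

namespace Groth.Agent.Lib.Helper7.TensorPolyQuot

open Polynomial TensorProduct

variable (R₀ C L : Type u) [CommRing R₀] [CommRing C] [CommRing L] [Algebra R₀ C]
  [Algebra R₀[X] C] [IsScalarTower R₀ R₀[X] C] [Algebra R₀ L] [Algebra R₀[X] L]
  [IsScalarTower R₀ R₀[X] L]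

/-- the element `x ⊗ 1 - 1 ⊗ x` -/
noncomputable def u : C ⊗[R₀] L :=
  (algebraMap R₀[X] C X) ⊗ₜ[R₀] (1 : L) - (1 : C) ⊗ₜ[R₀] (algebraMap R₀[X] L X)

/-- the canonical map `C ⊗[R₀] L → C ⊗[R₀[X]] L` -/
noncomputable def phi : C ⊗[R₀] L →ₐ[R₀] C ⊗[R₀[X]] L :=
  Algebra.TensorProduct.lift
    ((Algebra.TensorProduct.includeLeft : C →ₐ[R₀[X]] C ⊗[R₀[X]] L).restrictScalars R₀)
    ((Algebra.TensorProduct.includeRight : L →ₐ[R₀[X]] C ⊗[R₀[X]] L).restrictScalars R₀)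
    (fun _ _ => Commute.all _ _)

lemma phi_tmul (c : C) (l : L) : phi R₀ C L (c ⊗ₜ[R₀] l) = c ⊗ₜ[R₀[X]] l := by
  simp [phi]

lemma phi_u : phi R₀ C L (u R₀ C L) = 0 := by
  rw [u, map_sub, phi_tmul, phi_tmul, Algebra.algebraMap_eq_smul_one,
    Algebra.algebraMap_eq_smul_one, TensorProduct.smul_tmul, sub_self]

theorem nonempty_ringEquiv :
    Nonempty (((C ⊗[R₀] L) ⧸ Ideal.span ({u R₀ C L} : Set (C ⊗[R₀] L))) ≃+* C ⊗[R₀[X]] L) := by
  classical
  set I := Ideal.span ({u R₀ C L} : Set (C ⊗[R₀] L)) with hI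
  have hIker : ∀ a ∈ I, (phi R₀ C L : C ⊗[R₀] L →+* C ⊗[R₀[X]] L) a = 0 := by
    intro a ha
    have : I ≤ RingHom.ker (phi R₀ C L : C ⊗[R₀] L →+* C ⊗[R₀[X]] L) := by
      rw [hI, Ideal.span_le]
      rintro _ rfl
      exact phi_u R₀ C L
    exact this ha
  let phibar : ((C ⊗[R₀] L) ⧸ I) →+* C ⊗[R₀[X]] L :=
    Ideal.Quotient.lift I (phi R₀ C L : C ⊗[R₀] L →+* C ⊗[R₀[X]] L) hIker
  -- the algebra structure on the quotient
  let ι₁ : C →+* (C ⊗[R₀] L) ⧸ I :=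
    (Ideal.Quotient.mk I).comp (Algebra.TensorProduct.includeLeft : C →ₐ[R₀] C ⊗[R₀] L).toRingHom
  let ι₂ : L →+* (C ⊗[R₀] L) ⧸ I :=
    (Ideal.Quotient.mk I).comp (Algebra.TensorProduct.includeRight : L →ₐ[R₀] C ⊗[R₀] L).toRingHom
  have hι₁ : ∀ c, ι₁ c = Ideal.Quotient.mk I (c ⊗ₜ[R₀] (1 : L)) := fun c => rfl
  have hι₂ : ∀ l, ι₂ l = Ideal.Quotient.mk I ((1 : C) ⊗ₜ[R₀] l) := fun l => rfl
  have hagree : ι₁.comp (algebraMap R₀[X] C) = ι₂.comp (algebraMap R₀[X] L) := by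
    apply Polynomial.ringHom_ext
    · intro r
      change ι₁ (algebraMap R₀[X] C (Polynomial.C r)) = ι₂ (algebraMap R₀[X] L (Polynomial.C r))
      have h1 : algebraMap R₀[X] C (Polynomial.C r) = algebraMap R₀ C r := by
        rw [IsScalarTower.algebraMap_apply R₀ R₀[X] C]; rfl
      have h2 : algebraMap R₀[X] L (Polynomial.C r) = algebraMap R₀ L r := by
        rw [IsScalarTower.algebraMap_apply R₀ R₀[X] L]; rfl
      rw [h1, h2, hι₁, hι₂, Algebra.algebraMap_eq_smul_one, Algebra.algebraMap_eq_smul_one,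
        TensorProduct.smul_tmul]
    · change ι₁ (algebraMap R₀[X] C X) = ι₂ (algebraMap R₀[X] L X)
      rw [hι₁, hι₂, ← sub_eq_zero, ← map_sub, Ideal.Quotient.eq_zero_iff_mem]
      exact Ideal.subset_span rfl
  have halg : ∀ a : R₀[X], algebraMap R₀[X] ((C ⊗[R₀] L) ⧸ I) a = ι₁ (algebraMap R₀[X] C a) := by
    intro a
    rw [hι₁, ← Ideal.Quotient.mk_algebraMap, Algebra.TensorProduct.algebraMap_apply]
  let f' : C →ₐ[R₀[X]] (C ⊗[R₀] L) ⧸ I := { ι₁ with commutes' := fun a => (halg a).symm }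
  have hg' : ∀ a : R₀[X], ι₂ (algebraMap R₀[X] L a) = algebraMap R₀[X] ((C ⊗[R₀] L) ⧸ I) a := by
    intro a
    rw [halg]
    exact (congrArg (fun h => h a) hagree).symm
  let g' : L →ₐ[R₀[X]] (C ⊗[R₀] L) ⧸ I := { ι₂ with commutes' := hg' }
  let psi : C ⊗[R₀[X]] L →ₐ[R₀[X]] (C ⊗[R₀] L) ⧸ I :=
    Algebra.TensorProduct.lift f' g' (fun _ _ => Commute.all _ _)
  have hpsi : ∀ c l, psi (c ⊗ₜ[R₀[X]] l) = Ideal.Quotient.mk I (c ⊗ₜ[R₀] l) := by
    intro c l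
    have : psi (c ⊗ₜ[R₀[X]] l) = f' c * g' l := by simp [psi]
    rw [this]
    change ι₁ c * ι₂ l = _
    rw [hι₁, hι₂, ← map_mul, Algebra.TensorProduct.tmul_mul_tmul, mul_one, one_mul]
  have h1 : ∀ x : C ⊗[R₀] L, psi (phi R₀ C L x) = Ideal.Quotient.mk I x := by
    intro x
    induction x using TensorProduct.induction_on with
    | zero => simp
    | tmul c l => rw [phi_tmul, hpsi]
    | add x y hx hy => rw [map_add, map_add, hx, hy, map_add]
  have h2 : ∀ y : C ⊗[R₀[X]] L, phibar (psi y) = y := by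
    intro y
    induction y using TensorProduct.induction_on with
    | zero => simp
    | tmul c l =>
      rw [hpsi]
      change (phi R₀ C L) (c ⊗ₜ[R₀] l) = _
      rw [phi_tmul]
    | add x y hx hy => rw [map_add, map_add, hx, hy]
  have h3 : ∀ q : (C ⊗[R₀] L) ⧸ I, psi (phibar q) = q := by
    intro q
    obtain ⟨x, rfl⟩ := Ideal.Quotient.mk_surjective q
    change psi (phi R₀ C L x) = _
    exact h1 x
  exact ⟨RingEquiv.ofBijective phibar
    ⟨fun a b hab => by rw [← h3 a, ← h3 b, hab], fun y => ⟨psi y, h2 y⟩⟩⟩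

end Groth.Agent.Lib.Helper7.TensorPolyQuot
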