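import Mathlib
import Groth.Agent.Lib.Helper7TensorPolyQuot
import Groth.Agent.Lib.Helper7PolyDer
import Groth.Agent.Lib.Helper5RLR2

/-!
# Regularity of `C ⊗[R₀[X]] L` from regularity of `C ⊗[R₀] L` (helper7)

If `d/dX` extends to a derivation of the `R₀[X]`-algebra `C`, then `C ⊗[R₀[X]] L` is the quotient of
`C ⊗[R₀] L` by the element `x ⊗ 1 - 1 ⊗ x`, on which the derivation `d/dX ⊗ 1` takes the value `1`;
hence it is regular as soon as `C ⊗[R₀] L` is.
-/

set_option autoImplicit false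
set_option linter.style.haveILetI false
set_option linter.unusedSectionVars false
universe u

namespace Groth.Agent.Lib.Helper7.BirStep

open Polynomial TensorProduct Groth.Agent.Lib.Helper7.DerStep Groth.Agent.Lib.Helper7.PsCore
  Groth.Agent.Lib.Helper7.TensorPolyQuot

theorem isRegularRing_tensor_polynomial (R₀ C L : Type u) [CommRing R₀] [CommRing C] [CommRing L]
    [Algebra R₀ C] [Algebra R₀[X] C] [IsScalarTower R₀ R₀[X] C] [Algebra R₀ L] [Algebra R₀[X] L]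
    [IsScalarTower R₀ R₀[X] L] (hext : ExtendsDer R₀[X] C) (hreg : IsRegularRing (C ⊗[R₀] L)) :
    IsRegularRing (C ⊗[R₀[X]] L) := by
  classical
  obtain ⟨Δ, hΔ0, hΔX⟩ := Groth.Agent.Lib.Helper7.PolyDer.exists_derivative_extension
    (R₀ := R₀) (C := C) hext
  let dL : C →+ C ⊗[R₀] L :=
    ((TensorProduct.mk R₀ C L).flip (1 : L)).toAddMonoidHom.comp (Δ : C →+ C)
  have hdL : ∀ c, dL c = (Δ c) ⊗ₜ[R₀] (1 : L) := fun c => rfl
  let dC : L →+ C ⊗[R₀] L := 0
  have hL : ∀ a b : C, dL (a * b) = (a ⊗ₜ[R₀] (1 : L)) * dL b + (b ⊗ₜ[R₀] (1 : L)) * dL a := by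
    intro a b
    rw [hdL, hdL, hdL, Derivation.leibniz, smul_eq_mul, smul_eq_mul, TensorProduct.add_tmul,
      Algebra.TensorProduct.tmul_mul_tmul, Algebra.TensorProduct.tmul_mul_tmul, one_mul]
  have hC : ∀ a b : L, dC (a * b) = ((1 : C) ⊗ₜ[R₀] a) * dC b + ((1 : C) ⊗ₜ[R₀] b) * dC a := by
    intro a b
    simp [dC]
  have h : ∀ r : R₀, dL (algebraMap R₀ C r) = dC (algebraMap R₀ L r) := by
    intro r
    rw [hdL, hΔ0, TensorProduct.zero_tmul]
    rfl
  obtain ⟨Δ', hleib, hΔ'⟩ := Groth.Agent.Lib.Helper7.DerTensor.exists_addMonoidHom_tensorProduct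
    (R := R₀) (L := C) (C := L) dL dC hL hC h
  have hΔ'' : ∀ (c : C) (l : L), Δ' (c ⊗ₜ[R₀] l) = (Δ c) ⊗ₜ[R₀] l := by
    intro c l
    rw [hΔ', hdL]
    change _ + (c ⊗ₜ[R₀] (1 : L)) * 0 = _
    rw [mul_zero, add_zero, Algebra.TensorProduct.tmul_mul_tmul, one_mul, mul_one]
  have hu : Δ' (u R₀ C L) = 1 := by
    rw [u, map_sub, hΔ'', hΔ'', hΔX, Derivation.map_one_eq_zero, TensorProduct.zero_tmul, sub_zero,
      Algebra.TensorProduct.one_def]
  haveI := hreg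
  have hq : IsRegularRing ((C ⊗[R₀] L) ⧸ Ideal.span ({u R₀ C L} : Set (C ⊗[R₀] L))) := by
    apply Groth.Agent.Lib.Helper5.isRegularRing_quotient_span_singleton_of_derivation (u R₀ C L)
      (derivationOfLeibniz Δ' hleib)
    rw [derivationOfLeibniz_apply, hu, map_one]
    exact isUnit_one
  obtain ⟨e⟩ := nonempty_ringEquiv R₀ C L
  exact IsRegularRing.of_ringEquiv
    (R := (C ⊗[R₀] L) ⧸ Ideal.span ({u R₀ C L} : Set (C ⊗[R₀] L))) e

end Groth.Agent.Lib.Helper7.BirStep
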