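import Mathlib
import Groth.Prelude
import Groth.Agent.Lib.Helper7RegLoc
import Groth.Agent.Lib.Helper7RegLoc2
import Groth.Agent.Lib.Helper19FSFlat

/-!
# Helper7RegFS: regular homomorphisms via formal smoothness of the local homomorphisms (S19864)
-/

set_option autoImplicit false
set_option linter.style.haveILetI false
universe u

open TensorProduct IsLocalRing

namespace Groth.Agent.Lib.Helper7.RegFS

open Groth.Agent.Lib.Helper28 Groth.Agent.Lib.Helper7.QFFF Groth.Agent.Lib.Helper7

/-- Regularity of `k' ⊗[R] Λ` can be checked on the localizations of `Λ` at the primes which are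
contractions of primes of `k' ⊗[R] Λ`. -/
theorem isRegularRing_tensor_of_forall_prime {R Λ : Type u} [CommRing R] [CommRing Λ]
    [Algebra R Λ] (k' : Type u) [CommRing k'] [Algebra R k'] [IsNoetherianRing (k' ⊗[R] Λ)]
    (h : ∀ (n : Ideal Λ) [n.IsPrime],
      (∃ 𝔱 : Ideal (k' ⊗[R] Λ), 𝔱.IsPrime ∧
        n = 𝔱.comap (Algebra.TensorProduct.includeRight (R := R) (A := k')).toRingHom) →
      IsRegularRing (k' ⊗[R] Localization.AtPrime n)) :
    IsRegularRing (k' ⊗[R] Λ) := by
  rw [isRegularRing_iff]
  intro 𝔱 h𝔱
  set n : Ideal Λ := 𝔱.comap (Algebra.TensorProduct.includeRight (R := R) (A := k')).toRingHom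
    with hn
  haveI : n.IsPrime := Ideal.comap_isPrime _ _
  letI : Algebra (k' ⊗[R] Λ) (k' ⊗[R] Localization.AtPrime n) :=
    (Algebra.TensorProduct.map (AlgHom.id R k')
      (IsScalarTower.toAlgHom R Λ (Localization.AtPrime n))).toAlgebra
  haveI : IsScalarTower k' (k' ⊗[R] Λ) (k' ⊗[R] Localization.AtPrime n) :=
    .of_algebraMap_eq <| by intro; simp [RingHom.algebraMap_toAlgebra]
  haveI hloc := IsLocalization.tensorProduct_tensorProduct_right R k' n.primeCompl
    (Localization.AtPrime n) (by ext; simp [RingHom.algebraMap_toAlgebra])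
  set M' := n.primeCompl.map (Algebra.TensorProduct.includeRight (R := R) (A := k')) with hM'
  have hdisj : Disjoint (M' : Set (k' ⊗[R] Λ)) (𝔱 : Set (k' ⊗[R] Λ)) := by
    rw [Set.disjoint_left]
    rintro _ ⟨x, hx, rfl⟩ hmem
    exact hx hmem
  have hprime : (𝔱.map (algebraMap (k' ⊗[R] Λ) (k' ⊗[R] Localization.AtPrime n))).IsPrime :=
    IsLocalization.isPrime_of_isPrime_disjoint M' _ 𝔱 h𝔱 hdisj
  have hcomap : (𝔱.map (algebraMap (k' ⊗[R] Λ) (k' ⊗[R] Localization.AtPrime n))).comap
      (algebraMap (k' ⊗[R] Λ) (k' ⊗[R] Localization.AtPrime n)) = 𝔱 :=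
    IsLocalization.comap_map_of_isPrime_disjoint M' _ h𝔱 hdisj
  haveI := h n ⟨𝔱, h𝔱, hn⟩
  haveI := hprime
  set 𝔱' := 𝔱.map (algebraMap (k' ⊗[R] Λ) (k' ⊗[R] Localization.AtPrime n)) with h𝔱'
  have : IsLocalization.AtPrime (Localization.AtPrime 𝔱')
      (𝔱'.comap (algebraMap (k' ⊗[R] Λ) (k' ⊗[R] Localization.AtPrime n))) :=
    IsLocalization.isLocalization_isLocalization_atPrime_isLocalization M'
      (Localization.AtPrime 𝔱') 𝔱'
  have h3 : IsRegularLocalRing (Localization.AtPrime
      (𝔱'.comap (algebraMap (k' ⊗[R] Λ) (k' ⊗[R] Localization.AtPrime n)))) :=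
    IsRegularLocalRing.of_ringEquiv (R := Localization.AtPrime 𝔱') (IsLocalization.algEquiv
      (𝔱'.comap (algebraMap (k' ⊗[R] Λ) (k' ⊗[R] Localization.AtPrime n))).primeCompl
      (Localization.AtPrime (𝔱'.comap (algebraMap (k' ⊗[R] Λ) (k' ⊗[R] Localization.AtPrime n))))
      (Localization.AtPrime 𝔱')).toRingEquiv.symm
  exact (isRegularLocalRing_congr_ideal hcomap).mp h3

section

variable (A B : Type u) [CommRing A] [CommRing B] [Algebra A B] [IsNoetherianRing A]
  [IsNoetherianRing B]

/-- regular ⇒ the local homomorphisms are formally smooth -/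
theorem isAdicFormallySmooth_localRingHom_of_isRegularHom (h : CAlg.IsRegularHom A B)
    (q : Ideal B) [q.IsPrime] :
    letI := (Localization.localRingHom (Ideal.comap (algebraMap A B) q) q (algebraMap A B)
      rfl).toAlgebra
    CAlgX.IsAdicFormallySmooth (Localization.AtPrime (Ideal.comap (algebraMap A B) q))
      (Localization.AtPrime q) (IsLocalRing.maximalIdeal (Localization.AtPrime q)) := by
  letI alg := (Localization.localRingHom (Ideal.comap (algebraMap A B) q) q (algebraMap A B)
      rfl).toAlgebra
  have h1 := RegLoc.isRegularHom_localRingHom A B h q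
  haveI : IsLocalHom (algebraMap (Localization.AtPrime (Ideal.comap (algebraMap A B) q))
      (Localization.AtPrime q)) := by
    rw [RingHom.algebraMap_toAlgebra]
    infer_instance
  haveI : IsNoetherianRing (Localization.AtPrime q) :=
    IsLocalization.isNoetherianRing q.primeCompl _ inferInstance
  haveI : IsNoetherianRing (Localization.AtPrime (Ideal.comap (algebraMap A B) q)) :=
    IsLocalization.isNoetherianRing (Ideal.comap (algebraMap A B) q).primeCompl _ inferInstance
  exact (Groth.Agent.Lib.Helper19.FSFlat.flat_and_isGeometricallyRegular_iff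
    (κ := (maximalIdeal (Localization.AtPrime (Ideal.comap (algebraMap A B) q))).ResidueField)
    (Ideal.algebraMap_residueField_surjective _) (Ideal.ker_algebraMap_residueField _)).1
    ⟨h1.1, (h1.2 (maximalIdeal _)).2⟩

/-- the local homomorphisms are formally smooth ⇒ regular -/
theorem isRegularHom_of_forall_isAdicFormallySmooth
    (H : ∀ (q : Ideal B) [q.IsPrime],
      letI := (Localization.localRingHom (Ideal.comap (algebraMap A B) q) q (algebraMap A B)
        rfl).toAlgebra
      CAlgX.IsAdicFormallySmooth (Localization.AtPrime (Ideal.comap (algebraMap A B) q))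
        (Localization.AtPrime q) (IsLocalRing.maximalIdeal (Localization.AtPrime q))) :
    CAlg.IsRegularHom A B := by
  -- the local data
  have key : ∀ (q : Ideal B) [q.IsPrime],
      letI := (Localization.localRingHom (Ideal.comap (algebraMap A B) q) q (algebraMap A B)
        rfl).toAlgebra
      Module.Flat (Localization.AtPrime (Ideal.comap (algebraMap A B) q))
        (Localization.AtPrime q) ∧
      CAlg.IsGeometricallyRegular
        (maximalIdeal (Localization.AtPrime (Ideal.comap (algebraMap A B) q))).ResidueField
        ((maximalIdeal (Localization.AtPrime (Ideal.comap (algebraMap A B) q))).Fiber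
          (Localization.AtPrime q)) := by
    intro q _
    letI alg := (Localization.localRingHom (Ideal.comap (algebraMap A B) q) q (algebraMap A B)
      rfl).toAlgebra
    haveI : IsLocalHom (algebraMap (Localization.AtPrime (Ideal.comap (algebraMap A B) q))
        (Localization.AtPrime q)) := by
      rw [RingHom.algebraMap_toAlgebra]
      infer_instance
    haveI : IsNoetherianRing (Localization.AtPrime q) :=
      IsLocalization.isNoetherianRing q.primeCompl _ inferInstance
    haveI : IsNoetherianRing (Localization.AtPrime (Ideal.comap (algebraMap A B) q)) :=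
      IsLocalization.isNoetherianRing (Ideal.comap (algebraMap A B) q).primeCompl _ inferInstance
    exact (Groth.Agent.Lib.Helper19.FSFlat.flat_and_isGeometricallyRegular_iff
      (κ := (maximalIdeal (Localization.AtPrime (Ideal.comap (algebraMap A B) q))).ResidueField)
      (Ideal.algebraMap_residueField_surjective _) (Ideal.ker_algebraMap_residueField _)).2 (H q)
  have hflat : Module.Flat A B := by
    apply Module.flat_of_isLocalized_maximal B B (fun P _ => Localization.AtPrime P)
      (fun P _ => Algebra.linearMap B _)
    intro n hn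
    letI alg := (Localization.localRingHom (Ideal.comap (algebraMap A B) n) n (algebraMap A B)
      rfl).toAlgebra
    haveI : IsScalarTower A (Localization.AtPrime (Ideal.comap (algebraMap A B) n))
        (Localization.AtPrime n) :=
      .of_algebraMap_eq fun x => (Localization.localRingHom_to_map _ _ _ rfl x).symm
    haveI : Module.Flat (Localization.AtPrime (Ideal.comap (algebraMap A B) n))
        (Localization.AtPrime n) := (key n).1
    exact Module.Flat.trans A (Localization.AtPrime (Ideal.comap (algebraMap A B) n))
      (Localization.AtPrime n)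
  refine ⟨hflat, fun P _ => ⟨isNoetherianRing_fiber P, ?_⟩⟩
  intro k' _ _ hfin
  letI : Algebra A k' := ((algebraMap P.ResidueField k').comp (algebraMap A P.ResidueField)).toAlgebra
  haveI : IsScalarTower A P.ResidueField k' := IsScalarTower.of_algebraMap_eq fun _ => rfl
  haveI hNF : IsNoetherianRing (P.Fiber B) := isNoetherianRing_fiber P
  haveI hN1 : IsNoetherianRing ((P.Fiber B) ⊗[P.ResidueField] k') :=
    IsNoetherianRing.of_finite (P.Fiber B) _
  haveI hN2 : IsNoetherianRing (k' ⊗[P.ResidueField] (P.Fiber B)) :=
    isNoetherianRing_of_ringEquiv _ (Algebra.TensorProduct.comm P.ResidueField (P.Fiber B) k').toRingEquiv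
  haveI hN3 : IsNoetherianRing (k' ⊗[A] B) :=
    isNoetherianRing_of_ringEquiv _
      (Algebra.TensorProduct.cancelBaseChange A P.ResidueField k' k' B).toRingEquiv
  have hkerk' : ∀ a : A, algebraMap A k' a = 0 ↔ a ∈ P := by
    intro a
    rw [IsScalarTower.algebraMap_apply A P.ResidueField k', map_eq_zero_iff _
      (algebraMap P.ResidueField k').injective, Ideal.algebraMap_residueField_eq_zero]
  have keyreg : IsRegularRing (k' ⊗[A] B) := by
    apply isRegularRing_tensor_of_forall_prime k'
    rintro n hnprime ⟨𝔱, h𝔱, hn𝔱⟩
    letI alg := (Localization.localRingHom (Ideal.comap (algebraMap A B) n) n (algebraMap A B)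
      rfl).toAlgebra
    -- `n` lies over `P`
    have hPn : Ideal.comap (algebraMap A B) n = P := by
      ext a
      rw [Ideal.mem_comap, hn𝔱, Ideal.mem_comap, ← hkerk' a]
      have h1 : (Algebra.TensorProduct.includeRight (R := A) (A := k')).toRingHom
          (algebraMap A B a) = (algebraMap A k' a) ⊗ₜ[A] (1 : B) := by
        change (1 : k') ⊗ₜ[A] (algebraMap A B a) = _
        rw [Algebra.algebraMap_eq_smul_one, Algebra.algebraMap_eq_smul_one,
          TensorProduct.tmul_smul, TensorProduct.smul_tmul']
      rw [h1]
      constructor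
      · intro hmem
        by_contra hne
        have hu : IsUnit (algebraMap A k' a) := (isUnit_iff_ne_zero).2 hne
        have hu' : IsUnit ((algebraMap A k' a) ⊗ₜ[A] (1 : B)) :=
          hu.map (Algebra.TensorProduct.includeLeft (R := A) (S := A) (A := k') (B := B))
        exact h𝔱.ne_top (Ideal.eq_top_of_isUnit_mem _ hmem hu')
      · intro h0
        rw [h0, TensorProduct.zero_tmul]
        exact 𝔱.zero_mem
    have hP'under : (maximalIdeal (Localization.AtPrime
        (Ideal.comap (algebraMap A B) n))).under A = P := by
      rw [← hPn]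
      exact IsLocalization.AtPrime.under_maximalIdeal _ _
    have hK := RegLoc2.geomRegular_fiber_of_localRingHom A B n (maximalIdeal (Localization.AtPrime
        (Ideal.comap (algebraMap A B) n))) P hP'under.symm (key n).2
    haveI := hK k' hfin
    exact IsRegularRing.of_ringEquiv
      (Algebra.TensorProduct.cancelBaseChange A P.ResidueField k' k'
        (Localization.AtPrime n)).toRingEquiv
  exact IsRegularRing.of_ringEquiv
    (Algebra.TensorProduct.cancelBaseChange A P.ResidueField k' k' B).toRingEquiv.symm

end

end Groth.Agent.Lib.Helper7.RegFS
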