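import Mathlib
import Groth.Agent.Lib.Helper7CIAvr2
import Groth.Agent.Lib.Helper7CILocus
import Groth.Agent.Lib.Helper7CIBC
import Groth.Agent.Lib.Helper7RegFS
import Groth.Agent.Lib.Helper19FSLiftUnique
import Groth.Agent.Lib.Helper19FSFlat
import Groth.Agent.Lib.Helper19FSComplMap
import Groth.Agent.Lib.Helper28FlatNormal
import Groth.Agent.Lib.Helper28FibreTrans
import Groth.Agent.Lib.Helper5GorComp

/-! # A formally smooth local algebra over a complete intersection is a complete intersection
(helper7)

`ci_of_isAdicFormallySmooth`: for a local homomorphism `R → S` of Noetherian local rings which is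
formally smooth for the adic topologies, `R` a complete intersection implies `S` a complete
intersection.  (Lift the completion of `S` to a flat formally smooth algebra over a regular
presentation of the completion of `R`.)

`ci_fibLocRing_comp_of_isRegularHom`: complete intersection fibres compose with regular maps. -/

set_option autoImplicit false
set_option linter.style.haveILetI false
set_option linter.unusedSectionVars false
universe u

namespace Groth.Agent.Lib.Helper7.CIFS

open IsLocalRing TensorProduct Groth.Agent.Lib.Helper19 Groth.Agent.Lib.Helper19.FSFibre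
  Groth.Agent.Lib.Helper19.FSLiftUnique Groth.Agent.Lib.Helper7.CIAvr
  Groth.Agent.Lib.Helper7.CILocus

section transport

/-- formal smoothness is invariant under an isomorphism of the base ring -/
theorem isFormallySmoothAdic_of_ringEquiv {A A' B : Type u} [CommRing A] [CommRing A']
    [CommRing B] [Algebra A B] [Algebra A' B] (e : A' ≃+* A)
    (he : ∀ a', algebraMap A' B a' = algebraMap A B (e a')) (𝔞' : Ideal A') (𝔟 : Ideal B)
    (h : EGA41.IsFormallySmoothAdic A ⊥ B 𝔟) : EGA41.IsFormallySmoothAdic A' 𝔞' B 𝔟 := by
  intro C _ _ J hJ _ u hu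
  letI algAC : Algebra A C := ((algebraMap A' C).comp e.symm.toRingHom).toAlgebra
  let u' : B →ₐ[A] C ⧸ J :=
    { u.toRingHom with
      commutes' := fun a => by
        have h1 : algebraMap A B a = algebraMap A' B (e.symm a) := by
          rw [he, e.apply_symm_apply]
        change u (algebraMap A B a) = _
        rw [h1, u.commutes]
        rfl }
  obtain ⟨v', hv'⟩ := h C J hJ ⟨1, by simp⟩ u' hu
  let v : B →ₐ[A'] C :=
    { v'.toRingHom with
      commutes' := fun a' => by
        change v' (algebraMap A' B a') = _
        rw [he, v'.commutes]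
        change algebraMap A' C (e.symm (e a')) = _
        rw [e.symm_apply_apply] }
  refine ⟨v, ?_⟩
  ext b
  exact congrArg (fun f => f b) hv'

end transport

section loc

variable {R S : Type u} [CommRing R] [CommRing S] [IsLocalRing R] [IsLocalRing S]
  [IsNoetherianRing R] [IsNoetherianRing S] [Algebra R S] [IsLocalHom (algebraMap R S)]

/-- the completion map of a formally smooth local homomorphism is formally smooth -/
theorem isFormallySmoothAdic_completion_map
    (hfs : CAlgX.IsAdicFormallySmooth R S (maximalIdeal S))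
    (ψ : AdicCompletion (maximalIdeal R) R →+* AdicCompletion (maximalIdeal S) S)
    (hψ : ψ.comp (algebraMap R (AdicCompletion (maximalIdeal R) R)) =
        (algebraMap S (AdicCompletion (maximalIdeal S) S)).comp (algebraMap R S)) :
    letI : Algebra (AdicCompletion (maximalIdeal R) R) (AdicCompletion (maximalIdeal S) S) :=
      ψ.toAlgebra
    EGA41.IsFormallySmoothAdic (AdicCompletion (maximalIdeal R) R) ⊥
      (AdicCompletion (maximalIdeal S) S) (maximalIdeal (AdicCompletion (maximalIdeal S) S)) := by
  letI : Algebra (AdicCompletion (maximalIdeal R) R) (AdicCompletion (maximalIdeal S) S) :=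
      ψ.toAlgebra
  have h1 : EGA41.IsFormallySmoothAdic R ⊥ S (maximalIdeal S) :=
    (isAdicFormallySmooth_iff_isFormallySmoothAdic_bot _).1 hfs
  have h2 := (isFormallySmoothAdic_iff_adicCompletion (⊥ : Ideal R) (maximalIdeal S)).1 h1
  have h3 := (isAdicFormallySmooth_iff_isFormallySmoothAdic_bot _).2 h2
  have h4 := (isAdicFormallySmooth_completion_iff_completion_map (maximalIdeal R) (maximalIdeal S)
    (IsNoetherian.noetherian _) ⟨1, by
      rw [pow_one]; exact IsLocalRing.map_maximalIdeal_le (algebraMap R S)⟩ ψ hψ).1 h3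
  rw [AdicCompletion.maximalIdeal_eq_map]
  exact (isAdicFormallySmooth_iff_isFormallySmoothAdic_bot _).1 h4

omit [IsLocalHom (algebraMap R S)] in
/-- the completion map of a local homomorphism is local -/
theorem isLocalHom_completion_map [IsLocalHom (algebraMap R S)]
    (ψ : AdicCompletion (maximalIdeal R) R →+* AdicCompletion (maximalIdeal S) S)
    (hψ : ψ.comp (algebraMap R (AdicCompletion (maximalIdeal R) R)) =
        (algebraMap S (AdicCompletion (maximalIdeal S) S)).comp (algebraMap R S)) :
    IsLocalHom ψ := by
  apply ((IsLocalRing.local_hom_TFAE ψ).out 0 2).mpr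
  rw [AdicCompletion.maximalIdeal_eq_map, Ideal.map_map, hψ, ← Ideal.map_map,
    AdicCompletion.maximalIdeal_eq_map]
  exact Ideal.map_mono (IsLocalRing.map_maximalIdeal_le (algebraMap R S))

set_option maxHeartbeats 1000000 in
/-- **A formally smooth local algebra over a complete intersection is a complete
intersection.** -/
theorem ci_of_isAdicFormallySmooth (hfs : CAlgX.IsAdicFormallySmooth R S (maximalIdeal S))
    (hR : Pi1.IsCompleteIntersection R) : Pi1.IsCompleteIntersection S := by
  haveI hNR : IsNoetherianRing (AdicCompletion (maximalIdeal R) R) :=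
    isNoetherianRing_adicCompletion _
  haveI hNS : IsNoetherianRing (AdicCompletion (maximalIdeal S) S) :=
    isNoetherianRing_adicCompletion _
  obtain ⟨ψ, hψ⟩ := exists_completion_map R S
  have hfsψ := isFormallySmoothAdic_completion_map hfs ψ hψ
  have hlocψ := isLocalHom_completion_map ψ hψ
  obtain ⟨T, i1, i2, rs, hmem, hreg, ⟨e⟩⟩ := hR
  have hJle : Ideal.ofList rs ≤ maximalIdeal T := Ideal.span_le.2 (fun r hr => hmem r hr)
  haveI : Nontrivial (T ⧸ Ideal.ofList rs) := Ideal.Quotient.nontrivial_iff.2
    (ne_top_of_le_ne_top (maximalIdeal.isMaximal T).ne_top hJle)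
  haveI : IsLocalRing (T ⧸ Ideal.ofList rs) :=
    IsLocalRing.of_surjective' (Ideal.Quotient.mk _) Ideal.Quotient.mk_surjective
  have e' : AdicCompletion (maximalIdeal R) R ≃+* T ⧸ Ideal.ofList rs := e
  letI algTS : Algebra (T ⧸ Ideal.ofList rs) (AdicCompletion (maximalIdeal S) S) :=
    (ψ.comp e'.symm.toRingHom).toAlgebra
  letI algRS : Algebra (AdicCompletion (maximalIdeal R) R) (AdicCompletion (maximalIdeal S) S) :=
    ψ.toAlgebra
  have hfs' : EGA41.IsFormallySmoothAdic (T ⧸ Ideal.ofList rs) (maximalIdeal (T ⧸ Ideal.ofList rs))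
      (AdicCompletion (maximalIdeal S) S) (maximalIdeal (AdicCompletion (maximalIdeal S) S)) :=
    isFormallySmoothAdic_of_ringEquiv e'.symm (fun a' => rfl) _ _ hfsψ
  haveI hlocTS : IsLocalHom (algebraMap (T ⧸ Ideal.ofList rs)
      (AdicCompletion (maximalIdeal S) S)) := by
    rw [RingHom.algebraMap_toAlgebra]
    haveI : IsLocalHom e'.symm.toRingHom :=
      ⟨fun a ha => by
        have := ha.map e'.toRingHom
        simpa using this⟩
    exact RingHom.isLocalHom_comp _ _
  haveI hcomplS : IsAdicComplete (maximalIdeal (AdicCompletion (maximalIdeal S) S))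
      (AdicCompletion (maximalIdeal S) S) := by
    rw [AdicCompletion.maximalIdeal_eq_map]
    exact AdicCompletion.isAdicComplete_self _ (IsNoetherian.noetherian _)
  obtain ⟨E, iE1, iE2, iE3, iE4, iE5, hEc, hEflat, ⟨uE⟩⟩ :=
    exists_flat_lift (Ideal.ofList rs) (AdicCompletion (maximalIdeal S) S) hJle hfs'
  have hπs := fibreMap_surjective (Ideal.ofList rs) uE
  have hπk := ker_fibreMap (Ideal.ofList rs) uE
  have hπA := fibreMap_algebraMap (Ideal.ofList rs) uE
  have hcomm : (algebraMap (T ⧸ Ideal.ofList rs) (AdicCompletion (maximalIdeal S) S)).comp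
      (Ideal.Quotient.mk (Ideal.ofList rs)) =
      (fibreMap (Ideal.ofList rs) uE).comp (algebraMap T E) :=
    RingHom.ext fun t => (hπA t).symm
  haveI hflatTS : Module.Flat (T ⧸ Ideal.ofList rs) (AdicCompletion (maximalIdeal S) S) :=
    FSFlat.flat_of_isFormallySmoothAdic hfs'
  -- the closed fibre of `T/J → Ŝ` is regular
  have hmC₀ : (maximalIdeal (AdicCompletion (maximalIdeal S) S)).map (Ideal.Quotient.mk
      (EGA4.mB (T ⧸ Ideal.ofList rs) (AdicCompletion (maximalIdeal S) S))) =
      maximalIdeal (EGA4.FibRing (T ⧸ Ideal.ofList rs) (AdicCompletion (maximalIdeal S) S)) :=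
    FlatResExt.map_maximalIdeal_of_surjective (Ideal.Quotient.mk _) Ideal.Quotient.mk_surjective
  have hC₀ : EGA41.IsFormallySmoothAdic
      ((T ⧸ Ideal.ofList rs) ⧸ maximalIdeal (T ⧸ Ideal.ofList rs)) ⊥
      (EGA4.FibRing (T ⧸ Ideal.ofList rs) (AdicCompletion (maximalIdeal S) S))
      (maximalIdeal (EGA4.FibRing (T ⧸ Ideal.ofList rs) (AdicCompletion (maximalIdeal S) S))) := by
    rw [← hmC₀]
    exact isFormallySmoothAdic_quotient_of_isFormallySmoothAdic _ _ hfs'
  letI : Field ((T ⧸ Ideal.ofList rs) ⧸ maximalIdeal (T ⧸ Ideal.ofList rs)) :=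
    Ideal.Quotient.field _
  haveI hregF : IsRegularLocalRing
      (EGA4.FibRing (T ⧸ Ideal.ofList rs) (AdicCompletion (maximalIdeal S) S)) :=
    (FSGeomReg.isRegular_and_completion_of_isAdicFormallySmooth
      (k := (T ⧸ Ideal.ofList rs) ⧸ maximalIdeal (T ⧸ Ideal.ofList rs))
      ((isAdicFormallySmooth_iff_isFormallySmoothAdic_bot _).2 hC₀)).1
  -- the closed fibre of `T → E` is the same ring
  obtain ⟨φ, hφs, hφk⟩ := exists_fibMap (Ideal.Quotient.mk (Ideal.ofList rs))
    Ideal.Quotient.mk_surjective (fibreMap (Ideal.ofList rs) uE) hπs hcomm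
  have hφinj : Function.Injective φ := by
    rw [RingHom.injective_iff_ker_eq_bot, hφk, hπk, Ideal.map_eq_bot_iff_le_ker, Ideal.mk_ker]
    exact Ideal.map_mono hJle
  haveI hregFE : IsRegularLocalRing (EGA4.FibRing T E) :=
    IsRegularLocalRing.of_ringEquiv (RingEquiv.ofBijective φ ⟨hφinj, hφs⟩).symm
  haveI hregE : IsRegularLocalRing E :=
    Groth.Agent.Lib.Helper28.isRegularLocalRing_of_flat_of_isRegularLocalRing_fibre
      (R := T) (S := E) (EGA4.mB T E) rfl
  have hA : Pi1.IsCompleteIntersection (T ⧸ Ideal.ofList rs) :=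
    Groth.Agent.S2165.isCompleteIntersection_quotient_ofList rs hreg
  have hCI : Pi1.IsCompleteIntersection (AdicCompletion (maximalIdeal S) S) :=
    ci_of_flat_core (Ideal.Quotient.mk (Ideal.ofList rs)) Ideal.Quotient.mk_surjective
      (fibreMap (Ideal.ofList rs) uE) hπs hcomm hA
      (isCompleteIntersection_of_isRegularLocalRing _)
  exact (ci_iff_of_flat_unramified S (AdicCompletion (maximalIdeal S) S)
    AdicCompletion.maximalIdeal_eq_map.symm (AdicCompletion.residueField_map_bijective S)).2 hCI

end loc
open Groth.Agent.Lib.Helper7.CIBC Groth.Agent.Lib.Helper28 Groth.Agent.Lib.Helper5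

section comp

variable {A B C : Type u} [CommRing A] [CommRing B] [CommRing C] [IsNoetherianRing B]
  [IsNoetherianRing C] [Algebra A B] [Algebra B C] [Algebra A C] [IsScalarTower A B C]

set_option maxHeartbeats 1000000 in
/-- complete intersection fibre local rings compose with a regular homomorphism -/
theorem cip_fibLocRing_comp_of_isRegularHom (hBC : CAlg.IsRegularHom B C) (r : Ideal C)
    [r.IsPrime] (h : CIP (EGA4.FibLocRing A B (r.comap (algebraMap B C)))) :
    CIP (EGA4.FibLocRing A C r) := by
  set q : Ideal B := r.comap (algebraMap B C) with hq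
  have hlies : r.LiesOver q := ⟨rfl⟩
  letI alg := Localization.AtPrime.algebraOfLiesOver q r
  haveI hloc : IsLocalHom (algebraMap (Localization.AtPrime q) (Localization.AtPrime r)) := by
    rw [RingHom.algebraMap_toAlgebra]
    exact Localization.isLocalHom_localRingHom q r (algebraMap B C) Ideal.LiesOver.over
  haveI : IsNoetherianRing (Localization.AtPrime q) :=
    IsLocalization.isNoetherianRing q.primeCompl _ inferInstance
  haveI : IsNoetherianRing (Localization.AtPrime r) :=
    IsLocalization.isNoetherianRing r.primeCompl _ inferInstance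
  have hfs : CAlgX.IsAdicFormallySmooth (Localization.AtPrime q) (Localization.AtPrime r)
      (maximalIdeal (Localization.AtPrime r)) :=
    Groth.Agent.Lib.Helper7.RegFS.isAdicFormallySmooth_localRingHom_of_isRegularHom B C hBC r
  set p : Ideal A := q.comap (algebraMap A B) with hp
  have hpC : r.comap (algebraMap A C) = p := by
    rw [hp, hq, Ideal.comap_comap, ← IsScalarTower.algebraMap_eq]
  set I : Ideal (Localization.AtPrime q) := p.map (algebraMap A (Localization.AtPrime q)) with hI
  haveI hS : IsLocalRing (Localization.AtPrime q ⧸ I) := isLocalRing_fibLocRing (A := A) q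
  have hIne : I ≠ ⊤ := ne_top_of_isLocalRing_quotient I
  have hJne : I.map (algebraMap (Localization.AtPrime q) (Localization.AtPrime r)) ≠ ⊤ :=
    map_ne_top_of_isLocalHom I hIne
  haveI hT : IsLocalRing (Localization.AtPrime r ⧸
      I.map (algebraMap (Localization.AtPrime q) (Localization.AtPrime r))) :=
    isLocalRing_quotient hJne
  haveI hlocST := isLocalHom_quotient_map (A := Localization.AtPrime q)
    (A' := Localization.AtPrime r) I
  have h1 : EGA41.IsFormallySmoothAdic (Localization.AtPrime q) I (Localization.AtPrime r)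
      (maximalIdeal (Localization.AtPrime r)) :=
    isFormallySmoothAdic_of_bot _ _ ((isAdicFormallySmooth_iff_isFormallySmoothAdic_bot _).1 hfs)
  have h2 := isFormallySmoothAdic_quotient_of_isFormallySmoothAdic I
    (maximalIdeal (Localization.AtPrime r)) h1
  rw [← maximalIdeal_quotient_eq_map] at h2
  have h3 := (isAdicFormallySmooth_iff_isFormallySmoothAdic_bot _).2 h2
  obtain ⟨_, _, hci⟩ := h
  have h4 : Pi1.IsCompleteIntersection (Localization.AtPrime r ⧸
      I.map (algebraMap (Localization.AtPrime q) (Localization.AtPrime r))) :=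
    ci_of_isAdicFormallySmooth (R := Localization.AtPrime q ⧸ I) h3 hci
  have hJ : I.map (algebraMap (Localization.AtPrime q) (Localization.AtPrime r)) =
      (r.comap (algebraMap A C)).map (algebraMap A (Localization.AtPrime r)) := by
    rw [hpC, hI, Ideal.map_map, ← IsScalarTower.algebraMap_eq]
  have hcip : CIP (Localization.AtPrime r ⧸
      I.map (algebraMap (Localization.AtPrime q) (Localization.AtPrime r))) :=
    ⟨inferInstance, inferInstance, h4⟩
  exact isoInv_cip _ _ (Ideal.quotEquivOfEq hJ) hcip

end comp
end Groth.Agent.Lib.Helper7.CIFS
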