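import Mathlib
import Groth.Agent.Lib.Helper7FlatPs

/-!
# Helper7CMFree: lifting freeness from the closed fibre; finiteness over a subring with the same
residue field (helper7)
-/

set_option autoImplicit false
set_option linter.style.haveILetI false
set_option linter.unusedSectionVars false
universe u

namespace Groth.Agent.Lib.Helper7.CMFree

open IsLocalRing

/-- a module of finite length over a local ring `R` is finite over any ring `A` mapping onto the
residue field of `R` -/
theorem finite_of_isFiniteLength_of_residue {A R : Type*} [CommRing A] [CommRing R] [Algebra A R]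
    [IsLocalRing R] (hres : ∀ r : R, ∃ a : A, r - algebraMap A R a ∈ maximalIdeal R)
    {M : Type*} [AddCommGroup M] [Module R M] [Module A M] [IsScalarTower A R M]
    (h : IsFiniteLength R M) : Module.Finite A M := by
  induction h with
  | of_subsingleton => exact Module.Finite.of_subsingleton _ _
  | @of_simple_quotient M _ _ N _ hN ih =>
    haveI : Module.Finite A N := ih
    have hkill : ∀ μ ∈ maximalIdeal R, ∀ y : M ⧸ N, μ • y = 0 := by
      intro μ hμ y
      have hmax : (Module.annihilator R (M ⧸ N)).IsMaximal :=
        IsSimpleModule.annihilator_isMaximal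
      rw [← IsLocalRing.eq_maximalIdeal hmax] at hμ
      exact Module.mem_annihilator.1 hμ y
    obtain ⟨x0, hx0⟩ := exists_ne (0 : M ⧸ N)
    obtain ⟨x, rfl⟩ := Submodule.Quotient.mk_surjective N x0
    have hspan := IsSimpleModule.toSpanSingleton_surjective R hx0
    let g : (N × A) →ₗ[A] M :=
      (N.subtype.restrictScalars A).coprod (LinearMap.toSpanSingleton A M x)
    refine Module.Finite.of_surjective g ?_
    intro m
    obtain ⟨r, hr⟩ := hspan (Submodule.Quotient.mk m)
    obtain ⟨a, ha⟩ := hres r
    have h1 : (Submodule.Quotient.mk m : M ⧸ N) = Submodule.Quotient.mk (a • x) := by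
      rw [← hr, LinearMap.toSpanSingleton_apply]
      have : r = algebraMap A R a + (r - algebraMap A R a) := by ring
      rw [this, add_smul, hkill _ ha, add_zero, algebraMap_smul, Submodule.Quotient.mk_smul]
    have h2 : m - a • x ∈ N := (Submodule.Quotient.eq N).1 h1
    refine ⟨(⟨m - a • x, h2⟩, a), ?_⟩
    simp [g]

end Groth.Agent.Lib.Helper7.CMFree
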