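import Mathlib
import Groth.Agent.Lib.Helper7CdJApprox

/-!
# Extending a ring map to the adic completion of the source when the target is complete (helper7)
-/

set_option autoImplicit false
set_option linter.style.haveILetI false
universe u

namespace Groth.Agent.Lib.Helper7.CdJCompl

open Groth.Agent.Lib.Helper7 Groth.Agent.Lib.Helper7.CdJApprox

variable {P R : Type u} [CommRing P] [CommRing R] (mP : Ideal P) (mR : Ideal R)
  [IsAdicComplete mR R] (ι : P →+* R)

theorem exists_extension (hmfg : mP.FG) (hle : mP.map ι ≤ mR) :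
    ∃ ι' : AdicCompletion mP P →+* R, ∀ p, ι' (algebraMap P (AdicCompletion mP P) p) = ι p := by
  have hle' : ∀ j, mP ^ j ≤ (mR ^ j).comap ι := by
    intro j
    rw [← Ideal.map_le_iff_le_comap, Ideal.map_pow]
    exact Ideal.pow_right_mono hle j
  let f : (j : ℕ) → AdicCompletion mP P →+* R ⧸ mR ^ j := fun j =>
    (Ideal.quotientMap (mR ^ j) ι (hle' j)).comp (AdicCompletion.evalₐ mP j).toRingHom
  have hf_alg : ∀ j p, f j (algebraMap P (AdicCompletion mP P) p) = Ideal.Quotient.mk _ (ι p) := by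
    intro j p
    change Ideal.quotientMap (mR ^ j) ι (hle' j)
      (AdicCompletion.evalₐ mP j (algebraMap P (AdicCompletion mP P) p)) = _
    rw [AdicCompletion.algebraMap_apply, Algebra.algebraMap_self, RingHom.id_apply,
      AdicCompletion.evalₐ_of, Ideal.quotientMap_mk]
  have hf_zero : ∀ j x, x ∈ M mP ^ j → f j x = 0 := by
    intro j x hx
    change Ideal.quotientMap (mR ^ j) ι (hle' j) (AdicCompletion.evalₐ mP j x) = 0
    rw [(mem_M_pow_iff mP hmfg j x).mp hx, map_zero]
  have compat : ∀ {a b : ℕ} (hab : a ≤ b), (Ideal.Quotient.factorPow mR hab).comp (f b) = f a := by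
    intro a b hab
    ext x
    obtain ⟨p, hp⟩ := exists_sub_mem_M_pow mP hmfg b x
    have h1 : f b x = f b (algebraMap P _ p) := by
      rw [← sub_eq_zero, ← map_sub]; exact hf_zero b _ hp
    have h2 : f a x = f a (algebraMap P _ p) := by
      rw [← sub_eq_zero, ← map_sub]
      exact hf_zero a _ (Ideal.pow_le_pow_right hab hp)
    rw [RingHom.comp_apply, h1, h2, hf_alg, hf_alg]
    rfl
  refine ⟨IsAdicComplete.liftRingHom mR f compat, ?_⟩
  intro p
  have hH : IsHausdorff mR R := inferInstance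
  rw [← sub_eq_zero]
  apply hH.haus'
  intro j
  rw [SModEq.zero, smul_eq_mul, Ideal.mul_top, ← Ideal.Quotient.eq_zero_iff_mem, map_sub,
    IsAdicComplete.mk_liftRingHom, hf_alg, sub_self]

variable {mP mR ι}

theorem surjective_of_extension (ι' : AdicCompletion mP P →+* R)
    (hι' : ∀ p, ι' (algebraMap P (AdicCompletion mP P) p) = ι p)
    (hmfg : mP.FG) (hm : mP.map ι = mR) (hres : ∀ r : R, ∃ p : P, r - ι p ∈ mR) :
    Function.Surjective ι' := by
  haveI : IsAdicComplete (M mP) (AdicCompletion mP P) := AdicCompletion.isAdicComplete_self mP hmfg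
  have hcomp : ι'.comp (algebraMap P (AdicCompletion mP P)) = ι := RingHom.ext hι'
  have hMmap : (M mP).map ι' = mR := by
    rw [Ideal.map_map, hcomp, hm]
  haveI : IsHausdorff ((M mP).map ι') R := by rw [hMmap]; infer_instance
  apply surjective_of_mk_map_comp_surjective (I := M mP) ι'
  intro z
  obtain ⟨r, rfl⟩ := Ideal.Quotient.mk_surjective z
  obtain ⟨p, hp⟩ := hres r
  refine ⟨algebraMap P _ p, ?_⟩
  rw [RingHom.comp_apply, hι', eq_comm, Ideal.Quotient.eq, hMmap]
  exact hp

theorem mem_pow_iff_of_extension (ι' : AdicCompletion mP P →+* R)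
    (hι' : ∀ p, ι' (algebraMap P (AdicCompletion mP P) p) = ι p)
    (hmfg : mP.FG) (hm : mP.map ι = mR) (hres : ∀ r : R, ∃ p : P, r - ι p ∈ mR)
    (j : ℕ) (x : AdicCompletion mP P) :
    ι' x ∈ mR ^ j ↔ x ∈ M mP ^ j ⊔ RingHom.ker ι' := by
  have hsurj := surjective_of_extension ι' hι' hmfg hm hres
  have hcomp : ι'.comp (algebraMap P (AdicCompletion mP P)) = ι := RingHom.ext hι'
  have hMmap : (M mP ^ j).map ι' = mR ^ j := by
    rw [Ideal.map_pow, Ideal.map_map, hcomp, hm]
  rw [← Ideal.comap_map_of_surjective' ι' hsurj, hMmap, Ideal.mem_comap]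

end Groth.Agent.Lib.Helper7.CdJCompl
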