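import Mathlib

/-!
# The Conrad–de Jong lemma on initial ideals of approximated ideals (helper7)

Let `Λ` be a Noetherian ring, `m` an ideal and `I` an ideal.  There are generators `β` of `I`,
generators `cols` of the module of relations between the `β` and a number `c` (from Artin–Rees)
such that for every `N' > c` and every approximation `β'', cols''` of `β, cols` modulo `m ^ N'`
which is again a complex (`∑ j, cols'' l j * β'' j = 0`), the ideals `I` and `I'' = (β'')` have the
same initial forms: for `x ∈ m ^ n`, `x ∈ I + m ^ (n+1) ↔ x ∈ I'' + m ^ (n+1)`.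
-/

set_option autoImplicit false

namespace Groth.Agent.Lib.Helper7.CdJCore

variable {Λ : Type*} [CommRing Λ]

/-- coordinatewise description of `J • ⊤` in a finite free module -/
theorem mem_smul_top_pi_iff {ι : Type*} [Fintype ι] (J : Ideal Λ) (v : ι → Λ) :
    v ∈ (J • ⊤ : Submodule Λ (ι → Λ)) ↔ ∀ j, v j ∈ J := by
  classical
  constructor
  · intro hv
    refine Submodule.smul_induction_on hv ?_ ?_
    · intro r hr n _ j
      rw [Pi.smul_apply, smul_eq_mul]
      exact Ideal.mul_mem_right _ _ hr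
    · intro x y hx hy j
      rw [Pi.add_apply]
      exact Ideal.add_mem _ (hx j) (hy j)
  · intro hv
    rw [pi_eq_sum_univ v]
    refine Submodule.sum_mem _ fun i _ => ?_
    exact Submodule.smul_mem_smul (hv i) Submodule.mem_top

/-- a linear combination with coefficients in `J₁` of elements of `J₂` lies in `J₁ * J₂` -/
theorem sum_mul_mem {ι : Type*} [Fintype ι] (J₁ J₂ : Ideal Λ) (a b : ι → Λ)
    (ha : ∀ j, a j ∈ J₁) (hb : ∀ j, b j ∈ J₂) : ∑ j, a j * b j ∈ J₁ * J₂ :=
  Ideal.sum_mem _ fun j _ => Ideal.mul_mem_mul (ha j) (hb j)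

theorem sum_mul_mem_pow {ι : Type*} [Fintype ι] (m : Ideal Λ) (p q t : ℕ) (hpq : t ≤ p + q)
    (a b : ι → Λ) (ha : ∀ j, a j ∈ m ^ p) (hb : ∀ j, b j ∈ m ^ q) : ∑ j, a j * b j ∈ m ^ t := by
  have h1 := sum_mul_mem (m ^ p) (m ^ q) a b ha hb
  rw [← pow_add] at h1
  exact Ideal.pow_le_pow_right hpq h1

section main

variable [IsNoetherianRing Λ] (m I : Ideal Λ)

theorem exists_data :
    ∃ (s r : ℕ) (β : Fin s → Λ) (cols : Fin r → Fin s → Λ) (c : ℕ),
      Ideal.span (Set.range β) = I ∧ (∀ l, ∑ j, cols l j * β j = 0) ∧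
      ∀ (N' : ℕ), c < N' → ∀ (β'' : Fin s → Λ) (cols'' : Fin r → Fin s → Λ),
        (∀ j, β j - β'' j ∈ m ^ N') → (∀ l j, cols l j - cols'' l j ∈ m ^ N') →
        (∀ l, ∑ j, cols'' l j * β'' j = 0) →
        ∀ (n : ℕ) (x : Λ), x ∈ m ^ n →
          (x ∈ I ⊔ m ^ (n + 1) ↔ x ∈ Ideal.span (Set.range β'') ⊔ m ^ (n + 1)) := by
  classical
  -- generators of `I`
  obtain ⟨s, β, hβ⟩ := Submodule.fg_iff_exists_fin_generating_family.mp
    (IsNoetherian.noetherian I)
  let Bβ : (Fin s → Λ) →ₗ[Λ] Λ := Fintype.linearCombination Λ β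
  have hBβ : ∀ v, Bβ v = ∑ j, v j * β j := fun v => rfl
  have hrangeβ : LinearMap.range Bβ = I := by
    rw [Fintype.range_linearCombination]; exact hβ
  -- generators of the relations
  let K : Submodule Λ (Fin s → Λ) := LinearMap.ker Bβ
  obtain ⟨r, cols, hcols⟩ := Submodule.fg_iff_exists_fin_generating_family.mp
    (IsNoetherian.noetherian K)
  let Bα : (Fin r → Λ) →ₗ[Λ] (Fin s → Λ) := Fintype.linearCombination Λ cols
  have hBα : ∀ d j, Bα d j = ∑ l, d l * cols l j := by
    intro d j
    change (∑ l, d l • cols l) j = _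
    rw [Finset.sum_apply]
    rfl
  have hrangeα : LinearMap.range Bα = K := by
    rw [Fintype.range_linearCombination]; exact hcols
  have hcolsK : ∀ l, ∑ j, cols l j * β j = 0 := by
    intro l
    have h1 : cols l ∈ K := by rw [← hcols]; exact Submodule.subset_span ⟨l, rfl⟩
    exact h1
  -- Artin–Rees
  obtain ⟨c₁, hc₁⟩ := Ideal.exists_pow_inf_eq_pow_smul m (I : Submodule Λ Λ)
  obtain ⟨c₂, hc₂⟩ := Ideal.exists_pow_inf_eq_pow_smul m K
  let c := max c₁ c₂
  -- (K1)
  have K1 : ∀ (n : ℕ) (x : Λ), x ∈ I → x ∈ m ^ n →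
      ∃ a : Fin s → Λ, (∀ j, a j ∈ m ^ (n - c)) ∧ x = ∑ j, a j * β j := by
    intro n x hxI hxn
    by_cases hn : c ≤ n
    · have hn1 : c₁ ≤ n := le_trans (le_max_left _ _) hn
      have h1 : x ∈ (m ^ n • ⊤ ⊓ (I : Submodule Λ Λ) : Submodule Λ Λ) := by
        refine ⟨?_, hxI⟩
        rw [smul_eq_mul, Ideal.mul_top]; exact hxn
      rw [hc₁ n hn1] at h1
      have h2 : x ∈ (m ^ (n - c) • (I : Submodule Λ Λ) : Submodule Λ Λ) := by
        have hle : (m ^ (n - c₁) • (m ^ c₁ • ⊤ ⊓ (I : Submodule Λ Λ)) : Submodule Λ Λ) ≤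
            m ^ (n - c) • (I : Submodule Λ Λ) := by
          refine Submodule.smul_mono ?_ inf_le_right
          exact Ideal.pow_le_pow_right (Nat.sub_le_sub_left (le_max_left _ _) n)
        exact hle h1
      have h3 : (m ^ (n - c) • (I : Submodule Λ Λ) : Submodule Λ Λ) =
          Submodule.map Bβ (m ^ (n - c) • ⊤) := by
        rw [Submodule.map_smul'', Submodule.map_top, hrangeβ]
      rw [h3] at h2
      obtain ⟨a, ha, rfl⟩ := h2
      exact ⟨a, (mem_smul_top_pi_iff _ a).mp ha, hBβ a⟩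
    · have h0 : n - c = 0 := by omega
      have h1 : x ∈ LinearMap.range Bβ := by rw [hrangeβ]; exact hxI
      obtain ⟨a, rfl⟩ := h1
      refine ⟨a, fun j => ?_, hBβ a⟩
      rw [h0, pow_zero, Ideal.one_eq_top]; trivial
  -- (K2)
  have K2 : ∀ (k : ℕ) (v : Fin s → Λ), (∑ j, v j * β j = 0) → (∀ j, v j ∈ m ^ k) →
      ∃ d : Fin r → Λ, (∀ l, d l ∈ m ^ (k - c)) ∧ ∀ j, v j = ∑ l, d l * cols l j := by
    intro k v hvK hvk
    have hvK' : v ∈ K := hvK
    by_cases hk : c ≤ k
    · have hk2 : c₂ ≤ k := le_trans (le_max_right _ _) hk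
      have h1 : v ∈ (m ^ k • ⊤ ⊓ K : Submodule Λ (Fin s → Λ)) :=
        ⟨(mem_smul_top_pi_iff _ v).mpr hvk, hvK'⟩
      rw [hc₂ k hk2] at h1
      have h2 : v ∈ (m ^ (k - c) • K : Submodule Λ (Fin s → Λ)) := by
        have hle : (m ^ (k - c₂) • (m ^ c₂ • ⊤ ⊓ K) : Submodule Λ (Fin s → Λ)) ≤
            m ^ (k - c) • K := by
          refine Submodule.smul_mono ?_ inf_le_right
          exact Ideal.pow_le_pow_right (Nat.sub_le_sub_left (le_max_right _ _) k)
        exact hle h1
      have h3 : (m ^ (k - c) • K : Submodule Λ (Fin s → Λ)) =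
          Submodule.map Bα (m ^ (k - c) • ⊤) := by
        rw [Submodule.map_smul'', Submodule.map_top, hrangeα]
      rw [h3] at h2
      obtain ⟨d, hd, rfl⟩ := h2
      exact ⟨d, (mem_smul_top_pi_iff _ d).mp hd, fun j => hBα d j⟩
    · have h0 : k - c = 0 := by omega
      have h1 : v ∈ LinearMap.range Bα := by rw [hrangeα]; exact hvK'
      obtain ⟨d, rfl⟩ := h1
      refine ⟨d, fun l => ?_, fun j => hBα d j⟩
      rw [h0, pow_zero, Ideal.one_eq_top]; trivial
  refine ⟨s, r, β, cols, c, hβ, hcolsK, ?_⟩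
  intro N' hN' β'' cols'' hββ hcc hcomplex n x hxn
  have hspan : ∀ (γ : Fin s → Λ) (a : Fin s → Λ), ∑ j, a j * γ j ∈ Ideal.span (Set.range γ) := by
    intro γ a
    exact Ideal.sum_mem _ fun j _ => Ideal.mul_mem_left _ _ (Ideal.subset_span ⟨j, rfl⟩)
  have hdiff : ∀ a : Fin s → Λ, ∑ j, a j * β j - ∑ j, a j * β'' j = ∑ j, a j * (β j - β'' j) := by
    intro a
    rw [← Finset.sum_sub_distrib]
    exact Finset.sum_congr rfl fun j _ => by ring
  -- the key claim
  have Q : ∀ (t k : ℕ), n + 1 ≤ k + N' + t → ∀ a : Fin s → Λ, (∀ j, a j ∈ m ^ k) →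
      ∑ j, a j * β'' j ∈ m ^ n → ∑ j, a j * β'' j ∈ I ⊔ m ^ (n + 1) := by
    intro t
    induction t with
    | zero =>
      intro k hk a hak _
      have h1 : ∑ j, a j * β'' j = ∑ j, a j * β j - ∑ j, a j * (β j - β'' j) := by
        rw [← hdiff]; ring
      rw [h1]
      refine Ideal.sub_mem _ (Ideal.mem_sup_left ?_) (Ideal.mem_sup_right ?_)
      · rw [← hβ]; exact hspan β a
      · exact sum_mul_mem_pow m k N' (n + 1) (by omega) a _ hak hββ
    | succ t ih =>
      intro k hk a hak han
      by_cases hterm : n + 1 ≤ k + N'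
      · have h1 : ∑ j, a j * β'' j = ∑ j, a j * β j - ∑ j, a j * (β j - β'' j) := by
          rw [← hdiff]; ring
        rw [h1]
        refine Ideal.sub_mem _ (Ideal.mem_sup_left ?_) (Ideal.mem_sup_right ?_)
        · rw [← hβ]; exact hspan β a
        · exact sum_mul_mem_pow m k N' (n + 1) (by omega) a _ hak hββ
      · have hkn : k + N' ≤ n := by omega
        -- `u = Bβ a ∈ m ^ (k + N')`
        have hu : ∑ j, a j * β j ∈ m ^ (k + N') := by
          have h1 : ∑ j, a j * β j = ∑ j, a j * β'' j + ∑ j, a j * (β j - β'' j) := by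
            rw [← hdiff]; ring
          rw [h1]
          refine Ideal.add_mem _ (Ideal.pow_le_pow_right hkn han) ?_
          exact sum_mul_mem_pow m k N' (k + N') le_rfl a _ hak hββ
        have huI : ∑ j, a j * β j ∈ I := by rw [← hβ]; exact hspan β a
        obtain ⟨b, hb, hub⟩ := K1 (k + N') _ huI hu
        -- `v = a - b`
        have hvK : ∑ j, (a j - b j) * β j = 0 := by
          have : ∑ j, (a j - b j) * β j = ∑ j, a j * β j - ∑ j, b j * β j := by
            rw [← Finset.sum_sub_distrib]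
            exact Finset.sum_congr rfl fun j _ => by ring
          rw [this, hub, sub_self]
        have hbk : ∀ j, b j ∈ m ^ (k + 1) := fun j =>
          Ideal.pow_le_pow_right (by omega) (hb j)
        have hvk : ∀ j, a j - b j ∈ m ^ k := fun j =>
          Ideal.sub_mem _ (hak j) (Ideal.pow_le_pow_right (by omega) (hb j))
        obtain ⟨d, hd, hvd⟩ := K2 k (fun j => a j - b j) hvK hvk
        -- `a₂ = a - Bα'' d`
        let a₂ : Fin s → Λ := fun j => a j - ∑ l, d l * cols'' l j
        have ha₂ : ∀ j, a₂ j = b j + ∑ l, d l * (cols l j - cols'' l j) := by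
          intro j
          have h1 := hvd j
          simp only [a₂]
          have h2 : ∑ l, d l * (cols l j - cols'' l j) =
              ∑ l, d l * cols l j - ∑ l, d l * cols'' l j := by
            rw [← Finset.sum_sub_distrib]
            exact Finset.sum_congr rfl fun l _ => by ring
          rw [h2, ← h1]; ring
        have ha₂k : ∀ j, a₂ j ∈ m ^ (k + 1) := by
          intro j
          rw [ha₂ j]
          refine Ideal.add_mem _ (hbk j) ?_
          exact sum_mul_mem_pow m (k - c) N' (k + 1) (by omega) d _ hd (fun l => hcc l j)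
        have hsame : ∑ j, a₂ j * β'' j = ∑ j, a j * β'' j := by
          have h1 : ∑ j, a₂ j * β'' j =
              ∑ j, a j * β'' j - ∑ j, (∑ l, d l * cols'' l j) * β'' j := by
            rw [← Finset.sum_sub_distrib]
            exact Finset.sum_congr rfl fun j _ => by simp only [a₂]; ring
          have h2 : ∑ j, (∑ l, d l * cols'' l j) * β'' j = 0 := by
            have h3 : ∑ j, (∑ l, d l * cols'' l j) * β'' j =
                ∑ l, d l * ∑ j, cols'' l j * β'' j := by
              simp_rw [Finset.sum_mul, Finset.mul_sum]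
              rw [Finset.sum_comm]
              exact Finset.sum_congr rfl fun l _ => Finset.sum_congr rfl fun j _ => by ring
            rw [h3]
            exact Finset.sum_eq_zero fun l _ => by rw [hcomplex l, mul_zero]
          rw [h1, h2, sub_zero]
        rw [← hsame]
        exact ih (k + 1) (by omega) a₂ ha₂k (by rw [hsame]; exact han)
  constructor
  · intro hx
    obtain ⟨z, hz, y, hy, rfl⟩ := Submodule.mem_sup.mp hx
    have hzn : z ∈ m ^ n := by
      have : z = (z + y) - y := by ring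
      rw [this]
      exact Ideal.sub_mem _ hxn (Ideal.pow_le_pow_right (Nat.le_succ n) hy)
    obtain ⟨a, ha, rfl⟩ := K1 n z hz hzn
    have h1 : ∑ j, a j * β j + y =
        ∑ j, a j * β'' j + (∑ j, a j * (β j - β'' j) + y) := by
      rw [← hdiff]; ring
    rw [h1]
    refine Ideal.add_mem _ (Ideal.mem_sup_left (hspan β'' a)) (Ideal.mem_sup_right ?_)
    refine Ideal.add_mem _ ?_ hy
    exact sum_mul_mem_pow m (n - c) N' (n + 1) (by omega) a _ ha hββ
  · intro hx
    obtain ⟨z, hz, y, hy, rfl⟩ := Submodule.mem_sup.mp hx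
    have hzn : z ∈ m ^ n := by
      have : z = (z + y) - y := by ring
      rw [this]
      exact Ideal.sub_mem _ hxn (Ideal.pow_le_pow_right (Nat.le_succ n) hy)
    obtain ⟨a, ha⟩ := (Ideal.mem_span_range_iff_exists_fun).mp hz
    have ha' : z = ∑ j, a j * β'' j := by
      rw [← ha]
    subst ha'
    have h0 : ∀ j, a j ∈ m ^ 0 := fun j => by rw [pow_zero, Ideal.one_eq_top]; trivial
    have h1 := Q (n + 1) 0 (by omega) a h0 hzn
    exact Ideal.add_mem _ h1 (Ideal.mem_sup_right hy)

end main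

end Groth.Agent.Lib.Helper7.CdJCore
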