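import Mathlib
import Groth.Agent.S0598
import Groth.Agent.S0599
import Groth.Agent.S0600
import Groth.Agent.Lib.Helper7CdJCore
import Groth.Agent.Lib.Helper7CdJApprox
import Groth.Agent.Lib.Helper7CdJCompl

/-!
# Conrad–de Jong approximation: the ring-theoretic core (helper7)

`P` a finite type algebra over a field `k`, `R` a complete Noetherian local `k`-algebra with residue
field `k`, `ι : P → R` with `m_P R = m_R`, finitely many `f i ∈ ker ι`.  Then there is a finite type
`k`-algebra `A` with `g : P → A` killing the `f i`, such that `m_A = m_P A` has residue field `k`,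
`R / m_R^(N+1)` and `A / m_A^(N+1)` are the same quotient of `P`, and `P → R`, `P → A` have the same
initial kernels in every degree.
-/

set_option autoImplicit false
set_option linter.style.haveILetI false
set_option maxHeartbeats 800000
universe u

namespace Groth.Agent.Lib.Helper7.CdJMain

open IsLocalRing Groth.Agent.Lib.Helper7 Groth.Agent.Lib.Helper7.CdJApprox

theorem main (k : Type u) [Field k] (P : Type u) [CommRing P] [Algebra k P]
    [Algebra.FiniteType k P]
    (R : Type u) [CommRing R] [Algebra k R] [IsLocalRing R] [IsNoetherianRing R]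
    [IsAdicComplete (maximalIdeal R) R]
    (hres : ∀ r : R, ∃ c : k, r - algebraMap k R c ∈ maximalIdeal R)
    (ι : P →ₐ[k] R)
    (hgen : ((maximalIdeal R).comap (ι : P →+* R)).map (ι : P →+* R) = maximalIdeal R)
    {l : ℕ} (f : Fin l → P) (hf : ∀ i, ι (f i) = 0) (N : ℕ) :
    ∃ (A : Type u) (_ : CommRing A) (_ : Algebra k A) (_ : Algebra.FiniteType k A)
      (g : P →ₐ[k] A),
      (∀ i, g (f i) = 0) ∧
      (∀ a : A, ∃ p : P, a - g p ∈ ((maximalIdeal R).comap (ι : P →+* R)).map (g : P →+* A)) ∧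
      (∀ p : P, ι p ∈ maximalIdeal R ^ (N + 1) ↔
        g p ∈ (((maximalIdeal R).comap (ι : P →+* R)).map (g : P →+* A)) ^ (N + 1)) ∧
      (∀ (j : ℕ) (p : P), p ∈ ((maximalIdeal R).comap (ι : P →+* R)) ^ j →
        (ι p ∈ maximalIdeal R ^ (j + 1) ↔
          g p ∈ (((maximalIdeal R).comap (ι : P →+* R)).map (g : P →+* A)) ^ (j + 1))) := by
  classical
  -- `P` is a G-ring
  have hGk : CAlg.IsGRing k := by
    haveI : IsAdicComplete (IsLocalRing.maximalIdeal k) k := by
      rw [IsLocalRing.maximalIdeal_eq_bot]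
      infer_instance
    exact Groth.Agent.S0598.result k
  have hGP : CAlg.IsGRing P := Groth.Agent.S0599.result k hGk P
  haveI : IsNoetherianRing P := hGP.1
  set mR : Ideal R := maximalIdeal R with hmR
  set mP : Ideal P := mR.comap (ι : P →+* R) with hmP
  have hreg : CAlg.IsRegularHom P (AdicCompletion mP P) := Groth.Agent.S0600.result P hGP mP
  have hmfg : mP.FG := IsNoetherian.noetherian mP
  haveI : IsNoetherianRing (AdicCompletion mP P) :=
    Groth.Agent.Lib.Helper19.isNoetherianRing_adicCompletion mP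
  -- residue surjectivity from `P`
  have hresP : ∀ r : R, ∃ p : P, r - (ι : P →+* R) p ∈ mR := by
    intro r
    obtain ⟨c, hc⟩ := hres r
    refine ⟨algebraMap k P c, ?_⟩
    change r - ι (algebraMap k P c) ∈ mR
    rw [ι.commutes]
    exact hc
  -- the extension to the completion
  obtain ⟨ι', hι'⟩ := CdJCompl.exists_extension mP mR (ι : P →+* R) hmfg (le_of_eq hgen)
  have hKR : ∀ (j : ℕ) (x : AdicCompletion mP P),
      ι' x ∈ mR ^ j ↔ x ∈ M mP ^ j ⊔ RingHom.ker ι' :=
    CdJCompl.mem_pow_iff_of_extension ι' hι' hmfg hgen hresP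
  set I : Ideal (AdicCompletion mP P) := RingHom.ker ι' with hI
  -- Conrad–de Jong data
  obtain ⟨s, r, β, cols, c, hβ, hcolsβ, hCdJ⟩ := CdJCore.exists_data (M mP) I
  have hfI : ∀ i, algebraMap P (AdicCompletion mP P) (f i) ∈ Ideal.span (Set.range β) := by
    intro i
    rw [hβ, hI, RingHom.mem_ker, hι']
    exact hf i
  choose cm hcm using fun i => (Ideal.mem_span_range_iff_exists_fun).mp (hfI i)
  -- the polynomial system
  let σ := Fin s ⊕ ((Fin r × Fin s) ⊕ (Fin l × Fin s))
  let τ := Fin r ⊕ Fin l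
  let vβ : Fin s → σ := fun j => Sum.inl j
  let vc : Fin r → Fin s → σ := fun a j => Sum.inr (Sum.inl (a, j))
  let vm : Fin l → Fin s → σ := fun i j => Sum.inr (Sum.inr (i, j))
  let E : τ → MvPolynomial σ P := Sum.elim
    (fun a => ∑ j, MvPolynomial.X (vc a j) * MvPolynomial.X (vβ j))
    (fun i => MvPolynomial.C (f i) - ∑ j, MvPolynomial.X (vm i j) * MvPolynomial.X (vβ j))
  let y : σ → AdicCompletion mP P :=
    Sum.elim β (Sum.elim (fun aj => cols aj.1 aj.2) (fun ij => cm ij.1 ij.2))
  have hy : ∀ t, MvPolynomial.aeval y (E t) = 0 := by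
    rintro (a | i)
    · simp only [E, Sum.elim_inl, map_sum, map_mul, MvPolynomial.aeval_X]
      exact hcolsβ a
    · simp only [E, Sum.elim_inr, map_sub, map_sum, map_mul, MvPolynomial.aeval_X,
        MvPolynomial.aeval_C]
      rw [sub_eq_zero]
      exact (hcm i).symm
  set N' : ℕ := max (N + 1) (c + 1) with hN'
  have hN'1 : 1 ≤ N' := le_trans (Nat.le_add_left 1 N) (le_max_left _ _)
  have hN'c : c < N' := lt_of_lt_of_le (Nat.lt_succ_self c) (le_max_right _ _)
  have hN'N : N + 1 ≤ N' := le_max_left _ _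
  obtain ⟨B', _, _, _, θ, y', hy', hθy, hresB, hθpow⟩ :=
    exists_approx P mP hreg E y hy N' hN'1
  let β' : Fin s → B' := fun j => y' (vβ j)
  let cols' : Fin r → Fin s → B' := fun a j => y' (vc a j)
  let cm' : Fin l → Fin s → B' := fun i j => y' (vm i j)
  have hE1 : ∀ a, ∑ j, cols' a j * β' j = 0 := by
    intro a
    have := hy' (Sum.inl a)
    simpa only [E, Sum.elim_inl, map_sum, map_mul, MvPolynomial.aeval_X] using this
  have hE2 : ∀ i, algebraMap P B' (f i) = ∑ j, cm' i j * β' j := by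
    intro i
    have := hy' (Sum.inr i)
    simp only [E, Sum.elim_inr, map_sub, map_sum, map_mul, MvPolynomial.aeval_X,
      MvPolynomial.aeval_C] at this
    exact sub_eq_zero.mp this
  -- the algebra `A`
  letI algkB' : Algebra k B' := ((algebraMap P B').comp (algebraMap k P)).toAlgebra
  haveI : IsScalarTower k P B' := IsScalarTower.of_algebraMap_eq (fun _ => rfl)
  let J' : Ideal B' := Ideal.span (Set.range β')
  let A := B' ⧸ J'
  let g : P →ₐ[k] A := (Ideal.Quotient.mkₐ k J').comp (IsScalarTower.toAlgHom k P B')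
  have hg : ∀ p, g p = Ideal.Quotient.mk J' (algebraMap P B' p) := fun p => rfl
  haveI : Algebra.FiniteType P B' := inferInstance
  haveI : Algebra.FiniteType k B' := Algebra.FiniteType.trans (S := P) inferInstance inferInstance
  haveI : Algebra.FiniteType k A :=
    Algebra.FiniteType.of_surjective (Ideal.Quotient.mkₐ k J') (Ideal.Quotient.mkₐ_surjective k J')
  set m' : Ideal B' := mP.map (algebraMap P B') with hm'
  have hmA : mP.map (g : P →+* A) = m'.map (Ideal.Quotient.mk J') := by
    rw [hm', Ideal.map_map]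
    rfl
  -- the approximating data in the completion
  let β'' : Fin s → AdicCompletion mP P := fun j => θ (β' j)
  let cols'' : Fin r → Fin s → AdicCompletion mP P := fun a j => θ (cols' a j)
  have hββ : ∀ j, β j - β'' j ∈ M mP ^ N' := by
    intro j
    have h1 := hθy (vβ j)
    have h2 : β j - β'' j = -(θ (y' (vβ j)) - y (vβ j)) := by
      simp only [β'', β', y, vβ, Sum.elim_inl]; ring
    rw [h2]
    exact (Ideal.neg_mem_iff _).mpr h1
  have hcc : ∀ a j, cols a j - cols'' a j ∈ M mP ^ N' := by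
    intro a j
    have h1 := hθy (vc a j)
    have h2 : cols a j - cols'' a j = -(θ (y' (vc a j)) - y (vc a j)) := by
      simp only [cols'', cols', y, vc, Sum.elim_inr, Sum.elim_inl]; ring
    rw [h2]
    exact (Ideal.neg_mem_iff _).mpr h1
  have hcomplex : ∀ a, ∑ j, cols'' a j * β'' j = 0 := by
    intro a
    have h1 : ∑ j, cols'' a j * β'' j = θ (∑ j, cols' a j * β' j) := by
      rw [map_sum]
      exact Finset.sum_congr rfl fun j _ => by rw [map_mul]
    rw [h1, hE1, map_zero]
  set I'' : Ideal (AdicCompletion mP P) := Ideal.span (Set.range β'') with hI''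
  have hθm' : ∀ (j : ℕ) (x : B'), x ∈ m' ^ j → θ x ∈ M mP ^ j := by
    intro j x hx
    have hle : (m' ^ j).map (θ : B' →+* AdicCompletion mP P) ≤ M mP ^ j := by
      rw [Ideal.map_pow, hm', Ideal.map_map]
      refine Ideal.pow_right_mono (le_of_eq ?_) j
      congr 1
      exact θ.comp_algebraMap
    exact hle (Ideal.mem_map_of_mem _ hx)
  have hθJ' : ∀ x : B', x ∈ J' → θ x ∈ I'' := by
    intro x hx
    have hle : J'.map (θ : B' →+* AdicCompletion mP P) ≤ I'' := by
      rw [Ideal.map_span, hI'']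
      refine Ideal.span_mono ?_
      rintro _ ⟨_, ⟨j, rfl⟩, rfl⟩
      exact ⟨j, rfl⟩
    exact hle (Ideal.mem_map_of_mem _ hx)
  -- (KA)
  have hKA : ∀ (j : ℕ) (p : P),
      g p ∈ (mP.map (g : P →+* A)) ^ j ↔
        algebraMap P (AdicCompletion mP P) p ∈ M mP ^ j ⊔ I'' := by
    intro j p
    rw [hmA, ← Ideal.map_pow, hg, Ideal.mem_quotient_iff_mem_sup]
    constructor
    · intro hx
      obtain ⟨u, hu, v, hv, huv⟩ := Submodule.mem_sup.mp hx
      have h1 : algebraMap P (AdicCompletion mP P) p = θ u + θ v := by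
        rw [← map_add, huv, θ.commutes]
      rw [h1]
      exact Ideal.add_mem _ (Ideal.mem_sup_left (hθm' j u hu)) (Ideal.mem_sup_right (hθJ' v hv))
    · intro hx
      obtain ⟨μ, hμ, z, hz, hμz⟩ := Submodule.mem_sup.mp hx
      obtain ⟨lam, hlam⟩ := (Ideal.mem_span_range_iff_exists_fun).mp hz
      choose q hq using fun i => exists_sub_mem_M_pow mP hmfg j (lam i)
      let x₀ : B' := algebraMap P B' p - ∑ i, algebraMap P B' (q i) * β' i
      have hx₀ : θ x₀ ∈ M mP ^ j := by
        have h1 : θ x₀ = μ + ∑ i, (lam i - algebraMap P (AdicCompletion mP P) (q i)) * β'' i := by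
          simp only [x₀, map_sub, map_sum, map_mul, θ.commutes]
          rw [← hμz, ← hlam]
          simp only [β'', sub_mul, Finset.sum_sub_distrib]
          ring
        rw [h1]
        refine Ideal.add_mem _ hμ (Ideal.sum_mem _ fun i _ => Ideal.mul_mem_right _ _ (hq i))
      have h2 := hθpow j x₀ hx₀
      have h3 : algebraMap P B' p = x₀ + ∑ i, algebraMap P B' (q i) * β' i := by
        simp only [x₀]; ring
      rw [h3]
      refine Ideal.add_mem _ (Ideal.mem_sup_left h2) (Ideal.mem_sup_right ?_)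
      exact Ideal.sum_mem _ fun i _ => Ideal.mul_mem_left _ _ (Ideal.subset_span ⟨i, rfl⟩)
  -- (KR)
  have hKR' : ∀ (j : ℕ) (p : P),
      ι p ∈ mR ^ j ↔ algebraMap P (AdicCompletion mP P) p ∈ M mP ^ j ⊔ I := by
    intro j p
    rw [← hKR, hι']
    rfl
  refine ⟨A, inferInstance, inferInstance, inferInstance, g, ?_, ?_, ?_, ?_⟩
  · intro i
    rw [hg, hE2, Ideal.Quotient.eq_zero_iff_mem]
    exact Ideal.sum_mem _ fun j _ => Ideal.mul_mem_left _ _ (Ideal.subset_span ⟨j, rfl⟩)
  · intro a
    obtain ⟨b, rfl⟩ := Ideal.Quotient.mk_surjective a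
    obtain ⟨p, hp⟩ := hresB b
    refine ⟨p, ?_⟩
    rw [hmA, hg, ← map_sub]
    exact Ideal.mem_map_of_mem _ hp
  · intro p
    rw [hKR', hKA]
    have hpow : M mP ^ N' ≤ M mP ^ (N + 1) := Ideal.pow_le_pow_right hN'N
    have h1 : I ≤ M mP ^ (N + 1) ⊔ I'' := by
      rw [← hβ, Ideal.span_le]
      rintro _ ⟨j, rfl⟩
      have : β j = (β j - β'' j) + β'' j := by ring
      rw [this]
      exact Ideal.add_mem _ (Ideal.mem_sup_left (hpow (hββ j)))
        (Ideal.mem_sup_right (Ideal.subset_span ⟨j, rfl⟩))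
    have h2 : I'' ≤ M mP ^ (N + 1) ⊔ I := by
      rw [hI'', Ideal.span_le]
      rintro _ ⟨j, rfl⟩
      have : β'' j = -(β j - β'' j) + β j := by ring
      rw [this]
      refine Ideal.add_mem _ (Ideal.mem_sup_left ((Ideal.neg_mem_iff _).mpr (hpow (hββ j))))
        (Ideal.mem_sup_right ?_)
      rw [← hβ]
      exact Ideal.subset_span ⟨j, rfl⟩
    have h3 : M mP ^ (N + 1) ⊔ I = M mP ^ (N + 1) ⊔ I'' :=
      le_antisymm (sup_le le_sup_left h1) (sup_le le_sup_left h2)
    rw [h3]
  · intro j p hp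
    rw [hKR', hKA]
    have hpM : algebraMap P (AdicCompletion mP P) p ∈ M mP ^ j := by
      rw [algebraMap_mem_M_pow_iff mP hmfg]
      exact hp
    have := hCdJ N' hN'c β'' cols'' hββ hcc hcomplex j _ hpM
    rw [sup_comm (M mP ^ (j + 1)) I, sup_comm (M mP ^ (j + 1)) I'']
    exact this

end Groth.Agent.Lib.Helper7.CdJMain
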