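import Mathlib
import Groth.Agent.Lib.Helper7FunctorModel

/-!
# Finite presentation models of elements of limit preserving functors on `CommAlgCat` (helper7)
-/

set_option autoImplicit false
set_option linter.style.haveILetI false
universe u

open CategoryTheory CategoryTheory.Limits

namespace Groth.Agent.Lib.Helper7.CdJModel

open Groth.Agent.Lib.Helper26.FPColim

theorem exists_fp_model (k : Type u) [CommRing k] (T : Type u) [CommRing T] [Algebra k T]
    (F : CommAlgCat.{u} k ⥤ Type u)
    (hF : ∀ (J : Type u) [SmallCategory J] [IsFiltered J], PreservesColimitsOfShape J F)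
    (ξ : F.obj (CommAlgCat.of k T)) :
    ∃ (n l : ℕ) (f : Fin l → MvPolynomial (Fin n) k) (â : Fin n → T),
      (∀ i, MvPolynomial.aeval â (f i) = 0) ∧
      ∀ (T' : Type u) [CommRing T'] [Algebra k T'] (a' : Fin n → T'),
        (∀ i, MvPolynomial.aeval a' (f i) = 0) →
        ∃ ξ' : F.obj (CommAlgCat.of k T'),
          ∀ (Q : Type u) [CommRing Q] [Algebra k Q] (π : T →ₐ[k] Q) (ρ : T' →ₐ[k] Q),
            (∀ j, ρ (a' j) = π (â j)) →
              F.map (CommAlgCat.ofHom ρ) ξ' = F.map (CommAlgCat.ofHom π) ξ := by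
  classical
  let E := commAlgCatEquivUnder (CommRingCat.of k)
  let F' : Under (CommRingCat.of k) ⥤ Type u := E.inverse ⋙ F
  have hF' : ∀ (J : Type u) [SmallCategory J] [IsFiltered J],
      Limits.PreservesColimitsOfShape J F' := by
    intro J _ _
    haveI : Limits.PreservesColimitsOfShape J F := hF J
    infer_instance
  let η : ∀ X : CommAlgCat.{u} k, F.obj X → F'.obj (E.functor.obj X) :=
    fun X => F.map (E.unit.app X)
  have hη_nat : ∀ {X Y : CommAlgCat.{u} k} (f : X ⟶ Y) (x : F.obj X),
      F'.map (E.functor.map f) (η X x) = η Y (F.map f x) := by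
    intro X Y f x
    change F.map (E.inverse.map (E.functor.map f)) (F.map (E.unit.app X) x) =
      F.map (E.unit.app Y) (F.map f x)
    rw [← FunctorToTypes.map_comp_apply, ← FunctorToTypes.map_comp_apply,
      show E.unit.app X ≫ E.inverse.map (E.functor.map f) = f ≫ E.unit.app Y from
        (E.unit.naturality f).symm]
  have hη_inj : ∀ X : CommAlgCat.{u} k, Function.Injective (η X) := by
    intro X x y hxy
    have h1 : F.map (E.unitInv.app X) (η X x) = F.map (E.unitInv.app X) (η X y) := by rw [hxy]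
    simp only [η, ← FunctorToTypes.map_comp_apply] at h1
    simpa using h1
  have hη_surj : ∀ X : CommAlgCat.{u} k, Function.Surjective (η X) := by
    intro X y
    refine ⟨F.map (E.unitInv.app X) y, ?_⟩
    simp only [η, ← FunctorToTypes.map_comp_apply]
    simp
  obtain ⟨n, l, f, â, hf, hmodel⟩ :=
    Groth.Agent.Lib.Helper7.FunctorModel.exists_fp_model k T F' hF' (η (CommAlgCat.of k T) ξ)
  refine ⟨n, l, f, â, hf, ?_⟩
  intro T' _ _ a' ha'
  obtain ⟨ξ₁', hξ₁'⟩ := hmodel T' a' ha'
  obtain ⟨ξ', hξ'⟩ := hη_surj (CommAlgCat.of k T') ξ₁'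
  refine ⟨ξ', ?_⟩
  intro Q _ _ π ρ h
  apply hη_inj
  rw [← hη_nat, ← hη_nat, hξ']
  exact hξ₁' Q π ρ h

end Groth.Agent.Lib.Helper7.CdJModel
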