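import Mathlib
import Groth.Agent.Lib.Helper7Cartier2
import Groth.Agent.Lib.Helper7SepImperf

/-!
Helper library (helper7): in characteristic zero, `dx = 0` in `Ω[L/K]` forces `x` algebraic over `K`.
-/

set_option autoImplicit false
set_option linter.style.haveILetI false
set_option linter.unusedSectionVars false
universe u
open KaehlerDifferential TensorProduct

namespace Groth.Agent.Lib.Helper7.CharZeroD

open Groth.Agent.Lib.Helper7.ExalLib

variable {K L : Type u} [Field K] [Field L] [Algebra K L]

theorem D_gen_ne_zero {x : L} (hx : Transcendental K x) :
    D K (IntermediateField.adjoin K {x}) (IntermediateField.AdjoinSimple.gen K x) ≠ 0 := by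
  intro hD
  set F := IntermediateField.adjoin K ({x} : Set L) with hF
  set g : F := IntermediateField.AdjoinSimple.gen K x with hg
  have hgt : Transcendental K g := by
    intro halg
    apply hx
    have := halg.algebraMap (A := L)
    rwa [IntermediateField.AdjoinSimple.algebraMap_gen] at this
  have htop : IntermediateField.adjoin K {g} = ⊤ := adjoin_gen_eq_top x
  obtain ⟨-, -, h1, -⟩ := cartier_transcendental (k := ℤ) hgt htop
  have hspan : ∀ z : F, D K F z = 0 := by
    intro z
    have hz : z ∈ IntermediateField.adjoin K {g} := by rw [htop]; trivial
    induction hz using IntermediateField.adjoin_induction with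
    | mem w hw => rw [Set.mem_singleton_iff.1 hw]; exact hD
    | algebraMap r => exact Derivation.map_algebraMap _ r
    | add a c _ _ ha hc => rw [map_add, ha, hc, add_zero]
    | inv a _ ha => rw [Derivation.leibniz_inv, ha, smul_zero]
    | mul a c _ _ ha hc => rw [Derivation.leibniz, ha, hc, smul_zero, smul_zero, add_zero]
  haveI : Subsingleton (Ω[F⁄K]) := by
    refine subsingleton_of_forall_eq 0 fun ω => ?_
    have hω : ω ∈ Submodule.span F (Set.range (D K F)) := by
      rw [KaehlerDifferential.span_range_derivation]; trivial
    induction hω using Submodule.span_induction with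
    | mem ω hω => obtain ⟨z, rfl⟩ := hω; exact hspan z
    | zero => rfl
    | add a c _ _ ha hc => rw [ha, hc, add_zero]
    | smul c a _ ha => rw [ha, smul_zero]
  rw [Module.finrank_zero_of_subsingleton] at h1
  exact zero_ne_one h1

/-- in characteristic zero an element with vanishing differential is algebraic -/
theorem isAlgebraic_of_D_eq_zero [CharZero K] {x : L} (hx : D K L x = 0) : IsAlgebraic K x := by
  by_contra hna
  have htr : Transcendental K x := hna
  set F := IntermediateField.adjoin K ({x} : Set L) with hF
  have hne := D_gen_ne_zero htr
  haveI : CharZero F := (algebraMap K F).charZero_iff (algebraMap K F).injective |>.1 inferInstance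
  have hinj : Function.Injective (KaehlerDifferential.mapBaseChange K F L) :=
    injective_mapBaseChange_of_charZero
  have h1 : KaehlerDifferential.mapBaseChange K F L
      ((1 : L) ⊗ₜ[F] D K F (IntermediateField.AdjoinSimple.gen K x)) = 0 := by
    rw [KaehlerDifferential.mapBaseChange_tmul, one_smul, KaehlerDifferential.map_D,
      IntermediateField.AdjoinSimple.algebraMap_gen, hx]
  have h2 : (1 : L) ⊗ₜ[F] D K F (IntermediateField.AdjoinSimple.gen K x) = 0 :=
    hinj (h1.trans (map_zero _).symm)
  exact hne ((Module.FaithfullyFlat.one_tmul_eq_zero_iff F (Ω[F⁄K]) (A := L) _).1 h2)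

end Groth.Agent.Lib.Helper7.CharZeroD
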