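import Mathlib
import Groth.Agent.Lib.Helper28CMFib1
import Groth.Agent.Lib.Helper5StalkSpec

/-!
# Helper7ClosedPts: closed points of locally Noetherian schemes

* `eq_of_lt_of_le`: in a Noetherian ring, if `f ∉ p` lies in every prime strictly containing `p`
  then there is no chain `p < Q₁ < Q₂`.
* `exists_isClosed_specializes`: every point of a locally Noetherian scheme specializes to a
  closed point.
* `exists_atPrime_of_specializes`: the local ring at a generization `x` of `x'` is the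
  localization of `𝒪_{X,x'}` at a prime.
-/

set_option autoImplicit false
set_option linter.style.haveILetI false
universe u

namespace Groth.Agent.Lib.Helper7.ClosedPts

/-- In a Noetherian ring, if `f ∉ p` lies in every prime strictly containing `p`, then there is no
chain `p < Q₁ < Q₂`. -/
theorem eq_of_lt_of_le {B : Type u} [CommRing B] [IsNoetherianRing B] {p Q₁ Q₂ : Ideal B}
    [hp : p.IsPrime] [hQ₁ : Q₁.IsPrime] [hQ₂ : Q₂.IsPrime] (f : B) (hfp : f ∉ p) (hpQ : p < Q₁)
    (hQ : Q₁ ≤ Q₂) (h : ∀ Q : Ideal B, Q.IsPrime → p < Q → f ∈ Q) : Q₁ = Q₂ := by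
  have hsurj : Function.Surjective (Ideal.Quotient.mk p) := Ideal.Quotient.mk_surjective
  have hker : RingHom.ker (Ideal.Quotient.mk p) = p := Ideal.mk_ker
  have hf0 : Ideal.Quotient.mk p f ≠ 0 := by
    rwa [Ne, Ideal.Quotient.eq_zero_iff_mem]
  have hdim : ringKrullDim (B ⧸ p) ≤ 1 := by
    apply Groth.Agent.Lib.Helper28.CMFib.ringKrullDim_le_one_of_forall_mem (B ⧸ p) _ hf0
    intro q hq hq0
    have hqc : (q.comap (Ideal.Quotient.mk p)).IsPrime := Ideal.comap_isPrime _ _
    have hle : p ≤ q.comap (Ideal.Quotient.mk p) := by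
      intro x hx
      rw [Ideal.mem_comap, Ideal.Quotient.eq_zero_iff_mem.mpr hx]
      exact zero_mem _
    have hne : p ≠ q.comap (Ideal.Quotient.mk p) := by
      intro heq
      apply hq0
      rw [← Ideal.map_comap_of_surjective _ hsurj q, ← heq, Ideal.map_quotient_self]
    exact h _ hqc (lt_of_le_of_ne hle hne)
  have hK : Ring.KrullDimLE 1 (B ⧸ p) := (Ring.krullDimLE_iff).mpr hdim
  have hmax := (Ring.krullDimLE_one_iff_of_noZeroDivisors (R := B ⧸ p)).mp hK
  have hpQ₂ : p ≤ Q₂ := hpQ.le.trans hQ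
  have hP₁ : (Q₁.map (Ideal.Quotient.mk p)).IsPrime :=
    Ideal.map_isPrime_of_surjective hsurj (by rw [hker]; exact hpQ.le)
  have hP₂ : (Q₂.map (Ideal.Quotient.mk p)).IsPrime :=
    Ideal.map_isPrime_of_surjective hsurj (by rw [hker]; exact hpQ₂)
  have hc₁ : (Q₁.map (Ideal.Quotient.mk p)).comap (Ideal.Quotient.mk p) = Q₁ := by
    rw [Ideal.comap_map_of_surjective _ hsurj, ← RingHom.ker_eq_comap_bot, hker]
    exact sup_eq_left.mpr hpQ.le
  have hc₂ : (Q₂.map (Ideal.Quotient.mk p)).comap (Ideal.Quotient.mk p) = Q₂ := by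
    rw [Ideal.comap_map_of_surjective _ hsurj, ← RingHom.ker_eq_comap_bot, hker]
    exact sup_eq_left.mpr hpQ₂
  have hne₁ : Q₁.map (Ideal.Quotient.mk p) ≠ ⊥ := by
    intro h0
    rw [h0, ← RingHom.ker_eq_comap_bot, hker] at hc₁
    exact hpQ.ne hc₁
  have hM₁ : (Q₁.map (Ideal.Quotient.mk p)).IsMaximal := hmax _ hne₁ hP₁
  have heq : Q₁.map (Ideal.Quotient.mk p) = Q₂.map (Ideal.Quotient.mk p) :=
    hM₁.eq_of_le hP₂.ne_top (Ideal.map_mono hQ)
  rw [← hc₁, ← hc₂, heq]

open AlgebraicGeometry CategoryTheory TopologicalSpace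

/-- every point of an affine open `U` specializes to a point of `U` that is closed in `U` -/
theorem exists_specializes_closed_in_affine {X : Scheme.{u}} {U : X.Opens} (hU : IsAffineOpen U)
    {y : X} (hy : y ∈ U) :
    ∃ y₁ : X, y₁ ∈ U ∧ y ⤳ y₁ ∧ ∀ z ∈ U, y₁ ⤳ z → z = y₁ := by
  obtain ⟨m, hm, hpm⟩ := Ideal.exists_le_maximal (hU.primeIdealOf ⟨y, hy⟩).asIdeal
    (hU.primeIdealOf ⟨y, hy⟩).2.ne_top
  let M : ↥(Spec Γ(X, U)) := (⟨m, hm.isPrime⟩ : PrimeSpectrum Γ(X, U))
  have hind : Topology.IsInducing hU.fromSpec := hU.fromSpec.isOpenEmbedding.isInducing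
  have ey : hU.fromSpec (hU.primeIdealOf ⟨y, hy⟩) = y := hU.fromSpec_primeIdealOf _
  refine ⟨hU.fromSpec M, ?_, ?_, ?_⟩
  · have : hU.fromSpec M ∈ Set.range hU.fromSpec := ⟨M, rfl⟩
    rw [hU.range_fromSpec] at this
    exact this
  · rw [← ey]
    apply Specializes.map _ hU.fromSpec.continuous
    exact (PrimeSpectrum.le_iff_specializes (hU.primeIdealOf ⟨y, hy⟩) M).mp hpm
  · intro z hz hsp
    have ez : hU.fromSpec (hU.primeIdealOf ⟨z, hz⟩) = z := hU.fromSpec_primeIdealOf _
    rw [← ez] at hsp ⊢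
    have hsp2 := hind.specializes_iff.mp hsp
    have hle := (PrimeSpectrum.le_iff_specializes M (hU.primeIdealOf ⟨z, hz⟩)).mpr hsp2
    congr 1
    symm
    apply PrimeSpectrum.ext
    exact hm.eq_of_le (hU.primeIdealOf ⟨z, hz⟩).2.ne_top hle

theorem isClosed_singleton_of_specializes_ne {X : Scheme.{u}} [IsLocallyNoetherian X]
    {U : X.Opens} {y₁ x' : X} (hy₁ : y₁ ∈ U)
    (hcl : ∀ z ∈ U, y₁ ⤳ z → z = y₁) (hsp : y₁ ⤳ x') (hne : x' ≠ y₁) :
    IsClosed ({x'} : Set X) := by
  rw [← closure_subset_iff_isClosed]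
  intro x'' hx''
  rw [← specializes_iff_mem_closure] at hx''
  obtain ⟨V, hV, hx''V, -⟩ := exists_isAffineOpen_mem_and_subset (x := x'') (U := ⊤) trivial
  have hx'V : x' ∈ V := hx''.mem_open V.2 hx''V
  have hy₁V : y₁ ∈ V := hsp.mem_open V.2 hx'V
  haveI : IsNoetherianRing Γ(X, V) := IsLocallyNoetherian.component_noetherian ⟨V, hV⟩
  have hind : Topology.IsInducing hV.fromSpec := hV.fromSpec.isOpenEmbedding.isInducing
  have e₁ : hV.fromSpec (hV.primeIdealOf ⟨y₁, hy₁V⟩) = y₁ := hV.fromSpec_primeIdealOf _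
  have e' : hV.fromSpec (hV.primeIdealOf ⟨x', hx'V⟩) = x' := hV.fromSpec_primeIdealOf _
  have e'' : hV.fromSpec (hV.primeIdealOf ⟨x'', hx''V⟩) = x'' := hV.fromSpec_primeIdealOf _
  generalize hV.primeIdealOf ⟨y₁, hy₁V⟩ = q₁ at e₁
  generalize hV.primeIdealOf ⟨x', hx'V⟩ = q' at e'
  generalize hV.primeIdealOf ⟨x'', hx''V⟩ = q'' at e''
  have h1 : q₁ ≤ q' := by
    apply (PrimeSpectrum.le_iff_specializes q₁ q').mpr
    apply hind.specializes_iff.mp
    rw [e₁, e']
    exact hsp
  have h2 : q' ≤ q'' := by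
    apply (PrimeSpectrum.le_iff_specializes q' q'').mpr
    apply hind.specializes_iff.mp
    rw [e', e'']
    exact hx''
  have hne' : q₁ ≠ q' := fun h => hne (by rw [← e', ← h, e₁])
  have hW : q₁ ∈ hV.fromSpec ⁻¹ᵁ U := by
    show hV.fromSpec q₁ ∈ U
    rw [e₁]; exact hy₁
  obtain ⟨_, ⟨f, rfl⟩, hf1, hf2⟩ :=
    (Opens.isBasis_iff_nbhd.mp (PrimeSpectrum.isBasis_basic_opens (R := Γ(X, V)))) hW
  haveI := q₁.2
  haveI := q'.2
  haveI := q''.2
  have key := eq_of_lt_of_le (p := q₁.asIdeal) (Q₁ := q'.asIdeal) (Q₂ := q''.asIdeal) f hf1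
    (lt_of_le_of_ne h1 (fun h => hne' (PrimeSpectrum.ext h))) h2 ?_
  · show x'' = x'
    rw [← e'', ← e']
    congr 1
    exact (PrimeSpectrum.ext key).symm
  · intro Q hQ hlt
    by_contra hfQ
    let Qp : PrimeSpectrum Γ(X, V) := ⟨Q, hQ⟩
    have hQU : hV.fromSpec Qp ∈ U := hf2 (show Qp ∈ PrimeSpectrum.basicOpen f from hfQ)
    have hsp' : y₁ ⤳ hV.fromSpec Qp := by
      rw [← e₁]
      exact Specializes.map ((PrimeSpectrum.le_iff_specializes q₁ Qp).mp hlt.le)
        hV.fromSpec.continuous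
    have h3 := hcl _ hQU hsp'
    rw [← e₁] at h3
    have h4 := hV.fromSpec.isOpenEmbedding.injective h3
    exact hlt.ne (congrArg PrimeSpectrum.asIdeal h4).symm

/-- every point of a locally Noetherian scheme specializes to a closed point -/
theorem exists_isClosed_specializes (X : Scheme.{u}) [IsLocallyNoetherian X] (y : X) :
    ∃ x : X, IsClosed ({x} : Set X) ∧ y ⤳ x := by
  obtain ⟨U, hU, hyU, -⟩ := exists_isAffineOpen_mem_and_subset (x := y) (U := ⊤) trivial
  obtain ⟨y₁, hy₁U, hyy₁, hcl⟩ := exists_specializes_closed_in_affine hU hyU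
  by_cases hc : IsClosed ({y₁} : Set X)
  · exact ⟨y₁, hc, hyy₁⟩
  · rw [← closure_subset_iff_isClosed, Set.not_subset] at hc
    obtain ⟨x', hx', hne⟩ := hc
    rw [← specializes_iff_mem_closure] at hx'
    exact ⟨x', isClosed_singleton_of_specializes_ne hy₁U hcl hx' hne, hyy₁.trans hx'⟩

/-- a local ring which is a localization of `R` is the localization of `R` at a prime -/
theorem exists_atPrime_of_isLocalization {R S : Type u} [CommRing R] [CommRing S] [Algebra R S]
    [IsLocalRing S] (M : Submonoid R) [IsLocalization M S] :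
    ∃ (q : Ideal R) (_ : q.IsPrime), Nonempty (S ≃+* Localization.AtPrime q) := by
  let q : Ideal R := (IsLocalRing.maximalIdeal S).comap (algebraMap R S)
  haveI hq : q.IsPrime := Ideal.comap_isPrime _ _
  refine ⟨q, hq, ?_⟩
  have hle : M ≤ q.primeCompl := by
    intro x hx hxq
    have h1 : IsUnit (algebraMap R S x) := IsLocalization.map_units S ⟨x, hx⟩
    have h2 : algebraMap R S x ∈ IsLocalRing.maximalIdeal S := hxq
    exact (IsLocalRing.mem_maximalIdeal _).mp h2 h1
  haveI : IsLocalization q.primeCompl S := by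
    refine IsLocalization.of_le M q.primeCompl hle ?_
    intro r hr
    by_contra hnu
    exact hr ((IsLocalRing.mem_maximalIdeal _).mpr hnu)
  exact ⟨(IsLocalization.algEquiv q.primeCompl S (Localization.AtPrime q)).toRingEquiv⟩

/-- the local ring at a generization `x` of `x'` is a localization of the local ring at `x'` at a
prime ideal -/
theorem exists_atPrime_of_specializes (X : Scheme.{u}) {x x' : X} (h : x ⤳ x') :
    ∃ (q : Ideal (X.presheaf.stalk x')) (_ : q.IsPrime),
      Nonempty (X.presheaf.stalk x ≃+* Localization.AtPrime q) := by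
  letI := (X.presheaf.stalkSpecializes h).hom.toAlgebra
  obtain ⟨M, hM⟩ := Groth.Agent.Lib.Helper5.StalkSpec.exists_isLocalization_stalkSpecializes X h
  exact exists_atPrime_of_isLocalization M

end Groth.Agent.Lib.Helper7.ClosedPts
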