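import Mathlib
import Groth.Agent.Lib.Helper26FPColim

/-!
# Transporting functors on `CommAlgCat A` to `Under (CommRingCat.of A)` (helper7)
-/

set_option autoImplicit false
set_option linter.style.haveILetI false
universe u

open CategoryTheory CategoryTheory.Limits

namespace Groth.Agent.Lib.Helper7.CommAlgTransport

open Groth.Agent.Lib.Helper26.FPColim

variable (A : Type u) [CommRing A] (F : CommAlgCat.{u} A ⥤ Type u)

/-- The transported functor. -/
noncomputable def F' : Under (CommRingCat.of A) ⥤ Type u :=
  (commAlgCatEquivUnder (CommRingCat.of A)).inverse ⋙ F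

theorem preserves [PreservesFilteredColimitsOfSize.{u, u} F] (J : Type u) [SmallCategory J]
    [IsFiltered J] : PreservesColimitsOfShape J (F' A F) := by
  haveI : PreservesColimitsOfShape J F :=
    PreservesFilteredColimitsOfSize.preserves_filtered_colimits J
  unfold F'
  infer_instance

/-- The comparison map `F(T) → F'(T)`. -/
noncomputable def η (T : Type u) [CommRing T] [Algebra A T] :
    F.obj (CommAlgCat.of A T) → (F' A F).obj (uObj A T) :=
  F.map ((commAlgCatEquivUnder (CommRingCat.of A)).unit.app (CommAlgCat.of A T))

theorem η_nat {T T' : Type u} [CommRing T] [CommRing T'] [Algebra A T] [Algebra A T']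
    (f : T →ₐ[A] T') (x : F.obj (CommAlgCat.of A T)) :
    (F' A F).map (uHom f) (η A F T x) = η A F T' (F.map (CommAlgCat.ofHom f) x) := by
  let E := commAlgCatEquivUnder (CommRingCat.of A)
  change F.map (E.inverse.map (E.functor.map (CommAlgCat.ofHom f)))
      (F.map (E.unit.app (CommAlgCat.of A T)) x) =
    F.map (E.unit.app (CommAlgCat.of A T')) (F.map (CommAlgCat.ofHom f) x)
  rw [← FunctorToTypes.map_comp_apply, ← FunctorToTypes.map_comp_apply,
    show E.unit.app (CommAlgCat.of A T) ≫ E.inverse.map (E.functor.map (CommAlgCat.ofHom f)) =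
      CommAlgCat.ofHom f ≫ E.unit.app (CommAlgCat.of A T') from
        (E.unit.naturality (CommAlgCat.ofHom f)).symm]

theorem η_injective (T : Type u) [CommRing T] [Algebra A T] : Function.Injective (η A F T) := by
  intro x y hxy
  let E := commAlgCatEquivUnder (CommRingCat.of A)
  have h1 : F.map (E.unitInv.app (CommAlgCat.of A T)) (η A F T x) =
      F.map (E.unitInv.app (CommAlgCat.of A T)) (η A F T y) := by rw [hxy]
  simp only [η, ← FunctorToTypes.map_comp_apply] at h1
  simpa [E] using h1

theorem η_surjective (T : Type u) [CommRing T] [Algebra A T] : Function.Surjective (η A F T) := by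
  intro y
  let E := commAlgCatEquivUnder (CommRingCat.of A)
  refine ⟨F.map (E.unitInv.app (CommAlgCat.of A T)) y, ?_⟩
  simp only [η, ← FunctorToTypes.map_comp_apply]
  simp [E]

end Groth.Agent.Lib.Helper7.CommAlgTransport
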