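import Mathlib
import Groth.Agent.Lib.Helper7CommonNbhd
import Groth.Agent.Lib.Helper20EtLocalSch

/-!
# Common étale neighbourhoods: scheme-level glue (helper7)

`stalkTo g u z h` is the stalk map of `g` at `u` transported to the stalk at `z = g u`.
`final`: from an approximating pair `(e, f)` (as produced by the scheme-level Artin approximation
statement) for an isomorphism of completed local rings, `f` is étale in a neighbourhood of `u` with
trivial residue field extension, and the approximation survives the shrinking.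
-/

set_option autoImplicit false
set_option linter.style.haveILetI false
universe u

open AlgebraicGeometry CategoryTheory IsLocalRing

namespace Groth.Agent.Lib.Helper7.CommonNbhdSch

open Groth.Agent.Lib.Helper7.CommonNbhd

/-- the map on stalks induced by `g` at `u`, transported to the stalk at `z = g u`. -/
noncomputable def stalkTo {U Z : Scheme.{u}} (g : U ⟶ Z) (u : U) (z : Z) (h : g u = z) :
    Z.presheaf.stalk z →+* U.presheaf.stalk u :=
  (g.stalkMap u).hom.comp (Z.presheaf.stalkCongr (Inseparable.of_eq h)).inv.hom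

theorem stalkTo_rfl {U Z : Scheme.{u}} (g : U ⟶ Z) (u : U) (h : g u = g u) :
    stalkTo g u (g u) h = (g.stalkMap u).hom := by
  unfold stalkTo
  have : (Z.presheaf.stalkCongr (Inseparable.of_eq h)).inv = 𝟙 _ :=
    Z.presheaf.stalkSpecializes_refl _
  rw [this]
  rfl

theorem stalkTo_comp {U' U Z : Scheme.{u}} (j : U' ⟶ U) (g : U ⟶ Z) (u' : U') (u : U) (z : Z)
    (hj : j u' = u) (hg : g u = z) (h' : (j ≫ g) u' = z) :
    stalkTo (j ≫ g) u' z h' = (stalkTo j u' u hj).comp (stalkTo g u z hg) := by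
  subst hj
  subst hg
  rw [stalkTo_rfl, stalkTo_rfl]
  unfold stalkTo
  have : (Z.presheaf.stalkCongr (Inseparable.of_eq h')).inv = 𝟙 _ :=
    Z.presheaf.stalkSpecializes_refl _
  rw [this, Scheme.Hom.stalkMap_comp]
  rfl

theorem isLocalHom_stalkTo {U Z : Scheme.{u}} (g : U ⟶ Z) (u : U) (z : Z) (h : g u = z) :
    IsLocalHom (stalkTo g u z h) := by
  subst h
  rw [stalkTo_rfl]
  infer_instance

theorem flat_stalkTo {U Z : Scheme.{u}} (g : U ⟶ Z) [Flat g] (u : U) (z : Z) (h : g u = z) :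
    (stalkTo g u z h).Flat := by
  subst h
  rw [stalkTo_rfl]
  exact Flat.stalkMap g u

theorem map_maximalIdeal_stalkTo {U Z : Scheme.{u}} (g : U ⟶ Z) [LocallyOfFiniteType g]
    [FormallyUnramified g] (u : U) (z : Z) (h : g u = z) :
    (maximalIdeal (Z.presheaf.stalk z)).map (stalkTo g u z h) =
      maximalIdeal (U.presheaf.stalk u) := by
  subst h
  rw [stalkTo_rfl]
  exact ((Groth.Agent.Lib.Helper20.EtLocal.formallyUnramified_stalkMap_iff_local g u).mp
    (FormallyUnramified.stalkMap g u)).1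

theorem bijective_stalkTo_of_isOpenImmersion {U' U : Scheme.{u}} (j : U' ⟶ U)
    [IsOpenImmersion j] (u' : U') (u : U) (h : j u' = u) :
    Function.Bijective (stalkTo j u' u h) := by
  subst h
  rw [stalkTo_rfl]
  exact ConcreteCategory.bijective_of_isIso (j.stalkMap u')

/-- elementwise form of bijectivity of the residue field map -/
theorem residueFieldMap_bijective_iff {U Z : Scheme.{u}} (g : U ⟶ Z) (u : U) (z : Z)
    (h : g u = z) :
    Function.Bijective (g.residueFieldMap u) ↔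
      ∀ r : U.presheaf.stalk u, ∃ c : Z.presheaf.stalk z,
        r - stalkTo g u z h c ∈ maximalIdeal (U.presheaf.stalk u) := by
  subst h
  rw [stalkTo_rfl]
  constructor
  · intro hb r
    obtain ⟨k, hk⟩ := hb.2 (IsLocalRing.residue _ r)
    obtain ⟨c, rfl⟩ := IsLocalRing.residue_surjective k
    refine ⟨c, ?_⟩
    change IsLocalRing.ResidueField.map (g.stalkMap u).hom (IsLocalRing.residue _ c) = _ at hk
    rw [IsLocalRing.ResidueField.map_residue] at hk
    rw [← Ideal.Quotient.eq]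
    exact hk.symm
  · intro hs
    refine ⟨(g.residueFieldMap u).hom.injective, ?_⟩
    intro k
    obtain ⟨r, rfl⟩ := IsLocalRing.residue_surjective k
    obtain ⟨c, hc⟩ := hs r
    refine ⟨IsLocalRing.residue _ c, ?_⟩
    change IsLocalRing.ResidueField.map (g.stalkMap u).hom (IsLocalRing.residue _ c) = _
    rw [IsLocalRing.ResidueField.map_residue]
    exact (Ideal.Quotient.eq.mpr hc).symm

theorem flat_stalkMap_of_stalkTo {U Z : Scheme.{u}} (g : U ⟶ Z) (u : U) (z : Z) (h : g u = z)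
    (hf : (stalkTo g u z h).Flat) : (g.stalkMap u).hom.Flat := by
  subst h
  rwa [stalkTo_rfl] at hf

theorem formallyUnramified_stalkMap_of_stalkTo {U Z : Scheme.{u}} (g : U ⟶ Z)
    [LocallyOfFiniteType g] (u : U) (z : Z) (h : g u = z)
    (hmax : (maximalIdeal (Z.presheaf.stalk z)).map (stalkTo g u z h) =
      maximalIdeal (U.presheaf.stalk u))
    (hbij : Function.Bijective (g.residueFieldMap u)) :
    (g.stalkMap u).hom.FormallyUnramified := by
  subst h
  rw [stalkTo_rfl] at hmax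
  refine (Groth.Agent.Lib.Helper20.EtLocal.formallyUnramified_stalkMap_iff_local g u).mpr
    ⟨hmax, ?_⟩
  letI := (g.residueFieldMap u).hom.toAlgebra
  let E : Z.residueField (g u) ≃ₐ[Z.residueField (g u)] U.residueField u :=
    AlgEquiv.ofBijective (Algebra.ofId _ _) hbij
  exact ⟨Module.Finite.equiv E.toLinearEquiv,
    Algebra.IsSeparable.of_algHom (Z.residueField (g u)) (Z.residueField (g u)) E.symm.toAlgHom⟩

theorem evalₐ_eq_zero_of_le (R : Type u) [CommRing R] [IsLocalRing R] [IsNoetherianRing R]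
    {m n : ℕ} (hmn : m ≤ n) (z : Cpl R)
    (h : AdicCompletion.evalₐ (maximalIdeal R) n z = 0) :
    AdicCompletion.evalₐ (maximalIdeal R) m z = 0 := by
  rw [evalₐ_eq_zero_iff] at h ⊢
  exact Ideal.pow_le_pow_right hmn h


section Final
variable {X Y : Scheme.{u}} [IsLocallyNoetherian X] [IsLocallyNoetherian Y]

theorem final (x : X) (y : Y)
    (φ : Cpl ↑(Y.presheaf.stalk y) ≃+* Cpl ↑(X.presheaf.stalk x)) (N : ℕ)
    {U : Scheme.{u}} (e : U ⟶ X) (u : U) (heu : e u = x) (f : U ⟶ Y) (hfu : f u = y)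
    [Etale e] [LocallyOfFiniteType f] (hres : Function.Bijective (e.residueFieldMap u))
    (happ : ∀ (b : ↑(Y.presheaf.stalk y)) (c : ↑(X.presheaf.stalk x)),
        AdicCompletion.evalₐ (maximalIdeal ↑(X.presheaf.stalk x)) (N + 1)
          (φ (algebraMap ↑(Y.presheaf.stalk y) (Cpl ↑(Y.presheaf.stalk y)) b)) =
            Ideal.Quotient.mk _ c →
        Ideal.Quotient.mk (maximalIdeal ↑(U.presheaf.stalk u) ^ (N + 1)) (stalkTo f u y hfu b) =
        Ideal.Quotient.mk (maximalIdeal ↑(U.presheaf.stalk u) ^ (N + 1)) (stalkTo e u x heu c))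
    (hN : 1 ≤ N) :
    ∃ (U' : U.Opens) (u' : (U' : Scheme.{u})) (_ : U'.ι u' = u), Etale (U'.ι ≫ f) ∧
      Function.Bijective ((U'.ι ≫ e).residueFieldMap u') ∧
      Function.Bijective ((U'.ι ≫ f).residueFieldMap u') ∧
      ∀ (heu' : (U'.ι ≫ e) u' = x) (hfu' : (U'.ι ≫ f) u' = y)
        (b : Cpl ↑(Y.presheaf.stalk y)) (cY : ↑(Y.presheaf.stalk y))
        (cX : ↑(X.presheaf.stalk x)),
        AdicCompletion.evalₐ (maximalIdeal ↑(Y.presheaf.stalk y)) N b =
          Ideal.Quotient.mk _ cY →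
        AdicCompletion.evalₐ (maximalIdeal ↑(X.presheaf.stalk x)) N (φ b) =
          Ideal.Quotient.mk _ cX →
        Ideal.Quotient.mk (maximalIdeal ↑((U' : Scheme.{u}).presheaf.stalk u') ^ N)
            (stalkTo (U'.ι ≫ f) u' y hfu' cY) =
          Ideal.Quotient.mk (maximalIdeal ↑((U' : Scheme.{u}).presheaf.stalk u') ^ N)
            (stalkTo (U'.ι ≫ e) u' x heu' cX) := by
  haveI : IsLocallyNoetherian U := LocallyOfFiniteType.isLocallyNoetherian e
  haveI := isLocalHom_stalkTo f u y hfu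
  haveI := isLocalHom_stalkTo e u x heu
  have hεflat : (stalkTo e u x heu).Flat := flat_stalkTo e u x heu
  have hεmax := map_maximalIdeal_stalkTo e u x heu
  have hεres := (residueFieldMap_bijective_iff e u x heu).mp hres
  have hεpow : ∀ (n : ℕ) (c : ↑(X.presheaf.stalk x)),
      c ∈ maximalIdeal ↑(X.presheaf.stalk x) ^ n →
      stalkTo e u x heu c ∈ maximalIdeal ↑(U.presheaf.stalk u) ^ n := fun n c hc => by
    rw [← hεmax, ← Ideal.map_pow]; exact Ideal.mem_map_of_mem _ hc
  have happ' : ∀ (b : ↑(Y.presheaf.stalk y)) (c : ↑(X.presheaf.stalk x)),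
      AdicCompletion.evalₐ (maximalIdeal ↑(X.presheaf.stalk x)) (N + 1)
        (φ (algebraMap ↑(Y.presheaf.stalk y) (Cpl ↑(Y.presheaf.stalk y)) b)) =
          Ideal.Quotient.mk _ c →
      stalkTo f u y hfu b - stalkTo e u x heu c ∈ maximalIdeal ↑(U.presheaf.stalk u) ^ (N + 1) :=
    fun b c h => Ideal.Quotient.eq.mp (happ b c h)
  -- a general consequence: approximation at any level `k ≤ N + 1`
  have happk : ∀ (k : ℕ), k ≤ N + 1 → ∀ (b : ↑(Y.presheaf.stalk y)) (c : ↑(X.presheaf.stalk x)),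
      AdicCompletion.evalₐ (maximalIdeal ↑(X.presheaf.stalk x)) k
        (φ (algebraMap ↑(Y.presheaf.stalk y) (Cpl ↑(Y.presheaf.stalk y)) b)) =
          Ideal.Quotient.mk _ c →
      stalkTo f u y hfu b - stalkTo e u x heu c ∈ maximalIdeal ↑(U.presheaf.stalk u) ^ k := by
    intro k hk b c h
    obtain ⟨c', hc'⟩ := Ideal.Quotient.mk_surjective
      (AdicCompletion.evalₐ (maximalIdeal ↑(X.presheaf.stalk x)) (N + 1)
        (φ (algebraMap ↑(Y.presheaf.stalk y) (Cpl ↑(Y.presheaf.stalk y)) b)))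
    have h1 := happ' b c' hc'.symm
    have h2 : AdicCompletion.evalₐ (maximalIdeal ↑(X.presheaf.stalk x)) (N + 1)
        (φ (algebraMap ↑(Y.presheaf.stalk y) (Cpl ↑(Y.presheaf.stalk y)) b) -
          algebraMap ↑(X.presheaf.stalk x) (Cpl ↑(X.presheaf.stalk x)) c') = 0 := by
      rw [map_sub, sub_eq_zero, ← hc']
      exact (AdicCompletion.evalₐ_of _ _ c').symm
    have h3 := evalₐ_eq_zero_of_le _ hk _ h2
    rw [map_sub, sub_eq_zero, h] at h3
    have h4 : c - c' ∈ maximalIdeal ↑(X.presheaf.stalk x) ^ k := by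
      rw [← Ideal.Quotient.eq, h3]
      exact AdicCompletion.evalₐ_of _ _ c'
    have e1 : stalkTo f u y hfu b - stalkTo e u x heu c =
        (stalkTo f u y hfu b - stalkTo e u x heu c') - stalkTo e u x heu (c - c') := by
      rw [map_sub]; ring
    rw [e1]
    exact Ideal.sub_mem _ (Ideal.pow_le_pow_right hk h1) (hεpow k _ h4)
  obtain ⟨hαflat, hαmax, hαres⟩ := CommonNbhd.main (stalkTo f u y hfu) (stalkTo e u x heu)
    hεflat hεmax hεres φ (happk 2 (by omega))
  have hfbij : Function.Bijective (f.residueFieldMap u) :=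
    (residueFieldMap_bijective_iff f u y hfu).mpr hαres
  have H1 : (f.stalkMap u).hom.FormallyUnramified :=
    formallyUnramified_stalkMap_of_stalkTo f u y hfu hαmax hfbij
  have H2 : (f.stalkMap u).hom.Flat := flat_stalkMap_of_stalkTo f u y hfu hαflat
  obtain ⟨U', hu, hEt⟩ := Groth.Agent.Lib.Helper20.EtLocal.exists_etale_nbhd f u H1 H2
  obtain ⟨u', hj⟩ : ∃ u' : (U' : Scheme.{u}), U'.ι u' = u := ⟨⟨u, hu⟩, rfl⟩
  have heu'' : (U'.ι ≫ e) u' = x := by
    rw [Scheme.Hom.comp_apply, hj, heu]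
  have hfu'' : (U'.ι ≫ f) u' = y := by
    rw [Scheme.Hom.comp_apply, hj, hfu]
  have hJbij := bijective_stalkTo_of_isOpenImmersion U'.ι u' u hj
  haveI hJloc := isLocalHom_stalkTo U'.ι u' u hj
  have hJmax : ∀ r ∈ maximalIdeal ↑(U.presheaf.stalk u),
      stalkTo U'.ι u' u hj r ∈ maximalIdeal ↑((U' : Scheme.{u}).presheaf.stalk u') := by
    intro r hr
    have hle : (maximalIdeal ↑(U.presheaf.stalk u)).map (stalkTo U'.ι u' u hj) ≤
        maximalIdeal ↑((U' : Scheme.{u}).presheaf.stalk u') :=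
      ((local_hom_TFAE (stalkTo U'.ι u' u hj)).out 0 2).mp hJloc
    exact hle (Ideal.mem_map_of_mem _ hr)
  have hJpow : ∀ (n : ℕ), ∀ r ∈ maximalIdeal ↑(U.presheaf.stalk u) ^ n,
      stalkTo U'.ι u' u hj r ∈ maximalIdeal ↑((U' : Scheme.{u}).presheaf.stalk u') ^ n := by
    intro n r hr
    have h1 : (maximalIdeal ↑(U.presheaf.stalk u) ^ n).map (stalkTo U'.ι u' u hj) ≤
        maximalIdeal ↑((U' : Scheme.{u}).presheaf.stalk u') ^ n := by
      rw [Ideal.map_pow]
      exact Ideal.pow_right_mono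
        (((local_hom_TFAE (stalkTo U'.ι u' u hj)).out 0 2).mp hJloc) n
    exact h1 (Ideal.mem_map_of_mem _ hr)
  refine ⟨U', u', hj, hEt, ?_, ?_, ?_⟩
  · rw [residueFieldMap_bijective_iff (U'.ι ≫ e) _ x heu'']
    intro r'
    obtain ⟨r, rfl⟩ := hJbij.2 r'
    obtain ⟨c, hc⟩ := hεres r
    refine ⟨c, ?_⟩
    rw [stalkTo_comp U'.ι e _ u x hj heu heu'', RingHom.comp_apply, ← map_sub]
    exact hJmax _ hc
  · rw [residueFieldMap_bijective_iff (U'.ι ≫ f) _ y hfu'']
    intro r'
    obtain ⟨r, rfl⟩ := hJbij.2 r'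
    obtain ⟨c, hc⟩ := hαres r
    refine ⟨c, ?_⟩
    rw [stalkTo_comp U'.ι f _ u y hj hfu hfu'', RingHom.comp_apply, ← map_sub]
    exact hJmax _ hc
  · intro heu' hfu' b cY cX hbY hbX
    rw [stalkTo_comp U'.ι e _ u x hj heu heu', stalkTo_comp U'.ι f _ u y hj hfu hfu',
      RingHom.comp_apply, RingHom.comp_apply, Ideal.Quotient.eq, ← map_sub]
    apply hJpow N
    apply happk N (by omega) cY cX
    rw [← hbX]
    have h0 : AdicCompletion.evalₐ (maximalIdeal ↑(Y.presheaf.stalk y)) N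
        (algebraMap ↑(Y.presheaf.stalk y) (Cpl ↑(Y.presheaf.stalk y)) cY - b) = 0 := by
      rw [map_sub, sub_eq_zero, hbY]
      exact AdicCompletion.evalₐ_of _ _ cY
    rw [← evalₐ_iff φ, map_sub, map_sub, sub_eq_zero] at h0
    exact h0

end Final

end Groth.Agent.Lib.Helper7.CommonNbhdSch
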