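import Mathlib

set_option autoImplicit false
universe u

namespace Groth.Agent.Lib.Helper7.ConormalP

open TensorProduct KaehlerDifferential

/-- If `A → C` is surjective with kernel `J` and `1 ⊗ ω = 0` in `C ⊗[A] M`, then `ω ∈ J • ⊤`. -/
theorem mem_smul_top_of_one_tmul_eq_zero {A C M : Type*} [CommRing A] [CommRing C] [Algebra A C]
    [AddCommGroup M] [Module A M] (hsurj : Function.Surjective (algebraMap A C)) (ω : M)
    (h : (1 : C) ⊗ₜ[A] ω = 0) :
    ω ∈ (RingHom.ker (algebraMap A C)) • (⊤ : Submodule A M) := by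
  have hs : Function.Surjective (Algebra.ofId A C) := hsurj
  let e : (A ⧸ RingHom.ker (Algebra.ofId A C)) ≃ₐ[A] C := Ideal.quotientKerAlgEquivOfSurjective hs
  have h1 : (1 : A ⧸ RingHom.ker (Algebra.ofId A C)) ⊗ₜ[A] ω = 0 := by
    have := congrArg (LinearMap.rTensor M e.symm.toLinearMap) h
    simpa using this
  have h2 := congrArg (TensorProduct.quotTensorEquivQuotSMul M (RingHom.ker (Algebra.ofId A C))) h1
  rw [TensorProduct.quotTensorEquivQuotSMul_mk_one_tmul, map_zero,
    Submodule.Quotient.mk_eq_zero] at h2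
  exact h2

section main

variable {Λ A C : Type u} [CommRing Λ] [CommRing A] [CommRing C] [Algebra Λ A] [Algebra A C]
  [Algebra Λ C] [IsScalarTower Λ A C]

/-- The ideal `J² + pA`. -/
abbrev II (A C : Type u) [CommRing A] [CommRing C] [Algebra A C] (p : ℕ) : Ideal A :=
  (RingHom.ker (algebraMap A C)) ^ 2 ⊔ Ideal.span {(p : A)}

theorem II_le (p : ℕ) (hp : (p : A) ∈ RingHom.ker (algebraMap A C)) :
    II A C p ≤ RingHom.ker (algebraMap A C) := by
  refine sup_le (Ideal.pow_le_self two_ne_zero) ?_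
  rw [Ideal.span_singleton_le_iff_mem]
  exact hp

/-- `E = A / (J² + pA)`. -/
abbrev EE (A C : Type u) [CommRing A] [CommRing C] [Algebra A C] (p : ℕ) : Type u := A ⧸ II A C p

/-- the projection `E → C` -/
noncomputable def piRing (p : ℕ) (hp : (p : A) ∈ RingHom.ker (algebraMap A C)) : EE A C p →+* C :=
  Ideal.Quotient.lift (II A C p) (algebraMap A C) (fun a ha => II_le p hp ha)

@[simp] theorem piRing_mk (p : ℕ) (hp : (p : A) ∈ RingHom.ker (algebraMap A C)) (a : A) :
    piRing p hp (Ideal.Quotient.mk (II A C p) a) = algebraMap A C a := rfl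

theorem piRing_surjective (hsurj : Function.Surjective (algebraMap A C)) (p : ℕ)
    (hp : (p : A) ∈ RingHom.ker (algebraMap A C)) : Function.Surjective (piRing p hp) := by
  intro c
  obtain ⟨a, rfl⟩ := hsurj c
  exact ⟨Ideal.Quotient.mk _ a, rfl⟩

theorem mul_eq_zero_of_mem_ker (p : ℕ) (hp : (p : A) ∈ RingHom.ker (algebraMap A C))
    {x y : EE A C p} (hx : piRing p hp x = 0) (hy : piRing p hp y = 0) : x * y = 0 := by
  obtain ⟨a, rfl⟩ := Ideal.Quotient.mk_surjective x
  obtain ⟨b, rfl⟩ := Ideal.Quotient.mk_surjective y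
  rw [piRing_mk] at hx hy
  rw [← map_mul, Ideal.Quotient.eq_zero_iff_mem]
  refine Ideal.mem_sup_left ?_
  rw [pow_two]
  exact Ideal.mul_mem_mul hx hy

theorem ker_piRing_sq (p : ℕ) (hp : (p : A) ∈ RingHom.ker (algebraMap A C)) :
    RingHom.ker (piRing p hp) ^ 2 = ⊥ := by
  rw [eq_bot_iff, pow_two, Ideal.mul_le]
  intro x hx y hy
  rw [Ideal.mem_bot]
  exact mul_eq_zero_of_mem_ker p hp hx hy

/-- the structure map `Λ/p → E` -/
noncomputable def algERing (Λ : Type u) [CommRing Λ] [Algebra Λ A] (p : ℕ) :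
    (Λ ⧸ Ideal.span {(p : Λ)}) →+* EE A C p :=
  Ideal.Quotient.lift _ (algebraMap Λ (EE A C p)) (by
    intro a ha
    obtain ⟨c, rfl⟩ := Ideal.mem_span_singleton'.mp ha
    rw [map_mul, map_natCast]
    have : ((p : ℕ) : EE A C p) = 0 := by
      rw [← map_natCast (Ideal.Quotient.mk (II A C p)), Ideal.Quotient.eq_zero_iff_mem]
      exact Ideal.mem_sup_right (Ideal.subset_span rfl)
    rw [this, mul_zero])

theorem main_aux (hsurj : Function.Surjective (algebraMap A C)) (p : ℕ)
    [Algebra (Λ ⧸ Ideal.span {(p : Λ)}) C] [IsScalarTower Λ (Λ ⧸ Ideal.span {(p : Λ)}) C]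
    [Algebra.FormallySmooth (Λ ⧸ Ideal.span {(p : Λ)}) C]
    (hp : (p : A) ∈ RingHom.ker (algebraMap A C)) (x : A) (hx : x ∈ RingHom.ker (algebraMap A C))
    (h : (1 : C) ⊗ₜ[A] (D Λ A x) = 0) : x ∈ II A C p := by
  letI algE : Algebra (Λ ⧸ Ideal.span {(p : Λ)}) (EE A C p) := (algERing (A := A) (C := C) Λ p).toAlgebra
  haveI towerE : IsScalarTower Λ (Λ ⧸ Ideal.span {(p : Λ)}) (EE A C p) :=
    IsScalarTower.of_algebraMap_eq (fun l => rfl)
  -- the projection as an algebra map
  let π : EE A C p →ₐ[Λ ⧸ Ideal.span {(p : Λ)}] C :=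
    { toRingHom := piRing p hp
      commutes' := by
        intro r
        obtain ⟨l, rfl⟩ := Ideal.Quotient.mk_surjective r
        have h1 : algebraMap (Λ ⧸ Ideal.span {(p : Λ)}) (EE A C p) (Ideal.Quotient.mk _ l) =
            Ideal.Quotient.mk (II A C p) (algebraMap Λ A l) := rfl
        have h2 : (Ideal.Quotient.mk (Ideal.span {(p : Λ)}) l) =
            algebraMap Λ (Λ ⧸ Ideal.span {(p : Λ)}) l := rfl
        show piRing p hp _ = _
        rw [h1, piRing_mk, h2, ← IsScalarTower.algebraMap_apply, ← IsScalarTower.algebraMap_apply] }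
  have hπ : ∀ e, π e = piRing p hp e := fun _ => rfl
  have hπsurj : Function.Surjective π := piRing_surjective hsurj p hp
  have hnil : IsNilpotent (RingHom.ker (π : EE A C p →+* C)) := ⟨2, ker_piRing_sq p hp⟩
  let σ := Algebra.FormallySmooth.liftOfSurjective (AlgHom.id (Λ ⧸ Ideal.span {(p : Λ)}) C) π
    hπsurj hnil
  have hσ : ∀ c, piRing p hp (σ c) = c := fun c =>
    Algebra.FormallySmooth.liftOfSurjective_apply (AlgHom.id _ C) π hπsurj hnil c
  -- the two algebra maps `A → E`
  let f₁ : A →ₐ[Λ] EE A C p := IsScalarTower.toAlgHom Λ A (EE A C p)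
  let f₂ : A →ₐ[Λ] EE A C p := (σ.restrictScalars Λ).comp (IsScalarTower.toAlgHom Λ A C)
  have hf₁ : ∀ a, f₁ a = Ideal.Quotient.mk (II A C p) a := fun _ => rfl
  have hf₂ : ∀ a, f₂ a = σ (algebraMap A C a) := fun _ => rfl
  have hdiff : ∀ a, piRing p hp (f₁ a - f₂ a) = 0 := by
    intro a
    rw [map_sub, hf₁, hf₂, piRing_mk, hσ, sub_self]
  have hprod : ∀ a b, (f₁ a - f₂ a) * (f₁ b - f₂ b) = 0 := fun a b =>
    mul_eq_zero_of_mem_ker p hp (hdiff a) (hdiff b)
  let δ : Derivation Λ A (EE A C p) := Derivation.mk' (f₁.toLinearMap - f₂.toLinearMap) (by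
    intro a b
    simp only [LinearMap.sub_apply, AlgHom.toLinearMap_apply, map_mul, Algebra.smul_def]
    have e1 : algebraMap A (EE A C p) a = f₁ a := rfl
    have e2 : algebraMap A (EE A C p) b = f₁ b := rfl
    rw [e1, e2]
    linear_combination (-1 : EE A C p) * hprod a b)
  have hδ : ∀ a, δ a = f₁ a - f₂ a := fun _ => rfl
  let φ : Ω[A⁄Λ] →ₗ[A] EE A C p := δ.liftKaehlerDifferential
  have hφ : ∀ a, φ (D Λ A a) = δ a := fun a => Derivation.liftKaehlerDifferential_comp_D δ a
  -- `φ` lands in the kernel of `π`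
  have hφker : ∀ ω, piRing p hp (φ ω) = 0 := by
    intro ω
    have hω : ω ∈ Submodule.span A (Set.range (D Λ A)) := by
      rw [KaehlerDifferential.span_range_derivation]; trivial
    induction hω using Submodule.span_induction with
    | mem y hy =>
      obtain ⟨a, rfl⟩ := hy
      rw [hφ, hδ]; exact hdiff a
    | zero => simp
    | add y z _ _ hy hz => rw [map_add, map_add, hy, hz, add_zero]
    | smul a y _ hy =>
      rw [map_smul, Algebra.smul_def, map_mul, hy, mul_zero]
  -- `D x ∈ J • ⊤`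
  have hmem := mem_smul_top_of_one_tmul_eq_zero hsurj (D Λ A x) h
  have hzero : φ (D Λ A x) = 0 := by
    refine Submodule.smul_induction_on (p := fun ω => φ ω = 0) hmem ?_ ?_
    · intro j hj ω _
      rw [map_smul, Algebra.smul_def]
      refine mul_eq_zero_of_mem_ker p hp ?_ (hφker ω)
      show piRing p hp (Ideal.Quotient.mk _ j) = 0
      rw [piRing_mk]; exact hj
    · intro y z hy hz
      rw [map_add, hy, hz, add_zero]
  rw [hφ, hδ, hf₁, hf₂] at hzero
  have hx0 : algebraMap A C x = 0 := hx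
  rw [hx0, map_zero, sub_zero, Ideal.Quotient.eq_zero_iff_mem] at hzero
  exact hzero

end main

end Groth.Agent.Lib.Helper7.ConormalP
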