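import Mathlib
import Groth.Prelude.Def_Cyc
import Groth.Agent.Lib.Helper2CycBC
import Groth.Agent.Lib.Helper2CycRelDim

/-!
# The map induced on fibres by a morphism over a base

For `f : X' ⟶ X` and `b : X ⟶ S` and `y : S`, the map `fibMap f b y : (f ≫ b).fiber y ⟶ b.fiber y`
(a `pullback.map`, in the exact form used in statements about specialization of cycles), its
cartesian square, and the permanence of flatness, finite type, relative dimension and
`Cyc.DeltaCompat`.
-/

set_option autoImplicit false
set_option linter.style.haveILetI false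
universe u
open CategoryTheory CategoryTheory.Limits AlgebraicGeometry

namespace Groth.Agent.Lib.Helper7.CycPB

variable {X' X S : Scheme.{u}} (f : X' ⟶ X) (b : X ⟶ S) (y : S)

/-- the map of fibres over `y` induced by `f`. -/
noncomputable def fibMap : (f ≫ b).fiber y ⟶ b.fiber y :=
  pullback.map (f ≫ b) (S.fromSpecResidueField y) b (S.fromSpecResidueField y) f (𝟙 _) (𝟙 _)
    (Category.comp_id _) ((Category.comp_id _).trans (Category.id_comp _).symm)

@[reassoc]
theorem fibMap_fiberι : fibMap f b y ≫ b.fiberι y = (f ≫ b).fiberι y ≫ f := by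
  unfold fibMap Scheme.Hom.fiberι
  exact pullback.lift_fst _ _ _

@[reassoc]
theorem fibMap_fiberToSpecResidueField :
    fibMap f b y ≫ b.fiberToSpecResidueField y = (f ≫ b).fiberToSpecResidueField y := by
  unfold fibMap Scheme.Hom.fiberToSpecResidueField
  exact (pullback.lift_snd _ _ _).trans (Category.comp_id _)

theorem fiberι_fibMap_apply (z : ↥((f ≫ b).fiber y)) :
    b.fiberι y (fibMap f b y z) = f ((f ≫ b).fiberι y z) := by
  rw [← Scheme.Hom.comp_apply, fibMap_fiberι, Scheme.Hom.comp_apply]

/-- the square exhibiting `fibMap` as a base change of `f`. -/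
theorem isPullback_fibMap :
    IsPullback (fibMap f b y) ((f ≫ b).fiberι y) (b.fiberι y) f := by
  refine IsPullback.of_right (h₁₂ := b.fiberToSpecResidueField y)
    (v₁₃ := S.fromSpecResidueField y) (h₂₂ := b) ?_ (fibMap_fiberι f b y) ?_
  · rw [fibMap_fiberToSpecResidueField]
    exact (IsPullback.of_hasPullback (f ≫ b) (S.fromSpecResidueField y)).flip
  · exact (IsPullback.of_hasPullback b (S.fromSpecResidueField y)).flip

instance flat_fibMap [Flat f] : Flat (fibMap f b y) :=
  MorphismProperty.of_isPullback (isPullback_fibMap f b y).flip ‹Flat f›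

instance locallyOfFiniteType_fibMap [LocallyOfFiniteType f] :
    LocallyOfFiniteType (fibMap f b y) :=
  MorphismProperty.of_isPullback (isPullback_fibMap f b y).flip ‹LocallyOfFiniteType f›

theorem hasRelDim_fibMap [LocallyOfFiniteType f] (e : ℕ) (he : Cyc.HasRelDim f e) :
    Cyc.HasRelDim (fibMap f b y) e :=
  Groth.Agent.Lib.Helper2.CycBC.hasRelDim_of_isPullback f (b.fiberι y) ((f ≫ b).fiberι y)
    (fibMap f b y) (isPullback_fibMap f b y).flip e he

/-- `DeltaCompat` for the fibres over the residue field gives `DeltaCompat` for `fibMap`. -/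
theorem deltaCompat_fibMap (δ' : ↥((f ≫ b).fiber y) → ℤ) (δ : ↥(b.fiber y) → ℤ)
    (h' : Cyc.DeltaCompat ((f ≫ b).fiberToSpecResidueField y) δ' (fun _ => 0))
    (h : Cyc.DeltaCompat (b.fiberToSpecResidueField y) δ (fun _ => 0)) :
    Cyc.DeltaCompat (fibMap f b y) δ' δ := by
  intro z
  have key : ∀ (k : (f ≫ b).fiber y ⟶ Spec (S.residueField y)),
      k = fibMap f b y ≫ b.fiberToSpecResidueField y →
      Cyc.DeltaCompat k δ' (fun _ => 0) →
      ∃ n : ℕ, (letI := ((fibMap f b y).residueFieldMap z).hom.toAlgebra
        Algebra.trdeg ((b.fiber y).residueField (fibMap f b y z))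
          (((f ≫ b).fiber y).residueField z)) = n ∧ δ' z = δ (fibMap f b y z) + n := by
    rintro k rfl hk
    obtain ⟨n', hn', hδ'⟩ := hk z
    obtain ⟨n, hn, hδ⟩ := h (fibMap f b y z)
    have htow := Groth.Agent.Lib.Helper2.CycRelDim.trdeg_comp (fibMap f b y)
      (b.fiberToSpecResidueField y) z
    rw [hn] at htow
    have htow' : (n : Cardinal.{u}) + @Algebra.trdeg ((b.fiber y).residueField (fibMap f b y z))
        (((f ≫ b).fiber y).residueField z) _ _
        ((fibMap f b y).residueFieldMap z).hom.toAlgebra = (n' : Cardinal.{u}) :=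
      htow.trans hn'
    have hlt : @Algebra.trdeg ((b.fiber y).residueField (fibMap f b y z))
        (((f ≫ b).fiber y).residueField z) _ _
        ((fibMap f b y).residueFieldMap z).hom.toAlgebra < Cardinal.aleph0 := by
      refine lt_of_le_of_lt ?_ (Cardinal.natCast_lt_aleph0 (n := n'))
      rw [← htow']
      exact le_add_self
    obtain ⟨m, hm⟩ := Cardinal.lt_aleph0.mp hlt
    refine ⟨m, hm, ?_⟩
    rw [hm] at htow'
    have h3 : n + m = n' := by exact_mod_cast htow'
    simp only [zero_add] at hδ' hδ
    rw [hδ', hδ, ← h3]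
    push_cast
    ring
  exact key _ (fibMap_fiberToSpecResidueField f b y).symm h'

end Groth.Agent.Lib.Helper7.CycPB
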