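import Mathlib
import Groth.Agent.Lib.Helper7CycPB1
import Groth.Agent.Lib.Helper4KFilt2
import Groth.Agent.Lib.Helper20FormalPull

/-!
# Pulled-back modules on the fibres

For `f : X' ⟶ X` flat, `b : X ⟶ S`, `y : S` and `F` a quasi-coherent module on `X`: the restriction of
`f^*F` to the fibre of `f ≫ b` over `y` is the pullback along `fibMap` of the restriction of `F` to the
fibre of `b`; consequences for lengths of stalks, coherence and flatness over the base.
-/

set_option autoImplicit false
set_option linter.style.haveILetI false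
universe u
open CategoryTheory CategoryTheory.Limits AlgebraicGeometry IsLocalRing

namespace Groth.Agent.Lib.Helper7.CycPB

variable {X' X S : Scheme.{u}} (f : X' ⟶ X) (b : X ⟶ S) (y : S) (F : X.Modules)

/-- restriction of `f^*F` to the fibre is the pullback of the restriction of `F`. -/
noncomputable def pullIso :
    (Scheme.Modules.pullback ((f ≫ b).fiberι y)).obj ((Scheme.Modules.pullback f).obj F) ≅
      (Scheme.Modules.pullback (fibMap f b y)).obj
        ((Scheme.Modules.pullback (b.fiberι y)).obj F) :=
  (Scheme.Modules.pullbackComp ((f ≫ b).fiberι y) f).app F ≪≫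
    (Scheme.Modules.pullbackCongr (fibMap_fiberι f b y).symm).app F ≪≫
    ((Scheme.Modules.pullbackComp (fibMap f b y) (b.fiberι y)).app F).symm

variable [F.IsQuasicoherent]

instance isQuasicoherent_pullback' {Y Z : Scheme.{u}} (g : Y ⟶ Z) (G : Z.Modules)
    [G.IsQuasicoherent] : ((Scheme.Modules.pullback g).obj G).IsQuasicoherent :=
  Groth.Agent.Lib.Helper2.PullbackSec.isQuasicoherent_pullback g G

instance isFiniteType_pullback' {Y Z : Scheme.{u}} (g : Y ⟶ Z) (G : Z.Modules)
    [G.IsQuasicoherent] [SheafOfModules.IsFiniteType (R := Z.ringCatSheaf) G] :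
    SheafOfModules.IsFiniteType (R := Y.ringCatSheaf) ((Scheme.Modules.pullback g).obj G) :=
  Groth.Agent.Lib.Helper20.FormalPull.isFiniteType_pullback g G

/-- the length of the stalk of the restriction of `f^*F` to the fibre. -/
theorem length_stalk_fibre_pullback [Flat f] (z : ↥((f ≫ b).fiber y)) :
    Module.length (((f ≫ b).fiber y).presheaf.stalk z)
      (((Scheme.Modules.pullback ((f ≫ b).fiberι y)).obj
        ((Scheme.Modules.pullback f).obj F)).presheaf.stalk z) =
    Module.length ((b.fiber y).presheaf.stalk (fibMap f b y z))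
      (((Scheme.Modules.pullback (b.fiberι y)).obj F).presheaf.stalk (fibMap f b y z)) *
    Module.length (((f ≫ b).fiber y).presheaf.stalk z)
      (((f ≫ b).fiber y).presheaf.stalk z ⧸
        Ideal.map ((fibMap f b y).stalkMap z).hom
          (maximalIdeal ((b.fiber y).presheaf.stalk (fibMap f b y z)))) := by
  rw [Groth.Agent.Lib.Helper4.KFilt.length_stalk_eq_of_iso (pullIso f b y F) z]
  exact Groth.Agent.Lib.Helper2.CycRelDim.length_stalk_pullback (fibMap f b y)
    ((Scheme.Modules.pullback (b.fiberι y)).obj F) z

/-- nontriviality of the stalk of the restriction of `f^*F` forces nontriviality downstairs. -/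
theorem nontrivial_stalk_fibre_of_pullback (z : ↥((f ≫ b).fiber y))
    (h : Nontrivial (((Scheme.Modules.pullback ((f ≫ b).fiberι y)).obj
      ((Scheme.Modules.pullback f).obj F)).presheaf.stalk z)) :
    Nontrivial (((Scheme.Modules.pullback (b.fiberι y)).obj F).presheaf.stalk (fibMap f b y z)) := by
  apply Groth.Agent.Lib.Helper2.CycRelDim.nontrivial_stalk_of_pullback (fibMap f b y)
    ((Scheme.Modules.pullback (b.fiberι y)).obj F) z
  rw [← not_subsingleton_iff_nontrivial] at h ⊢
  intro hs
  apply h
  have h0 : Module.length (((f ≫ b).fiber y).presheaf.stalk z)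
      (((Scheme.Modules.pullback (fibMap f b y)).obj
        ((Scheme.Modules.pullback (b.fiberι y)).obj F)).presheaf.stalk z) = 0 :=
    Module.length_eq_zero_iff.2 hs
  rw [← Groth.Agent.Lib.Helper4.KFilt.length_stalk_eq_of_iso (pullIso f b y F) z] at h0
  exact Module.length_eq_zero_iff.1 h0

/-- flatness over the base of the pullback along a flat morphism. -/
theorem isFlatOver_pullback [Flat f] (hflat : FlatMod.IsFlatOver b F) :
    FlatMod.IsFlatOver (f ≫ b) ((Scheme.Modules.pullback f).obj F) := fun x' =>
  (Groth.Agent.Lib.Helper2.PullbackSec.isFlatOverAt_pullback_iff f b F x'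
    ((Flat.iff_flat_stalkMap f).mp inferInstance x')).mp (hflat (f x'))

end Groth.Agent.Lib.Helper7.CycPB
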