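import Mathlib



set_option autoImplicit false
set_option linter.style.haveILetI false
set_option linter.unusedVariables false
universe u
open CategoryTheory CategoryTheory.Limits AlgebraicGeometry TensorProduct IsLocalRing

namespace Groth.Agent.Lib.Helper7.CycSp

theorem trdeg_le_of_square {k1 K1 k2 K2 : Type u} [Field k1] [Field K1] [Field k2] [Field K2]
    [Algebra k1 K1] [Algebra k2 K2] (α : k1 →+* k2) (β : K1 →+* K2) (hα : Function.Surjective α)
    (hcomm : (algebraMap k2 K2).comp α = β.comp (algebraMap k1 K1)) :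
    Algebra.trdeg k1 K1 ≤ Algebra.trdeg k2 K2 := by
  unfold Algebra.trdeg
  apply ciSup_le'
  rintro ⟨s, hs⟩
  have h1 := hs.ringHom_of_comp_eq α β hα β.injective hcomm
  exact h1.cardinalMk_le_trdeg

theorem trdeg_eq_of_square {k1 K1 k2 K2 : Type u} [Field k1] [Field K1] [Field k2] [Field K2]
    [Algebra k1 K1] [Algebra k2 K2] (α : k1 →+* k2) (β : K1 →+* K2) (hα : Function.Bijective α)
    (hβ : Function.Bijective β)
    (hcomm : (algebraMap k2 K2).comp α = β.comp (algebraMap k1 K1)) :
    Algebra.trdeg k1 K1 = Algebra.trdeg k2 K2 := by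
  apply le_antisymm (trdeg_le_of_square α β hα.2 hcomm)
  let α' := (RingEquiv.ofBijective α hα).symm
  let β' := (RingEquiv.ofBijective β hβ).symm
  refine trdeg_le_of_square α'.toRingHom β'.toRingHom α'.surjective ?_
  ext x
  obtain ⟨x, rfl⟩ := hα.2 x
  have h1 : α' (α x) = x := (RingEquiv.ofBijective α hα).symm_apply_apply x
  have h2 : β' (β (algebraMap k1 K1 x)) = algebraMap k1 K1 x :=
    (RingEquiv.ofBijective β hβ).symm_apply_apply _
  have h3 : algebraMap k2 K2 (α x) = β (algebraMap k1 K1 x) := congrArg (fun φ => φ x) hcomm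
  simp only [RingHom.comp_apply, RingEquiv.toRingHom_eq_coe, RingHom.coe_coe]
  rw [h1, h3, h2]

lemma isIso_residueFieldMap_of_surjectiveOnStalks {X Y : Scheme.{u}} (f : X ⟶ Y)
    [SurjectiveOnStalks f] (x : X) :
    Function.Bijective (f.residueFieldMap x).hom := by
  refine ⟨RingHom.injective _, fun b => ?_⟩
  obtain ⟨b', rfl⟩ := IsLocalRing.residue_surjective b
  obtain ⟨a', rfl⟩ := f.stalkMap_surjective x b'
  refine ⟨IsLocalRing.residue _ a', ?_⟩
  exact IsLocalRing.ResidueField.map_residue (f.stalkMap x).hom a'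

theorem trdeg_fibre_eq {X Y : Scheme.{u}} (f : X ⟶ Y) (y : Y) (z : f.fiber y) :
    (letI := (f.residueFieldMap (f.fiberι y z)).hom.toAlgebra
     Algebra.trdeg (Y.residueField (f (f.fiberι y z))) (X.residueField (f.fiberι y z))) =
    (letI := ((f.fiberToSpecResidueField y).residueFieldMap z).hom.toAlgebra
     Algebra.trdeg ((Spec (Y.residueField y)).residueField ((f.fiberToSpecResidueField y) z))
       ((f.fiber y).residueField z)) := by
  letI a1 := (f.residueFieldMap (f.fiberι y z)).hom.toAlgebra
  letI a2 := ((f.fiberToSpecResidueField y).residueFieldMap z).hom.toAlgebra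
  have e : f.fiberι y ≫ f = f.fiberToSpecResidueField y ≫ Y.fromSpecResidueField y :=
    f.fiber_fac y
  have h1 := Scheme.Hom.residueFieldMap_congr e z
  rw [Scheme.residueFieldMap_comp, Scheme.residueFieldMap_comp] at h1
  let c := (Y.residueFieldCongr (show (f.fiberι y ≫ f) z =
      (f.fiberToSpecResidueField y ≫ Y.fromSpecResidueField y) z by rw [e])).hom
  let α : Y.residueField (f (f.fiberι y z)) →+*
      (Spec (Y.residueField y)).residueField ((f.fiberToSpecResidueField y) z) :=
    (c ≫ (Y.fromSpecResidueField y).residueFieldMap ((f.fiberToSpecResidueField y) z)).hom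
  let β : X.residueField (f.fiberι y z) →+* (f.fiber y).residueField z :=
    ((f.fiberι y).residueFieldMap z).hom
  have hβ : Function.Bijective β := isIso_residueFieldMap_of_surjectiveOnStalks (f.fiberι y) z
  have hα : Function.Bijective α := by
    have hc : Function.Bijective c.hom :=
      (ConcreteCategory.isIso_iff_bijective c).mp inferInstance
    have h2 := isIso_residueFieldMap_of_surjectiveOnStalks (Y.fromSpecResidueField y)
      ((f.fiberToSpecResidueField y) z)
    exact h2.comp hc
  refine trdeg_eq_of_square α β hα hβ ?_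
  have h3 := congrArg CommRingCat.Hom.hom h1
  simp only [CommRingCat.hom_comp] at h3
  exact h3.symm

end Groth.Agent.Lib.Helper7.CycSp
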