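import Mathlib

set_option autoImplicit false
set_option linter.style.haveILetI false
set_option linter.unusedVariables false
universe u

namespace Groth.Agent.Lib.Helper7.DvrLen

open Classical in
theorem finsum_subtype_eq_sum {α : Type*} (P : α → Prop) (a : α → ℕ∞) (hfin : {v | P v}.Finite) :
    ∑ᶠ w : {v // P v}, a w.1 = ∑ v ∈ hfin.toFinset, a v := by
  have h1 : ∑ᶠ w : {v // P v}, a w.1 = ∑ᶠ w : ↥{v | P v}, a w.1 := rfl
  rw [h1, finsum_set_coe_eq_finsum_mem, finsum_mem_eq_finite_toFinset_sum _ hfin]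

open Classical in
/-- double counting for finite sums over subtypes -/
theorem finsum_subtype_le_of_cover {α β : Type*} (P' : α → Prop) (P : β → Prop) (a : α → ℕ∞)
    (b : β → ℕ∞) (R : α → β → Prop)
    (hfin' : {v | P' v}.Finite) (hfin : {v | P v}.Finite)
    (hcov : ∀ v', P' v' → ∃ v, P v ∧ R v' v)
    (hloc : ∀ v, P v → ∑ᶠ w : {v' // P' v' ∧ R v' v}, a w.1 ≤ b v) :
    ∑ᶠ w : {v' // P' v'}, a w.1 ≤ ∑ᶠ w : {v // P v}, b w.1 := by
  rw [finsum_subtype_eq_sum P' a hfin', finsum_subtype_eq_sum P b hfin]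
  have h1 : ∀ v' ∈ hfin'.toFinset, a v' ≤ ∑ v ∈ hfin.toFinset, if R v' v then a v' else 0 := by
    intro v' hv'
    obtain ⟨v, hv, hR⟩ := hcov v' ((Set.Finite.mem_toFinset _).mp hv')
    have hvS : v ∈ hfin.toFinset := (Set.Finite.mem_toFinset _).mpr hv
    calc a v' = if R v' v then a v' else 0 := by rw [if_pos hR]
      _ ≤ _ := Finset.single_le_sum (f := fun v => if R v' v then a v' else 0)
        (fun _ _ => zero_le) hvS
  calc ∑ v' ∈ hfin'.toFinset, a v'
      ≤ ∑ v' ∈ hfin'.toFinset, ∑ v ∈ hfin.toFinset, (if R v' v then a v' else 0) :=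
        Finset.sum_le_sum h1
    _ = ∑ v ∈ hfin.toFinset, ∑ v' ∈ hfin'.toFinset, (if R v' v then a v' else 0) :=
        Finset.sum_comm
    _ ≤ ∑ v ∈ hfin.toFinset, b v := by
        apply Finset.sum_le_sum
        intro v hv
        have hPv : P v := (Set.Finite.mem_toFinset _).mp hv
        have hfin2 : {v' | P' v' ∧ R v' v}.Finite := hfin'.subset (fun x hx => hx.1)
        have h2 := hloc v hPv
        rw [finsum_subtype_eq_sum (fun v' => P' v' ∧ R v' v) a hfin2] at h2
        refine le_trans (le_of_eq ?_) h2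
        rw [← Finset.sum_filter]
        apply Finset.sum_congr
        · ext x
          simp [Set.Finite.mem_toFinset]
        · intros; rfl

open Classical in
/-- sum over a set of primes injected from a subtype -/
theorem finsum_subtype_le_finsum_of_injective {α β : Type*} (P : α → Prop) (a : α → ℕ∞)
    (g : β → ℕ∞) (hβ : Finite β) (φ : {v // P v} → β) (hφ : Function.Injective φ)
    (hag : ∀ w : {v // P v}, a w.1 = g (φ w)) :
    ∑ᶠ w : {v // P v}, a w.1 ≤ ∑ᶠ p : β, g p := by
  haveI := hβ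
  haveI : Finite {v // P v} := Finite.of_injective φ hφ
  haveI := Fintype.ofFinite β
  haveI := Fintype.ofFinite {v // P v}
  rw [finsum_eq_sum_of_fintype, finsum_eq_sum_of_fintype]
  calc ∑ w : {v // P v}, a w.1 = ∑ w : {v // P v}, g (φ w) := Finset.sum_congr rfl (fun w _ => hag w)
    _ = ∑ p ∈ Finset.univ.image φ, g p := by
        rw [Finset.sum_image (fun x _ y _ h => hφ h)]
    _ ≤ ∑ p : β, g p := Finset.sum_le_sum_of_subset (Finset.subset_univ _)

end Groth.Agent.Lib.Helper7.DvrLen
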