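import Mathlib
import Groth.Agent.Lib.Helper2CycStalkLoc
import Groth.Agent.Lib.Helper2FibreCrit2
import Groth.Agent.Lib.Helper4DimFormulaAE

set_option autoImplicit false
set_option linter.style.haveILetI false
set_option linter.unusedVariables false
universe u
open CategoryTheory CategoryTheory.Limits AlgebraicGeometry TensorProduct IsLocalRing

namespace Groth.Agent.Lib.Helper7.DvrLen

open Groth.Agent.Lib.Helper2.CycStalkLoc Groth.Agent.Lib.Helper2.CycOrdSum
  Groth.Agent.Lib.Helper2.FibreCrit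

variable {X : Scheme.{u}}

/-- the point of a prime of the local ring is a generization -/
theorem fromSpecStalk_specializes (x : X) (q : PrimeSpectrum (X.presheaf.stalk x)) :
    X.fromSpecStalk x q ⤳ x := by
  have : X.fromSpecStalk x q ∈ Set.range (X.fromSpecStalk x) := ⟨q, rfl⟩
  rw [Scheme.range_fromSpecStalk] at this
  exact this

/-- the support is stable under specialization -/
theorem nontrivial_stalk_of_specializes (F : X.Modules) [F.IsQuasicoherent] {x ξ : X} (h : ξ ⤳ x)
    (hξ : Nontrivial (F.presheaf.stalk ξ)) : Nontrivial (F.presheaf.stalk x) := by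
  have h1 := (mem_support_iff_nontrivial_stalk F h ⟨RingHom.ker (Cyc.specMap x ξ h), inferInstance⟩
    rfl).mpr hξ
  exact Module.nonempty_support_iff.mp ⟨_, h1⟩

/-- a maximal point of the support is an associated point -/
theorem isAssPoint_of_maximal [IsLocallyNoetherian X] (F : X.Modules) [F.IsQuasicoherent]
    [SheafOfModules.IsFiniteType (R := X.ringCatSheaf) F] (x : X)
    (hx : Nontrivial (F.presheaf.stalk x))
    (hmax : ∀ w : X, Nontrivial (F.presheaf.stalk w) → w ⤳ x → w = x) :
    Curv2.IsAssPoint F x := by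
  haveI := finite_stalk F x
  obtain ⟨q, hq⟩ := associatedPrimes.nonempty (X.presheaf.stalk x) (F.presheaf.stalk x)
  haveI hqp : q.IsPrime := hq.isPrime
  have hqs : (⟨q, hqp⟩ : PrimeSpectrum (X.presheaf.stalk x)) ∈
      Module.support (X.presheaf.stalk x) (F.presheaf.stalk x) := by
    rw [Module.mem_support_iff_of_finite, ← Submodule.annihilator_top]
    exact hq.annihilator_le
  have hsp := fromSpecStalk_specializes x ⟨q, hqp⟩
  have hnt := (mem_support_iff_nontrivial_stalk F hsp ⟨q, hqp⟩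
    (ker_specMap_fromSpecStalk x q hsp)).mp hqs
  have hw := hmax _ hnt hsp
  have hcl : X.fromSpecStalk x ⟨maximalIdeal (X.presheaf.stalk x), inferInstance⟩ = x :=
    Scheme.fromSpecStalk_closedPoint
  have hqm : q = maximalIdeal (X.presheaf.stalk x) :=
    Groth.Agent.Lib.Helper4.DimFormula.fromSpecStalk_injective x q _ (hw.trans hcl.symm)
  unfold Curv2.IsAssPoint
  rw [← hqm]
  exact hq

/-- the prime of a maximal point of the support is minimal over the annihilator -/
theorem ker_specMap_mem_minimalPrimes [IsLocallyNoetherian X] (F : X.Modules) [F.IsQuasicoherent]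
    [SheafOfModules.IsFiniteType (R := X.ringCatSheaf) F] {x ξ : X} (h : ξ ⤳ x)
    (hξ : Nontrivial (F.presheaf.stalk ξ))
    (hmax : ∀ w : X, Nontrivial (F.presheaf.stalk w) → w ⤳ ξ → w = ξ) :
    RingHom.ker (Cyc.specMap x ξ h) ∈
      (Module.annihilator (X.presheaf.stalk x) (F.presheaf.stalk x)).minimalPrimes := by
  haveI := finite_stalk F x
  haveI hker : (RingHom.ker (Cyc.specMap x ξ h)).IsPrime := inferInstance
  have hp : (⟨RingHom.ker (Cyc.specMap x ξ h), hker⟩ :
      PrimeSpectrum (X.presheaf.stalk x)) ∈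
      Module.support (X.presheaf.stalk x) (F.presheaf.stalk x) :=
    (mem_support_iff_nontrivial_stalk F h ⟨_, hker⟩ rfl).mpr hξ
  rw [Module.mem_support_iff_of_finite] at hp
  refine ⟨⟨hker, hp⟩, ?_⟩
  rintro q ⟨hqp, hq⟩ hqle
  have hqs : (⟨q, hqp⟩ : PrimeSpectrum (X.presheaf.stalk x)) ∈
      Module.support (X.presheaf.stalk x) (F.presheaf.stalk x) := by
    rw [Module.mem_support_iff_of_finite]
    exact hq
  have hsp := fromSpecStalk_specializes x ⟨q, hqp⟩
  have hnt := (mem_support_iff_nontrivial_stalk F hsp ⟨q, hqp⟩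
    (ker_specMap_fromSpecStalk x q hsp)).mp hqs
  have h1 : (⟨q, hqp⟩ : PrimeSpectrum (X.presheaf.stalk x)) ⤳
      ⟨RingHom.ker (Cyc.specMap x ξ h), hker⟩ :=
    (PrimeSpectrum.le_iff_specializes _ _).mp hqle
  have h2 := h1.map (X.fromSpecStalk x).continuous
  rw [fromSpecStalk_ker_specMap x ξ h] at h2
  have hw := hmax _ hnt h2
  have h3 : q = RingHom.ker (Cyc.specMap x ξ h) :=
    Groth.Agent.Lib.Helper4.DimFormula.fromSpecStalk_injective x q _
      (hw.trans (fromSpecStalk_ker_specMap x ξ h).symm)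
  rw [h3]

/-- every point of the support is a specialization of a maximal point of the support -/
theorem exists_maximal_generization [IsLocallyNoetherian X] (F : X.Modules) [F.IsQuasicoherent]
    [SheafOfModules.IsFiniteType (R := X.ringCatSheaf) F] {x w : X} (h : w ⤳ x)
    (hw : Nontrivial (F.presheaf.stalk w)) :
    ∃ w₃ : X, w₃ ⤳ w ∧ Nontrivial (F.presheaf.stalk w₃) ∧
      ∀ u : X, Nontrivial (F.presheaf.stalk u) → u ⤳ w₃ → u = w₃ := by
  haveI := finite_stalk F x
  haveI hker : (RingHom.ker (Cyc.specMap x w h)).IsPrime := inferInstance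
  have hp : (⟨RingHom.ker (Cyc.specMap x w h), hker⟩ :
      PrimeSpectrum (X.presheaf.stalk x)) ∈
      Module.support (X.presheaf.stalk x) (F.presheaf.stalk x) :=
    (mem_support_iff_nontrivial_stalk F h ⟨_, hker⟩ rfl).mpr hw
  rw [Module.mem_support_iff_of_finite] at hp
  obtain ⟨q, hq, hqle⟩ := Ideal.exists_minimalPrimes_le hp
  haveI hqp : q.IsPrime := hq.1.1
  have hsp := fromSpecStalk_specializes x ⟨q, hqp⟩
  have hqs : (⟨q, hqp⟩ : PrimeSpectrum (X.presheaf.stalk x)) ∈
      Module.support (X.presheaf.stalk x) (F.presheaf.stalk x) := by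
    rw [Module.mem_support_iff_of_finite]
    exact hq.1.2
  refine ⟨X.fromSpecStalk x ⟨q, hqp⟩, ?_, ?_, ?_⟩
  · have h1 : (⟨q, hqp⟩ : PrimeSpectrum (X.presheaf.stalk x)) ⤳
        ⟨RingHom.ker (Cyc.specMap x w h), hker⟩ :=
      (PrimeSpectrum.le_iff_specializes _ _).mp hqle
    have h2 := h1.map (X.fromSpecStalk x).continuous
    rwa [fromSpecStalk_ker_specMap x w h] at h2
  · exact (mem_support_iff_nontrivial_stalk F hsp ⟨q, hqp⟩
      (ker_specMap_fromSpecStalk x q hsp)).mp hqs
  · intro u hu hu3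
    have hux : u ⤳ x := hu3.trans hsp
    haveI hkeru : (RingHom.ker (Cyc.specMap x u hux)).IsPrime := inferInstance
    have hpu : (⟨RingHom.ker (Cyc.specMap x u hux), hkeru⟩ :
        PrimeSpectrum (X.presheaf.stalk x)) ∈
        Module.support (X.presheaf.stalk x) (F.presheaf.stalk x) :=
      (mem_support_iff_nontrivial_stalk F hux ⟨_, hkeru⟩ rfl).mpr hu
    rw [Module.mem_support_iff_of_finite] at hpu
    have h3 : X.fromSpecStalk x ⟨RingHom.ker (Cyc.specMap x u hux), hkeru⟩ ⤳
        X.fromSpecStalk x ⟨q, hqp⟩ := by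
      rw [fromSpecStalk_ker_specMap x u hux]; exact hu3
    have h4 : (⟨RingHom.ker (Cyc.specMap x u hux), hkeru⟩ : PrimeSpectrum (X.presheaf.stalk x)) ⤳
        ⟨q, hqp⟩ := (X.fromSpecStalk x).isEmbedding.isInducing.specializes_iff.mp h3
    have h5 : RingHom.ker (Cyc.specMap x u hux) ≤ q :=
      (PrimeSpectrum.le_iff_specializes ⟨_, hkeru⟩ ⟨q, hqp⟩).mpr h4
    have h6 : q ≤ RingHom.ker (Cyc.specMap x u hux) := hq.2 ⟨hkeru, hpu⟩ h5
    have h7 : RingHom.ker (Cyc.specMap x u hux) = q := le_antisymm h5 h6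
    rw [← fromSpecStalk_ker_specMap x u hux]
    congr 1
    exact PrimeSpectrum.ext h7

end Groth.Agent.Lib.Helper7.DvrLen
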