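import Mathlib

set_option autoImplicit false
set_option linter.style.haveILetI false
set_option linter.unusedVariables false
universe u
open CategoryTheory CategoryTheory.Limits AlgebraicGeometry TensorProduct IsLocalRing

namespace Groth.Agent.Lib.Helper7.DvrLen

section Alg

variable {A B : Type*} [CommRing A] [CommRing B] [Algebra A B] (F : Type*) [AddCommGroup F]
  [Module A F] [Module B F] [IsScalarTower A B F]

/-- `F ⊗_A A/(t₀) ≅ F/tF` as `B`-modules -/
theorem nonempty_tensor_quotient_equiv (I : Ideal A) (t₀ : A) (hI : I = Ideal.span {t₀}) :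
    Nonempty (F ⊗[A] (A ⧸ I) ≃ₗ[B]
      F ⧸ (Ideal.span {algebraMap A B t₀} • (⊤ : Submodule B F))) := by
  subst hI
  let e2 : (B ⧸ (Ideal.span {t₀}).map (algebraMap A B)) ≃ₐ[B] B ⊗[A] (A ⧸ Ideal.span {t₀}) :=
    Algebra.TensorProduct.quotIdealMapEquivTensorQuot B (Ideal.span {t₀})
  let e3 := (AlgebraTensorModule.cancelBaseChange A B B F (A ⧸ Ideal.span {t₀})).symm
  let e4 : F ⊗[B] (B ⊗[A] (A ⧸ Ideal.span {t₀})) ≃ₗ[B]
      F ⊗[B] (B ⧸ (Ideal.span {t₀}).map (algebraMap A B)) :=
    TensorProduct.congr (LinearEquiv.refl B F) e2.symm.toLinearEquiv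
  let e5 := TensorProduct.tensorQuotEquivQuotSMul F ((Ideal.span {t₀}).map (algebraMap A B))
  have hJ : (Ideal.span {t₀}).map (algebraMap A B) = Ideal.span {algebraMap A B t₀} := by
    rw [Ideal.map_span, Set.image_singleton]
  let e6 := Submodule.quotEquivOfEq
    ((Ideal.span {t₀}).map (algebraMap A B) • (⊤ : Submodule B F))
    (Ideal.span {algebraMap A B t₀} • (⊤ : Submodule B F)) (by rw [hJ])
  exact ⟨e3.trans (e4.trans (e5.trans e6))⟩

/-- `F/(span t)F ≅ F/tF` -/
noncomputable def quotSpanEquivQuotSMulTop {B : Type*} [CommRing B] (F : Type*) [AddCommGroup F]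
    [Module B F] (t : B) :
    (F ⧸ (Ideal.span {t} • (⊤ : Submodule B F))) ≃ₗ[B] QuotSMulTop t F :=
  Submodule.quotEquivOfEq _ _ (Submodule.ideal_span_singleton_smul t ⊤)

end Alg

section Dvr

variable (A : Type u) [CommRing A] [IsDomain A] [IsDiscreteValuationRing A]

/-- a uniformizer -/
noncomputable def unif : A := Classical.choose (IsDiscreteValuationRing.exists_irreducible A)

theorem unif_irreducible : Irreducible (unif A) :=
  Classical.choose_spec (IsDiscreteValuationRing.exists_irreducible A)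

theorem maximalIdeal_eq_span_unif : maximalIdeal A = Ideal.span {unif A} :=
  (unif_irreducible A).maximalIdeal_eq

/-- the uniformizer as a global section of `Spec A` -/
noncomputable def unifSec : Γ(Spec (CommRingCat.of A), ⊤) :=
  (Scheme.ΓSpecIso (CommRingCat.of A)).inv (unif A)

theorem mem_basicOpen_unifSec_iff (y₀ : Spec (CommRingCat.of A)) :
    y₀ ∈ (Spec (CommRingCat.of A)).basicOpen (unifSec A) ↔ y₀ ≠ closedPoint A := by
  unfold unifSec
  rw [basicOpen_eq_of_affine]
  change unif A ∉ y₀.asIdeal ↔ _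
  constructor
  · rintro h rfl
    apply h
    show unif A ∈ maximalIdeal A
    rw [maximalIdeal_eq_span_unif]
    exact Ideal.subset_span rfl
  · intro h hmem
    apply h
    apply PrimeSpectrum.ext
    show y₀.asIdeal = maximalIdeal A
    have hle : maximalIdeal A ≤ y₀.asIdeal := by
      rw [maximalIdeal_eq_span_unif, Ideal.span_singleton_le_iff_mem]
      exact hmem
    exact ((maximalIdeal.isMaximal A).eq_of_le y₀.isPrime.ne_top hle).symm

variable {A}
variable {X : Scheme.{u}} (f : X ⟶ Spec (CommRingCat.of A))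

/-- the uniformizer as a global section of `X` -/
noncomputable def sec : Γ(X, ⊤) := f.appTop (unifSec A)

theorem germ_sec_mem_maximalIdeal_iff (x : X) :
    X.presheaf.germ ⊤ x trivial (sec f) ∈ maximalIdeal (X.presheaf.stalk x) ↔
      f x = closedPoint A := by
  rw [mem_maximalIdeal, mem_nonunits_iff, ← Scheme.mem_basicOpen_top]
  unfold sec
  rw [← Scheme.preimage_basicOpen_top]
  show ¬ (f x ∈ (Spec (CommRingCat.of A)).basicOpen (unifSec A)) ↔ _
  rw [mem_basicOpen_unifSec_iff, not_not]

theorem stalkMap_germ_unifSec (x : X) :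
    (f.stalkMap x).hom ((Spec (CommRingCat.of A)).presheaf.germ ⊤ (f x) trivial (unifSec A)) =
      X.presheaf.germ ⊤ x trivial (sec f) :=
  Scheme.Hom.germ_stalkMap_apply f ⊤ x trivial (unifSec A)

end Dvr

section Stalk

variable (A : Type u) [CommRing A] [IsDomain A] [IsDiscreteValuationRing A]

theorem germ_unifSec_eq (y₀ : PrimeSpectrum A) :
    (Spec (CommRingCat.of A)).presheaf.germ ⊤ y₀ trivial (unifSec A) =
      (Spec.stalkIso (CommRingCat.of A) y₀).inv
        (algebraMap A (Localization.AtPrime y₀.asIdeal) (unif A)) := by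
  have h := Spec.algebraMap_stalkIso_inv (R := CommRingCat.of A) (x := y₀)
  have h2 := congrArg (fun φ => φ.hom (unif A)) h
  exact h2.symm

/-- the maximal ideal of the local ring of `Spec A` at the closed point is generated by the
uniformizer -/
theorem maximalIdeal_stalk_eq_span (y₁ : ↥(Spec (CommRingCat.of A))) (h : y₁ = closedPoint A) :
    maximalIdeal ((Spec (CommRingCat.of A)).presheaf.stalk y₁) =
      Ideal.span {(Spec (CommRingCat.of A)).presheaf.germ ⊤ y₁ trivial (unifSec A)} := by
  let y₀ : PrimeSpectrum A := y₁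
  let e : (Spec (CommRingCat.of A)).presheaf.stalk y₁ ≃+* Localization.AtPrime y₀.asIdeal :=
    (Spec.stalkIso (CommRingCat.of A) y₀).commRingCatIsoToRingEquiv
  have hg : (Spec (CommRingCat.of A)).presheaf.germ ⊤ y₁ trivial (unifSec A) =
      e.symm (algebraMap A (Localization.AtPrime y₀.asIdeal) (unif A)) := germ_unifSec_eq A y₀
  have hp : y₀.asIdeal = Ideal.span {unif A} := by
    show y₁.asIdeal = _
    rw [h]; exact maximalIdeal_eq_span_unif A
  have hm : maximalIdeal (Localization.AtPrime y₀.asIdeal) =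
      Ideal.span {algebraMap A (Localization.AtPrime y₀.asIdeal) (unif A)} := by
    rw [← Localization.AtPrime.map_eq_maximalIdeal]
    have h3 := congrArg (Ideal.map (algebraMap A (Localization.AtPrime y₀.asIdeal))) hp
    rw [h3, Ideal.map_span, Set.image_singleton]
  ext a
  have hunit : a ∈ maximalIdeal ((Spec (CommRingCat.of A)).presheaf.stalk y₁) ↔
      e a ∈ maximalIdeal (Localization.AtPrime y₀.asIdeal) := by
    rw [mem_maximalIdeal, mem_maximalIdeal, mem_nonunits_iff, mem_nonunits_iff]
    exact not_congr ⟨fun hu => hu.map e, fun hu => by simpa using hu.map e.symm⟩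
  rw [hunit, hm, Ideal.mem_span_singleton', Ideal.mem_span_singleton', hg]
  constructor
  · rintro ⟨c, hc⟩
    refine ⟨e.symm c, ?_⟩
    rw [← map_mul, hc, e.symm_apply_apply]
  · rintro ⟨c, hc⟩
    refine ⟨e c, ?_⟩
    rw [← hc, map_mul, e.apply_symm_apply]

theorem asIdeal_eq_bot_of_ne_closedPoint (y₁ : ↥(Spec (CommRingCat.of A))) (h : y₁ ≠ closedPoint A) :
    y₁.asIdeal = ⊥ := by
  by_contra hne
  apply h
  have hmax : y₁.asIdeal.IsMaximal := Ideal.IsPrime.isMaximal y₁.isPrime hne
  apply PrimeSpectrum.ext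
  show y₁.asIdeal = maximalIdeal A
  exact IsLocalRing.eq_maximalIdeal hmax

/-- the local ring of `Spec A` at the generic point is a field -/
theorem maximalIdeal_stalk_eq_bot (y₁ : ↥(Spec (CommRingCat.of A))) (h : y₁ ≠ closedPoint A) :
    maximalIdeal ((Spec (CommRingCat.of A)).presheaf.stalk y₁) = ⊥ := by
  let y₀ : PrimeSpectrum A := y₁
  let e : (Spec (CommRingCat.of A)).presheaf.stalk y₁ ≃+* Localization.AtPrime y₀.asIdeal :=
    (Spec.stalkIso (CommRingCat.of A) y₀).commRingCatIsoToRingEquiv
  have hp : y₀.asIdeal = ⊥ := asIdeal_eq_bot_of_ne_closedPoint A y₁ h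
  have hm : maximalIdeal (Localization.AtPrime y₀.asIdeal) = ⊥ := by
    rw [← Localization.AtPrime.map_eq_maximalIdeal]
    have h3 := congrArg (Ideal.map (algebraMap A (Localization.AtPrime y₀.asIdeal))) hp
    rw [h3, Ideal.map_bot]
  rw [eq_bot_iff]
  intro a ha
  have hunit : e a ∈ maximalIdeal (Localization.AtPrime y₀.asIdeal) := by
    rw [mem_maximalIdeal, mem_nonunits_iff] at ha ⊢
    exact fun hu => ha (by simpa using hu.map e.symm)
  rw [hm, Ideal.mem_bot] at hunit
  rw [Ideal.mem_bot]
  exact (map_eq_zero_iff e e.injective).mp hunit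

theorem genericPoint_ne_closedPoint :
    genericPoint ↥(Spec (CommRingCat.of A)) ≠ closedPoint A := by
  rw [genericPoint_eq_bot_of_affine (CommRingCat.of A)]
  intro h
  have h2 := congrArg PrimeSpectrum.asIdeal h
  exact IsDiscreteValuationRing.not_a_field A h2.symm

end Stalk

end Groth.Agent.Lib.Helper7.DvrLen
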