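import Mathlib
import Groth.Agent.Lib.Helper7DvrLen2
import Groth.Agent.Lib.Helper7DvrLen3
import Groth.Agent.Lib.Helper7AssTensorFlatSch

set_option autoImplicit false
set_option linter.style.haveILetI false
set_option linter.unusedVariables false
universe u
open CategoryTheory CategoryTheory.Limits AlgebraicGeometry TensorProduct IsLocalRing

namespace Groth.Agent.Lib.Helper7.DvrLen

open Groth.Agent.Lib.Helper7.AssTensorFlatSch

variable {A : Type u} [CommRing A] [IsDomain A] [IsDiscreteValuationRing A]
  {X : Scheme.{u}} (f : X ⟶ Spec (CommRingCat.of A)) (F : X.Modules)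

/-- over the closed point, the fibre length is the length of `F_x / t F_x` -/
theorem fibLenAt_eq_of_closed (x : X) (hx : f x = closedPoint A) :
    fibLenAt f F x = Module.length (X.presheaf.stalk x)
      ((F.presheaf.stalk x) ⧸ (Ideal.span {X.presheaf.germ ⊤ x trivial (sec f)} •
        (⊤ : Submodule (X.presheaf.stalk x) (F.presheaf.stalk x)))) := by
  unfold fibLenAt
  letI aAB : Algebra ((Spec (CommRingCat.of A)).presheaf.stalk (f x)) (X.presheaf.stalk x) :=
    (f.stalkMap x).hom.toAlgebra
  letI mAF := FlatMod.moduleStalkOver f F x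
  haveI : IsScalarTower ((Spec (CommRingCat.of A)).presheaf.stalk (f x)) (X.presheaf.stalk x)
      (F.presheaf.stalk x) := IsScalarTower.of_algebraMap_smul (fun _ _ => rfl)
  obtain ⟨e⟩ := nonempty_tensor_quotient_equiv (B := X.presheaf.stalk x) (F.presheaf.stalk x)
    (maximalIdeal ((Spec (CommRingCat.of A)).presheaf.stalk (f x)))
    ((Spec (CommRingCat.of A)).presheaf.germ ⊤ (f x) trivial (unifSec A))
    (maximalIdeal_stalk_eq_span A (f x) hx)
  have ht : algebraMap ((Spec (CommRingCat.of A)).presheaf.stalk (f x)) (X.presheaf.stalk x)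
      ((Spec (CommRingCat.of A)).presheaf.germ ⊤ (f x) trivial (unifSec A)) =
      X.presheaf.germ ⊤ x trivial (sec f) := stalkMap_germ_unifSec f x
  rw [ht] at e
  exact e.length_eq

/-- over the generic point, the fibre length is the length of `F_x` -/
theorem fibLenAt_eq_of_generic (x : X) (hx : f x ≠ closedPoint A) :
    fibLenAt f F x = Module.length (X.presheaf.stalk x) (F.presheaf.stalk x) := by
  unfold fibLenAt
  letI aAB : Algebra ((Spec (CommRingCat.of A)).presheaf.stalk (f x)) (X.presheaf.stalk x) :=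
    (f.stalkMap x).hom.toAlgebra
  letI mAF := FlatMod.moduleStalkOver f F x
  haveI : IsScalarTower ((Spec (CommRingCat.of A)).presheaf.stalk (f x)) (X.presheaf.stalk x)
      (F.presheaf.stalk x) := IsScalarTower.of_algebraMap_smul (fun _ _ => rfl)
  obtain ⟨e⟩ := nonempty_tensor_quotient_equiv (B := X.presheaf.stalk x) (F.presheaf.stalk x)
    (maximalIdeal ((Spec (CommRingCat.of A)).presheaf.stalk (f x))) 0
    (by rw [maximalIdeal_stalk_eq_bot A (f x) hx]; simp)
  rw [e.length_eq]
  have h0 : Ideal.span {algebraMap ((Spec (CommRingCat.of A)).presheaf.stalk (f x))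
      (X.presheaf.stalk x) 0} • (⊤ : Submodule (X.presheaf.stalk x) (F.presheaf.stalk x)) = ⊥ := by
    rw [map_zero]
    simp
  rw [(Submodule.quotEquivOfEqBot _ h0).length_eq]

/-- over the closed point, `FibAssAt` in terms of `F_x / t F_x` -/
theorem fibAssAt_iff_of_closed (x : X) (hx : f x = closedPoint A) :
    FibAssAt f F x ↔ maximalIdeal (X.presheaf.stalk x) ∈ associatedPrimes (X.presheaf.stalk x)
      (QuotSMulTop (X.presheaf.germ ⊤ x trivial (sec f)) (F.presheaf.stalk x)) := by
  unfold FibAssAt
  letI aAB : Algebra ((Spec (CommRingCat.of A)).presheaf.stalk (f x)) (X.presheaf.stalk x) :=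
    (f.stalkMap x).hom.toAlgebra
  letI mAF := FlatMod.moduleStalkOver f F x
  haveI : IsScalarTower ((Spec (CommRingCat.of A)).presheaf.stalk (f x)) (X.presheaf.stalk x)
      (F.presheaf.stalk x) := IsScalarTower.of_algebraMap_smul (fun _ _ => rfl)
  obtain ⟨e⟩ := nonempty_tensor_quotient_equiv (B := X.presheaf.stalk x) (F.presheaf.stalk x)
    (maximalIdeal ((Spec (CommRingCat.of A)).presheaf.stalk (f x)))
    ((Spec (CommRingCat.of A)).presheaf.germ ⊤ (f x) trivial (unifSec A))
    (maximalIdeal_stalk_eq_span A (f x) hx)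
  have ht : algebraMap ((Spec (CommRingCat.of A)).presheaf.stalk (f x)) (X.presheaf.stalk x)
      ((Spec (CommRingCat.of A)).presheaf.germ ⊤ (f x) trivial (unifSec A)) =
      X.presheaf.germ ⊤ x trivial (sec f) := stalkMap_germ_unifSec f x
  rw [ht] at e
  rw [AssociatedPrimes.mem_iff, AssociatedPrimes.mem_iff]
  exact (e.trans (quotSpanEquivQuotSMulTop (F.presheaf.stalk x)
    (X.presheaf.germ ⊤ x trivial (sec f)))).isAssociatedPrime_iff

theorem unifSec_ne_zero : unifSec A ≠ 0 := by
  unfold unifSec
  intro h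
  have h2 := congrArg (Scheme.ΓSpecIso (CommRingCat.of A)).hom h
  rw [Iso.inv_hom_id_apply, map_zero] at h2
  exact (unif_irreducible A).ne_zero h2

/-- the uniformizer is regular on the stalks of a flat module -/
theorem isSMulRegular_germ_sec (hflat : FlatMod.IsFlatOver f F) (x : X) :
    IsSMulRegular (F.presheaf.stalk x) (X.presheaf.germ ⊤ x trivial (sec f)) := by
  letI mAF := FlatMod.moduleStalkOver f F x
  haveI : Module.Flat ((Spec (CommRingCat.of A)).presheaf.stalk (f x)) (F.presheaf.stalk x) :=
    hflat x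
  have hg : (Spec (CommRingCat.of A)).presheaf.germ ⊤ (f x) trivial (unifSec A) ≠ 0 := by
    intro h0
    apply unifSec_ne_zero (A := A)
    haveI : Nonempty (⊤ : (Spec (CommRingCat.of A)).Opens) := ⟨⟨f x, trivial⟩⟩
    apply germ_injective_of_isIntegral (Spec (CommRingCat.of A)) (U := ⊤) (f x) trivial
    rw [h0, map_zero]
  have hreg := Module.Flat.isSMulRegular_of_nonZeroDivisors
    (M := F.presheaf.stalk x) (mem_nonZeroDivisors_of_ne_zero hg)
  intro m₁ m₂ h
  apply hreg
  show (f.stalkMap x).hom _ • m₁ = (f.stalkMap x).hom _ • m₂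
  rw [stalkMap_germ_unifSec]
  exact h

end Groth.Agent.Lib.Helper7.DvrLen
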