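import Mathlib
import Groth.Agent.Lib.Helper7DvrLen4
import Groth.Agent.Lib.Helper28DepthAss

set_option autoImplicit false
set_option linter.style.haveILetI false
set_option linter.unusedVariables false
universe u
open CategoryTheory CategoryTheory.Limits AlgebraicGeometry TensorProduct IsLocalRing

namespace Groth.Agent.Lib.Helper7.DvrLen

open Groth.Agent.Lib.Helper7.AssTensorFlatSch Groth.Agent.Lib.Helper2.CycStalkLoc
  Groth.Agent.Lib.Helper2.CycOrdSum

section Gen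

variable {X : Scheme.{u}}

/-- order of the primes of two generizations -/
theorem ker_specMap_le_iff (x : X) {u w : X} (hu : u ⤳ x) (hw : w ⤳ x) :
    RingHom.ker (Cyc.specMap x u hu) ≤ RingHom.ker (Cyc.specMap x w hw) ↔ u ⤳ w := by
  haveI hku : (RingHom.ker (Cyc.specMap x u hu)).IsPrime := inferInstance
  haveI hkw : (RingHom.ker (Cyc.specMap x w hw)).IsPrime := inferInstance
  have h1 : RingHom.ker (Cyc.specMap x u hu) ≤ RingHom.ker (Cyc.specMap x w hw) ↔
      (⟨_, hku⟩ : PrimeSpectrum (X.presheaf.stalk x)) ⤳ ⟨_, hkw⟩ :=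
    PrimeSpectrum.le_iff_specializes ⟨_, hku⟩ ⟨_, hkw⟩
  have h2 : X.fromSpecStalk x ⟨_, hku⟩ ⤳ X.fromSpecStalk x ⟨_, hkw⟩ ↔
      (⟨_, hku⟩ : PrimeSpectrum (X.presheaf.stalk x)) ⤳ ⟨_, hkw⟩ :=
    (X.fromSpecStalk x).isEmbedding.isInducing.specializes_iff
  rw [h1, ← h2, fromSpecStalk_ker_specMap x u hu, fromSpecStalk_ker_specMap x w hw]

/-- a global section lies in the prime of a generization iff it vanishes there -/
theorem germ_mem_ker_specMap_iff (s : Γ(X, ⊤)) {x w : X} (h : w ⤳ x) :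
    X.presheaf.germ ⊤ x trivial s ∈ RingHom.ker (Cyc.specMap x w h) ↔
      X.presheaf.germ ⊤ w trivial s ∈ maximalIdeal (X.presheaf.stalk w) := by
  rw [RingHom.mem_ker]
  unfold Cyc.specMap
  have h1 : X.presheaf.stalkSpecializes h (X.presheaf.germ ⊤ x trivial s) =
      X.presheaf.germ ⊤ w trivial s :=
    ConcreteCategory.congr_hom (TopCat.Presheaf.germ_stalkSpecializes X.presheaf
      (U := ⊤) (y := x) trivial h) s
  rw [← h1]
  exact IsLocalRing.residue_eq_zero_iff _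

end Gen

section Proper

variable {A : Type u} [CommRing A] [IsDomain A] [IsDiscreteValuationRing A]
  {X : Scheme.{u}} (f : X ⟶ Spec (CommRingCat.of A))

theorem exists_specialization_over_closedPoint [UniversallyClosed f] (ξ : X) :
    ∃ w₀ : X, ξ ⤳ w₀ ∧ f w₀ = closedPoint A := by
  have hcl : IsClosed (f '' closure {ξ}) := f.isClosedMap _ isClosed_closure
  have h1 : f ξ ∈ f '' closure {ξ} := ⟨ξ, subset_closure rfl, rfl⟩
  have h2 : closedPoint A ∈ closure {f ξ} :=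
    specializes_iff_mem_closure.mp (IsLocalRing.specializes_closedPoint (f ξ))
  have h3 : closure {f ξ} ⊆ f '' closure {ξ} :=
    hcl.closure_subset_iff.mpr (Set.singleton_subset_iff.mpr h1)
  obtain ⟨w₀, hw₀, hfw⟩ := h3 h2
  exact ⟨w₀, specializes_iff_mem_closure.mpr hw₀, hfw⟩

/-- a point of the closed fibre in the closure of `ξ`, maximal with these properties -/
theorem exists_maximal_over_closedPoint [UniversallyClosed f] [IsLocallyNoetherian X] (ξ : X) :
    ∃ z₀ : X, ξ ⤳ z₀ ∧ f z₀ = closedPoint A ∧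
      ∀ w : X, ξ ⤳ w → f w = closedPoint A → w ⤳ z₀ → w = z₀ := by
  obtain ⟨w₀, hξw, hfw⟩ := exists_specialization_over_closedPoint f ξ
  have ht : X.presheaf.germ ⊤ w₀ trivial (sec f) ∈ maximalIdeal (X.presheaf.stalk w₀) :=
    (germ_sec_mem_maximalIdeal_iff f w₀).mpr hfw
  haveI hkp : (RingHom.ker (Cyc.specMap w₀ ξ hξw)).IsPrime := inferInstance
  have hJ : RingHom.ker (Cyc.specMap w₀ ξ hξw) ⊔
      Ideal.span {X.presheaf.germ ⊤ w₀ trivial (sec f)} ≤ maximalIdeal (X.presheaf.stalk w₀) :=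
    sup_le (IsLocalRing.le_maximalIdeal hkp.ne_top) ((Ideal.span_singleton_le_iff_mem _).mpr ht)
  obtain ⟨q, hq, hqle⟩ := Ideal.exists_minimalPrimes_le hJ
  haveI hqp : q.IsPrime := hq.1.1
  have hz₀ : X.fromSpecStalk w₀ ⟨q, hqp⟩ ⤳ w₀ := fromSpecStalk_specializes w₀ ⟨q, hqp⟩
  have hkq : RingHom.ker (Cyc.specMap w₀ (X.fromSpecStalk w₀ ⟨q, hqp⟩) hz₀) = q :=
    ker_specMap_fromSpecStalk w₀ q hz₀
  refine ⟨X.fromSpecStalk w₀ ⟨q, hqp⟩, ?_, ?_, ?_⟩
  · rw [← ker_specMap_le_iff w₀ hξw hz₀, hkq]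
    exact le_sup_left.trans hq.1.2
  · rw [← germ_sec_mem_maximalIdeal_iff, ← germ_mem_ker_specMap_iff (sec f) hz₀, hkq]
    exact hq.1.2 (le_sup_right (α := Ideal (X.presheaf.stalk w₀)) (Ideal.mem_span_singleton_self _))
  · intro w hξw' hfw' hwz
    have hww₀ : w ⤳ w₀ := hwz.trans hz₀
    haveI hkw : (RingHom.ker (Cyc.specMap w₀ w hww₀)).IsPrime := inferInstance
    have h1 : RingHom.ker (Cyc.specMap w₀ ξ hξw) ≤ RingHom.ker (Cyc.specMap w₀ w hww₀) :=
      (ker_specMap_le_iff w₀ hξw hww₀).mpr hξw'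
    have h2 : X.presheaf.germ ⊤ w₀ trivial (sec f) ∈ RingHom.ker (Cyc.specMap w₀ w hww₀) :=
      (germ_mem_ker_specMap_iff (sec f) hww₀).mpr ((germ_sec_mem_maximalIdeal_iff f w).mpr hfw')
    have h3 : RingHom.ker (Cyc.specMap w₀ ξ hξw) ⊔
        Ideal.span {X.presheaf.germ ⊤ w₀ trivial (sec f)} ≤ RingHom.ker (Cyc.specMap w₀ w hww₀) :=
      sup_le h1 ((Ideal.span_singleton_le_iff_mem _).mpr h2)
    have h4 : RingHom.ker (Cyc.specMap w₀ w hww₀) ≤ q := by
      rw [← hkq]; exact (ker_specMap_le_iff w₀ hww₀ hz₀).mpr hwz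
    have h5 : q ≤ RingHom.ker (Cyc.specMap w₀ w hww₀) := hq.2 ⟨hkw, h3⟩ h4
    rw [← fromSpecStalk_ker_specMap w₀ w hww₀]
    congr 1
    exact PrimeSpectrum.ext (le_antisymm h4 h5)

end Proper

section Ass

open Groth.Agent.Lib.Helper2.FibreCrit

variable {A : Type u} [CommRing A] [IsDomain A] [IsDiscreteValuationRing A]
  {X : Scheme.{u}} (f : X ⟶ Spec (CommRingCat.of A))

/-- the maximal point `z₀` of the closed fibre of the closure of a maximal point `ξ` of `Supp F`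
is associated to `F` on the closed fibre (stalk form) -/
theorem fibAssAt_of_maximal_over_closedPoint [IsLocallyNoetherian X] (F : X.Modules)
    [F.IsQuasicoherent] [SheafOfModules.IsFiniteType (R := X.ringCatSheaf) F]
    (hflat : FlatMod.IsFlatOver f F) (ξ z₀ : X)
    (hξ : Nontrivial (F.presheaf.stalk ξ))
    (hmax : ∀ w : X, Nontrivial (F.presheaf.stalk w) → w ⤳ ξ → w = ξ)
    (h : ξ ⤳ z₀) (hz : f z₀ = closedPoint A)
    (hzmax : ∀ w : X, ξ ⤳ w → f w = closedPoint A → w ⤳ z₀ → w = z₀) :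
    FibAssAt f F z₀ := by
  rw [fibAssAt_iff_of_closed f F z₀ hz]
  haveI := finite_stalk F z₀
  have hp : RingHom.ker (Cyc.specMap z₀ ξ h) ∈
      associatedPrimes (X.presheaf.stalk z₀) (F.presheaf.stalk z₀) :=
    Module.associatedPrimes.minimalPrimes_annihilator_subset_associatedPrimes (X.presheaf.stalk z₀)
      (F.presheaf.stalk z₀) (ker_specMap_mem_minimalPrimes F h hξ hmax)
  have htJ : X.presheaf.germ ⊤ z₀ trivial (sec f) ∈
      Ideal.jacobson (⊥ : Ideal (X.presheaf.stalk z₀)) := by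
    rw [IsLocalRing.jacobson_eq_maximalIdeal ⊥ bot_ne_top]
    exact (germ_sec_mem_maximalIdeal_iff f z₀).mpr hz
  obtain ⟨q', hq', hpq, htq⟩ := Groth.Agent.Lib.Helper28.exists_associatedPrime_quotSMulTop hp htJ
    (isSMulRegular_germ_sec f F hflat z₀)
  haveI hq'p : q'.IsPrime := ((AssociatedPrimes.mem_iff).mp hq').isPrime
  have hw : X.fromSpecStalk z₀ ⟨q', hq'p⟩ ⤳ z₀ := fromSpecStalk_specializes z₀ ⟨q', hq'p⟩
  have hk : RingHom.ker (Cyc.specMap z₀ (X.fromSpecStalk z₀ ⟨q', hq'p⟩) hw) = q' :=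
    ker_specMap_fromSpecStalk z₀ q' hw
  have h1 : ξ ⤳ X.fromSpecStalk z₀ ⟨q', hq'p⟩ := by
    rw [← ker_specMap_le_iff z₀ h hw, hk]; exact hpq
  have h2 : f (X.fromSpecStalk z₀ ⟨q', hq'p⟩) = closedPoint A := by
    rw [← germ_sec_mem_maximalIdeal_iff, ← germ_mem_ker_specMap_iff (sec f) hw, hk]; exact htq
  have h3 := hzmax _ h1 h2 hw
  have hcl : X.fromSpecStalk z₀ ⟨maximalIdeal (X.presheaf.stalk z₀), inferInstance⟩ = z₀ :=
    Scheme.fromSpecStalk_closedPoint
  have h4 : q' = maximalIdeal (X.presheaf.stalk z₀) :=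
    Groth.Agent.Lib.Helper4.DimFormula.fromSpecStalk_injective z₀ q' _ (h3.trans hcl.symm)
  rw [← h4]
  exact hq'

end Ass

end Groth.Agent.Lib.Helper7.DvrLen
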