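import Mathlib

set_option autoImplicit false
set_option linter.style.haveILetI false
set_option linter.unusedVariables false
universe u
open CategoryTheory CategoryTheory.Limits AlgebraicGeometry TensorProduct

namespace Groth.Agent.Lib.Helper7.FibreLN

section Ring

attribute [local instance] Algebra.TensorProduct.rightAlgebra in
theorem isNoetherianRing_fiber {R S : Type*} [CommRing R] [CommRing S] [Algebra R S]
    [IsNoetherianRing S] (p : Ideal R) [p.IsPrime] : IsNoetherianRing (p.Fiber S) := by
  let e := Ideal.Fiber.algEquivQuotient (R := R) (p := p) (S := S)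
  haveI : IsNoetherianRing (Localization (Algebra.algebraMapSubmonoid S p.primeCompl)) :=
    IsLocalization.isNoetherianRing (Algebra.algebraMapSubmonoid S p.primeCompl) _ inferInstance
  exact isNoetherianRing_of_ringEquiv _ e.symm.toRingEquiv

end Ring

section Sch

theorem isLocallyNoetherian_fiber_Spec {R S : Type u} [CommRing R] [CommRing S] [Algebra R S]
    [IsNoetherianRing S] (p : PrimeSpectrum R) :
    IsLocallyNoetherian ((Spec.map (CommRingCat.ofHom (algebraMap R S))).fiber p) := by
  have e := Spec.fiberToSpecResidueFieldIso R S p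
  let e' : (Spec.map (CommRingCat.ofHom (algebraMap R S))).fiber p ≅
      Spec (CommRingCat.of (p.asIdeal.Fiber S)) := (Arrow.leftFunc).mapIso e
  haveI : IsNoetherianRing (p.asIdeal.Fiber S) := isNoetherianRing_fiber p.asIdeal
  haveI : IsLocallyNoetherian (Spec (CommRingCat.of (p.asIdeal.Fiber S))) :=
    isLocallyNoetherian_Spec.mpr inferInstance
  exact isLocallyNoetherian_of_isOpenImmersion e'.hom

theorem isLocallyNoetherian_fiber_of_affine_target {Z : Scheme.{u}} [IsLocallyNoetherian Z]
    {R : CommRingCat.{u}} (q : Z ⟶ Spec R) (v : Spec R) : IsLocallyNoetherian (q.fiber v) := by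
  let 𝒰 := Scheme.Pullback.openCoverOfLeft Z.affineOpenCover.openCover q
    ((Spec R).fromSpecResidueField v)
  show IsLocallyNoetherian (pullback q ((Spec R).fromSpecResidueField v))
  rw [isLocallyNoetherian_iff_openCover 𝒰]
  intro i'
  let i : Z.affineOpenCover.openCover.I₀ := i'
  let S : Type u := Z.affineOpenCover.X i
  let ι : Spec (CommRingCat.of S) ⟶ Z := Z.affineOpenCover.openCover.f i
  haveI : IsOpenImmersion ι := Z.affineOpenCover.openCover.map_prop i
  haveI : IsLocallyNoetherian (Spec (CommRingCat.of S)) := isLocallyNoetherian_of_isOpenImmersion ι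
  haveI : IsNoetherianRing S := (isLocallyNoetherian_Spec (R := CommRingCat.of S)).mp inferInstance
  let φ : R ⟶ CommRingCat.of S := Spec.preimage (ι ≫ q)
  letI : Algebra R S := φ.hom.toAlgebra
  have hι : ι ≫ q = Spec.map (CommRingCat.ofHom (algebraMap R S)) := (Spec.map_preimage _).symm
  show IsLocallyNoetherian (pullback (ι ≫ q) ((Spec R).fromSpecResidueField v))
  rw [hι]
  exact isLocallyNoetherian_fiber_Spec (R := R) (S := S) v

theorem isLocallyNoetherian_fiber_of_chart {Z Y : Scheme.{u}} [IsLocallyNoetherian Z] (q : Z ⟶ Y)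
    {R : CommRingCat.{u}} (j : Spec R ⟶ Y) [IsOpenImmersion j] (v : Spec R) :
    IsLocallyNoetherian (q.fiber (j v)) := by
  haveI : IsLocallyNoetherian (pullback q j) :=
    isLocallyNoetherian_of_isOpenImmersion (pullback.fst q j)
  have h := isPullback_fiberToSpecResidueField_of_isPullback (IsPullback.of_hasPullback q j) v
  haveI : IsIso (j.residueFieldMap v) := inferInstance
  haveI : IsIso (Spec.map (j.residueFieldMap v)) :=
    inferInstanceAs (IsIso (Scheme.Spec.map (j.residueFieldMap v).op))
  haveI hiso := h.isIso_fst_of_isIso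
  haveI := isLocallyNoetherian_fiber_of_affine_target (pullback.snd q j) v
  obtain ⟨φ, hφ⟩ : ∃ φ : (pullback.snd q j).fiber v ⟶ q.fiber (j v), IsIso φ := ⟨_, hiso⟩
  haveI := hφ
  exact isLocallyNoetherian_of_isOpenImmersion (inv φ)

/-- the fibres of a morphism from a locally Noetherian scheme are locally Noetherian -/
theorem isLocallyNoetherian_fiber {Z Y : Scheme.{u}} [IsLocallyNoetherian Z] (q : Z ⟶ Y) (y : Y) :
    IsLocallyNoetherian (q.fiber y) := by
  obtain ⟨i, v, rfl⟩ := Y.affineOpenCover.openCover.exists_eq y
  exact @isLocallyNoetherian_fiber_of_chart _ _ _ q (Y.affineOpenCover.X i)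
    (Y.affineOpenCover.openCover.f i) (Y.affineOpenCover.openCover.map_prop i) v

end Sch

end Groth.Agent.Lib.Helper7.FibreLN
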