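import Mathlib
import Groth.Agent.Lib.Helper7DvrLen5
import Groth.Agent.Lib.Helper7DvrLen1
import Groth.Agent.Lib.Helper7FibreLN
import Groth.Agent.Lib.Helper20PullbackAff
import Groth.Agent.Lib.Helper20FormalPull
import Groth.Agent.S1576

set_option autoImplicit false
set_option linter.style.haveILetI false
set_option linter.unusedVariables false
universe u
open CategoryTheory CategoryTheory.Limits AlgebraicGeometry TensorProduct IsLocalRing

namespace Groth.Agent.Lib.Helper7.DvrLen

open Groth.Agent.Lib.Helper7.AssTensorFlatSch Groth.Agent.Lib.Helper2.CycStalkLoc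
  Groth.Agent.Lib.Helper2.CycOrdSum Groth.Agent.Lib.Helper7.FibreLN

section Fib

theorem fiberι_mem {A B : Scheme.{u}} (φ : A ⟶ B) (b : B) (a : φ.fiber b) :
    φ (φ.fiberι b a) = b := by
  have : φ.fiberι b a ∈ Set.range (φ.fiberι b) := ⟨a, rfl⟩
  rw [Scheme.Hom.range_fiberι] at this
  exact this

theorem exists_fiberι_eq {A B : Scheme.{u}} (φ : A ⟶ B) (a : A) (b : B) (h : φ a = b) :
    ∃ z : φ.fiber b, φ.fiberι b z = a := by
  subst h
  have : a ∈ Set.range (φ.fiberι (φ a)) := by
    rw [Scheme.Hom.range_fiberι]; rfl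
  exact this

variable {X Y : Scheme.{u}} (f : X ⟶ Y) (F : X.Modules)

/-- the predicate of the statement: `v` is a maximal point of the support of `F` on the fibre -/
def IsMaxSupp (y : Y) (v : f.fiber y) : Prop :=
  Nontrivial (((Scheme.Modules.pullback (f.fiberι y)).obj F).presheaf.stalk v) ∧
    ∀ w : ↥(f.fiber y), Nontrivial (((Scheme.Modules.pullback (f.fiberι y)).obj F).presheaf.stalk w) →
      v ∈ closure {w} → w = v

variable [F.IsQuasicoherent] [SheafOfModules.IsFiniteType (R := X.ringCatSheaf) F]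

theorem nontrivial_stalk_fibre_iff (y : Y) (v : f.fiber y) :
    Nontrivial (((Scheme.Modules.pullback (f.fiberι y)).obj F).presheaf.stalk v) ↔
      Nontrivial (F.presheaf.stalk (f.fiberι y v)) := by
  rw [← not_subsingleton_iff_nontrivial, ← not_subsingleton_iff_nontrivial,
    Groth.Agent.Lib.Helper20.PullbackAff.subsingleton_stalk_pullback_iff (f.fiberι y) F v]

omit [F.IsQuasicoherent] [SheafOfModules.IsFiniteType (R := X.ringCatSheaf) F] in
theorem specializes_fiberι_iff (y : Y) (v w : f.fiber y) :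
    f.fiberι y w ⤳ f.fiberι y v ↔ w ⤳ v :=
  (f.fiberι y).isEmbedding.isInducing.specializes_iff

theorem isMaxSupp_iff (y : Y) (v : f.fiber y) :
    IsMaxSupp f F y v ↔ Nontrivial (F.presheaf.stalk (f.fiberι y v)) ∧
      ∀ x₂ : X, f x₂ = y → Nontrivial (F.presheaf.stalk x₂) → x₂ ⤳ f.fiberι y v →
        x₂ = f.fiberι y v := by
  unfold IsMaxSupp
  rw [nontrivial_stalk_fibre_iff]
  refine and_congr_right fun _ => ⟨fun h x₂ hx₂ hnt hsp => ?_, fun h w hw hcl => ?_⟩
  · obtain ⟨w, rfl⟩ := exists_fiberι_eq f x₂ y hx₂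
    rw [h w ((nontrivial_stalk_fibre_iff f F y w).mpr hnt)
      (specializes_iff_mem_closure.mp ((specializes_fiberι_iff f y v w).mp hsp))]
  · have h1 := h (f.fiberι y w) (fiberι_mem f y w)
      ((nontrivial_stalk_fibre_iff f F y w).mp hw)
      ((specializes_fiberι_iff f y v w).mpr (specializes_iff_mem_closure.mpr hcl))
    exact (f.fiberι y).isEmbedding.injective h1

omit [F.IsQuasicoherent] [SheafOfModules.IsFiniteType (R := X.ringCatSheaf) F] in
theorem isAssPoint_of_isMaxSupp [IsLocallyNoetherian X] (hF : Coh.IsCoh F) (y : Y)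
    (v : f.fiber y) (hv : IsMaxSupp f F y v) :
    Curv2.IsAssPoint ((Scheme.Modules.pullback (f.fiberι y)).obj F) v := by
  haveI : IsLocallyNoetherian (f.fiber y) := isLocallyNoetherian_fiber f y
  haveI : F.IsQuasicoherent := hF.1
  haveI : SheafOfModules.IsFiniteType (R := X.ringCatSheaf) F := hF.2
  haveI : ((Scheme.Modules.pullback (f.fiberι y)).obj F).IsQuasicoherent :=
    Groth.Agent.Lib.Helper2.PullbackSec.isQuasicoherent_pullback (f.fiberι y) F
  haveI : SheafOfModules.IsFiniteType (R := (f.fiber y).ringCatSheaf)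
      ((Scheme.Modules.pullback (f.fiberι y)).obj F) :=
    Groth.Agent.Lib.Helper20.FormalPull.isFiniteType_pullback (f.fiberι y) F
  exact isAssPoint_of_maximal _ v hv.1
    (fun w hw hsp => hv.2 w hw (specializes_iff_mem_closure.mp hsp))

omit [F.IsQuasicoherent] [SheafOfModules.IsFiniteType (R := X.ringCatSheaf) F] in
theorem finite_isMaxSupp [IsLocallyNoetherian X] [QuasiCompact f] (hF : Coh.IsCoh F) (y : Y) :
    {v : f.fiber y | IsMaxSupp f F y v}.Finite := by
  haveI : IsLocallyNoetherian (f.fiber y) := isLocallyNoetherian_fiber f y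
  haveI : F.IsQuasicoherent := hF.1
  haveI : SheafOfModules.IsFiniteType (R := X.ringCatSheaf) F := hF.2
  have hcoh : Coh.IsCoh ((Scheme.Modules.pullback (f.fiberι y)).obj F) :=
    ⟨Groth.Agent.Lib.Helper2.PullbackSec.isQuasicoherent_pullback (f.fiberι y) F,
      Groth.Agent.Lib.Helper20.FormalPull.isFiniteType_pullback (f.fiberι y) F⟩
  have hfin := Groth.Agent.S1576.result (f.fiber y) _ hcoh ⊤ (by simpa using isCompact_univ)
  exact hfin.subset (fun v hv => ⟨trivial, isAssPoint_of_isMaxSupp f F hF y v hv⟩)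

end Fib

section DvrFib

variable {A : Type u} [CommRing A] [IsDomain A] [IsDiscreteValuationRing A]
  {X : Scheme.{u}} (f : X ⟶ Spec (CommRingCat.of A)) (F : X.Modules)

omit [IsDomain A] [IsDiscreteValuationRing A] in
theorem isClosed_singleton_closedPoint [IsLocalRing A] :
    IsClosed ({closedPoint A} : Set ↥(Spec (CommRingCat.of A))) := by
  have : IsClosed ({closedPoint A} : Set (PrimeSpectrum A)) := by
    rw [PrimeSpectrum.isClosed_singleton_iff_isMaximal]
    exact maximalIdeal.isMaximal A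
  exact this

theorem eq_of_ne_closedPoint (y₁ y₂ : ↥(Spec (CommRingCat.of A))) (h₁ : y₁ ≠ closedPoint A)
    (h₂ : y₂ ≠ closedPoint A) : y₁ = y₂ :=
  PrimeSpectrum.ext ((asIdeal_eq_bot_of_ne_closedPoint A y₁ h₁).trans
    (asIdeal_eq_bot_of_ne_closedPoint A y₂ h₂).symm)

theorem ne_closedPoint_of_specializes {w ξ : X} (h : w ⤳ ξ) (hξ : f ξ ≠ closedPoint A) :
    f w ≠ closedPoint A := by
  intro hw
  apply hξ
  have h1 : f w ⤳ f ξ := h.map f.continuous
  rw [hw] at h1
  exact h1.mem_closed isClosed_singleton_closedPoint rfl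

/-- a maximal point of the support on the generic fibre is a maximal point of the support -/
theorem maximal_of_isMaxSupp_generic [F.IsQuasicoherent]
    [SheafOfModules.IsFiniteType (R := X.ringCatSheaf) F]
    (y' : ↥(Spec (CommRingCat.of A))) (hy' : y' ≠ closedPoint A) (v' : f.fiber y')
    (hv' : IsMaxSupp f F y' v') (w : X) (hw : Nontrivial (F.presheaf.stalk w))
    (hsp : w ⤳ f.fiberι y' v') : w = f.fiberι y' v' := by
  have h1 := ((isMaxSupp_iff f F y' v').mp hv').2
  have hfξ : f (f.fiberι y' v') = y' := fiberι_mem f y' v'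
  have h2 : f w ≠ closedPoint A := ne_closedPoint_of_specializes f hsp (by rw [hfξ]; exact hy')
  exact h1 w (eq_of_ne_closedPoint _ _ h2 hy') hw hsp

/-- every maximal point of the support on the generic fibre specializes to a maximal point of the
support on the closed fibre -/
theorem exists_isMaxSupp_specialization [IsProper f] (hF : Coh.IsCoh F)
    (hflat : FlatMod.IsFlatOver f F)
    (hemb : AssSch.NoEmbedded ((Scheme.Modules.pullback (f.fiberι (closedPoint A))).obj F))
    (y' : ↥(Spec (CommRingCat.of A))) (hy' : y' ≠ closedPoint A) (v' : f.fiber y')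
    (hv' : IsMaxSupp f F y' v') :
    ∃ v : f.fiber (closedPoint A), IsMaxSupp f F (closedPoint A) v ∧
      f.fiberι y' v' ⤳ f.fiberι (closedPoint A) v := by
  haveI : IsLocallyNoetherian X := LocallyOfFiniteType.isLocallyNoetherian f
  haveI : F.IsQuasicoherent := hF.1
  haveI : SheafOfModules.IsFiniteType (R := X.ringCatSheaf) F := hF.2
  have hξnt : Nontrivial (F.presheaf.stalk (f.fiberι y' v')) :=
    ((isMaxSupp_iff f F y' v').mp hv').1
  have hξmax := maximal_of_isMaxSupp_generic f F y' hy' v' hv'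
  obtain ⟨z₀, hξz, hfz, hzmax⟩ := exists_maximal_over_closedPoint f (f.fiberι y' v')
  have hAssAt := fibAssAt_of_maximal_over_closedPoint f F hflat (f.fiberι y' v') z₀ hξnt hξmax
    hξz hfz hzmax
  obtain ⟨v₀, rfl⟩ := exists_fiberι_eq f z₀ (closedPoint A) hfz
  have hAss₀ : Curv2.IsAssPoint ((Scheme.Modules.pullback (f.fiberι (closedPoint A))).obj F) v₀ :=
    (isAssPoint_fibre_iff f F (closedPoint A) v₀).mpr hAssAt
  refine ⟨v₀, ?_, hξz⟩
  refine (isMaxSupp_iff f F _ v₀).mpr ⟨nontrivial_stalk_of_specializes F hξz hξnt, ?_⟩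
  intro x₂ hx₂ hnt hsp
  obtain ⟨u₂, rfl⟩ := exists_fiberι_eq f x₂ _ hx₂
  haveI : IsLocallyNoetherian (f.fiber (closedPoint A)) := isLocallyNoetherian_fiber f _
  haveI : ((Scheme.Modules.pullback (f.fiberι (closedPoint A))).obj F).IsQuasicoherent :=
    Groth.Agent.Lib.Helper2.PullbackSec.isQuasicoherent_pullback (f.fiberι (closedPoint A)) F
  haveI : SheafOfModules.IsFiniteType (R := (f.fiber (closedPoint A)).ringCatSheaf)
      ((Scheme.Modules.pullback (f.fiberι (closedPoint A))).obj F) :=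
    Groth.Agent.Lib.Helper20.FormalPull.isFiniteType_pullback (f.fiberι (closedPoint A)) F
  have hu₂nt := (nontrivial_stalk_fibre_iff f F (closedPoint A) u₂).mpr hnt
  have hu₂v₀ : u₂ ⤳ v₀ := (specializes_fiberι_iff f (closedPoint A) v₀ u₂).mp hsp
  obtain ⟨u₃, hu₃u₂, hu₃nt, hu₃max⟩ := exists_maximal_generization _ hu₂v₀ hu₂nt
  have hu₃Ass := isAssPoint_of_maximal _ u₃ hu₃nt hu₃max
  have h1 : v₀ = u₃ := hemb v₀ hAss₀ u₃ hu₃Ass (hu₃u₂.trans hu₂v₀)
  have h2 : u₂ = v₀ := (hu₂v₀.antisymm (h1 ▸ hu₃u₂)).eq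
  rw [h2]

end DvrFib

end Groth.Agent.Lib.Helper7.DvrLen
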