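import Mathlib
import Groth.Prelude.Def_Cyc
import Groth.Agent.Lib.Helper4DimFormulaQ
import Groth.Agent.Lib.Helper28SecFiniteC
import Groth.Agent.Lib.Helper28RegLoc
import Groth.Agent.Lib.Helper4DimFormulaP
import Groth.Agent.S0603
import Groth.Agent.Lib.Helper7DvrLen6
import Groth.Agent.Lib.Helper7CycSp1

set_option autoImplicit false
set_option linter.style.haveILetI false
set_option linter.unusedVariables false
universe u
open CategoryTheory CategoryTheory.Limits AlgebraicGeometry TensorProduct IsLocalRing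

namespace Groth.Agent.Lib.Helper7.CycSp

open Groth.Agent.Lib.Helper7.DvrLen

section Cat

/-- the local rings of the spectrum of a regular local ring are universally catenary. -/
theorem isUniversallyCatenary_stalk_spec (R : Type u) [CommRing R] [IsRegularLocalRing R]
    (p : Spec (CommRingCat.of R)) :
    CAlg.IsUniversallyCatenary ((Spec (CommRingCat.of R)).presheaf.stalk p) := by
  let p₀ : PrimeSpectrum R := p
  haveI : p₀.asIdeal.IsPrime := p₀.isPrime
  change CAlg.IsUniversallyCatenary ((Spec (CommRingCat.of R)).presheaf.stalk p₀)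
  haveI : IsRegularLocalRing (Localization.AtPrime p₀.asIdeal) :=
    Groth.Agent.Lib.Helper28.isRegularLocalRing_localization_of_isRegularLocalRing R p₀.asIdeal
  haveI : IsRegularRing (Localization.AtPrime p₀.asIdeal) :=
    isRegularRing_iff.mpr fun q _ =>
      Groth.Agent.Lib.Helper28.isRegularLocalRing_localization_of_isRegularLocalRing _ q
  haveI : LocCoh.IsCohenMacaulayRing (Localization.AtPrime p₀.asIdeal) :=
    Groth.Agent.Lib.Helper28.SecFinite.isCohenMacaulayRing_of_isRegularRing _
  have h1 := Groth.Agent.S0603.result (Localization.AtPrime p₀.asIdeal)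
  exact Groth.Agent.Lib.Helper4.DimFormula.isUniversallyCatenary_of_ringEquiv
    (Spec.stalkIso (CommRingCat.of R) p₀).commRingCatIsoToRingEquiv.symm h1

end Cat

section Dvr

variable (R : Type u) [CommRing R] [IsDomain R] [IsDiscreteValuationRing R]

open Classical in
/-- the dimension function on the spectrum of a discrete valuation ring -/
noncomputable def δS : ↥(Spec (CommRingCat.of R)) → ℤ :=
  fun p => if p = closedPoint R then 0 else 1

theorem δS_closed : δS R (closedPoint R) = 0 := by
  unfold δS; exact if_pos rfl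

theorem δS_of_ne {p : ↥(Spec (CommRingCat.of R))} (h : p ≠ closedPoint R) : δS R p = 1 := by
  unfold δS; exact if_neg h

theorem isSetup_δS : Cyc.IsSetup (Spec (CommRingCat.of R)) (δS R) := by
  refine ⟨inferInstance, fun p => isUniversallyCatenary_stalk_spec R p,
    ?_⟩
  intro x y hxy hne
  have hy : y = closedPoint R := by
    by_contra hy
    apply hne
    have h1 : x.asIdeal ≤ y.asIdeal := (PrimeSpectrum.le_iff_specializes x y).mpr hxy
    rw [asIdeal_eq_bot_of_ne_closedPoint R y hy] at h1
    have hx : x ≠ closedPoint R := by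
      rintro rfl
      have h2 : maximalIdeal R = ⊥ := le_bot_iff.mp h1
      exact IsDiscreteValuationRing.not_a_field R h2
    exact eq_of_ne_closedPoint x y hx hy
  subst hy
  have hx : x ≠ closedPoint R := hne
  rw [δS_closed, δS_of_ne R hx]
  exact ⟨by norm_num, fun _ => by norm_num⟩

variable {R}
variable {X : Scheme.{u}} (a : X ⟶ Spec (CommRingCat.of R)) [LocallyOfFiniteType a]
  (δη : ↥(a.fiber (genericPoint ↥(Spec (CommRingCat.of R)))) → ℤ)
  (δs : ↥(a.fiber (closedPoint R)) → ℤ)
  (hδη : Cyc.DeltaCompat (a.fiberToSpecResidueField (genericPoint ↥(Spec (CommRingCat.of R)))) δη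
    (fun _ => 0))
  (hδs : Cyc.DeltaCompat (a.fiberToSpecResidueField (closedPoint R)) δs (fun _ => 0))

include hδη hδs in
theorem exists_dimFun : ∃ δX : X → ℤ, Cyc.IsDimFun X δX ∧
    (∀ ζ, δX (a.fiberι (genericPoint ↥(Spec (CommRingCat.of R))) ζ) = δη ζ + 1) ∧
    (∀ x, δX (a.fiberι (closedPoint R) x) = δs x) := by
  classical
  let δX : X → ℤ := fun x => δS R (a x) +
    (Cardinal.toNat (letI := (a.residueFieldMap x).hom.toAlgebra
      Algebra.trdeg ((Spec (CommRingCat.of R)).residueField (a x)) (X.residueField x)) : ℤ)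
  have hη : ∀ ζ, δX (a.fiberι (genericPoint ↥(Spec (CommRingCat.of R))) ζ) = δη ζ + 1 ∧
      ∃ n : ℕ, (letI := (a.residueFieldMap (a.fiberι _ ζ)).hom.toAlgebra
        Algebra.trdeg ((Spec (CommRingCat.of R)).residueField (a (a.fiberι _ ζ)))
          (X.residueField (a.fiberι _ ζ))) = n := by
    intro ζ
    obtain ⟨n, hn, hδ⟩ := hδη ζ
    have h1 := trdeg_fibre_eq a _ ζ
    rw [hn] at h1
    refine ⟨?_, n, h1⟩
    change δS R (a (a.fiberι _ ζ)) + _ = _
    rw [h1, Cardinal.toNat_natCast, hδ,
      δS_of_ne R (by rw [fiberι_mem a _ ζ]; exact genericPoint_ne_closedPoint R)]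
    ring
  have hs : ∀ x, δX (a.fiberι (closedPoint R) x) = δs x ∧
      ∃ n : ℕ, (letI := (a.residueFieldMap (a.fiberι _ x)).hom.toAlgebra
        Algebra.trdeg ((Spec (CommRingCat.of R)).residueField (a (a.fiberι _ x)))
          (X.residueField (a.fiberι _ x))) = n := by
    intro x
    obtain ⟨n, hn, hδ⟩ := hδs x
    have h1 := trdeg_fibre_eq a _ x
    rw [hn] at h1
    refine ⟨?_, n, h1⟩
    change δS R (a (a.fiberι _ x)) + _ = _
    rw [h1, Cardinal.toNat_natCast, hδ, fiberι_mem a _ x, δS_closed]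
  refine ⟨δX, ?_, fun ζ => (hη ζ).1, fun x => (hs x).1⟩
  refine Groth.Agent.Lib.Helper4.DimFormula.isDimFun_of_deltaCompat a (δS R) (isSetup_δS R) δX ?_
  intro x
  by_cases hx : a x = closedPoint R
  · obtain ⟨z, rfl⟩ := exists_fiberι_eq a x _ hx
    obtain ⟨n, hn⟩ := (hs z).2
    refine ⟨n, hn, ?_⟩
    change δS R (a (a.fiberι _ z)) + _ = _
    rw [hn, Cardinal.toNat_natCast]
  · have hx' : a x = genericPoint ↥(Spec (CommRingCat.of R)) :=
      eq_of_ne_closedPoint _ _ hx (genericPoint_ne_closedPoint R)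
    obtain ⟨z, rfl⟩ := exists_fiberι_eq a x _ hx'
    obtain ⟨n, hn⟩ := (hη z).2
    refine ⟨n, hn, ?_⟩
    change δS R (a (a.fiberι _ z)) + _ = _
    rw [hn, Cardinal.toNat_natCast]

end Dvr

end Groth.Agent.Lib.Helper7.CycSp
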