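import Mathlib
import Groth.Agent.Lib.Helper7DvrLen6
import Groth.Agent.S12132

set_option autoImplicit false
set_option linter.style.haveILetI false
set_option linter.unusedVariables false
universe u
open CategoryTheory CategoryTheory.Limits AlgebraicGeometry TensorProduct IsLocalRing

namespace Groth.Agent.Lib.Helper7.DvrLen

open Groth.Agent.Lib.Helper7.AssTensorFlatSch Groth.Agent.Lib.Helper2.CycStalkLoc
  Groth.Agent.Lib.Helper2.CycOrdSum Groth.Agent.Lib.Helper7.FibreLN
  Groth.Agent.Lib.Helper2.FibreCrit

section Local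

variable {A : Type u} [CommRing A] [IsDomain A] [IsDiscreteValuationRing A]
  {X : Scheme.{u}} (f : X ⟶ Spec (CommRingCat.of A)) (F : X.Modules)

theorem supportDim_pos_of_regular {B : Type*} [CommRing B] [IsLocalRing B] [IsNoetherianRing B]
    (M : Type*) [AddCommGroup M] [Module B M] [Module.Finite B M] [Nontrivial M] (t : B)
    (ht : t ∈ maximalIdeal B) (hreg : IsSMulRegular M t) : 0 < Module.supportDim B M := by
  haveI := nontrivial_quotSMulTop_of_mem_maximalIdeal M ht
  have hx : t ∈ (Module.annihilator B M).jacobson := IsLocalRing.maximalIdeal_le_jacobson _ ht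
  have h1 := Module.supportDim_quotSMulTop_succ_eq_supportDim_mem_jacobson hreg hx
  have h2 : Module.supportDim B (QuotSMulTop t M) ≠ ⊥ := Module.supportDim_ne_bot_of_nontrivial _ _
  rw [← h1]
  obtain ⟨n, hn⟩ := WithBot.ne_bot_iff_exists.mp h2
  rw [← hn]
  have : (0 : WithBot ℕ∞) < ((n + 1 : ℕ∞) : WithBot ℕ∞) := by
    rw [WithBot.coe_pos]
    exact pos_of_ne_zero (by simp)
  exact_mod_cast this

/-- the local inequality: the lengths at the maximal points of the generic fibre specializing to a
maximal point `v` of the closed fibre add up to at most the length at `v` -/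
theorem local_sum_le [IsProper f] (hF : Coh.IsCoh F) (hflat : FlatMod.IsFlatOver f F)
    (y' : ↥(Spec (CommRingCat.of A))) (hy' : y' ≠ closedPoint A)
    (v : f.fiber (closedPoint A)) (hv : IsMaxSupp f F (closedPoint A) v) :
    ∑ᶠ w : {v' : f.fiber y' // IsMaxSupp f F y' v' ∧
        f.fiberι y' v' ⤳ f.fiberι (closedPoint A) v},
      Module.length ((f.fiber y').presheaf.stalk w.1)
        (((Scheme.Modules.pullback (f.fiberι y')).obj F).presheaf.stalk w.1) ≤
    Module.length ((f.fiber (closedPoint A)).presheaf.stalk v)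
      (((Scheme.Modules.pullback (f.fiberι (closedPoint A))).obj F).presheaf.stalk v) := by
  haveI : IsLocallyNoetherian X := LocallyOfFiniteType.isLocallyNoetherian f
  haveI : F.IsQuasicoherent := hF.1
  haveI : SheafOfModules.IsFiniteType (R := X.ringCatSheaf) F := hF.2
  have hfz : f (f.fiberι (closedPoint A) v) = closedPoint A := fiberι_mem f _ v
  rw [length_fibre_stalk f F (closedPoint A) v,
    fibLenAt_eq_of_closed f F (f.fiberι (closedPoint A) v) hfz]
  by_cases hfin : Module.length (X.presheaf.stalk (f.fiberι (closedPoint A) v))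
      ((F.presheaf.stalk (f.fiberι (closedPoint A) v)) ⧸
        (Ideal.span {X.presheaf.germ ⊤ (f.fiberι (closedPoint A) v) trivial (sec f)} •
          (⊤ : Submodule (X.presheaf.stalk (f.fiberι (closedPoint A) v))
            (F.presheaf.stalk (f.fiberι (closedPoint A) v))))) = ⊤
  · rw [hfin]; exact le_top
  have ht : X.presheaf.germ ⊤ (f.fiberι (closedPoint A) v) trivial (sec f) ∈
      maximalIdeal (X.presheaf.stalk (f.fiberι (closedPoint A) v)) :=
    (germ_sec_mem_maximalIdeal_iff f _).mpr hfz
  haveI := finite_stalk F (f.fiberι (closedPoint A) v)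
  haveI hnt : Nontrivial (F.presheaf.stalk (f.fiberι (closedPoint A) v)) :=
    ((isMaxSupp_iff f F _ v).mp hv).1
  have hreg := isSMulRegular_germ_sec f F hflat (f.fiberι (closedPoint A) v)
  have hdim := supportDim_pos_of_regular (F.presheaf.stalk (f.fiberι (closedPoint A) v)) _ ht hreg
  obtain ⟨hle, -⟩ := Groth.Agent.S12132.result _ ht
    (F.presheaf.stalk (f.fiberι (closedPoint A) v)) hdim hfin
  refine le_trans ?_ hle
  have hξ : ∀ w : {v' : f.fiber y' // IsMaxSupp f F y' v' ∧
      f.fiberι y' v' ⤳ f.fiberι (closedPoint A) v},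
      RingHom.ker (Cyc.specMap (f.fiberι (closedPoint A) v) (f.fiberι y' w.1) w.2.2) ∈
        (Module.annihilator (X.presheaf.stalk (f.fiberι (closedPoint A) v))
          (F.presheaf.stalk (f.fiberι (closedPoint A) v))).minimalPrimes := fun w =>
    ker_specMap_mem_minimalPrimes F w.2.2 ((isMaxSupp_iff f F y' w.1).mp w.2.1).1
      (maximal_of_isMaxSupp_generic f F y' hy' w.1 w.2.1)
  refine finsum_subtype_le_finsum_of_injective
    (fun v' : f.fiber y' => IsMaxSupp f F y' v' ∧
      f.fiberι y' v' ⤳ f.fiberι (closedPoint A) v)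
    (fun v' : f.fiber y' => Module.length ((f.fiber y').presheaf.stalk v')
        (((Scheme.Modules.pullback (f.fiberι y')).obj F).presheaf.stalk v'))
    (fun p : (Module.annihilator (X.presheaf.stalk (f.fiberι (closedPoint A) v))
          (F.presheaf.stalk (f.fiberι (closedPoint A) v))).minimalPrimes =>
      haveI : p.1.IsPrime := p.2.1.1
      Module.length (Localization.AtPrime p.1)
        (LocalizedModule p.1.primeCompl (F.presheaf.stalk (f.fiberι (closedPoint A) v))))
    (Ideal.finite_minimalPrimes_of_isNoetherianRing _ _).to_subtype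
    (fun w => ⟨_, hξ w⟩) ?_ ?_
  · intro w₁ w₂ h12
    have h1 : RingHom.ker (Cyc.specMap (f.fiberι (closedPoint A) v) (f.fiberι y' w₁.1) w₁.2.2) =
        RingHom.ker (Cyc.specMap (f.fiberι (closedPoint A) v) (f.fiberι y' w₂.1) w₂.2.2) :=
      congrArg Subtype.val h12
    have h2 : f.fiberι y' w₁.1 = f.fiberι y' w₂.1 := by
      rw [← fromSpecStalk_ker_specMap _ _ w₁.2.2, ← fromSpecStalk_ker_specMap _ _ w₂.2.2]
      congr 1
      exact PrimeSpectrum.ext h1
    exact Subtype.ext ((f.fiberι y').isEmbedding.injective h2)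
  · intro w
    have hfξ : f (f.fiberι y' w.1) ≠ closedPoint A := by
      rw [fiberι_mem f y' w.1]; exact hy'
    rw [length_fibre_stalk f F y' w.1, fibLenAt_eq_of_generic f F _ hfξ]
    exact (@length_stalk_eq_length_localizedModule _ F _ _ _ w.2.2 _ (hξ w).1.1 rfl).symm

end Local

end Groth.Agent.Lib.Helper7.DvrLen
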