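import Mathlib
import Groth.Agent.Lib.Helper7CycSp2
import Groth.Agent.Lib.Helper7DvrLen7
import Groth.Agent.S1833
import Groth.Agent.Lib.Helper5SuppDim

set_option autoImplicit false
set_option linter.style.haveILetI false
set_option linter.unusedVariables false
universe u
open CategoryTheory CategoryTheory.Limits AlgebraicGeometry TensorProduct IsLocalRing

namespace Groth.Agent.Lib.Helper7.CycSp

open Groth.Agent.Lib.Helper7.DvrLen Groth.Agent.Lib.Helper7.AssTensorFlatSch
  Groth.Agent.Lib.Helper2.CycStalkLoc Groth.Agent.Lib.Helper2.CycOrdSum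
  Groth.Agent.Lib.Helper2.FibreCrit

section Pts

variable {R : Type u} [CommRing R] [IsDomain R] [IsDiscreteValuationRing R]
  {X : Scheme.{u}} (a : X ⟶ Spec (CommRingCat.of R)) [IsLocallyNoetherian X]
  (F : X.Modules) [F.IsQuasicoherent] [SheafOfModules.IsFiniteType (R := X.ringCatSheaf) F]

/-- a point of the support in the closed fibre has a generization in the support lying in the
generic fibre (flatness). -/
theorem exists_generic_generization (hflat : FlatMod.IsFlatOver a F) (z : X)
    (hz : a z = closedPoint R) (hnt : Nontrivial (F.presheaf.stalk z)) :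
    ∃ w : X, w ⤳ z ∧ a w ≠ closedPoint R ∧ Nontrivial (F.presheaf.stalk w) := by
  haveI := finite_stalk F z
  obtain ⟨q, hq⟩ := associatedPrimes.nonempty (X.presheaf.stalk z) (F.presheaf.stalk z)
  haveI hqp : q.IsPrime := hq.isPrime
  have hqs : (⟨q, hqp⟩ : PrimeSpectrum (X.presheaf.stalk z)) ∈
      Module.support (X.presheaf.stalk z) (F.presheaf.stalk z) := by
    rw [Module.mem_support_iff_of_finite, ← Submodule.annihilator_top]
    exact hq.annihilator_le
  have hsp := fromSpecStalk_specializes z ⟨q, hqp⟩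
  have hnt' := (mem_support_iff_nontrivial_stalk F hsp ⟨q, hqp⟩
    (ker_specMap_fromSpecStalk z q hsp)).mp hqs
  refine ⟨X.fromSpecStalk z ⟨q, hqp⟩, hsp, ?_, hnt'⟩
  intro hw
  have hreg := isSMulRegular_germ_sec a F hflat z
  have h1 := (germ_sec_mem_maximalIdeal_iff a _).mpr hw
  have h2 := (germ_mem_ker_specMap_iff (sec a) hsp).mpr h1
  rw [ker_specMap_fromSpecStalk z q hsp] at h2
  have h3 : X.presheaf.germ ⊤ z trivial (sec a) ∈
      ⋃ p ∈ associatedPrimes (X.presheaf.stalk z) (F.presheaf.stalk z), (p : Set _) :=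
    Set.mem_iUnion₂_of_mem hq h2
  rw [biUnion_associatedPrimes_eq_zero_divisors] at h3
  obtain ⟨m, hm0, hm⟩ := h3
  exact hm0 (hreg (by
    show X.presheaf.germ ⊤ z trivial (sec a) • m = X.presheaf.germ ⊤ z trivial (sec a) • 0
    rw [hm, smul_zero]))

variable [LocallyOfFiniteType a]
  (δη : ↥(a.fiber (genericPoint ↥(Spec (CommRingCat.of R)))) → ℤ)
  (δs : ↥(a.fiber (closedPoint R)) → ℤ)
  (hδη : Cyc.DeltaCompat (a.fiberToSpecResidueField (genericPoint ↥(Spec (CommRingCat.of R)))) δη
    (fun _ => 0))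
  (hδs : Cyc.DeltaCompat (a.fiberToSpecResidueField (closedPoint R)) δs (fun _ => 0))
  (r : ℤ) (hflat : FlatMod.IsFlatOver a F)
  (hdim : ∀ ζ : ↥(a.fiber (genericPoint ↥(Spec (CommRingCat.of R)))),
    Nontrivial (((Scheme.Modules.pullback (a.fiberι (genericPoint ↥(Spec (CommRingCat.of R))))).obj
      F).presheaf.stalk ζ) → δη ζ ≤ r)

omit [IsLocallyNoetherian X] [F.IsQuasicoherent]
  [SheafOfModules.IsFiniteType (R := X.ringCatSheaf) F] in
include hδη hδs in
/-- specialization from the generic to the closed fibre does not raise `δ` -/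
theorem delta_le_of_specializes (ζ : ↥(a.fiber (genericPoint ↥(Spec (CommRingCat.of R)))))
    (x : ↥(a.fiber (closedPoint R)))
    (h : a.fiberι _ ζ ⤳ a.fiberι _ x) : δs x ≤ δη ζ := by
  obtain ⟨δX, hdf, h1, h2⟩ := exists_dimFun a δη δs hδη hδs
  have hne : a.fiberι _ ζ ≠ a.fiberι _ x := by
    intro he
    have h3 := congrArg (fun p => a p) he
    simp only [] at h3
    rw [fiberι_mem a _ ζ, fiberι_mem a _ x] at h3
    exact genericPoint_ne_closedPoint R h3
  have h3 := (hdf _ _ h hne).1
  rw [h1, h2] at h3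
  omega

omit [IsLocallyNoetherian X] [F.IsQuasicoherent]
  [SheafOfModules.IsFiniteType (R := X.ringCatSheaf) F] in
include hδη hδs in
theorem delta_lt_of_specializes_closed (z x : ↥(a.fiber (closedPoint R)))
    (h : a.fiberι _ z ⤳ a.fiberι _ x) (hne : z ≠ x) : δs x < δs z := by
  obtain ⟨δX, hdf, h1, h2⟩ := exists_dimFun a δη δs hδη hδs
  have hne' : a.fiberι _ z ≠ a.fiberι _ x := fun he =>
    hne ((a.fiberι _).isEmbedding.injective he)
  have h3 := (hdf _ _ h hne').1
  rwa [h2, h2] at h3

omit [IsLocallyNoetherian X] [F.IsQuasicoherent]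
  [SheafOfModules.IsFiniteType (R := X.ringCatSheaf) F] in
include hδη hδs in
theorem delta_lt_of_specializes_generic
    (z x : ↥(a.fiber (genericPoint ↥(Spec (CommRingCat.of R)))))
    (h : a.fiberι _ z ⤳ a.fiberι _ x) (hne : z ≠ x) : δη x < δη z := by
  obtain ⟨δX, hdf, h1, h2⟩ := exists_dimFun a δη δs hδη hδs
  have hne' : a.fiberι _ z ≠ a.fiberι _ x := fun he =>
    hne ((a.fiberι _).isEmbedding.injective he)
  have h3 := (hdf _ _ h hne').1
  rw [h1, h1] at h3
  omega

include hδη hδs hflat hdim in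
/-- `δ ≤ r` on the support in the closed fibre -/
theorem delta_closed_le (z : ↥(a.fiber (closedPoint R)))
    (hz : Nontrivial (F.presheaf.stalk (a.fiberι _ z))) : δs z ≤ r := by
  obtain ⟨w, hsp, hw, hnt⟩ := exists_generic_generization a F hflat (a.fiberι _ z)
    (fiberι_mem a _ z) hz
  have hw' : a w = genericPoint ↥(Spec (CommRingCat.of R)) :=
    eq_of_ne_closedPoint _ _ hw (genericPoint_ne_closedPoint R)
  obtain ⟨ζ, rfl⟩ := exists_fiberι_eq a w _ hw'
  have h1 := hdim ζ ((nontrivial_stalk_fibre_iff a F _ ζ).mpr hnt)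
  have h2 := delta_le_of_specializes a δη δs hδη hδs ζ z hsp
  omega

include hδη hδs hflat hdim in
/-- a point of the support in the closed fibre generizing a point with `δ = r` is that point -/
theorem eq_of_closed_of_specializes (x : ↥(a.fiber (closedPoint R))) (hx : δs x = r)
    (z : X) (hz : a z = closedPoint R) (hnt : Nontrivial (F.presheaf.stalk z))
    (hsp : z ⤳ a.fiberι _ x) : z = a.fiberι _ x := by
  obtain ⟨z', rfl⟩ := exists_fiberι_eq a z _ hz
  by_contra hne
  have hne' : z' ≠ x := fun he => hne (by rw [he])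
  have h1 := delta_lt_of_specializes_closed a δη δs hδη hδs z' x hsp hne'
  have h2 := delta_closed_le a F δη δs hδη hδs r hflat hdim z' hnt
  omega

omit [IsLocallyNoetherian X] in
include hδη hδs hdim in
/-- a point of the support in the generic fibre generizing a point with `δ = r` has `δ = r` and is
maximal in the support -/
theorem generic_of_specializes (x : ↥(a.fiber (closedPoint R))) (hx : δs x = r)
    (w : X) (hw : a w ≠ closedPoint R) (hnt : Nontrivial (F.presheaf.stalk w))
    (hsp : w ⤳ a.fiberι _ x) :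
    ∃ ζ : ↥(a.fiber (genericPoint ↥(Spec (CommRingCat.of R)))), a.fiberι _ ζ = w ∧ δη ζ = r ∧
      ∀ u : X, Nontrivial (F.presheaf.stalk u) → u ⤳ w → u = w := by
  have hw' : a w = genericPoint ↥(Spec (CommRingCat.of R)) :=
    eq_of_ne_closedPoint _ _ hw (genericPoint_ne_closedPoint R)
  obtain ⟨ζ, rfl⟩ := exists_fiberι_eq a w _ hw'
  have h1 := hdim ζ ((nontrivial_stalk_fibre_iff a F _ ζ).mpr hnt)
  have h2 := delta_le_of_specializes a δη δs hδη hδs ζ x hsp
  refine ⟨ζ, rfl, by omega, ?_⟩
  intro u hu hsu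
  have hu1 : a u ≠ closedPoint R := ne_closedPoint_of_specializes a hsu hw
  have hu' : a u = genericPoint ↥(Spec (CommRingCat.of R)) :=
    eq_of_ne_closedPoint _ _ hu1 (genericPoint_ne_closedPoint R)
  obtain ⟨ζ', rfl⟩ := exists_fiberι_eq a u _ hu'
  by_contra hne
  have hne' : ζ' ≠ ζ := fun he => hne (by rw [he])
  have h3 := delta_lt_of_specializes_generic a δη δs hδη hδs ζ' ζ hsu hne'
  have h4 := hdim ζ' ((nontrivial_stalk_fibre_iff a F _ ζ').mpr hu)
  omega

end Pts

end Groth.Agent.Lib.Helper7.CycSp
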