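import Mathlib
import Groth.Agent.Lib.Helper7CycSp3

set_option autoImplicit false
set_option linter.style.haveILetI false
set_option linter.unusedVariables false
set_option linter.unusedSectionVars false
universe u
open CategoryTheory CategoryTheory.Limits AlgebraicGeometry TensorProduct IsLocalRing
open scoped Pointwise

namespace Groth.Agent.Lib.Helper7.CycSp

open Groth.Agent.Lib.Helper7.DvrLen Groth.Agent.Lib.Helper7.AssTensorFlatSch
  Groth.Agent.Lib.Helper2.CycStalkLoc Groth.Agent.Lib.Helper2.CycOrdSum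
  Groth.Agent.Lib.Helper2.FibreCrit

section Loc

variable {R : Type u} [CommRing R] [IsDomain R] [IsDiscreteValuationRing R]
  {X : Scheme.{u}} (a : X ⟶ Spec (CommRingCat.of R)) [IsLocallyNoetherian X]
  (F : X.Modules) [F.IsQuasicoherent] [SheafOfModules.IsFiniteType (R := X.ringCatSheaf) F]
  [LocallyOfFiniteType a]
  (δη : ↥(a.fiber (genericPoint ↥(Spec (CommRingCat.of R)))) → ℤ)
  (δs : ↥(a.fiber (closedPoint R)) → ℤ)
  (hδη : Cyc.DeltaCompat (a.fiberToSpecResidueField (genericPoint ↥(Spec (CommRingCat.of R)))) δη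
    (fun _ => 0))
  (hδs : Cyc.DeltaCompat (a.fiberToSpecResidueField (closedPoint R)) δs (fun _ => 0))
  (r : ℤ) (hflat : FlatMod.IsFlatOver a F)
  (hdim : ∀ ζ : ↥(a.fiber (genericPoint ↥(Spec (CommRingCat.of R)))),
    Nontrivial (((Scheme.Modules.pullback (a.fiberι (genericPoint ↥(Spec (CommRingCat.of R))))).obj
      F).presheaf.stalk ζ) → δη ζ ≤ r)

omit [IsLocallyNoetherian X] [F.IsQuasicoherent]
  [SheafOfModules.IsFiniteType (R := X.ringCatSheaf) F] [LocallyOfFiniteType a] in
/-- the uniformizer lies in the prime `p` of `O_{X,x}` iff the corresponding point is in the closed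
fibre -/
theorem germ_sec_mem_iff (x₀ : X) (p : PrimeSpectrum (X.presheaf.stalk x₀)) :
    X.presheaf.germ ⊤ x₀ trivial (sec a) ∈ p.asIdeal ↔
      a (X.fromSpecStalk x₀ p) = closedPoint R := by
  obtain ⟨q, hq⟩ := p
  have hsp := fromSpecStalk_specializes x₀ ⟨q, hq⟩
  rw [← germ_sec_mem_maximalIdeal_iff a, ← germ_mem_ker_specMap_iff (sec a) hsp,
    ker_specMap_fromSpecStalk x₀ q hsp]

omit [IsLocallyNoetherian X] [SheafOfModules.IsFiniteType (R := X.ringCatSheaf) F]
  [LocallyOfFiniteType a] in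
theorem nontrivial_stalk_fromSpecStalk (x₀ : X) (p : PrimeSpectrum (X.presheaf.stalk x₀))
    (hp : p ∈ Module.support (X.presheaf.stalk x₀) (F.presheaf.stalk x₀)) :
    Nontrivial (F.presheaf.stalk (X.fromSpecStalk x₀ p)) := by
  obtain ⟨q, hq⟩ := p
  have hsp := fromSpecStalk_specializes x₀ ⟨q, hq⟩
  exact (mem_support_iff_nontrivial_stalk F hsp ⟨q, hq⟩
    (ker_specMap_fromSpecStalk x₀ q hsp)).mp hp

include hδη hδs hflat hdim in
/-- primes of the support containing the uniformizer are maximal -/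
theorem eq_maximalIdeal_of_mem (x : ↥(a.fiber (closedPoint R))) (hx : δs x = r)
    (p : PrimeSpectrum (X.presheaf.stalk (a.fiberι _ x)))
    (hp : p ∈ Module.support (X.presheaf.stalk (a.fiberι _ x)) (F.presheaf.stalk (a.fiberι _ x)))
    (ht : X.presheaf.germ ⊤ (a.fiberι _ x) trivial (sec a) ∈ p.asIdeal) :
    p.asIdeal = maximalIdeal (X.presheaf.stalk (a.fiberι _ x)) := by
  have h1 := (germ_sec_mem_iff a _ p).mp ht
  have h2 := nontrivial_stalk_fromSpecStalk F _ p hp
  have h3 := eq_of_closed_of_specializes a F δη δs hδη hδs r hflat hdim x hx _ h1 h2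
    (fromSpecStalk_specializes _ p)
  have hcl : X.fromSpecStalk (a.fiberι _ x)
      ⟨maximalIdeal (X.presheaf.stalk (a.fiberι _ x)), inferInstance⟩ = a.fiberι _ x :=
    Scheme.fromSpecStalk_closedPoint
  obtain ⟨q, hq⟩ := p
  exact Groth.Agent.Lib.Helper4.DimFormula.fromSpecStalk_injective _ q _ (h3.trans hcl.symm)

include hδη hδs hdim in
/-- primes of the support not containing the uniformizer are minimal in the support -/
theorem le_of_not_mem (x : ↥(a.fiber (closedPoint R))) (hx : δs x = r)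
    (p : PrimeSpectrum (X.presheaf.stalk (a.fiberι _ x)))
    (hp : p ∈ Module.support (X.presheaf.stalk (a.fiberι _ x)) (F.presheaf.stalk (a.fiberι _ x)))
    (ht : X.presheaf.germ ⊤ (a.fiberι _ x) trivial (sec a) ∉ p.asIdeal)
    (p' : PrimeSpectrum (X.presheaf.stalk (a.fiberι _ x)))
    (hp' : p' ∈ Module.support (X.presheaf.stalk (a.fiberι _ x)) (F.presheaf.stalk (a.fiberι _ x)))
    (hle : p' ≤ p) : p' = p := by
  have h1 : a (X.fromSpecStalk (a.fiberι _ x) p) ≠ closedPoint R := fun h =>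
    ht ((germ_sec_mem_iff a _ p).mpr h)
  have h2 := nontrivial_stalk_fromSpecStalk F _ p hp
  obtain ⟨ζ, -, -, hmax⟩ := generic_of_specializes a F δη δs hδη hδs r hdim x hx _ h1 h2
    (fromSpecStalk_specializes _ p)
  have h3 : p' ⤳ p := (PrimeSpectrum.le_iff_specializes p' p).mp hle
  have h4 := h3.map (X.fromSpecStalk (a.fiberι _ x)).continuous
  have h5 := hmax _ (nontrivial_stalk_fromSpecStalk F _ p' hp') h4
  exact (X.fromSpecStalk (a.fiberι _ x)).isEmbedding.injective h5

include hδη hδs hflat hdim in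
theorem supportDim_le_one (x : ↥(a.fiber (closedPoint R))) (hx : δs x = r) :
    Module.supportDim (X.presheaf.stalk (a.fiberι _ x)) (F.presheaf.stalk (a.fiberι _ x)) ≤ 1 := by
  rw [Module.supportDim, Order.krullDim_le_one_iff]
  rintro ⟨p, hp⟩
  by_cases ht : X.presheaf.germ ⊤ (a.fiberι _ x) trivial (sec a) ∈ p.asIdeal
  · right
    have hm := eq_maximalIdeal_of_mem a F δη δs hδη hδs r hflat hdim x hx p hp ht
    rintro ⟨p', hp'⟩ hle
    have h1 : p.asIdeal ≤ p'.asIdeal := hle
    rw [hm] at h1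
    have h2 : p'.asIdeal ≤ maximalIdeal _ := IsLocalRing.le_maximalIdeal p'.isPrime.ne_top
    have h3 : p' = p := PrimeSpectrum.ext ((le_antisymm h2 h1).trans hm.symm)
    exact le_of_eq (Subtype.ext h3)
  · left
    rintro ⟨p', hp'⟩ hle
    have := le_of_not_mem a F δη δs hδη hδs r hdim x hx p hp ht p' hp' hle
    exact le_of_eq (Subtype.ext this.symm)

include hδη hδs hflat hdim in
theorem supportDim_quot_le_zero (x : ↥(a.fiber (closedPoint R))) (hx : δs x = r) :
    Module.supportDim (X.presheaf.stalk (a.fiberι _ x))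
      (F.presheaf.stalk (a.fiberι _ x) ⧸ X.presheaf.germ ⊤ (a.fiberι _ x) trivial (sec a) •
        (⊤ : Submodule (X.presheaf.stalk (a.fiberι _ x)) (F.presheaf.stalk (a.fiberι _ x)))) ≤ 0 := by
  apply Groth.Agent.Lib.Helper5.supportDim_le_zero_of_forall_isMaximal
  intro p hp
  have hap : X.presheaf.germ ⊤ (a.fiberι _ x) trivial (sec a) ∈ p.asIdeal := by
    apply Module.annihilator_le_of_mem_support hp
    rw [Module.mem_annihilator]
    intro y
    obtain ⟨y, rfl⟩ := Submodule.Quotient.mk_surjective _ y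
    rw [← Submodule.Quotient.mk_smul, Submodule.Quotient.mk_eq_zero]
    exact Submodule.smul_mem_pointwise_smul y _ ⊤ trivial
  have hp2 : p ∈ Module.support (X.presheaf.stalk (a.fiberι _ x))
      (F.presheaf.stalk (a.fiberι _ x)) :=
    Module.support_subset_of_surjective _ (Submodule.mkQ_surjective _) hp
  rw [eq_maximalIdeal_of_mem a F δη δs hδη hδs r hflat hdim x hx p hp2 hap]
  infer_instance

end Loc

end Groth.Agent.Lib.Helper7.CycSp
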