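import Mathlib
import Groth.Agent.Lib.Helper7CycSp4

set_option autoImplicit false
set_option linter.style.haveILetI false
set_option linter.unusedVariables false
set_option linter.unusedSectionVars false
universe u
open CategoryTheory CategoryTheory.Limits AlgebraicGeometry TensorProduct IsLocalRing
open scoped Pointwise

namespace Groth.Agent.Lib.Helper7.CycSp

open Groth.Agent.Lib.Helper7.DvrLen Groth.Agent.Lib.Helper7.AssTensorFlatSch
  Groth.Agent.Lib.Helper2.CycStalkLoc Groth.Agent.Lib.Helper2.CycOrdSum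
  Groth.Agent.Lib.Helper2.FibreCrit

section Terms

variable {R : Type u} [CommRing R] [IsDomain R] [IsDiscreteValuationRing R]
  {X : Scheme.{u}} (a : X ⟶ Spec (CommRingCat.of R))

/-- the multiplicity in `Cyc.spFun` is the order of vanishing of the uniformizer -/
theorem length_locQuot_eq_ord (x₀ : X) (hx₀ : a x₀ = closedPoint R) {ξ : X} (h : ξ ⤳ x₀) :
    Module.length (X.presheaf.stalk x₀)
      (Cyc.LocQuot x₀ ξ h ⧸
        (maximalIdeal ((Spec (CommRingCat.of R)).presheaf.stalk (a x₀))).map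
          ((Ideal.Quotient.mk (RingHom.ker (Cyc.specMap x₀ ξ h))).comp (a.stalkMap x₀).hom)) =
    Ring.ord (X.presheaf.stalk x₀ ⧸ RingHom.ker (Cyc.specMap x₀ ξ h))
      (Ideal.Quotient.mk (RingHom.ker (Cyc.specMap x₀ ξ h))
        (X.presheaf.germ ⊤ x₀ trivial (sec a))) := by
  have hI : (maximalIdeal ((Spec (CommRingCat.of R)).presheaf.stalk (a x₀))).map
      ((Ideal.Quotient.mk (RingHom.ker (Cyc.specMap x₀ ξ h))).comp (a.stalkMap x₀).hom) =
      Ideal.span {Ideal.Quotient.mk (RingHom.ker (Cyc.specMap x₀ ξ h))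
        (X.presheaf.germ ⊤ x₀ trivial (sec a))} := by
    rw [maximalIdeal_stalk_eq_span R (a x₀) hx₀, Ideal.map_span, Set.image_singleton,
      RingHom.comp_apply, stalkMap_germ_unifSec]
  have key : ∀ (I J : Ideal (Cyc.LocQuot x₀ ξ h)), I = J →
      Module.length (X.presheaf.stalk x₀) (Cyc.LocQuot x₀ ξ h ⧸ I) =
        Module.length (X.presheaf.stalk x₀) (Cyc.LocQuot x₀ ξ h ⧸ J) := by
    rintro I _ rfl; rfl
  rw [key _ _ hI]
  unfold Ring.ord
  exact Module.length_eq_of_surjective Ideal.Quotient.mk_surjective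

variable [IsLocallyNoetherian X]
  (F : X.Modules) [F.IsQuasicoherent] [SheafOfModules.IsFiniteType (R := X.ringCatSheaf) F]

/-- the coefficient of `[F_η]_r` at a point of the generic fibre, as a length of a localization of
the stalk at a specialization -/
theorem sheafFun_generic_eq
    (δη : ↥(a.fiber (genericPoint ↥(Spec (CommRingCat.of R)))) → ℤ) (r : ℤ)
    (ζ : ↥(a.fiber (genericPoint ↥(Spec (CommRingCat.of R))))) (hζ : δη ζ = r) (x₀ : X)
    (h : a.fiberι _ ζ ⤳ x₀) :
    Cyc.sheafFun δη r ((Scheme.Modules.pullback (a.fiberι _)).obj F) ζ =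
      ((Module.length (Localization.AtPrime (RingHom.ker (Cyc.specMap x₀ (a.fiberι _ ζ) h)))
        (LocalizedModule (RingHom.ker (Cyc.specMap x₀ (a.fiberι _ ζ) h)).primeCompl
          (F.presheaf.stalk x₀))).toNat : ℤ) := by
  have hne : a (a.fiberι _ ζ) ≠ closedPoint R := by
    rw [fiberι_mem a _ ζ]; exact genericPoint_ne_closedPoint R
  unfold Cyc.sheafFun
  rw [if_pos hζ, length_fibre_stalk a F _ ζ, fibLenAt_eq_of_generic a F _ hne,
    length_stalk_eq_length_localizedModule F h _ rfl]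

/-- the coefficient of `[F_s]_r` at a point of the closed fibre -/
theorem sheafFun_closed_eq (δs : ↥(a.fiber (closedPoint R)) → ℤ) (r : ℤ)
    (x : ↥(a.fiber (closedPoint R))) (hx : δs x = r) :
    Cyc.sheafFun δs r ((Scheme.Modules.pullback (a.fiberι _)).obj F) x =
      ((Module.length (X.presheaf.stalk (a.fiberι _ x))
        (F.presheaf.stalk (a.fiberι _ x) ⧸ X.presheaf.germ ⊤ (a.fiberι _ x) trivial (sec a) •
          (⊤ : Submodule (X.presheaf.stalk (a.fiberι _ x))
            (F.presheaf.stalk (a.fiberι _ x))))).toNat : ℤ) := by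
  unfold Cyc.sheafFun
  rw [if_pos hx, length_fibre_stalk a F _ x, fibLenAt_eq_of_closed a F _ (fiberι_mem a _ x)]
  have key : ∀ (I J : Submodule (X.presheaf.stalk (a.fiberι _ x))
      (F.presheaf.stalk (a.fiberι _ x))), I = J →
      Module.length (X.presheaf.stalk (a.fiberι _ x)) (F.presheaf.stalk (a.fiberι _ x) ⧸ I) =
        Module.length (X.presheaf.stalk (a.fiberι _ x)) (F.presheaf.stalk (a.fiberι _ x) ⧸ J) := by
    rintro I _ rfl; rfl
  rw [key _ _ (Submodule.ideal_span_singleton_smul _ ⊤)]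

end Terms

section Main

variable {R : Type u} [CommRing R] [IsDomain R] [IsDiscreteValuationRing R]
  {X : Scheme.{u}} (a : X ⟶ Spec (CommRingCat.of R)) [IsLocallyNoetherian X]
  (F : X.Modules) [F.IsQuasicoherent] [SheafOfModules.IsFiniteType (R := X.ringCatSheaf) F]
  [LocallyOfFiniteType a]
  (δη : ↥(a.fiber (genericPoint ↥(Spec (CommRingCat.of R)))) → ℤ)
  (δs : ↥(a.fiber (closedPoint R)) → ℤ)
  (hδη : Cyc.DeltaCompat (a.fiberToSpecResidueField (genericPoint ↥(Spec (CommRingCat.of R)))) δη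
    (fun _ => 0))
  (hδs : Cyc.DeltaCompat (a.fiberToSpecResidueField (closedPoint R)) δs (fun _ => 0))
  (r : ℤ) (hflat : FlatMod.IsFlatOver a F)
  (hdim : ∀ ζ : ↥(a.fiber (genericPoint ↥(Spec (CommRingCat.of R)))),
    Nontrivial (((Scheme.Modules.pullback (a.fiberι (genericPoint ↥(Spec (CommRingCat.of R))))).obj
      F).presheaf.stalk ζ) → δη ζ ≤ r)

include hδη hδs hflat hdim in
/-- the local specialization formula at a point `x` of the closed fibre with `δ x = r` -/
theorem spFun_sum_eq (x : ↥(a.fiber (closedPoint R))) (hx : δs x = r) :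
    ∑ᶠ ζ : {ζ : ↥(a.fiber (genericPoint ↥(Spec (CommRingCat.of R)))) //
        δη ζ = r ∧ (a.fiberι _ ζ) ⤳ (a.fiberι _ x)},
      Cyc.sheafFun δη r ((Scheme.Modules.pullback (a.fiberι _)).obj F) ζ.1 *
       ((Module.length (X.presheaf.stalk (a.fiberι _ x))
        (Cyc.LocQuot (a.fiberι _ x) (a.fiberι _ ζ.1) ζ.2.2 ⧸
          (maximalIdeal ((Spec (CommRingCat.of R)).presheaf.stalk (a (a.fiberι _ x)))).map
            ((Ideal.Quotient.mk (RingHom.ker (Cyc.specMap (a.fiberι _ x) (a.fiberι _ ζ.1)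
              ζ.2.2))).comp (a.stalkMap (a.fiberι _ x)).hom))).toNat : ℤ) =
    Cyc.sheafFun δs r ((Scheme.Modules.pullback (a.fiberι _)).obj F) x := by
  classical
  have hax₀ : a (a.fiberι _ x) = closedPoint R := fiberι_mem a _ x
  haveI := finite_stalk F (a.fiberι _ x)
  have h1 := supportDim_le_one a F δη δs hδη hδs r hflat hdim x hx
  have h0 := supportDim_quot_le_zero a F δη δs hδη hδs r hflat hdim x hx
  have res := Groth.Agent.S1833.result (X.presheaf.stalk (a.fiberι _ x))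
    (F.presheaf.stalk (a.fiberι _ x)) (X.presheaf.germ ⊤ (a.fiberι _ x) trivial (sec a)) h1 h0
  have hreg := isSMulRegular_germ_sec a F hflat (a.fiberι _ x)
  have hker : LinearMap.ker (LinearMap.lsmul (X.presheaf.stalk (a.fiberι _ x))
      (F.presheaf.stalk (a.fiberι _ x)) (X.presheaf.germ ⊤ (a.fiberι _ x) trivial (sec a))) = ⊥ :=
    LinearMap.ker_eq_bot.mpr hreg
  rw [hker, Module.length_bot, zero_add] at res
  let J : Set (PrimeSpectrum (X.presheaf.stalk (a.fiberι _ x))) :=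
    {p | p ∈ Module.support (X.presheaf.stalk (a.fiberι _ x)) (F.presheaf.stalk (a.fiberι _ x)) ∧
      p.asIdeal ≠ maximalIdeal (X.presheaf.stalk (a.fiberι _ x))}
  let T : PrimeSpectrum (X.presheaf.stalk (a.fiberι _ x)) → ℕ∞ := fun p =>
    Ring.ord (X.presheaf.stalk (a.fiberι _ x) ⧸ p.asIdeal)
      (Ideal.Quotient.mk p.asIdeal (X.presheaf.germ ⊤ (a.fiberι _ x) trivial (sec a))) *
    Module.length (Localization.AtPrime p.asIdeal)
      (LocalizedModule p.asIdeal.primeCompl (F.presheaf.stalk (a.fiberι _ x)))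
  have res' : Module.length (X.presheaf.stalk (a.fiberι _ x))
      (F.presheaf.stalk (a.fiberι _ x) ⧸ X.presheaf.germ ⊤ (a.fiberι _ x) trivial (sec a) •
        (⊤ : Submodule (X.presheaf.stalk (a.fiberι _ x)) (F.presheaf.stalk (a.fiberι _ x)))) =
      ∑ᶠ p ∈ J, T p := res
  have hJt : ∀ p ∈ J, X.presheaf.germ ⊤ (a.fiberι _ x) trivial (sec a) ∉ p.asIdeal :=
    fun p hp ht => hp.2 (eq_maximalIdeal_of_mem a F δη δs hδη hδs r hflat hdim x hx p hp.1 ht)
  have hJfin : J.Finite := by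
    have hfin := Ideal.finite_minimalPrimes_of_isNoetherianRing (X.presheaf.stalk (a.fiberι _ x))
      (Module.annihilator (X.presheaf.stalk (a.fiberι _ x)) (F.presheaf.stalk (a.fiberι _ x)))
    have hinj : Function.Injective (PrimeSpectrum.asIdeal
        (R := X.presheaf.stalk (a.fiberι _ x))) := fun p q h => PrimeSpectrum.ext h
    refine (hfin.preimage hinj.injOn).subset ?_
    intro p hp
    refine ⟨⟨p.isPrime, Module.mem_support_iff_of_finite.mp hp.1⟩, ?_⟩
    rintro q ⟨hqp, hq⟩ hqle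
    have h3 := le_of_not_mem a F δη δs hδη hδs r hdim x hx p hp.1 (hJt p hp) ⟨q, hqp⟩
      (Module.mem_support_iff_of_finite.mpr hq) hqle
    rw [← h3]
  rw [finsum_mem_eq_finite_toFinset_sum _ hJfin] at res'
  have hfinlen : Module.length (X.presheaf.stalk (a.fiberι _ x))
      (F.presheaf.stalk (a.fiberι _ x) ⧸ X.presheaf.germ ⊤ (a.fiberι _ x) trivial (sec a) •
        (⊤ : Submodule (X.presheaf.stalk (a.fiberι _ x)) (F.presheaf.stalk (a.fiberι _ x)))) ≠ ⊤ :=
    Module.length_ne_top_iff.mpr (Groth.Agent.Lib.Helper5.isFiniteLength_of_supportDim_le_zero h0)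
  have hterm : ∀ p ∈ hJfin.toFinset, T p ≠ ⊤ := by
    rw [res'] at hfinlen
    exact ENat.sum_ne_top.mp hfinlen
  rw [sheafFun_closed_eq a F δs r x hx, res', ENat.toNat_sum hterm, Nat.cast_sum]
  -- the left hand side
  let e : {ζ : ↥(a.fiber (genericPoint ↥(Spec (CommRingCat.of R)))) //
        δη ζ = r ∧ (a.fiberι _ ζ) ⤳ (a.fiberι _ x)} →
      PrimeSpectrum (X.presheaf.stalk (a.fiberι _ x)) := fun ζ =>
    ⟨RingHom.ker (Cyc.specMap (a.fiberι _ x) (a.fiberι _ ζ.1) ζ.2.2), inferInstance⟩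
  have he : Function.Injective e := by
    intro w₁ w₂ h12
    have h1 : RingHom.ker (Cyc.specMap (a.fiberι _ x) (a.fiberι _ w₁.1) w₁.2.2) =
        RingHom.ker (Cyc.specMap (a.fiberι _ x) (a.fiberι _ w₂.1) w₂.2.2) :=
      congrArg PrimeSpectrum.asIdeal h12
    have h2 : a.fiberι _ w₁.1 = a.fiberι _ w₂.1 := by
      rw [← fromSpecStalk_ker_specMap _ _ w₁.2.2, ← fromSpecStalk_ker_specMap _ _ w₂.2.2]
      congr 1
    exact Subtype.ext ((a.fiberι _).isEmbedding.injective h2)
  have hne : ∀ ζ, (e ζ).asIdeal ≠ maximalIdeal (X.presheaf.stalk (a.fiberι _ x)) := by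
    intro ζ hm
    have ht : X.presheaf.germ ⊤ (a.fiberι _ x) trivial (sec a) ∈ (e ζ).asIdeal := by
      rw [hm]; exact (germ_sec_mem_maximalIdeal_iff a _).mpr hax₀
    have h2 := (germ_mem_ker_specMap_iff (sec a) ζ.2.2).mp ht
    have h3 := (germ_sec_mem_maximalIdeal_iff a _).mp h2
    rw [fiberι_mem a _ ζ.1] at h3
    exact genericPoint_ne_closedPoint R h3
  let G : PrimeSpectrum (X.presheaf.stalk (a.fiberι _ x)) → ℤ := fun p =>
    if p ∈ J then ((T p).toNat : ℤ) else 0
  have hterm2 : ∀ ζ : {ζ : ↥(a.fiber (genericPoint ↥(Spec (CommRingCat.of R)))) //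
        δη ζ = r ∧ (a.fiberι _ ζ) ⤳ (a.fiberι _ x)},
      Cyc.sheafFun δη r ((Scheme.Modules.pullback (a.fiberι _)).obj F) ζ.1 *
       ((Module.length (X.presheaf.stalk (a.fiberι _ x))
        (Cyc.LocQuot (a.fiberι _ x) (a.fiberι _ ζ.1) ζ.2.2 ⧸
          (maximalIdeal ((Spec (CommRingCat.of R)).presheaf.stalk (a (a.fiberι _ x)))).map
            ((Ideal.Quotient.mk (RingHom.ker (Cyc.specMap (a.fiberι _ x) (a.fiberι _ ζ.1)
              ζ.2.2))).comp (a.stalkMap (a.fiberι _ x)).hom))).toNat : ℤ) = G (e ζ) := by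
    intro ζ
    rw [sheafFun_generic_eq a F δη r ζ.1 ζ.2.1 _ ζ.2.2, length_locQuot_eq_ord a _ hax₀ ζ.2.2]
    by_cases hJ : e ζ ∈ J
    · have : G (e ζ) = ((T (e ζ)).toNat : ℤ) := if_pos hJ
      rw [this]
      change _ = (((Ring.ord _ _ * Module.length _ _ : ℕ∞)).toNat : ℤ)
      rw [ENat.toNat_mul]
      push_cast
      ring
    · have : G (e ζ) = 0 := if_neg hJ
      rw [this]
      have hns : e ζ ∉ Module.support (X.presheaf.stalk (a.fiberι _ x))
          (F.presheaf.stalk (a.fiberι _ x)) := fun hs => hJ ⟨hs, hne ζ⟩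
      rw [Module.notMem_support_iff] at hns
      have h0 : Module.length (Localization.AtPrime (e ζ).asIdeal)
          (LocalizedModule (e ζ).asIdeal.primeCompl (F.presheaf.stalk (a.fiberι _ x))) = 0 :=
        Module.length_eq_zero
      change ((Module.length (Localization.AtPrime (e ζ).asIdeal)
          (LocalizedModule (e ζ).asIdeal.primeCompl (F.presheaf.stalk (a.fiberι _ x)))).toNat : ℤ) *
          _ = 0
      rw [h0]
      simp
  have hsupp : ∀ p ∈ Function.support G, p ∈ Set.range e ↔ p ∈ J := by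
    intro p hp
    have hpJ : p ∈ J := by
      by_contra hn
      exact hp (if_neg hn)
    refine ⟨fun _ => hpJ, fun _ => ?_⟩
    have h1 : a (X.fromSpecStalk (a.fiberι _ x) p) ≠ closedPoint R := fun h =>
      hJt p hpJ ((germ_sec_mem_iff a _ p).mpr h)
    have h2 := nontrivial_stalk_fromSpecStalk F _ p hpJ.1
    obtain ⟨ζ, hζw, hζr, -⟩ := generic_of_specializes a F δη δs hδη hδs r hdim x hx _ h1 h2
      (fromSpecStalk_specializes _ p)
    have hsp : a.fiberι _ ζ ⤳ a.fiberι _ x := by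
      rw [hζw]; exact fromSpecStalk_specializes _ p
    refine ⟨⟨ζ, hζr, hsp⟩, ?_⟩
    apply PrimeSpectrum.ext
    obtain ⟨q, hq⟩ := p
    exact Groth.Agent.Lib.Helper4.DimFormula.fromSpecStalk_injective (a.fiberι _ x) _ q
      ((fromSpecStalk_ker_specMap (a.fiberι _ x) (a.fiberι _ ζ) hsp).trans hζw)
  calc _ = ∑ᶠ ζ, G (e ζ) := finsum_congr hterm2
    _ = ∑ᶠ p ∈ Set.range e, G p := (finsum_mem_range he).symm
    _ = ∑ᶠ p ∈ J, G p := finsum_mem_inter_support_eq' G _ _ hsupp
    _ = ∑ p ∈ hJfin.toFinset, G p := finsum_mem_eq_finite_toFinset_sum _ hJfin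
    _ = ∑ p ∈ hJfin.toFinset, ((T p).toNat : ℤ) :=
        Finset.sum_congr rfl (fun p hp => if_pos (hJfin.mem_toFinset.mp hp))

end Main

end Groth.Agent.Lib.Helper7.CycSp
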