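import Mathlib
import Groth.Agent.Lib.Helper7CycSp5
import Groth.Agent.Lib.Helper11RedCl
import Groth.Agent.Lib.Helper3DomFibDim
import Groth.Agent.Lib.Helper4CycLen2
import Groth.Agent.Lib.Helper2FlatOver2
import Groth.Agent.Lib.Helper7NoEmbBC3

/-!
# The structure sheaf of the reduced closure of a point, as a coherent module

For a point `z` of a scheme `X`: the reduced closed subscheme `clSub z` on the closure of `z`, the
coherent module `clSheaf z` (push-forward of its structure sheaf), its support and its stalk at `z`.
Over a discrete valuation ring, flatness of `clSheaf z` when `z` lies in the generic fibre, and the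
coefficient functions of its restrictions to the fibres.
-/

set_option autoImplicit false
set_option linter.style.haveILetI false
universe u
open CategoryTheory CategoryTheory.Limits AlgebraicGeometry IsLocalRing TopologicalSpace

namespace Groth.Agent.Lib.Helper7.CycPB

section General

variable {X : Scheme.{u}} (z : X)

/-- the reduced closed subscheme on the closure of `z` -/
noncomputable abbrev clSub : Scheme.{u} :=
  (Scheme.IdealSheafData.vanishingIdeal (⟨closure {z}, isClosed_closure⟩ : Closeds X)).subscheme

/-- its closed immersion -/
noncomputable abbrev clι : clSub z ⟶ X :=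
  (Scheme.IdealSheafData.vanishingIdeal (⟨closure {z}, isClosed_closure⟩ : Closeds X)).subschemeι

theorem range_clι : Set.range (clι z) = closure {z} :=
  Groth.Agent.Lib.Helper11RedCl.range_subschemeι_vanishingIdeal _

instance : IsReduced (clSub z) :=
  Groth.Agent.Lib.Helper11RedCl.isReduced_subscheme_vanishingIdeal _

theorem exists_clι_eq : ∃ w : clSub z, clι z w = z := by
  have : z ∈ Set.range (clι z) := by rw [range_clι]; exact subset_closure rfl
  exact this

theorem isGenericPoint_of_clι_eq (w : clSub z) (hw : clι z w = z) :
    IsGenericPoint w (Set.univ : Set (clSub z)) := by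
  show closure {w} = Set.univ
  rw [(clι z).isEmbedding.closure_eq_preimage_closure_image, Set.image_singleton, hw, ← range_clι]
  exact Set.preimage_range _

instance : IrreducibleSpace (clSub z) := by
  obtain ⟨w, hw⟩ := exists_clι_eq z
  have h := (isGenericPoint_of_clι_eq z w hw).isIrreducible
  exact (irreducibleSpace_def _).mpr h

instance : IsIntegral (clSub z) := isIntegral_of_irreducibleSpace_of_isReduced _

theorem clι_genericPoint : clι z (genericPoint (clSub z)) = z := by
  obtain ⟨w, hw⟩ := exists_clι_eq z
  have h := isGenericPoint_of_clι_eq z w hw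
  rw [(genericPoint_spec (clSub z)).eq h]
  exact hw

/-- the coherent module: structure sheaf of the closure of `z` -/
noncomputable def clSheaf : X.Modules :=
  (Scheme.Modules.pushforward (clι z)).obj (Coh.structureModule (clSub z))

theorem isCoh_clSheaf [IsLocallyNoetherian X] : Coh.IsCoh (clSheaf z) :=
  Groth.Agent.Lib.Helper4.Dev.isCoh_push_closed (clι z) _
    (Groth.Agent.Lib.Helper4.Dev.isCoh_structureModule _)

theorem nontrivial_stalk_clSheaf_iff (x : X) :
    Nontrivial ((clSheaf z).presheaf.stalk x) ↔ z ⤳ x := by
  rw [specializes_iff_mem_closure, ← range_clι]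
  constructor
  · intro hnt
    exact Groth.Agent.Lib.Helper4.Dev.support_push_subset (clι z) (Coh.structureModule (clSub z))
      (not_subsingleton_iff_nontrivial.mpr hnt)
  · rintro ⟨w, hw⟩
    rw [← hw, ← not_subsingleton_iff_nontrivial]
    intro hsub
    have h0 : Module.length (X.presheaf.stalk (clι z w))
        ((clSheaf z).presheaf.stalk (clι z w)) = 0 :=
      Module.length_eq_zero_iff.2 hsub
    unfold clSheaf at h0
    rw [Groth.Agent.Lib.Helper4.CycLen.length_stalk_push_structure_eq (clι z) w,
      Module.length_eq_zero_iff] at h0
    exact not_subsingleton _ h0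

theorem length_stalk_clSheaf_self :
    Module.length (X.presheaf.stalk z) ((clSheaf z).presheaf.stalk z) = 1 := by
  have key : ∀ (x : X) (hx : clι z (genericPoint (clSub z)) = x),
      Module.length (X.presheaf.stalk x) ((clSheaf z).presheaf.stalk x) = 1 := by
    rintro x rfl
    unfold clSheaf
    rw [Groth.Agent.Lib.Helper4.CycLen.length_stalk_push_structure_eq (clι z)
      (genericPoint (clSub z))]
    letI : Field ((clSub z).presheaf.stalk (genericPoint (clSub z))) :=
      inferInstanceAs (Field (clSub z).functionField)
    exact Module.length_eq_one_iff.mpr inferInstance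
  exact key z (clι_genericPoint z)

end General

section DVR

variable {R : Type u} [CommRing R] [IsDomain R] [IsDiscreteValuationRing R]
  {X : Scheme.{u}} (b : X ⟶ Spec (CommRingCat.of R)) (z : X)

theorem isDominant_clι_comp (hz : b z = genericPoint ↥(Spec (CommRingCat.of R))) :
    IsDominant (clι z ≫ b) := by
  refine ⟨?_⟩
  have hmem : genericPoint ↥(Spec (CommRingCat.of R)) ∈ Set.range (clι z ≫ b) := by
    obtain ⟨w, hw⟩ := exists_clι_eq z
    exact ⟨w, by rw [Scheme.Hom.comp_apply, hw, hz]⟩
  rw [DenseRange, Dense]
  intro x
  have h1 : closure {genericPoint ↥(Spec (CommRingCat.of R))} ⊆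
      closure (Set.range (clι z ≫ b)) :=
    closure_mono (Set.singleton_subset_iff.mpr hmem)
  apply h1
  rw [(genericPoint_spec ↥(Spec (CommRingCat.of R))).def]
  trivial

theorem flat_clι_comp (hz : b z = genericPoint ↥(Spec (CommRingCat.of R))) :
    Flat (clι z ≫ b) := by
  haveI := isDominant_clι_comp b z hz
  exact Groth.Agent.Lib.Helper3.DomFibDim.flat_of_isIntegral_of_isDominant
    (fun M _ _ h => (Module.Flat.flat_iff_torsion_eq_bot_of_isBezout).mpr h) (clι z ≫ b)

theorem isFlatOver_clSheaf (hz : b z = genericPoint ↥(Spec (CommRingCat.of R))) :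
    FlatMod.IsFlatOver b (clSheaf z) := by
  haveI := flat_clι_comp b z hz
  haveI : (Coh.structureModule (clSub z)).IsQuasicoherent :=
    (Groth.Agent.Lib.Helper4.Dev.isCoh_structureModule (clSub z)).1
  exact (Groth.Agent.Lib.Helper2.FlatOver.isFlatOver_pushforward_iff (clι z) b
    (Coh.structureModule (clSub z))).mp
      (Groth.Agent.Lib.Helper7.NoEmbBC.isFlatOver_structureModule (clι z ≫ b))

end DVR

end Groth.Agent.Lib.Helper7.CycPB
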