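import Mathlib
import Groth.Agent.Lib.Helper7CycSp5

/-!
# Finiteness of the support of the summands in the local specialization formula
-/

set_option autoImplicit false
set_option linter.style.haveILetI false
set_option linter.unusedVariables false
set_option linter.unusedSectionVars false
universe u
open CategoryTheory CategoryTheory.Limits AlgebraicGeometry TensorProduct IsLocalRing
open scoped Pointwise

namespace Groth.Agent.Lib.Helper7.CycSp

open Groth.Agent.Lib.Helper7.DvrLen Groth.Agent.Lib.Helper7.AssTensorFlatSch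
  Groth.Agent.Lib.Helper2.CycStalkLoc Groth.Agent.Lib.Helper2.CycOrdSum
  Groth.Agent.Lib.Helper2.FibreCrit

variable {R : Type u} [CommRing R] [IsDomain R] [IsDiscreteValuationRing R]
  {X : Scheme.{u}} (a : X ⟶ Spec (CommRingCat.of R)) [IsLocallyNoetherian X]
  (F : X.Modules) [F.IsQuasicoherent] [SheafOfModules.IsFiniteType (R := X.ringCatSheaf) F]
  [LocallyOfFiniteType a]
  (δη : ↥(a.fiber (genericPoint ↥(Spec (CommRingCat.of R)))) → ℤ)
  (δs : ↥(a.fiber (closedPoint R)) → ℤ)
  (hδη : Cyc.DeltaCompat (a.fiberToSpecResidueField (genericPoint ↥(Spec (CommRingCat.of R)))) δη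
    (fun _ => 0))
  (hδs : Cyc.DeltaCompat (a.fiberToSpecResidueField (closedPoint R)) δs (fun _ => 0))
  (r : ℤ) (hflat : FlatMod.IsFlatOver a F)
  (hdim : ∀ ζ : ↥(a.fiber (genericPoint ↥(Spec (CommRingCat.of R)))),
    Nontrivial (((Scheme.Modules.pullback (a.fiberι (genericPoint ↥(Spec (CommRingCat.of R))))).obj
      F).presheaf.stalk ζ) → δη ζ ≤ r)

include hδη hδs hflat hdim in
/-- only finitely many generizations `ζ` of `x` with `δ ζ = r` carry a nonzero coefficient of
`[F_η]_r` -/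
theorem finite_support_sheafFun (x : ↥(a.fiber (closedPoint R))) (hx : δs x = r) :
    {ζ : {ζ : ↥(a.fiber (genericPoint ↥(Spec (CommRingCat.of R)))) //
        δη ζ = r ∧ (a.fiberι _ ζ) ⤳ (a.fiberι _ x)} |
      Cyc.sheafFun δη r ((Scheme.Modules.pullback (a.fiberι _)).obj F) ζ.1 ≠ 0}.Finite := by
  classical
  have hax₀ : a (a.fiberι _ x) = closedPoint R := fiberι_mem a _ x
  haveI := finite_stalk F (a.fiberι _ x)
  let J : Set (PrimeSpectrum (X.presheaf.stalk (a.fiberι _ x))) :=
    {p | p ∈ Module.support (X.presheaf.stalk (a.fiberι _ x)) (F.presheaf.stalk (a.fiberι _ x)) ∧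
      p.asIdeal ≠ maximalIdeal (X.presheaf.stalk (a.fiberι _ x))}
  have hJt : ∀ p ∈ J, X.presheaf.germ ⊤ (a.fiberι _ x) trivial (sec a) ∉ p.asIdeal :=
    fun p hp ht => hp.2 (eq_maximalIdeal_of_mem a F δη δs hδη hδs r hflat hdim x hx p hp.1 ht)
  have hJfin : J.Finite := by
    have hfin := Ideal.finite_minimalPrimes_of_isNoetherianRing (X.presheaf.stalk (a.fiberι _ x))
      (Module.annihilator (X.presheaf.stalk (a.fiberι _ x)) (F.presheaf.stalk (a.fiberι _ x)))
    have hinj : Function.Injective (PrimeSpectrum.asIdeal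
        (R := X.presheaf.stalk (a.fiberι _ x))) := fun p q h => PrimeSpectrum.ext h
    refine (hfin.preimage hinj.injOn).subset ?_
    intro p hp
    refine ⟨⟨p.isPrime, Module.mem_support_iff_of_finite.mp hp.1⟩, ?_⟩
    rintro q ⟨hqp, hq⟩ hqle
    have h3 := le_of_not_mem a F δη δs hδη hδs r hdim x hx p hp.1 (hJt p hp) ⟨q, hqp⟩
      (Module.mem_support_iff_of_finite.mpr hq) hqle
    rw [← h3]
  let e : {ζ : ↥(a.fiber (genericPoint ↥(Spec (CommRingCat.of R)))) //
        δη ζ = r ∧ (a.fiberι _ ζ) ⤳ (a.fiberι _ x)} →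
      PrimeSpectrum (X.presheaf.stalk (a.fiberι _ x)) := fun ζ =>
    ⟨RingHom.ker (Cyc.specMap (a.fiberι _ x) (a.fiberι _ ζ.1) ζ.2.2), inferInstance⟩
  have he : Function.Injective e := by
    intro w₁ w₂ h12
    have h1 : RingHom.ker (Cyc.specMap (a.fiberι _ x) (a.fiberι _ w₁.1) w₁.2.2) =
        RingHom.ker (Cyc.specMap (a.fiberι _ x) (a.fiberι _ w₂.1) w₂.2.2) :=
      congrArg PrimeSpectrum.asIdeal h12
    have h2 : a.fiberι _ w₁.1 = a.fiberι _ w₂.1 := by
      rw [← fromSpecStalk_ker_specMap _ _ w₁.2.2, ← fromSpecStalk_ker_specMap _ _ w₂.2.2]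
      congr 1
    exact Subtype.ext ((a.fiberι _).isEmbedding.injective h2)
  have hne : ∀ ζ, (e ζ).asIdeal ≠ maximalIdeal (X.presheaf.stalk (a.fiberι _ x)) := by
    intro ζ hm
    have ht : X.presheaf.germ ⊤ (a.fiberι _ x) trivial (sec a) ∈ (e ζ).asIdeal := by
      rw [hm]; exact (germ_sec_mem_maximalIdeal_iff a _).mpr hax₀
    have h2 := (germ_mem_ker_specMap_iff (sec a) ζ.2.2).mp ht
    have h3 := (germ_sec_mem_maximalIdeal_iff a _).mp h2
    rw [fiberι_mem a _ ζ.1] at h3
    exact genericPoint_ne_closedPoint R h3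
  refine (hJfin.preimage he.injOn).subset ?_
  intro ζ hζ
  refine ⟨?_, hne ζ⟩
  by_contra hns
  apply hζ
  rw [sheafFun_generic_eq a F δη r ζ.1 ζ.2.1 _ ζ.2.2]
  have hns' : e ζ ∉ Module.support (X.presheaf.stalk (a.fiberι _ x))
      (F.presheaf.stalk (a.fiberι _ x)) := hns
  rw [Module.notMem_support_iff] at hns'
  have h0 : Module.length (Localization.AtPrime (e ζ).asIdeal)
      (LocalizedModule (e ζ).asIdeal.primeCompl (F.presheaf.stalk (a.fiberι _ x))) = 0 :=
    Module.length_eq_zero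
  change ((Module.length (Localization.AtPrime (e ζ).asIdeal)
      (LocalizedModule (e ζ).asIdeal.primeCompl (F.presheaf.stalk (a.fiberι _ x)))).toNat : ℤ) = 0
  rw [h0]
  simp

end Groth.Agent.Lib.Helper7.CycSp
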