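import Mathlib
import Groth.Agent.Lib.Helper7CycPB2
import Groth.Agent.Lib.Helper7CycPB3
import Groth.Agent.Lib.Helper7CycPB4

/-!
# Specialization of cycles commutes with flat pull-back

For `f : X' ⟶ X` flat of relative dimension `e` between schemes locally of finite type over a discrete
valuation ring: `sp_{X'} (f_η^* α) = f_s^* (sp_X α)` on coefficient functions.  The proof reduces, by
additivity, to the closure of a single point `ζ` of the generic fibre, where both sides are computed by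
the local specialization formula `CycSp.spFun_sum_eq` applied to the structure sheaf of the closure
of `ζ` and to its pull-back.
-/

set_option autoImplicit false
set_option linter.style.haveILetI false
set_option linter.unusedVariables false
set_option linter.unusedSectionVars false
universe u
open CategoryTheory CategoryTheory.Limits AlgebraicGeometry IsLocalRing TopologicalSpace

namespace Groth.Agent.Lib.Helper7.CycPB

open Groth.Agent.Lib.Helper7.DvrLen Groth.Agent.Lib.Helper7.AssTensorFlatSch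
  Groth.Agent.Lib.Helper7.CycSp

/-- the multiplicity factor of `Cyc.pullFun` -/
noncomputable def mu {Y Z : Scheme.{u}} (g : Y ⟶ Z) (y : Y) : ℕ∞ :=
  Module.length (Y.presheaf.stalk y) (Y.presheaf.stalk y ⧸
    Ideal.map (g.stalkMap y).hom (maximalIdeal (Z.presheaf.stalk (g y))))

/-- the multiplicity factor of `Cyc.spFun` -/
noncomputable def lam {X S : Scheme.{u}} (a : X ⟶ S) (x ξ : X) (h : ξ ⤳ x) : ℕ∞ :=
  Module.length (X.presheaf.stalk x)
    (Cyc.LocQuot x ξ h ⧸
      (maximalIdeal (S.presheaf.stalk (a x))).map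
        ((Ideal.Quotient.mk (RingHom.ker (Cyc.specMap x ξ h))).comp (a.stalkMap x).hom))

theorem pullFun_apply {Y Z : Scheme.{u}} (g : Y ⟶ Z) (δY : Y → ℤ) (δZ : Z → ℤ) (e : ℤ)
    (α : Z → ℤ) (y : Y) :
    Cyc.pullFun g δY δZ e α y =
      if δY y = δZ (g y) + e then α (g y) * ((mu g y).toNat : ℤ) else 0 := rfl

theorem spFun_apply {X S : Scheme.{u}} (a : X ⟶ S) (η s : S) (δη : ↥(a.fiber η) → ℤ)
    (δs : ↥(a.fiber s) → ℤ) (r : ℤ) (α : ↥(a.fiber η) → ℤ) (x : ↥(a.fiber s)) :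
    Cyc.spFun a η s δη δs r α x =
      if δs x = r then
        ∑ᶠ ζ : {ζ : ↥(a.fiber η) // δη ζ = r ∧ (a.fiberι η ζ) ⤳ (a.fiberι s x)},
          α ζ.1 * ((lam a (a.fiberι s x) (a.fiberι η ζ.1) ζ.2.2).toNat : ℤ)
      else 0 := rfl

section Gen

variable {X' X S : Scheme.{u}} (f : X' ⟶ X) (b : X ⟶ S) (y : S) (F : X.Modules)
  [F.IsQuasicoherent] [Flat f]

/-- the coefficient function of the restriction of `f^*F` to a fibre -/
theorem sheafFun_fibre_pullback (δ' : ↥((f ≫ b).fiber y) → ℤ) (k : ℤ)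
    (z : ↥((f ≫ b).fiber y)) (hz : δ' z = k) :
    Cyc.sheafFun δ' k ((Scheme.Modules.pullback ((f ≫ b).fiberι y)).obj
      ((Scheme.Modules.pullback f).obj F)) z =
    ((Module.length ((b.fiber y).presheaf.stalk (fibMap f b y z))
      (((Scheme.Modules.pullback (b.fiberι y)).obj F).presheaf.stalk (fibMap f b y z))).toNat : ℤ) *
      ((mu (fibMap f b y) z).toNat : ℤ) := by
  unfold Cyc.sheafFun mu
  rw [if_pos hz, length_stalk_fibre_pullback f b y F z, ENat.toNat_mul]
  push_cast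
  rfl

end Gen

section DVR

variable {R : Type u} [CommRing R] [IsDomain R] [IsDiscreteValuationRing R]
  {X' X : Scheme.{u}} (b : X ⟶ Spec (CommRingCat.of R)) [LocallyOfFiniteType b]
  (f : X' ⟶ X) [Flat f] [LocallyOfFiniteType f] (e : ℕ) (he : Cyc.HasRelDim f e)
  (δ'η : ↥((f ≫ b).fiber (genericPoint ↥(Spec (CommRingCat.of R)))) → ℤ)
  (δ's : ↥((f ≫ b).fiber (closedPoint R)) → ℤ)
  (δη : ↥(b.fiber (genericPoint ↥(Spec (CommRingCat.of R)))) → ℤ)
  (δs : ↥(b.fiber (closedPoint R)) → ℤ)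
  (h1 : Cyc.DeltaCompat ((f ≫ b).fiberToSpecResidueField (genericPoint ↥(Spec (CommRingCat.of R))))
    δ'η (fun _ => 0))
  (h2 : Cyc.DeltaCompat ((f ≫ b).fiberToSpecResidueField (closedPoint R)) δ's (fun _ => 0))
  (h3 : Cyc.DeltaCompat (b.fiberToSpecResidueField (genericPoint ↥(Spec (CommRingCat.of R)))) δη
    (fun _ => 0))
  (h4 : Cyc.DeltaCompat (b.fiberToSpecResidueField (closedPoint R)) δs (fun _ => 0))
  (r : ℤ)

include he h1 h3 in
theorem delta_fibMap_generic_le (ζ' : ↥((f ≫ b).fiber (genericPoint ↥(Spec (CommRingCat.of R))))) :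
    δ'η ζ' ≤ δη (fibMap f b _ ζ') + e :=
  Groth.Agent.Lib.Helper2.CycRelDim.delta_le (fibMap f b _) e (hasRelDim_fibMap f b _ e he) δ'η δη
    (deltaCompat_fibMap f b _ δ'η δη h1 h3) ζ'

include he h2 h4 in
theorem delta_fibMap_closed_le (x' : ↥((f ≫ b).fiber (closedPoint R))) :
    δ's x' ≤ δs (fibMap f b _ x') + e :=
  haveI := locallyOfFiniteType_fibMap f b (closedPoint R)
  Groth.Agent.Lib.Helper2.CycRelDim.delta_le (fibMap f b _) e (hasRelDim_fibMap f b _ e he) δ's δs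
    (deltaCompat_fibMap f b _ δ's δs h2 h4) x'

variable (F : X.Modules) [F.IsQuasicoherent] [SheafOfModules.IsFiniteType (R := X.ringCatSheaf) F]
  (hflat : FlatMod.IsFlatOver b F)
  (hdim : ∀ ζ : ↥(b.fiber (genericPoint ↥(Spec (CommRingCat.of R)))),
    Nontrivial (((Scheme.Modules.pullback (b.fiberι (genericPoint ↥(Spec (CommRingCat.of R))))).obj
      F).presheaf.stalk ζ) → δη ζ ≤ r)

include he h1 h3 hdim in
theorem hdim_pullback (ζ' : ↥((f ≫ b).fiber (genericPoint ↥(Spec (CommRingCat.of R)))))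
    (hnt : Nontrivial (((Scheme.Modules.pullback ((f ≫ b).fiberι
      (genericPoint ↥(Spec (CommRingCat.of R))))).obj
      ((Scheme.Modules.pullback f).obj F)).presheaf.stalk ζ')) : δ'η ζ' ≤ r + e := by
  have h5 := hdim _ (nontrivial_stalk_fibre_of_pullback f b _ F ζ' hnt)
  have h6 := delta_fibMap_generic_le b f e he δ'η δη h1 h3 ζ'
  omega

include he h1 h2 h3 hflat hdim in
/-- the local specialization formula for `f^*F` on `X'` -/
theorem spFun_sum_eq_pullback [IsLocallyNoetherian X']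
    (x' : ↥((f ≫ b).fiber (closedPoint R))) (hx' : δ's x' = r + e) :
    ∑ᶠ ζ' : {ζ' : ↥((f ≫ b).fiber (genericPoint ↥(Spec (CommRingCat.of R)))) //
        δ'η ζ' = r + e ∧ ((f ≫ b).fiberι _ ζ') ⤳ ((f ≫ b).fiberι _ x')},
      (((Module.length ((b.fiber _).presheaf.stalk (fibMap f b _ ζ'.1))
        (((Scheme.Modules.pullback (b.fiberι _)).obj F).presheaf.stalk
          (fibMap f b _ ζ'.1))).toNat : ℤ) * ((mu (fibMap f b _) ζ'.1).toNat : ℤ)) *
       ((lam (f ≫ b) ((f ≫ b).fiberι _ x') ((f ≫ b).fiberι _ ζ'.1) ζ'.2.2).toNat : ℤ) =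
    ((Module.length ((b.fiber _).presheaf.stalk (fibMap f b _ x'))
        (((Scheme.Modules.pullback (b.fiberι _)).obj F).presheaf.stalk
          (fibMap f b _ x'))).toNat : ℤ) * ((mu (fibMap f b _) x').toNat : ℤ) := by
  have key := spFun_sum_eq (f ≫ b) ((Scheme.Modules.pullback f).obj F) δ'η δ's h1 h2 (r + e)
    (isFlatOver_pullback f b F hflat) (hdim_pullback b f e he δ'η δη h1 h3 r F hdim) x' hx'
  rw [sheafFun_fibre_pullback f b _ F δ's (r + e) x' hx'] at key
  rw [← key]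
  refine finsum_congr (fun ζ' => ?_)
  rw [sheafFun_fibre_pullback f b _ F δ'η (r + e) ζ'.1 ζ'.2.1]
  rfl

end DVR

section Cl

variable {R : Type u} [CommRing R] [IsDomain R] [IsDiscreteValuationRing R]
  {X : Scheme.{u}} (b : X ⟶ Spec (CommRingCat.of R)) [LocallyOfFiniteType b]
  [IsLocallyNoetherian X]
  (δη : ↥(b.fiber (genericPoint ↥(Spec (CommRingCat.of R)))) → ℤ)
  (δs : ↥(b.fiber (closedPoint R)) → ℤ)
  (h3 : Cyc.DeltaCompat (b.fiberToSpecResidueField (genericPoint ↥(Spec (CommRingCat.of R)))) δη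
    (fun _ => 0))
  (h4 : Cyc.DeltaCompat (b.fiberToSpecResidueField (closedPoint R)) δs (fun _ => 0))
  (ζ : ↥(b.fiber (genericPoint ↥(Spec (CommRingCat.of R)))))

instance isQuasicoherent_clSheaf (z : X) : (clSheaf z).IsQuasicoherent := (isCoh_clSheaf z).1

instance isFiniteType_clSheaf (z : X) :
    SheafOfModules.IsFiniteType (R := X.ringCatSheaf) (clSheaf z) := (isCoh_clSheaf z).2

include h3 h4 in
theorem hdim_clSheaf (ζ₁ : ↥(b.fiber (genericPoint ↥(Spec (CommRingCat.of R)))))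
    (hnt : Nontrivial (((Scheme.Modules.pullback (b.fiberι
      (genericPoint ↥(Spec (CommRingCat.of R))))).obj
        (clSheaf (b.fiberι _ ζ))).presheaf.stalk ζ₁)) : δη ζ₁ ≤ δη ζ := by
  rw [nontrivial_stalk_fibre_iff b (clSheaf (b.fiberι _ ζ)) _ ζ₁,
    nontrivial_stalk_clSheaf_iff] at hnt
  by_cases hne : ζ = ζ₁
  · rw [hne]
  · exact (delta_lt_of_specializes_generic b δη δs h3 h4 ζ ζ₁ hnt hne).le

open scoped Classical in
include h3 h4 in
theorem length_fibre_clSheaf_generic (ζ₁ : ↥(b.fiber (genericPoint ↥(Spec (CommRingCat.of R)))))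
    (hle : δη ζ ≤ δη ζ₁) :
    (((Module.length ((b.fiber _).presheaf.stalk ζ₁)
      (((Scheme.Modules.pullback (b.fiberι (genericPoint ↥(Spec (CommRingCat.of R))))).obj
        (clSheaf (b.fiberι _ ζ))).presheaf.stalk ζ₁)).toNat : ℤ)) =
      if ζ₁ = ζ then 1 else 0 := by
  have hne : b (b.fiberι _ ζ₁) ≠ closedPoint R := by
    rw [fiberι_mem b _ ζ₁]; exact genericPoint_ne_closedPoint R
  rw [length_fibre_stalk b (clSheaf (b.fiberι _ ζ)) _ ζ₁,
    fibLenAt_eq_of_generic b (clSheaf (b.fiberι _ ζ)) _ hne]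
  split_ifs with h
  · rw [h, length_stalk_clSheaf_self]
    rfl
  · have hns : ¬ Nontrivial ((clSheaf (b.fiberι _ ζ)).presheaf.stalk (b.fiberι _ ζ₁)) := by
      rw [nontrivial_stalk_clSheaf_iff]
      intro hsp
      have := delta_lt_of_specializes_generic b δη δs h3 h4 ζ ζ₁ hsp (fun h' => h h'.symm)
      omega
    rw [not_nontrivial_iff_subsingleton] at hns
    rw [Module.length_eq_zero_iff.2 hns]
    rfl

open scoped Classical in
include h3 h4 in
/-- the coefficient of the closed fibre of the closure of `ζ` at a point `x` with `δ x = δ ζ` -/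
theorem sheafFun_closed_clSheaf (x : ↥(b.fiber (closedPoint R))) (hx : δs x = δη ζ) :
    Cyc.sheafFun δs (δη ζ) ((Scheme.Modules.pullback (b.fiberι _)).obj
      (clSheaf (b.fiberι _ ζ))) x =
    if h : b.fiberι _ ζ ⤳ b.fiberι _ x then
      ((lam b (b.fiberι _ x) (b.fiberι _ ζ) h).toNat : ℤ) else 0 := by
  have key := spFun_sum_eq b (clSheaf (b.fiberι _ ζ)) δη δs h3 h4 (δη ζ)
    (isFlatOver_clSheaf b _ (fiberι_mem b _ ζ)) (hdim_clSheaf b δη δs h3 h4 ζ) x hx
  rw [← key]
  have hterm : ∀ ζ₁ : {ζ₁ : ↥(b.fiber (genericPoint ↥(Spec (CommRingCat.of R)))) //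
      δη ζ₁ = δη ζ ∧ (b.fiberι _ ζ₁) ⤳ (b.fiberι _ x)},
      Cyc.sheafFun δη (δη ζ) ((Scheme.Modules.pullback (b.fiberι _)).obj
        (clSheaf (b.fiberι _ ζ))) ζ₁.1 = if ζ₁.1 = ζ then 1 else 0 := by
    intro ζ₁
    unfold Cyc.sheafFun
    rw [if_pos ζ₁.2.1]
    exact length_fibre_clSheaf_generic b δη δs h3 h4 ζ ζ₁.1 ζ₁.2.1.ge
  split_ifs with h
  · rw [finsum_eq_single _ (⟨ζ, rfl, h⟩ : {ζ₁ : ↥(b.fiber (genericPoint
      ↥(Spec (CommRingCat.of R)))) // δη ζ₁ = δη ζ ∧ (b.fiberι _ ζ₁) ⤳ (b.fiberι _ x)})]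
    · rw [hterm, if_pos rfl, one_mul]
      rfl
    · intro ζ₁ hne
      rw [hterm, if_neg (fun h' => hne (Subtype.ext h')), zero_mul]
  · rw [← finsum_zero (α := {ζ₁ : ↥(b.fiber (genericPoint
      ↥(Spec (CommRingCat.of R)))) // δη ζ₁ = δη ζ ∧ (b.fiberι _ ζ₁) ⤳ (b.fiberι _ x)})]
    refine finsum_congr (fun ζ₁ => ?_)
    rw [hterm, if_neg, zero_mul]
    intro h'
    apply h
    rw [← h']
    exact ζ₁.2.2

end Cl

section Star

variable {R : Type u} [CommRing R] [IsDomain R] [IsDiscreteValuationRing R]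
  {X' X : Scheme.{u}} (b : X ⟶ Spec (CommRingCat.of R)) [LocallyOfFiniteType b]
  (f : X' ⟶ X) [Flat f] [LocallyOfFiniteType f] (e : ℕ) (he : Cyc.HasRelDim f e)
  [IsLocallyNoetherian X] [IsLocallyNoetherian X']
  (δ'η : ↥((f ≫ b).fiber (genericPoint ↥(Spec (CommRingCat.of R)))) → ℤ)
  (δ's : ↥((f ≫ b).fiber (closedPoint R)) → ℤ)
  (δη : ↥(b.fiber (genericPoint ↥(Spec (CommRingCat.of R)))) → ℤ)
  (δs : ↥(b.fiber (closedPoint R)) → ℤ)
  (h1 : Cyc.DeltaCompat ((f ≫ b).fiberToSpecResidueField (genericPoint ↥(Spec (CommRingCat.of R))))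
    δ'η (fun _ => 0))
  (h2 : Cyc.DeltaCompat ((f ≫ b).fiberToSpecResidueField (closedPoint R)) δ's (fun _ => 0))
  (h3 : Cyc.DeltaCompat (b.fiberToSpecResidueField (genericPoint ↥(Spec (CommRingCat.of R)))) δη
    (fun _ => 0))
  (h4 : Cyc.DeltaCompat (b.fiberToSpecResidueField (closedPoint R)) δs (fun _ => 0))
  (ζ : ↥(b.fiber (genericPoint ↥(Spec (CommRingCat.of R)))))
  (x' : ↥((f ≫ b).fiber (closedPoint R))) (hx' : δ's x' = δη ζ + e)

open scoped Classical in
include he h1 h3 h4 in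
theorem length_fibre_clSheaf_fibMap
    (ζ' : ↥((f ≫ b).fiber (genericPoint ↥(Spec (CommRingCat.of R)))))
    (hζ' : δ'η ζ' = δη ζ + e) :
    (((Module.length ((b.fiber _).presheaf.stalk (fibMap f b _ ζ'))
      (((Scheme.Modules.pullback (b.fiberι (genericPoint ↥(Spec (CommRingCat.of R))))).obj
        (clSheaf (b.fiberι _ ζ))).presheaf.stalk (fibMap f b _ ζ'))).toNat : ℤ)) =
      if fibMap f b _ ζ' = ζ then 1 else 0 := by
  apply length_fibre_clSheaf_generic b δη δs h3 h4 ζ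
  have := delta_fibMap_generic_le b f e he δ'η δη h1 h3 ζ'
  omega

open scoped Classical in
include he h1 h2 h3 h4 hx' in
/-- the key identity for the closure of a single point `ζ` of the generic fibre -/
theorem star (hx : δs (fibMap f b _ x') = δη ζ) :
    ∑ᶠ ζ' : {ζ' : ↥((f ≫ b).fiber (genericPoint ↥(Spec (CommRingCat.of R)))) //
        δ'η ζ' = δη ζ + e ∧ ((f ≫ b).fiberι _ ζ') ⤳ ((f ≫ b).fiberι _ x')},
      ((if fibMap f b _ ζ'.1 = ζ then 1 else 0) * ((mu (fibMap f b _) ζ'.1).toNat : ℤ)) *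
       ((lam (f ≫ b) ((f ≫ b).fiberι _ x') ((f ≫ b).fiberι _ ζ'.1) ζ'.2.2).toNat : ℤ) =
    (if h : b.fiberι _ ζ ⤳ b.fiberι _ (fibMap f b _ x') then
      ((lam b (b.fiberι _ (fibMap f b _ x')) (b.fiberι _ ζ) h).toNat : ℤ) else 0) *
      ((mu (fibMap f b _) x').toNat : ℤ) := by
  have key := spFun_sum_eq_pullback b f e he δ'η δ's δη h1 h2 h3 (δη ζ) (clSheaf (b.fiberι _ ζ))
    (isFlatOver_clSheaf b _ (fiberι_mem b _ ζ)) (hdim_clSheaf b δη δs h3 h4 ζ) x' hx'
  rw [← sheafFun_closed_clSheaf b δη δs h3 h4 ζ _ hx]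
  unfold Cyc.sheafFun
  rw [if_pos hx, ← key]
  refine finsum_congr (fun ζ' => ?_)
  rw [length_fibre_clSheaf_fibMap b f e he δ'η δη δs h1 h3 h4 ζ ζ'.1 ζ'.2.1]

open scoped Classical in
include he h1 h2 h3 h4 hx' in
theorem star_finite :
    (Function.support (fun ζ' : {ζ' : ↥((f ≫ b).fiber (genericPoint ↥(Spec (CommRingCat.of R)))) //
        δ'η ζ' = δη ζ + e ∧ ((f ≫ b).fiberι _ ζ') ⤳ ((f ≫ b).fiberι _ x')} =>
      ((if fibMap f b _ ζ'.1 = ζ then 1 else 0) * ((mu (fibMap f b _) ζ'.1).toNat : ℤ)) *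
       ((lam (f ≫ b) ((f ≫ b).fiberι _ x') ((f ≫ b).fiberι _ ζ'.1) ζ'.2.2).toNat : ℤ))).Finite := by
  have key := finite_support_sheafFun (f ≫ b) ((Scheme.Modules.pullback f).obj
    (clSheaf (b.fiberι _ ζ))) δ'η δ's h1 h2 (δη ζ + e)
    (isFlatOver_pullback f b _ (isFlatOver_clSheaf b _ (fiberι_mem b _ ζ)))
    (hdim_pullback b f e he δ'η δη h1 h3 (δη ζ) _ (hdim_clSheaf b δη δs h3 h4 ζ)) x' hx'
  refine key.subset ?_
  intro ζ' hζ'
  rw [Function.mem_support] at hζ'
  show Cyc.sheafFun _ _ _ _ ≠ 0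
  rw [sheafFun_fibre_pullback f b _ _ δ'η (δη ζ + e) ζ'.1 ζ'.2.1,
    length_fibre_clSheaf_fibMap b f e he δ'η δη δs h1 h3 h4 ζ ζ'.1 ζ'.2.1]
  exact left_ne_zero_of_mul hζ'

end Star

section Main

variable {R : Type u} [CommRing R] [IsDomain R] [IsDiscreteValuationRing R]
  {X' X : Scheme.{u}} (b : X ⟶ Spec (CommRingCat.of R)) [LocallyOfFiniteType b]
  (f : X' ⟶ X) [Flat f] [LocallyOfFiniteType f] (e : ℕ) (he : Cyc.HasRelDim f e)
  (δ'η : ↥((f ≫ b).fiber (genericPoint ↥(Spec (CommRingCat.of R)))) → ℤ)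
  (δ's : ↥((f ≫ b).fiber (closedPoint R)) → ℤ)
  (δη : ↥(b.fiber (genericPoint ↥(Spec (CommRingCat.of R)))) → ℤ)
  (δs : ↥(b.fiber (closedPoint R)) → ℤ)
  (h1 : Cyc.DeltaCompat ((f ≫ b).fiberToSpecResidueField (genericPoint ↥(Spec (CommRingCat.of R))))
    δ'η (fun _ => 0))
  (h2 : Cyc.DeltaCompat ((f ≫ b).fiberToSpecResidueField (closedPoint R)) δ's (fun _ => 0))
  (h3 : Cyc.DeltaCompat (b.fiberToSpecResidueField (genericPoint ↥(Spec (CommRingCat.of R)))) δη
    (fun _ => 0))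
  (h4 : Cyc.DeltaCompat (b.fiberToSpecResidueField (closedPoint R)) δs (fun _ => 0))
  (r : ℤ) (α : ↥(b.fiber (genericPoint ↥(Spec (CommRingCat.of R)))) → ℤ)
  (hαr : ∀ ζ, δη ζ ≠ r → α ζ = 0)
  (hfin : ∀ x : ↥(b.fiber (closedPoint R)),
    {ζ : ↥(b.fiber (genericPoint ↥(Spec (CommRingCat.of R)))) |
      α ζ ≠ 0 ∧ b.fiberι _ ζ ⤳ b.fiberι _ x}.Finite)

omit [LocallyOfFiniteType b] [Flat f] [LocallyOfFiniteType f] in
theorem specializes_fibMap
    (ζ' : ↥((f ≫ b).fiber (genericPoint ↥(Spec (CommRingCat.of R)))))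
    (x' : ↥((f ≫ b).fiber (closedPoint R)))
    (h : (f ≫ b).fiberι _ ζ' ⤳ (f ≫ b).fiberι _ x') :
    b.fiberι _ (fibMap f b _ ζ') ⤳ b.fiberι _ (fibMap f b _ x') := by
  have e1 := fiberι_fibMap_apply f b (genericPoint ↥(Spec (CommRingCat.of R))) ζ'
  have e2 := fiberι_fibMap_apply f b (closedPoint R) x'
  rw [e1, e2]
  exact h.map f.continuous

include he h1 h2 h3 h4 hαr hfin in
/-- specialization commutes with flat pull-back, coefficientwise -/
theorem spFun_pullFun :
    Cyc.spFun (f ≫ b) (genericPoint ↥(Spec (CommRingCat.of R))) (closedPoint R) δ'η δ's (r + e)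
      (Cyc.pullFun (fibMap f b _) δ'η δη e α) =
    Cyc.pullFun (fibMap f b _) δ's δs e
      (Cyc.spFun b (genericPoint ↥(Spec (CommRingCat.of R))) (closedPoint R) δη δs r α) := by
  classical
  haveI : IsLocallyNoetherian X := LocallyOfFiniteType.isLocallyNoetherian b
  haveI : IsLocallyNoetherian X' := LocallyOfFiniteType.isLocallyNoetherian (f ≫ b)
  funext x'
  have hle := delta_fibMap_closed_le b f e he δ's δs h2 h4 x'
  rw [spFun_apply (f ≫ b) (genericPoint ↥(Spec (CommRingCat.of R))) (closedPoint R) δ'η δ's (r + e)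
    _ x', pullFun_apply (fibMap f b (closedPoint R)) δ's δs e _ x']
  by_cases hx' : δ's x' = r + e
  · rw [if_pos hx']
    by_cases hx : δs (fibMap f b _ x') = r
    · -- the main case
      rw [if_pos (by rw [hx', hx]), spFun_apply b (genericPoint ↥(Spec (CommRingCat.of R)))
        (closedPoint R) δη δs r α (fibMap f b (closedPoint R) x'), if_pos hx]
      set T : Finset ↥(b.fiber (genericPoint ↥(Spec (CommRingCat.of R)))) :=
        (hfin (fibMap f b _ x')).toFinset with hT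
      have hTmem : ∀ ζ, ζ ∈ T ↔ α ζ ≠ 0 ∧ b.fiberι _ ζ ⤳ b.fiberι _ (fibMap f b _ x') := by
        intro ζ
        rw [hT, Set.Finite.mem_toFinset]
        rfl
      let L : ↥(b.fiber (genericPoint ↥(Spec (CommRingCat.of R)))) → ℤ := fun ζ =>
        if h : b.fiberι _ ζ ⤳ b.fiberι _ (fibMap f b _ x') then
          ((lam b (b.fiberι _ (fibMap f b _ x')) (b.fiberι _ ζ) h).toNat : ℤ) else 0
      let g : {ζ' : ↥((f ≫ b).fiber (genericPoint ↥(Spec (CommRingCat.of R)))) //
          δ'η ζ' = r + e ∧ ((f ≫ b).fiberι _ ζ') ⤳ ((f ≫ b).fiberι _ x')} →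
          ↥(b.fiber (genericPoint ↥(Spec (CommRingCat.of R)))) → ℤ := fun ζ' ζ =>
        ((if fibMap f b _ ζ'.1 = ζ then 1 else 0) * ((mu (fibMap f b _) ζ'.1).toNat : ℤ)) *
         ((lam (f ≫ b) ((f ≫ b).fiberι _ x') ((f ≫ b).fiberι _ ζ'.1) ζ'.2.2).toNat : ℤ)
      -- Step A
      have hA : ∀ ζ' : {ζ' : ↥((f ≫ b).fiber (genericPoint ↥(Spec (CommRingCat.of R)))) //
          δ'η ζ' = r + e ∧ ((f ≫ b).fiberι _ ζ') ⤳ ((f ≫ b).fiberι _ x')},
          Cyc.pullFun (fibMap f b _) δ'η δη e α ζ'.1 *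
            ((lam (f ≫ b) ((f ≫ b).fiberι _ x') ((f ≫ b).fiberι _ ζ'.1) ζ'.2.2).toNat : ℤ) =
          ∑ ζ ∈ T, α ζ * g ζ' ζ := by
        intro ζ'
        have hpf : Cyc.pullFun (fibMap f b _) δ'η δη e α ζ'.1 =
            α (fibMap f b _ ζ'.1) * ((mu (fibMap f b _) ζ'.1).toNat : ℤ) := by
          rw [pullFun_apply]
          split_ifs with hc
          · rfl
          · have : δη (fibMap f b _ ζ'.1) ≠ r := by
              intro h'
              apply hc
              rw [ζ'.2.1, h']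
            rw [hαr _ this, zero_mul]
        rw [hpf]
        by_cases hα0 : α (fibMap f b _ ζ'.1) = 0
        · rw [hα0, zero_mul, zero_mul]
          symm
          apply Finset.sum_eq_zero
          intro ζ hζ
          have hne : fibMap f b _ ζ'.1 ≠ ζ := by
            intro h'
            rw [h'] at hα0
            exact ((hTmem ζ).mp hζ).1 hα0
          show α ζ * (((if fibMap f b _ ζ'.1 = ζ then 1 else 0) * _) * _) = 0
          rw [if_neg hne, zero_mul, zero_mul, mul_zero]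
        · have hmem : fibMap f b _ ζ'.1 ∈ T :=
            (hTmem _).mpr ⟨hα0, specializes_fibMap b f ζ'.1 x' ζ'.2.2⟩
          rw [Finset.sum_eq_single_of_mem _ hmem]
          · show _ = α _ * (((if fibMap f b _ ζ'.1 = fibMap f b _ ζ'.1 then 1 else 0) * _) * _)
            rw [if_pos rfl, one_mul, mul_assoc]
          · intro ζ _ hne
            show α ζ * (((if fibMap f b _ ζ'.1 = ζ then 1 else 0) * _) * _) = 0
            rw [if_neg (fun h' => hne h'.symm), zero_mul, zero_mul, mul_zero]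
      rw [finsum_congr hA]
      -- Step B
      have hTr : ∀ ζ ∈ T, δη ζ = r := by
        intro ζ hζ
        by_contra hne
        exact ((hTmem ζ).mp hζ).1 (hαr ζ hne)
      have hfinB : ∀ ζ ∈ T, (Function.support (fun ζ' => α ζ * g ζ' ζ)).Finite := by
        intro ζ hζ
        have hr := hTr ζ hζ
        subst hr
        refine (star_finite b f e he δ'η δ's δη δs h1 h2 h3 h4 ζ x' hx').subset ?_
        intro ζ' hζ'
        rw [Function.mem_support] at hζ' ⊢
        exact right_ne_zero_of_mul hζ'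
      rw [finsum_sum_comm T _ hfinB]
      -- Step C
      have hC : ∀ ζ ∈ T, ∑ᶠ ζ', α ζ * g ζ' ζ =
          α ζ * L ζ * ((mu (fibMap f b _) x').toNat : ℤ) := by
        intro ζ hζ
        have hr := hTr ζ hζ
        subst hr
        rw [← mul_finsum, mul_assoc]
        congr 1
        exact star b f e he δ'η δ's δη δs h1 h2 h3 h4 ζ x' hx' hx
      rw [Finset.sum_congr rfl hC, ← Finset.sum_mul]
      congr 1
      -- Step D
      have hD : ∀ ζ : {ζ : ↥(b.fiber (genericPoint ↥(Spec (CommRingCat.of R)))) //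
          δη ζ = r ∧ (b.fiberι _ ζ) ⤳ (b.fiberι _ (fibMap f b _ x'))},
          α ζ.1 * ((lam b (b.fiberι _ (fibMap f b _ x')) (b.fiberι _ ζ.1) ζ.2.2).toNat : ℤ) =
          (fun ζ => α ζ * L ζ) ζ.1 := by
        intro ζ
        show _ = α ζ.1 * (if h : b.fiberι _ ζ.1 ⤳ b.fiberι _ (fibMap f b _ x') then
          ((lam b (b.fiberι _ (fibMap f b _ x')) (b.fiberι _ ζ.1) h).toNat : ℤ) else 0)
        rw [dif_pos ζ.2.2]
      rw [finsum_congr hD, finsum_subtype_eq_finsum_cond (f := fun ζ => α ζ * L ζ)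
        (fun ζ => δη ζ = r ∧ (b.fiberι _ ζ) ⤳ (b.fiberι _ (fibMap f b _ x')))]
      symm
      apply finsum_cond_eq_sum_of_cond_iff
      intro ζ hζ
      have hα0 : α ζ ≠ 0 := left_ne_zero_of_mul hζ
      have hr : δη ζ = r := by
        by_contra hne
        exact hα0 (hαr ζ hne)
      rw [hTmem]
      exact ⟨fun h => ⟨hα0, h.2⟩, fun h => ⟨hr, h.2⟩⟩
    · -- degenerate case: the right hand side vanishes
      have hrhs : (if δ's x' = δs (fibMap f b _ x') + e then
          Cyc.spFun b (genericPoint ↥(Spec (CommRingCat.of R))) (closedPoint R) δη δs r α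
            (fibMap f b _ x') * ((mu (fibMap f b _) x').toNat : ℤ) else 0) = 0 := by
        split_ifs with hc
        · rw [spFun_apply b (genericPoint ↥(Spec (CommRingCat.of R)))
            (closedPoint R) δη δs r α (fibMap f b (closedPoint R) x'), if_neg hx, zero_mul]
        · rfl
      rw [hrhs, ← finsum_zero (α := {ζ' : ↥((f ≫ b).fiber (genericPoint
        ↥(Spec (CommRingCat.of R)))) //
          δ'η ζ' = r + e ∧ ((f ≫ b).fiberι _ ζ') ⤳ ((f ≫ b).fiberι _ x')})]
      refine finsum_congr (fun ζ' => ?_)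
      rw [pullFun_apply]
      split_ifs with hc
      · exfalso
        have h5 : δη (fibMap f b _ ζ'.1) = r := by
          have := ζ'.2.1
          omega
        have h6 := delta_le_of_specializes b δη δs h3 h4 _ _
          (specializes_fibMap b f ζ'.1 x' ζ'.2.2)
        apply hx
        omega
      · rw [zero_mul]
  · rw [if_neg hx']
    split_ifs with hc
    · have hx : δs (fibMap f b _ x') ≠ r := by
        intro h'
        apply hx'
        rw [hc, h']
      rw [spFun_apply b (genericPoint ↥(Spec (CommRingCat.of R)))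
        (closedPoint R) δη δs r α (fibMap f b (closedPoint R) x'), if_neg hx, zero_mul]
    · rfl

end Main

section Fin

theorem quasiCompact_fiberι {X S : Scheme.{u}} [IsAffine S] (b : X ⟶ S) (y : S) :
    QuasiCompact (b.fiberι y) := by
  haveI : QuasiCompact (S.fromSpecResidueField y) := inferInstance
  exact (inferInstance : QuasiCompact (pullback.fst b (S.fromSpecResidueField y)))

/-- a cycle on a fibre has only finitely many points of its support specializing to a given point -/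
theorem finite_support_specializes {X S : Scheme.{u}} [IsAffine S] (b : X ⟶ S) (y : S)
    (α : AlgebraicCycle (b.fiber y) ℤ) (x₀ : X) :
    {ζ : ↥(b.fiber y) | α ζ ≠ 0 ∧ b.fiberι y ζ ⤳ x₀}.Finite := by
  obtain ⟨_, ⟨U, hU : IsAffineOpen U, rfl⟩, hxU, -⟩ :=
    (X.isBasis_affineOpens).exists_subset_of_mem_open (Set.mem_univ x₀) isOpen_univ
  have := quasiCompact_fiberι b y
  have hK : IsCompact ((b.fiberι y) ⁻¹' (U : Set X)) :=
    QuasiCompact.isCompact_preimage (f := b.fiberι y) _ U.2 hU.isCompact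
  have hfin := (Function.locallyFinsupp.locallyFiniteSupport α).finite_inter_support_of_isCompact hK
  refine hfin.subset ?_
  rintro ζ ⟨h0, hsp⟩
  exact ⟨hsp.mem_open U.2 hxU, h0⟩

end Fin

end Groth.Agent.Lib.Helper7.CycPB
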