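import Mathlib
import Groth.Prelude.Def_Cyc
import Groth.Agent.Lib.Helper7CycSp1

set_option autoImplicit false
set_option linter.style.haveILetI false
set_option linter.unusedVariables false
universe u
open CategoryTheory CategoryTheory.Limits AlgebraicGeometry IsLocalRing

namespace Groth.Agent.Lib.Helper7.CycSq

section Fields

theorem finrank_eq_of_square {k1 K1 k2 K2 : Type u} [Field k1] [Field K1] [Field k2] [Field K2]
    [Algebra k1 K1] [Algebra k2 K2] (α : k1 →+* k2) (β : K1 →+* K2) (hα : Function.Bijective α)
    (hβ : Function.Bijective β)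
    (hcomm : (algebraMap k2 K2).comp α = β.comp (algebraMap k1 K1)) :
    Module.finrank k1 K1 = Module.finrank k2 K2 :=
  Algebra.finrank_eq_of_equiv_equiv (RingEquiv.ofBijective α hα) (RingEquiv.ofBijective β hβ) hcomm

theorem norm_eq_of_square {k1 K1 k2 K2 : Type u} [Field k1] [Field K1] [Field k2] [Field K2]
    [Algebra k1 K1] [Algebra k2 K2] (α : k1 →+* k2) (β : K1 →+* K2) (hα : Function.Bijective α)
    (hβ : Function.Bijective β)
    (hcomm : (algebraMap k2 K2).comp α = β.comp (algebraMap k1 K1)) (x : K1) :
    α (Algebra.norm k1 x) = Algebra.norm k2 (β x) := by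
  have h := Algebra.norm_eq_of_equiv_equiv (RingEquiv.ofBijective α hα)
    (RingEquiv.ofBijective β hβ) hcomm x
  rw [h]
  exact (RingEquiv.ofBijective α hα).apply_symm_apply _

end Fields

section Square

variable {W X V Y : Scheme.{u}} (i : W ⟶ X) (j : V ⟶ Y) (q : W ⟶ V) (p : X ⟶ Y)
  (hsq : q ≫ j = i ≫ p) (w : W)

include hsq in
theorem pt_eq : j (q w) = p (i w) := by
  rw [← Scheme.Hom.comp_apply, hsq, Scheme.Hom.comp_apply]

/-- the map on residue fields of the bases in a commutative square -/
noncomputable def baseMap : Y.residueField (p (i w)) →+* V.residueField (q w) :=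
  ((Y.residueFieldCongr (pt_eq i j q p hsq w).symm).hom ≫ j.residueFieldMap (q w)).hom

theorem baseMap_bijective (hj : Function.Bijective (j.residueFieldMap (q w)).hom) :
    Function.Bijective (baseMap i j q p hsq w) := by
  have hc : Function.Bijective (Y.residueFieldCongr (pt_eq i j q p hsq w).symm).hom.hom :=
    (ConcreteCategory.isIso_iff_bijective _).mp inferInstance
  exact hj.comp hc

theorem square_comm :
    (q.residueFieldMap w).hom.comp (baseMap i j q p hsq w) =
      (i.residueFieldMap w).hom.comp (p.residueFieldMap (i w)).hom := by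
  have h1 := Scheme.Hom.residueFieldMap_congr hsq w
  rw [Scheme.residueFieldMap_comp, Scheme.residueFieldMap_comp] at h1
  have h2 : (Y.residueFieldCongr (pt_eq i j q p hsq w).symm).hom ≫
      j.residueFieldMap (q w) ≫ q.residueFieldMap w =
      p.residueFieldMap (i w) ≫ i.residueFieldMap w := by
    rw [h1]
    have key : ∀ {x y : Y} (e : x = y) (e' : y = x) {Z : CommRingCat} (φ : Y.residueField x ⟶ Z),
        (Y.residueFieldCongr e).hom ≫ (Y.residueFieldCongr e').hom ≫ φ = φ := by
      intro x y e e' Z φ
      subst e
      simp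
    exact key _ _ _
  have h3 := congrArg CommRingCat.Hom.hom h2
  simp only [CommRingCat.hom_comp] at h3
  unfold baseMap
  simp only [CommRingCat.hom_comp]
  rw [← h3]
  rfl

variable (hi : Function.Bijective (i.residueFieldMap w).hom)
  (hj : Function.Bijective (j.residueFieldMap (q w)).hom)

include hsq hi hj in
theorem residueDegree_eq : q.residueDegree w = p.residueDegree (i w) := by
  unfold Scheme.Hom.residueDegree
  letI a1 := (p.residueFieldMap (i w)).hom.toAlgebra
  letI a2 := (q.residueFieldMap w).hom.toAlgebra
  exact (finrank_eq_of_square (baseMap i j q p hsq w) (i.residueFieldMap w).hom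
    (baseMap_bijective i j q p hsq w hj) hi (square_comm i j q p hsq w)).symm

include hsq hi hj in
theorem trdeg_eq :
    (letI := (q.residueFieldMap w).hom.toAlgebra
     Algebra.trdeg (V.residueField (q w)) (W.residueField w)) =
    (letI := (p.residueFieldMap (i w)).hom.toAlgebra
     Algebra.trdeg (Y.residueField (p (i w))) (X.residueField (i w))) := by
  letI a1 := (p.residueFieldMap (i w)).hom.toAlgebra
  letI a2 := (q.residueFieldMap w).hom.toAlgebra
  exact (Groth.Agent.Lib.Helper7.CycSp.trdeg_eq_of_square (baseMap i j q p hsq w)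
    (i.residueFieldMap w).hom
    (baseMap_bijective i j q p hsq w hj) hi (square_comm i j q p hsq w)).symm

include hsq hi hj in
theorem normGen_eq (g : X.residueField (i w)) :
    baseMap i j q p hsq w (Cyc.normGen p (i w) g) =
      Cyc.normGen q w ((i.residueFieldMap w).hom g) := by
  unfold Cyc.normGen
  letI a1 := (p.residueFieldMap (i w)).hom.toAlgebra
  letI a2 := (q.residueFieldMap w).hom.toAlgebra
  exact norm_eq_of_square (baseMap i j q p hsq w) (i.residueFieldMap w).hom
    (baseMap_bijective i j q p hsq w hj) hi (square_comm i j q p hsq w) g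

end Square

end Groth.Agent.Lib.Helper7.CycSq
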