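import Mathlib
import Groth.Agent.Lib.Helper7CycSq1
import Groth.Agent.Lib.Helper2CycClosedImm
import Groth.Agent.Lib.Helper2CycFamily
import Groth.Agent.Lib.Helper2CycMV
import Groth.Agent.S1906

set_option autoImplicit false
set_option linter.style.haveILetI false
set_option linter.unusedVariables false
set_option linter.unusedSectionVars false
universe u
open CategoryTheory CategoryTheory.Limits AlgebraicGeometry IsLocalRing

namespace Groth.Agent.Lib.Helper7.CycSq

open Groth.Agent.Lib.Helper2.CycClosedImm

theorem norm_ne_zero_of_field {K L : Type u} [Field K] [Field L] [Algebra K L] (x : L)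
    (hx : x ≠ 0) : Algebra.norm K x ≠ 0 := by
  by_cases hfin : Module.Finite K L
  · exact Algebra.norm_ne_zero_iff.mpr hx
  · rw [Algebra.norm_eq_one_of_not_module_finite hfin]
    exact one_ne_zero

theorem normGen_ne_zero {X Y : Scheme.{u}} (p : X ⟶ Y) (x : X) (g : X.residueField x)
    (hg : g ≠ 0) : Cyc.normGen p x g ≠ 0 := by
  unfold Cyc.normGen
  letI := (p.residueFieldMap x).hom.toAlgebra
  exact norm_ne_zero_of_field g hg

section Aux

variable {W X V Y : Scheme.{u}} [IsIntegral W] [IsIntegral V]
  (i : W ⟶ X) [IsClosedImmersion i] (j : V ⟶ Y) [IsClosedImmersion j]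
  (q : W ⟶ V) (p : X ⟶ Y) [IsProper p] (hsq : q ≫ j = i ≫ p)
  (δX : X → ℤ) (δY : Y → ℤ) (hX : Cyc.IsSetup X δX) (hY : Cyc.IsSetup Y δY)
  (hδ : Cyc.DeltaCompat p δX δY)

include hsq in
theorem isProper_of_square : IsProper q := by
  haveI : IsProper (q ≫ j) := by rw [hsq]; infer_instance
  exact IsProper.of_comp q j

include hsq hδ in
theorem deltaCompat_of_square :
    Cyc.DeltaCompat q (fun w => δX (i w)) (fun v => δY (j v)) := by
  intro w
  obtain ⟨n, hn, hδn⟩ := hδ (i w)
  refine ⟨n, ?_, ?_⟩
  · rw [trdeg_eq i j q p hsq w (bijective_residueFieldMap i w) (bijective_residueFieldMap j (q w))]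
    exact hn
  · show δX (i w) = δY (j (q w)) + n
    rw [pt_eq i j q p hsq w]
    exact hδn

include hsq in
theorem mapCoeff_of_square (w : W) :
    AlgebraicCycle.mapCoeff q (fun w => δX (i w)) (fun v => δY (j v)) w =
      AlgebraicCycle.mapCoeff p δX δY (i w) := by
  unfold AlgebraicCycle.mapCoeff
  have h1 : (fun v => δY (j v)) (q w) = δY (p (i w)) := by
    show δY (j (q w)) = _
    rw [pt_eq i j q p hsq w]
  rw [residueDegree_eq i j q p hsq w (bijective_residueFieldMap i w)
    (bijective_residueFieldMap j (q w))]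
  by_cases hc : δX (i w) = δY (p (i w))
  · rw [if_pos hc, if_pos (by rw [h1]; exact hc)]
  · rw [if_neg hc, if_neg (by rw [h1]; exact hc)]

include hsq hX hY hδ in
/-- `p_* div = div Nm` for a point of `X`, via the reduced closures -/
theorem map_divFun_of_closedImm (e : W) (he : e = genericPoint W)
    (hdom : q e = genericPoint V)
    (hn : δX (i e) = δY (p (i e)))
    (g : X.residueField (i e)) (hg : g ≠ 0) (y : Y) :
    ∑ᶠ x ∈ p ⁻¹' {y}, Cyc.divFun δX (i e) g x *
        ((AlgebraicCycle.mapCoeff p δX δY x : ℕ) : ℤ) =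
      Cyc.divFun δY (p (i e)) (Cyc.normGen p (i e) g) y := by
  classical
  haveI : IsLocallyNoetherian X := hX.1
  haveI : IsLocallyNoetherian Y := hY.1
  haveI : IsProper q := isProper_of_square i j q p hsq
  have hW := isSetup_closedImm i δX hX
  have hV := isSetup_closedImm j δY hY
  have hδq := deltaCompat_of_square i j q p hsq δX δY hδ
  haveI : IsLocallyNoetherian W := hW.1
  have hpt := pt_eq i j q p hsq e
  have hg'0 : (i.residueFieldMap e).hom g ≠ 0 :=
    fun h0 => hg ((i.residueFieldMap e).hom.injective (by rw [h0, map_zero]))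
  generalize hg' : (i.residueFieldMap e).hom g = g' at hg'0
  -- the cycle on `W`
  obtain ⟨αW, hαW⟩ := Groth.Agent.Lib.Helper2.CycFamily.exists_cycle_finsum_divFun
    (fun w => δX (i w)) hW.2.2 (fun _ : Unit => e) (fun _ => g') (fun _ => hg'0) (by
      intro x
      exact ⟨Set.univ, isOpen_univ, Set.mem_univ _, Set.toFinite _⟩)
  have hαW' : ⇑αW = Cyc.divFun (fun w => δX (i w)) e g' := by
    funext w
    rw [hαW w, finsum_unique]
  have hn' : (fun w => δX (i w)) e = (fun v => δY (j v)) (genericPoint V) := by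
    show δX (i e) = δY (j (genericPoint V))
    rw [← hdom, hpt]
    exact hn
  have key : ⇑(AlgebraicCycle.map q (fun w => δX (i w)) (fun v => δY (j v)) αW) =
      Cyc.divFun (fun v => δY (j v)) (q e) (Cyc.normGen q e g') := by
    subst he
    exact Groth.Agent.S1906.result W V (fun w => δX (i w)) (fun v => δY (j v)) hW hV q hδq hdom
      hn' g' hg'0 αW hαW'
  -- the right hand side
  have hR : ∀ v : V, Cyc.divFun δY (p (i e)) (Cyc.normGen p (i e) g) (j v) =
      Cyc.divFun (fun v => δY (j v)) (q e) (Cyc.normGen q e g') v := by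
    intro v
    have hne : Cyc.normGen p (i e) g ≠ 0 := normGen_ne_zero p (i e) g hg
    rw [Groth.Agent.Lib.Helper2.CycMV.divFun_congr δY hpt.symm (Cyc.normGen p (i e) g),
      ← divFun_closedImm j δY hY.2.2 (q e) v _ (by
        intro h0
        apply hne
        exact (Y.residueFieldCongr hpt.symm).hom.hom.injective (by rw [h0, map_zero]))]
    congr 1
    rw [← hg']
    exact normGen_eq i j q p hsq _ (bijective_residueFieldMap i _)
      (bijective_residueFieldMap j (q _)) g
  by_cases hy : y ∈ Set.range j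
  · obtain ⟨v, rfl⟩ := hy
    rw [hR, ← congrFun key v]
    simp only [AlgebraicCycle.map, Function.locallyFinsupp.map_apply]
    have hsupp : p ⁻¹' {j v} ∩ Function.support (fun x => Cyc.divFun δX (i e) g x *
        ((AlgebraicCycle.mapCoeff p δX δY x : ℕ) : ℤ)) =
        i '' (q ⁻¹' {v}) ∩ Function.support (fun x => Cyc.divFun δX (i e) g x *
        ((AlgebraicCycle.mapCoeff p δX δY x : ℕ) : ℤ)) := by
      ext x
      constructor
      · rintro ⟨hx1, hx2⟩
        refine ⟨?_, hx2⟩
        have hxr : x ∈ Set.range i := by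
          by_contra hnr
          apply hx2
          show Cyc.divFun δX (i e) g x * _ = 0
          rw [divFun_closedImm_of_notMem i δX e g x hnr, zero_mul]
        obtain ⟨w, rfl⟩ := hxr
        refine ⟨w, ?_, rfl⟩
        have h1 : p (i w) = j v := hx1
        rw [← pt_eq i j q p hsq w] at h1
        exact j.isEmbedding.injective h1
      · rintro ⟨⟨w, hw, rfl⟩, hx2⟩
        refine ⟨?_, hx2⟩
        show p (i w) = j v
        rw [← pt_eq i j q p hsq w]
        exact congrArg j hw
    rw [finsum_mem_inter_support_eq _ _ _ hsupp, finsum_mem_image i.isEmbedding.injective.injOn]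
    refine finsum_mem_congr rfl (fun w _ => ?_)
    rw [hαW', ← mapCoeff_of_square i j q p hsq δX δY w, ← hg',
      divFun_closedImm i δX hX.2.2 _ w g hg]
  · have h1 : Cyc.divFun δY (p (i e)) (Cyc.normGen p (i e) g) y = 0 := by
      rw [Groth.Agent.Lib.Helper2.CycMV.divFun_congr δY hpt.symm (Cyc.normGen p (i e) g)]
      exact divFun_closedImm_of_notMem j δY (q e) _ y hy
    rw [h1]
    apply finsum_mem_eq_zero_of_forall_eq_zero
    intro x hx
    have hnr : x ∉ Set.range i := by
      rintro ⟨w, rfl⟩
      apply hy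
      refine ⟨q w, ?_⟩
      rw [pt_eq i j q p hsq w]
      exact hx
    rw [divFun_closedImm_of_notMem i δX e g x hnr, zero_mul]

end Aux

end Groth.Agent.Lib.Helper7.CycSq
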