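import Mathlib
import Groth.Agent.Lib.Helper7CycSq2
import Groth.Agent.Lib.Helper7CycPB3

set_option autoImplicit false
set_option linter.style.haveILetI false
set_option linter.unusedVariables false
set_option linter.unusedSectionVars false
universe u
open CategoryTheory CategoryTheory.Limits AlgebraicGeometry IsLocalRing TopologicalSpace

namespace Groth.Agent.Lib.Helper7.CycSq

open Groth.Agent.Lib.Helper7.CycPB

variable {X Y : Scheme.{u}} (p : X ⟶ Y) [IsProper p]
  (δX : X → ℤ) (δY : Y → ℤ) (hX : Cyc.IsSetup X δX) (hY : Cyc.IsSetup Y δY)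
  (hδ : Cyc.DeltaCompat p δX δY)

include hX hY hδ in
/-- **proper push-forward of a principal divisor** on the closure of a point `ξ` whose image has the
same dimension: `p_* div_ξ(g) = div_{p ξ}(Nm g)`. -/
theorem map_divFun_point (ξ : X) (hn : δX ξ = δY (p ξ)) (g : X.residueField ξ) (hg : g ≠ 0) (y : Y) :
    ∑ᶠ x ∈ p ⁻¹' {y}, Cyc.divFun δX ξ g x * ((AlgebraicCycle.mapCoeff p δX δY x : ℕ) : ℤ) =
      Cyc.divFun δY (p ξ) (Cyc.normGen p ξ g) y := by
  have hrange : Set.range (clι ξ ≫ p) ⊆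
      ((⟨closure {p ξ}, isClosed_closure⟩ : Closeds Y) : Set Y) := by
    rintro _ ⟨w, rfl⟩
    have h1 : clι ξ w ∈ closure {ξ} := by rw [← range_clι]; exact ⟨w, rfl⟩
    have h2 := image_closure_subset_closure_image p.continuous (Set.mem_image_of_mem p h1)
    rw [Set.image_singleton] at h2
    exact h2
  obtain ⟨q, hq⟩ := Groth.Agent.Lib.Helper11RedCl.exists_lift_of_range_subset (clι ξ ≫ p) _ hrange
  have hq' : q ≫ clι (p ξ) = clι ξ ≫ p := hq
  have hdom : q (genericPoint (clSub ξ)) = genericPoint (clSub (p ξ)) := by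
    apply (clι (p ξ)).isEmbedding.injective
    rw [pt_eq (clι ξ) (clι (p ξ)) q p hq', clι_genericPoint, clι_genericPoint]
  have key : ∀ (ξ' : X) (h : clι ξ (genericPoint (clSub ξ)) = ξ') (hn : δX ξ' = δY (p ξ'))
      (g : X.residueField ξ') (hg : g ≠ 0),
      ∑ᶠ x ∈ p ⁻¹' {y}, Cyc.divFun δX ξ' g x * ((AlgebraicCycle.mapCoeff p δX δY x : ℕ) : ℤ) =
        Cyc.divFun δY (p ξ') (Cyc.normGen p ξ' g) y := by
    rintro _ rfl hn g hg
    exact map_divFun_of_closedImm (clι ξ) (clι (p ξ)) q p hq' δX δY hX hY hδ _ rfl hdom hn g hg y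
  exact key ξ (clι_genericPoint ξ) hn g hg

end Groth.Agent.Lib.Helper7.CycSq
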