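import Mathlib
import Groth.Agent.Lib.Helper7CycSq3
import Groth.Agent.Lib.Helper7CycPB1
import Groth.Agent.S9126

set_option autoImplicit false
set_option linter.style.haveILetI false
set_option linter.unusedVariables false
set_option linter.unusedSectionVars false
universe u
open CategoryTheory CategoryTheory.Limits AlgebraicGeometry IsLocalRing TopologicalSpace

namespace Groth.Agent.Lib.Helper7.CycSq

open Groth.Agent.Lib.Helper7.CycPB Groth.Agent.Lib.Helper7.CycSp Groth.Agent.Lib.Helper7.DvrLen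

section Setup

variable {R : Type u} [CommRing R] [IsDomain R] [IsDiscreteValuationRing R]
  {X : Scheme.{u}} (a : X ⟶ Spec (CommRingCat.of R)) [LocallyOfFiniteType a]
  (δη : ↥(a.fiber (genericPoint ↥(Spec (CommRingCat.of R)))) → ℤ)
  (δs : ↥(a.fiber (closedPoint R)) → ℤ)
  (hδη : Cyc.DeltaCompat (a.fiberToSpecResidueField (genericPoint ↥(Spec (CommRingCat.of R)))) δη
    (fun _ => 0))
  (hδs : Cyc.DeltaCompat (a.fiberToSpecResidueField (closedPoint R)) δs (fun _ => 0))

include a in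
theorem isUniversallyCatenary_stalk (x : X) : CAlg.IsUniversallyCatenary (X.presheaf.stalk x) := by
  letI : Algebra ((Spec (CommRingCat.of R)).presheaf.stalk (a x)) (X.presheaf.stalk x) :=
    (a.stalkMap x).hom.toAlgebra
  haveI : Algebra.EssFiniteType ((Spec (CommRingCat.of R)).presheaf.stalk (a x))
      (X.presheaf.stalk x) := LocallyOfFiniteType.stalkMap a x
  exact Groth.Agent.S9126.result _ _ (isUniversallyCatenary_stalk_spec R (a x))

include hδη hδs in
theorem exists_setup : ∃ δX : X → ℤ, Cyc.IsSetup X δX ∧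
    (∀ ζ, δX (a.fiberι (genericPoint ↥(Spec (CommRingCat.of R))) ζ) = δη ζ + 1) ∧
    (∀ x, δX (a.fiberι (closedPoint R) x) = δs x) := by
  obtain ⟨δX, h1, h2, h3⟩ := exists_dimFun a δη δs hδη hδs
  exact ⟨δX, ⟨LocallyOfFiniteType.isLocallyNoetherian a, isUniversallyCatenary_stalk a, h1⟩, h2, h3⟩

end Setup

section Compat

variable {X' X S : Scheme.{u}} (f : X' ⟶ X) (b : X ⟶ S) (y : S)

/-- residue degrees of the map of fibres agree with those of the total spaces -/
theorem residueDegree_fibMap (z : ↥((f ≫ b).fiber y)) :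
    (fibMap f b y).residueDegree z = f.residueDegree ((f ≫ b).fiberι y z) :=
  residueDegree_eq ((f ≫ b).fiberι y) (b.fiberι y) (fibMap f b y) f (fibMap_fiberι f b y) z
    (isIso_residueFieldMap_of_surjectiveOnStalks _ z)
    (isIso_residueFieldMap_of_surjectiveOnStalks _ _)

theorem trdeg_fibMap (z : ↥((f ≫ b).fiber y)) :
    (letI := ((fibMap f b y).residueFieldMap z).hom.toAlgebra
     Algebra.trdeg ((b.fiber y).residueField (fibMap f b y z)) (((f ≫ b).fiber y).residueField z)) =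
    (letI := (f.residueFieldMap ((f ≫ b).fiberι y z)).hom.toAlgebra
     Algebra.trdeg (X.residueField (f ((f ≫ b).fiberι y z)))
       (X'.residueField ((f ≫ b).fiberι y z))) :=
  trdeg_eq ((f ≫ b).fiberι y) (b.fiberι y) (fibMap f b y) f (fibMap_fiberι f b y) z
    (isIso_residueFieldMap_of_surjectiveOnStalks _ z)
    (isIso_residueFieldMap_of_surjectiveOnStalks _ _)

end Compat

section Dvr

variable {R : Type u} [CommRing R] [IsDomain R] [IsDiscreteValuationRing R]
  {X' X : Scheme.{u}} (b : X ⟶ Spec (CommRingCat.of R))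
  (f : X' ⟶ X)
  (δ'η : ↥((f ≫ b).fiber (genericPoint ↥(Spec (CommRingCat.of R)))) → ℤ)
  (δ's : ↥((f ≫ b).fiber (closedPoint R)) → ℤ)
  (δη : ↥(b.fiber (genericPoint ↥(Spec (CommRingCat.of R)))) → ℤ)
  (δs : ↥(b.fiber (closedPoint R)) → ℤ)
  (h1 : Cyc.DeltaCompat ((f ≫ b).fiberToSpecResidueField (genericPoint ↥(Spec (CommRingCat.of R))))
    δ'η (fun _ => 0))
  (h2 : Cyc.DeltaCompat ((f ≫ b).fiberToSpecResidueField (closedPoint R)) δ's (fun _ => 0))
  (h3 : Cyc.DeltaCompat (b.fiberToSpecResidueField (genericPoint ↥(Spec (CommRingCat.of R)))) δη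
    (fun _ => 0))
  (h4 : Cyc.DeltaCompat (b.fiberToSpecResidueField (closedPoint R)) δs (fun _ => 0))
  (δX' : X' → ℤ) (δX : X → ℤ)
  (hη' : ∀ ζ, δX' ((f ≫ b).fiberι (genericPoint ↥(Spec (CommRingCat.of R))) ζ) = δ'η ζ + 1)
  (hs' : ∀ x, δX' ((f ≫ b).fiberι (closedPoint R) x) = δ's x)
  (hη : ∀ ζ, δX (b.fiberι (genericPoint ↥(Spec (CommRingCat.of R))) ζ) = δη ζ + 1)
  (hs : ∀ x, δX (b.fiberι (closedPoint R) x) = δs x)

include h1 h2 h3 h4 hη' hs' hη hs in
theorem deltaCompat_total : Cyc.DeltaCompat f δX' δX := by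
  intro x₀
  by_cases hx : (f ≫ b) x₀ = closedPoint R
  · obtain ⟨z, rfl⟩ := exists_fiberι_eq (f ≫ b) x₀ _ hx
    obtain ⟨n, hn, hδn⟩ := deltaCompat_fibMap f b _ δ's δs h2 h4 z
    refine ⟨n, ?_, ?_⟩
    · rw [← trdeg_fibMap f b _ z]
      exact hn
    · have e1 := fiberι_fibMap_apply f b (closedPoint R) z
      rw [← e1, hs', hs]
      exact hδn
  · have hx' : (f ≫ b) x₀ = genericPoint ↥(Spec (CommRingCat.of R)) :=
      eq_of_ne_closedPoint _ _ hx (genericPoint_ne_closedPoint R)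
    obtain ⟨z, rfl⟩ := exists_fiberι_eq (f ≫ b) x₀ _ hx'
    obtain ⟨n, hn, hδn⟩ := deltaCompat_fibMap f b _ δ'η δη h1 h3 z
    refine ⟨n, ?_, ?_⟩
    · rw [← trdeg_fibMap f b _ z]
      exact hn
    · have e1 := fiberι_fibMap_apply f b (genericPoint ↥(Spec (CommRingCat.of R))) z
      rw [← e1, hη', hη, hδn]
      ring

end Dvr

end Groth.Agent.Lib.Helper7.CycSq
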