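import Mathlib
import Groth.Agent.Lib.Helper7CycSq4
import Groth.Agent.Lib.Helper7CycPB5
import Groth.Agent.Lib.Helper2CycSecDiv
import Groth.Agent.Lib.Helper2CycRat

set_option autoImplicit false
set_option linter.style.haveILetI false
set_option linter.unusedVariables false
set_option linter.unusedSectionVars false
universe u
open CategoryTheory CategoryTheory.Limits AlgebraicGeometry IsLocalRing TopologicalSpace

namespace Groth.Agent.Lib.Helper7.CycSq

open Groth.Agent.Lib.Helper7.CycPB Groth.Agent.Lib.Helper7.CycSp Groth.Agent.Lib.Helper7.DvrLen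
  Groth.Agent.Lib.Helper2.CycOrd

section Coeff

variable {R : Type u} [CommRing R] [IsDomain R] [IsDiscreteValuationRing R]
  {X : Scheme.{u}} (a : X ⟶ Spec (CommRingCat.of R))

/-- the uniformizer in the residue field of a point -/
noncomputable def unifRes (ξ : X) : X.residueField ξ :=
  (X.residue ξ).hom (X.presheaf.germ ⊤ ξ trivial (sec a))

theorem unifRes_eq_specMap (x ξ : X) (h : ξ ⤳ x) :
    unifRes a ξ = Cyc.specMap x ξ h (X.presheaf.germ ⊤ x trivial (sec a)) := by
  unfold unifRes Cyc.specMap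
  have h1 : X.presheaf.stalkSpecializes h (X.presheaf.germ ⊤ x trivial (sec a)) =
      X.presheaf.germ ⊤ ξ trivial (sec a) :=
    ConcreteCategory.congr_hom (TopCat.Presheaf.germ_stalkSpecializes X.presheaf
      (U := ⊤) (y := x) trivial h) (sec a)
  rw [← h1]
  rfl

theorem unifRes_ne_zero (ξ : X) (hξ : a ξ ≠ closedPoint R) : unifRes a ξ ≠ 0 := by
  intro h0
  apply hξ
  rw [← germ_sec_mem_maximalIdeal_iff a ξ]
  exact (IsLocalRing.residue_eq_zero_iff _).mp h0

theorem unifRes_comp {X' : Scheme.{u}} (f : X' ⟶ X) (ξ : X') :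
    unifRes (f ≫ a) ξ = (f.residueFieldMap ξ).hom (unifRes a (f ξ)) := by
  unfold unifRes
  have e1 := ConcreteCategory.congr_hom (Scheme.residue_residueFieldMap f ξ)
    (X.presheaf.germ ⊤ (f ξ) trivial (sec a))
  have e2 : (f.stalkMap ξ).hom (X.presheaf.germ ⊤ (f ξ) trivial (sec a)) =
      X'.presheaf.germ ⊤ ξ trivial (sec (f ≫ a)) := by
    have := Scheme.Hom.germ_stalkMap_apply f ⊤ ξ trivial (sec a)
    rw [this]
    unfold sec
    rw [Scheme.Hom.comp_appTop]
    rfl
  rw [← e2]
  exact e1.symm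

variable [LocallyOfFiniteType a] [IsLocallyNoetherian X]

open scoped Classical in
/-- the principal divisor of the uniformizer on the closure of a point of the generic fibre computes
the multiplicities of `Cyc.spFun` -/
theorem divFun_unifRes (δX : X → ℤ) (hδX : Cyc.IsDimFun X δX) (x ξ : X)
    (hx : a x = closedPoint R) (hξ : a ξ ≠ closedPoint R) :
    Cyc.divFun δX ξ (unifRes a ξ) x =
      if h : ξ ⤳ x ∧ δX x + 1 = δX ξ then ((lam a x ξ h.1).toNat : ℤ) else 0 := by
  unfold Cyc.divFun
  by_cases h : ξ ⤳ x ∧ δX x + 1 = δX ξ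
  · rw [dif_pos h, dif_pos h]
    have hdim := ringKrullDim_locQuot_le_one δX hδX x ξ h.1 h.2
    haveI := isFractionRing_locQuot x ξ h.1
    have hmk : Ideal.Quotient.mk (RingHom.ker (Cyc.specMap x ξ h.1))
        (X.presheaf.germ ⊤ x trivial (sec a)) ≠ 0 := by
      intro h0
      rw [Ideal.Quotient.eq_zero_iff_mem, germ_mem_ker_specMap_iff (sec a) h.1,
        germ_sec_mem_maximalIdeal_iff] at h0
      exact hξ h0
    unfold Cyc.ordAt lam
    rw [unifRes_eq_specMap a x ξ h.1, ← algebraMap_locQuot_mk,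
      Groth.Agent.Lib.Helper2.CycSecDiv.ordFrac_algebraMap (Cyc.LocQuot x ξ h.1) hdim _ hmk,
      length_locQuot_eq_ord a x hx h.1]
  · rw [dif_neg h, dif_neg h]

end Coeff

section Norm

variable {R : Type u} [CommRing R] [IsDomain R] [IsDiscreteValuationRing R]
  {X Y : Scheme.{u}} (b : Y ⟶ Spec (CommRingCat.of R)) (f : X ⟶ Y)

theorem normGen_unifRes (ξ : X) :
    Cyc.normGen f ξ (unifRes (f ≫ b) ξ) = unifRes b (f ξ) ^ f.residueDegree ξ := by
  rw [unifRes_comp]
  unfold Cyc.normGen Scheme.Hom.residueDegree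
  letI := (f.residueFieldMap ξ).hom.toAlgebra
  exact Algebra.norm_algebraMap (unifRes b (f ξ))

end Norm

end Groth.Agent.Lib.Helper7.CycSq
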