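import Mathlib
import Groth.Agent.Lib.Helper7CycSq5

set_option autoImplicit false
set_option linter.style.haveILetI false
set_option linter.unusedVariables false
set_option linter.unusedSectionVars false
universe u
open CategoryTheory CategoryTheory.Limits AlgebraicGeometry IsLocalRing TopologicalSpace

namespace Groth.Agent.Lib.Helper7.CycSq

open Groth.Agent.Lib.Helper7.CycPB Groth.Agent.Lib.Helper7.CycSp Groth.Agent.Lib.Helper7.DvrLen
  Groth.Agent.Lib.Helper2.CycOrd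

section Coeff

variable {R : Type u} [CommRing R] [IsDomain R] [IsDiscreteValuationRing R]
  {X : Scheme.{u}} (a : X ⟶ Spec (CommRingCat.of R)) [LocallyOfFiniteType a] [IsLocallyNoetherian X]

open scoped Classical in
/-- nested form of `divFun_unifRes` on the fibres -/
theorem divFun_unifRes_fibre (δX : X → ℤ) (hδX : Cyc.IsDimFun X δX)
    (δη : ↥(a.fiber (genericPoint ↥(Spec (CommRingCat.of R)))) → ℤ)
    (δs : ↥(a.fiber (closedPoint R)) → ℤ)
    (hη : ∀ ζ, δX (a.fiberι (genericPoint ↥(Spec (CommRingCat.of R))) ζ) = δη ζ + 1)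
    (hs : ∀ x, δX (a.fiberι (closedPoint R) x) = δs x)
    (ζ : ↥(a.fiber (genericPoint ↥(Spec (CommRingCat.of R))))) (x : ↥(a.fiber (closedPoint R))) :
    Cyc.divFun δX (a.fiberι _ ζ) (unifRes a (a.fiberι _ ζ)) (a.fiberι _ x) =
      if h : a.fiberι _ ζ ⤳ a.fiberι _ x then
        (if δs x = δη ζ then ((lam a (a.fiberι _ x) (a.fiberι _ ζ) h).toNat : ℤ) else 0) else 0 := by
  have hξ : a (a.fiberι _ ζ) ≠ closedPoint R := by
    rw [fiberι_mem a _ ζ]; exact genericPoint_ne_closedPoint R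
  rw [divFun_unifRes a δX hδX _ _ (fiberι_mem a _ x) hξ, hη, hs]
  by_cases h : a.fiberι _ ζ ⤳ a.fiberι _ x
  · rw [dif_pos h]
    by_cases h2 : δs x = δη ζ
    · rw [if_pos h2, dif_pos ⟨h, by rw [h2]⟩]
    · rw [if_neg h2, dif_neg (fun h' => h2 (by have := h'.2; omega))]
  · rw [dif_neg h, dif_neg (fun h' => h h'.1)]

end Coeff

section Key

variable {R : Type u} [CommRing R] [IsDomain R] [IsDiscreteValuationRing R]
  {X Y : Scheme.{u}} (b : Y ⟶ Spec (CommRingCat.of R)) [LocallyOfFiniteType b]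
  (f : X ⟶ Y) [IsProper f]
  (δXη : ↥((f ≫ b).fiber (genericPoint ↥(Spec (CommRingCat.of R)))) → ℤ)
  (δXs : ↥((f ≫ b).fiber (closedPoint R)) → ℤ)
  (δYη : ↥(b.fiber (genericPoint ↥(Spec (CommRingCat.of R)))) → ℤ)
  (δYs : ↥(b.fiber (closedPoint R)) → ℤ)
  (hXη : Cyc.DeltaCompat ((f ≫ b).fiberToSpecResidueField
    (genericPoint ↥(Spec (CommRingCat.of R)))) δXη (fun _ => 0))
  (hXs : Cyc.DeltaCompat ((f ≫ b).fiberToSpecResidueField (closedPoint R)) δXs (fun _ => 0))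
  (hYη : Cyc.DeltaCompat (b.fiberToSpecResidueField (genericPoint ↥(Spec (CommRingCat.of R)))) δYη
    (fun _ => 0))
  (hYs : Cyc.DeltaCompat (b.fiberToSpecResidueField (closedPoint R)) δYs (fun _ => 0))

omit [LocallyOfFiniteType b] [IsProper f] in
theorem preimage_fiberι_eq (y₀ : ↥(Spec (CommRingCat.of R))) (y : ↥(b.fiber y₀)) :
    f ⁻¹' {b.fiberι y₀ y} = (f ≫ b).fiberι y₀ '' (fibMap f b y₀ ⁻¹' {y}) := by
  ext x₀
  constructor
  · intro hx₀
    have h1 : f x₀ = b.fiberι y₀ y := hx₀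
    have h2 : (f ≫ b) x₀ = y₀ := by
      rw [Scheme.Hom.comp_apply, h1]
      exact fiberι_mem b _ y
    obtain ⟨x, rfl⟩ := exists_fiberι_eq (f ≫ b) x₀ _ h2
    refine ⟨x, ?_, rfl⟩
    have e1 := fiberι_fibMap_apply f b y₀ x
    rw [h1] at e1
    exact (b.fiberι y₀).isEmbedding.injective e1
  · rintro ⟨x, hx, rfl⟩
    have e1 := fiberι_fibMap_apply f b y₀ x
    have hx' : fibMap f b y₀ x = y := hx
    rw [hx'] at e1
    exact e1.symm

omit [LocallyOfFiniteType b] [IsProper f] in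
theorem mapCoeff_fibMap (y₀ : ↥(Spec (CommRingCat.of R)))
    (δ' : ↥((f ≫ b).fiber y₀) → ℤ) (δ : ↥(b.fiber y₀) → ℤ) (δX : X → ℤ) (δY : Y → ℤ)
    (h' : ∀ x, δX ((f ≫ b).fiberι y₀ x) = δ' x + 1) (h : ∀ x, δY (b.fiberι y₀ x) = δ x + 1)
    (x : ↥((f ≫ b).fiber y₀)) :
    AlgebraicCycle.mapCoeff f δX δY ((f ≫ b).fiberι y₀ x) =
      AlgebraicCycle.mapCoeff (fibMap f b y₀) δ' δ x := by
  unfold AlgebraicCycle.mapCoeff
  have e1 : f ((f ≫ b).fiberι y₀ x) = b.fiberι y₀ (fibMap f b y₀ x) :=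
    (fiberι_fibMap_apply f b y₀ x).symm
  rw [residueDegree_fibMap f b y₀ x]
  by_cases hc : δ' x = δ (fibMap f b y₀ x)
  · rw [if_pos hc, if_pos]
    show δX _ = δY (f _)
    rw [e1, h', h, hc]
  · rw [if_neg hc, if_neg]
    show ¬ δX _ = δY (f _)
    rw [e1, h', h]
    omega

omit [LocallyOfFiniteType b] [IsProper f] in
theorem mapCoeff_fibMap' (y₀ : ↥(Spec (CommRingCat.of R)))
    (δ' : ↥((f ≫ b).fiber y₀) → ℤ) (δ : ↥(b.fiber y₀) → ℤ) (δX : X → ℤ) (δY : Y → ℤ)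
    (h' : ∀ x, δX ((f ≫ b).fiberι y₀ x) = δ' x) (h : ∀ x, δY (b.fiberι y₀ x) = δ x)
    (x : ↥((f ≫ b).fiber y₀)) :
    AlgebraicCycle.mapCoeff f δX δY ((f ≫ b).fiberι y₀ x) =
      AlgebraicCycle.mapCoeff (fibMap f b y₀) δ' δ x := by
  unfold AlgebraicCycle.mapCoeff
  have e1 : f ((f ≫ b).fiberι y₀ x) = b.fiberι y₀ (fibMap f b y₀ x) :=
    (fiberι_fibMap_apply f b y₀ x).symm
  rw [residueDegree_fibMap f b y₀ x]
  by_cases hc : δ' x = δ (fibMap f b y₀ x)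
  · rw [if_pos hc, if_pos]
    show δX _ = δY (f _)
    rw [e1, h', h, hc]
  · rw [if_neg hc, if_neg]
    show ¬ δX _ = δY (f _)
    rw [e1, h', h]
    exact hc

open scoped Classical in
include hXη hXs hYη hYs in
/-- the key identity for a single point `ζ` of the generic fibre whose image has the same dimension -/
theorem key_point (ζ : ↥((f ≫ b).fiber (genericPoint ↥(Spec (CommRingCat.of R)))))
    (y : ↥(b.fiber (closedPoint R)))
    (hζ : δXη ζ = δYη (fibMap f b _ ζ)) :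
    ∑ᶠ x ∈ fibMap f b (closedPoint R) ⁻¹' {y},
      (if h : (f ≫ b).fiberι _ ζ ⤳ (f ≫ b).fiberι _ x then
        (if δXs x = δXη ζ then
          ((lam (f ≫ b) ((f ≫ b).fiberι _ x) ((f ≫ b).fiberι _ ζ) h).toNat : ℤ) else 0) else 0) *
        ((AlgebraicCycle.mapCoeff (fibMap f b (closedPoint R)) δXs δYs x : ℕ) : ℤ) =
    ((fibMap f b (genericPoint ↥(Spec (CommRingCat.of R)))).residueDegree ζ : ℤ) *
      (if h : b.fiberι _ (fibMap f b _ ζ) ⤳ b.fiberι _ y then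
        (if δYs y = δYη (fibMap f b _ ζ) then
          ((lam b (b.fiberι _ y) (b.fiberι _ (fibMap f b _ ζ)) h).toNat : ℤ) else 0) else 0) := by
  haveI : LocallyOfFiniteType f := inferInstance
  haveI : IsLocallyNoetherian Y := LocallyOfFiniteType.isLocallyNoetherian b
  haveI : IsLocallyNoetherian X := LocallyOfFiniteType.isLocallyNoetherian (f ≫ b)
  obtain ⟨δX, hX, hXη', hXs'⟩ := exists_setup (f ≫ b) δXη δXs hXη hXs
  obtain ⟨δY, hY, hYη', hYs'⟩ := exists_setup b δYη δYs hYη hYs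
  have hδ := deltaCompat_total b f δXη δXs δYη δYs hXη hXs hYη hYs δX δY hXη' hXs' hYη' hYs'
  have e1 := fiberι_fibMap_apply f b (genericPoint ↥(Spec (CommRingCat.of R))) ζ
  have hξ : (f ≫ b) ((f ≫ b).fiberι _ ζ) ≠ closedPoint R := by
    rw [fiberι_mem (f ≫ b) _ ζ]; exact genericPoint_ne_closedPoint R
  have hn : δX ((f ≫ b).fiberι _ ζ) = δY (f ((f ≫ b).fiberι _ ζ)) := by
    rw [← e1, hXη', hYη', hζ]
  have key := map_divFun_point f δX δY hX hY hδ ((f ≫ b).fiberι _ ζ) hn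
    (unifRes (f ≫ b) ((f ≫ b).fiberι _ ζ)) (unifRes_ne_zero (f ≫ b) _ hξ) (b.fiberι _ y)
  have hinj : ∀ y₀ : ↥(Spec (CommRingCat.of R)), Function.Injective ((f ≫ b).fiberι y₀) :=
    fun y₀ => ((f ≫ b).fiberι y₀).isEmbedding.injective
  rw [preimage_fiberι_eq b f (closedPoint R) y,
    finsum_mem_image (hinj (closedPoint R)).injOn] at key
  have hL : ∀ x ∈ fibMap f b (closedPoint R) ⁻¹' {y},
      Cyc.divFun δX ((f ≫ b).fiberι _ ζ) (unifRes (f ≫ b) ((f ≫ b).fiberι _ ζ))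
        ((f ≫ b).fiberι _ x) *
        ((AlgebraicCycle.mapCoeff f δX δY ((f ≫ b).fiberι _ x) : ℕ) : ℤ) =
      (if h : (f ≫ b).fiberι _ ζ ⤳ (f ≫ b).fiberι _ x then
        (if δXs x = δXη ζ then
          ((lam (f ≫ b) ((f ≫ b).fiberι _ x) ((f ≫ b).fiberι _ ζ) h).toNat : ℤ) else 0) else 0) *
        ((AlgebraicCycle.mapCoeff (fibMap f b (closedPoint R)) δXs δYs x : ℕ) : ℤ) := by
    intro x _
    rw [divFun_unifRes_fibre (f ≫ b) δX hX.2.2 δXη δXs hXη' hXs' ζ x,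
      mapCoeff_fibMap' b f (closedPoint R) δXs δYs δX δY hXs' hYs' x]
  rw [finsum_mem_congr rfl hL] at key
  have hξ' : b (f ((f ≫ b).fiberι _ ζ)) ≠ closedPoint R := hξ
  rw [key, normGen_unifRes b f,
    Groth.Agent.Lib.Helper2.CycRat.divFun_pow δY (f ((f ≫ b).fiberι _ ζ))
      (unifRes b (f ((f ≫ b).fiberι _ ζ))) (unifRes_ne_zero b (f ((f ≫ b).fiberι _ ζ)) hξ')]
  rw [← residueDegree_fibMap f b _ ζ, ← e1,
    divFun_unifRes_fibre b δY hY.2.2 δYη δYs hYη' hYs' (fibMap f b _ ζ) y]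

end Key

end Groth.Agent.Lib.Helper7.CycSq
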