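import Mathlib
import Groth.Agent.Lib.Helper7CycSq6

set_option autoImplicit false
set_option linter.style.haveILetI false
set_option linter.unusedVariables false
set_option linter.unusedSectionVars false
universe u
open CategoryTheory CategoryTheory.Limits AlgebraicGeometry IsLocalRing TopologicalSpace

namespace Groth.Agent.Lib.Helper7.CycSq

open Groth.Agent.Lib.Helper7.CycPB Groth.Agent.Lib.Helper7.CycSp Groth.Agent.Lib.Helper7.DvrLen
  Groth.Agent.Lib.Helper2.CycOrd

theorem map_apply' {X Y : Scheme.{u}} (g : X ⟶ Y) [QuasiCompact g] (wx : X → ℤ) (wy : Y → ℤ)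
    (c : AlgebraicCycle X ℤ) (z : Y) :
    (AlgebraicCycle.map g wx wy c) z =
      ∑ᶠ x ∈ g ⁻¹' {z}, c x * ((AlgebraicCycle.mapCoeff g wx wy x : ℕ) : ℤ) := rfl

section Fin

variable {R : Type u} [CommRing R] [IsDomain R] [IsDiscreteValuationRing R]
  {X Y : Scheme.{u}} (b : Y ⟶ Spec (CommRingCat.of R)) [LocallyOfFiniteType b]
  (f : X ⟶ Y) [IsProper f]

omit [LocallyOfFiniteType b] in
/-- finitely many points of the support of a cycle on the generic fibre of `X` map to
generizations of a given point of `Y` -/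
theorem finite_support_over (y₀ : ↥(Spec (CommRingCat.of R)))
    (α : AlgebraicCycle ((f ≫ b).fiber y₀) ℤ) (y : Y) :
    {ζ : ↥((f ≫ b).fiber y₀) | α ζ ≠ 0 ∧ f ((f ≫ b).fiberι y₀ ζ) ⤳ y}.Finite := by
  obtain ⟨_, ⟨U, hU : IsAffineOpen U, rfl⟩, hyU, -⟩ :=
    (Y.isBasis_affineOpens).exists_subset_of_mem_open (Set.mem_univ y) isOpen_univ
  haveI := quasiCompact_fiberι (f ≫ b) y₀
  haveI : QuasiCompact ((f ≫ b).fiberι y₀ ≫ f) := inferInstance
  have hK : IsCompact (((f ≫ b).fiberι y₀ ≫ f) ⁻¹' (U : Set Y)) :=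
    QuasiCompact.isCompact_preimage (f := (f ≫ b).fiberι y₀ ≫ f) _ U.2 hU.isCompact
  have hfin := (Function.locallyFinsupp.locallyFiniteSupport α).finite_inter_support_of_isCompact hK
  refine hfin.subset ?_
  rintro ζ ⟨h0, hsp⟩
  exact ⟨hsp.mem_open U.2 hyU, h0⟩

variable
  (δXη : ↥((f ≫ b).fiber (genericPoint ↥(Spec (CommRingCat.of R)))) → ℤ)
  (δXs : ↥((f ≫ b).fiber (closedPoint R)) → ℤ)
  (hXη : Cyc.DeltaCompat ((f ≫ b).fiberToSpecResidueField
    (genericPoint ↥(Spec (CommRingCat.of R)))) δXη (fun _ => 0))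
  (hXs : Cyc.DeltaCompat ((f ≫ b).fiberToSpecResidueField (closedPoint R)) δXs (fun _ => 0))

open scoped Classical in
include hXη hXs in
/-- finitely many points of the closed fibre of `X` over a given point of `Y` carry a non-zero
specialization multiplicity of a given point `ζ` of the generic fibre -/
theorem finite_support_mult (ζ : ↥((f ≫ b).fiber (genericPoint ↥(Spec (CommRingCat.of R)))))
    (y : ↥(b.fiber (closedPoint R))) :
    {x : ↥((f ≫ b).fiber (closedPoint R)) | fibMap f b (closedPoint R) x = y ∧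
      (if h : (f ≫ b).fiberι _ ζ ⤳ (f ≫ b).fiberι _ x then
        (if δXs x = δXη ζ then
          ((lam (f ≫ b) ((f ≫ b).fiberι _ x) ((f ≫ b).fiberι _ ζ) h).toNat : ℤ) else 0)
        else 0) ≠ 0}.Finite := by
  haveI : LocallyOfFiniteType f := inferInstance
  haveI : IsLocallyNoetherian X := LocallyOfFiniteType.isLocallyNoetherian (f ≫ b)
  obtain ⟨δX, hX, hXη', hXs'⟩ := exists_setup (f ≫ b) δXη δXs hXη hXs
  have hξ : (f ≫ b) ((f ≫ b).fiberι _ ζ) ≠ closedPoint R := by
    rw [fiberι_mem (f ≫ b) _ ζ]; exact genericPoint_ne_closedPoint R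
  obtain ⟨D, hD⟩ := Groth.Agent.Lib.Helper2.CycFamily.exists_cycle_finsum_divFun
    δX hX.2.2 (fun _ : Unit => (f ≫ b).fiberι _ ζ) (fun _ => unifRes (f ≫ b) ((f ≫ b).fiberι _ ζ))
    (fun _ => unifRes_ne_zero (f ≫ b) _ hξ) (by
      intro x
      exact ⟨Set.univ, isOpen_univ, Set.mem_univ _, Set.toFinite _⟩)
  have hD' : ∀ x₀, D x₀ = Cyc.divFun δX ((f ≫ b).fiberι _ ζ)
      (unifRes (f ≫ b) ((f ≫ b).fiberι _ ζ)) x₀ := by
    intro x₀
    rw [hD x₀, finsum_unique]
  obtain ⟨_, ⟨U, hU : IsAffineOpen U, rfl⟩, hyU, -⟩ :=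
    (Y.isBasis_affineOpens).exists_subset_of_mem_open
      (Set.mem_univ (b.fiberι (closedPoint R) y)) isOpen_univ
  have hK : IsCompact (f ⁻¹' (U : Set Y)) :=
    QuasiCompact.isCompact_preimage (f := f) _ U.2 hU.isCompact
  have hfin := (Function.locallyFinsupp.locallyFiniteSupport D).finite_inter_support_of_isCompact hK
  have hinj : ∀ y₀ : ↥(Spec (CommRingCat.of R)), Function.Injective ((f ≫ b).fiberι y₀) :=
    fun y₀ => ((f ≫ b).fiberι y₀).isEmbedding.injective
  refine (hfin.preimage (hinj (closedPoint R)).injOn).subset ?_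
  rintro x ⟨hxy, hx⟩
  refine ⟨?_, ?_⟩
  · show f ((f ≫ b).fiberι _ x) ∈ U
    have e1 := fiberι_fibMap_apply f b (closedPoint R) x
    rw [← e1, hxy]
    exact hyU
  · show D ((f ≫ b).fiberι _ x) ≠ 0
    rw [hD', divFun_unifRes_fibre (f ≫ b) δX hX.2.2 δXη δXs hXη' hXs' ζ x]
    exact hx

end Fin

section Main

variable {R : Type u} [CommRing R] [IsDomain R] [IsDiscreteValuationRing R]
  {X Y : Scheme.{u}} (b : Y ⟶ Spec (CommRingCat.of R)) [LocallyOfFiniteType b]
  (f : X ⟶ Y) [IsProper f]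
  (δXη : ↥((f ≫ b).fiber (genericPoint ↥(Spec (CommRingCat.of R)))) → ℤ)
  (δXs : ↥((f ≫ b).fiber (closedPoint R)) → ℤ)
  (δYη : ↥(b.fiber (genericPoint ↥(Spec (CommRingCat.of R)))) → ℤ)
  (δYs : ↥(b.fiber (closedPoint R)) → ℤ)
  (hXη : Cyc.DeltaCompat ((f ≫ b).fiberToSpecResidueField
    (genericPoint ↥(Spec (CommRingCat.of R)))) δXη (fun _ => 0))
  (hXs : Cyc.DeltaCompat ((f ≫ b).fiberToSpecResidueField (closedPoint R)) δXs (fun _ => 0))
  (hYη : Cyc.DeltaCompat (b.fiberToSpecResidueField (genericPoint ↥(Spec (CommRingCat.of R)))) δYη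
    (fun _ => 0))
  (hYs : Cyc.DeltaCompat (b.fiberToSpecResidueField (closedPoint R)) δYs (fun _ => 0))

open scoped Classical in
include hXη hXs hYη hYs in
/-- the per-point identity, in both cases -/
theorem point_identity (r : ℤ) (ζ : ↥((f ≫ b).fiber (genericPoint ↥(Spec (CommRingCat.of R)))))
    (hζr : δXη ζ = r) (y : ↥(b.fiber (closedPoint R))) (hy : δYs y = r) :
    ((AlgebraicCycle.mapCoeff (fibMap f b (genericPoint ↥(Spec (CommRingCat.of R)))) δXη δYη ζ : ℕ) : ℤ) *
      (if h : b.fiberι _ (fibMap f b _ ζ) ⤳ b.fiberι _ y then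
        ((lam b (b.fiberι _ y) (b.fiberι _ (fibMap f b _ ζ)) h).toNat : ℤ) else 0) =
    ∑ᶠ x ∈ fibMap f b (closedPoint R) ⁻¹' {y},
      (if h : (f ≫ b).fiberι _ ζ ⤳ (f ≫ b).fiberι _ x then
        (if δXs x = δXη ζ then
          ((lam (f ≫ b) ((f ≫ b).fiberι _ x) ((f ≫ b).fiberι _ ζ) h).toNat : ℤ) else 0) else 0) *
        ((AlgebraicCycle.mapCoeff (fibMap f b (closedPoint R)) δXs δYs x : ℕ) : ℤ) := by
  by_cases hζ : δXη ζ = δYη (fibMap f b _ ζ)
  · rw [key_point b f δXη δXs δYη δYs hXη hXs hYη hYs ζ y hζ]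
    have h1 : AlgebraicCycle.mapCoeff (fibMap f b (genericPoint ↥(Spec (CommRingCat.of R))))
        δXη δYη ζ = (fibMap f b (genericPoint ↥(Spec (CommRingCat.of R)))).residueDegree ζ := by
      unfold AlgebraicCycle.mapCoeff
      exact if_pos hζ
    rw [h1]
    congr 1
    by_cases hsp : b.fiberι _ (fibMap f b _ ζ) ⤳ b.fiberι _ y
    · rw [dif_pos hsp, dif_pos hsp, if_pos (by rw [hy, ← hζ, hζr])]
    · rw [dif_neg hsp, dif_neg hsp]
  · have h1 : AlgebraicCycle.mapCoeff (fibMap f b (genericPoint ↥(Spec (CommRingCat.of R))))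
        δXη δYη ζ = 0 := by
      unfold AlgebraicCycle.mapCoeff
      exact if_neg hζ
    rw [h1, Nat.cast_zero, zero_mul]
    symm
    apply finsum_mem_eq_zero_of_forall_eq_zero
    intro x hx
    have hxy : fibMap f b (closedPoint R) x = y := hx
    by_cases hsp : (f ≫ b).fiberι _ ζ ⤳ (f ≫ b).fiberι _ x
    · rw [dif_pos hsp]
      by_cases hδ : δXs x = δXη ζ
      · exfalso
        have h2 := specializes_fibMap b f ζ x hsp
        rw [hxy] at h2
        have h3 := delta_le_of_specializes b δYη δYs hYη hYs _ _ h2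
        obtain ⟨n, -, hn⟩ := deltaCompat_fibMap f b _ δXη δYη hXη hYη ζ
        apply hζ
        omega
      · rw [if_neg hδ, zero_mul]
    · rw [dif_neg hsp, zero_mul]

open scoped Classical in
include hXη hXs hYη hYs in
/-- **specialization commutes with proper push-forward**, coefficientwise -/
theorem spFun_map [hq1 : QuasiCompact (fibMap f b (genericPoint ↥(Spec (CommRingCat.of R))))]
    [hq2 : QuasiCompact (fibMap f b (closedPoint R))] (r : ℤ)
    (α : AlgebraicCycle ((f ≫ b).fiber (genericPoint ↥(Spec (CommRingCat.of R)))) ℤ)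
    (hα : α ∈ Cyc.Zk ((f ≫ b).fiber (genericPoint ↥(Spec (CommRingCat.of R)))) δXη r)
    (β : AlgebraicCycle ((f ≫ b).fiber (closedPoint R)) ℤ)
    (hβ : ⇑β = Cyc.spFun (f ≫ b) (genericPoint ↥(Spec (CommRingCat.of R))) (closedPoint R)
      δXη δXs r ⇑α) :
    Cyc.spFun b (genericPoint ↥(Spec (CommRingCat.of R))) (closedPoint R) δYη δYs r
      ⇑(AlgebraicCycle.map (fibMap f b (genericPoint ↥(Spec (CommRingCat.of R)))) δXη δYη α) =
    ⇑(AlgebraicCycle.map (fibMap f b (closedPoint R)) δXs δYs β) := by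
  funext y
  rw [spFun_apply b (genericPoint ↥(Spec (CommRingCat.of R))) (closedPoint R) δYη δYs r _ y,
    map_apply' (fibMap f b (closedPoint R)) δXs δYs β y]
  by_cases hy : δYs y = r
  · rw [if_pos hy]
    -- the finite set of relevant points
    have hTfin : {ζ : ↥((f ≫ b).fiber (genericPoint ↥(Spec (CommRingCat.of R)))) |
        α ζ ≠ 0 ∧ f ((f ≫ b).fiberι _ ζ) ⤳ b.fiberι _ y}.Finite :=
      finite_support_over b f _ α _
    set T : Finset ↥((f ≫ b).fiber (genericPoint ↥(Spec (CommRingCat.of R)))) :=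
      hTfin.toFinset with hT
    have hTmem : ∀ ζ, ζ ∈ T ↔ α ζ ≠ 0 ∧ b.fiberι _ (fibMap f b _ ζ) ⤳ b.fiberι _ y := by
      intro ζ
      rw [hT, Set.Finite.mem_toFinset,
        fiberι_fibMap_apply f b (genericPoint ↥(Spec (CommRingCat.of R))) ζ]
      rfl
    have hTr : ∀ ζ ∈ T, δXη ζ = r := by
      intro ζ hζ
      by_contra hne
      exact ((hTmem ζ).mp hζ).1 (hα ζ hne)
    -- abbreviations
    let LY : ↥(b.fiber (genericPoint ↥(Spec (CommRingCat.of R)))) → ℤ := fun ω =>
      if h : b.fiberι _ ω ⤳ b.fiberι _ y then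
        ((lam b (b.fiberι _ y) (b.fiberι _ ω) h).toNat : ℤ) else 0
    let mcη : ↥((f ≫ b).fiber (genericPoint ↥(Spec (CommRingCat.of R)))) → ℤ := fun ζ =>
      ((AlgebraicCycle.mapCoeff (fibMap f b (genericPoint ↥(Spec (CommRingCat.of R))))
        δXη δYη ζ : ℕ) : ℤ)
    let mcs : ↥((f ≫ b).fiber (closedPoint R)) → ℤ := fun x =>
      ((AlgebraicCycle.mapCoeff (fibMap f b (closedPoint R)) δXs δYs x : ℕ) : ℤ)
    let G : ↥((f ≫ b).fiber (genericPoint ↥(Spec (CommRingCat.of R)))) →
        ↥((f ≫ b).fiber (closedPoint R)) → ℤ := fun ζ x =>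
      if h : (f ≫ b).fiberι _ ζ ⤳ (f ≫ b).fiberι _ x then
        (if δXs x = δXη ζ then
          ((lam (f ≫ b) ((f ≫ b).fiberι _ x) ((f ≫ b).fiberι _ ζ) h).toNat : ℤ) else 0) else 0
    -- the left hand side
    have hLHS : ∑ᶠ ω : {ω : ↥(b.fiber (genericPoint ↥(Spec (CommRingCat.of R)))) //
          δYη ω = r ∧ (b.fiberι _ ω) ⤳ (b.fiberι _ y)},
        (AlgebraicCycle.map (fibMap f b (genericPoint ↥(Spec (CommRingCat.of R)))) δXη δYη α) ω.1 *
          ((lam b (b.fiberι _ y) (b.fiberι _ ω.1) ω.2.2).toNat : ℤ) =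
        ∑ ζ ∈ T, α ζ * (mcη ζ * LY (fibMap f b _ ζ)) := by
      have hA : ∀ ω : {ω : ↥(b.fiber (genericPoint ↥(Spec (CommRingCat.of R)))) //
          δYη ω = r ∧ (b.fiberι _ ω) ⤳ (b.fiberι _ y)},
          (AlgebraicCycle.map (fibMap f b (genericPoint ↥(Spec (CommRingCat.of R)))) δXη δYη α) ω.1 *
            ((lam b (b.fiberι _ y) (b.fiberι _ ω.1) ω.2.2).toNat : ℤ) =
          ∑ ζ ∈ T, (if fibMap f b _ ζ = ω.1 then α ζ * mcη ζ else 0) *
            ((lam b (b.fiberι _ y) (b.fiberι _ ω.1) ω.2.2).toNat : ℤ) := by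
        intro ω
        rw [← Finset.sum_mul]
        congr 1
        rw [map_apply', finsum_mem_def]
        rw [finsum_eq_sum_of_support_subset (s := T)]
        · refine Finset.sum_congr rfl (fun ζ _ => ?_)
          rw [Set.indicator_apply]
          by_cases hc : fibMap f b _ ζ = ω.1
          · rw [if_pos hc, if_pos (show ζ ∈ _ ⁻¹' {ω.1} from hc)]
          · rw [if_neg hc, if_neg (show ¬ ζ ∈ _ ⁻¹' {ω.1} from hc)]
        · intro ζ hζ
          rw [Function.mem_support] at hζ
          have hmem : ζ ∈ fibMap f b (genericPoint ↥(Spec (CommRingCat.of R))) ⁻¹' {ω.1} := by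
            by_contra hn
            exact hζ (Set.indicator_of_notMem hn _)
          rw [Set.indicator_of_mem hmem] at hζ
          rw [Finset.mem_coe, hTmem]
          refine ⟨left_ne_zero_of_mul hζ, ?_⟩
          have hc : fibMap f b _ ζ = ω.1 := hmem
          rw [hc]
          exact ω.2.2
      rw [finsum_congr hA]
      rw [finsum_sum_comm T]
      · refine Finset.sum_congr rfl (fun ζ hζ => ?_)
        by_cases hmc : AlgebraicCycle.mapCoeff (fibMap f b (genericPoint
            ↥(Spec (CommRingCat.of R)))) δXη δYη ζ = 0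
        · have hmc' : mcη ζ = 0 := by
            show ((AlgebraicCycle.mapCoeff _ δXη δYη ζ : ℕ) : ℤ) = 0
            rw [hmc]; rfl
          rw [hmc', zero_mul, mul_zero]
          apply finsum_eq_zero_of_forall_eq_zero
          intro ω
          rw [ite_self, zero_mul]
        · have hδ : δXη ζ = δYη (fibMap f b _ ζ) := by
            by_contra hne
            apply hmc
            unfold AlgebraicCycle.mapCoeff
            exact if_neg hne
          have hsp := ((hTmem ζ).mp hζ).2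
          have hr : δYη (fibMap f b _ ζ) = r := by rw [← hδ]; exact hTr ζ hζ
          rw [finsum_eq_single _ (⟨fibMap f b _ ζ, hr, hsp⟩ :
            {ω : ↥(b.fiber (genericPoint ↥(Spec (CommRingCat.of R)))) //
              δYη ω = r ∧ (b.fiberι _ ω) ⤳ (b.fiberι _ y)})]
          · rw [if_pos rfl]
            show _ = α ζ * (mcη ζ * (if h : b.fiberι _ (fibMap f b _ ζ) ⤳ b.fiberι _ y then
              ((lam b (b.fiberι _ y) (b.fiberι _ (fibMap f b _ ζ)) h).toNat : ℤ) else 0))
            rw [dif_pos hsp, mul_assoc]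
          · intro ω hω
            rw [if_neg, zero_mul]
            intro hc
            exact hω (Subtype.ext hc.symm)
      · intro ζ _
        have hsub : ({ω : {ω : ↥(b.fiber (genericPoint ↥(Spec (CommRingCat.of R)))) //
            δYη ω = r ∧ (b.fiberι _ ω) ⤳ (b.fiberι _ y)} |
            ω.1 = fibMap f b _ ζ}).Subsingleton :=
          fun ω1 h1 ω2 h2 => Subtype.ext (h1.trans h2.symm)
        refine hsub.finite.subset ?_
        intro ω hω
        rw [Function.mem_support] at hω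
        by_contra hne
        apply hω
        rw [if_neg (fun h => hne h.symm), zero_mul]
    -- the right hand side
    have hB : ∀ x ∈ fibMap f b (closedPoint R) ⁻¹' {y},
        β x * ((AlgebraicCycle.mapCoeff (fibMap f b (closedPoint R)) δXs δYs x : ℕ) : ℤ) =
          ∑ ζ ∈ T, α ζ * (G ζ x * mcs x) := by
      intro x hx
      have hxy : fibMap f b (closedPoint R) x = y := hx
      have hβx : β x = ∑ ζ ∈ T, α ζ * G ζ x := by
        rw [hβ, spFun_apply (f ≫ b) (genericPoint ↥(Spec (CommRingCat.of R))) (closedPoint R)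
          δXη δXs r _ x]
        by_cases hxr : δXs x = r
        · rw [if_pos hxr]
          have hD : ∀ ζ : {ζ : ↥((f ≫ b).fiber (genericPoint ↥(Spec (CommRingCat.of R)))) //
              δXη ζ = r ∧ ((f ≫ b).fiberι _ ζ) ⤳ ((f ≫ b).fiberι _ x)},
              α ζ.1 * ((lam (f ≫ b) ((f ≫ b).fiberι _ x) ((f ≫ b).fiberι _ ζ.1) ζ.2.2).toNat : ℤ) =
              (fun ζ => α ζ * G ζ x) ζ.1 := by
            intro ζ
            show _ = α ζ.1 * (if h : (f ≫ b).fiberι _ ζ.1 ⤳ (f ≫ b).fiberι _ x then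
              (if δXs x = δXη ζ.1 then
                ((lam (f ≫ b) ((f ≫ b).fiberι _ x) ((f ≫ b).fiberι _ ζ.1) h).toNat : ℤ) else 0)
              else 0)
            rw [dif_pos ζ.2.2, if_pos (by rw [hxr, ζ.2.1])]
          rw [finsum_congr hD, finsum_subtype_eq_finsum_cond (f := fun ζ => α ζ * G ζ x)
            (fun ζ => δXη ζ = r ∧ ((f ≫ b).fiberι _ ζ) ⤳ ((f ≫ b).fiberι _ x))]
          apply finsum_cond_eq_sum_of_cond_iff
          intro ζ hζ
          have hα0 : α ζ ≠ 0 := left_ne_zero_of_mul hζ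
          have hG0 : G ζ x ≠ 0 := right_ne_zero_of_mul hζ
          have hr : δXη ζ = r := by
            by_contra hne
            exact hα0 (hα ζ hne)
          have hsp : (f ≫ b).fiberι _ ζ ⤳ (f ≫ b).fiberι _ x := by
            by_contra hns
            apply hG0
            exact dif_neg hns
          rw [hTmem]
          constructor
          · intro _
            refine ⟨hα0, ?_⟩
            have h2 := specializes_fibMap b f ζ x hsp
            rwa [hxy] at h2
          · intro _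
            exact ⟨hr, hsp⟩
        · rw [if_neg hxr]
          symm
          apply Finset.sum_eq_zero
          intro ζ hζ
          have hG : G ζ x = 0 := by
            show (if h : (f ≫ b).fiberι _ ζ ⤳ (f ≫ b).fiberι _ x then
              (if δXs x = δXη ζ then
                ((lam (f ≫ b) ((f ≫ b).fiberι _ x) ((f ≫ b).fiberι _ ζ) h).toNat : ℤ) else 0)
              else 0) = 0
            by_cases hsp : (f ≫ b).fiberι _ ζ ⤳ (f ≫ b).fiberι _ x
            · rw [dif_pos hsp, if_neg (by rw [hTr ζ hζ]; exact hxr)]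
            · rw [dif_neg hsp]
          rw [hG, mul_zero]
      rw [hβx, Finset.sum_mul]
      refine Finset.sum_congr rfl (fun ζ _ => ?_)
      show α ζ * G ζ x * mcs x = α ζ * (G ζ x * mcs x)
      ring
    rw [hLHS, finsum_mem_congr rfl hB]
    -- swap the sums
    have hfinB : ∀ ζ ∈ T, (Function.support (fun x : ↥(fibMap f b (closedPoint R) ⁻¹' {y}) =>
        α ζ * (G ζ x.1 * mcs x.1))).Finite := by
      intro ζ _
      have h1 := finite_support_mult b f δXη δXs hXη hXs ζ y
      refine (h1.preimage Subtype.val_injective.injOn).subset ?_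
      intro x hx
      rw [Function.mem_support] at hx
      exact ⟨x.2, left_ne_zero_of_mul (right_ne_zero_of_mul hx)⟩
    have hsw : ∑ᶠ x ∈ fibMap f b (closedPoint R) ⁻¹' {y}, ∑ ζ ∈ T, α ζ * (G ζ x * mcs x) =
        ∑ ζ ∈ T, ∑ᶠ x ∈ fibMap f b (closedPoint R) ⁻¹' {y}, α ζ * (G ζ x * mcs x) := by
      calc _ = ∑ᶠ x : ↥(fibMap f b (closedPoint R) ⁻¹' {y}),
            ∑ ζ ∈ T, α ζ * (G ζ x.1 * mcs x.1) :=
          (finsum_set_coe_eq_finsum_mem (f := fun x => ∑ ζ ∈ T, α ζ * (G ζ x * mcs x)) _).symm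
        _ = ∑ ζ ∈ T, ∑ᶠ x : ↥(fibMap f b (closedPoint R) ⁻¹' {y}),
            α ζ * (G ζ x.1 * mcs x.1) := finsum_sum_comm T _ hfinB
        _ = _ := Finset.sum_congr rfl (fun ζ _ =>
          finsum_set_coe_eq_finsum_mem (f := fun x => α ζ * (G ζ x * mcs x)) _)
    rw [hsw]
    refine Finset.sum_congr rfl (fun ζ hζ => ?_)
    rw [← mul_finsum_mem]
    congr 1
    exact point_identity b f δXη δXs δYη δYs hXη hXs hYη hYs r ζ (hTr ζ hζ) y hy
  · rw [if_neg hy]
    symm
    apply finsum_mem_eq_zero_of_forall_eq_zero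
    intro x hx
    have hxy : fibMap f b (closedPoint R) x = y := hx
    by_cases hmc : AlgebraicCycle.mapCoeff (fibMap f b (closedPoint R)) δXs δYs x = 0
    · rw [hmc]; simp
    · have hδ : δXs x = δYs (fibMap f b _ x) := by
        by_contra hne
        apply hmc
        unfold AlgebraicCycle.mapCoeff
        exact if_neg hne
      rw [hβ, spFun_apply (f ≫ b) (genericPoint ↥(Spec (CommRingCat.of R))) (closedPoint R)
        δXη δXs r _ x, if_neg (by rw [hδ, hxy]; exact hy), zero_mul]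

end Main

end Groth.Agent.Lib.Helper7.CycSq
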