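import Mathlib
import Groth.Prelude.Def_EGA41
import Groth.Agent.Lib.Helper7PGen

set_option autoImplicit false
set_option linter.style.haveILetI false
set_option linter.unusedSectionVars false
open TensorProduct
universe u v w

namespace Groth.Agent.Lib.Helper7.PPow

section Transfer

/-- linear independence transfers along a bijective ring hom compatible with the actions -/
lemma linearIndependent_congr_ringHom {R R' M ι : Type*} [Ring R] [Ring R'] [AddCommGroup M]
    [Module R M] [Module R' M]
    (φ : R →+* R') (hφ : Function.Bijective φ) (hc : ∀ (r : R) (m : M), φ r • m = r • m)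
    (v : ι → M) : LinearIndependent R v ↔ LinearIndependent R' v := by
  constructor
  · intro h
    exact h.map_of_surjective_injective φ (AddMonoidHom.id M) hφ.2 (fun m hm => hm)
      (fun r m => (hc r m).symm)
  · intro h
    exact h.map_of_injective_injective φ (AddMonoidHom.id M)
      (fun r hr => hφ.1 (hr.trans (map_zero φ).symm)) (fun m hm => hm) (fun r m => hc r m)

lemma span_eq_top_congr_ringHom {R R' M : Type*} [Ring R] [Ring R'] [AddCommGroup M]
    [Module R M] [Module R' M]
    (φ : R →+* R') (hφ : Function.Surjective φ) (hc : ∀ (r : R) (m : M), φ r • m = r • m)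
    (s : Set M) : Submodule.span R s = ⊤ ↔ Submodule.span R' s = ⊤ := by
  have key : ∀ m : M, m ∈ Submodule.span R s ↔ m ∈ Submodule.span R' s := by
    intro m
    constructor
    · intro hm
      induction hm using Submodule.span_induction with
      | mem x hx => exact Submodule.subset_span hx
      | zero => exact zero_mem _
      | add x y _ _ hx hy => exact add_mem hx hy
      | smul r x _ hx => rw [← hc]; exact Submodule.smul_mem _ _ hx
    · intro hm
      induction hm using Submodule.span_induction with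
      | mem x hx => exact Submodule.subset_span hx
      | zero => exact zero_mem _
      | add x y _ _ hx hy => exact add_mem hx hy
      | smul r x _ hx =>
        obtain ⟨r', rfl⟩ := hφ r
        rw [hc]; exact Submodule.smul_mem _ _ hx
  rw [eq_top_iff, eq_top_iff]
  exact ⟨fun h m _ => (key m).1 (h trivial), fun h m _ => (key m).2 (h trivial)⟩

end Transfer

section T2

variable {R S A : Type*} [Semiring R] [Semiring S] [AddCommMonoid A]
  [Module R S] [Module S A] [Module R A] [IsScalarTower R S A]

/-- converse of `linearIndependent_smul` when `b` spans -/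
theorem linearIndependent_of_linearIndependent_smul {ι ι' : Type*} {b : ι → S} {c : ι' → A}
    (hb : Submodule.span R (Set.range b) = ⊤)
    (h : LinearIndependent R fun p : ι × ι' ↦ b p.1 • c p.2) : LinearIndependent S c := by
  rw [← linearIndependent_equiv' (Equiv.prodComm ι' ι) (g := fun p : ι' × ι ↦ b p.2 • c p.1) rfl,
    LinearIndependent, Finsupp.linearCombination_smul] at h
  have hsurj0 : Function.Surjective (Finsupp.linearCombination R b) := by
    rw [← LinearMap.range_eq_top, Finsupp.range_linearCombination, hb]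
  have hsurj : Function.Surjective
      (Finsupp.mapRange.linearMap (α := ι') (Finsupp.linearCombination R b)) :=
    Finsupp.mapRange_surjective _ (map_zero _) hsurj0
  intro x y hxy
  obtain ⟨x', rfl⟩ := hsurj x
  obtain ⟨y', rfl⟩ := hsurj y
  obtain ⟨x'', rfl⟩ := (Finsupp.curryLinearEquiv R).surjective x'
  obtain ⟨y'', rfl⟩ := (Finsupp.curryLinearEquiv R).surjective y'
  have := h (a₁ := x'') (a₂ := y'') (by simpa using hxy)
  rw [this]

end T2


section Tower

variable (p : ℕ) {A C B : Type u} [CommRing A] [CommRing C]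
    [CommRing B] [Algebra A C] [Algebra C B] [Algebra A B] [IsScalarTower A C B]

lemma pow_mem_pPowerSubalgebra' (b : B) : b ^ p ∈ EGA41.pPowerSubalgebra p A B :=
  Algebra.subset_adjoin ⟨b, rfl⟩

lemma algebraMap_mem_pPowerSubalgebra {r : C} (hr : r ∈ EGA41.pPowerSubalgebra p A C) :
    algebraMap C B r ∈ EGA41.pPowerSubalgebra p A B := by
  rw [EGA41.pPowerSubalgebra] at hr
  induction hr using Algebra.adjoin_induction with
  | mem x hx =>
    obtain ⟨c, rfl⟩ := hx
    simp only [map_pow]
    exact pow_mem_pPowerSubalgebra' p _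
  | algebraMap a =>
    rw [← IsScalarTower.algebraMap_apply]
    exact Subalgebra.algebraMap_mem _ a
  | add x y _ _ hx hy => rw [map_add]; exact add_mem hx hy
  | mul x y _ _ hx hy => rw [map_mul]; exact mul_mem hx hy

omit [Algebra A C] [Algebra C B] [IsScalarTower A C B] in
lemma mem_range_algebraMap_of_mem_pPowerSubalgebra
    (hpow : ∀ b : B, b ^ p ∈ Set.range (algebraMap A B)) {r : B}
    (hr : r ∈ EGA41.pPowerSubalgebra p A B) : r ∈ Set.range (algebraMap A B) := by
  rw [EGA41.pPowerSubalgebra] at hr
  change r ∈ (algebraMap A B).range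
  induction hr using Algebra.adjoin_induction with
  | mem x hx => obtain ⟨b, rfl⟩ := hx; exact hpow b
  | algebraMap a => exact ⟨a, rfl⟩
  | add x y _ _ hx hy => exact add_mem hx hy
  | mul x y _ _ hx hy => exact mul_mem hx hy

/-- the comparison ring hom `A[C^p] → A[B^p]` -/
noncomputable def phi13 : EGA41.pPowerSubalgebra p A C →+* EGA41.pPowerSubalgebra p A B :=
  RingHom.codRestrict ((algebraMap C B).comp (EGA41.pPowerSubalgebra p A C).val.toRingHom)
    (EGA41.pPowerSubalgebra p A B)
    (fun r => algebraMap_mem_pPowerSubalgebra (A := A) (C := C) (B := B) p r.2)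

lemma phi13_val (r : EGA41.pPowerSubalgebra p A C) :
    ((phi13 p r : EGA41.pPowerSubalgebra p A B) : B) = algebraMap C B r.1 := rfl

lemma phi13_smul (r : EGA41.pPowerSubalgebra p A C) (m : B) :
    phi13 (B := B) p r • m = r • m := by
  rw [Subalgebra.smul_def, Subalgebra.smul_def, phi13_val, smul_eq_mul, Algebra.smul_def]

lemma phi13_bijective (hinj : Function.Injective (algebraMap C B))
    (hpow : ∀ b : B, b ^ p ∈ Set.range (algebraMap A B)) :
    Function.Bijective (phi13 (A := A) (C := C) (B := B) p) := by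
  constructor
  · intro r s hrs
    have := congrArg Subtype.val hrs
    rw [phi13_val, phi13_val] at this
    exact Subtype.ext (hinj this)
  · intro s
    obtain ⟨a, ha⟩ := mem_range_algebraMap_of_mem_pPowerSubalgebra p hpow s.2
    refine ⟨⟨algebraMap A C a, Subalgebra.algebraMap_mem _ a⟩, Subtype.ext ?_⟩
    rw [phi13_val, ← ha, ← IsScalarTower.algebraMap_apply]

lemma algebraMap_pPowerSubalgebra_bijective (hinj : Function.Injective (algebraMap C B))
    (hpow : ∀ b : B, b ^ p ∈ Set.range (algebraMap A B)) :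
    Function.Bijective (algebraMap C (EGA41.pPowerSubalgebra p C B)) := by
  constructor
  · intro r s hrs
    exact hinj (congrArg Subtype.val hrs)
  · intro s
    have hpow' : ∀ b : B, b ^ p ∈ Set.range (algebraMap C B) := by
      intro b
      obtain ⟨a, ha⟩ := hpow b
      exact ⟨algebraMap A C a, by rw [← IsScalarTower.algebraMap_apply, ha]⟩
    obtain ⟨c, hc⟩ := mem_range_algebraMap_of_mem_pPowerSubalgebra p hpow' s.2
    exact ⟨c, Subtype.ext hc⟩

omit [Algebra A C] [Algebra A B] [IsScalarTower A C B] in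
lemma algebraMap_pPowerSubalgebra_smul (c : C) (m : B) :
    algebraMap C (EGA41.pPowerSubalgebra p C B) c • m = c • m := by
  rw [Subalgebra.smul_def, smul_eq_mul, Algebra.smul_def]
  rfl

omit [Algebra A C] [Algebra C B] [IsScalarTower A C B] [Algebra A B] in
lemma pMonomial_sumElim {ι κ : Type u} (z : ι ⊕ κ → B) (a : ι →₀ ℕ) (b : κ →₀ ℕ) :
    EGA41.pMonomial z (Finsupp.sumElim a b) =
      EGA41.pMonomial (fun i => z (Sum.inl i)) a * EGA41.pMonomial (fun j => z (Sum.inr j)) b := by
  have h1 : Finsupp.sumElim a b = Finsupp.embDomain Function.Embedding.inl a +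
      Finsupp.embDomain Function.Embedding.inr b := by
    ext (i | j) <;> simp
  rw [EGA41.pMonomial, h1, Finsupp.prod_add_index' (fun _ => pow_zero _)
    (fun _ _ _ => pow_add _ _ _), Finsupp.prod_embDomain, Finsupp.prod_embDomain]
  rfl

omit [Algebra A C] [IsScalarTower A C B] [Algebra A B] in
lemma algebraMap_pMonomial {ι : Type u} (x : ι → C) (e : ι →₀ ℕ) :
    algebraMap C B (EGA41.pMonomial x e) = EGA41.pMonomial (fun i => algebraMap C B (x i)) e := by
  rw [EGA41.pMonomial, EGA41.pMonomial, map_finsuppProd]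
  simp only [map_pow]

/-- the reindexing equivalence on reduced exponent vectors -/
noncomputable def expEquiv (ι κ : Type u) :
    {e : ι →₀ ℕ // ∀ i, e i < p} × {f : κ →₀ ℕ // ∀ j, f j < p} ≃
      {g : ι ⊕ κ →₀ ℕ // ∀ i, g i < p} where
  toFun ef := ⟨Finsupp.sumElim ef.1.1 ef.2.1, by
    rintro (i | j)
    · exact ef.1.2 i
    · exact ef.2.2 j⟩
  invFun g := (⟨(Finsupp.sumFinsuppEquivProdFinsupp g.1).1, fun i => g.2 (Sum.inl i)⟩,
    ⟨(Finsupp.sumFinsuppEquivProdFinsupp g.1).2, fun j => g.2 (Sum.inr j)⟩)
  left_inv ef := by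
    obtain ⟨⟨e, he⟩, ⟨f, hf⟩⟩ := ef
    have := Finsupp.sumFinsuppEquivProdFinsupp.right_inv (e, f)
    simp only [Prod.mk.injEq, Subtype.mk.injEq]
    exact ⟨congrArg Prod.fst this, congrArg Prod.snd this⟩
  right_inv g := by
    obtain ⟨g, hg⟩ := g
    exact Subtype.ext (Finsupp.sumFinsuppEquivProdFinsupp.left_inv g)

end Tower


section TowerMain

variable (p : ℕ) [Fact p.Prime] {A C B : Type u} [CommRing A] [CommRing C]
    [CommRing B] [Algebra A C] [Algebra C B] [Algebra A B] [IsScalarTower A C B] [CharP B p]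

theorem isPGenerating_tower (hinj : Function.Injective (algebraMap C B))
    {ι κ : Type u} (x : ι → C) (y : κ → B)
    (hx : EGA41.IsPGenerating p A x) (hy : EGA41.IsPGenerating p C y) :
    EGA41.IsPGenerating p A (Sum.elim (fun i => algebraMap C B (x i)) y) := by
  haveI : CharP C p := RingHom.charP (algebraMap C B) hinj p
  rw [← adjoin_eq_top_iff_isPGenerating] at hx hy ⊢
  set S := Algebra.adjoin (EGA41.pPowerSubalgebra p A B)
    (Set.range (Sum.elim (fun i => algebraMap C B (x i)) y)) with hS
  have h1 : ∀ r ∈ EGA41.pPowerSubalgebra p A C, algebraMap C B r ∈ S := by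
    intro r hr
    have := algebraMap_mem_pPowerSubalgebra (B := B) p hr
    exact Subalgebra.algebraMap_mem S ⟨_, this⟩
  have h2 : ∀ c : C, algebraMap C B c ∈ S := by
    intro c
    have hc : c ∈ Algebra.adjoin (EGA41.pPowerSubalgebra p A C) (Set.range x) := by
      rw [hx]; trivial
    induction hc using Algebra.adjoin_induction with
    | mem z hz => obtain ⟨i, rfl⟩ := hz; exact Algebra.subset_adjoin ⟨Sum.inl i, rfl⟩
    | algebraMap r => exact h1 r.1 r.2
    | add a b _ _ ha hb => rw [map_add]; exact add_mem ha hb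
    | mul a b _ _ ha hb => rw [map_mul]; exact mul_mem ha hb
  have h3 : ∀ r ∈ EGA41.pPowerSubalgebra p C B, r ∈ S := by
    intro r hr
    rw [EGA41.pPowerSubalgebra] at hr
    induction hr using Algebra.adjoin_induction with
    | mem z hz =>
      obtain ⟨b, rfl⟩ := hz
      exact Subalgebra.algebraMap_mem S ⟨_, pow_mem_pPowerSubalgebra' p b⟩
    | algebraMap c => exact h2 c
    | add a b _ _ ha hb => exact add_mem ha hb
    | mul a b _ _ ha hb => exact mul_mem ha hb
  rw [eq_top_iff]
  intro b hb0
  clear hb0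
  have hb : b ∈ Algebra.adjoin (EGA41.pPowerSubalgebra p C B) (Set.range y) := by
    rw [hy]; trivial
  induction hb using Algebra.adjoin_induction with
  | mem z hz => obtain ⟨j, rfl⟩ := hz; exact Algebra.subset_adjoin ⟨Sum.inr j, rfl⟩
  | algebraMap r => exact h3 r.1 r.2
  | add a b _ _ ha hb => exact add_mem ha hb
  | mul a b _ _ ha hb => exact mul_mem ha hb

theorem isPIndependent_tower (hinj : Function.Injective (algebraMap C B))
    (hpow : ∀ b : B, b ^ p ∈ Set.range (algebraMap A B))
    {ι κ : Type u} (x : ι → C) (y : κ → B) (hx : EGA41.IsPBasis p A x) :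
    EGA41.IsPIndependent p C y ↔
      EGA41.IsPIndependent p A (Sum.elim (fun i => algebraMap C B (x i)) y) := by
  obtain ⟨hxi, hxg⟩ := hx
  rw [EGA41.IsPIndependent] at hxi
  rw [EGA41.IsPGenerating] at hxg
  have hB := linearIndependent_congr_ringHom (algebraMap C (EGA41.pPowerSubalgebra p C B))
    (algebraMap_pPowerSubalgebra_bijective (A := A) p hinj hpow)
    (algebraMap_pPowerSubalgebra_smul p)
    (fun f : {f : κ →₀ ℕ // ∀ j, f j < p} => EGA41.pMonomial y f.1)
  have hA : LinearIndependent C (fun f : {f : κ →₀ ℕ // ∀ j, f j < p} => EGA41.pMonomial y f.1) ↔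
      LinearIndependent (EGA41.pPowerSubalgebra p A C)
        (fun ef : {e : ι →₀ ℕ // ∀ i, e i < p} × {f : κ →₀ ℕ // ∀ j, f j < p} =>
          EGA41.pMonomial x ef.1.1 • EGA41.pMonomial y ef.2.1) :=
    ⟨fun h => linearIndependent_smul hxi h,
      fun h => linearIndependent_of_linearIndependent_smul hxg h⟩
  have hC := linearIndependent_congr_ringHom (phi13 (A := A) (C := C) (B := B) p)
    (phi13_bijective p hinj hpow) (phi13_smul p)
    (fun ef : {e : ι →₀ ℕ // ∀ i, e i < p} × {f : κ →₀ ℕ // ∀ j, f j < p} =>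
          EGA41.pMonomial x ef.1.1 • EGA41.pMonomial y ef.2.1)
  have hD := linearIndependent_equiv' (R := EGA41.pPowerSubalgebra p A B) (expEquiv p ι κ)
    (f := fun g : {g : ι ⊕ κ →₀ ℕ // ∀ i, g i < p} =>
      EGA41.pMonomial (Sum.elim (fun i => algebraMap C B (x i)) y) g.1)
    (g := fun ef : {e : ι →₀ ℕ // ∀ i, e i < p} × {f : κ →₀ ℕ // ∀ j, f j < p} =>
          EGA41.pMonomial x ef.1.1 • EGA41.pMonomial y ef.2.1) (by
      funext ef
      obtain ⟨⟨e, he⟩, ⟨f, hf⟩⟩ := ef
      change EGA41.pMonomial _ (Finsupp.sumElim e f) = EGA41.pMonomial x e • EGA41.pMonomial y f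
      rw [pMonomial_sumElim, Algebra.smul_def, algebraMap_pMonomial]
      rfl)
  rw [EGA41.IsPIndependent, EGA41.IsPIndependent, ← hB, hA, hC, hD]

end TowerMain

end Groth.Agent.Lib.Helper7.PPow
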