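import Mathlib
import Groth.Prelude.Def_EGA41
import Groth.Agent.Lib.Helper7PTower
import Groth.Agent.Lib.Helper7PBasis

set_option autoImplicit false
set_option linter.style.haveILetI false
set_option linter.unusedSectionVars false
open TensorProduct KaehlerDifferential
universe u v w

namespace Groth.Agent.Lib.Helper7.PPow

section Carrier

variable (p : ℕ) {R₁ R₂ A : Type u} [CommRing R₁] [CommRing R₂] [CommRing A]
  [Algebra R₁ A] [Algebra R₂ A]

lemma mem_pPowerSubalgebra_of_forall_algebraMap_mem
    (h12 : ∀ r, algebraMap R₁ A r ∈ EGA41.pPowerSubalgebra p R₂ A) {a : A}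
    (ha : a ∈ EGA41.pPowerSubalgebra p R₁ A) : a ∈ EGA41.pPowerSubalgebra p R₂ A := by
  rw [EGA41.pPowerSubalgebra] at ha
  induction ha using Algebra.adjoin_induction with
  | mem x hx => obtain ⟨b, rfl⟩ := hx; exact pow_mem_pPowerSubalgebra' p b
  | algebraMap r => exact h12 r
  | add x y _ _ hx hy => exact add_mem hx hy
  | mul x y _ _ hx hy => exact mul_mem hx hy

/-- identity-on-elements ring hom between `R₁[A^p]` and `R₂[A^p]` -/
noncomputable def carrierHom (h12 : ∀ r, algebraMap R₁ A r ∈ EGA41.pPowerSubalgebra p R₂ A) :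
    EGA41.pPowerSubalgebra p R₁ A →+* EGA41.pPowerSubalgebra p R₂ A :=
  RingHom.codRestrict (EGA41.pPowerSubalgebra p R₁ A).val.toRingHom
    (EGA41.pPowerSubalgebra p R₂ A)
    (fun r => mem_pPowerSubalgebra_of_forall_algebraMap_mem p h12 r.2)

lemma carrierHom_val (h12 : ∀ r, algebraMap R₁ A r ∈ EGA41.pPowerSubalgebra p R₂ A)
    (r : EGA41.pPowerSubalgebra p R₁ A) : ((carrierHom p h12 r : _) : A) = r.1 := rfl

lemma carrierHom_smul (h12 : ∀ r, algebraMap R₁ A r ∈ EGA41.pPowerSubalgebra p R₂ A)
    (r : EGA41.pPowerSubalgebra p R₁ A) (m : A) : carrierHom p h12 r • m = r • m := by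
  rw [Subalgebra.smul_def, Subalgebra.smul_def, carrierHom_val]

lemma carrierHom_bijective (h12 : ∀ r, algebraMap R₁ A r ∈ EGA41.pPowerSubalgebra p R₂ A)
    (h21 : ∀ r, algebraMap R₂ A r ∈ EGA41.pPowerSubalgebra p R₁ A) :
    Function.Bijective (carrierHom p h12) := by
  constructor
  · intro r s hrs
    have h := congrArg Subtype.val hrs
    rw [carrierHom_val, carrierHom_val] at h
    exact Subtype.ext h
  · intro s
    exact ⟨⟨s.1, mem_pPowerSubalgebra_of_forall_algebraMap_mem p h21 s.2⟩, Subtype.ext rfl⟩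

theorem isPIndependent_congr_base (h12 : ∀ r, algebraMap R₁ A r ∈ EGA41.pPowerSubalgebra p R₂ A)
    (h21 : ∀ r, algebraMap R₂ A r ∈ EGA41.pPowerSubalgebra p R₁ A) {ι : Type u} (z : ι → A) :
    EGA41.IsPIndependent p R₁ z ↔ EGA41.IsPIndependent p R₂ z :=
  linearIndependent_congr_ringHom (carrierHom p h12) (carrierHom_bijective p h12 h21)
    (carrierHom_smul p h12) _

theorem isPGenerating_congr_base (h12 : ∀ r, algebraMap R₁ A r ∈ EGA41.pPowerSubalgebra p R₂ A)
    (h21 : ∀ r, algebraMap R₂ A r ∈ EGA41.pPowerSubalgebra p R₁ A) {ι : Type u} (z : ι → A) :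
    EGA41.IsPGenerating p R₁ z ↔ EGA41.IsPGenerating p R₂ z :=
  span_eq_top_congr_ringHom (carrierHom p h12) (carrierHom_bijective p h12 h21).2
    (carrierHom_smul p h12) _

end Carrier

section SpanD

variable (p : ℕ) [Fact p.Prime] {A₀ A : Type u} [CommRing A₀] [CommRing A] [Algebra A₀ A]
  [CharP A p]

/-- differentials over an auxiliary base `S` killing the image of `A₀`: the `D z_i` span. -/
theorem span_D_eq_top_of_isPGenerating' (S : Type v) [CommRing S] [Algebra S A]
    (h0 : ∀ a₀ : A₀, D S A (algebraMap A₀ A a₀) = 0) {ι : Type u} (z : ι → A)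
    (h : EGA41.IsPGenerating p A₀ z) :
    Submodule.span A (Set.range fun i => D S A (z i)) = ⊤ := by
  rw [← adjoin_eq_top_iff_isPGenerating] at h
  have hzero : ∀ r ∈ EGA41.pPowerSubalgebra p A₀ A, D S A r = 0 := by
    intro r hr
    rw [EGA41.pPowerSubalgebra] at hr
    induction hr using Algebra.adjoin_induction with
    | mem x hx =>
      obtain ⟨b, rfl⟩ := hx
      change D S A (b ^ p) = 0
      rw [Derivation.leibniz_pow, ← Nat.cast_smul_eq_nsmul A, CharP.cast_eq_zero, zero_smul]
    | algebraMap r => exact h0 r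
    | add x y _ _ hx hy => rw [map_add, hx, hy, add_zero]
    | mul x y _ _ hx hy => rw [Derivation.leibniz, hx, hy, smul_zero, smul_zero, add_zero]
  set T := Submodule.span A (Set.range fun i => D S A (z i)) with hT
  have key : ∀ b : A, D S A b ∈ T := by
    intro b
    have hb : b ∈ Algebra.adjoin (EGA41.pPowerSubalgebra p A₀ A) (Set.range z) := by
      rw [h]; trivial
    induction hb using Algebra.adjoin_induction with
    | mem w hw =>
      obtain ⟨i, rfl⟩ := hw
      exact Submodule.subset_span ⟨i, rfl⟩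
    | algebraMap r =>
      have : D S A (algebraMap (EGA41.pPowerSubalgebra p A₀ A) A r) = 0 := hzero r.1 r.2
      rw [this]
      exact zero_mem _
    | add a c _ _ ha hc => rw [map_add]; exact add_mem ha hc
    | mul a c _ _ ha hc =>
      rw [Derivation.leibniz]
      exact add_mem (Submodule.smul_mem _ _ hc) (Submodule.smul_mem _ _ ha)
  rw [eq_top_iff, ← KaehlerDifferential.span_range_derivation S A, Submodule.span_le]
  rintro _ ⟨b, rfl⟩
  exact key b

end SpanD

section Psi

variable (p : ℕ) [Fact p.Prime] {A B : Type u} [CommRing A] [CommRing B] [Algebra A B] [CharP B p]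
  (hinj : Function.Injective (algebraMap A B))
  (hpow : ∀ b : B, b ^ p ∈ Set.range (algebraMap A B))

/-- the lift of Frobenius `B → A`, when `B^p ⊆ A ⊆ B` -/
noncomputable def frobLift : B →+* A where
  toFun b := Classical.choose (hpow b)
  map_one' := hinj (by rw [Classical.choose_spec (hpow 1), one_pow, map_one])
  map_mul' a b := hinj (by
    rw [map_mul, Classical.choose_spec (hpow _), Classical.choose_spec (hpow a),
      Classical.choose_spec (hpow b), mul_pow])
  map_zero' := hinj (by
    rw [Classical.choose_spec (hpow 0), zero_pow (Fact.out : p.Prime).ne_zero, map_zero])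
  map_add' a b := hinj (by
    rw [map_add, Classical.choose_spec (hpow _), Classical.choose_spec (hpow a),
      Classical.choose_spec (hpow b), add_pow_char])

lemma algebraMap_frobLift (b : B) : algebraMap A B (frobLift p hinj hpow b) = b ^ p :=
  Classical.choose_spec (hpow b)

lemma frobLift_injective [IsReduced B] : Function.Injective (frobLift p hinj hpow) := by
  rw [injective_iff_map_eq_zero]
  intro b hb
  have := algebraMap_frobLift p hinj hpow b
  rw [hb, map_zero] at this
  exact IsReduced.eq_zero _ ⟨p, this.symm⟩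

lemma frobLift_algebraMap (a : A) : frobLift p hinj hpow (algebraMap A B a) = a ^ p :=
  hinj (by rw [algebraMap_frobLift, map_pow])

end Psi


section Twist

/-- type synonym: the source of the Frobenius `A → A` -/
def FrobSrc (A : Type u) : Type u := A

instance (A : Type u) [CommRing A] : CommRing (FrobSrc A) := inferInstanceAs (CommRing A)

variable (p : ℕ) [Fact p.Prime] {R A B : Type u} [CommRing R] [CommRing A]
    [CommRing B] [IsReduced B] [Algebra R A] [Algebra A B] [Algebra R B] [IsScalarTower R A B]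
    [CharP B p]

theorem twist_main
    (hinj : Function.Injective (algebraMap A B))
    (hpow : ∀ b : B, b ^ p ∈ Set.range (algebraMap A B))
    (hR : Set.range (algebraMap R B) = Set.range fun b : B => b ^ p)
    {Λ M : Type u} (x : Λ → B) (hx : EGA41.IsPBasis p A x) (x' : Λ → A)
    (hx' : ∀ i, algebraMap A B (x' i) = x i ^ p)
    (y : M → A) (hy : EGA41.IsPBasis p R y) :
    LinearIndependent A (fun i : Λ ⊕ M => D ℤ A (Sum.elim x' y i)) ∧
    Submodule.span A (Set.range fun i : Λ ⊕ M => D ℤ A (Sum.elim x' y i)) = ⊤ := by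
  haveI : CharP A p := RingHom.charP (algebraMap A B) hinj p
  set ψ := frobLift p hinj hpow with hψ
  letI algB : Algebra (FrobSrc A) B := inferInstanceAs (Algebra A B)
  letI algBA : Algebra B A := ψ.toAlgebra
  letI algA : Algebra (FrobSrc A) A :=
    RingHom.toAlgebra (show FrobSrc A →+* A from frobenius A p)
  haveI : IsScalarTower (FrobSrc A) B A := IsScalarTower.of_algebraMap_eq (fun a => by
    change (show A from a) ^ p = ψ (algebraMap A B a)
    rw [hψ, frobLift_algebraMap])
  have hx0 : EGA41.IsPBasis p (FrobSrc A) x := hx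
  have h12 : ∀ r, algebraMap R A r ∈ EGA41.pPowerSubalgebra p B A := by
    intro r
    obtain ⟨b, hb⟩ : algebraMap R B r ∈ Set.range fun b : B => b ^ p := hR ▸ ⟨r, rfl⟩
    have : algebraMap R A r = algebraMap B A b := hinj (by
      rw [← IsScalarTower.algebraMap_apply]
      change _ = algebraMap A B (ψ b)
      rw [hψ, algebraMap_frobLift]
      exact hb.symm)
    rw [this]
    exact Subalgebra.algebraMap_mem _ b
  have h21 : ∀ b, algebraMap B A b ∈ EGA41.pPowerSubalgebra p R A := by
    intro b
    obtain ⟨r, hr⟩ : b ^ p ∈ Set.range (algebraMap R B) := hR ▸ ⟨b, rfl⟩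
    have : algebraMap B A b = algebraMap R A r := hinj (by
      change algebraMap A B (ψ b) = _
      rw [hψ, algebraMap_frobLift, ← IsScalarTower.algebraMap_apply, hr])
    rw [this]
    exact Subalgebra.algebraMap_mem _ r
  have hyi : EGA41.IsPIndependent p B y := (isPIndependent_congr_base p h12 h21 y).1 hy.1
  have hyg : EGA41.IsPGenerating p B y := (isPGenerating_congr_base p h12 h21 y).1 hy.2
  have hinj' : Function.Injective (algebraMap B A) := frobLift_injective p hinj hpow
  have hpow' : ∀ a : A, a ^ p ∈ Set.range (algebraMap (FrobSrc A) A) := fun a => ⟨a, rfl⟩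
  have hzg := isPGenerating_tower p hinj' x y hx0.2 hyg
  have hzi := (isPIndependent_tower p hinj' hpow' x y hx0).1 hyi
  have hz_eq : (Sum.elim (fun i => algebraMap B A (x i)) y) = Sum.elim x' y := by
    funext i
    rcases i with i | j
    · change ψ (x i) = x' i
      apply hinj
      rw [hψ, algebraMap_frobLift, hx']
    · rfl
  rw [hz_eq] at hzg hzi
  have h0 : ∀ a₀ : FrobSrc A, D ℤ A (algebraMap (FrobSrc A) A a₀) = 0 := by
    intro a₀
    change D ℤ A ((show A from a₀) ^ p) = 0
    rw [Derivation.leibniz_pow, ← Nat.cast_smul_eq_nsmul A, CharP.cast_eq_zero, zero_smul]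
  refine ⟨?_, span_D_eq_top_of_isPGenerating' p ℤ h0 _ hzg⟩
  have hli := linearIndependent_D_of_isPBasis p _ ⟨hzi, hzg⟩
  refine LinearIndependent.of_comp (KaehlerDifferential.map ℤ (FrobSrc A) A A) ?_
  convert hli using 1
  funext i
  simp only [Function.comp, KaehlerDifferential.map_D]
  rfl

end Twist


section KerBasis

variable {S V W : Type*} [CommRing S] [AddCommGroup V] [AddCommGroup W] [Module S V] [Module S W]
  {Λ M : Type*}

theorem ker_eq_span_of_basis_sum (b : Module.Basis (Λ ⊕ M) S V) (f : V →ₗ[S] W)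
    (h0 : ∀ i, f (b (Sum.inl i)) = 0)
    (h1 : LinearIndependent S (fun j => f (b (Sum.inr j)))) :
    LinearMap.ker f = Submodule.span S (Set.range fun i => b (Sum.inl i)) := by
  classical
  apply le_antisymm
  · intro v hv
    set π : V →ₗ[S] (M →₀ S) :=
      (Finsupp.lcomapDomain (Sum.inr : M → Λ ⊕ M) Sum.inr_injective) ∘ₗ b.repr.toLinearMap with hπ
    set g : (M →₀ S) →ₗ[S] W := Finsupp.linearCombination S (fun j => f (b (Sum.inr j))) with hg
    have hfg : f = g ∘ₗ π := by
      apply b.ext
      rintro (i | j)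
      · rw [h0, LinearMap.comp_apply, hπ, LinearMap.comp_apply, LinearEquiv.coe_coe,
          Module.Basis.repr_self, Finsupp.lcomapDomain_apply,
          Finsupp.comapDomain_single_of_not_mem_range (by simp), map_zero]
      · rw [LinearMap.comp_apply, hπ, LinearMap.comp_apply, LinearEquiv.coe_coe,
          Module.Basis.repr_self, Finsupp.lcomapDomain_apply, Finsupp.comapDomain_single, hg,
          Finsupp.linearCombination_single, one_smul]
    have hπv : π v = 0 := by
      have : g (π v) = 0 := by
        rw [← LinearMap.comp_apply, ← hfg]; exact hv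
      exact h1 (this.trans (map_zero g).symm)
    have hsupp : ((b.repr v).support : Set (Λ ⊕ M)) ⊆ Set.range Sum.inl := by
      rintro (i | j) hk
      · exact ⟨i, rfl⟩
      · exfalso
        have : (π v) j = 0 := by rw [hπv]; rfl
        rw [hπ, LinearMap.comp_apply, Finsupp.lcomapDomain_apply, Finsupp.comapDomain_apply] at this
        exact (Finsupp.mem_support_iff.1 hk) this
    have := (b.mem_span_image (m := v) (s := Set.range Sum.inl)).2 hsupp
    rw [← Set.range_comp] at this
    exact this
  · rw [Submodule.span_le]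
    rintro _ ⟨i, rfl⟩
    exact h0 i

theorem exists_basis_ker_of_basis_sum (b : Module.Basis (Λ ⊕ M) S V) (f : V →ₗ[S] W)
    (h0 : ∀ i, f (b (Sum.inl i)) = 0)
    (h1 : LinearIndependent S (fun j => f (b (Sum.inr j)))) :
    ∃ c : Module.Basis Λ S (LinearMap.ker f), ∀ i, (c i : V) = b (Sum.inl i) := by
  have hli : LinearIndependent S (fun i => b (Sum.inl i)) :=
    b.linearIndependent.comp Sum.inl Sum.inl_injective
  have hker := ker_eq_span_of_basis_sum b f h0 h1
  refine ⟨(Module.Basis.span hli).map (LinearEquiv.ofEq _ _ hker.symm), fun i => ?_⟩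
  rw [Module.Basis.map_apply, LinearEquiv.coe_ofEq_apply, Module.Basis.span_apply]

end KerBasis


section Final

variable (p : ℕ) [Fact p.Prime] {R A B : Type u} [CommRing R] [CommRing A]
    [CommRing B] [IsReduced B] [Algebra R A] [Algebra A B] [Algebra R B] [IsScalarTower R A B]
    [CharP B p]

theorem imperfection_basis_of_pBasis_reduced
    (hinj : Function.Injective (algebraMap A B))
    (hpow : ∀ b : B, b ^ p ∈ Set.range (algebraMap A B))
    (hR : Set.range (algebraMap R B) = Set.range fun b : B => b ^ p)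
    {Λ M : Type u} (x : Λ → B) (hx : EGA41.IsPBasis p A x) (x' : Λ → A)
    (hx' : ∀ i, algebraMap A B (x' i) = x i ^ p)
    (y : M → A) (hy : EGA41.IsPBasis p R y) :
    ∃ b : Module.Basis Λ B (EGA41.imperfection ℤ A B),
      ∀ i, (b i : B ⊗[A] Ω[A⁄ℤ]) = (1 : B) ⊗ₜ[A] D ℤ A (x' i) := by
  obtain ⟨hli, hsp⟩ := twist_main p hinj hpow hR x hx x' hx' y hy
  set bA : Module.Basis (Λ ⊕ M) A (Ω[A⁄ℤ]) := Module.Basis.mk hli hsp.ge with hbA
  have hbA_apply : ∀ i, bA i = D ℤ A (Sum.elim x' y i) := fun i => by
    rw [hbA, Module.Basis.mk_apply]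
  set bB := bA.baseChange B with hbB
  have hbB_apply : ∀ i, bB i = (1 : B) ⊗ₜ[A] D ℤ A (Sum.elim x' y i) := fun i => by
    rw [hbB, Module.Basis.baseChange_apply, hbA_apply]
  have hf : ∀ a : A, mapBaseChange ℤ A B ((1 : B) ⊗ₜ[A] D ℤ A a) = D ℤ B (algebraMap A B a) := by
    intro a
    rw [mapBaseChange_tmul, one_smul, map_D]
  have hpow₁ : ∀ b : B, b ^ p ∈ Set.range (algebraMap R B) := fun b => hR ▸ ⟨b, rfl⟩
  have hzg := isPGenerating_tower p hinj y x hy.2 hx.2
  have hzi := (isPIndependent_tower p hinj hpow₁ y x hy).1 hx.1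
  have hliB := linearIndependent_D_of_isPBasis p _ ⟨hzi, hzg⟩
  have hliB' : LinearIndependent B (fun j : M => D ℤ B (algebraMap A B (y j))) := by
    refine LinearIndependent.of_comp (KaehlerDifferential.map ℤ R B B) ?_
    have := hliB.comp Sum.inl Sum.inl_injective
    convert this using 1
    funext j
    simp only [Function.comp, map_D, Sum.elim_inl]
    rfl
  obtain ⟨c, hc⟩ := exists_basis_ker_of_basis_sum bB (mapBaseChange ℤ A B)
    (fun i => by
      rw [hbB_apply, hf, Sum.elim_inl, hx', Derivation.leibniz_pow,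
        ← Nat.cast_smul_eq_nsmul B, CharP.cast_eq_zero, zero_smul])
    (by
      convert hliB' using 2 with j
      rw [hbB_apply, hf, Sum.elim_inr])
  exact ⟨c, fun i => (hc i).trans (by rw [hbB_apply, Sum.elim_inl])⟩

end Final

end Groth.Agent.Lib.Helper7.PPow
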