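import Mathlib
import Groth.Agent.Lib.Helper7PTwist

/-!
# DVRs of characteristic `p` with `[k : k^p] = p` (helper7)
-/

set_option autoImplicit false
set_option linter.style.haveILetI false
set_option linter.unusedSectionVars false
open IsDiscreteValuationRing
universe u

namespace Groth.Agent.Lib.Helper7.DVRp

section Val

variable {R : Type u} [CommRing R] [IsDomain R] [IsDiscreteValuationRing R]

/-- valuation of a sum whose finite valuations are pairwise distinct -/
lemma addVal_sum_eq_inf {ι : Type*} [DecidableEq ι] (s : Finset ι) (f : ι → R)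
    (hdist : ∀ i ∈ s, ∀ j ∈ s, i ≠ j → addVal R (f i) ≠ ⊤ → addVal R (f i) ≠ addVal R (f j)) :
    addVal R (∑ i ∈ s, f i) = s.inf (fun i => addVal R (f i)) := by
  induction s using Finset.induction_on with
  | empty => rw [Finset.sum_empty, Finset.inf_empty, addVal_zero]
  | insert a s' ha ih =>
    have ih' := ih (fun i hi j hj => hdist i (Finset.mem_insert_of_mem hi) j
      (Finset.mem_insert_of_mem hj))
    rw [Finset.sum_insert ha, Finset.inf_insert]
    by_cases hne : addVal R (f a) = addVal R (∑ i ∈ s', f i)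
    · by_cases htop : addVal R (f a) = ⊤
      · have h0 : f a = 0 := addVal_eq_top_iff.1 htop
        rw [h0, zero_add, addVal_zero, top_inf_eq, ih']
      · exfalso
        rw [ih'] at hne
        have hne' : s'.Nonempty := by
          by_contra hemp
          rw [Finset.not_nonempty_iff_eq_empty] at hemp
          rw [hemp, Finset.inf_empty] at hne
          exact htop hne
        obtain ⟨i, hi, hiinf⟩ := Finset.exists_mem_eq_inf s' hne' (fun i => addVal R (f i))
        have hai : a ≠ i := fun h => ha (h ▸ hi)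
        exact hdist a (Finset.mem_insert_self a s') i (Finset.mem_insert_of_mem hi) hai htop
          (hne.trans hiinf)
    · rw [AddValuation.map_add_of_distinct_val _ hne, ih']

variable (p : ℕ) [Fact p.Prime] {π : R} (hπ : Irreducible π)

include hπ in
lemma addVal_term (i : ℕ) (d : R) :
    addVal R (π ^ i * d ^ p) = (i : ℕ∞) + p • addVal R d := by
  rw [addVal_mul, hπ.addVal_pow, addVal_pow]

include hπ in
lemma addVal_term_distinct (d : Fin p → R) (i j : Fin p) (hij : i ≠ j)
    (htop : addVal R (π ^ (i : ℕ) * d i ^ p) ≠ ⊤) :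
    addVal R (π ^ (i : ℕ) * d i ^ p) ≠ addVal R (π ^ (j : ℕ) * d j ^ p) := by
  intro heq
  have htop' : addVal R (π ^ (j : ℕ) * d j ^ p) ≠ ⊤ := heq ▸ htop
  rw [addVal_term p hπ] at htop htop'
  rw [addVal_term p hπ, addVal_term p hπ] at heq
  have hdi : addVal R (d i) ≠ ⊤ := by
    intro h
    rw [h] at htop
    have hp : p ≠ 0 := (Fact.out : p.Prime).ne_zero
    simp [hp] at htop
  have hdj : addVal R (d j) ≠ ⊤ := by
    intro h
    rw [h] at htop'
    have hp : p ≠ 0 := (Fact.out : p.Prime).ne_zero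
    simp [hp] at htop'
  obtain ⟨ni, hni⟩ := ENat.ne_top_iff_exists.1 hdi
  obtain ⟨nj, hnj⟩ := ENat.ne_top_iff_exists.1 hdj
  rw [← hni, ← hnj] at heq
  have h2 : ((i : ℕ) + p * ni : ℕ) = (j : ℕ) + p * nj := by
    have : (((i : ℕ) + p * ni : ℕ) : ℕ∞) = (((j : ℕ) + p * nj : ℕ) : ℕ∞) := by
      push_cast
      simpa [nsmul_eq_mul] using heq
    exact_mod_cast this
  apply hij
  apply Fin.ext
  have hi := i.2
  have hj := j.2
  have h3 : (i : ℕ) % p = (j : ℕ) % p := by
    have := congrArg (· % p) h2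
    simpa [Nat.add_mul_mod_self_left] using this
  rwa [Nat.mod_eq_of_lt hi, Nat.mod_eq_of_lt hj] at h3

include hπ in
lemma addVal_sum_terms (d : Fin p → R) :
    addVal R (∑ i : Fin p, π ^ (i : ℕ) * d i ^ p) =
      Finset.univ.inf (fun i : Fin p => addVal R (π ^ (i : ℕ) * d i ^ p)) :=
  addVal_sum_eq_inf Finset.univ _ (fun i _ j _ hij htop => addVal_term_distinct p hπ d i j hij htop)

include hπ in
/-- uniqueness: `Σ π^i d_i^p = 0` forces `d = 0` -/
lemma eq_zero_of_sum_terms_eq_zero (d : Fin p → R)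
    (h : ∑ i : Fin p, π ^ (i : ℕ) * d i ^ p = 0) : ∀ i, d i = 0 := by
  have h1 := addVal_sum_terms p hπ d
  rw [h, addVal_zero] at h1
  intro i
  have h2 := (Finset.inf_eq_top_iff _ _).1 h1.symm i (Finset.mem_univ i)
  have h3 : π ^ (i : ℕ) * d i ^ p = 0 := addVal_eq_top_iff.1 h2
  rcases mul_eq_zero.1 h3 with h4 | h4
  · exact absurd (pow_eq_zero_iff (Nat.pos_of_ne_zero (fun h0 => by
      rw [h0, pow_zero] at h4; exact one_ne_zero h4)).ne' |>.1 h4) hπ.ne_zero
  · exact pow_eq_zero_iff (Fact.out : p.Prime).ne_zero |>.1 h4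

include hπ in
lemma dvd_of_mul_pow_eq_sum (r s : R) (hs : s ≠ 0) (c : Fin p → R)
    (h : r * s ^ p = ∑ i : Fin p, π ^ (i : ℕ) * c i ^ p) : ∀ i, s ∣ c i := by
  intro i
  rw [← addVal_le_iff_dvd]
  have h1 : p • addVal R s ≤ addVal R (π ^ (i : ℕ) * c i ^ p) := by
    calc p • addVal R s = addVal R (s ^ p) := (addVal_pow s p).symm
      _ ≤ addVal R (r * s ^ p) := by rw [addVal_mul]; exact le_add_self
      _ = Finset.univ.inf (fun i : Fin p => addVal R (π ^ (i : ℕ) * c i ^ p)) := by
        rw [h, addVal_sum_terms p hπ c]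
      _ ≤ _ := Finset.inf_le (Finset.mem_univ i)
  rw [addVal_term p hπ] at h1
  by_cases hc : addVal R (c i) = ⊤
  · rw [hc]; exact le_top
  · obtain ⟨nc, hnc⟩ := ENat.ne_top_iff_exists.1 hc
    have hs' : addVal R s ≠ ⊤ := fun h => hs (addVal_eq_top_iff.1 h)
    obtain ⟨ns, hns⟩ := ENat.ne_top_iff_exists.1 hs'
    rw [← hnc, ← hns] at h1 ⊢
    have h2 : p * ns ≤ (i : ℕ) + p * nc := by
      have : ((p * ns : ℕ) : ℕ∞) ≤ (((i : ℕ) + p * nc : ℕ) : ℕ∞) := by
        push_cast
        simpa [nsmul_eq_mul] using h1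
      exact_mod_cast this
    have h3 : ns ≤ nc := by
      by_contra hlt
      push Not at hlt
      have h4 : p * (nc + 1) ≤ p * ns := Nat.mul_le_mul_left p hlt
      have h5 := i.2
      nlinarith
    exact_mod_cast h3

include hπ in
lemma sum_terms_injective [CharP R p] (c c' : Fin p → R)
    (h : ∑ i : Fin p, π ^ (i : ℕ) * c i ^ p = ∑ i : Fin p, π ^ (i : ℕ) * c' i ^ p) : c = c' := by
  have h0 : ∑ i : Fin p, π ^ (i : ℕ) * (c i - c' i) ^ p = 0 := by
    simp_rw [sub_pow_char, mul_sub, Finset.sum_sub_distrib, h, sub_self]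
  funext i
  exact sub_eq_zero.1 (eq_zero_of_sum_terms_eq_zero p hπ _ h0 i)

end Val

section Frac

variable {R : Type u} [CommRing R] [IsDomain R] [IsDiscreteValuationRing R]
  (p : ℕ) [Fact p.Prime] [CharP R p] {π : R} (hπ : Irreducible π)
  (kp : Subfield (FractionRing R))
  (hkp : ∀ x : FractionRing R, x ∈ kp ↔ ∃ y : FractionRing R, y ^ p = x)

include hkp in
/-- clearing denominators in a `k^p`-combination of powers of `π` -/
lemma exists_clear (g : Fin p → kp) :
    ∃ s : R, s ≠ 0 ∧ ∃ c : Fin p → R,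
      (∑ i : Fin p, g i • (algebraMap R (FractionRing R) π) ^ (i : ℕ)) *
        (algebraMap R (FractionRing R) s) ^ p =
      algebraMap R (FractionRing R) (∑ i : Fin p, π ^ (i : ℕ) * c i ^ p) := by
  have hy : ∀ i, ∃ y : FractionRing R, y ^ p = (g i : FractionRing R) := fun i =>
    (hkp _).1 (g i).2
  choose y hy using hy
  obtain ⟨s, hs⟩ := IsLocalization.exist_integer_multiples (nonZeroDivisors R) Finset.univ y
  have hc : ∀ i, ∃ c : R, algebraMap R (FractionRing R) c =
      algebraMap R (FractionRing R) (s : R) * y i := fun i => by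
    obtain ⟨c, hc⟩ := hs i (Finset.mem_univ i)
    exact ⟨c, by rw [hc, Algebra.smul_def]⟩
  choose c hc using hc
  refine ⟨s, nonZeroDivisors.ne_zero s.2, c, ?_⟩
  rw [Finset.sum_mul, map_sum]
  refine Finset.sum_congr rfl fun i _ => ?_
  rw [map_mul, map_pow, map_pow, hc, mul_pow, hy, Subfield.smul_def, smul_eq_mul]
  ring

include hπ hkp in
lemma linearIndependent_pow :
    LinearIndependent kp (fun i : Fin p => (algebraMap R (FractionRing R) π) ^ (i : ℕ)) := by
  rw [Fintype.linearIndependent_iff]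
  intro g hg i
  have hinj : Function.Injective (algebraMap R (FractionRing R)) := IsFractionRing.injective _ _
  by_contra hgi
  -- g i ≠ 0; consider the single term family
  have hy : ∀ j, ∃ y : FractionRing R, y ^ p = (g j : FractionRing R) := fun j =>
    (hkp _).1 (g j).2
  choose y hy using hy
  obtain ⟨s', hs'⟩ := IsLocalization.exist_integer_multiples (nonZeroDivisors R) Finset.univ y
  have hc' : ∀ j, ∃ c : R, algebraMap R (FractionRing R) c =
      algebraMap R (FractionRing R) (s' : R) * y j := fun j => by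
    obtain ⟨c, hc⟩ := hs' j (Finset.mem_univ j)
    exact ⟨c, by rw [hc, Algebra.smul_def]⟩
  choose c' hc' using hc'
  have hrel : algebraMap R (FractionRing R) (∑ j : Fin p, π ^ (j : ℕ) * c' j ^ p) = 0 := by
    have : (∑ j : Fin p, g j • (algebraMap R (FractionRing R) π) ^ (j : ℕ)) *
        (algebraMap R (FractionRing R) (s' : R)) ^ p =
        algebraMap R (FractionRing R) (∑ j : Fin p, π ^ (j : ℕ) * c' j ^ p) := by
      rw [Finset.sum_mul, map_sum]
      refine Finset.sum_congr rfl fun j _ => ?_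
      rw [map_mul, map_pow, map_pow, hc', mul_pow, hy, Subfield.smul_def, smul_eq_mul]
      ring
    rw [← this, hg, zero_mul]
  have h0' : ∑ j : Fin p, π ^ (j : ℕ) * c' j ^ p = 0 := hinj (by rw [hrel, map_zero])
  have hci' := eq_zero_of_sum_terms_eq_zero p hπ c' h0' i
  have hs0 : algebraMap R (FractionRing R) (s' : R) ≠ 0 := fun h =>
    nonZeroDivisors.ne_zero s'.2 (hinj (by rw [h, map_zero]))
  have hyi : y i = 0 := by
    have := hc' i
    rw [hci', map_zero] at this
    exact (mul_eq_zero.1 this.symm).resolve_left hs0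
  apply hgi
  apply Subtype.ext
  rw [← hy, hyi, zero_pow (Fact.out : p.Prime).ne_zero]
  rfl

include hπ hkp in
theorem exists_repr (hdeg : Module.finrank kp (FractionRing R) = p) (r : R) :
    ∃ c : Fin p → R, r = ∑ i : Fin p, π ^ (i : ℕ) * c i ^ p := by
  have hinj : Function.Injective (algebraMap R (FractionRing R)) := IsFractionRing.injective _ _
  have hli := linearIndependent_pow p hπ kp hkp
  haveI : Module.Finite kp (FractionRing R) :=
    Module.finite_of_finrank_pos (by rw [hdeg]; exact (Fact.out : p.Prime).pos)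
  have hspan := hli.span_eq_top_of_card_eq_finrank' (by rw [Fintype.card_fin, hdeg])
  have hr : algebraMap R (FractionRing R) r ∈ Submodule.span kp
      (Set.range fun i : Fin p => (algebraMap R (FractionRing R) π) ^ (i : ℕ)) := by
    rw [hspan]; trivial
  obtain ⟨g, hg⟩ := (Submodule.mem_span_range_iff_exists_fun _).1 hr
  obtain ⟨s, hs, c, hc⟩ := exists_clear p kp hkp (π := π) g
  rw [hg, ← map_pow, ← map_mul] at hc
  have h1 : r * s ^ p = ∑ i : Fin p, π ^ (i : ℕ) * c i ^ p := hinj hc
  have hdvd := dvd_of_mul_pow_eq_sum p hπ r s hs c h1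
  choose e he using hdvd
  refine ⟨e, ?_⟩
  have h2 : r * s ^ p = (∑ i : Fin p, π ^ (i : ℕ) * e i ^ p) * s ^ p := by
    rw [h1, Finset.sum_mul]
    refine Finset.sum_congr rfl fun i _ => ?_
    rw [he i]
    ring
  exact mul_right_cancel₀ (pow_ne_zero p hs) h2

end Frac


section Omega

open Groth.Agent.Lib.Helper7.PPow KaehlerDifferential

variable {R : Type u} [CommRing R] [IsDomain R] [IsDiscreteValuationRing R]
  (p : ℕ) [Fact p.Prime] [CharP R p] {π : R} (hπ : Irreducible π)

include hπ in
theorem bijective_smul_D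
    (hrepr : ∀ r : R, ∃ c : Fin p → R, r = ∑ i : Fin p, π ^ (i : ℕ) * c i ^ p) :
    Function.Bijective (fun r : R => r • KaehlerDifferential.D ℤ R π) := by
  classical
  letI algA : Algebra (FrobSrc R) R :=
    RingHom.toAlgebra (show FrobSrc R →+* R from frobenius R p)
  have hpow : ∀ a ∈ EGA41.pPowerSubalgebra p (FrobSrc R) R, ∃ b : R, b ^ p = a := by
    intro a ha
    rw [EGA41.pPowerSubalgebra] at ha
    induction ha using Algebra.adjoin_induction with
    | mem x hx => obtain ⟨b, rfl⟩ := hx; exact ⟨b, rfl⟩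
    | algebraMap r => exact ⟨(show R from r), rfl⟩
    | add x y _ _ hx hy =>
      obtain ⟨a, rfl⟩ := hx
      obtain ⟨b, rfl⟩ := hy
      exact ⟨a + b, add_pow_char ..⟩
    | mul x y _ _ hx hy =>
      obtain ⟨a, rfl⟩ := hx
      obtain ⟨b, rfl⟩ := hy
      exact ⟨a * b, mul_pow ..⟩
  let eqv : Fin p ≃ {e : PUnit.{u+1} →₀ ℕ // ∀ i, e i < p} :=
    { toFun := fun i => ⟨Finsupp.single PUnit.unit (i : ℕ), fun j => by
        rw [Finsupp.single_apply]
        split_ifs
        · exact i.2
        · exact (Fact.out : p.Prime).pos⟩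
      invFun := fun e => ⟨e.1 PUnit.unit, e.2 _⟩
      left_inv := fun i => by
        apply Fin.ext
        simp
      right_inv := fun e => by
        apply Subtype.ext
        ext j
        simp }
  have hmono : ∀ e : {e : PUnit.{u+1} →₀ ℕ // ∀ i, e i < p},
      EGA41.pMonomial (fun _ : PUnit.{u+1} => π) e.1 = π ^ (e.1 PUnit.unit) := by
    intro e
    have he : e.1 = Finsupp.single PUnit.unit (e.1 PUnit.unit) :=
      Finsupp.ext fun j => by cases j; simp
    rw [EGA41.pMonomial]
    conv_lhs => rw [he]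
    exact Finsupp.prod_single_index (h := fun _ n => π ^ n) (pow_zero _)
  have hind : EGA41.IsPIndependent p (FrobSrc R) (fun _ : PUnit.{u+1} => π) := by
    rw [EGA41.IsPIndependent,
      ← linearIndependent_equiv' eqv (g := fun i : Fin p => π ^ (i : ℕ)) (by
        funext i
        simp only [Function.comp, hmono]
        congr 1
        simp [eqv])]
    rw [Fintype.linearIndependent_iff]
    intro g hg i
    choose b hb using fun j => hpow (g j).1 (g j).2
    have h1 : ∑ j : Fin p, π ^ (j : ℕ) * b j ^ p = 0 := by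
      rw [← hg]
      refine Finset.sum_congr rfl fun j _ => ?_
      rw [hb, Subalgebra.smul_def, smul_eq_mul, mul_comm]
    have h2 := eq_zero_of_sum_terms_eq_zero p hπ b h1 i
    apply Subtype.ext
    rw [← hb, h2, zero_pow (Fact.out : p.Prime).ne_zero]
    rfl
  have hgen : EGA41.IsPGenerating p (FrobSrc R) (fun _ : PUnit.{u+1} => π) := by
    rw [EGA41.IsPGenerating, eq_top_iff]
    intro r _
    obtain ⟨c, rfl⟩ := hrepr r
    refine sum_mem fun i _ => ?_
    have h1 : π ^ (i : ℕ) * c i ^ p =
        (⟨c i ^ p, pow_mem_pPowerSubalgebra' p _⟩ : EGA41.pPowerSubalgebra p (FrobSrc R) R) •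
          π ^ (i : ℕ) := by
      rw [Subalgebra.smul_def, smul_eq_mul, mul_comm]
    rw [h1]
    refine Submodule.smul_mem _ _ (Submodule.subset_span ⟨eqv i, ?_⟩)
    change EGA41.pMonomial _ (eqv i).1 = _
    rw [hmono]
    congr 1
    simp [eqv]
  have h0 : ∀ a₀ : FrobSrc R, D ℤ R (algebraMap (FrobSrc R) R a₀) = 0 := by
    intro a₀
    change D ℤ R ((show R from a₀) ^ p) = 0
    rw [Derivation.leibniz_pow, ← Nat.cast_smul_eq_nsmul R, CharP.cast_eq_zero, zero_smul]
  have hspan := span_D_eq_top_of_isPGenerating' p ℤ h0 _ hgen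
  have hli0 := linearIndependent_D_of_isPBasis p _ ⟨hind, hgen⟩
  have hli : LinearIndependent R (fun _ : PUnit.{u+1} => D ℤ R π) := by
    refine LinearIndependent.of_comp (KaehlerDifferential.map ℤ (FrobSrc R) R R) ?_
    convert hli0 using 1
    funext i
    simp only [Function.comp, KaehlerDifferential.map_D]
    rfl
  constructor
  · exact hli.smul_left_injective PUnit.unit
  · intro ω
    have h1 : ω ∈ Submodule.span R (Set.range fun _ : PUnit.{u+1} => D ℤ R π) := by
      rw [hspan]; trivial
    rw [Set.range_const, Submodule.mem_span_singleton] at h1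
    exact h1

end Omega

end Groth.Agent.Lib.Helper7.DVRp
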