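import Mathlib
import Groth.Agent.Lib.Helper18NormalSepClosed3

set_option autoImplicit false
universe u

namespace Groth.Agent.Lib.Helper7.DecompHens

open Polynomial IsLocalRing

/-- polynomial identity behind `scaleRoots` -/
theorem scaleRoots_comp {B : Type*} [CommRing B] (f : B[X]) (s : B) :
    (scaleRoots f s).comp (C s * X) = C (s ^ f.natDegree) * f := by
  ext i
  rw [comp_C_mul_X_coeff, coeff_scaleRoots, coeff_C_mul]
  by_cases hi : i ≤ f.natDegree
  · rw [mul_assoc, ← pow_add, Nat.sub_add_cancel hi, mul_comm]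
  · rw [coeff_eq_zero_of_natDegree_lt (not_le.mp hi)]; simp

theorem eval_derivative_scaleRoots {B : Type*} [CommRing B] (f : B[X]) (s a : B) :
    s * (derivative (scaleRoots f s)).eval (s * a) = s ^ f.natDegree * (derivative f).eval a := by
  have h := congrArg (fun p => (derivative p).eval a) (scaleRoots_comp f s)
  simp only [derivative_comp, derivative_mul, derivative_C, derivative_X, zero_mul, mul_one,
    zero_add, eval_mul, eval_C, eval_comp, eval_X] at h
  exact h

/-- **Claim B**: if simple roots modulo the prime `Q` lift to `A`, then `A_Q` is henselian. -/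
theorem henselianLocalRing_localization_atPrime {A : Type*} [CommRing A] (Q : Ideal A) [Q.IsPrime]
    (H : ∀ g : A[X], g.Monic → ∀ c : A, g.eval c ∈ Q → (derivative g).eval c ∉ Q →
      ∃ γ : A, g.IsRoot γ ∧ γ - c ∈ Q) :
    HenselianLocalRing (Localization.AtPrime Q) := by
  set B := Localization.AtPrime Q
  refine ⟨fun f hf a₀ h₁ h₂ => ?_⟩
  classical
  obtain ⟨t, ht⟩ := IsLocalization.exist_integer_multiples_of_finset Q.primeCompl
    (insert a₀ f.coeffs)
  set s : B := algebraMap A B t with hs
  have hsu : IsUnit s := IsLocalization.map_units B t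
  have hcoef : ∀ i, ∃ r : A, algebraMap A B r = s * f.coeff i := by
    intro i
    by_cases h0 : f.coeff i = 0
    · exact ⟨0, by simp [h0]⟩
    · obtain ⟨r, hr⟩ := ht (f.coeff i) (Finset.mem_insert_of_mem (coeff_mem_coeffs h0))
      exact ⟨r, by rw [hr, Algebra.smul_def]⟩
  obtain ⟨c₀, hc₀⟩ : ∃ r : A, algebraMap A B r = s * a₀ := by
    obtain ⟨r, hr⟩ := ht a₀ (Finset.mem_insert_self _ _)
    exact ⟨r, by rw [hr, Algebra.smul_def]⟩
  set g := scaleRoots f s with hg
  have hgm : g.Monic := (monic_scaleRoots_iff s).2 hf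
  have hlift : g ∈ lifts (algebraMap A B) := by
    rw [lifts_iff_coeff_lifts]
    intro i
    rw [hg, coeff_scaleRoots]
    by_cases hi : i < f.natDegree
    · obtain ⟨r, hr⟩ := hcoef i
      refine ⟨r * t ^ (f.natDegree - i - 1), ?_⟩
      rw [map_mul, hr, map_pow, ← hs]
      have : f.natDegree - i = (f.natDegree - i - 1) + 1 := by omega
      conv_rhs => rw [this, pow_succ]
      ring
    · have : f.natDegree - i = 0 := by omega
      rw [this, pow_zero, mul_one]
      rcases (not_lt.mp hi).eq_or_lt with h | h
      · rw [← h, hf.coeff_natDegree]; exact ⟨1, map_one _⟩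
      · rw [coeff_eq_zero_of_natDegree_lt h]; exact ⟨0, map_zero _⟩
  obtain ⟨g₀, hg₀, -, hg₀m⟩ := lifts_and_natDegree_eq_and_monic hlift hgm
  have hev : ∀ x : A, algebraMap A B (g₀.eval x) = g.eval (algebraMap A B x) := by
    intro x; rw [← hg₀, eval_map, eval₂_at_apply]
  have hevd : ∀ x : A, algebraMap A B ((derivative g₀).eval x)
      = (derivative g).eval (algebraMap A B x) := by
    intro x; rw [← hg₀, derivative_map, eval_map, eval₂_at_apply]
  have hsc : ∀ a : B, g.eval (s * a) = s ^ f.natDegree * f.eval a := by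
    intro a
    have := scaleRoots_eval₂_mul (p := f) (RingHom.id B) a s
    rw [eval₂_id, eval₂_id, RingHom.id_apply] at this
    exact this
  have h1 : g₀.eval c₀ ∈ Q := by
    rw [← IsLocalization.AtPrime.to_map_mem_maximal_iff B Q, hev, hc₀, hsc]
    exact Ideal.mul_mem_left _ _ h₁
  have h2 : (derivative g₀).eval c₀ ∉ Q := by
    have hu : IsUnit (algebraMap A B ((derivative g₀).eval c₀)) := by
      rw [hevd, hc₀]
      have := eval_derivative_scaleRoots f s a₀
      have hu2 : IsUnit (s * (derivative (scaleRoots f s)).eval (s * a₀)) := by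
        rw [this]; exact (hsu.pow _).mul h₂
      exact isUnit_of_mul_isUnit_right hu2
    exact fun hmem => ((IsLocalization.AtPrime.isUnit_to_map_iff B Q _).1 hu) hmem
  obtain ⟨γ, hγ, hγc⟩ := H g₀ hg₀m c₀ h1 h2
  obtain ⟨s', hs'⟩ := hsu.exists_left_inv
  refine ⟨s' * algebraMap A B γ, ?_, ?_⟩
  · have e : g.eval (s * (s' * algebraMap A B γ)) = 0 := by
      rw [← mul_assoc, mul_comm s s', hs', one_mul, ← hev, hγ, map_zero]
    rw [hsc] at e
    exact ((hsu.pow _).mul_right_eq_zero).1 e
  · have e : s' * algebraMap A B γ - a₀ = s' * algebraMap A B (γ - c₀) := by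
      rw [map_sub, hc₀, mul_sub, ← mul_assoc, hs', one_mul]
    rw [e]
    exact Ideal.mul_mem_left _ _ ((IsLocalization.AtPrime.to_map_mem_maximal_iff B Q _).2 hγc)


/-- uniqueness of a root congruent to a simple root modulo an ideal, in a domain -/
theorem root_unique {D : Type*} [CommRing D] [IsDomain D] (P : Ideal D) (F : D[X]) (c β₁ β₂ : D)
    (hd : (derivative F).eval c ∉ P) (h1 : F.IsRoot β₁) (h2 : F.IsRoot β₂)
    (hc1 : β₁ - c ∈ P) (hc2 : β₂ - c ∈ P) : β₁ = β₂ := by
  by_contra hne
  have hδ : β₂ - β₁ ∈ P := by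
    have := P.sub_mem hc2 hc1
    rwa [sub_sub_sub_cancel_right] at this
  obtain ⟨k, hk⟩ := binomExpansion F β₁ (β₂ - β₁)
  rw [add_sub_cancel, h1.eq_zero, h2.eq_zero, zero_add] at hk
  have hk' : (β₂ - β₁) * ((derivative F).eval β₁ + k * (β₂ - β₁)) = 0 := by
    rw [hk]; ring
  have hz : (derivative F).eval β₁ + k * (β₂ - β₁) = 0 :=
    (mul_eq_zero.1 hk').resolve_left (sub_ne_zero.2 (Ne.symm hne))
  have h3 : (derivative F).eval β₁ ∈ P := by
    have : (derivative F).eval β₁ = -(k * (β₂ - β₁)) := eq_neg_of_add_eq_zero_left hz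
    rw [this]
    exact P.neg_mem (P.mul_mem_left _ hδ)
  have h4 : (derivative F).eval β₁ - (derivative F).eval c ∈ P := by
    obtain ⟨q, hq⟩ := sub_dvd_eval_sub β₁ c (derivative F)
    rw [hq]
    exact P.mul_mem_right _ hc1
  apply hd
  have := P.sub_mem h3 h4
  rwa [sub_sub_cancel] at this

section main

variable (R K Ks : Type u) [CommRing R] [IsDomain R] [Field K] [Algebra R K] [IsFractionRing R K]
  [Field Ks] [Algebra K Ks] [IsSepClosure K Ks] [Algebra R Ks] [IsScalarTower R K Ks]

include K in
theorem algebraMap_R_Ks_injective : Function.Injective (algebraMap R Ks) := by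
  rw [IsScalarTower.algebraMap_eq R K Ks]
  exact (algebraMap K Ks).injective.comp (IsFractionRing.injective R K)

include K in
theorem isAlgebraic_R_Ks : Algebra.IsAlgebraic R Ks := by
  have : Algebra.IsSeparable K Ks := IsSepClosure.separable
  exact (IsFractionRing.comap_isAlgebraic_iff (A := R) (K := K)).2 inferInstance

include K in
theorem isFractionRing_O : IsFractionRing (integralClosure R Ks) Ks := by
  have := isAlgebraic_R_Ks R K Ks
  exact integralClosure.isFractionRing_of_algebraic (A := R) (L := Ks)
    (fun x hx => algebraMap_R_Ks_injective R K Ks (by rw [hx, map_zero]))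

include K in
theorem isIntegrallyClosed_O : IsIntegrallyClosed (integralClosure R Ks) := by
  have := isFractionRing_O R K Ks
  refine (isIntegrallyClosed_iff Ks).2 fun {x} hx => ?_
  exact ⟨⟨x, isIntegral_trans x hx⟩, rfl⟩

include K in
/-- simple roots modulo a prime of the integral closure of `R` in a separable closure lift. -/
theorem exists_root_O (Ps : Ideal (integralClosure R Ks)) [Ps.IsPrime]
    (F : (integralClosure R Ks)[X]) (hF : F.Monic) (c : integralClosure R Ks)
    (h1 : F.eval c ∈ Ps) (h2 : (derivative F).eval c ∉ Ps) :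
    ∃ β : integralClosure R Ks, F.IsRoot β ∧ β - c ∈ Ps := by
  have hfr := isFractionRing_O R K Ks
  have hic := isIntegrallyClosed_O R K Ks
  have hM : Ps.primeCompl ≤ nonZeroDivisors (integralClosure R Ks) :=
    Ps.primeCompl_le_nonZeroDivisors
  set W := Localization.AtPrime Ps
  let φ : W →+* Ks := IsLocalization.map (M := Ps.primeCompl) (S := W)
    (T := nonZeroDivisors (integralClosure R Ks)) Ks (RingHom.id _) hM
  let _ := φ.toAlgebra
  have : IsScalarTower (integralClosure R Ks) W Ks := IsScalarTower.of_algebraMap_eq'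
    (by rw [RingHom.algebraMap_toAlgebra, IsLocalization.map_comp, RingHomCompTriple.comp_eq])
  have hWfr : IsFractionRing W Ks :=
    IsFractionRing.isFractionRing_of_isDomain_of_isLocalization Ps.primeCompl W Ks
  have hWic : IsIntegrallyClosed W := isIntegrallyClosed_of_isLocalization W Ps.primeCompl hM
  have hsc : IsSepClosed Ks := IsSepClosure.sep_closed K
  have HW : HenselianLocalRing W := (Helper18NormalSepClosed3.main' (A := W) Ks).1
  have hu : IsUnit ((derivative (F.map (algebraMap _ W))).eval (algebraMap _ W c)) := by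
    rw [derivative_map, eval_map, eval₂_at_apply]
    exact (IsLocalization.AtPrime.isUnit_to_map_iff W Ps _).2 h2
  have hm : (F.map (algebraMap _ W)).eval (algebraMap _ W c) ∈ maximalIdeal W := by
    rw [eval_map, eval₂_at_apply]
    exact (IsLocalization.AtPrime.to_map_mem_maximal_iff W Ps _).2 h1
  obtain ⟨α, hα, hαc⟩ := HW.is_henselian (F.map (algebraMap _ W)) (hF.map _) _ hm hu
  have hint : IsIntegral (integralClosure R Ks) (algebraMap W Ks α) := by
    refine ⟨F, hF, ?_⟩
    have := congrArg (algebraMap W Ks) hα.eq_zero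
    rw [eval_map, hom_eval₂, map_zero, ← IsScalarTower.algebraMap_eq] at this
    exact this
  set β : integralClosure R Ks := ⟨algebraMap W Ks α, isIntegral_trans _ hint⟩ with hβ
  have hαβ : α = algebraMap _ W β := by
    apply IsFractionRing.injective W Ks
    rw [← IsScalarTower.algebraMap_apply]
    rfl
  refine ⟨β, ?_, ?_⟩
  · apply IsLocalization.injective W hM
    rw [map_zero]
    have := hα.eq_zero
    rw [hαβ, eval_map, eval₂_at_apply] at this
    exact this
  · rw [← IsLocalization.AtPrime.to_map_mem_maximal_iff W Ps, map_sub, ← hαβ]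
    exact hαc


include K in
/-- The fixed field `L` of a set `S` of automorphisms preserving the prime `Ps`: the localization of
the integral closure of `R` in `L` at the prime below `Ps` is henselian. -/
theorem main (Ps : Ideal (integralClosure R Ks)) [Ps.IsPrime] (S : Set (Ks ≃ₐ[K] Ks))
    (hS : ∀ σ ∈ S, ∀ x : integralClosure R Ks, x ∈ Ps →
      ∃ h : σ (x : Ks) ∈ integralClosure R Ks, (⟨σ (x : Ks), h⟩ : integralClosure R Ks) ∈ Ps)
    (L : IntermediateField K Ks) (hL : L = IntermediateField.fixedField (Subgroup.closure S))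
    (Q : Ideal (integralClosure R L)) [Q.IsPrime]
    (hQ : ∀ y : integralClosure R L, y ∈ Q ↔
      ∃ x : integralClosure R Ks, x ∈ Ps ∧ (x : Ks) = ((y : L) : Ks)) :
    HenselianLocalRing (Localization.AtPrime Q) := by
  apply henselianLocalRing_localization_atPrime Q
  intro g hg c h1 h2
  have hst : IsScalarTower R L Ks := IsScalarTower.of_algebraMap_eq (fun r => rfl)
  let j : integralClosure R L →ₐ[R] integralClosure R Ks :=
    (IsScalarTower.toAlgHom R L Ks).mapIntegralClosure
  have hj : ∀ y : integralClosure R L, ((j y : integralClosure R Ks) : Ks) = ((y : L) : Ks) :=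
    fun y => rfl
  have hjQ : ∀ y : integralClosure R L, y ∈ Q ↔ j y ∈ Ps := by
    intro y
    rw [hQ]
    constructor
    · rintro ⟨x, hx, e⟩
      have : j y = x := Subtype.ext (by rw [hj, e])
      rwa [this]
    · intro h
      exact ⟨j y, h, hj y⟩
  have hjinj : Function.Injective j := by
    intro y₁ y₂ h
    have := congrArg (fun z : integralClosure R Ks => (z : Ks)) h
    simp only [hj] at this
    exact Subtype.ext (Subtype.ext this)
  set F : (integralClosure R Ks)[X] := g.map (j : integralClosure R L →+* integralClosure R Ks)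
    with hFdef
  have hF : F.Monic := hg.map _
  have hFe : ∀ y : integralClosure R L, F.eval (j y) = j (g.eval y) := by
    intro y
    rw [hFdef, eval_map]
    exact (eval₂_at_apply (j : integralClosure R L →+* integralClosure R Ks) y)
  have hFd : ∀ y : integralClosure R L, (derivative F).eval (j y) = j ((derivative g).eval y) := by
    intro y
    rw [hFdef, derivative_map, eval_map]
    exact (eval₂_at_apply (j : integralClosure R L →+* integralClosure R Ks) y)
  have h1' : F.eval (j c) ∈ Ps := by rw [hFe]; exact (hjQ _).1 h1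
  have h2' : (derivative F).eval (j c) ∉ Ps := by rw [hFd]; exact fun h => h2 ((hjQ _).2 h)
  obtain ⟨β, hβ, hβc⟩ := exists_root_O R K Ks Ps F hF (j c) h1' h2'
  -- the ring hom to `Ks`
  let ψ : integralClosure R L →+* Ks :=
    (algebraMap (integralClosure R Ks) Ks).comp (j : integralClosure R L →+* integralClosure R Ks)
  have hψ : ∀ b : integralClosure R Ks, ((F.eval b : integralClosure R Ks) : Ks)
      = g.eval₂ ψ (b : Ks) := by
    intro b
    rw [hFdef, eval_map]
    exact hom_eval₂ g (j : integralClosure R L →+* integralClosure R Ks)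
      (algebraMap (integralClosure R Ks) Ks) b
  have hfix : ∀ σ ∈ S, σ (β : Ks) = (β : Ks) := by
    intro σ hσ
    have hσL : ∀ x : L, σ (x : Ks) = x := by
      intro x
      have hx : (x : Ks) ∈ IntermediateField.fixedField (Subgroup.closure S) := hL ▸ x.2
      exact (IntermediateField.mem_fixedField_iff _ _).1 hx σ (Subgroup.subset_closure hσ)
    obtain ⟨hint, hmem⟩ := hS σ hσ (β - j c) hβc
    have hσβ : σ (β : Ks) ∈ integralClosure R Ks :=
      (β.2 : IsIntegral R (β : Ks)).map (σ.restrictScalars R)
    set β' : integralClosure R Ks := ⟨σ (β : Ks), hσβ⟩ with hβ'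
    have hσψ : (σ : Ks →+* Ks).comp ψ = ψ := by
      ext y
      exact hσL (y : L)
    have r' : F.IsRoot β' := by
      apply Subtype.ext
      rw [hψ]
      have e := hom_eval₂ g ψ (σ : Ks →+* Ks) (β : Ks)
      rw [hσψ, ← hψ, hβ.eq_zero] at e
      simpa using e.symm
    have c' : β' - j c ∈ Ps := by
      convert hmem using 1
      apply Subtype.ext
      change σ (β : Ks) - ((j c : integralClosure R Ks) : Ks)
        = σ ((β : Ks) - ((j c : integralClosure R Ks) : Ks))
      rw [map_sub, hj, hσL]
    have := root_unique Ps F (j c) β β' h2' hβ r' hβc c'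
    exact (congrArg (fun z : integralClosure R Ks => (z : Ks)) this).symm
  have hβL : (β : Ks) ∈ L := by
    rw [hL, IntermediateField.mem_fixedField_iff]
    have hle : Subgroup.closure S ≤ MulAction.stabilizer (Ks ≃ₐ[K] Ks) (β : Ks) := by
      rw [Subgroup.closure_le]
      intro σ hσ
      exact MulAction.mem_stabilizer_iff.2 (hfix σ hσ)
    intro f hf
    exact MulAction.mem_stabilizer_iff.1 (hle hf)
  have hγint : IsIntegral R (⟨(β : Ks), hβL⟩ : L) :=
    (isIntegral_algebraMap_iff (algebraMap L Ks).injective).1 β.2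
  set γ : integralClosure R L := ⟨⟨(β : Ks), hβL⟩, hγint⟩ with hγ
  have hjγ : j γ = β := Subtype.ext rfl
  refine ⟨γ, ?_, ?_⟩
  · apply hjinj
    rw [map_zero, ← hFe, hjγ]
    exact hβ
  · rw [hjQ, map_sub, hjγ]
    exact hβc

end main

end Groth.Agent.Lib.Helper7.DecompHens
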