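import Mathlib

namespace Groth.Agent.Lib.Helper7.DefModLib

open IsLocalRing

/-- Flatness lemma: if `c * a ∈ J → c ∈ m` and `a • y ∈ J F` then `y ∈ m F`. -/
theorem mem_smul_top_of_smul_mem {R F : Type*} [CommRing R] [AddCommGroup F] [Module R F]
    [Module.Flat R F] (m J : Ideal R) (a : R) (hind : ∀ c : R, c * a ∈ J → c ∈ m)
    (y : F) (hy : a • y ∈ J • (⊤ : Submodule R F)) : y ∈ m • (⊤ : Submodule R F) := by
  classical
  have hspan : (⊤ : Submodule R F) = Submodule.span R (Set.range (id : F → F)) := by simp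
  rw [hspan, Submodule.mem_ideal_smul_span_iff_exists_sum] at hy
  obtain ⟨c, hc, hsum⟩ := hy
  let ι := Option c.support
  let f : ι → R := fun o => o.elim a (fun l => - c l)
  let x : ι → F := fun o => o.elim y (fun l => (l : F))
  have hrel : ∑ i, f i • x i = 0 := by
    rw [Fintype.sum_option]
    simp only [f, x, Option.elim]
    rw [← hsum, Finsupp.sum, ← Finset.sum_coe_sort c.support]
    simp
  obtain ⟨k, b, z, hx, hb⟩ := Module.Flat.isTrivialRelation_of_sum_smul_eq_zero hrel
  have hy' : y = ∑ j, b none j • z j := hx none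
  rw [hy']
  refine Submodule.sum_mem _ fun j _ => Submodule.smul_mem_smul (hind _ ?_) Submodule.mem_top
  have h1 := hb j
  rw [Fintype.sum_option] at h1
  have h2 : b none j * a = ∑ l : c.support, c l * b (some l) j := by
    simp only [f, Option.elim] at h1
    have h3 : ∑ l : c.support, -c l * b (some l) j = - ∑ l : c.support, c l * b (some l) j := by
      simp [Finset.sum_neg_distrib]
    rw [h3] at h1
    linear_combination h1
  rw [h2]
  exact Ideal.sum_mem _ fun l _ => Ideal.mul_mem_right _ _ (hc l)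

theorem dsmul_mem {R D F : Type*} [CommRing R] [Monoid D] [AddCommGroup F] [Module R F]
    [DistribMulAction D F] [SMulCommClass R D F] (J : Ideal R) (d : D) {z : F}
    (hz : z ∈ J • (⊤ : Submodule R F)) : d • z ∈ J • (⊤ : Submodule R F) := by
  refine Submodule.smul_induction_on hz ?_ ?_
  · intro r hr n _
    rw [(smul_comm r d n).symm]
    exact Submodule.smul_mem_smul hr Submodule.mem_top
  · intro x y hx hy
    rw [smul_add]
    exact add_mem hx hy

/-- Faithfulness: a flat module over a local ring with `F ≠ m F` is faithful. -/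
theorem eq_zero_of_forall_smul_eq_zero {R F : Type*} [CommRing R] [IsLocalRing R] [AddCommGroup F]
    [Module R F] [Module.Flat R F] (s : R) (hs : ∀ x : F, s • x = 0)
    (hF : ∃ x : F, x ∉ maximalIdeal R • (⊤ : Submodule R F)) : s = 0 := by
  obtain ⟨x, hx⟩ := hF
  by_contra hs0
  apply hx
  have hrel : ∑ i : Unit, (fun _ => s) i • (fun _ => x) i = 0 := by simpa using hs x
  obtain ⟨k, b, z, hxz, hb⟩ := Module.Flat.isTrivialRelation_of_sum_smul_eq_zero hrel
  have hx' : x = ∑ j, b () j • z j := hxz ()
  rw [hx']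
  refine Submodule.sum_mem _ fun j _ => Submodule.smul_mem_smul ?_ Submodule.mem_top
  by_contra hbj
  have hu : IsUnit (b () j) := by
    by_contra h
    exact hbj ((IsLocalRing.mem_maximalIdeal _).2 h)
  have h1 := hb j
  simp only [Finset.univ_unique, Finset.sum_singleton] at h1
  exact hs0 ((hu.mul_left_eq_zero).1 h1)

theorem exists_smul_eq
    {K : Type*} [Field K] {D : Type*} [Ring D]
    {E : Type*} [AddCommGroup E] [Module K E] [Module D E]
    (hE : ∀ ψ : E →ₗ[D] E, ∃ c : K, ∀ y : E, ψ y = c • y)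
    {R : Type*} [CommRing R] [Algebra K R] [IsLocalRing R] [IsArtinianRing R]
    (res : R →ₐ[K] K)
    {F : Type*} [AddCommGroup F] [Module R F] [Module D F] [SMulCommClass R D F] [Module.Flat R F]
    (θ : F →ₗ[D] E) (hθ : ∀ (r : R) (x : F), θ (r • x) = res r • θ x)
    (hsurj : Function.Surjective θ)
    (hker : ∀ x : F, θ x = 0 ↔ x ∈ maximalIdeal R • (⊤ : Submodule R F))
    (φ : F →ₗ[R] F) (hφ : ∀ (d : D) (x : F), φ (d • x) = d • φ x) :
    ∃ r : R, ∀ x : F, φ x = r • x := by
  classical
  suffices H : ∀ I : Ideal R, ∀ φ : F →ₗ[R] F, (∀ (d : D) (x : F), φ (d • x) = d • φ x) →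
      (∀ x, φ x ∈ I • (⊤ : Submodule R F)) → ∃ r : R, ∀ x : F, φ x = r • x by
    exact H ⊤ φ hφ (fun x => by simp)
  intro I
  refine IsArtinian.induction (P := fun I : Ideal R => ∀ φ : F →ₗ[R] F,
    (∀ (d : D) (x : F), φ (d • x) = d • φ x) →
      (∀ x, φ x ∈ I • (⊤ : Submodule R F)) → ∃ r : R, ∀ x : F, φ x = r • x) ?_ I
  clear φ hφ I
  intro I ih φ hφ himg
  by_cases hI : I = ⊥
  · subst hI
    refine ⟨0, fun x => ?_⟩
    have := himg x
    simpa using this
  have hne : {J : Ideal R | J < I}.Nonempty := ⟨⊥, bot_lt_iff_ne_bot.2 hI⟩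
  obtain ⟨J, hJI', hJmax⟩ := (wellFounded_gt (α := Ideal R)).has_min _ hne
  have hJI : J < I := hJI'
  obtain ⟨a, haI, haJ⟩ := SetLike.exists_of_lt hJI
  have hsup : ∀ b ∈ I, b ∉ J → I ≤ J ⊔ Ideal.span {b} := by
    intro b hbI hbJ
    by_contra hcon
    have hlt : J ⊔ Ideal.span {b} < I :=
      lt_of_le_of_ne (sup_le hJI.le ((Ideal.span_singleton_le_iff_mem _).2 hbI))
        (fun h => hcon h.ge)
    have hlt2 : J < J ⊔ Ideal.span {b} := by
      refine lt_of_le_of_ne le_sup_left (fun h => hbJ ?_)
      rw [h]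
      exact (le_sup_right : _ ≤ J ⊔ Ideal.span {b}) (Ideal.mem_span_singleton_self b)
    exact hJmax _ hlt hlt2
  have hma : ∀ t ∈ maximalIdeal R, t * a ∈ J := by
    intro t ht
    by_contra hcon
    have h1 := hsup (t * a) (Ideal.mul_mem_left I t haI) hcon haI
    obtain ⟨j, hj, w, hw, hjw⟩ := Submodule.mem_sup.1 h1
    obtain ⟨s, rfl⟩ := Ideal.mem_span_singleton'.1 hw
    have hunit : IsUnit (1 - s * t) :=
      IsLocalRing.isUnit_one_sub_self_of_mem_nonunits _
        ((IsLocalRing.mem_maximalIdeal _).1 (Ideal.mul_mem_left _ s ht))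
    have h2 : (1 - s * t) * a = j := by linear_combination -hjw
    apply haJ
    have h3 : a = ↑hunit.unit⁻¹ * j := by
      rw [← h2, ← mul_assoc]
      have : (↑hunit.unit⁻¹ : R) * (1 - s * t) = 1 := by
        have := hunit.unit.inv_mul
        simp
      rw [this, one_mul]
    rw [h3]
    exact J.mul_mem_left _ hj
  have hind : ∀ c : R, c * a ∈ J → c ∈ maximalIdeal R := by
    intro c hc
    by_contra hcm
    have hu : IsUnit c := by
      by_contra h
      exact hcm ((IsLocalRing.mem_maximalIdeal _).2 h)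
    apply haJ
    obtain ⟨u, rfl⟩ := hu
    have : a = ↑u⁻¹ * (↑u * a) := by rw [← mul_assoc, Units.inv_mul, one_mul]
    rw [this]
    exact J.mul_mem_left _ hc
  set JF : Submodule R F := J • (⊤ : Submodule R F) with hJF
  set mF : Submodule R F := maximalIdeal R • (⊤ : Submodule R F) with hmF
  -- decomposition
  have hdec : ∀ x : F, ∃ y : F, φ x - a • y ∈ JF := by
    intro x
    have h1 : φ x ∈ (J ⊔ Ideal.span {a}) • (⊤ : Submodule R F) :=
      Submodule.smul_mono_left (hsup a haI haJ) (himg x)
    rw [Submodule.sup_smul, Submodule.ideal_span_singleton_smul] at h1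
    obtain ⟨z, hz, w, hw, hzw⟩ := Submodule.mem_sup.1 h1
    obtain ⟨y, -, rfl⟩ := (Submodule.mem_smul_pointwise_iff_exists _ _ _).1 hw
    refine ⟨y, ?_⟩
    rw [← hzw]
    simpa using hz
  have ha_m : ∀ w ∈ mF, a • w ∈ JF := by
    intro w hw
    refine Submodule.smul_induction_on hw ?_ ?_
    · intro t ht n _
      rw [smul_smul, mul_comm]
      exact Submodule.smul_mem_smul (hma t ht) Submodule.mem_top
    · intro x y hx hy
      rw [smul_add]
      exact add_mem hx hy
  have hφ_m : ∀ w ∈ mF, φ w ∈ JF := by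
    intro w hw
    refine Submodule.smul_induction_on hw ?_ ?_
    · intro t ht n _
      rw [map_smul]
      obtain ⟨y, hy⟩ := hdec n
      have : t • φ n = t • (φ n - a • y) + (t * a) • y := by
        rw [smul_sub, mul_smul]; abel
      rw [this]
      exact add_mem (Submodule.smul_mem _ _ hy) (Submodule.smul_mem_smul (hma t ht) Submodule.mem_top)
    · intro x y hx hy
      rw [map_add]
      exact add_mem hx hy
  have huniq : ∀ y : F, a • y ∈ JF → θ y = 0 := fun y hy =>
    (hker y).2 (mem_smul_top_of_smul_mem _ J a hind y hy)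
  -- the key: θ y is determined by θ x
  have hkey : ∀ x x' y y' : F, θ x = θ x' → φ x - a • y ∈ JF → φ x' - a • y' ∈ JF → θ y = θ y' := by
    intro x x' y y' hxx hy hy'
    have h1 : x - x' ∈ mF := (hker _).1 (by rw [map_sub, hxx, sub_self])
    have h2 := hφ_m _ h1
    have h3 : a • (y - y') = -(φ x - a • y) + φ (x - x') + (φ x' - a • y') := by
      rw [map_sub, smul_sub]; abel
    have h4 : a • (y - y') ∈ JF := by
      rw [h3]
      exact add_mem (add_mem (neg_mem hy) h2) hy'
    have := huniq _ h4
    rwa [map_sub, sub_eq_zero] at this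
  -- define ψ
  let xs : E → F := fun e => Classical.choose (hsurj e)
  have hxs : ∀ e, θ (xs e) = e := fun e => Classical.choose_spec (hsurj e)
  let ys : F → F := fun x => Classical.choose (hdec x)
  have hys : ∀ x, φ x - a • ys x ∈ JF := fun x => Classical.choose_spec (hdec x)
  have hψ_add : ∀ e₁ e₂ : E, θ (ys (xs (e₁ + e₂))) = θ (ys (xs e₁)) + θ (ys (xs e₂)) := by
    intro e₁ e₂
    rw [← map_add]
    refine hkey (xs (e₁ + e₂)) (xs e₁ + xs e₂) _ _ ?_ (hys _) ?_
    · rw [map_add, hxs, hxs, hxs]
    · have : φ (xs e₁ + xs e₂) - a • (ys (xs e₁) + ys (xs e₂)) =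
          (φ (xs e₁) - a • ys (xs e₁)) + (φ (xs e₂) - a • ys (xs e₂)) := by
        rw [map_add, smul_add]; abel
      rw [this]
      exact add_mem (hys _) (hys _)
  have hψ_smul : ∀ (d : D) (e : E), θ (ys (xs (d • e))) = d • θ (ys (xs e)) := by
    intro d e
    rw [← map_smul]
    refine hkey (xs (d • e)) (d • xs e) _ _ ?_ (hys _) ?_
    · rw [map_smul, hxs, hxs]
    · have : φ (d • xs e) - a • (d • ys (xs e)) = d • (φ (xs e) - a • ys (xs e)) := by
        rw [hφ, smul_sub, smul_comm]
      rw [this]
      exact dsmul_mem J d (hys _)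
  let ψ : E →ₗ[D] E :=
    { toFun := fun e => θ (ys (xs e))
      map_add' := hψ_add
      map_smul' := hψ_smul }
  obtain ⟨c, hc⟩ := hE ψ
  have hψx : ∀ x y : F, φ x - a • y ∈ JF → θ y = c • θ x := by
    intro x y hy
    rw [← hc (θ x)]
    exact hkey x (xs (θ x)) y _ (hxs _).symm hy (hys _)
  set r₀ : R := algebraMap K R c * a with hr₀
  let φ' : F →ₗ[R] F := φ - r₀ • LinearMap.id
  have hφ'D : ∀ (d : D) (x : F), φ' (d • x) = d • φ' x := by
    intro d x
    simp only [φ', LinearMap.sub_apply, LinearMap.smul_apply, LinearMap.id_apply]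
    rw [hφ, smul_sub, smul_comm]
  have hφ'img : ∀ x, φ' x ∈ J • (⊤ : Submodule R F) := by
    intro x
    obtain ⟨y, hy⟩ := hdec x
    have h1 : θ (y - algebraMap K R c • x) = 0 := by
      rw [map_sub, hθ, hψx x y hy]
      simp
    have h2 : y - algebraMap K R c • x ∈ mF := (hker _).1 h1
    have h3 : φ' x = (φ x - a • y) + a • (y - algebraMap K R c • x) := by
      simp only [φ', LinearMap.sub_apply, LinearMap.smul_apply, LinearMap.id_apply, hr₀]
      rw [smul_sub, smul_smul, mul_comm a]; abel
    rw [h3]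
    exact add_mem hy (ha_m _ h2)
  obtain ⟨r', hr'⟩ := ih J hJI φ' hφ'D hφ'img
  refine ⟨r₀ + r', fun x => ?_⟩
  have := hr' x
  simp only [φ', LinearMap.sub_apply, LinearMap.smul_apply, LinearMap.id_apply] at this
  rw [add_smul, ← this]; abel


open scoped TensorProduct


universe u v w w' u'

theorem equivFinsupp_baseChange {K : Type*} [Field K] {P : Type*} [CommRing P] [Algebra K P]
    {ι : Type*} [DecidableEq ι] (b : Module.Basis ι K P)
    {N N' : Type*} [AddCommGroup N] [Module K N] [AddCommGroup N'] [Module K N']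
    (φ : N →ₗ[K] N') (x : P ⊗[K] N) (i : ι) :
    TensorProduct.equivFinsuppOfBasisLeft b (φ.baseChange P x) i =
      φ (TensorProduct.equivFinsuppOfBasisLeft b x i) := by
  induction x using TensorProduct.induction_on with
  | zero => simp
  | tmul p n =>
    rw [LinearMap.baseChange_tmul, TensorProduct.equivFinsuppOfBasisLeft_apply_tmul_apply,
      TensorProduct.equivFinsuppOfBasisLeft_apply_tmul_apply, map_smul]
  | add x y hx hy => simp only [map_add, Finsupp.add_apply, hx, hy]

theorem baseChange_hom_aux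
    {K : Type u} [Field K]
    {D : Type v} [Ring D] [Algebra K D]
    {E : Type w} [AddCommGroup E] [Module K E] [Module D E] [IsScalarTower K D E]
    [Module.Finite D E]
    {F : Type w'} [AddCommGroup F] [Module K F] [Module D F] [IsScalarTower K D F]
    (P : Type u') [CommRing P] [Algebra K P]
    (Φ : P ⊗[K] (E →ₗ[D] F) →ₗ[P] (P ⊗[K] E →ₗ[P] P ⊗[K] F))
    (hΦ : ∀ (p : P) (f : E →ₗ[D] F), Φ (p ⊗ₜ[K] f) = p • (f.restrictScalars K).baseChange P) :
    Function.Injective Φ ∧
      ∀ g : P ⊗[K] E →ₗ[P] P ⊗[K] F,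
        g ∈ LinearMap.range Φ ↔
          ∀ d : D, g ∘ₗ (DistribSMul.toLinearMap K E d).baseChange P =
            (DistribSMul.toLinearMap K F d).baseChange P ∘ₗ g := by
  classical
  let b := Module.Free.chooseBasis K P
  let ev : E → ((E →ₗ[D] F) →ₗ[K] F) := fun e =>
    { toFun := fun f => f e
      map_add' := fun _ _ => rfl
      map_smul' := fun _ _ => rfl }
  have hΦ1 : ∀ (x : P ⊗[K] (E →ₗ[D] F)) (e : E),
      Φ x ((1 : P) ⊗ₜ[K] e) = (ev e).baseChange P x := by
    intro x e
    induction x using TensorProduct.induction_on with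
    | zero => simp
    | tmul p f =>
      rw [hΦ, LinearMap.smul_apply, LinearMap.baseChange_tmul, LinearMap.baseChange_tmul,
        TensorProduct.smul_tmul', smul_eq_mul, mul_one]
      rfl
    | add x y hx hy => simp only [map_add, LinearMap.add_apply, hx, hy]
  refine ⟨?_, fun g => ⟨?_, ?_⟩⟩
  · -- injectivity
    rw [injective_iff_map_eq_zero]
    intro x hx
    apply (TensorProduct.equivFinsuppOfBasisLeft b).injective
    rw [map_zero]
    ext i e
    have h1 := hΦ1 x e
    rw [hx, LinearMap.zero_apply] at h1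
    have h2 := equivFinsupp_baseChange b (ev e) x i
    rw [← h1, map_zero, Finsupp.zero_apply] at h2
    simpa [ev] using h2.symm
  · rintro ⟨x, rfl⟩ d
    induction x using TensorProduct.induction_on with
    | zero => simp
    | tmul p f =>
      rw [hΦ]
      apply TensorProduct.AlgebraTensorModule.ext
      intro q e
      simp only [LinearMap.comp_apply, LinearMap.smul_apply, LinearMap.baseChange_tmul,
        LinearMap.restrictScalars_apply, DistribSMul.toLinearMap_apply, map_smul,
        TensorProduct.smul_tmul', smul_eq_mul]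
    | add x y hx hy =>
      rw [map_add, LinearMap.add_comp, LinearMap.comp_add, hx, hy]
  · intro hg
    have hgd : ∀ (d : D) (e : E), g ((1 : P) ⊗ₜ[K] (d • e)) =
        (DistribSMul.toLinearMap K F d).baseChange P (g ((1 : P) ⊗ₜ[K] e)) := by
      intro d e
      have := LinearMap.congr_fun (hg d) ((1 : P) ⊗ₜ[K] e)
      simpa using this
    let gi : Module.Free.ChooseBasisIndex K P → (E →ₗ[D] F) := fun i =>
      { toFun := fun e => TensorProduct.equivFinsuppOfBasisLeft b (g ((1 : P) ⊗ₜ[K] e)) i
        map_add' := fun e e' => by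
          rw [TensorProduct.tmul_add, map_add, map_add, Finsupp.add_apply]
        map_smul' := fun d e => by
          rw [hgd, equivFinsupp_baseChange]
          rfl }
    obtain ⟨s, hs⟩ := Module.Finite.fg_top (R := D) (M := E)
    let S : Finset (Module.Free.ChooseBasisIndex K P) :=
      s.biUnion fun e => (TensorProduct.equivFinsuppOfBasisLeft b (g ((1 : P) ⊗ₜ[K] e))).support
    have hgi0 : ∀ i, i ∉ S → gi i = 0 := by
      intro i hi
      apply LinearMap.ext_on hs
      intro e he
      have : i ∉ (TensorProduct.equivFinsuppOfBasisLeft b (g ((1 : P) ⊗ₜ[K] e))).support := by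
        intro h
        exact hi (Finset.mem_biUnion.2 ⟨e, he, h⟩)
      exact Finsupp.notMem_support_iff.1 this
    refine ⟨∑ i ∈ S, b i ⊗ₜ[K] gi i, ?_⟩
    apply TensorProduct.AlgebraTensorModule.ext
    intro q e
    have hq : q ⊗ₜ[K] e = q • ((1 : P) ⊗ₜ[K] e) := by
      rw [TensorProduct.smul_tmul', smul_eq_mul, mul_one]
    rw [hq, map_smul, map_smul]
    congr 1
    rw [map_sum, LinearMap.sum_apply]
    have h1 : ∀ i ∈ S, Φ (b i ⊗ₜ[K] gi i) ((1 : P) ⊗ₜ[K] e) = b i ⊗ₜ[K] (gi i e) := by
      intro i _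
      rw [hΦ1, LinearMap.baseChange_tmul]
      rfl
    rw [Finset.sum_congr rfl h1]
    have h2 : g ((1 : P) ⊗ₜ[K] e) =
        (TensorProduct.equivFinsuppOfBasisLeft b).symm
          (TensorProduct.equivFinsuppOfBasisLeft b (g ((1 : P) ⊗ₜ[K] e))) :=
      ((TensorProduct.equivFinsuppOfBasisLeft b).symm_apply_apply _).symm
    rw [h2, TensorProduct.equivFinsuppOfBasisLeft_symm_apply]
    rw [Finsupp.sum_of_support_subset _ (s := S) _ _ (fun i _ => TensorProduct.tmul_zero _ _)]
    · rfl
    · intro i hi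
      by_contra hiS
      have := hgi0 i hiS
      exact (Finsupp.mem_support_iff.1 hi) (LinearMap.congr_fun this e)




universe u₁ v₁ w₁

section Irr

variable (K : Type u₁) [Field K] (D : Type v₁) [Ring D] [Algebra K D]
  (E : Type w₁) [AddCommGroup E] [Module K E] [Module D E] [IsScalarTower K D E]

/-- irreducibility of `L ⊗ E` under `L` and `D`. -/
def IrrOver (L : Type*) [Field L] [Algebra K L] : Prop :=
  Nontrivial (L ⊗[K] E) ∧ ∀ N : Submodule L (L ⊗[K] E),
    (∀ (d : D) (x : L ⊗[K] E), x ∈ N → (DistribSMul.toLinearMap K E d).baseChange L x ∈ N) →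
      N = ⊥ ∨ N = ⊤

variable {K D E}

section maps
variable {L M : Type*} [Field L] [Algebra K L] [Field M] [Algebra K M] (σ : L →ₐ[K] M)

theorem rT_smul (l : L) (y : L ⊗[K] E) :
    σ.toLinearMap.rTensor E (l • y) = σ l • σ.toLinearMap.rTensor E y := by
  induction y using TensorProduct.induction_on with
  | zero => simp
  | tmul a e =>
    simp only [TensorProduct.smul_tmul', LinearMap.rTensor_tmul, AlgHom.toLinearMap_apply,
      smul_eq_mul, map_mul]
  | add x y hx hy => simp only [smul_add, map_add, hx, hy]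

theorem rT_bc (φ : E →ₗ[K] E) (y : L ⊗[K] E) :
    σ.toLinearMap.rTensor E (φ.baseChange L y) = φ.baseChange M (σ.toLinearMap.rTensor E y) := by
  induction y using TensorProduct.induction_on with
  | zero => simp
  | tmul a e => simp only [LinearMap.baseChange_tmul, LinearMap.rTensor_tmul]
  | add x y hx hy => simp only [map_add, hx, hy]

theorem rT_injective : Function.Injective (σ.toLinearMap.rTensor E) :=
  Module.Flat.rTensor_preserves_injective_linearMap _ σ.injective

end maps

theorem irrOver_of_algHom {L M : Type*} [Field L] [Algebra K L] [Field M] [Algebra K M]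
    (σ : L →ₐ[K] M) (h : IrrOver K D E M) : IrrOver K D E L := by
  classical
  obtain ⟨hnt, hirr⟩ := h
  have hE : Nontrivial E := (Module.FaithfullyFlat.nontrivial_tensorProduct_iff_right K M).1 hnt
  refine ⟨(Module.FaithfullyFlat.nontrivial_tensorProduct_iff_right K L).2 hE, ?_⟩
  intro N hN
  let _ : Algebra L M := σ.toRingHom.toAlgebra
  have : IsScalarTower K L M := IsScalarTower.of_algebraMap_eq fun k => (σ.commutes k).symm
  obtain ⟨ρ', hρ'⟩ := LinearMap.exists_leftInverse_of_injective (Algebra.linearMap L M)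
    (LinearMap.ker_eq_bot.2 (algebraMap L M).injective)
  let ρ : M →ₗ[K] L := ρ'.restrictScalars K
  have hρσ : ∀ l : L, ρ (σ l) = l := fun l => LinearMap.congr_fun hρ' l
  have hρmul : ∀ (l : L) (c : M), ρ (c * σ l) = ρ c * l := by
    intro l c
    have : c * σ l = l • c := by rw [Algebra.smul_def, mul_comm]; rfl
    rw [this]
    change ρ' (l • c) = ρ' c * l
    rw [map_smul, smul_eq_mul, mul_comm]
  let ι := σ.toLinearMap.rTensor E
  let ρE : M ⊗[K] E →ₗ[K] L ⊗[K] E := ρ.rTensor E
  have hρE : ∀ (c : M) (n : L ⊗[K] E), ρE (c • ι n) = ρ c • n := by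
    intro c n
    induction n using TensorProduct.induction_on with
    | zero => simp
    | tmul l e =>
      simp only [ι, ρE, LinearMap.rTensor_tmul, AlgHom.toLinearMap_apply, TensorProduct.smul_tmul',
        smul_eq_mul, hρmul]
    | add x y hx hy => simp only [map_add, smul_add, hx, hy]
  let Nbar : Submodule M (M ⊗[K] E) := Submodule.span M (ι '' (N : Set (L ⊗[K] E)))
  have hNbar : ∀ (d : D) (x : M ⊗[K] E), x ∈ Nbar →
      (DistribSMul.toLinearMap K E d).baseChange M x ∈ Nbar := by
    intro d x hx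
    refine Submodule.span_induction ?_ ?_ ?_ ?_ hx
    · rintro _ ⟨n, hn, rfl⟩
      rw [← rT_bc]
      exact Submodule.subset_span ⟨_, hN d n hn, rfl⟩
    · simp
    · intro x y _ _ hx hy
      rw [map_add]; exact add_mem hx hy
    · intro c x _ hx
      rw [map_smul]; exact Submodule.smul_mem _ _ hx
  rcases hirr Nbar hNbar with h0 | h1
  · left
    rw [eq_bot_iff]
    intro n hn
    have : ι n ∈ Nbar := Submodule.subset_span ⟨n, hn, rfl⟩
    rw [h0, Submodule.mem_bot] at this
    rw [Submodule.mem_bot]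
    exact rT_injective σ (by rw [this, map_zero])
  · right
    rw [eq_top_iff]
    intro y _
    have hp : ∀ z ∈ Nbar, ∀ c : M, ρE (c • z) ∈ N := by
      intro z hz
      refine Submodule.span_induction ?_ ?_ ?_ ?_ hz
      · rintro _ ⟨n, hn, rfl⟩ c
        rw [hρE]
        exact N.smul_mem _ hn
      · intro c; simp
      · intro x y _ _ hx hy c
        rw [smul_add, map_add]; exact add_mem (hx c) (hy c)
      · intro c' x _ hx c
        rw [smul_smul]; exact hx _
    have h2 := hp (ι y) (by rw [h1]; exact Submodule.mem_top) 1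
    rw [hρE] at h2
    have h3 : ρ 1 = 1 := by
      have := hρσ 1
      rwa [map_one] at this
    rwa [h3, one_smul] at h2

theorem irrOver_of_forall_finite {M : Type u₁} [Field M] [Algebra K M] [Algebra.IsAlgebraic K M]
    (h : ∀ (L : Type u₁) [Field L] [Algebra K L] [FiniteDimensional K L], IrrOver K D E L) :
    IrrOver K D E M := by
  classical
  have hK := h K
  have hE : Nontrivial E := (Module.FaithfullyFlat.nontrivial_tensorProduct_iff_right K K).1 hK.1
  refine ⟨(Module.FaithfullyFlat.nontrivial_tensorProduct_iff_right K M).2 hE, ?_⟩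
  intro N hN
  by_cases hbot : N = ⊥
  · exact Or.inl hbot
  right
  obtain ⟨x, hxN, hx0⟩ := (Submodule.ne_bot_iff N).1 hbot
  obtain ⟨S, hS⟩ := TensorProduct.exists_finset x
  let T : Set M := (fun i : M × E => i.1) '' (S : Set (M × E))
  have : Finite T := (S.finite_toSet.image _).to_subtype
  let L₀ : IntermediateField K M := IntermediateField.adjoin K T
  have : FiniteDimensional K L₀ :=
    IntermediateField.finiteDimensional_adjoin fun c _ => (Algebra.IsIntegral.isIntegral c)
  have hmem : ∀ i ∈ S, i.1 ∈ L₀ := fun i hi =>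
    IntermediateField.subset_adjoin K T ⟨i, hi, rfl⟩
  let σ : L₀ →ₐ[K] M := L₀.val
  let ι := σ.toLinearMap.rTensor E
  let x₀ : L₀ ⊗[K] E := ∑ i ∈ S.attach, (⟨i.1.1, hmem i.1 i.2⟩ : L₀) ⊗ₜ[K] i.1.2
  have hx₀ : ι x₀ = x := by
    rw [hS, map_sum, ← Finset.sum_attach S]
    refine Finset.sum_congr rfl fun i _ => ?_
    simp only [ι, LinearMap.rTensor_tmul, AlgHom.toLinearMap_apply]
    rfl
  let N₀ : Submodule L₀ (L₀ ⊗[K] E) :=
    { carrier := {y | ι y ∈ N}
      add_mem' := fun {a b} ha hb => by
        change ι (a + b) ∈ N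
        rw [map_add]; exact add_mem ha hb
      zero_mem' := by
        change ι 0 ∈ N
        rw [map_zero]; exact zero_mem _
      smul_mem' := fun l y hy => by
        change ι (l • y) ∈ N
        rw [rT_smul]; exact N.smul_mem _ hy }
  have hN₀ : ∀ (d : D) (y : L₀ ⊗[K] E), y ∈ N₀ →
      (DistribSMul.toLinearMap K E d).baseChange L₀ y ∈ N₀ := by
    intro d y hy
    change ι _ ∈ N
    rw [rT_bc]
    exact hN d _ hy
  rcases (h L₀).2 N₀ hN₀ with h0 | h1
  · exfalso
    have : x₀ ∈ N₀ := by
      change ι x₀ ∈ N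
      rw [hx₀]; exact hxN
    rw [h0, Submodule.mem_bot] at this
    apply hx0
    rw [← hx₀, this, map_zero]
  · rw [eq_top_iff]
    intro y hy
    clear hy
    induction y using TensorProduct.induction_on with
    | zero => exact zero_mem _
    | tmul c e =>
      have h2 : ((1 : L₀) ⊗ₜ[K] e : L₀ ⊗[K] E) ∈ N₀ := by rw [h1]; exact Submodule.mem_top
      have h3 : ι ((1 : L₀) ⊗ₜ[K] e) ∈ N := h2
      have h4 : ι ((1 : L₀) ⊗ₜ[K] e) = (1 : M) ⊗ₜ[K] e := by
        simp only [ι, LinearMap.rTensor_tmul, AlgHom.toLinearMap_apply, map_one]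
      rw [h4] at h3
      have h5 : c ⊗ₜ[K] e = c • ((1 : M) ⊗ₜ[K] e) := by
        rw [TensorProduct.smul_tmul', smul_eq_mul, mul_one]
      rw [h5]
      exact N.smul_mem _ h3
    | add a b ha hb => exact add_mem ha hb

end Irr




universe u₂ v₂ w₂

section Schur

variable {K : Type u₂} [Field K] {D : Type v₂} [Ring D] [Algebra K D]
  {E : Type w₂} [AddCommGroup E] [Module K E] [Module D E] [IsScalarTower K D E]

/-- the comparison map. -/
noncomputable def PhiMap (P : Type*) [CommRing P] [Algebra K P] :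
    P ⊗[K] (E →ₗ[D] E) →ₗ[P] (P ⊗[K] E →ₗ[P] P ⊗[K] E) :=
  TensorProduct.AlgebraTensorModule.lift
    { toFun := fun p =>
        { toFun := fun f => p • (f.restrictScalars K).baseChange P
          map_add' := fun f f' => by
            rw [← smul_add]
            congr 1
            ext x
            simp
          map_smul' := fun c f => by
            ext x
            simp only [LinearMap.smul_apply, RingHom.id_apply, LinearMap.baseChange_tmul,
              LinearMap.restrictScalars_apply, TensorProduct.AlgebraTensorModule.curry_apply,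
              LinearMap.restrictScalars_comp, TensorProduct.curry_apply, LinearMap.coe_comp,
              LinearMap.coe_restrictScalars, Function.comp_apply, TensorProduct.tmul_smul]
            rw [smul_comm] }
      map_add' := fun p p' => by
        ext f x
        simp [add_smul, TensorProduct.add_tmul]
      map_smul' := fun q p => by
        ext f x
        simp [mul_smul, TensorProduct.smul_tmul'] }

theorem PhiMap_tmul (P : Type*) [CommRing P] [Algebra K P] (p : P) (f : E →ₗ[D] E) :
    PhiMap (K := K) (D := D) (E := E) P (p ⊗ₜ[K] f) = p • (f.restrictScalars K).baseChange P := by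
  simp [PhiMap]

theorem exists_eq_smul_of_irrOver {P : Type*} [Field P] [Algebra K P] [IsAlgClosed P]
    (hirr : IrrOver K D E P) (g : Module.End P (P ⊗[K] E)) (hint : IsIntegral P g)
    (hg : ∀ d : D, g ∘ₗ (DistribSMul.toLinearMap K E d).baseChange P =
      (DistribSMul.toLinearMap K E d).baseChange P ∘ₗ g) :
    ∃ c : P, ∀ x, g x = c • x := by
  classical
  have := hirr.1
  set μ := minpoly P g with hμ
  have hμ0 : Polynomial.aeval g μ = 0 := minpoly.aeval P g
  obtain ⟨c, hc⟩ := IsAlgClosed.exists_root μ (ne_of_gt (minpoly.degree_pos hint))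
  obtain ⟨q, hq⟩ := Polynomial.dvd_iff_isRoot.2 hc
  have hμne : μ ≠ 0 := minpoly.ne_zero hint
  have hqne : q ≠ 0 := by
    rintro rfl
    rw [mul_zero] at hq
    exact hμne hq
  have hdeg : q.degree < μ.degree := by
    rw [hq, Polynomial.degree_mul, Polynomial.degree_X_sub_C, Polynomial.degree_eq_natDegree hqne]
    exact_mod_cast (by omega : q.natDegree < 1 + q.natDegree)
  have hqg : Polynomial.aeval g q ≠ 0 := by
    intro h0
    exact absurd (minpoly.degree_le_of_ne_zero P g hqne h0) (not_le.2 hdeg)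
  obtain ⟨v, hv⟩ : ∃ v, Polynomial.aeval g q v ≠ 0 := by
    by_contra hcon
    push Not at hcon
    exact hqg (LinearMap.ext hcon)
  let N : Submodule P (P ⊗[K] E) := LinearMap.ker (g - algebraMap P _ c)
  have hvN : Polynomial.aeval g q v ∈ N := by
    rw [LinearMap.mem_ker]
    have h1 : (g - algebraMap P (Module.End P (P ⊗[K] E)) c) * Polynomial.aeval g q = 0 := by
      have : Polynomial.aeval g (Polynomial.X - Polynomial.C c) =
          g - algebraMap P (Module.End P (P ⊗[K] E)) c := by simp
      rw [← this, ← map_mul, ← hq, hμ0]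
    exact LinearMap.congr_fun h1 v
  have hND : ∀ (d : D) (x : P ⊗[K] E), x ∈ N →
      (DistribSMul.toLinearMap K E d).baseChange P x ∈ N := by
    intro d x hx
    rw [LinearMap.mem_ker] at hx ⊢
    have h1 := LinearMap.congr_fun (hg d) x
    simp only [LinearMap.comp_apply] at h1
    simp only [LinearMap.sub_apply, Module.algebraMap_end_apply] at hx ⊢
    rw [h1, ← map_smul, ← map_sub, hx, map_zero]
  rcases hirr.2 N hND with h0 | h1
  · exfalso
    rw [h0, Submodule.mem_bot] at hvN
    exact hv hvN
  · refine ⟨c, fun x => ?_⟩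
    have : x ∈ N := by rw [h1]; exact Submodule.mem_top
    rw [LinearMap.mem_ker] at this
    simp only [LinearMap.sub_apply, Module.algebraMap_end_apply] at this
    exact sub_eq_zero.1 this

/-- the commutant subalgebra -/
def commSubalg (P : Type*) [CommRing P] [Algebra K P] : Subalgebra P (Module.End P (P ⊗[K] E)) where
  carrier := {g | ∀ d : D, g ∘ₗ (DistribSMul.toLinearMap K E d).baseChange P =
      (DistribSMul.toLinearMap K E d).baseChange P ∘ₗ g}
  mul_mem' := fun {a b} ha hb d => by
    change (a ∘ₗ b) ∘ₗ _ = _ ∘ₗ (a ∘ₗ b)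
    rw [LinearMap.comp_assoc, hb d, ← LinearMap.comp_assoc, ha d, LinearMap.comp_assoc]
  add_mem' := fun {a b} ha hb d => by
    rw [LinearMap.add_comp, LinearMap.comp_add, ha d, hb d]
  algebraMap_mem' := fun c d => by
    ext x
    simp

theorem scalar_of_absIrr [CharZero K]
    [Module.Finite K (E →ₗ[D] E)] [Module.Finite D E]
    (habs : IrrOver K D E (AlgebraicClosure K))
    (φ : E →ₗ[D] E) : ∃ c : K, ∀ x : E, φ x = c • x := by
  classical
  let P := AlgebraicClosure K
  let Φ := PhiMap (K := K) (D := D) (E := E) P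
  obtain ⟨hinj, hrange⟩ := baseChange_hom_aux P Φ (PhiMap_tmul P)
  have hfg : (commSubalg (K := K) (D := D) (E := E) P).toSubmodule.FG := by
    have h1 : (commSubalg (K := K) (D := D) (E := E) P).toSubmodule = LinearMap.range Φ := by
      ext g
      rw [hrange g]
      rfl
    rw [h1, LinearMap.range_eq_map]
    exact (Module.Finite.fg_top).map Φ
  let g : Module.End P (P ⊗[K] E) := (φ.restrictScalars K).baseChange P
  have hgmem : g ∈ commSubalg (K := K) (D := D) (E := E) P := by
    have : g ∈ LinearMap.range Φ := ⟨(1 : P) ⊗ₜ[K] φ, by rw [PhiMap_tmul, one_smul]⟩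
    exact (hrange g).1 this
  have hint : IsIntegral P g := IsIntegral.of_mem_of_fg _ hfg g hgmem
  obtain ⟨c, hc⟩ := exists_eq_smul_of_irrOver habs g hint hgmem
  obtain ⟨ℓ, hℓ⟩ := LinearMap.exists_leftInverse_of_injective (Algebra.linearMap K P)
    (LinearMap.ker_eq_bot.2 (algebraMap K P).injective)
  have hℓ1 : ℓ 1 = 1 := by
    have := LinearMap.congr_fun hℓ 1
    simpa using this
  refine ⟨ℓ c, fun e => ?_⟩
  have h1 := hc ((1 : P) ⊗ₜ[K] e)
  simp only [g, LinearMap.baseChange_tmul, LinearMap.restrictScalars_apply,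
    TensorProduct.smul_tmul', smul_eq_mul, mul_one] at h1
  have h2 := congrArg (fun z => TensorProduct.lid K E (ℓ.rTensor E z)) h1
  simpa [hℓ1] using h2

end Schur


end Groth.Agent.Lib.Helper7.DefModLib
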