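import Mathlib
import Groth.Agent.Lib.Helper2NormOrdB
import Groth.Agent.Lib.Helper2Div

set_option autoImplicit false
set_option linter.style.haveILetI false
set_option linter.unusedVariables false
set_option linter.unusedSectionVars false
universe u
open CategoryTheory CategoryTheory.Limits AlgebraicGeometry IsLocalRing TopologicalSpace

namespace Groth.Agent.Lib.Helper7.CycDeg

theorem ord_atPrime_of_mem {R : Type u} [CommRing R] (s : R)
    (hs : (Ideal.span {s}).IsMaximal) (p : Ideal R) [p.IsPrime] (h : s ∈ p) :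
    Ring.ord (Localization.AtPrime p) (algebraMap R (Localization.AtPrime p) s) = 1 := by
  unfold Ring.ord
  have hp : Ideal.span {s} = p :=
    hs.eq_of_le (Ideal.IsPrime.ne_top inferInstance) ((Ideal.span_singleton_le_iff_mem p).mpr h)
  have h1 : Ideal.span {algebraMap R (Localization.AtPrime p) s} =
      IsLocalRing.maximalIdeal (Localization.AtPrime p) := by
    rw [← Localization.AtPrime.map_eq_maximalIdeal]
    have h2 : Ideal.map (algebraMap R (Localization.AtPrime p)) p =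
        Ideal.map (algebraMap R (Localization.AtPrime p)) (Ideal.span {s}) :=
      congrArg (Ideal.map (algebraMap R (Localization.AtPrime p))) hp.symm
    rw [h2, Ideal.map_span, Set.image_singleton]
  rw [h1, Module.length_eq_one_iff, isSimpleModule_iff_isCoatom, ← Ideal.isMaximal_def]
  infer_instance

theorem ord_atPrime_of_notMem {R : Type u} [CommRing R] (s : R)
    (p : Ideal R) [p.IsPrime] (h : s ∉ p) :
    Ring.ord (Localization.AtPrime p) (algebraMap R (Localization.AtPrime p) s) = 0 := by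
  unfold Ring.ord
  have hu : IsUnit (algebraMap R (Localization.AtPrime p) s) :=
    IsLocalization.map_units (Localization.AtPrime p) (⟨s, h⟩ : p.primeCompl)
  rw [Ideal.span_singleton_eq_top.mpr hu, Module.length_eq_zero_iff]
  exact Submodule.Quotient.subsingleton_iff.mpr rfl

end Groth.Agent.Lib.Helper7.CycDeg

namespace Groth.Agent.Lib.Helper7.CycDeg

open Groth.Agent.Lib.Helper2.NormOrdB Groth.Agent.Lib.Helper2.CycOrd

section Lord

variable {X : Scheme.{u}} [IsIntegral X] [IsLocallyNoetherian X] (δ : X → ℤ)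
  (hδ : Cyc.IsDimFun X δ) {W : X.Opens} (hW : IsAffineOpen W) (ξ : X) (hξ : ξ = genericPoint X)
  (hξW : ξ ∈ W) (s : Γ(X, W)) (hs0 : s ≠ 0) (hs : (Ideal.span {s}).IsMaximal) (y : X) (hy : y ∈ W)
  (hc : δ y + 1 = δ ξ)

include hδ hW hξ hy hc in
theorem divFun_evaluation_aux (a b : Γ(X, W)) (ha : a ≠ 0) (hb : b ≠ 0) :
    Cyc.divFun δ ξ ((X.evaluation W ξ hξW).hom a / (X.evaluation W ξ hξW).hom b) y =
      ((Ring.ord (Localization.AtPrime (hW.primeIdealOf ⟨y, hy⟩).asIdeal)
          (algebraMap Γ(X, W) _ a)).toNat : ℤ) -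
        ((Ring.ord (Localization.AtPrime (hW.primeIdealOf ⟨y, hy⟩).asIdeal)
          (algebraMap Γ(X, W) _ b)).toNat : ℤ) := by
  have hsp : ξ ⤳ y := specializes_of_eq_genericPoint ξ hξ y
  have hdim := ringKrullDim_locQuot_le_one δ hδ y ξ hsp hc
  simp only [Cyc.divFun]
  rw [dif_pos ⟨hsp, hc⟩]
  exact ordAt_eq_sub hW y hy ξ hξ hsp hξW hdim a b ha hb

include hδ hW hξ hs0 hy hc in
theorem divFun_evaluation_of_mem (h : y ∈ X.basicOpen s) :
    Cyc.divFun δ ξ ((X.evaluation W ξ hξW).hom s) y = 0 := by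
  haveI : Nonempty W := ⟨⟨ξ, hξW⟩⟩
  have h1 := divFun_evaluation_aux δ hδ hW ξ hξ hξW y hy hc s 1 hs0 one_ne_zero
  rw [map_one, div_one, map_one, Ring.ord_one] at h1
  rw [h1, ord_atPrime_of_notMem s _
    ((Groth.Agent.Lib.Helper2.mem_basicOpen_iff_notMem_primeIdealOf hW y hy s).mp h)]
  simp

include hδ hW hξ hs0 hs hy hc in
theorem divFun_evaluation_of_notMem (h : y ∉ X.basicOpen s) :
    Cyc.divFun δ ξ ((X.evaluation W ξ hξW).hom s) y = 1 := by
  haveI : Nonempty W := ⟨⟨ξ, hξW⟩⟩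
  have h1 := divFun_evaluation_aux δ hδ hW ξ hξ hξW y hy hc s 1 hs0 one_ne_zero
  rw [map_one, div_one, map_one, Ring.ord_one] at h1
  have h2 : s ∈ (hW.primeIdealOf ⟨y, hy⟩).asIdeal := by
    by_contra h3
    exact h ((Groth.Agent.Lib.Helper2.mem_basicOpen_iff_notMem_primeIdealOf hW y hy s).mpr h3)
  rw [h1, ord_atPrime_of_mem s hs _ h2]
  simp

include hδ hW hξ hs0 hy hc in
theorem divFun_evaluation_inv_of_mem (h : y ∈ X.basicOpen s) :
    Cyc.divFun δ ξ ((X.evaluation W ξ hξW).hom s)⁻¹ y = 0 := by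
  haveI : Nonempty W := ⟨⟨ξ, hξW⟩⟩
  have h1 := divFun_evaluation_aux δ hδ hW ξ hξ hξW y hy hc 1 s one_ne_zero hs0
  rw [map_one, one_div, map_one, Ring.ord_one] at h1
  rw [h1, ord_atPrime_of_notMem s _
    ((Groth.Agent.Lib.Helper2.mem_basicOpen_iff_notMem_primeIdealOf hW y hy s).mp h)]
  simp

include hδ hW hξ hs0 hs hy hc in
theorem divFun_evaluation_inv_of_notMem (h : y ∉ X.basicOpen s) :
    Cyc.divFun δ ξ ((X.evaluation W ξ hξW).hom s)⁻¹ y = -1 := by
  haveI : Nonempty W := ⟨⟨ξ, hξW⟩⟩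
  have h1 := divFun_evaluation_aux δ hδ hW ξ hξ hξW y hy hc 1 s one_ne_zero hs0
  rw [map_one, one_div, map_one, Ring.ord_one] at h1
  have h2 : s ∈ (hW.primeIdealOf ⟨y, hy⟩).asIdeal := by
    by_contra h3
    exact h ((Groth.Agent.Lib.Helper2.mem_basicOpen_iff_notMem_primeIdealOf hW y hy s).mpr h3)
  rw [h1, ord_atPrime_of_mem s hs _ h2]
  simp

end Lord

end Groth.Agent.Lib.Helper7.CycDeg
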