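import Mathlib
import Groth.Agent.Lib.Helper27ChartPoly
import Groth.Agent.Lib.Helper27PMapSec
import Groth.Agent.Lib.Helper27PnChart
import Groth.Agent.Lib.Helper27ProjSpaceIrr
import Groth.Agent.Lib.Helper27RelProj

set_option autoImplicit false
set_option linter.style.haveILetI false
set_option linter.unusedVariables false
set_option linter.unusedSectionVars false
universe u
open CategoryTheory CategoryTheory.Limits AlgebraicGeometry IsLocalRing TopologicalSpace
open HomogeneousLocalization MvPolynomial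

namespace Groth.Agent.Lib.Helper7.CycDeg

open Groth.Agent.Lib.Helper27ProjSpaceBC Groth.Agent.Lib.Helper27DehomAway
  Groth.Agent.Lib.Helper27ChartPoly

variable (K : Type u) [Field K]

/-- `P^1_K` as a `Proj`. -/
noncomputable abbrev PP : Scheme.{u} := Proj (CohB1.polyGrading 1 K)

/-- the standard open `D₊(X_i)` of `P^1`. -/
noncomputable abbrev W (i : Fin 2) : (PP K).Opens :=
  Proj.basicOpen (CohB1.polyGrading 1 K) (X i)

/-- coordinate function `X_j / X_i` on the chart. -/
noncomputable def tt (i j : Fin 2) : Away (CohB1.polyGrading 1 K) (X i) :=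
  dehA (hX 1 K i) (X j)

/-- the section `X_j / X_i` of the structure sheaf over `D₊(X_i)`. -/
noncomputable def ss (i j : Fin 2) : Γ(PP K, W K i) :=
  (Proj.awayToSection (CohB1.polyGrading 1 K) (X i)).hom (tt K i j)

/-- the `K`-point `X_j = 0` of the chart, as a ring hom. -/
noncomputable def eps (i : Fin 2) : Away (CohB1.polyGrading 1 K) (X i) →+* K :=
  evB (RingHom.id K) i (fun k => if k = i then 1 else 0) (if_pos rfl)

theorem eps_tt (i j : Fin 2) (h : j ≠ i) : eps K i (tt K i j) = 0 := by
  unfold eps tt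
  rw [evB_dehA_X, if_neg h]

theorem eps_strA (i : Fin 2) (r : K) :
    eps K i (strA (CohB1.polyGrading 1 K) (X i) r) = r := by
  unfold eps
  rw [evB_strA]
  rfl

theorem sub_strA_eps_mem (i j : Fin 2) (h : j ≠ i) (a : Away (CohB1.polyGrading 1 K) (X i)) :
    a - strA (CohB1.polyGrading 1 K) (X i) (eps K i a) ∈ Ideal.span {tt K i j} := by
  obtain ⟨b, rfl⟩ := dehA_surjective (hX 1 K i) a
  induction b using MvPolynomial.induction_on with
  | C r =>
    have h1 : dehA (hX 1 K i) (C r) = strA (CohB1.polyGrading 1 K) (X i) r :=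
      dehA_algebraMap' (CohB1.polyGrading 1 K) (hX 1 K i) r
    rw [h1, eps_strA, sub_self]
    exact zero_mem _
  | add p q hp hq =>
    have : dehA (hX 1 K i) (p + q) - strA (CohB1.polyGrading 1 K) (X i)
        (eps K i (dehA (hX 1 K i) (p + q))) =
        (dehA (hX 1 K i) p - strA (CohB1.polyGrading 1 K) (X i) (eps K i (dehA (hX 1 K i) p))) +
        (dehA (hX 1 K i) q - strA (CohB1.polyGrading 1 K) (X i) (eps K i (dehA (hX 1 K i) q))) := by
      simp only [map_add]
      ring
    rw [this]
    exact add_mem hp hq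
  | mul_X p k hp =>
    have hk : dehA (hX 1 K i) (X k) - strA (CohB1.polyGrading 1 K) (X i)
        (eps K i (dehA (hX 1 K i) (X k))) ∈ Ideal.span {tt K i j} := by
      by_cases hki : k = i
      · subst hki
        rw [dehA_self, map_one, map_one, sub_self]
        exact zero_mem _
      · have hkj : k = j := by omega
        subst hkj
        have : eps K i (dehA (hX 1 K i) (X k)) = 0 := eps_tt K i k hki
        rw [this, map_zero, sub_zero]
        exact Ideal.subset_span rfl
    have : dehA (hX 1 K i) (p * X k) - strA (CohB1.polyGrading 1 K) (X i)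
        (eps K i (dehA (hX 1 K i) (p * X k))) =
        dehA (hX 1 K i) p * (dehA (hX 1 K i) (X k) - strA (CohB1.polyGrading 1 K) (X i)
          (eps K i (dehA (hX 1 K i) (X k)))) +
        strA (CohB1.polyGrading 1 K) (X i) (eps K i (dehA (hX 1 K i) (X k))) *
          (dehA (hX 1 K i) p - strA (CohB1.polyGrading 1 K) (X i)
            (eps K i (dehA (hX 1 K i) p))) := by
      simp only [map_mul]
      ring
    rw [this]
    exact add_mem (Ideal.mul_mem_left _ _ hk) (Ideal.mul_mem_left _ _ hp)

theorem span_tt_eq_ker (i j : Fin 2) (h : j ≠ i) :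
    Ideal.span {tt K i j} = RingHom.ker (eps K i) := by
  apply le_antisymm
  · rw [Ideal.span_singleton_le_iff_mem, RingHom.mem_ker]
    exact eps_tt K i j h
  · intro a ha
    rw [RingHom.mem_ker] at ha
    have := sub_strA_eps_mem K i j h a
    rwa [ha, map_zero, sub_zero] at this

theorem span_tt_isMaximal (i j : Fin 2) (h : j ≠ i) : (Ideal.span {tt K i j}).IsMaximal := by
  rw [span_tt_eq_ker K i j h]
  apply RingHom.ker_isMaximal_of_surjective
  intro r
  exact ⟨_, eps_strA K i r⟩

theorem awayToSection_bijective (i : Fin 2) :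
    Function.Bijective (Proj.awayToSection (CohB1.polyGrading 1 K) (X i)).hom := by
  have : IsIso (Proj.awayToSection (CohB1.polyGrading 1 K) (X i)) :=
    (Proj.basicOpenIsoAway (CohB1.polyGrading 1 K) (X i) (hX 1 K i) Nat.one_pos).isIso_hom
  exact ConcreteCategory.bijective_of_isIso _

theorem span_ss_isMaximal (i j : Fin 2) (h : j ≠ i) : (Ideal.span {ss K i j}).IsMaximal := by
  have h1 := (span_tt_isMaximal K i j h).map_bijective
    (Proj.awayToSection (CohB1.polyGrading 1 K) (X i)).hom (awayToSection_bijective K i)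
  rw [Ideal.map_span, Set.image_singleton] at h1
  exact h1

theorem tt_ne_zero (i j : Fin 2) (h : j ≠ i) : tt K i j ≠ 0 := by
  intro h0
  have h1 : toPoly 1 K i (tt K i j) = X ⟨j, h⟩ := by
    unfold toPoly tt
    rw [evB_dehA_X, cpt_of_ne 1 K i h]
  rw [h0, map_zero] at h1
  exact (X_ne_zero (R := K) (⟨j, h⟩ : {j : Fin 2 // j ≠ i})) h1.symm

theorem ss_ne_zero (i j : Fin 2) (h : j ≠ i) : ss K i j ≠ 0 := by
  intro h0
  exact tt_ne_zero K i j h ((awayToSection_bijective K i).1 (by rw [map_zero]; exact h0))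

instance isIntegral_projSpace_one : IsIntegral (PP K) := by
  haveI : IsReduced (PP K) :=
    Groth.Agent.Lib.Helper27RelProj.isReduced_proj (CohB1.polyGrading 1 K)
      (fun _ _ hx => hx.eq_zero)
  haveI : IrreducibleSpace ↥(PP K) :=
    Groth.Agent.Lib.Helper27ProjSpaceIrr.irreducibleSpace_projSpace 1 K
  exact isIntegral_of_irreducibleSpace_of_isReduced _

theorem awayMap_tt_mul (i j : Fin 2) :
    awayMap (CohB1.polyGrading 1 K) (hX 1 K j) (rfl : X i * X j = X i * X j) (tt K i j) *
      awayMap (CohB1.polyGrading 1 K) (hX 1 K i)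
        (mul_comm (X i) (X j) : (X i : MvPolynomial (Fin 2) K) * X j = X j * X i) (tt K j i) = 1 := by
  unfold tt
  rw [dehA_of_mem (hX 1 K i) (hX 1 K j), dehA_of_mem (hX 1 K j) (hX 1 K i), awayMap_mk, awayMap_mk]
  apply HomogeneousLocalization.val_injective
  rw [HomogeneousLocalization.val_mul, Away.val_mk, Away.val_mk, HomogeneousLocalization.val_one,
    Localization.mk_mul, ← Localization.mk_one, Localization.mk_eq_mk_iff,
    Localization.r_iff_exists]
  refine ⟨1, ?_⟩
  simp only [OneMemClass.coe_one, one_mul, Submonoid.coe_mul, mul_one, pow_one]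
  ring

theorem res_ss (i j : Fin 2) :
    ((PP K).presheaf.map (homOfLE (Proj.basicOpen_mono (CohB1.polyGrading 1 K) _ _
      ⟨X j, rfl⟩ : Proj.basicOpen (CohB1.polyGrading 1 K) (X i * X j) ≤ W K i)).op).hom (ss K i j) =
    (Proj.awayToSection (CohB1.polyGrading 1 K) (X i * X j)).hom
      (awayMap (CohB1.polyGrading 1 K) (hX 1 K j) (rfl : X i * X j = X i * X j) (tt K i j)) := by
  have h := Proj.awayMap_awayToSection (CohB1.polyGrading 1 K) (hX 1 K j)
    (rfl : (X i : MvPolynomial (Fin 2) K) * X j = X i * X j)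
  exact (congr($h (tt K i j))).symm

theorem res_ss' (i j : Fin 2) :
    ((PP K).presheaf.map (homOfLE (Proj.basicOpen_mono (CohB1.polyGrading 1 K) _ _
      ⟨X i, mul_comm _ _⟩ : Proj.basicOpen (CohB1.polyGrading 1 K) (X i * X j) ≤ W K j)).op).hom
        (ss K j i) =
    (Proj.awayToSection (CohB1.polyGrading 1 K) (X i * X j)).hom
      (awayMap (CohB1.polyGrading 1 K) (hX 1 K i)
        (mul_comm (X i) (X j) : (X i : MvPolynomial (Fin 2) K) * X j = X j * X i) (tt K j i)) := by
  have h := Proj.awayMap_awayToSection (CohB1.polyGrading 1 K) (hX 1 K i)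
    (mul_comm (X i) (X j) : (X i : MvPolynomial (Fin 2) K) * X j = X j * X i)
  exact (congr($h (tt K j i))).symm

theorem germ_ss_mul (i j : Fin 2) (y : PP K) (hyi : y ∈ W K i) (hyj : y ∈ W K j) :
    ((PP K).presheaf.germ (W K i) y hyi).hom (ss K i j) *
      ((PP K).presheaf.germ (W K j) y hyj).hom (ss K j i) = 1 := by
  have hy : y ∈ Proj.basicOpen (CohB1.polyGrading 1 K) (X i * X j) := by
    rw [Proj.basicOpen_mul]
    exact ⟨hyi, hyj⟩
  have e1 := TopCat.Presheaf.germ_res_apply (PP K).presheaf
    (homOfLE (Proj.basicOpen_mono (CohB1.polyGrading 1 K) _ _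
      ⟨X j, rfl⟩ : Proj.basicOpen (CohB1.polyGrading 1 K) (X i * X j) ≤ W K i)) y hy (ss K i j)
  have e2 := TopCat.Presheaf.germ_res_apply (PP K).presheaf
    (homOfLE (Proj.basicOpen_mono (CohB1.polyGrading 1 K) _ _
      ⟨X i, mul_comm _ _⟩ : Proj.basicOpen (CohB1.polyGrading 1 K) (X i * X j) ≤ W K j)) y hy
      (ss K j i)
  have e1' : ((PP K).presheaf.germ (W K i) y hyi).hom (ss K i j) =
      ((PP K).presheaf.germ
        (Proj.basicOpen (CohB1.polyGrading 1 K) (X i * X j)) y hy).hom
      ((Proj.awayToSection (CohB1.polyGrading 1 K) (X i * X j)).hom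
        (awayMap (CohB1.polyGrading 1 K) (hX 1 K j) (rfl : X i * X j = X i * X j) (tt K i j))) := by
    rw [← res_ss]
    exact e1.symm
  have e2' : ((PP K).presheaf.germ (W K j) y hyj).hom (ss K j i) =
      ((PP K).presheaf.germ
        (Proj.basicOpen (CohB1.polyGrading 1 K) (X i * X j)) y hy).hom
      ((Proj.awayToSection (CohB1.polyGrading 1 K) (X i * X j)).hom
        (awayMap (CohB1.polyGrading 1 K) (hX 1 K i)
        (mul_comm (X i) (X j) : (X i : MvPolynomial (Fin 2) K) * X j = X j * X i) (tt K j i))) := by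
    rw [← res_ss']
    exact e2.symm
  rw [e1', e2', ← map_mul, ← map_mul, awayMap_tt_mul, map_one, map_one]

end Groth.Agent.Lib.Helper7.CycDeg
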