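import Mathlib
import Groth.Agent.Lib.Helper7DegB

set_option autoImplicit false
set_option linter.style.haveILetI false
set_option linter.unusedVariables false
set_option linter.unusedSectionVars false
universe u
open CategoryTheory CategoryTheory.Limits AlgebraicGeometry IsLocalRing TopologicalSpace

namespace Groth.Agent.Lib.Helper7.CycDeg

section E1

variable {X : Scheme.{u}} {L : Type u} [Field L] (σ : Spec (CommRingCat.of L) ⟶ X)

/-- pull-back of functions along a field-valued point: `κ(σ(pt)) → L`. -/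
noncomputable def evPt : X.residueField (σ (closedPoint L)) ⟶ CommRingCat.of L :=
  X.descResidueField (Scheme.stalkClosedPointTo σ)

theorem top_le_preimage {U : X.Opens} (hU : σ (closedPoint L) ∈ U) :
    (⊤ : (Spec (CommRingCat.of L)).Opens) ≤ σ ⁻¹ᵁ U :=
  (Scheme.preimage_eq_top_of_closedPoint_mem σ hU).ge

theorem evPt_evaluation {U : X.Opens} (hU : σ (closedPoint L) ∈ U) (s : Γ(X, U)) :
    (evPt σ).hom ((X.evaluation U (σ (closedPoint L)) hU).hom s) =
      (Scheme.ΓSpecIso (CommRingCat.of L)).hom ((σ.appLE U ⊤ (top_le_preimage σ hU)).hom s) := by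
  have h := Scheme.germ_stalkClosedPointTo σ U hU
  have h2 : X.evaluation U (σ (closedPoint L)) hU ≫ evPt σ =
      σ.appLE U ⊤ (top_le_preimage σ hU) ≫ (Scheme.ΓSpecIso (CommRingCat.of L)).hom := by
    unfold evPt Scheme.evaluation
    rw [Category.assoc, Scheme.residue_descResidueField, h]
    rfl
  exact congr($h2 s)

end E1

section Pts

open HomogeneousLocalization MvPolynomial
open Groth.Agent.Lib.Helper27ProjSpaceBC Groth.Agent.Lib.Helper27DehomAway
  Groth.Agent.Lib.Helper27ChartPoly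

variable (K : Type u) [Field K] {L : Type u} [Field L] (φ : K →+* L) (i : Fin 2) (c : Fin 2 → L)
  (hc : c i = 1)

/-- the `L`-point `[c 0 : c 1]` of `P^1_K` (in the chart `i`). -/
noncomputable def ptP : Spec (CommRingCat.of L) ⟶ PP K :=
  Spec.map (CommRingCat.ofHom (evB φ i c hc)) ≫
    Proj.awayι (CohB1.polyGrading 1 K) (X i) (hX 1 K i) Nat.one_pos

theorem ptP_toSpec : ptP K φ i c hc ≫ toSpec' 1 K = Spec.map (CommRingCat.ofHom φ) := by
  unfold ptP
  rw [Category.assoc, awayι_toSpec, ← Spec.map_comp, ← CommRingCat.ofHom_comp, evB_comp_strA]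

theorem ptP_mem : ptP K φ i c hc (closedPoint L) ∈ W K i := by
  have : ptP K φ i c hc (closedPoint L) ∈
      (Proj.awayι (CohB1.polyGrading 1 K) (X i) (hX 1 K i) Nat.one_pos).opensRange :=
    ⟨_, rfl⟩
  rwa [Proj.opensRange_awayι] at this

theorem evPt_ptP_ss (j : Fin 2) :
    (evPt (ptP K φ i c hc)).hom (((PP K).evaluation (W K i) _ (ptP_mem K φ i c hc)).hom (ss K i j)) =
      c j := by
  rw [evPt_evaluation]
  have h1 := Scheme.Hom.appLE_comp_appLE (Spec.map (CommRingCat.ofHom (evB φ i c hc)))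
    (Proj.awayι (CohB1.polyGrading 1 K) (X i) (hX 1 K i) Nat.one_pos) (W K i) ⊤ ⊤
    (Groth.Agent.Lib.Helper27PMapSec.top_le_awayι_preimage (CohB1.polyGrading 1 K) (hX 1 K i)
      Nat.one_pos) le_top
  have h2 : ((ptP K φ i c hc).appLE (W K i) ⊤ (top_le_preimage _ (ptP_mem K φ i c hc))).hom (ss K i j) =
      ((Spec.map (CommRingCat.ofHom (evB φ i c hc))).appLE ⊤ ⊤ le_top).hom
        (((Proj.awayι (CohB1.polyGrading 1 K) (X i) (hX 1 K i) Nat.one_pos).appLE (W K i) ⊤
          (Groth.Agent.Lib.Helper27PMapSec.top_le_awayι_preimage (CohB1.polyGrading 1 K) (hX 1 K i)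
            Nat.one_pos)).hom (ss K i j)) :=
    (congr($h1 (ss K i j))).symm
  have h6 : ((Proj.awayι (CohB1.polyGrading 1 K) (X i) (hX 1 K i) Nat.one_pos).appLE (W K i) ⊤
      (Groth.Agent.Lib.Helper27PMapSec.top_le_awayι_preimage (CohB1.polyGrading 1 K) (hX 1 K i)
        Nat.one_pos)).hom (ss K i j) = (Scheme.ΓSpecIso _).inv (tt K i j) :=
    Groth.Agent.Lib.Helper27PMapSec.awayι_appLE_awayToSection (CohB1.polyGrading 1 K) (hX 1 K i)
      Nat.one_pos (tt K i j)
  have h3 := Scheme.ΓSpecIso_inv_naturality (CommRingCat.ofHom (evB φ i c hc))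
  have h4 : ((Spec.map (CommRingCat.ofHom (evB φ i c hc))).appLE ⊤ ⊤ le_top).hom
      ((Scheme.ΓSpecIso _).inv (tt K i j)) = (Scheme.ΓSpecIso _).inv (evB φ i c hc (tt K i j)) :=
    (congr($h3 (tt K i j))).symm
  have h5 : (Scheme.ΓSpecIso (CommRingCat.of L)).hom
      ((Scheme.ΓSpecIso (CommRingCat.of L)).inv (evB φ i c hc (tt K i j))) = evB φ i c hc (tt K i j) :=
    congr($((Scheme.ΓSpecIso (CommRingCat.of L)).inv_hom_id) _)
  have h7 : evB φ i c hc (tt K i j) = c j := evB_dehA_X φ i c hc j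
  rw [h2, h6, h4, h5, h7]

end Pts

end Groth.Agent.Lib.Helper7.CycDeg
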