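import Mathlib
import Groth.Agent.Lib.Helper7DegC
import Groth.Prelude.Def_Cyc

set_option autoImplicit false
set_option linter.style.haveILetI false
set_option linter.unusedVariables false
set_option linter.unusedSectionVars false
universe u
open CategoryTheory CategoryTheory.Limits AlgebraicGeometry IsLocalRing TopologicalSpace

namespace Groth.Agent.Lib.Helper7.CycDeg

section Sec

variable {X : Scheme.{u}} {K : Type u} [Field K]

theorem evPt_comp {L : Type u} [Field L] {Y : Scheme.{u}} (σ : Spec (CommRingCat.of L) ⟶ X) (c : X ⟶ Y) :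
    evPt (σ ≫ c) = c.residueFieldMap (σ (closedPoint L)) ≫ evPt σ :=
  Scheme.descResidueField_stalkClosedPointTo_comp c σ

theorem surjective_evPt_of_eq_id (σ' : Spec (CommRingCat.of K) ⟶ Spec (CommRingCat.of K))
    (h : σ' = 𝟙 _) : Function.Surjective (evPt σ').hom := by
  subst h
  intro r
  refine ⟨((Spec (CommRingCat.of K)).evaluation ⊤ _ trivial).hom
    ((Scheme.ΓSpecIso (CommRingCat.of K)).inv r), ?_⟩
  refine (evPt_evaluation (𝟙 (Spec (CommRingCat.of K))) (U := ⊤) trivial _).trans ?_
  have h1 : ((𝟙 (Spec (CommRingCat.of K)) : Spec (CommRingCat.of K) ⟶ _).appLE ⊤ ⊤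
      (top_le_preimage _ (U := ⊤) trivial)) = 𝟙 _ := by
    simp only [Scheme.Hom.appLE, Scheme.Hom.id_app]
    erw [CategoryTheory.Functor.map_id]
    rfl
  rw [h1]
  exact congr($((Scheme.ΓSpecIso (CommRingCat.of K)).inv_hom_id) r)

variable (c : X ⟶ Spec (CommRingCat.of K)) (σ : Spec (CommRingCat.of K) ⟶ X) (hσ : σ ≫ c = 𝟙 _)

include hσ in
theorem bijective_residueFieldMap_of_section :
    Function.Bijective (c.residueFieldMap (σ (closedPoint K))).hom := by
  have h1 := surjective_evPt_of_eq_id (σ ≫ c) hσ
  rw [evPt_comp] at h1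
  have h2 : Function.Surjective (evPt σ).hom := by
    intro r
    obtain ⟨a, ha⟩ := h1 r
    exact ⟨(c.residueFieldMap (σ (closedPoint K))).hom a, ha⟩
  have h3 : Function.Bijective (evPt σ).hom := ⟨(evPt σ).hom.injective, h2⟩
  refine ⟨(c.residueFieldMap (σ (closedPoint K))).hom.injective, ?_⟩
  intro b
  obtain ⟨a, ha⟩ := h1 ((evPt σ).hom b)
  exact ⟨a, h3.1 ha⟩

include hσ in
theorem residueDegree_of_section : c.residueDegree (σ (closedPoint K)) = 1 := by
  unfold Scheme.Hom.residueDegree
  letI := (c.residueFieldMap (σ (closedPoint K))).hom.toAlgebra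
  have hb : Function.Bijective (algebraMap ((Spec (CommRingCat.of K)).residueField
      (c (σ (closedPoint K)))) (X.residueField (σ (closedPoint K)))) :=
    bijective_residueFieldMap_of_section c σ hσ
  exact (LinearEquiv.ofBijective (Algebra.linearMap _ _) hb).finrank_eq.symm.trans
    (Module.finrank_self _)

include hσ in
theorem delta_of_section (δ : X → ℤ) (hδ : Cyc.DeltaCompat c δ (fun _ => 0)) :
    δ (σ (closedPoint K)) = 0 := by
  obtain ⟨n, hn, hδn⟩ := hδ (σ (closedPoint K))
  letI := (c.residueFieldMap (σ (closedPoint K))).hom.toAlgebra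
  have hb : Function.Bijective (algebraMap ((Spec (CommRingCat.of K)).residueField
      (c (σ (closedPoint K)))) (X.residueField (σ (closedPoint K)))) :=
    bijective_residueFieldMap_of_section c σ hσ
  haveI : Algebra.IsAlgebraic ((Spec (CommRingCat.of K)).residueField
      (c (σ (closedPoint K)))) (X.residueField (σ (closedPoint K))) :=
    haveI : Algebra.IsIntegral ((Spec (CommRingCat.of K)).residueField
      (c (σ (closedPoint K)))) (X.residueField (σ (closedPoint K))) :=
      ⟨fun b => by obtain ⟨a, rfl⟩ := hb.2 b; exact isIntegral_algebraMap⟩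
    inferInstance
  have h0 : Algebra.trdeg ((Spec (CommRingCat.of K)).residueField
      (c (σ (closedPoint K)))) (X.residueField (σ (closedPoint K))) = 0 :=
    trdeg_eq_zero
  rw [h0] at hn
  have : n = 0 := by exact_mod_cast hn.symm
  rw [hδn, this]
  simp

open scoped Classical in
include hσ in
theorem mapCoeff_of_section (δ : X → ℤ) (hδ : Cyc.DeltaCompat c δ (fun _ => 0)) :
    AlgebraicCycle.mapCoeff c δ (fun _ => 0) (σ (closedPoint K)) = 1 := by
  unfold AlgebraicCycle.mapCoeff
  rw [if_pos (delta_of_section c σ hσ δ hδ), residueDegree_of_section c σ hσ]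

end Sec

end Groth.Agent.Lib.Helper7.CycDeg
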