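import Mathlib
import Groth.Agent.Lib.Helper7CycSq4
import Groth.Agent.Lib.Helper4DimFormulaQ
import Groth.Agent.Lib.Helper4DimFormulaW

set_option autoImplicit false
set_option linter.style.haveILetI false
set_option linter.unusedVariables false
set_option linter.unusedSectionVars false
universe u
open CategoryTheory CategoryTheory.Limits AlgebraicGeometry IsLocalRing TopologicalSpace

namespace Groth.Agent.Lib.Helper7.CycDeg

theorem isSetup_of_deltaCompat {X S : Scheme.{u}} (f : X ⟶ S) [LocallyOfFiniteType f]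
    (δ : S → ℤ) (hS : Cyc.IsSetup S δ) (δX : X → ℤ) (hδ : Cyc.DeltaCompat f δX δ) :
    Cyc.IsSetup X δX := by
  haveI : IsLocallyNoetherian S := hS.1
  refine ⟨LocallyOfFiniteType.isLocallyNoetherian f, fun x => ?_,
    Groth.Agent.Lib.Helper4.DimFormula.isDimFun_of_deltaCompat f δ hS δX hδ⟩
  letI : Algebra (S.presheaf.stalk (f x)) (X.presheaf.stalk x) := (f.stalkMap x).hom.toAlgebra
  haveI : Algebra.EssFiniteType (S.presheaf.stalk (f x)) (X.presheaf.stalk x) :=
    LocallyOfFiniteType.stalkMap f x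
  exact Groth.Agent.S9126.result _ _ (hS.2.1 (f x))

theorem isSetup_specField (K : Type u) [Field K] :
    Cyc.IsSetup (Spec (CommRingCat.of K)) (fun _ => 0) := by
  refine ⟨inferInstance, fun p => ?_, ?_⟩
  · exact Groth.Agent.Lib.Helper7.CycSp.isUniversallyCatenary_stalk_spec K p
  · intro x y _ hne
    exact absurd (Subsingleton.elim x y) hne

section Delta

open Groth.Agent.Lib.Helper4.VarDim Groth.Agent.Lib.Helper4.DimFormula

variable (K : Type u) [Field K]

/-- `Spec K` over itself by the identity. -/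
@[reducible] noncomputable def overSelf :
    (Spec (CommRingCat.of K)).Over (Spec (CommRingCat.of K)) := ⟨𝟙 _⟩

theorem trdegNat_spec_eq_zero (s : Spec (CommRingCat.of K)) :
    @trdegNat K _ (Spec (CommRingCat.of K)) (overSelf K) s = 0 := by
  letI := overSelf K
  haveI : LocallyOfFiniteType ((Spec (CommRingCat.of K)) ↘ Spec (CommRingCat.of K)) :=
    inferInstanceAs (LocallyOfFiniteType (𝟙 (Spec (CommRingCat.of K))))
  have h := topologicalKrullDim_closure_singleton K (Spec (CommRingCat.of K)) s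
  have h2 : topologicalKrullDim (closure ({s} : Set (Spec (CommRingCat.of K)))) ≤ 0 :=
    topologicalKrullDim_zero_of_discreteTopology _
  rw [h] at h2
  have : (trdegNat K (Spec (CommRingCat.of K)) s : WithBot ℕ∞) ≤ ((0 : ℕ) : WithBot ℕ∞) := h2
  exact Nat.le_zero.mp (by exact_mod_cast this)

variable {X : Scheme.{u}} (c : X ⟶ Spec (CommRingCat.of K)) [LocallyOfFiniteType c]

/-- the canonical dimension function of a scheme locally of finite type over a field: the
transcendence degree of the residue field. -/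
noncomputable def delta (x : X) : ℤ :=
  letI : X.Over (Spec (CommRingCat.of K)) := ⟨c⟩
  (trdegNat K X x : ℤ)

theorem delta_eq_ptTrdeg (x : X) : delta K c x = (ptTrdeg c x : ℤ) := by
  letI : X.Over (Spec (CommRingCat.of K)) := ⟨c⟩
  letI := overSelf K
  haveI : LocallyOfFiniteType (X ↘ Spec (CommRingCat.of K)) := ‹LocallyOfFiniteType c›
  haveI : LocallyOfFiniteType ((Spec (CommRingCat.of K)) ↘ Spec (CommRingCat.of K)) :=
    inferInstanceAs (LocallyOfFiniteType (𝟙 (Spec (CommRingCat.of K))))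
  have hf : c ≫ ((Spec (CommRingCat.of K)) ↘ Spec (CommRingCat.of K)) =
      (X ↘ Spec (CommRingCat.of K)) := Category.comp_id _
  have h1 := trdegNat_eq_add_ptTrdeg K c hf x
  rw [trdegNat_spec_eq_zero, zero_add] at h1
  unfold delta
  rw [h1]

theorem deltaCompat_delta : Cyc.DeltaCompat c (delta K c) (fun _ => 0) := by
  intro x
  refine ⟨ptTrdeg c x, trdeg_eq_ptTrdeg c x, ?_⟩
  rw [delta_eq_ptTrdeg, zero_add]

theorem delta_eq (δ : X → ℤ) (hδ : Cyc.DeltaCompat c δ (fun _ => 0)) (x : X) :
    δ x = delta K c x := by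
  obtain ⟨n, hn, hn'⟩ := hδ x
  rw [hn', zero_add, delta_eq_ptTrdeg]
  have h3 : (n : Cardinal.{u}) = (ptTrdeg c x : Cardinal.{u}) :=
    hn.symm.trans (trdeg_eq_ptTrdeg c x)
  exact_mod_cast h3

theorem deltaCompat_of_comp {Y : Scheme.{u}} (cY : Y ⟶ Spec (CommRingCat.of K))
    [LocallyOfFiniteType cY] (f : X ⟶ Y) (hf : f ≫ cY = c) :
    Cyc.DeltaCompat f (delta K c) (delta K cY) := by
  letI : X.Over (Spec (CommRingCat.of K)) := ⟨c⟩
  letI : Y.Over (Spec (CommRingCat.of K)) := ⟨cY⟩
  haveI : LocallyOfFiniteType (X ↘ Spec (CommRingCat.of K)) := ‹LocallyOfFiniteType c›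
  haveI : LocallyOfFiniteType (Y ↘ Spec (CommRingCat.of K)) := ‹LocallyOfFiniteType cY›
  haveI : LocallyOfFiniteType f := locallyOfFiniteType_of_over K f hf
  intro x
  refine ⟨ptTrdeg f x, trdeg_eq_ptTrdeg f x, ?_⟩
  have h1 := trdegNat_eq_add_ptTrdeg K f hf x
  unfold delta
  rw [h1]
  push_cast
  rfl

end Delta

end Groth.Agent.Lib.Helper7.CycDeg
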