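import Mathlib
import Groth.Agent.Lib.Helper7DegA
import Groth.Agent.Lib.Helper7DegD
import Groth.Agent.Lib.Helper7DegE
import Groth.Agent.Lib.Helper27ProjSpaceFibres
import Groth.Agent.S10829

set_option autoImplicit false
set_option linter.style.haveILetI false
set_option linter.unusedVariables false
set_option linter.unusedSectionVars false
universe u
open CategoryTheory CategoryTheory.Limits AlgebraicGeometry IsLocalRing TopologicalSpace

namespace Groth.Agent.Lib.Helper7.CycDeg

open HomogeneousLocalization MvPolynomial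
open Groth.Agent.Lib.Helper27ProjSpaceBC Groth.Agent.Lib.Helper27DehomAway
  Groth.Agent.Lib.Helper27ChartPoly
open Groth.Agent.Lib.Helper4.VarDim Groth.Agent.Lib.Helper4.DimFormula

variable (K : Type u) [Field K]

instance isProper_toSpec' : IsProper (toSpec' 1 K) :=
  Groth.Agent.Lib.Helper27ProjSpaceFibres.isProper_projSpace_toSpec 1 K

/-- coordinates of the two standard `K`-points. -/
noncomputable def ee (i : Fin 2) : Fin 2 → K := fun k => if k = i then 1 else 0

theorem ee_self (i : Fin 2) : ee K i i = 1 := by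
  unfold ee
  rw [if_pos rfl]

theorem ee_ne (i j : Fin 2) (h : j ≠ i) : ee K i j = 0 := by
  unfold ee
  rw [if_neg h]

/-- the two standard `K`-points `[1:0]`, `[0:1]` of `P^1_K`. -/
noncomputable def oo (i : Fin 2) : Spec (CommRingCat.of K) ⟶ PP K :=
  ptP K (RingHom.id K) i (ee K i) (ee_self K i)

theorem oo_toSpec (i : Fin 2) : oo K i ≫ toSpec' 1 K = 𝟙 _ := by
  unfold oo
  rw [ptP_toSpec]
  exact Spec.map_id _

theorem oo_mem (i : Fin 2) : oo K i (closedPoint K) ∈ W K i := ptP_mem K _ i _ _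

theorem oo_notMem_basicOpen (i j : Fin 2) (h : j ≠ i) :
    oo K i (closedPoint K) ∉ (PP K).basicOpen (ss K i j) := by
  rw [← Scheme.evaluation_eq_zero_iff_notMem_basicOpen (PP K) (oo K i (closedPoint K)) (oo_mem K i)]
  apply (evPt (oo K i)).hom.injective
  rw [map_zero]
  have := evPt_ptP_ss K (RingHom.id K) i (ee K i) (ee_self K i) j
  rw [ee_ne K i j h] at this
  exact this

theorem oo_notMem (i j : Fin 2) (h : j ≠ i) : oo K i (closedPoint K) ∉ W K j := by
  intro hj
  apply oo_notMem_basicOpen K i j h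
  rw [Scheme.mem_basicOpen _ _ _ (oo_mem K i)]
  exact IsUnit.of_mul_eq_one _ (germ_ss_mul K i j _ (oo_mem K i) hj)

theorem eq_oo_of_notMem_basicOpen (i j : Fin 2) (h : j ≠ i) (y : PP K) (hy : y ∈ W K i)
    (hy' : y ∉ (PP K).basicOpen (ss K i j)) : y = oo K i (closedPoint K) := by
  have hW : IsAffineOpen (W K i) :=
    Proj.isAffineOpen_basicOpen (CohB1.polyGrading 1 K) (X i) (hX 1 K i) Nat.one_pos
  have hmax := span_ss_isMaximal K i j h
  have key : ∀ z : PP K, ∀ hz : z ∈ W K i, z ∉ (PP K).basicOpen (ss K i j) →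
      (hW.primeIdealOf ⟨z, hz⟩).asIdeal = Ideal.span {ss K i j} := by
    intro z hz hz'
    have h1 : ss K i j ∈ (hW.primeIdealOf ⟨z, hz⟩).asIdeal := by
      by_contra h3
      exact hz' ((Groth.Agent.Lib.Helper2.mem_basicOpen_iff_notMem_primeIdealOf hW z hz _).mpr h3)
    exact (hmax.eq_of_le (Ideal.IsPrime.ne_top (hW.primeIdealOf ⟨z, hz⟩).isPrime)
      ((Ideal.span_singleton_le_iff_mem _).mpr h1)).symm
  have e1 := key y hy hy'
  have e2 := key _ (oo_mem K i) (oo_notMem_basicOpen K i j h)
  have e3 : hW.primeIdealOf ⟨y, hy⟩ = hW.primeIdealOf ⟨_, oo_mem K i⟩ :=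
    PrimeSpectrum.ext (e1.trans e2.symm)
  have h1 := hW.fromSpec_primeIdealOf ⟨y, hy⟩
  have h2 := hW.fromSpec_primeIdealOf ⟨_, oo_mem K i⟩
  rw [e3] at h1
  exact h1.symm.trans h2

section Main

variable (δP : PP K → ℤ) (hδP : Cyc.DeltaCompat (toSpec' 1 K) δP (fun _ => 0))

include hδP in
theorem isSetup_PP : Cyc.IsSetup (PP K) δP :=
  isSetup_of_deltaCompat (toSpec' 1 K) _ (isSetup_specField K) δP hδP

include hδP in
theorem delta_genericPoint : δP (genericPoint (PP K)) = 1 := by
  rw [delta_eq K (toSpec' 1 K) δP hδP]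
  unfold delta
  letI : (PP K).Over (Spec (CommRingCat.of K)) := ⟨toSpec' 1 K⟩
  haveI : LocallyOfFiniteType ((PP K) ↘ Spec (CommRingCat.of K)) :=
    inferInstanceAs (LocallyOfFiniteType (toSpec' 1 K))
  have h1 := topologicalKrullDim_eq_trdegNat_genericPoint K (Y := PP K)
  have h2 : topologicalKrullDim (PP K) = ((1 : ℕ) : WithBot ℕ∞) := Groth.Agent.S10829.result K 1
  rw [h1] at h2
  exact_mod_cast h2

open scoped Classical in
include hδP in
theorem deg_div_tbar (τ : PP K) (hτ : δP τ = 1) (hτW : τ ∈ W K 0) :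
    ∑ᶠ y, Cyc.divFun δP τ (((PP K).evaluation (W K 0) τ hτW).hom (ss K 0 1)) y *
      ((AlgebraicCycle.mapCoeff (toSpec' 1 K) δP (fun _ => 0) y : ℕ) : ℤ) = 0 := by
  have hP := isSetup_PP K δP hδP
  haveI : IsLocallyNoetherian (PP K) := hP.1
  have hgen : τ = genericPoint (PP K) := by
    by_contra hne
    have hsp : genericPoint (PP K) ⤳ τ := (genericPoint_spec _).specializes (Set.mem_univ _)
    have := (hP.2.2 _ _ hsp (Ne.symm hne)).1
    rw [delta_genericPoint K δP hδP, hτ] at this
    exact lt_irrefl _ this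
  have hδo : ∀ i, δP (oo K i (closedPoint K)) = 0 := fun i =>
    delta_of_section _ _ (oo_toSpec K i) δP hδP
  have hmc : ∀ i, AlgebraicCycle.mapCoeff (toSpec' 1 K) δP (fun _ => 0) (oo K i (closedPoint K)) = 1 :=
    fun i => mapCoeff_of_section _ _ (oo_toSpec K i) δP hδP
  have hτW1 : τ ∈ W K 1 := by
    rw [hgen]
    exact ((genericPoint_spec (PP K)).mem_open_set_iff (W K 1).2).mpr
      ⟨_, Set.mem_univ _, oo_mem K 1⟩
  have h01 : (1 : Fin 2) ≠ 0 := by decide
  have h10 : (0 : Fin 2) ≠ 1 := by decide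
  have hW0 : IsAffineOpen (W K 0) :=
    Proj.isAffineOpen_basicOpen (CohB1.polyGrading 1 K) (X 0) (hX 1 K 0) Nat.one_pos
  have hW1 : IsAffineOpen (W K 1) :=
    Proj.isAffineOpen_basicOpen (CohB1.polyGrading 1 K) (X 1) (hX 1 K 1) Nat.one_pos
  have htinv : ((PP K).evaluation (W K 0) τ hτW).hom (ss K 0 1) =
      (((PP K).evaluation (W K 1) τ hτW1).hom (ss K 1 0))⁻¹ := by
    apply eq_inv_of_mul_eq_one_left
    have := congrArg ((PP K).residue τ).hom (germ_ss_mul K 0 1 τ hτW hτW1)
    rw [map_mul, map_one] at this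
    exact this
  have hne01 : oo K 0 (closedPoint K) ≠ oo K 1 (closedPoint K) := by
    intro h
    exact oo_notMem K 0 1 h01 (h ▸ oo_mem K 1)
  have key : ∀ y : PP K,
      Cyc.divFun δP τ (((PP K).evaluation (W K 0) τ hτW).hom (ss K 0 1)) y *
        ((AlgebraicCycle.mapCoeff (toSpec' 1 K) δP (fun _ => 0) y : ℕ) : ℤ) =
      (if y = oo K 0 (closedPoint K) then (1 : ℤ) else 0) -
        (if y = oo K 1 (closedPoint K) then (1 : ℤ) else 0) := by
    intro y
    by_cases hc : δP y + 1 = δP τ
    · by_cases hy0 : y ∈ W K 0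
      · by_cases hb : y ∈ (PP K).basicOpen (ss K 0 1)
        · rw [divFun_evaluation_of_mem δP hP.2.2 hW0 τ hgen hτW (ss K 0 1) (ss_ne_zero K 0 1 h01) y hy0
            hc hb, zero_mul]
          have n0 : y ≠ oo K 0 (closedPoint K) := fun h => oo_notMem_basicOpen K 0 1 h01 (h ▸ hb)
          have n1 : y ≠ oo K 1 (closedPoint K) := fun h => oo_notMem K 1 0 h10 (h ▸ hy0)
          rw [if_neg n0, if_neg n1, sub_zero]
        · rw [divFun_evaluation_of_notMem δP hP.2.2 hW0 τ hgen hτW (ss K 0 1) (ss_ne_zero K 0 1 h01)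
            (span_ss_isMaximal K 0 1 h01) y hy0 hc hb, one_mul]
          have e0 : y = oo K 0 (closedPoint K) := eq_oo_of_notMem_basicOpen K 0 1 h01 y hy0 hb
          have n1 : y ≠ oo K 1 (closedPoint K) := fun h => oo_notMem K 1 0 h10 (h ▸ hy0)
          rw [if_pos e0, if_neg n1, sub_zero, e0, hmc 0]
          rfl
      · have hy1 : y ∈ W K 1 := by
          have htop : W K 0 ⊔ W K 1 = ⊤ := by
            have := Groth.Agent.Lib.Helper27PnChart.iSup_basicOpen_X 1 K
            rw [← this]
            apply le_antisymm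
            · exact sup_le (le_iSup (fun i : Fin 2 => W K i) 0) (le_iSup (fun i : Fin 2 => W K i) 1)
            · refine iSup_le fun i => ?_
              fin_cases i
              · exact le_sup_left
              · exact le_sup_right
          have : y ∈ W K 0 ⊔ W K 1 := by rw [htop]; trivial
          rcases this with h | h
          · exact absurd h hy0
          · exact h
        rw [htinv]
        by_cases hb : y ∈ (PP K).basicOpen (ss K 1 0)
        · rw [divFun_evaluation_inv_of_mem δP hP.2.2 hW1 τ hgen hτW1 (ss K 1 0) (ss_ne_zero K 1 0 h10)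
            y hy1 hc hb, zero_mul]
          have n0 : y ≠ oo K 0 (closedPoint K) := fun h => hy0 (h ▸ oo_mem K 0)
          have n1 : y ≠ oo K 1 (closedPoint K) := fun h => oo_notMem_basicOpen K 1 0 h10 (h ▸ hb)
          rw [if_neg n0, if_neg n1, sub_zero]
        · rw [divFun_evaluation_inv_of_notMem δP hP.2.2 hW1 τ hgen hτW1 (ss K 1 0)
            (ss_ne_zero K 1 0 h10) (span_ss_isMaximal K 1 0 h10) y hy1 hc hb]
          have e1 : y = oo K 1 (closedPoint K) := eq_oo_of_notMem_basicOpen K 1 0 h10 y hy1 hb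
          have n0 : y ≠ oo K 0 (closedPoint K) := fun h => hy0 (h ▸ oo_mem K 0)
          rw [if_neg n0, if_pos e1, e1, hmc 1]
          rfl
    · have hd : Cyc.divFun δP τ (((PP K).evaluation (W K 0) τ hτW).hom (ss K 0 1)) y = 0 := by
        simp only [Cyc.divFun]
        rw [dif_neg (fun h => hc h.2)]
      have n0 : y ≠ oo K 0 (closedPoint K) := by
        intro h
        apply hc
        rw [h, hδo 0, hτ]
        rfl
      have n1 : y ≠ oo K 1 (closedPoint K) := by
        intro h
        apply hc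
        rw [h, hδo 1, hτ]
        rfl
      rw [hd, zero_mul, if_neg n0, if_neg n1, sub_zero]
  rw [finsum_congr key, finsum_sub_distrib, finsum_eq_single _ (oo K 0 (closedPoint K)),
    finsum_eq_single _ (oo K 1 (closedPoint K)), if_pos rfl, if_pos rfl, sub_self]
  · intro y hy
    rw [if_neg hy]
  · intro y hy
    rw [if_neg hy]
  · refine (Set.finite_singleton (oo K 0 (closedPoint K))).subset ?_
    intro y hy
    by_contra h
    exact hy (if_neg h)
  · refine (Set.finite_singleton (oo K 1 (closedPoint K))).subset ?_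
    intro y hy
    by_contra h
    exact hy (if_neg h)

end Main

end Groth.Agent.Lib.Helper7.CycDeg
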