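import Mathlib
import Groth.Agent.Lib.Helper7DegF

set_option autoImplicit false
set_option linter.style.haveILetI false
set_option linter.unusedVariables false
set_option linter.unusedSectionVars false
universe u
open CategoryTheory CategoryTheory.Limits AlgebraicGeometry IsLocalRing TopologicalSpace

namespace Groth.Agent.Lib.Helper7.CycDeg

section EvPt

variable {X : Scheme.{u}} {L : Type u} [Field L]

theorem evPt_congr {σ σ' : Spec (CommRingCat.of L) ⟶ X} (h : σ = σ') :
    ∃ e : σ (closedPoint L) = σ' (closedPoint L),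
      evPt σ = (X.residueFieldCongr e).hom ≫ evPt σ' := by
  subst h
  exact ⟨rfl, by rw [Scheme.residueFieldCongr_refl]; rfl⟩

theorem evaluation_congr {U : X.Opens} {x y : X} (e : x = y) (hx : x ∈ U) :
    X.evaluation U x hx ≫ (X.residueFieldCongr e).hom = X.evaluation U y (e ▸ hx) := by
  subst e
  rw [Scheme.residueFieldCongr_refl]
  rfl

theorem evPt_fromSpecResidueField (ξ : X) :
    ∃ e : (X.fromSpecResidueField ξ : Spec (CommRingCat.of (X.residueField ξ)) ⟶ X)
        (closedPoint (X.residueField ξ)) = ξ,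
      evPt (X.fromSpecResidueField ξ : Spec (CommRingCat.of (X.residueField ξ)) ⟶ X) =
        (X.residueFieldCongr e).hom := by
  have h := (Scheme.SpecToEquivOfField (X.residueField ξ) X).apply_symm_apply ⟨ξ, 𝟙 _⟩
  have h1 : (Scheme.SpecToEquivOfField (X.residueField ξ) X).symm ⟨ξ, 𝟙 _⟩ =
      X.fromSpecResidueField ξ := by
    change Spec.map (𝟙 _) ≫ X.fromSpecResidueField ξ = _
    rw [Spec.map_id, Category.id_comp]
  rw [h1] at h
  obtain ⟨e, he⟩ := Scheme.SpecToEquivOfField_eq_iff.mp h
  refine ⟨e, ?_⟩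
  rw [Category.comp_id] at he
  exact he

end EvPt

section Graph

open Groth.Agent.Lib.Helper27ProjSpaceBC

variable (K : Type u) [Field K] {C : Scheme.{u}} (c : C ⟶ Spec (CommRingCat.of K)) (ξ : C)
  (g : C.residueField ξ)

/-- the structure homomorphism `K → κ(ξ)`. -/
noncomputable def strHom : K →+* C.residueField ξ :=
  (Spec.preimage (C.fromSpecResidueField ξ ≫ c)).hom

theorem SpecMap_strHom :
    Spec.map (CommRingCat.ofHom (strHom K c ξ)) = C.fromSpecResidueField ξ ≫ c := by
  unfold strHom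
  exact Spec.map_preimage _

/-- the coordinates `[1 : g]`. -/
noncomputable def gco : Fin 2 → C.residueField ξ := fun k => if k = 0 then 1 else g

theorem gco_zero : gco ξ g 0 = 1 := by
  unfold gco
  rw [if_pos rfl]

theorem gco_one : gco ξ g 1 = g := by
  unfold gco
  rw [if_neg (by decide)]

/-- the `κ(ξ)`-point `[1 : g]` of `P^1_K`. -/
noncomputable def gpt : Spec (CommRingCat.of (C.residueField ξ)) ⟶ PP K :=
  ptP K (strHom K c ξ) 0 (gco ξ g) (gco_zero ξ g)

theorem gpt_toSpec : gpt K c ξ g ≫ toSpec' 1 K = C.fromSpecResidueField ξ ≫ c := by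
  unfold gpt
  rw [ptP_toSpec, SpecMap_strHom]

/-- the graph morphism `Spec κ(ξ) ⟶ C ×_K P^1`. -/
noncomputable def gmor : Spec (CommRingCat.of (C.residueField ξ)) ⟶ pullback c (toSpec' 1 K) :=
  pullback.lift (C.fromSpecResidueField ξ) (gpt K c ξ g) (gpt_toSpec K c ξ g).symm

theorem gmor_fst : gmor K c ξ g ≫ pullback.fst c (toSpec' 1 K) = C.fromSpecResidueField ξ :=
  pullback.lift_fst _ _ _

theorem gmor_snd : gmor K c ξ g ≫ pullback.snd c (toSpec' 1 K) = gpt K c ξ g :=
  pullback.lift_snd _ _ _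

theorem exists_graph_point :
    ∃ (ζ : ↥(pullback c (toSpec' 1 K))) (e : (pullback.fst c (toSpec' 1 K)) ζ = ξ)
      (hW : (pullback.snd c (toSpec' 1 K)) ζ ∈ W K 0),
      Function.Bijective ((pullback.fst c (toSpec' 1 K)).residueFieldMap ζ).hom ∧
      ((pullback.fst c (toSpec' 1 K)).residueFieldMap ζ).hom ((C.residueFieldCongr e).inv.hom g) =
        ((pullback.snd c (toSpec' 1 K)).residueFieldMap ζ).hom
          (((PP K).evaluation (W K 0) _ hW).hom (ss K 0 1)) := by
  obtain ⟨e1, he1⟩ := evPt_congr (gmor_fst K c ξ g)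
  obtain ⟨e2, he2⟩ := evPt_fromSpecResidueField ξ
  obtain ⟨e3, he3⟩ := evPt_congr (gmor_snd K c ξ g)
  have hcomp1 : (pullback.fst c (toSpec' 1 K)).residueFieldMap
      (gmor K c ξ g (closedPoint (C.residueField ξ))) ≫ evPt (gmor K c ξ g) =
      (C.residueFieldCongr (e1.trans e2)).hom :=
    (evPt_comp _ _).symm.trans (he1.trans ((congrArg (fun t => (C.residueFieldCongr e1).hom ≫ t)
      he2).trans (Scheme.residueFieldCongr_trans_hom C e1 e2)))
  have hcomp2 : (pullback.snd c (toSpec' 1 K)).residueFieldMap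
      (gmor K c ξ g (closedPoint (C.residueField ξ))) ≫ evPt (gmor K c ξ g) =
      ((PP K).residueFieldCongr e3).hom ≫ evPt (gpt K c ξ g) :=
    (evPt_comp _ _).symm.trans he3
  have hW : (pullback.snd c (toSpec' 1 K)) (gmor K c ξ g (closedPoint (C.residueField ξ))) ∈
      W K 0 := by
    have : (gmor K c ξ g ≫ pullback.snd c (toSpec' 1 K)) (closedPoint (C.residueField ξ)) ∈
        W K 0 := by
      rw [e3]
      exact ptP_mem K _ 0 _ _
    exact this
  have hbij0 : Function.Bijective (C.residueFieldCongr (e1.trans e2)).hom.hom :=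
    ConcreteCategory.bijective_of_isIso _
  have hsurj : Function.Surjective (evPt (gmor K c ξ g)).hom := by
    intro r
    obtain ⟨a, ha⟩ := hbij0.2 r
    refine ⟨((pullback.fst c (toSpec' 1 K)).residueFieldMap _).hom a, ?_⟩
    rw [← ha, ← hcomp1]
    rfl
  have hinj : Function.Injective (evPt (gmor K c ξ g)).hom := (evPt (gmor K c ξ g)).hom.injective
  refine ⟨gmor K c ξ g (closedPoint (C.residueField ξ)), e1.trans e2, hW, ?_, ?_⟩
  · refine ⟨((pullback.fst c (toSpec' 1 K)).residueFieldMap _).hom.injective, ?_⟩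
    intro b
    obtain ⟨a, ha⟩ := hbij0.2 ((evPt (gmor K c ξ g)).hom b)
    refine ⟨a, hinj ?_⟩
    rw [← ha, ← hcomp1]
    rfl
  · apply hinj
    have l1 : (evPt (gmor K c ξ g)).hom (((pullback.fst c (toSpec' 1 K)).residueFieldMap _).hom
        ((C.residueFieldCongr (e1.trans e2)).inv.hom g)) = g := by
      have := congr($hcomp1 ((C.residueFieldCongr (e1.trans e2)).inv.hom g))
      refine this.trans ?_
      exact congr($((C.residueFieldCongr (e1.trans e2)).inv_hom_id) g)
    have l2 : (evPt (gmor K c ξ g)).hom (((pullback.snd c (toSpec' 1 K)).residueFieldMap _).hom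
        (((PP K).evaluation (W K 0) _ hW).hom (ss K 0 1))) = g := by
      have := congr($hcomp2 (((PP K).evaluation (W K 0) _ hW).hom (ss K 0 1)))
      refine this.trans ?_
      have h4 := evaluation_congr (X := PP K) (U := W K 0) e3 hW
      have h5 : ((PP K).residueFieldCongr e3).hom.hom
          (((PP K).evaluation (W K 0) _ hW).hom (ss K 0 1)) =
          ((PP K).evaluation (W K 0) _ (e3 ▸ hW)).hom (ss K 0 1) := congr($h4 (ss K 0 1))
      change (evPt (gpt K c ξ g)).hom (((PP K).residueFieldCongr e3).hom.hom _) = g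
      rw [h5]
      have h6 := evPt_ptP_ss K (strHom K c ξ) 0 (gco ξ g) (gco_zero ξ g) 1
      rw [gco_one] at h6
      exact h6
    exact l1.trans l2.symm

end Graph

end Groth.Agent.Lib.Helper7.CycDeg
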