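import Mathlib
import Groth.Agent.Lib.Helper7DegG
import Groth.Agent.Lib.Helper7CycSq7
import Groth.Agent.Lib.Helper2CycFamily
import Groth.Agent.Lib.Helper2CycC1
import Groth.Agent.S1859

set_option autoImplicit false
set_option linter.style.haveILetI false
set_option linter.unusedVariables false
set_option linter.unusedSectionVars false
universe u
open CategoryTheory CategoryTheory.Limits AlgebraicGeometry IsLocalRing TopologicalSpace

namespace Groth.Agent.Lib.Helper7.CycDeg

open Groth.Agent.Lib.Helper27ProjSpaceBC Groth.Agent.Lib.Helper7.CycSq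

section Gen

theorem map_congr_hom {X Y : Scheme.{u}} {f f' : X ⟶ Y} (h : f = f') [QuasiCompact f]
    [QuasiCompact f'] (wx : X → ℤ) (wy : Y → ℤ) (α : AlgebraicCycle X ℤ) :
    AlgebraicCycle.map f wx wy α = AlgebraicCycle.map f' wx wy α := by
  subst h
  rfl

theorem map_apply_spec {K : Type u} [Field K] {X : Scheme.{u}} (c : X ⟶ Spec (CommRingCat.of K))
    [QuasiCompact c] (δ : X → ℤ) (α : AlgebraicCycle X ℤ) (p : Spec (CommRingCat.of K)) :
    (AlgebraicCycle.map c δ (fun _ => 0) α) p =
      ∑ᶠ x, α x * ((AlgebraicCycle.mapCoeff c δ (fun _ => 0) x : ℕ) : ℤ) := by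
  rw [map_apply']
  have : (c : X → Spec (CommRingCat.of K)) ⁻¹' {p} = Set.univ := by
    ext x
    simp only [Set.mem_preimage, Set.mem_singleton_iff, Set.mem_univ, iff_true]
    exact Subsingleton.elim _ _
  rw [this, finsum_mem_univ]

theorem exists_cycle_divFun {X : Scheme.{u}} (δ : X → ℤ) (hX : Cyc.IsSetup X δ) (ξ : X)
    (g : X.residueField ξ) (hg : g ≠ 0) :
    ∃ D : AlgebraicCycle X ℤ, (∀ x, D x = Cyc.divFun δ ξ g x) ∧ D ∈ Cyc.Zk X δ (δ ξ - 1) := by
  haveI : IsLocallyNoetherian X := hX.1
  obtain ⟨D, hD⟩ := Groth.Agent.Lib.Helper2.CycFamily.exists_cycle_finsum_divFun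
    δ hX.2.2 (fun _ : Unit => ξ) (fun _ => g) (fun _ => hg) (by
      intro x
      exact ⟨Set.univ, isOpen_univ, Set.mem_univ _, Set.toFinite _⟩)
  have hD' : ∀ x, D x = Cyc.divFun δ ξ g x := by
    intro x
    rw [hD x, finsum_unique]
  refine ⟨D, hD', ?_⟩
  intro x hx
  rw [hD' x]
  simp only [Cyc.divFun]
  rw [dif_neg]
  rintro ⟨-, h⟩
  apply hx
  omega

theorem trdeg_eq_zero_of_bijective {X Y : Scheme.{u}} (f : X ⟶ Y) (x : X)
    (hb : Function.Bijective (f.residueFieldMap x).hom) :
    (letI := (f.residueFieldMap x).hom.toAlgebra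
     Algebra.trdeg (Y.residueField (f x)) (X.residueField x)) = 0 := by
  letI := (f.residueFieldMap x).hom.toAlgebra
  have hb' : Function.Bijective (algebraMap (Y.residueField (f x)) (X.residueField x)) := hb
  haveI : Algebra.IsAlgebraic (Y.residueField (f x)) (X.residueField x) := by
    haveI : Algebra.IsIntegral (Y.residueField (f x)) (X.residueField x) :=
      ⟨fun b => by obtain ⟨a, rfl⟩ := hb'.2 b; exact isIntegral_algebraMap⟩
    infer_instance
  exact trdeg_eq_zero

theorem delta_eq_of_bijective {X Y : Scheme.{u}} (f : X ⟶ Y) (δX : X → ℤ) (δY : Y → ℤ)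
    (h : Cyc.DeltaCompat f δX δY) (x : X) (hb : Function.Bijective (f.residueFieldMap x).hom) :
    δX x = δY (f x) := by
  obtain ⟨n, hn, hδn⟩ := h x
  rw [trdeg_eq_zero_of_bijective f x hb] at hn
  have : n = 0 := by exact_mod_cast hn.symm
  rw [hδn, this]
  simp

theorem normGen_map {X Y : Scheme.{u}} (f : X ⟶ Y) (x : X) (t : Y.residueField (f x)) :
    Cyc.normGen f x ((f.residueFieldMap x).hom t) =
      t ^ (letI := (f.residueFieldMap x).hom.toAlgebra
        Module.finrank (Y.residueField (f x)) (X.residueField x)) := by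
  unfold Cyc.normGen
  letI := (f.residueFieldMap x).hom.toAlgebra
  exact Algebra.norm_algebraMap t

theorem normGen_of_bijective {X Y : Scheme.{u}} (f : X ⟶ Y) (x : X)
    (hb : Function.Bijective (f.residueFieldMap x).hom) (t : Y.residueField (f x)) :
    Cyc.normGen f x ((f.residueFieldMap x).hom t) = t := by
  rw [normGen_map]
  letI := (f.residueFieldMap x).hom.toAlgebra
  have hb' : Function.Bijective (algebraMap (Y.residueField (f x)) (X.residueField x)) := hb
  have h1 : Module.finrank (Y.residueField (f x)) (X.residueField x) = 1 :=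
    (LinearEquiv.ofBijective (Algebra.linearMap _ _) hb').finrank_eq.symm.trans
      (Module.finrank_self _)
  rw [h1, pow_one]

end Gen

section Core

variable (K : Type u) [Field K]

theorem isAlgebraic_of_delta_eq_zero {X : Scheme.{u}} (cX : X ⟶ Spec (CommRingCat.of K))
    [LocallyOfFiniteType cX] (x : X) (h : delta K cX x = 0) :
    letI := (cX.residueFieldMap x).hom.toAlgebra
    Algebra.IsAlgebraic ((Spec (CommRingCat.of K)).residueField (cX x)) (X.residueField x) := by
  letI := (cX.residueFieldMap x).hom.toAlgebra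
  obtain ⟨n, hn, hδn⟩ := deltaCompat_delta K cX x
  rw [h, zero_add] at hδn
  have : n = 0 := by exact_mod_cast hδn.symm
  rw [this] at hn
  exact trdeg_eq_zero_iff.mp (by exact_mod_cast hn)

variable {C : Scheme.{u}} (c : C ⟶ Spec (CommRingCat.of K)) [LocallyOfFiniteType c]

theorem delta_snd_ne_zero (ζ : ↥(pullback c (toSpec' 1 K)))
    (g : C.residueField (pullback.fst c (toSpec' 1 K) ζ))
    (htr : letI := (c.residueFieldMap (pullback.fst c (toSpec' 1 K) ζ)).hom.toAlgebra
      Transcendental ((Spec (CommRingCat.of K)).residueField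
        (c (pullback.fst c (toSpec' 1 K) ζ))) g)
    (t : (PP K).residueField (pullback.snd c (toSpec' 1 K) ζ))
    (hG : ((pullback.fst c (toSpec' 1 K)).residueFieldMap ζ).hom g =
      ((pullback.snd c (toSpec' 1 K)).residueFieldMap ζ).hom t) :
    delta K (toSpec' 1 K) (pullback.snd c (toSpec' 1 K) ζ) ≠ 0 := by
  intro h0
  have halg := isAlgebraic_of_delta_eq_zero K (toSpec' 1 K) _ h0
  letI a1 : Algebra ((Spec (CommRingCat.of K)).residueField
      (toSpec' 1 K (pullback.snd c (toSpec' 1 K) ζ)))
      ((PP K).residueField (pullback.snd c (toSpec' 1 K) ζ)) :=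
    ((toSpec' 1 K).residueFieldMap (pullback.snd c (toSpec' 1 K) ζ)).hom.toAlgebra
  letI a2 : Algebra ((PP K).residueField (pullback.snd c (toSpec' 1 K) ζ))
      ((pullback c (toSpec' 1 K)).residueField ζ) :=
    ((pullback.snd c (toSpec' 1 K)).residueFieldMap ζ).hom.toAlgebra
  letI a3 : Algebra ((Spec (CommRingCat.of K)).residueField
      (toSpec' 1 K (pullback.snd c (toSpec' 1 K) ζ)))
      ((pullback c (toSpec' 1 K)).residueField ζ) :=
    (((pullback.snd c (toSpec' 1 K)).residueFieldMap ζ).hom.comp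
      ((toSpec' 1 K).residueFieldMap (pullback.snd c (toSpec' 1 K) ζ)).hom).toAlgebra
  haveI : IsScalarTower ((Spec (CommRingCat.of K)).residueField
      (toSpec' 1 K (pullback.snd c (toSpec' 1 K) ζ)))
      ((PP K).residueField (pullback.snd c (toSpec' 1 K) ζ))
      ((pullback c (toSpec' 1 K)).residueField ζ) := IsScalarTower.of_algebraMap_eq (fun _ => rfl)
  have h1 : IsAlgebraic ((Spec (CommRingCat.of K)).residueField
      (toSpec' 1 K (pullback.snd c (toSpec' 1 K) ζ))) t := halg.isAlgebraic t
  have h2 : IsAlgebraic ((Spec (CommRingCat.of K)).residueField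
      (toSpec' 1 K (pullback.snd c (toSpec' 1 K) ζ)))
      (((pullback.fst c (toSpec' 1 K)).residueFieldMap ζ).hom g) := by
    rw [hG]
    exact h1.algebraMap
  letI a4 : Algebra ((Spec (CommRingCat.of K)).residueField (c (pullback.fst c (toSpec' 1 K) ζ)))
      (C.residueField (pullback.fst c (toSpec' 1 K) ζ)) :=
    (c.residueFieldMap (pullback.fst c (toSpec' 1 K) ζ)).hom.toAlgebra
  have e : c (pullback.fst c (toSpec' 1 K) ζ) = toSpec' 1 K (pullback.snd c (toSpec' 1 K) ζ) :=
    Subsingleton.elim _ _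
  have hsq : (algebraMap ((Spec (CommRingCat.of K)).residueField
      (toSpec' 1 K (pullback.snd c (toSpec' 1 K) ζ)))
      ((pullback c (toSpec' 1 K)).residueField ζ)).comp
        ((Spec (CommRingCat.of K)).residueFieldCongr e).hom.hom =
      (((pullback.fst c (toSpec' 1 K)).residueFieldMap ζ).hom).comp
        (algebraMap ((Spec (CommRingCat.of K)).residueField (c (pullback.fst c (toSpec' 1 K) ζ)))
          (C.residueField (pullback.fst c (toSpec' 1 K) ζ))) := by
    have h3 := Scheme.Hom.residueFieldMap_congr (pullback.condition (f := c) (g := toSpec' 1 K)) ζ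
    rw [Scheme.residueFieldMap_comp, Scheme.residueFieldMap_comp] at h3
    exact (congrArg CommRingCat.Hom.hom h3).symm
  have h4 := IsAlgebraic.of_ringHom_of_comp_eq
    ((Spec (CommRingCat.of K)).residueFieldCongr e).hom.hom
    ((pullback.fst c (toSpec' 1 K)).residueFieldMap ζ).hom h2
    (ConcreteCategory.bijective_of_isIso ((Spec (CommRingCat.of K)).residueFieldCongr e).hom).2
    ((pullback.fst c (toSpec' 1 K)).residueFieldMap ζ).hom.injective hsq
  exact htr h4

end Core

end Groth.Agent.Lib.Helper7.CycDeg
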