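import Mathlib
import Groth.Agent.Lib.Helper7DegH

set_option autoImplicit false
set_option linter.style.haveILetI false
set_option linter.unusedVariables false
set_option linter.unusedSectionVars false
universe u
open CategoryTheory CategoryTheory.Limits AlgebraicGeometry IsLocalRing TopologicalSpace

namespace Groth.Agent.Lib.Helper7.CycDeg

open Groth.Agent.Lib.Helper27ProjSpaceBC Groth.Agent.Lib.Helper7.CycSq

section Core

variable (K : Type u) [Field K] {C : Scheme.{u}} (c : C ⟶ Spec (CommRingCat.of K)) [IsProper c]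

theorem delta_nonneg {X : Scheme.{u}} (cX : X ⟶ Spec (CommRingCat.of K))
    [LocallyOfFiniteType cX] (x : X) : 0 ≤ delta K cX x := by
  unfold delta
  exact Int.natCast_nonneg _

open scoped Classical in
theorem deg_divFun_graph (ζ : ↥(pullback c (toSpec' 1 K)))
    (hW : pullback.snd c (toSpec' 1 K) ζ ∈ W K 0)
    (hbij : Function.Bijective ((pullback.fst c (toSpec' 1 K)).residueFieldMap ζ).hom)
    (g : C.residueField (pullback.fst c (toSpec' 1 K) ζ)) (hg : g ≠ 0)
    (hξ : delta K c (pullback.fst c (toSpec' 1 K) ζ) = 1)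
    (htr : letI := (c.residueFieldMap (pullback.fst c (toSpec' 1 K) ζ)).hom.toAlgebra
      Transcendental ((Spec (CommRingCat.of K)).residueField
        (c (pullback.fst c (toSpec' 1 K) ζ))) g)
    (hG : ((pullback.fst c (toSpec' 1 K)).residueFieldMap ζ).hom g =
      ((pullback.snd c (toSpec' 1 K)).residueFieldMap ζ).hom
        (((PP K).evaluation (W K 0) _ hW).hom (ss K 0 1))) :
    ∑ᶠ x, Cyc.divFun (delta K c) (pullback.fst c (toSpec' 1 K) ζ) g x *
      ((AlgebraicCycle.mapCoeff c (delta K c) (fun _ => 0) x : ℕ) : ℤ) = 0 := by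
  haveI : IsProper (pullback.fst c (toSpec' 1 K) ≫ c) := inferInstance
  have hc1 : Cyc.DeltaCompat (pullback.fst c (toSpec' 1 K))
      (delta K (pullback.fst c (toSpec' 1 K) ≫ c)) (delta K c) :=
    deltaCompat_of_comp K (pullback.fst c (toSpec' 1 K) ≫ c) c _ rfl
  have hc2 : Cyc.DeltaCompat (pullback.snd c (toSpec' 1 K))
      (delta K (pullback.fst c (toSpec' 1 K) ≫ c)) (delta K (toSpec' 1 K)) :=
    deltaCompat_of_comp K (pullback.fst c (toSpec' 1 K) ≫ c) (toSpec' 1 K) _
      pullback.condition.symm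
  have hcC := deltaCompat_delta K c
  have hcZ := deltaCompat_delta K (pullback.fst c (toSpec' 1 K) ≫ c)
  have hcP := deltaCompat_delta K (toSpec' 1 K)
  have hS := isSetup_specField K
  have hC := isSetup_of_deltaCompat c _ hS _ hcC
  have hZ := isSetup_of_deltaCompat (pullback.fst c (toSpec' 1 K) ≫ c) _ hS _ hcZ
  have hP := isSetup_of_deltaCompat (toSpec' 1 K) _ hS _ hcP
  have hζ1 := delta_eq_of_bijective _ _ _ hc1 ζ hbij
  have hτ : delta K (toSpec' 1 K) (pullback.snd c (toSpec' 1 K) ζ) = 1 := by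
    obtain ⟨n, -, hn⟩ := hc2 ζ
    have h1 := delta_snd_ne_zero K c ζ g htr _ hG
    have h2 := delta_nonneg K (toSpec' 1 K) (pullback.snd c (toSpec' 1 K) ζ)
    rw [hζ1, hξ] at hn
    omega
  have hζ2 : delta K (pullback.fst c (toSpec' 1 K) ≫ c) ζ =
      delta K (toSpec' 1 K) (pullback.snd c (toSpec' 1 K) ζ) := by
    rw [hζ1, hξ, hτ]
  have hG0 : ((pullback.fst c (toSpec' 1 K)).residueFieldMap ζ).hom g ≠ 0 := by
    intro h0
    exact hg (((pullback.fst c (toSpec' 1 K)).residueFieldMap ζ).hom.injective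
      (by rw [h0, map_zero]))
  obtain ⟨DZ, hDZ, hDZk⟩ := exists_cycle_divFun _ hZ ζ _ hG0
  have s1 := Groth.Agent.S1859.result _ _ _ _ _ _ hZ hC hS (pullback.fst c (toSpec' 1 K)) c
    hc1 hcC _ DZ hDZk
  have s2 := Groth.Agent.S1859.result _ _ _ _ _ _ hZ hP hS (pullback.snd c (toSpec' 1 K))
    (toSpec' 1 K) hc2 hcP _ DZ hDZk
  have s3 := map_congr_hom (pullback.condition (f := c) (g := toSpec' 1 K))
    (delta K (pullback.fst c (toSpec' 1 K) ≫ c)) (fun _ => 0) DZ
  have m1 : ∀ x, (AlgebraicCycle.map (pullback.fst c (toSpec' 1 K))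
      (delta K (pullback.fst c (toSpec' 1 K) ≫ c)) (delta K c) DZ) x =
      Cyc.divFun (delta K c) (pullback.fst c (toSpec' 1 K) ζ) g x := by
    intro x
    rw [map_apply']
    simp_rw [hDZ]
    rw [map_divFun_point _ _ _ hZ hC hc1 ζ hζ1 _ hG0 x, normGen_of_bijective _ _ hbij]
  have m2 : ∀ y, (AlgebraicCycle.map (pullback.snd c (toSpec' 1 K))
      (delta K (pullback.fst c (toSpec' 1 K) ≫ c)) (delta K (toSpec' 1 K)) DZ) y =
      ((letI := ((pullback.snd c (toSpec' 1 K)).residueFieldMap ζ).hom.toAlgebra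
        Module.finrank ((PP K).residueField (pullback.snd c (toSpec' 1 K) ζ))
          ((pullback c (toSpec' 1 K)).residueField ζ) : ℕ) : ℤ) *
      Cyc.divFun (delta K (toSpec' 1 K)) (pullback.snd c (toSpec' 1 K) ζ)
        (((PP K).evaluation (W K 0) _ hW).hom (ss K 0 1)) y := by
    intro y
    rw [map_apply']
    simp_rw [hDZ]
    rw [map_divFun_point _ _ _ hZ hP hc2 ζ hζ2 _ hG0 y, hG, normGen_map]
    refine Groth.Agent.Lib.Helper2.CycRat.divFun_pow _ _ _ ?_ _ y
    intro h0
    apply hG0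
    rw [hG, h0, map_zero]
  have e1 : ∑ᶠ x, Cyc.divFun (delta K c) (pullback.fst c (toSpec' 1 K) ζ) g x *
      ((AlgebraicCycle.mapCoeff c (delta K c) (fun _ => 0) x : ℕ) : ℤ) =
      (AlgebraicCycle.map c (delta K c) (fun _ => 0)
        (AlgebraicCycle.map (pullback.fst c (toSpec' 1 K))
          (delta K (pullback.fst c (toSpec' 1 K) ≫ c)) (delta K c) DZ))
        (c (pullback.fst c (toSpec' 1 K) ζ)) := by
    rw [map_apply_spec]
    exact finsum_congr (fun x => by rw [m1])
  have e2 : (AlgebraicCycle.map (toSpec' 1 K) (delta K (toSpec' 1 K)) (fun _ => 0)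
      (AlgebraicCycle.map (pullback.snd c (toSpec' 1 K))
        (delta K (pullback.fst c (toSpec' 1 K) ≫ c)) (delta K (toSpec' 1 K)) DZ))
        (c (pullback.fst c (toSpec' 1 K) ζ)) =
      ∑ᶠ y, ((letI := ((pullback.snd c (toSpec' 1 K)).residueFieldMap ζ).hom.toAlgebra
        Module.finrank ((PP K).residueField (pullback.snd c (toSpec' 1 K) ζ))
          ((pullback c (toSpec' 1 K)).residueField ζ) : ℕ) : ℤ) •
        (Cyc.divFun (delta K (toSpec' 1 K)) (pullback.snd c (toSpec' 1 K) ζ)
          (((PP K).evaluation (W K 0) _ hW).hom (ss K 0 1)) y *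
        ((AlgebraicCycle.mapCoeff (toSpec' 1 K) (delta K (toSpec' 1 K)) (fun _ => 0) y : ℕ) : ℤ)) := by
    rw [map_apply_spec]
    exact finsum_congr (fun y => by rw [m2, smul_eq_mul, mul_assoc])
  rw [e1, s1, s3, ← s2, e2, ← smul_finsum, deg_div_tbar K _ hcP _ hτ hW, smul_zero]

open scoped Classical in
theorem deg_divFun_of_transcendental (ξ : C) (hξ : delta K c ξ = 1) (g : C.residueField ξ)
    (hg : g ≠ 0)
    (htr : letI := (c.residueFieldMap ξ).hom.toAlgebra
      Transcendental ((Spec (CommRingCat.of K)).residueField (c ξ)) g) :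
    ∑ᶠ x, Cyc.divFun (delta K c) ξ g x *
      ((AlgebraicCycle.mapCoeff c (delta K c) (fun _ => 0) x : ℕ) : ℤ) = 0 := by
  obtain ⟨ζ, e, hW, hbij, hG⟩ := exists_graph_point K c ξ g
  subst e
  rw [Scheme.residueFieldCongr_refl] at hG
  exact deg_divFun_graph K c ζ hW hbij g hg hξ htr hG

theorem divFun_mul {X : Scheme.{u}} (δ : X → ℤ) (ξ : X) (a b : X.residueField ξ) (ha : a ≠ 0)
    (hb : b ≠ 0) (x : X) :
    Cyc.divFun δ ξ (a * b) x = Cyc.divFun δ ξ a x + Cyc.divFun δ ξ b x := by
  simp only [Cyc.divFun]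
  split_ifs with h
  · exact Groth.Agent.Lib.Helper2.CycC1.ordAt_mul x ξ h.1 a b ha hb
  · simp

open scoped Classical in
theorem finite_support_divFun_mul (δ : C → ℤ) (hC : Cyc.IsSetup C δ) (ξ : C)
    (g : C.residueField ξ) (hg : g ≠ 0) :
    (Function.support fun x => Cyc.divFun δ ξ g x *
      ((AlgebraicCycle.mapCoeff c δ (fun _ => 0) x : ℕ) : ℤ)).Finite := by
  obtain ⟨D, hD, -⟩ := exists_cycle_divFun δ hC ξ g hg
  haveI : CompactSpace C := QuasiCompact.compactSpace_of_compactSpace c
  have hfin := (Function.locallyFinsupp.locallyFiniteSupport D).finite_inter_support_of_isCompact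
    isCompact_univ
  refine hfin.subset ?_
  intro x hx
  refine ⟨Set.mem_univ _, ?_⟩
  rw [Function.mem_support] at hx ⊢
  change D x ≠ 0
  rw [hD x]
  exact left_ne_zero_of_mul hx

open scoped Classical in
/-- **the degree of a principal divisor on a proper curve is zero** (point version): for `c : C → Spec K`
proper, `ξ` a point with `trdeg κ(ξ)/K = 1` and `g ∈ κ(ξ)^*`, `∑_x ord_x(g) [κ(x) : K] = 0`. -/
theorem deg_divFun_eq_zero (ξ : C) (hξ : delta K c ξ = 1) (g : C.residueField ξ) (hg : g ≠ 0) :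
    ∑ᶠ x, Cyc.divFun (delta K c) ξ g x *
      ((AlgebraicCycle.mapCoeff c (delta K c) (fun _ => 0) x : ℕ) : ℤ) = 0 := by
  letI := (c.residueFieldMap ξ).hom.toAlgebra
  by_cases htr : Transcendental ((Spec (CommRingCat.of K)).residueField (c ξ)) g
  · exact deg_divFun_of_transcendental K c ξ hξ g hg htr
  · have halg : IsAlgebraic ((Spec (CommRingCat.of K)).residueField (c ξ)) g := not_not.mp htr
    obtain ⟨n, hn, hδn⟩ := deltaCompat_delta K c ξ
    have hn1 : n = 1 := by
      rw [hξ, zero_add] at hδn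
      exact_mod_cast hδn.symm
    have hnalg : ¬ Algebra.IsAlgebraic ((Spec (CommRingCat.of K)).residueField (c ξ))
        (C.residueField ξ) := by
      intro h
      have h0 : Algebra.trdeg ((Spec (CommRingCat.of K)).residueField (c ξ))
        (C.residueField ξ) = 0 := trdeg_eq_zero
      rw [h0, hn1] at hn
      simp at hn
    obtain ⟨u, hu⟩ := (Algebra.transcendental_iff_not_isAlgebraic.mpr hnalg).transcendental
    have hu0 : u ≠ 0 := fun h => hu (h ▸ isAlgebraic_zero)
    have hgu : Transcendental ((Spec (CommRingCat.of K)).residueField (c ξ)) (g * u) := by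
      intro h
      apply hu
      have : u = g⁻¹ * (g * u) := by field_simp
      rw [this]
      exact halg.inv.mul h
    have h1 := deg_divFun_of_transcendental K c ξ hξ (g * u) (mul_ne_zero hg hu0) hgu
    have h2 := deg_divFun_of_transcendental K c ξ hξ u hu0 hu
    have hC := isSetup_of_deltaCompat c _ (isSetup_specField K) _ (deltaCompat_delta K c)
    have key : ∀ x, Cyc.divFun (delta K c) ξ g x *
        ((AlgebraicCycle.mapCoeff c (delta K c) (fun _ => 0) x : ℕ) : ℤ) =
        Cyc.divFun (delta K c) ξ (g * u) x *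
          ((AlgebraicCycle.mapCoeff c (delta K c) (fun _ => 0) x : ℕ) : ℤ) -
        Cyc.divFun (delta K c) ξ u x *
          ((AlgebraicCycle.mapCoeff c (delta K c) (fun _ => 0) x : ℕ) : ℤ) := by
      intro x
      rw [divFun_mul _ _ _ _ hg hu0]
      ring
    rw [finsum_congr key, finsum_sub_distrib
      (finite_support_divFun_mul K c _ hC ξ _ (mul_ne_zero hg hu0))
      (finite_support_divFun_mul K c _ hC ξ u hu0), h1, h2, sub_zero]

end Core

end Groth.Agent.Lib.Helper7.CycDeg
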