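import Mathlib
import Groth.Agent.Lib.Helper7DegI

set_option autoImplicit false
set_option linter.style.haveILetI false
set_option linter.unusedVariables false
set_option linter.unusedSectionVars false
universe u
open CategoryTheory CategoryTheory.Limits AlgebraicGeometry IsLocalRing TopologicalSpace

namespace Groth.Agent.Lib.Helper7.CycDeg

open Groth.Agent.Lib.Helper2.CycOrd Groth.Agent.Lib.Helper2.NormOrdB

theorem ordFrac_ringEquiv {A B : Type u} [CommRing A] [CommRing B] [IsDomain A] [IsDomain B]
    [IsNoetherianRing A] (e : A ≃+* B) (hdA : ringKrullDim A ≤ 1)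
    (K L : Type u) [Field K] [Field L] [Algebra A K] [Algebra B L]
    [IsFractionRing A K] [IsFractionRing B L] (ψ : K →+* L)
    (hψ : ∀ a : A, ψ (algebraMap A K a) = algebraMap B L (e a)) (g : K) (hg : g ≠ 0) :
    CycAlg.ordFrac B L (ψ g) = CycAlg.ordFrac A K g := by
  haveI : IsNoetherianRing B := isNoetherianRing_of_ringEquiv A e
  have hdB : ringKrullDim B ≤ 1 := (ringKrullDim_eq_of_ringEquiv e).symm.trans_le hdA
  obtain ⟨a, b, hb, hab⟩ := IsFractionRing.div_surjective (A := A) g
  have hb0 : b ≠ 0 := nonZeroDivisors.ne_zero hb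
  have ha0 : a ≠ 0 := by
    intro h0
    apply hg
    rw [← hab, h0, map_zero, zero_div]
  have hA := Groth.Agent.Lib.Helper5.DetLattice.ordFrac_div A hdA K ha0 hb0
  have hB := Groth.Agent.Lib.Helper5.DetLattice.ordFrac_div B hdB L
    ((EmbeddingLike.map_ne_zero_iff (f := e)).mpr ha0) ((EmbeddingLike.map_ne_zero_iff (f := e)).mpr hb0)
  rw [← hab, map_div₀, hψ, hψ, hB, hA, Groth.Agent.Lib.Helper2.CycClosedImm.ord_ringEquiv e,
    Groth.Agent.Lib.Helper2.CycClosedImm.ord_ringEquiv e b]

section Sch

variable {X : Scheme.{u}} [IsIntegral X] [IsLocallyNoetherian X]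

theorem ordAt_eq_ordFrac_stalk (x : X) (h : genericPoint X ⤳ x)
    (hdim : ringKrullDim (Cyc.LocQuot x (genericPoint X) h) ≤ 1) (f : X.functionField)
    (hf : f ≠ 0) :
    Cyc.ordAt x (genericPoint X) h ((X.residue (genericPoint X)).hom f) =
      CycAlg.ordFrac (X.presheaf.stalk x) X.functionField f := by
  haveI := isFractionRing_locQuot x (genericPoint X) h
  have hker := ker_specMap_eq_bot x (genericPoint X) rfl h
  have hbij : Function.Bijective
      (Ideal.Quotient.mk (RingHom.ker (Cyc.specMap x (genericPoint X) h))) := by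
    refine ⟨?_, Ideal.Quotient.mk_surjective⟩
    rw [RingHom.injective_iff_ker_eq_bot, Ideal.mk_ker, hker]
  let e : X.presheaf.stalk x ≃+* Cyc.LocQuot x (genericPoint X) h := RingEquiv.ofBijective _ hbij
  haveI : IsDomain (Cyc.LocQuot x (genericPoint X) h) :=
    (Ideal.Quotient.isDomain_iff_prime _).mpr inferInstance
  have hdA : ringKrullDim (X.presheaf.stalk x) ≤ 1 :=
    (ringKrullDim_eq_of_ringEquiv e).trans_le hdim
  unfold Cyc.ordAt
  refine ordFrac_ringEquiv e hdA X.functionField (X.residueField (genericPoint X))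
    (X.residue (genericPoint X)).hom ?_ f hf
  intro a
  change _ = algebraMap (Cyc.LocQuot x (genericPoint X) h) _ (Ideal.Quotient.mk _ a)
  rw [algebraMap_locQuot_mk]
  rfl

end Sch

section Closed

open Groth.Agent.Lib.Helper4.VarDim Groth.Agent.Lib.Helper4.DimFormula

attribute [local instance] Curv2.resAlgebra

variable (K : Type u) [Field K] {X : Scheme.{u}} (c : X ⟶ Spec (CommRingCat.of K))
  [LocallyOfFiniteType c]

theorem delta_eq_zero_of_isClosed (x : X) (hx : IsClosed ({x} : Set X)) : delta K c x = 0 := by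
  letI : X.Over (Spec (CommRingCat.of K)) := ⟨c⟩
  haveI : LocallyOfFiniteType (X ↘ Spec (CommRingCat.of K)) := ‹LocallyOfFiniteType c›
  have h := trdeg_eq_zero_of_isClosed K X x hx
  unfold delta
  rw [trdegNat_eq_of_trdeg_eq K X x 0 (by exact_mod_cast h)]
  rfl

theorem isClosed_of_delta_eq_zero (x : X) (hx : delta K c x = 0) : IsClosed ({x} : Set X) := by
  have hC := isSetup_of_deltaCompat c _ (isSetup_specField K) _ (deltaCompat_delta K c)
  rw [← closure_eq_iff_isClosed]
  apply Set.Subset.antisymm _ subset_closure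
  intro y hy
  have hsp : x ⤳ y := specializes_iff_mem_closure.mpr hy
  by_contra hne
  have h1 := (hC.2.2 x y hsp (fun h => hne (h ▸ rfl))).1
  have h2 := delta_nonneg K c y
  omega

theorem delta_genericPoint_eq [IsIntegral X] (d : ℕ) (hdim : topologicalKrullDim X = d) :
    delta K c (genericPoint X) = d := by
  unfold delta
  letI : X.Over (Spec (CommRingCat.of K)) := ⟨c⟩
  haveI : LocallyOfFiniteType (X ↘ Spec (CommRingCat.of K)) := ‹LocallyOfFiniteType c›
  have h1 := topologicalKrullDim_eq_trdegNat_genericPoint K (Y := X)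
  rw [h1] at hdim
  exact_mod_cast hdim

end Closed

end Groth.Agent.Lib.Helper7.CycDeg
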