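import Mathlib
import Groth.Agent.Lib.Helper7DegJ

set_option autoImplicit false
set_option linter.style.haveILetI false
set_option linter.unusedVariables false
set_option linter.unusedSectionVars false
universe u
open CategoryTheory CategoryTheory.Limits AlgebraicGeometry IsLocalRing TopologicalSpace

namespace Groth.Agent.Lib.Helper7.CycDeg

open Groth.Agent.Lib.Helper7.CycSq Groth.Agent.Lib.Helper7.CycSp Groth.Agent.Lib.Helper7.DvrLen

theorem divFun_shift {X : Scheme.{u}} (δ δ' : X → ℤ) (a : ℤ) (h : ∀ x, δ' x = δ x + a) (ξ : X)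
    (g : X.residueField ξ) (x : X) : Cyc.divFun δ' ξ g x = Cyc.divFun δ ξ g x := by
  simp only [Cyc.divFun]
  have hiff : (ξ ⤳ x ∧ δ' x + 1 = δ' ξ) ↔ (ξ ⤳ x ∧ δ x + 1 = δ ξ) := by
    rw [h x, h ξ]
    constructor
    · rintro ⟨h1, h2⟩; exact ⟨h1, by omega⟩
    · rintro ⟨h1, h2⟩; exact ⟨h1, by omega⟩
  by_cases hc : ξ ⤳ x ∧ δ x + 1 = δ ξ
  · rw [dif_pos hc, dif_pos (hiff.mpr hc)]
  · rw [dif_neg hc, dif_neg (fun h' => hc (hiff.mp h'))]

section Fibre

variable {X Y : Scheme.{u}} (p : X ⟶ Y) [IsProper p] (δX : X → ℤ) (δY : Y → ℤ)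
  (hX : Cyc.IsSetup X δX) (hY : Cyc.IsSetup Y δY) (hδ : Cyc.DeltaCompat p δX δY) (η : Y)

/-- the structure morphism of the fibre, over the spectrum of the residue field as a type. -/
noncomputable abbrev cF : p.fiber η ⟶ Spec (CommRingCat.of (Y.residueField η)) :=
  p.fiberToSpecResidueField η

instance isProper_cF : IsProper (cF p η) :=
  inferInstanceAs (IsProper (pullback.snd p (Y.fromSpecResidueField η)))

include hδ in
theorem delta_fiber (z : p.fiber η) :
    δX (p.fiberι η z) = δY η + delta (Y.residueField η) (cF p η) z := by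
  obtain ⟨n, hn, hδn⟩ := hδ (p.fiberι η z)
  obtain ⟨m, hm, hδm⟩ := deltaCompat_delta (Y.residueField η) (cF p η) z
  have h1 := trdeg_fibre_eq p η z
  have h2 : (n : Cardinal.{u}) = m := hn.symm.trans (h1.trans hm)
  have h3 : n = m := by exact_mod_cast h2
  rw [hδn, hδm, fiberι_mem p η z, h3, zero_add]

include hδ in
open scoped Classical in
theorem mapCoeff_fiber (z : p.fiber η) :
    AlgebraicCycle.mapCoeff (cF p η) (delta (Y.residueField η) (cF p η)) (fun _ => 0) z =
      AlgebraicCycle.mapCoeff p δX δY (p.fiberι η z) := by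
  unfold AlgebraicCycle.mapCoeff
  have hdeg : (cF p η).residueDegree z = p.residueDegree (p.fiberι η z) :=
    residueDegree_eq (p.fiberι η) (Y.fromSpecResidueField η) (cF p η) p (p.fiber_fac η).symm z
      (isIso_residueFieldMap_of_surjectiveOnStalks _ z)
      (isIso_residueFieldMap_of_surjectiveOnStalks _ _)
  have hd := delta_fiber p δX δY hδ η z
  have hpz : p (p.fiberι η z) = η := fiberι_mem p η z
  by_cases h0 : delta (Y.residueField η) (cF p η) z = 0
  · rw [if_pos h0, if_pos (by rw [hd, h0, add_zero]; exact congrArg δY hpz.symm), hdeg]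
  · rw [if_neg h0, if_neg]
    intro h1
    apply h0
    have h2 : δY (p (p.fiberι η z)) = δY η := congrArg δY hpz
    change δX (p.fiberι η z) = δY (p (p.fiberι η z)) at h1
    omega

include hX hδ in
theorem divFun_fiber (ξ' z : p.fiber η) (g : X.residueField (p.fiberι η ξ')) (hg : g ≠ 0) :
    Cyc.divFun (delta (Y.residueField η) (cF p η)) ξ' (((p.fiberι η).residueFieldMap ξ').hom g) z =
      Cyc.divFun δX (p.fiberι η ξ') g (p.fiberι η z) := by
  haveI : IsLocallyNoetherian X := hX.1
  rw [← Groth.Agent.Lib.Helper2.CycFamily.divFun_of_inducing (p.fiberι η)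
    (p.fiberι η).isEmbedding.isInducing (fun d => (p.fiberι η).stalkMap_surjective d) δX hX.2.2
    ξ' z g hg]
  exact (divFun_shift (delta (Y.residueField η) (cF p η)) (fun d => δX (p.fiberι η d)) (δY η)
    (fun x => by rw [delta_fiber p δX δY hδ η x, add_comm]) ξ' _ z).symm

open scoped Classical in
include hX hδ in
theorem finsum_fiber_eq_zero (ξ' : p.fiber η) (g : X.residueField (p.fiberι η ξ')) (hg : g ≠ 0)
    (h1 : δX (p.fiberι η ξ') = δY η + 1) :
    ∑ᶠ x ∈ (p : X → Y) ⁻¹' {η}, Cyc.divFun δX (p.fiberι η ξ') g x *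
      ((AlgebraicCycle.mapCoeff p δX δY x : ℕ) : ℤ) = 0 := by
  rw [← Scheme.Hom.range_fiberι, finsum_mem_range (p.fiberι η).isEmbedding.injective]
  have hg' : ((p.fiberι η).residueFieldMap ξ').hom g ≠ 0 := by
    intro h0
    exact hg (((p.fiberι η).residueFieldMap ξ').hom.injective (by rw [h0, map_zero]))
  have hd : delta (Y.residueField η) (cF p η) ξ' = 1 := by
    have := delta_fiber p δX δY hδ η ξ'
    omega
  have core := deg_divFun_eq_zero (Y.residueField η) (cF p η) ξ' hd _ hg'
  rw [← core]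
  apply finsum_congr
  intro z
  rw [divFun_fiber p δX δY hX hδ η ξ' z g hg, mapCoeff_fiber p δX δY hδ η z]

open scoped Classical in
include hX hY hδ in
/-- **proper push-forward of a principal divisor when the dimension drops**: `p_* div_ξ(g) = 0`
for a point `ξ` whose image has smaller dimension. -/
theorem map_divFun_point_zero (ξ : X) (hn : δX ξ ≠ δY (p ξ)) (g : X.residueField ξ) (hg : g ≠ 0)
    (y : Y) :
    ∑ᶠ x ∈ (p : X → Y) ⁻¹' {y}, Cyc.divFun δX ξ g x *
      ((AlgebraicCycle.mapCoeff p δX δY x : ℕ) : ℤ) = 0 := by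
  by_cases h : y = p ξ ∧ δX ξ = δY (p ξ) + 1
  · obtain ⟨rfl, h1⟩ := h
    have key : ∀ (η : Y), p ξ = η → δX ξ = δY η + 1 →
        ∑ᶠ x ∈ (p : X → Y) ⁻¹' {η}, Cyc.divFun δX ξ g x *
          ((AlgebraicCycle.mapCoeff p δX δY x : ℕ) : ℤ) = 0 := by
      intro η hη h1
      obtain ⟨ξ', hξ'⟩ := exists_fiberι_eq p ξ η hη
      subst hξ'
      exact finsum_fiber_eq_zero p δX δY hX hδ η ξ' g hg h1
    exact key (p ξ) rfl h1
  · apply finsum_mem_eq_zero_of_forall_eq_zero
    intro x hx
    have hpx : p x = y := hx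
    by_contra hne
    have hd : Cyc.divFun δX ξ g x ≠ 0 := left_ne_zero_of_mul hne
    have hm : ((AlgebraicCycle.mapCoeff p δX δY x : ℕ) : ℤ) ≠ 0 := right_ne_zero_of_mul hne
    have hc : ξ ⤳ x ∧ δX x + 1 = δX ξ := by
      by_contra hns
      apply hd
      simp only [Cyc.divFun]
      rw [dif_neg hns]
    have hmx : δX x = δY (p x) := by
      by_contra hns
      apply hm
      unfold AlgebraicCycle.mapCoeff
      rw [if_neg hns]
      rfl
    obtain ⟨n, -, hδn⟩ := hδ ξ
    have hsp : p ξ ⤳ p x := hc.1.map p.continuous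
    by_cases hyξ : p x = p ξ
    · apply h
      refine ⟨hpx.symm.trans hyξ, ?_⟩
      rw [hyξ] at hmx
      omega
    · have hlt := (hY.2.2 (p ξ) (p x) hsp (fun e => hyξ e.symm)).1
      apply hn
      omega

end Fibre

end Groth.Agent.Lib.Helper7.CycDeg
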