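import Mathlib
import Groth.Agent.Lib.Helper7DegK

set_option autoImplicit false
set_option linter.style.haveILetI false
set_option linter.unusedVariables false
set_option linter.unusedSectionVars false
universe u
open CategoryTheory CategoryTheory.Limits AlgebraicGeometry IsLocalRing TopologicalSpace

namespace Groth.Agent.Lib.Helper7.CycDeg

open Groth.Agent.Lib.Helper7.CycSq

section Top

theorem finite_meets_compact {T : Type*} [TopologicalSpace T] {ι : Type*} (ξ : ι → T)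
    (hlf : ∀ x : T, ∃ U : Set T, IsOpen U ∧ x ∈ U ∧ {i | (closure {ξ i} ∩ U).Nonempty}.Finite)
    (K : Set T) (hK : IsCompact K) : {i | (closure {ξ i} ∩ K).Nonempty}.Finite := by
  choose N hNo hNu hNfin using hlf
  obtain ⟨t, -, ht⟩ := hK.elim_nhds_subcover N (fun u _ => (hNo u).mem_nhds (hNu u))
  have hbig : (⋃ u ∈ (t : Set T), {j | (closure {ξ j} ∩ N u).Nonempty}).Finite :=
    t.finite_toSet.biUnion fun u _ => hNfin u
  refine hbig.subset ?_
  rintro j ⟨z, hz1, hz2⟩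
  obtain ⟨u, hut, hu⟩ := Set.mem_iUnion₂.mp (ht hz2)
  rw [Set.mem_iUnion₂]
  exact ⟨u, Finset.mem_coe.mpr hut, z, hz1, hu⟩

end Top

section Push

variable {X Y : Scheme.{u}} (p : X ⟶ Y) [IsProper p]

theorem exists_specializes_of_isClosedMap (ξ : X) (z : Y) (h : p ξ ⤳ z) :
    ∃ x, ξ ⤳ x ∧ p x = z := by
  have hcl : IsClosed ((p : X → Y) '' closure {ξ}) := p.isClosedMap _ isClosed_closure
  have h1 : z ∈ (p : X → Y) '' closure {ξ} := by
    have h2 : closure {p ξ} ⊆ (p : X → Y) '' closure {ξ} :=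
      closure_minimal (Set.singleton_subset_iff.mpr ⟨ξ, subset_closure rfl, rfl⟩) hcl
    exact h2 (specializes_iff_mem_closure.mp h)
  obtain ⟨x, hx, rfl⟩ := h1
  exact ⟨x, specializes_iff_mem_closure.mpr hx, rfl⟩

theorem locallyFinite_image {ι : Type*} (ξ : ι → X)
    (hlf : ∀ x : X, ∃ U : Set X, IsOpen U ∧ x ∈ U ∧ {i | (closure {ξ i} ∩ U).Nonempty}.Finite)
    (y : Y) :
    ∃ V : Set Y, IsOpen V ∧ y ∈ V ∧ {i | (closure {p (ξ i)} ∩ V).Nonempty}.Finite := by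
  obtain ⟨_, ⟨V, hV : IsAffineOpen V, rfl⟩, hyV, -⟩ :=
    (Y.isBasis_affineOpens).exists_subset_of_mem_open (Set.mem_univ y) isOpen_univ
  have hK : IsCompact ((p : X → Y) ⁻¹' (V : Set Y)) :=
    QuasiCompact.isCompact_preimage (f := p) _ V.2 hV.isCompact
  refine ⟨V, V.2, hyV, (finite_meets_compact ξ hlf _ hK).subset ?_⟩
  rintro i ⟨z, hz1, hz2⟩
  obtain ⟨x, hx1, rfl⟩ := exists_specializes_of_isClosedMap p (ξ i) z
    (specializes_iff_mem_closure.mpr hz1)
  exact ⟨x, specializes_iff_mem_closure.mp hx1, hz2⟩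

variable (δX : X → ℤ) (δY : Y → ℤ) (hX : Cyc.IsSetup X δX) (hY : Cyc.IsSetup Y δY)
  (hδ : Cyc.DeltaCompat p δX δY)

open scoped Classical in
theorem map_sub_apply (α β : AlgebraicCycle X ℤ) (y : Y) :
    (AlgebraicCycle.map p δX δY α - AlgebraicCycle.map p δX δY β) y =
      ∑ᶠ x ∈ (p : X → Y) ⁻¹' {y}, (α - β) x *
        ((AlgebraicCycle.mapCoeff p δX δY x : ℕ) : ℤ) := by
  have hK : IsCompact ((p : X → Y) ⁻¹' {y}) := p.isCompact_preimage_singleton y
  have hfin : ∀ γ : AlgebraicCycle X ℤ, ((p : X → Y) ⁻¹' {y} ∩ Function.support fun x => γ x *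
      ((AlgebraicCycle.mapCoeff p δX δY x : ℕ) : ℤ)).Finite := by
    intro γ
    refine ((Function.locallyFinsupp.locallyFiniteSupport γ).finite_inter_support_of_isCompact
      hK).subset ?_
    rintro x ⟨hx1, hx2⟩
    exact ⟨hx1, left_ne_zero_of_mul hx2⟩
  have h1 : (AlgebraicCycle.map p δX δY α - AlgebraicCycle.map p δX δY β) y =
      (AlgebraicCycle.map p δX δY α) y - (AlgebraicCycle.map p δX δY β) y := rfl
  have h3 : ∑ᶠ x ∈ (p : X → Y) ⁻¹' {y}, α x * ((AlgebraicCycle.mapCoeff p δX δY x : ℕ) : ℤ) =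
      (∑ᶠ x ∈ (p : X → Y) ⁻¹' {y}, (α - β) x * ((AlgebraicCycle.mapCoeff p δX δY x : ℕ) : ℤ)) +
      ∑ᶠ x ∈ (p : X → Y) ⁻¹' {y}, β x * ((AlgebraicCycle.mapCoeff p δX δY x : ℕ) : ℤ) := by
    rw [← finsum_mem_add_distrib' (hfin (α - β)) (hfin β)]
    apply finsum_mem_congr rfl
    intro x _
    have h2 : (α - β) x = α x - β x := rfl
    rw [h2, sub_mul, sub_add_cancel]
  rw [h1, map_apply', map_apply', h3, add_sub_cancel_right]

open scoped Classical in
include hX hY hδ in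
/-- **proper push-forward of a locally finite sum of principal divisors**. -/
theorem map_finsum_divFun (k : ℤ) {ι : Type*} (ξ : ι → X) (f : (i : ι) → X.residueField (ξ i))
    (hξ : ∀ i, δX (ξ i) = k + 1) (hf : ∀ i, f i ≠ 0)
    (hlf : ∀ x : X, ∃ U : Set X, IsOpen U ∧ x ∈ U ∧ {i | (closure {ξ i} ∩ U).Nonempty}.Finite)
    (D : X → ℤ) (hsum : ∀ x, D x = ∑ᶠ i, Cyc.divFun δX (ξ i) (f i) x) (y : Y) :
    ∑ᶠ x ∈ (p : X → Y) ⁻¹' {y}, D x * ((AlgebraicCycle.mapCoeff p δX δY x : ℕ) : ℤ) =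
      ∑ᶠ j : ↥{i : ι | δY (p (ξ i)) = k + 1},
        Cyc.divFun δY (p (ξ j.1)) (Cyc.normGen p (ξ j.1) (f j.1)) y := by
  have hK : IsCompact ((p : X → Y) ⁻¹' {y}) := p.isCompact_preimage_singleton y
  have hTfin := finite_meets_compact ξ hlf _ hK
  have h2 : ∀ x ∈ (p : X → Y) ⁻¹' {y},
      D x = ∑ i ∈ hTfin.toFinset, Cyc.divFun δX (ξ i) (f i) x := by
    intro x hx
    rw [hsum x]
    apply finsum_eq_sum_of_support_subset
    intro i hi
    rw [Function.mem_support] at hi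
    have hsp : ξ i ⤳ x := by
      by_contra hns
      apply hi
      unfold Cyc.divFun
      rw [dif_neg (fun h => hns h.1)]
    rw [Finset.mem_coe, Set.Finite.mem_toFinset]
    exact ⟨x, specializes_iff_mem_closure.mp hsp, hx⟩
  have h3 : ∑ᶠ x ∈ (p : X → Y) ⁻¹' {y}, D x *
        ((AlgebraicCycle.mapCoeff p δX δY x : ℕ) : ℤ) =
      ∑ᶠ x ∈ (p : X → Y) ⁻¹' {y}, ∑ i ∈ hTfin.toFinset, Cyc.divFun δX (ξ i) (f i) x *
        ((AlgebraicCycle.mapCoeff p δX δY x : ℕ) : ℤ) := by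
    apply finsum_mem_congr rfl
    intro x hx
    rw [h2 x hx, Finset.sum_mul]
  have hfinB : ∀ i ∈ hTfin.toFinset, (Function.support fun x : ↥((p : X → Y) ⁻¹' {y}) =>
      Cyc.divFun δX (ξ i) (f i) x.1 *
        ((AlgebraicCycle.mapCoeff p δX δY x.1 : ℕ) : ℤ)).Finite := by
    intro i _
    obtain ⟨D', hD', -⟩ := exists_cycle_divFun δX hX (ξ i) (f i) (hf i)
    have h1 := (Function.locallyFinsupp.locallyFiniteSupport D').finite_inter_support_of_isCompact
      hK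
    refine (h1.preimage Subtype.val_injective.injOn).subset ?_
    intro x hx
    rw [Function.mem_support] at hx
    refine ⟨x.2, ?_⟩
    rw [Function.mem_support]
    intro h0
    exact left_ne_zero_of_mul hx ((hD' x.1).symm.trans h0)
  have hsw : ∑ᶠ x ∈ (p : X → Y) ⁻¹' {y}, ∑ i ∈ hTfin.toFinset, Cyc.divFun δX (ξ i) (f i) x *
        ((AlgebraicCycle.mapCoeff p δX δY x : ℕ) : ℤ) =
      ∑ i ∈ hTfin.toFinset, ∑ᶠ x ∈ (p : X → Y) ⁻¹' {y}, Cyc.divFun δX (ξ i) (f i) x *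
        ((AlgebraicCycle.mapCoeff p δX δY x : ℕ) : ℤ) := by
    calc _ = ∑ᶠ x : ↥((p : X → Y) ⁻¹' {y}), ∑ i ∈ hTfin.toFinset,
          Cyc.divFun δX (ξ i) (f i) x.1 * ((AlgebraicCycle.mapCoeff p δX δY x.1 : ℕ) : ℤ) :=
        (finsum_set_coe_eq_finsum_mem (f := fun x => ∑ i ∈ hTfin.toFinset,
          Cyc.divFun δX (ξ i) (f i) x * ((AlgebraicCycle.mapCoeff p δX δY x : ℕ) : ℤ)) _).symm
      _ = ∑ i ∈ hTfin.toFinset, ∑ᶠ x : ↥((p : X → Y) ⁻¹' {y}),
          Cyc.divFun δX (ξ i) (f i) x.1 * ((AlgebraicCycle.mapCoeff p δX δY x.1 : ℕ) : ℤ) :=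
        finsum_sum_comm _ _ hfinB
      _ = _ := Finset.sum_congr rfl (fun i _ =>
        finsum_set_coe_eq_finsum_mem (f := fun x => Cyc.divFun δX (ξ i) (f i) x *
          ((AlgebraicCycle.mapCoeff p δX δY x : ℕ) : ℤ)) _)
  rw [h3, hsw]
  have hR : ∑ᶠ j : ↥{i : ι | δY (p (ξ i)) = k + 1},
        Cyc.divFun δY (p (ξ j.1)) (Cyc.normGen p (ξ j.1) (f j.1)) y =
      ∑ i ∈ hTfin.toFinset, Set.indicator {i : ι | δY (p (ξ i)) = k + 1}
        (fun i => Cyc.divFun δY (p (ξ i)) (Cyc.normGen p (ξ i) (f i)) y) i := by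
    rw [finsum_set_coe_eq_finsum_mem (f := fun i =>
      Cyc.divFun δY (p (ξ i)) (Cyc.normGen p (ξ i) (f i)) y), finsum_mem_def]
    apply finsum_eq_sum_of_support_subset
    intro i hi
    rw [Function.mem_support] at hi
    have hi2 : Cyc.divFun δY (p (ξ i)) (Cyc.normGen p (ξ i) (f i)) y ≠ 0 := by
      intro h0
      apply hi
      by_cases hiS : i ∈ {i : ι | δY (p (ξ i)) = k + 1}
      · rw [Set.indicator_of_mem hiS]; exact h0
      · rw [Set.indicator_of_notMem hiS]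
    have hsp : p (ξ i) ⤳ y := by
      by_contra hns
      apply hi2
      unfold Cyc.divFun
      rw [dif_neg (fun h => hns h.1)]
    obtain ⟨x, hx1, hx2⟩ := exists_specializes_of_isClosedMap p (ξ i) y hsp
    rw [Finset.mem_coe, Set.Finite.mem_toFinset]
    exact ⟨x, specializes_iff_mem_closure.mp hx1, hx2⟩
  rw [hR]
  refine Finset.sum_congr rfl (fun i _ => ?_)
  by_cases hiS : i ∈ {i : ι | δY (p (ξ i)) = k + 1}
  · rw [Set.indicator_of_mem hiS]
    exact map_divFun_point p δX δY hX hY hδ (ξ i) ((hξ i).trans hiS.symm) (f i) (hf i) y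
  · rw [Set.indicator_of_notMem hiS]
    exact map_divFun_point_zero p δX δY hX hY hδ (ξ i)
      (fun h => hiS ((h.symm.trans (hξ i)))) (f i) (hf i) y

open scoped Classical in
include hX hY hδ in
/-- **proper push-forward preserves rational equivalence**. -/
theorem ratEquiv_map (k : ℤ) (α β : AlgebraicCycle X ℤ) (h : Cyc.RatEquiv δX k α β) :
    Cyc.RatEquiv δY k (AlgebraicCycle.map p δX δY α) (AlgebraicCycle.map p δX δY β) := by
  obtain ⟨ι, ξ, f, hξ, hf, hlf, hsum⟩ := h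
  refine ⟨↥{i : ι | δY (p (ξ i)) = k + 1}, fun j => p (ξ j.1),
    fun j => Cyc.normGen p (ξ j.1) (f j.1), fun j => j.2,
    fun j => normGen_ne_zero p _ _ (hf j.1), ?_, ?_⟩
  · intro y
    obtain ⟨V, hVo, hyV, hfin⟩ := locallyFinite_image p ξ hlf y
    exact ⟨V, hVo, hyV, (hfin.preimage Subtype.val_injective.injOn).subset (fun j hj => hj)⟩
  · intro y
    rw [map_sub_apply p δX δY α β y]
    exact map_finsum_divFun p δX δY hX hY hδ k ξ f hξ hf hlf (fun x => (α - β) x) hsum y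

end Push

end Groth.Agent.Lib.Helper7.CycDeg
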