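import Mathlib
import Groth.Prelude.Def_Smoothing
import Groth.Agent.Lib.Helper18Std

/-!
# Elementary standard elements from presentations indexed by arbitrary finite types (helper7)

* `isElementaryStandard_of_fin`: extracted from helper18's `exists_elementaryStandard`: a presentation
  `R[X_1..X_n]/(f_1..f_m)`, embeddings `rows : Fin c ↪ Fin m`, `cols : Fin c ↪ Fin n`, an element which is a
  multiple of the `rows × cols` Jacobian minor and kills the tail.
* `isElementaryStandard_of_fintype`: the same for index types that are arbitrary finite types.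
-/

universe u
set_option autoImplicit false
set_option linter.style.haveILetI false
open MvPolynomial

namespace Groth.Agent.Lib.Helper7.ElemStd

open Groth.Agent.Helper18Std

theorem isElementaryStandard_of_fin {R A : Type u} [CommRing R] [CommRing A] [Algebra R A] {n m c : ℕ}
    (f : Fin m → MvPolynomial (Fin n) R) (φ : MvPolynomial (Fin n) R →ₐ[R] A)
    (hφ : Function.Surjective φ)
    (hker : RingHom.ker φ.toRingHom = Ideal.span (Set.range f))
    (rows : Fin c ↪ Fin m) (cols : Fin c ↪ Fin n) (a a' : A)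
    (haa' : a = a' * φ (Matrix.det (Matrix.of fun j k : Fin c => pderiv (cols k) (f (rows j)))))
    (htail : ∀ a₁ : MvPolynomial (Fin n) R, φ a₁ = a → ∀ ℓ : Fin m,
        a₁ * f ℓ ∈ Ideal.span (Set.range (f ∘ rows)) ⊔ Ideal.span (Set.range f) ^ 2) :
    Smoothing.IsElementaryStandard R A a := by
  classical
  have hcm : c ≤ m := by simpa using Fintype.card_le_of_embedding rows
  have hcn : c ≤ n := by simpa using Fintype.card_le_of_embedding cols
  obtain ⟨σ, hσ⟩ := exists_perm_extend rows hcm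
  obtain ⟨τ, hτ⟩ := exists_perm_extend cols hcn
  let ρ : MvPolynomial (Fin n) R ≃ₐ[R] MvPolynomial (Fin n) R := renameEquiv R τ
  have hρ : ∀ x, ρ x = rename τ x := fun x => rfl
  have hρs : ∀ x, ρ.symm x = rename τ.symm x := fun x => rfl
  let rel' : Fin m → MvPolynomial (Fin n) R := fun ℓ => ρ.symm (f (σ ℓ))
  let hom' : MvPolynomial (Fin n) R →ₐ[R] A := φ.comp ρ.toAlgHom
  have hsurj' : Function.Surjective hom' := hφ.comp ρ.surjective
  have hrange : Set.range rel' = ρ.symm '' Set.range f := by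
    ext x
    constructor
    · rintro ⟨ℓ, rfl⟩
      exact ⟨f (σ ℓ), ⟨σ ℓ, rfl⟩, rfl⟩
    · rintro ⟨_, ⟨ℓ, rfl⟩, rfl⟩
      exact ⟨σ.symm ℓ, by simp [rel']⟩
  have hρsurj : Function.Surjective (ρ.symm : MvPolynomial (Fin n) R →+* MvPolynomial (Fin n) R) :=
    ρ.symm.surjective
  have hspan' : Ideal.span (Set.range rel') =
      (Ideal.span (Set.range f)).map (ρ.symm : MvPolynomial (Fin n) R →+* MvPolynomial (Fin n) R) := by
    rw [hrange, Ideal.map_span]
    rfl
  have hker' : RingHom.ker hom'.toRingHom = Ideal.span (Set.range rel') := by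
    rw [hspan', ← hker]
    ext x
    rw [RingHom.mem_ker, Ideal.mem_map_iff_of_surjective _ hρsurj]
    constructor
    · intro hx
      exact ⟨ρ x, hx, ρ.symm_apply_apply x⟩
    · rintro ⟨y, hy, rfl⟩
      change φ (ρ (ρ.symm y)) = 0
      rw [ρ.apply_symm_apply]
      exact hy
  let MP : Smoothing.MarkedPresentation R A :=
    { n := n, m := m, c := c, hcn := hcn, hcm := hcm, rel := rel', hom := hom',
      surj := hsurj', ker_eq := hker' }
  refine ⟨MP, ⟨a', ?_⟩, ?_⟩
  · -- the leading minor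
    rw [haa']
    congr 1
    change φ _ = φ (ρ (Smoothing.jacobianMinor rel' (Fin.castLE hcm) (Fin.castLE hcn)))
    congr 1
    unfold Smoothing.jacobianMinor
    rw [← AlgEquiv.coe_ringEquiv, ← RingEquiv.coe_toRingHom, RingHom.map_det]
    congr 1
    ext j k
    simp only [Matrix.of_apply, RingHom.mapMatrix_apply, Matrix.map_apply, RingEquiv.coe_toRingHom,
      AlgEquiv.coe_ringEquiv, rel', hσ]
    have h1 : Fin.castLE hcn k = τ.symm (cols k) := by rw [← hτ, Equiv.symm_apply_apply]
    rw [h1, hρs, pderiv_rename τ.symm.injective, ← hρs, ρ.apply_symm_apply]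
  · -- kills the tail
    intro a'' ha'' j _
    have h1 := htail (ρ a'') ha'' (σ j)
    have h2 := Ideal.mem_map_of_mem (ρ.symm : MvPolynomial (Fin n) R →+* MvPolynomial (Fin n) R) h1
    rw [Ideal.map_sup, Ideal.map_pow, ← hspan', Ideal.map_span] at h2
    have h3 : (ρ.symm : MvPolynomial (Fin n) R →+* MvPolynomial (Fin n) R) (ρ a'' * f (σ j)) =
        a'' * rel' j := by
      rw [map_mul]
      change ρ.symm (ρ a'') * _ = _
      rw [ρ.symm_apply_apply]
      rfl
    rw [h3] at h2
    have h4 : (⇑(ρ.symm : MvPolynomial (Fin n) R →+* MvPolynomial (Fin n) R) ''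
        Set.range (f ∘ rows)) = rel' '' {j' : Fin m | (j' : ℕ) < c} := by
      ext x
      constructor
      · rintro ⟨_, ⟨k, rfl⟩, rfl⟩
        refine ⟨Fin.castLE hcm k, by simp, ?_⟩
        simp only [rel', hσ]
        rfl
      · rintro ⟨j', hj', rfl⟩
        refine ⟨f (rows ⟨j', hj'⟩), ⟨⟨j', hj'⟩, rfl⟩, ?_⟩
        have e : σ j' = rows ⟨j', hj'⟩ := by
          rw [← hσ]
          congr 1
        simp only [rel']
        rw [e]
        rfl
    rw [h4] at h2
    exact h2

theorem isElementaryStandard_of_fintype {R A : Type u} [CommRing R] [CommRing A] [Algebra R A]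
    {ι κ γ : Type*} [Fintype ι] [Fintype κ] [Fintype γ] [DecidableEq γ]
    (f : κ → MvPolynomial ι R) (φ : MvPolynomial ι R →ₐ[R] A)
    (hφ : Function.Surjective φ)
    (hker : RingHom.ker φ.toRingHom = Ideal.span (Set.range f))
    (rows : γ ↪ κ) (cols : γ ↪ ι) (a a' : A)
    (haa' : a = a' * φ (Matrix.det (Matrix.of fun j k : γ => pderiv (cols k) (f (rows j)))))
    (htail : ∀ ℓ : κ, ∃ a₁ : MvPolynomial ι R, φ a₁ = a ∧
        a₁ * f ℓ ∈ Ideal.span (Set.range (f ∘ rows)) ⊔ Ideal.span (Set.range f) ^ 2) :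
    Smoothing.IsElementaryStandard R A a := by
  classical
  let eι := Fintype.equivFin ι
  let eκ := Fintype.equivFin κ
  let eγ := Fintype.equivFin γ
  let ρ : MvPolynomial ι R ≃ₐ[R] MvPolynomial (Fin (Fintype.card ι)) R := renameEquiv R eι
  have hρ : ∀ x, ρ x = rename eι x := fun x => rfl
  let f' : Fin (Fintype.card κ) → MvPolynomial (Fin (Fintype.card ι)) R := fun ℓ => ρ (f (eκ.symm ℓ))
  let φ' : MvPolynomial (Fin (Fintype.card ι)) R →ₐ[R] A := φ.comp ρ.symm.toAlgHom
  have hφ' : Function.Surjective φ' := hφ.comp ρ.symm.surjective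
  let rows' : Fin (Fintype.card γ) ↪ Fin (Fintype.card κ) :=
    eγ.symm.toEmbedding.trans (rows.trans eκ.toEmbedding)
  let cols' : Fin (Fintype.card γ) ↪ Fin (Fintype.card ι) :=
    eγ.symm.toEmbedding.trans (cols.trans eι.toEmbedding)
  have hrange : Set.range f' = ρ '' Set.range f := by
    ext x
    constructor
    · rintro ⟨ℓ, rfl⟩
      exact ⟨f (eκ.symm ℓ), ⟨_, rfl⟩, rfl⟩
    · rintro ⟨_, ⟨ℓ, rfl⟩, rfl⟩
      exact ⟨eκ ℓ, by simp [f']⟩
  have hrange2 : Set.range (f' ∘ rows') = ρ '' Set.range (f ∘ rows) := by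
    ext x
    constructor
    · rintro ⟨j, rfl⟩
      refine ⟨f (rows (eγ.symm j)), ⟨_, rfl⟩, ?_⟩
      simp [f', rows']
    · rintro ⟨_, ⟨j, rfl⟩, rfl⟩
      exact ⟨eγ j, by simp [f', rows']⟩
  have hρsurj : Function.Surjective (ρ : MvPolynomial ι R →+* MvPolynomial (Fin (Fintype.card ι)) R) := ρ.surjective
  have hspan' : Ideal.span (Set.range f') =
      (Ideal.span (Set.range f)).map (ρ : MvPolynomial ι R →+* MvPolynomial (Fin (Fintype.card ι)) R) := by
    rw [hrange, Ideal.map_span]
    rfl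
  have hker' : RingHom.ker φ'.toRingHom = Ideal.span (Set.range f') := by
    rw [hspan', ← hker]
    ext x
    rw [RingHom.mem_ker, Ideal.mem_map_iff_of_surjective _ hρsurj]
    constructor
    · intro hx
      exact ⟨ρ.symm x, hx, ρ.apply_symm_apply x⟩
    · rintro ⟨y, hy, rfl⟩
      change φ (ρ.symm (ρ y)) = 0
      rw [ρ.symm_apply_apply]
      exact hy
  refine isElementaryStandard_of_fin f' φ' hφ' hker' rows' cols' a a' ?_ ?_
  · rw [haa']
    congr 1
    change φ _ = φ (ρ.symm _)
    congr 1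
    rw [AlgEquiv.eq_symm_apply]
    rw [← AlgEquiv.coe_ringEquiv, ← RingEquiv.coe_toRingHom, RingHom.map_det]
    rw [← Matrix.det_submatrix_equiv_self eγ.symm]
    congr 1
    ext j k
    simp only [Matrix.submatrix_apply, Matrix.of_apply, RingHom.mapMatrix_apply, Matrix.map_apply,
      RingEquiv.coe_toRingHom, AlgEquiv.coe_ringEquiv, f', rows', cols',
      Function.Embedding.trans_apply, Equiv.coe_toEmbedding, Equiv.symm_apply_apply]
    rw [hρ, hρ, pderiv_rename eι.injective]
  · intro a₁' ha₁' ℓ'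
    obtain ⟨a₁, ha₁, hmem⟩ := htail (eκ.symm ℓ')
    have hd : ρ.symm a₁' - a₁ ∈ Ideal.span (Set.range f) := by
      rw [← hker, RingHom.mem_ker, map_sub, sub_eq_zero]
      change φ (ρ.symm a₁') = φ a₁
      rw [ha₁]
      exact ha₁'
    have h1 : ρ.symm a₁' * f (eκ.symm ℓ') ∈
        Ideal.span (Set.range (f ∘ rows)) ⊔ Ideal.span (Set.range f) ^ 2 := by
      have : ρ.symm a₁' * f (eκ.symm ℓ') =
          a₁ * f (eκ.symm ℓ') + (ρ.symm a₁' - a₁) * f (eκ.symm ℓ') := by ring
      rw [this]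
      refine Ideal.add_mem _ hmem (Ideal.mem_sup_right ?_)
      rw [pow_two]
      exact Ideal.mul_mem_mul hd (Ideal.subset_span ⟨_, rfl⟩)
    have h2 := Ideal.mem_map_of_mem (ρ : MvPolynomial ι R →+* MvPolynomial (Fin (Fintype.card ι)) R) h1
    rw [Ideal.map_sup, Ideal.map_pow, ← hspan', Ideal.map_span] at h2
    have h3 : (ρ : MvPolynomial ι R →+* MvPolynomial (Fin (Fintype.card ι)) R) (ρ.symm a₁' * f (eκ.symm ℓ')) = a₁' * f' ℓ' := by
      rw [map_mul]
      change ρ (ρ.symm a₁') * _ = _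
      rw [ρ.apply_symm_apply]
      rfl
    rw [h3] at h2
    have h4 : (⇑(ρ : MvPolynomial ι R →+* MvPolynomial (Fin (Fintype.card ι)) R) ''
        Set.range (f ∘ rows)) = Set.range (f' ∘ rows') := hrange2.symm
    rw [h4] at h2
    exact h2

end Groth.Agent.Lib.Helper7.ElemStd
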