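import Mathlib
import Groth.Prelude.Def_Smoothing
import Groth.Agent.Lib.Helper7ElemStd

/-!
# Delocalizing the base (Stacks 07CO-type lemma), helper7

* `sc`, `pderiv_inl_sc`, `pderiv_inr_sc`: the scaling substitution `X_i ↦ w_i⁻¹ X_{inl i}` and its chain rule.
* `Lside`: from a submersive presentation of `B'` over `Rₛ`, elements `b_k` of `B'` and unit weights `w_i`, relations
  `f : σ₀ ⊕ Fin p → Rₛ[X_{ι₀}, Y_{Fin p}]` vanishing at `(w_i • P.val i, b_k)`, with `1 ∈ (Jacobian minor, f)` and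
  containing every relation among the `b_k`.
* `main_Q`: clearing denominators: from such relations over `Rₛ`, relations `F` over `R` and `s ∈ S` elementary
  standard in `R[X]/(F, G)`.
-/

universe u
set_option autoImplicit false
set_option linter.style.haveILetI false
open MvPolynomial

namespace Groth.Agent.Lib.Helper7.Deloc


section Lside

variable {Rₛ : Type u} [CommRing Rₛ] {ι₀ : Type} {p : ℕ}

/-- the scaling substitution `X_i ↦ w_i⁻¹ X_{inl i}`. -/
noncomputable def sc (w : ι₀ → Rₛˣ) : MvPolynomial ι₀ Rₛ →ₐ[Rₛ] MvPolynomial (ι₀ ⊕ Fin p) Rₛ :=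
  aeval (fun i => C ((↑(w i)⁻¹ : Rₛ)) * X (Sum.inl i))

theorem pderiv_inl_sc [DecidableEq ι₀] (w : ι₀ → Rₛˣ) (i : ι₀) (q : MvPolynomial ι₀ Rₛ) :
    pderiv (Sum.inl i) (sc (p := p) w q) = C ((↑(w i)⁻¹ : Rₛ)) * sc w (pderiv i q) := by
  induction q using MvPolynomial.induction_on with
  | C a => simp [sc]
  | add q₁ q₂ h₁ h₂ => simp [h₁, h₂, mul_add]
  | mul_X q i' h =>
    simp only [map_mul, Derivation.leibniz, h, smul_eq_mul, map_add]
    have hX : sc (p := p) w (X i') = C ((↑(w i')⁻¹ : Rₛ)) * X (Sum.inl i') := by simp [sc]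
    rw [hX]
    simp only [Derivation.leibniz, pderiv_C, pderiv_X, smul_eq_mul]
    by_cases hi : i' = i
    · subst hi
      simp only [Pi.single_eq_same, map_one, mul_one]
      ring
    · have h1 : (Pi.single i (1 : MvPolynomial ι₀ Rₛ) : ι₀ → MvPolynomial ι₀ Rₛ) i' = 0 :=
        Pi.single_eq_of_ne hi _
      have h2 : (Pi.single (Sum.inl i : ι₀ ⊕ Fin p) (1 : MvPolynomial (ι₀ ⊕ Fin p) Rₛ) :
          ι₀ ⊕ Fin p → MvPolynomial (ι₀ ⊕ Fin p) Rₛ) (Sum.inl i') = 0 :=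
        Pi.single_eq_of_ne (by simpa using hi) _
      rw [h1, h2]
      simp only [map_zero, mul_zero, zero_add]
      ring

theorem pderiv_inr_sc [DecidableEq ι₀] (w : ι₀ → Rₛˣ) (k : Fin p) (q : MvPolynomial ι₀ Rₛ) :
    pderiv (Sum.inr k) (sc (p := p) w q) = 0 := by
  induction q using MvPolynomial.induction_on with
  | C a => simp [sc]
  | add q₁ q₂ h₁ h₂ => simp [h₁, h₂]
  | mul_X q i' h =>
    have hX : sc (p := p) w (X i') = C ((↑(w i')⁻¹ : Rₛ)) * X (Sum.inl i') := by simp [sc]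
    simp only [map_mul, Derivation.leibniz, h, smul_zero, add_zero, hX, pderiv_C, pderiv_X]
    have h2 : (Pi.single (Sum.inr k : ι₀ ⊕ Fin p) (1 : MvPolynomial (ι₀ ⊕ Fin p) Rₛ) :
        ι₀ ⊕ Fin p → MvPolynomial (ι₀ ⊕ Fin p) Rₛ) (Sum.inl i') = 0 :=
      Pi.single_eq_of_ne (by simp) _
    rw [h2]
    simp

variable {B' : Type u} [CommRing B'] [Algebra Rₛ B'] {σ₀ : Type}

theorem Lside [Fintype ι₀] [Fintype σ₀] [DecidableEq ι₀] [DecidableEq σ₀]
    (P : Algebra.SubmersivePresentation Rₛ B' ι₀ σ₀) (b : Fin p → B') (w : ι₀ → Rₛˣ) :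
    ∃ f : σ₀ ⊕ Fin p → MvPolynomial (ι₀ ⊕ Fin p) Rₛ,
      (∀ j, aeval (Sum.elim (fun i => (w i : Rₛ) • P.val i) b) (f j) = 0) ∧
      (1 : MvPolynomial (ι₀ ⊕ Fin p) Rₛ) ∈ Ideal.span (insert
        (Matrix.det (Matrix.of fun j k : σ₀ ⊕ Fin p => pderiv (Sum.map P.map id k) (f j)))
        (Set.range f)) ∧
      ∀ G' : MvPolynomial (Fin p) Rₛ, aeval b G' = 0 →
        rename Sum.inr G' ∈ Ideal.span (Set.range f) := by
  classical
  set π' : MvPolynomial (ι₀ ⊕ Fin p) Rₛ →ₐ[Rₛ] B' :=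
    aeval (Sum.elim (fun i => (w i : Rₛ) • P.val i) b) with hπ'
  set τ' : MvPolynomial ι₀ Rₛ →ₐ[Rₛ] MvPolynomial (ι₀ ⊕ Fin p) Rₛ := sc w with hτ'
  have hπτ : π'.comp τ' = aeval P.val := by
    apply MvPolynomial.algHom_ext
    intro i
    simp only [AlgHom.comp_apply, hτ', sc, aeval_X, map_mul, hπ', aeval_C, Sum.elim_inl]
    rw [Algebra.smul_def, ← mul_assoc, ← map_mul, Units.inv_mul, map_one, one_mul]
  have hπτ' : ∀ q, π' (τ' q) = aeval P.val q := fun q => congr($hπτ q)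
  -- lifts of `b`
  have hb : ∀ k, ∃ q : MvPolynomial ι₀ Rₛ, aeval P.val q = b k := fun k =>
    P.aeval_val_surjective (b k)
  choose bt hbt using hb
  let f : σ₀ ⊕ Fin p → MvPolynomial (ι₀ ⊕ Fin p) Rₛ :=
    Sum.elim (fun j => τ' (P.relation j)) (fun k => X (Sum.inr k) - τ' (bt k))
  have hker : ∀ q : MvPolynomial ι₀ Rₛ, aeval P.val q = 0 →
      τ' q ∈ Ideal.span (Set.range f) := by
    intro q hq
    have hq' : q ∈ Ideal.span (Set.range P.relation) := by
      rw [P.span_range_relation_eq_ker, P.ker_eq_ker_aeval_val, RingHom.mem_ker]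
      exact hq
    have h1 := Ideal.mem_map_of_mem (τ' : MvPolynomial ι₀ Rₛ →+* MvPolynomial (ι₀ ⊕ Fin p) Rₛ) hq'
    rw [Ideal.map_span] at h1
    refine Ideal.span_mono ?_ h1
    rintro _ ⟨_, ⟨j, rfl⟩, rfl⟩
    exact ⟨Sum.inl j, rfl⟩
  refine ⟨f, ?_, ?_, ?_⟩
  · rintro (j | k)
    · change π' (τ' (P.relation j)) = 0
      rw [hπτ', P.aeval_val_relation]
    · change π' (X (Sum.inr k) - τ' (bt k)) = 0
      rw [map_sub, hπτ', hbt, hπ', aeval_X, Sum.elim_inr, sub_self]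
  · -- the Jacobian
    set M : Matrix (σ₀ ⊕ Fin p) (σ₀ ⊕ Fin p) (MvPolynomial (ι₀ ⊕ Fin p) Rₛ) :=
      Matrix.of fun j k => pderiv (Sum.map P.map id k) (f j) with hM
    let v : σ₀ → MvPolynomial (ι₀ ⊕ Fin p) Rₛ := fun k => C ((↑(w (P.map k))⁻¹ : Rₛ))
    let A₀ : Matrix σ₀ σ₀ (MvPolynomial (ι₀ ⊕ Fin p) Rₛ) :=
      ((τ' : MvPolynomial ι₀ Rₛ →+* MvPolynomial (ι₀ ⊕ Fin p) Rₛ).mapMatrix P.jacobiMatrix).transpose
    let A : Matrix σ₀ σ₀ (MvPolynomial (ι₀ ⊕ Fin p) Rₛ) := Matrix.of fun j k => v k * A₀ j k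
    let Cb : Matrix (Fin p) σ₀ (MvPolynomial (ι₀ ⊕ Fin p) Rₛ) :=
      Matrix.of fun j k => pderiv (Sum.inl (P.map k)) (f (Sum.inr j))
    have hMblocks : M = Matrix.fromBlocks A 0 Cb 1 := by
      apply Matrix.ext
      rintro (j | j) (k | k)
      · simp only [hM, Matrix.of_apply, Sum.map_inl, Matrix.fromBlocks_apply₁₁, A, A₀, f, Sum.elim_inl,
          Matrix.transpose_apply, RingHom.mapMatrix_apply, Matrix.map_apply, v]
        rw [P.jacobiMatrix_apply]
        exact pderiv_inl_sc w _ _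
      · simp only [hM, Matrix.of_apply, Sum.map_inr, id_eq, Matrix.fromBlocks_apply₁₂, f, Sum.elim_inl,
          Matrix.zero_apply]
        exact pderiv_inr_sc w _ _
      · simp only [hM, Matrix.of_apply, Sum.map_inl, Matrix.fromBlocks_apply₂₁, Cb]
      · simp only [hM, Matrix.of_apply, Sum.map_inr, id_eq, Matrix.fromBlocks_apply₂₂, f, Sum.elim_inr,
          map_sub, pderiv_X]
        rw [show pderiv (Sum.inr k) (τ' (bt j)) = 0 from pderiv_inr_sc w _ _, sub_zero,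
          Matrix.one_apply, Pi.single_apply]
        by_cases h : j = k
        · simp [h]
        · have : ¬ (Sum.inr j : ι₀ ⊕ Fin p) = Sum.inr k := by simpa using h
          simp [h, this]
    have hdetM : M.det = (∏ k, v k) * τ' P.jacobiMatrix.det := by
      rw [hMblocks, Matrix.det_fromBlocks_zero₁₂, Matrix.det_one, mul_one]
      change (Matrix.of fun j k => v k * A₀ j k).det = _
      rw [Matrix.det_mul_row, Matrix.det_transpose, ← RingHom.map_det]
      rfl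
    have hvunit : IsUnit (∏ k, v k) := by
      rw [IsUnit.prod_iff]
      intro k _
      exact ((w (P.map k))⁻¹.isUnit).map C
    -- inverse of the jacobian
    obtain ⟨y, hy⟩ := P.jacobian_isUnit.exists_left_inv
    obtain ⟨a, rfl⟩ := P.aeval_val_surjective y
    rw [P.jacobian_eq_jacobiMatrix_det, P.algebraMap_apply, ← map_mul] at hy
    have h1 : τ' (a * P.jacobiMatrix.det - 1) ∈ Ideal.span (Set.range f) :=
      hker _ (by rw [map_sub, hy, map_one, sub_self])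
    have h2 : (1 : MvPolynomial (ι₀ ⊕ Fin p) Rₛ) =
        (τ' a * ↑hvunit.unit⁻¹) * M.det - τ' (a * P.jacobiMatrix.det - 1) := by
      rw [hdetM, map_sub, map_mul, map_one]
      have : τ' a * ↑hvunit.unit⁻¹ * ((∏ k, v k) * τ' P.jacobiMatrix.det) =
          τ' a * τ' P.jacobiMatrix.det * (↑hvunit.unit⁻¹ * ∏ k, v k) := by ring
      rw [this, IsUnit.val_inv_mul, mul_one]
      ring
    rw [h2]
    refine Ideal.sub_mem _ (Ideal.mul_mem_left _ _ (Ideal.subset_span (Set.mem_insert _ _)))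
      (Ideal.span_mono (Set.subset_insert _ _) h1)
  · intro G' hG'
    set I := Ideal.span (Set.range f) with hI
    let θ : MvPolynomial (ι₀ ⊕ Fin p) Rₛ →ₐ[Rₛ] (MvPolynomial (ι₀ ⊕ Fin p) Rₛ ⧸ I) :=
      Ideal.Quotient.mkₐ Rₛ I
    have hθ : ∀ x, θ x = 0 ↔ x ∈ I := fun x => Ideal.Quotient.eq_zero_iff_mem
    have hΦ : (θ.comp (rename Sum.inr : MvPolynomial (Fin p) Rₛ →ₐ[Rₛ] _)) =
        (θ.comp τ').comp (aeval bt) := by
      apply MvPolynomial.algHom_ext
      intro k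
      simp only [AlgHom.comp_apply, rename_X, aeval_X]
      rw [← sub_eq_zero, ← map_sub, hθ]
      exact Ideal.subset_span ⟨Sum.inr k, rfl⟩
    rw [← hθ]
    have h3 := congr($hΦ G')
    simp only [AlgHom.comp_apply] at h3
    rw [h3, hθ]
    apply hker
    have : (aeval P.val).comp (aeval bt) = (aeval b : MvPolynomial (Fin p) Rₛ →ₐ[Rₛ] B') := by
      apply MvPolynomial.algHom_ext
      intro k
      simp [hbt]
    have h4 := congr($this G')
    simp only [AlgHom.comp_apply] at h4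
    rw [h4, hG']

end Lside




open Groth.Agent.Lib.Helper7.ElemStd

attribute [local instance] MvPolynomial.algebraMvPolynomial

variable {R : Type u} [CommRing R] (S : Submonoid R) {Rₛ : Type u} [CommRing Rₛ] [Algebra R Rₛ]
  [IsLocalization S Rₛ]

theorem main_Q {ι γ τ : Type} [Fintype ι] [Fintype γ] [Fintype τ] [DecidableEq γ]
    {Λ : Type u} [CommRing Λ] [Algebra R Λ]
    (f : γ → MvPolynomial ι Rₛ) (cols : γ ↪ ι) (G : τ → MvPolynomial ι R)
    (ev : MvPolynomial ι R →ₐ[R] Λ)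
    (hevf : ∀ (j : γ) (F : MvPolynomial ι R) (s : R), s ∈ S →
      MvPolynomial.map (algebraMap R Rₛ) F = C (algebraMap R Rₛ s) * f j → ∃ s' ∈ S, s' • ev F = 0)
    (H3 : (1 : MvPolynomial ι Rₛ) ∈ Ideal.span
      (insert (Matrix.det (Matrix.of fun j k : γ => pderiv (cols k) (f j))) (Set.range f)))
    (H4 : ∀ l, MvPolynomial.map (algebraMap R Rₛ) (G l) ∈ Ideal.span (Set.range f)) :
    ∃ (F : γ → MvPolynomial ι R) (s : R), s ∈ S ∧ (∀ j, ev (F j) = 0) ∧
      Smoothing.IsElementaryStandard R (MvPolynomial ι R ⧸ Ideal.span (Set.range (Sum.elim F G)))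
        (algebraMap R _ s) := by
  classical
  have hmapdef : ∀ x : MvPolynomial ι R, algebraMap (MvPolynomial ι R) (MvPolynomial ι Rₛ) x =
      MvPolynomial.map (algebraMap R Rₛ) x := fun x => rfl
  -- Step 1, 2: clear denominators
  have h1 : ∀ j : γ, ∃ (F : MvPolynomial ι R) (t : R), t ∈ S ∧ ev F = 0 ∧
      MvPolynomial.map (algebraMap R Rₛ) F = C (algebraMap R Rₛ t) * f j := by
    intro j
    obtain ⟨⟨F₀, m⟩, hF₀⟩ := IsLocalization.surj (S.map (C (σ := ι))) (f j)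
    obtain ⟨s, hs, hsm⟩ := m.2
    simp only at hF₀
    rw [← hsm, hmapdef, hmapdef, map_C] at hF₀
    obtain ⟨s', hs', h0⟩ := hevf j F₀ s hs (by rw [← hF₀, mul_comm])
    refine ⟨C s' * F₀, s' * s, S.mul_mem hs' hs, ?_, ?_⟩
    · rw [map_mul, ← algebraMap_eq, AlgHom.commutes, ← Algebra.smul_def]
      exact h0
    · rw [map_mul, map_C, ← hF₀, map_mul, C_mul]
      ring
  choose F t htS hevF hmapF using h1
  have hunit : ∀ j, IsUnit (C (σ := ι) (algebraMap R Rₛ (t j))) := fun j =>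
    (IsLocalization.map_units Rₛ ⟨t j, htS j⟩).map C
  -- the ideal generated by `f` is the extension of the ideal generated by `F`
  have hspanF : Ideal.map (algebraMap (MvPolynomial ι R) (MvPolynomial ι Rₛ)) (Ideal.span (Set.range F)) =
      Ideal.span (Set.range f) := by
    rw [Ideal.map_span]
    apply le_antisymm
    · rw [Ideal.span_le]
      rintro _ ⟨_, ⟨j, rfl⟩, rfl⟩
      rw [hmapdef, hmapF]
      exact Ideal.mul_mem_left _ _ (Ideal.subset_span ⟨j, rfl⟩)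
    · rw [Ideal.span_le]
      rintro _ ⟨j, rfl⟩
      have : f j = ↑(hunit j).unit⁻¹ * MvPolynomial.map (algebraMap R Rₛ) (F j) := by
        rw [hmapF, ← mul_assoc, IsUnit.val_inv_mul, one_mul]
      rw [this]
      exact Ideal.mul_mem_left _ _ (Ideal.subset_span ⟨F j, ⟨j, rfl⟩, rfl⟩)
  -- the Jacobian
  set dQ := Matrix.det (Matrix.of fun j k : γ => pderiv (cols k) (F j)) with hdQ
  set dL := Matrix.det (Matrix.of fun j k : γ => pderiv (cols k) (f j)) with hdL
  have hdet : MvPolynomial.map (algebraMap R Rₛ) dQ = (∏ j, C (algebraMap R Rₛ (t j))) * dL := by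
    rw [hdQ, RingHom.map_det, hdL, ← Matrix.det_mul_column]
    congr 1
    ext j k
    simp only [RingHom.mapMatrix_apply, Matrix.map_apply, Matrix.of_apply]
    rw [← pderiv_map, hmapF, Derivation.leibniz, pderiv_C, smul_zero, add_zero, smul_eq_mul]
  have hprodunit : IsUnit (∏ j, C (σ := ι) (algebraMap R Rₛ (t j))) := by
    rw [IsUnit.prod_iff]
    exact fun j _ => hunit j
  set 𝔞 := Ideal.span (insert dQ (Set.range F)) with h𝔞
  have hFle : Ideal.span (Set.range F) ≤ 𝔞 := Ideal.span_mono (Set.subset_insert _ _)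
  have htop : (1 : MvPolynomial ι Rₛ) ∈
      Ideal.map (algebraMap (MvPolynomial ι R) (MvPolynomial ι Rₛ)) 𝔞 := by
    obtain ⟨a, z, hz, h1⟩ := Ideal.mem_span_insert.mp H3
    rw [h1]
    refine Ideal.add_mem _ (Ideal.mul_mem_left _ _ ?_) ?_
    · have : dL = ↑hprodunit.unit⁻¹ * MvPolynomial.map (algebraMap R Rₛ) dQ := by
        rw [hdet, ← mul_assoc, IsUnit.val_inv_mul, one_mul]
      rw [this]
      exact Ideal.mul_mem_left _ _ (Ideal.mem_map_of_mem _ (Ideal.subset_span (Set.mem_insert _ _)))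
    · rw [← hspanF] at hz
      exact Ideal.map_mono hFle hz
  -- Step 4
  obtain ⟨m₀, hm₀, hm₀𝔞⟩ := (IsLocalization.algebraMap_mem_map_algebraMap_iff (S.map (C (σ := ι)))
    (MvPolynomial ι Rₛ) 𝔞 1).mp (by rw [map_one]; exact htop)
  obtain ⟨s₀, hs₀, rfl⟩ := hm₀
  rw [mul_one] at hm₀𝔞
  obtain ⟨a₀, z₀, hz₀, hs₀eq⟩ := Ideal.mem_span_insert.mp hm₀𝔞
  -- Step 5
  have h5 : ∀ l : τ, ∃ s ∈ S, C s * G l ∈ Ideal.span (Set.range F) := by
    intro l
    have := H4 l
    rw [← hspanF, ← hmapdef] at this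
    obtain ⟨m, hm, hmem⟩ := (IsLocalization.algebraMap_mem_map_algebraMap_iff (S.map (C (σ := ι)))
      (MvPolynomial ι Rₛ) _ _).mp this
    obtain ⟨s, hs, rfl⟩ := hm
    exact ⟨s, hs, hmem⟩
  choose sl hslS hsl using h5
  refine ⟨F, s₀ * ∏ l, sl l, S.mul_mem hs₀ (S.prod_mem fun l _ => hslS l), hevF, ?_⟩
  set I := Ideal.span (Set.range (Sum.elim F G)) with hI
  have hFI : Ideal.span (Set.range F) ≤ I := by
    apply Ideal.span_mono
    rintro _ ⟨j, rfl⟩
    exact ⟨Sum.inl j, rfl⟩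
  refine isElementaryStandard_of_fintype (Sum.elim F G) (Ideal.Quotient.mkₐ R I)
    (Ideal.Quotient.mkₐ_surjective R I) ?_ ⟨Sum.inl, Sum.inl_injective⟩ cols _
    (Ideal.Quotient.mk I (C (∏ l, sl l) * a₀)) ?_ ?_
  · ext x
    simp [hI]
  · have e1 : algebraMap R (MvPolynomial ι R ⧸ I) (s₀ * ∏ l, sl l) =
        Ideal.Quotient.mk I (C (∏ l, sl l) * C s₀) := by
      rw [← C_mul, mul_comm s₀]
      rfl
    rw [e1, hs₀eq]
    change _ = _ * Ideal.Quotient.mk I dQ
    rw [← map_mul, mul_add, map_add]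
    have : Ideal.Quotient.mk I (C (∏ l, sl l) * z₀) = 0 :=
      Ideal.Quotient.eq_zero_iff_mem.mpr (Ideal.mul_mem_left _ _ (hFI hz₀))
    rw [this, add_zero]
    congr 1
    ring
  · have hrng : Set.range (Sum.elim F G ∘ ⇑(⟨Sum.inl, Sum.inl_injective⟩ : γ ↪ γ ⊕ τ)) = Set.range F := by
      ext x
      constructor
      · rintro ⟨j, rfl⟩
        exact ⟨j, rfl⟩
      · rintro ⟨j, rfl⟩
        exact ⟨j, rfl⟩
    rintro (j | l)
    · refine ⟨C (s₀ * ∏ l, sl l), rfl, Ideal.mem_sup_left ?_⟩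
      rw [hrng]
      exact Ideal.mul_mem_left _ _ (Ideal.subset_span ⟨j, rfl⟩)
    · refine ⟨C (s₀ * ∏ l, sl l), rfl, Ideal.mem_sup_left ?_⟩
      rw [hrng]
      have : C (s₀ * ∏ l, sl l) * Sum.elim F G (Sum.inr l) =
          C (s₀ * ∏ l' ∈ Finset.univ.erase l, sl l') * (C (sl l) * G l) := by
        rw [← Finset.mul_prod_erase Finset.univ sl (Finset.mem_univ l)]
        simp only [Sum.elim_inr, C_mul]
        ring
      rw [this]
      exact Ideal.mul_mem_left _ _ (hsl l)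


end Groth.Agent.Lib.Helper7.Deloc
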