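import Mathlib
import Groth.Agent.Lib.Helper7PField3
import Groth.Agent.Lib.Helper7LinDisj

/-!
# Families of subrings with retractions and the derivation theorem (helper7)

Abstract form of `Helper7PsFam` / `Helper7DerExist`.

* Section `Frac`: for a domain `A` with fraction field `K` and a subring `B ⊆ A` admitting a
  `B`-linear retraction `A → B`, the subfield `Ksub B = Frac B ⊆ K` satisfies `Ksub B ∩ A = B`.
  For a family `Bs i` of such subrings containing all `p`-th powers and whose intersection consists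
  of `p`-th powers, the intersection of the `Ksub (Bs i)` consists of `p`-th powers.
* `exists_derivation`: for a field `K` of characteristic `p` with a directed family of subfields
  `E i ⊇ K^p` with intersection `K^p`, and a finite extension `L/K`: an element `f ∈ L` which is
  not a `p`-th power is not killed by some derivation of `L` vanishing on some `E i`.
-/

set_option autoImplicit false
set_option linter.style.haveILetI false
set_option linter.unusedSectionVars false
universe u v w

namespace Groth.Agent.Lib.Helper7.GoodFam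

section Frac

variable {A : Type u} [CommRing A] [IsDomain A] (K : Type w) [Field K] [Algebra A K]
  [IsFractionRing A K]

/-- the subfield of the fraction field generated by a subring -/
noncomputable def Ksub (B : Subring A) : Subfield K :=
  Subfield.closure (algebraMap A K '' (B : Set A))

variable {K}

lemma Ksub_mono {B B' : Subring A} (h : B ≤ B') : Ksub K B ≤ Ksub K B' :=
  Subfield.closure_mono (Set.image_mono h)

lemma algebraMap_mem_Ksub {B : Subring A} {g : A} (hg : g ∈ B) :
    algebraMap A K g ∈ Ksub K B :=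
  Subfield.subset_closure ⟨g, hg, rfl⟩

lemma mem_Ksub_iff {B : Subring A} {z : K} :
    z ∈ Ksub K B ↔ ∃ a ∈ B, ∃ b ∈ B, b ≠ 0 ∧ algebraMap A K a / algebraMap A K b = z := by
  constructor
  · intro hz
    rw [Ksub, Subfield.mem_closure_iff] at hz
    obtain ⟨y, hy, w, hw, rfl⟩ := hz
    have himg : (algebraMap A K '' (B : Set A)) = ((B.map (algebraMap A K) : Subring K) : Set K) :=
      rfl
    rw [himg, Subring.closure_eq] at hy hw
    obtain ⟨a, ha, rfl⟩ := hy
    obtain ⟨b, hb, rfl⟩ := hw
    by_cases hb0 : b = 0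
    · refine ⟨0, zero_mem _, 1, one_mem _, one_ne_zero, ?_⟩
      rw [hb0, map_zero, zero_div, div_zero]
    · exact ⟨a, ha, b, hb, hb0, rfl⟩
  · rintro ⟨a, ha, b, hb, -, rfl⟩
    exact div_mem (algebraMap_mem_Ksub ha) (algebraMap_mem_Ksub hb)

/-- a subring admitting a linear retraction -/
def HasRetraction (B : Subring A) : Prop :=
  ∃ ρ : A → A, (∀ g, ρ g ∈ B) ∧ (∀ g ∈ B, ρ g = g) ∧ ∀ b ∈ B, ∀ g, ρ (b * g) = b * ρ g

/-- key: an element of `A` lying in `Frac B` lies in `B` -/
theorem mem_of_algebraMap_mem_Ksub {B : Subring A} (hB : HasRetraction B) {h : A}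
    (hh : algebraMap A K h ∈ Ksub K B) : h ∈ B := by
  obtain ⟨a, ha, b, hb, hb0, hab⟩ := mem_Ksub_iff.1 hh
  have hinj : Function.Injective (algebraMap A K) := IsFractionRing.injective _ _
  have hb0' : algebraMap A K b ≠ 0 := fun h0 => hb0 (hinj (by rw [h0, map_zero]))
  have hbh : b * h = a := by
    apply hinj
    rw [map_mul, ← hab, mul_div_cancel₀ _ hb0']
  obtain ⟨πt, h1, h2, h3⟩ := hB
  have h4 : b * πt h = b * h := by rw [← h3 b hb h, hbh, h2 a ha]
  have h5 : πt h = h := mul_left_cancel₀ hb0 h4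
  rw [← h5]
  exact h1 h

lemma pow_mem_Ksub (p : ℕ) {B : Subring A} (hpow : ∀ g : A, g ^ p ∈ B) (z : K) :
    z ^ p ∈ Ksub K B := by
  obtain ⟨f, g, hg, rfl⟩ := IsFractionRing.div_surjective (A := A) z
  rw [div_pow, ← map_pow, ← map_pow]
  exact div_mem (algebraMap_mem_Ksub (hpow f)) (algebraMap_mem_Ksub (hpow g))

/-- the intersection of the `Frac (Bs i)` consists of `p`-th powers -/
theorem exists_pow_eq_of_forall_mem_Ksub (p : ℕ) (hp : 0 < p) {ι : Type*} (Bs : ι → Subring A)
    (hret : ∀ i, HasRetraction (Bs i)) (hpow : ∀ i (g : A), g ^ p ∈ Bs i)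
    (hint : ∀ g : A, (∀ i, g ∈ Bs i) → ∃ u : A, u ^ p = g) (z : K)
    (hz : ∀ i, z ∈ Ksub K (Bs i)) : ∃ y : K, y ^ p = z := by
  obtain ⟨f, g, hg, rfl⟩ := IsFractionRing.div_surjective (A := A) z
  have hg0 : g ≠ 0 := nonZeroDivisors.ne_zero hg
  have hinj : Function.Injective (algebraMap A K) := IsFractionRing.injective _ _
  have hg0' : algebraMap A K g ≠ 0 := fun h0 => hg0 (hinj (by rw [h0, map_zero]))
  have hgp0' : algebraMap A K (g ^ p) ≠ 0 := by
    rw [map_pow]; exact pow_ne_zero _ hg0'
  have hall : ∀ i, f * g ^ (p - 1) ∈ Bs i := by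
    intro i
    apply mem_of_algebraMap_mem_Ksub (K := K) (hret i)
    have : algebraMap A K (f * g ^ (p - 1)) =
        (algebraMap A K f / algebraMap A K g) * algebraMap A K (g ^ p) := by
      rw [div_mul_eq_mul_div, eq_div_iff hg0', ← map_mul, ← map_mul, mul_assoc, ← pow_succ,
        Nat.sub_add_cancel hp]
    rw [this]
    exact mul_mem (hz i) (algebraMap_mem_Ksub (hpow i g))
  obtain ⟨u, hu⟩ := hint _ hall
  refine ⟨algebraMap A K u / algebraMap A K g, ?_⟩
  rw [div_pow, ← map_pow, ← map_pow, hu, div_eq_div_iff hgp0' hg0', ← map_mul, ← map_mul]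
  congr 1
  rw [mul_assoc, ← pow_succ, Nat.sub_add_cancel hp]

end Frac

section Der

open KaehlerDifferential

/-- **Existence of derivations** on a finite extension `L` of a field `K` of characteristic `p`
carrying a directed family of subfields `E i ⊇ K^p` with intersection `K^p`. -/
theorem exists_derivation {K L : Type u} [Field K] [Field L] [Algebra K L] [Module.Finite K L]
    (p : ℕ) [Fact p.Prime] [CharP L p]
    {ι : Type w} [Nonempty ι] (E : ι → Subfield K) (hdir : ∀ a b, ∃ c, E c ≤ E a ⊓ E b)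
    (hpow : ∀ i (z : K), z ^ p ∈ E i)
    (hInf : ∀ z : K, (∀ i, z ∈ E i) → ∃ y : K, y ^ p = z)
    (f : L) (hf : ∀ y : L, y ^ p ≠ f) :
    ∃ (i : ι) (δ : Derivation ℤ L L), δ f ≠ 0 ∧ ∀ c ∈ E i, δ (algebraMap K L c) = 0 := by
  classical
  have hpp : p.Prime := Fact.out
  haveI : ExpChar L p := ExpChar.prime hpp
  -- a basis of `L` over `K`
  let b := Module.finBasis K L
  let s : Set L := Set.range fun j => b j ^ p
  have hsfin : s.Finite := Set.finite_range _
  -- `p`-th powers lie in the span of `s` over each `E i`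
  have hpowL : ∀ (S : ι) (y : L), y ^ p ∈ Submodule.span (E S) s := by
    intro S y
    have hy : y = ∑ j, b.repr y j • b j := (b.sum_repr y).symm
    rw [hy, sum_pow_char]
    refine Submodule.sum_mem _ fun j _ => ?_
    rw [Algebra.smul_def, mul_pow, ← map_pow]
    have h1 : (b.repr y j) ^ p ∈ E S := hpow S _
    have h2 : algebraMap K L ((b.repr y j) ^ p) * b j ^ p =
        (⟨(b.repr y j) ^ p, h1⟩ : E S) • (b j ^ p) := by
      rw [Subfield.smul_def, Algebra.smul_def]
    rw [h2]
    exact Submodule.smul_mem _ _ (Submodule.subset_span ⟨j, rfl⟩)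
  -- some member of the family does not contain `f` in its span
  have hex : ∃ S, f ∉ Submodule.span (E S) s := by
    by_contra hcon
    push Not at hcon
    have h1 := Groth.Agent.Lib.Helper7.LinDisj.mem_span_iInf_of_forall_mem_span E hdir s hsfin f hcon
    have h2 : ∀ x ∈ Submodule.span (⨅ S, E S : Subfield K) s, ∃ y : L, y ^ p = x := by
      intro x hx
      refine Submodule.span_induction (p := fun x _ => ∃ y : L, y ^ p = x) ?_ ?_ ?_ ?_ hx
      · rintro _ ⟨j, rfl⟩; exact ⟨b j, rfl⟩
      · exact ⟨0, zero_pow hpp.ne_zero⟩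
      · rintro x y _ _ ⟨x', rfl⟩ ⟨y', rfl⟩
        exact ⟨x' + y', add_pow_char_of_commute p (Commute.all _ _)⟩
      · rintro c x _ ⟨x', rfl⟩
        obtain ⟨c', hc'⟩ := hInf c (fun i => (Subfield.mem_iInf.1 c.2) i)
        refine ⟨algebraMap K L c' * x', ?_⟩
        rw [mul_pow, ← map_pow, hc', Subfield.smul_def, Algebra.smul_def]
    obtain ⟨y, hy⟩ := h2 f h1
    exact hf y hy
  obtain ⟨S, hS⟩ := hex
  have hfE : f ∉ EGA41.pPowerSubalgebra p (E S) L := by
    intro hmem
    apply hS
    have h1 : f ∈ Subalgebra.toSubmodule (Algebra.adjoin (E S) (Set.range fun y : L => y ^ p)) :=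
      hmem
    rw [Algebra.adjoin_eq_span] at h1
    have hcl : (Submonoid.closure (Set.range fun y : L => y ^ p) : Set L) ⊆
        Submodule.span (E S) s := by
      intro x hx
      have hx' : x ∈ Set.range fun y : L => y ^ p := by
        refine Submonoid.closure_induction (motive := fun x _ => x ∈ Set.range fun y : L => y ^ p)
          (fun x hx => hx) ⟨1, one_pow p⟩ ?_ hx
        rintro x y _ _ ⟨x', rfl⟩ ⟨y', rfl⟩
        exact ⟨x' * y', mul_pow x' y' p⟩
      obtain ⟨y, rfl⟩ := hx'
      exact hpowL S y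
    exact (Submodule.span_le.2 hcl) h1
  have hDf : D (E S) L f ≠ 0 := fun h0 =>
    hfE (Groth.Agent.Lib.Helper7.PPow.mem_pPowerSubalgebra_of_D_eq_zero p h0)
  obtain ⟨lam, hlam⟩ : ∃ lam : Module.Dual L (Ω[L⁄(E S)]), lam (D (E S) L f) ≠ 0 := by
    by_contra hcon
    push Not at hcon
    exact hDf ((Module.forall_dual_apply_eq_zero_iff L _).1 hcon)
  let δ₀ : Derivation (E S) L L := lam.compDer (D (E S) L)
  refine ⟨S, δ₀.restrictScalars ℤ, hlam, fun c hc => ?_⟩
  have h1 : algebraMap K L c = algebraMap (E S) L ⟨c, hc⟩ := rfl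
  change δ₀ _ = 0
  rw [h1, Derivation.map_algebraMap]

end Der

end Groth.Agent.Lib.Helper7.GoodFam
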