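import Mathlib
import Groth.Agent.Lib.Helper7PsFam
import Groth.Agent.Lib.Helper7GoodFam

/-!
# The subrings `C₀[y^p]` of `C[y]` (helper7)

For a subring `C₀` of a commutative ring `C`, `Psub p C₀` is the subring of `MvPolynomial τ C` of
polynomials in the `y_i^p` with coefficients in `C₀`.  An additive `C₀`-linear retraction of `C`
onto `C₀` induces a `Psub`-linear retraction; in characteristic `p`, `p`-th powers lie in
`Psub p C₀` as soon as `p`-th powers of `C` lie in `C₀`; and a polynomial all of whose coefficients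
are `p`-th powers and whose exponents are divisible by `p` is a `p`-th power.
-/

set_option autoImplicit false
set_option linter.style.haveILetI false
set_option linter.unusedSectionVars false
universe u v w

namespace Groth.Agent.Lib.Helper7.PolyFam

open MvPolynomial Groth.Agent.Lib.Helper7.GoodFam

section Basic

variable {τ : Type v} {C : Type u} [CommRing C] (p : ℕ)

/-- the subring `C₀[y^p]` -/
def Psub (C₀ : Subring C) : Subring (MvPolynomial τ C) where
  carrier := {g | ∀ n, coeff n g ∈ C₀ ∧ (coeff n g ≠ 0 → ∀ i, p ∣ n i)}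
  mul_mem' := by
    classical
    intro a b ha hb n
    rw [coeff_mul]
    refine ⟨sum_mem fun x _ => mul_mem (ha _).1 (hb _).1, fun hne => ?_⟩
    obtain ⟨x, hx, hx0⟩ := Finset.exists_ne_zero_of_sum_ne_zero hne
    have h1 := (ha x.1).2 (left_ne_zero_of_mul hx0)
    have h2 := (hb x.2).2 (right_ne_zero_of_mul hx0)
    intro i
    rw [← (Finset.HasAntidiagonal.mem_antidiagonal.1 hx), Finsupp.add_apply]
    exact dvd_add (h1 i) (h2 i)
  one_mem' := by
    classical
    intro n
    rw [coeff_one]
    split_ifs with h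
    · exact ⟨one_mem _, fun _ i => by rw [← h]; exact dvd_zero _⟩
    · exact ⟨zero_mem _, fun h0 => absurd rfl h0⟩
  add_mem' := by
    intro a b ha hb n
    rw [coeff_add]
    refine ⟨add_mem (ha _).1 (hb _).1, fun hne => ?_⟩
    by_cases h0 : coeff n a = 0
    · rw [h0, zero_add] at hne
      exact (hb n).2 hne
    · exact (ha n).2 h0
  zero_mem' := by
    intro n
    rw [coeff_zero]
    exact ⟨zero_mem _, fun h0 => absurd rfl h0⟩
  neg_mem' := by
    intro a ha n
    rw [coeff_neg]
    exact ⟨neg_mem (ha _).1, fun hne => (ha n).2 (neg_ne_zero.1 hne)⟩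

variable {p}

lemma mem_Psub {C₀ : Subring C} {g : MvPolynomial τ C} :
    g ∈ Psub p C₀ ↔ ∀ n, coeff n g ∈ C₀ ∧ (coeff n g ≠ 0 → ∀ i, p ∣ n i) := Iff.rfl

lemma Psub_mono {C₀ C₁ : Subring C} (h : C₀ ≤ C₁) : Psub (τ := τ) p C₀ ≤ Psub p C₁ :=
  fun _ hg n => ⟨h (hg n).1, (hg n).2⟩

lemma C_mem_Psub {C₀ : Subring C} {c : C} (hc : c ∈ C₀) :
    (MvPolynomial.C c : MvPolynomial τ C) ∈ Psub p C₀ := by
  classical
  intro n
  rw [coeff_C]
  split_ifs with h
  · exact ⟨hc, fun _ i => by rw [← h]; exact dvd_zero _⟩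
  · exact ⟨zero_mem _, fun h0 => absurd rfl h0⟩

/-- an additive `C₀`-linear retraction of `C` onto `C₀` induces a retraction onto `C₀[y^p]` -/
theorem hasRetraction_Psub {C₀ : Subring C} (ρ₀ : C →+ C) (h1 : ∀ c, ρ₀ c ∈ C₀)
    (h2 : ∀ c ∈ C₀, ρ₀ c = c) (h3 : ∀ b ∈ C₀, ∀ c, ρ₀ (b * c) = b * ρ₀ c) :
    HasRetraction (Psub (τ := τ) p C₀) := by
  classical
  let πt : MvPolynomial τ C → MvPolynomial τ C := fun g =>
    ∑ m ∈ g.support, if ∀ i, p ∣ m i then monomial m (ρ₀ (coeff m g)) else 0
  have hπt : ∀ g n, coeff n (πt g) = if ∀ i, p ∣ n i then ρ₀ (coeff n g) else 0 := by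
    intro g n
    change coeff n (∑ m ∈ g.support, if ∀ i, p ∣ m i then monomial m (ρ₀ (coeff m g)) else 0) = _
    rw [coeff_sum]
    by_cases hn : n ∈ g.support
    · rw [Finset.sum_eq_single n]
      · split_ifs with h
        · rw [coeff_monomial, if_pos rfl]
        · rw [coeff_zero]
      · intro m _ hmn
        split_ifs with h
        · rw [coeff_monomial, if_neg hmn]
        · rw [coeff_zero]
      · intro h; exact absurd hn h
    · rw [Finset.sum_eq_zero]
      · rw [notMem_support_iff.1 hn, map_zero, ite_self]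
      · intro m hm
        have hmn : m ≠ n := fun h => hn (h ▸ hm)
        split_ifs with h
        · rw [coeff_monomial, if_neg hmn]
        · rw [coeff_zero]
  refine ⟨πt, fun g n => ?_, fun g hg => ?_, fun b hb g => ?_⟩
  · rw [hπt]
    split_ifs with h
    · exact ⟨h1 _, fun _ => h⟩
    · exact ⟨zero_mem _, fun h0 => absurd rfl h0⟩
  · ext n
    rw [hπt]
    split_ifs with h
    · exact h2 _ (hg n).1
    · by_contra hne
      exact h ((hg n).2 (Ne.symm hne))
  · ext n
    rw [hπt, coeff_mul, coeff_mul]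
    split_ifs with h
    · rw [map_sum]
      refine Finset.sum_congr rfl fun x hx => ?_
      by_cases hb0 : coeff x.1 b = 0
      · rw [hb0, zero_mul, zero_mul, map_zero]
      · have h1' := (hb x.1).2 hb0
        have h2' : ∀ i, p ∣ x.2 i := by
          intro i
          have := h i
          rw [← (Finset.HasAntidiagonal.mem_antidiagonal.1 hx), Finsupp.add_apply] at this
          exact (Nat.dvd_add_right (h1' i)).1 this
        rw [hπt, if_pos h2', h3 _ (hb x.1).1]
    · symm
      refine Finset.sum_eq_zero fun x hx => ?_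
      by_cases hb0 : coeff x.1 b = 0
      · rw [hb0, zero_mul]
      · have h1' := (hb x.1).2 hb0
        have h2' : ¬ ∀ i, p ∣ x.2 i := by
          intro h2'
          apply h
          intro i
          rw [← (Finset.HasAntidiagonal.mem_antidiagonal.1 hx), Finsupp.add_apply]
          exact dvd_add (h1' i) (h2' i)
        rw [hπt, if_neg h2', mul_zero]

variable (p)

/-- `p`-th powers lie in `C₀[y^p]` -/
theorem pow_mem_Psub [hp : Fact p.Prime] [CharP C p] {C₀ : Subring C} (hpow : ∀ c : C, c ^ p ∈ C₀)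
    (g : MvPolynomial τ C) : g ^ p ∈ Psub p C₀ := by
  have hp0 : p ≠ 0 := hp.out.ne_zero
  haveI : ExpChar C p := ExpChar.prime hp.out
  intro n
  rw [← map_frobenius_expand p, coeff_map]
  refine ⟨?_, fun hne i => ?_⟩
  · rw [frobenius_def]
    exact hpow _
  · by_contra hnd
    apply hne
    rw [coeff_expand_of_not_dvd g hnd, map_zero]

/-- a polynomial in the `y_i^p` whose coefficients are `p`-th powers is a `p`-th power -/
theorem exists_pow_eq [hp : Fact p.Prime] [CharP C p] (g : MvPolynomial τ C)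
    (hg : ∀ n, (∃ c : C, c ^ p = coeff n g) ∧ (coeff n g ≠ 0 → ∀ i, p ∣ n i)) :
    ∃ u : MvPolynomial τ C, u ^ p = g := by
  classical
  have hp0 : p ≠ 0 := hp.out.ne_zero
  choose c hc using fun n => (hg n).1
  refine ⟨∑ n ∈ g.support, monomial (n.mapRange (fun x => x / p) (by simp)) (c n), ?_⟩
  rw [sum_pow_char]
  conv_rhs => rw [← support_sum_monomial_coeff g]
  refine Finset.sum_congr rfl fun n hn => ?_
  have hn0 : coeff n g ≠ 0 := mem_support_iff.1 hn
  have hdvd := (hg n).2 hn0
  have hexp : p • (n.mapRange (fun x => x / p) (by simp)) = n := by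
    ext i
    rw [Finsupp.smul_apply, Finsupp.mapRange_apply, smul_eq_mul]
    exact Nat.mul_div_cancel' (hdvd i)
  rw [monomial_pow, hc, hexp]

end Basic

end Groth.Agent.Lib.Helper7.PolyFam
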