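import Mathlib
import Groth.Agent.Lib.Helper7PsFam
import Groth.Agent.Lib.Helper7PolyFam

/-!
# The family `F[[x^p]][y^p] ⊆ k[[x]][y]` (helper7)

For a field `k` of characteristic `p` and a family `F i` of subfields of `k` containing `k^p` with
intersection `k^p`, the subrings `F i[[x^p]][y^p]` of `k[[x]][y]` admit linear retractions, contain
all `p`-th powers, and their intersection consists of `p`-th powers.
-/

set_option autoImplicit false
set_option linter.style.haveILetI false
set_option linter.unusedSectionVars false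
universe u v w

namespace Groth.Agent.Lib.Helper7.PolyFamPs

open MvPowerSeries Groth.Agent.Lib.Helper7.PsFam Groth.Agent.Lib.Helper7.PolyFam
  Groth.Agent.Lib.Helper7.GoodFam

variable {σ : Type v} {τ : Type w} {k : Type u} [Field k] (p : ℕ)

/-- `k[[x]]` has characteristic `p` -/
theorem charP_mvPowerSeries [CharP k p] : CharP (MvPowerSeries σ k) p :=
  charP_of_injective_ringHom (f := (C : k →+* MvPowerSeries σ k)) C_injective p

/-- an additive `F[[x^p]]`-linear retraction of `k[[x]]` onto `F[[x^p]]`, coefficientwise -/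
theorem exists_retraction_add (F : Subfield k) :
    ∃ ρ₀ : MvPowerSeries σ k →+ MvPowerSeries σ k,
      (∀ g, ρ₀ g ∈ Rsub p F) ∧ (∀ g ∈ Rsub p F, ρ₀ g = g) ∧
        ∀ b ∈ Rsub p F, ∀ g, ρ₀ (b * g) = b * ρ₀ g := by
  classical
  obtain ⟨π, hπ⟩ := LinearMap.exists_leftInverse_of_injective (Algebra.linearMap F k)
    (LinearMap.ker_eq_bot.2 (algebraMap F k).injective)
  have hπ' : ∀ c : F, π (c : k) = c := fun c => by
    have := congrArg (fun f => f c) hπ
    exact this
  let πt : MvPowerSeries σ k → MvPowerSeries σ k := fun g n =>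
    if ∀ i, p ∣ n i then ((π (coeff n g) : F) : k) else 0
  have hπt : ∀ g n, coeff n (πt g) = if ∀ i, p ∣ n i then ((π (coeff n g) : F) : k) else 0 :=
    fun g n => rfl
  let ρ₀ : MvPowerSeries σ k →+ MvPowerSeries σ k :=
    { toFun := πt
      map_zero' := by
        ext n
        rw [hπt, map_zero, map_zero]
        simp
      map_add' := by
        intro a b
        ext n
        rw [map_add, hπt, hπt, hπt, map_add, map_add]
        split_ifs with h
        · rfl
        · rw [add_zero] }
  have hρ : ∀ g, ρ₀ g = πt g := fun g => rfl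
  refine ⟨ρ₀, fun g n => ?_, fun g hg => ?_, fun b hb g => ?_⟩
  · rw [hρ, hπt]
    split_ifs with h
    · exact ⟨(π _).2, fun _ => h⟩
    · exact ⟨zero_mem _, fun h0 => absurd rfl h0⟩
  · ext n
    rw [hρ, hπt]
    split_ifs with h
    · rw [hπ' ⟨_, (hg n).1⟩]
    · by_contra hne
      exact h ((hg n).2 (Ne.symm hne))
  · ext n
    rw [hρ, hρ, hπt, coeff_mul, coeff_mul]
    split_ifs with h
    · rw [map_sum, AddSubmonoidClass.coe_finsetSum]
      refine Finset.sum_congr rfl fun x hx => ?_
      by_cases hb0 : coeff x.1 b = 0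
      · rw [hb0, zero_mul, zero_mul, map_zero]; rfl
      · have h1 := (hb x.1).2 hb0
        have h2 : ∀ i, p ∣ x.2 i := by
          intro i
          have := h i
          rw [← (Finset.HasAntidiagonal.mem_antidiagonal.1 hx), Finsupp.add_apply] at this
          exact (Nat.dvd_add_right (h1 i)).1 this
        rw [hπt, if_pos h2]
        have h3 : coeff x.1 b * coeff x.2 g = (⟨_, (hb x.1).1⟩ : F) • coeff x.2 g := rfl
        rw [h3, map_smul]
        rfl
    · symm
      refine Finset.sum_eq_zero fun x hx => ?_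
      by_cases hb0 : coeff x.1 b = 0
      · rw [hb0, zero_mul]
      · have h1 := (hb x.1).2 hb0
        have h2 : ¬ ∀ i, p ∣ x.2 i := by
          intro h2
          apply h
          intro i
          rw [← (Finset.HasAntidiagonal.mem_antidiagonal.1 hx), Finsupp.add_apply]
          exact dvd_add (h1 i) (h2 i)
        rw [hπt, if_neg h2, mul_zero]

variable [hp : Fact p.Prime] [CharP k p]

/-- the subring `F[[x^p]][y^p]` of `k[[x]][y]` -/
noncomputable abbrev Bsub (F : Subfield k) : Subring (MvPolynomial τ (MvPowerSeries σ k)) :=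
  Psub p (Rsub (σ := σ) p F)

theorem hasRetraction_Bsub (F : Subfield k) : HasRetraction (Bsub (σ := σ) (τ := τ) p F) := by
  obtain ⟨ρ₀, h1, h2, h3⟩ := exists_retraction_add (σ := σ) p F
  exact hasRetraction_Psub ρ₀ h1 h2 h3

theorem pow_mem_Bsub {F : Subfield k} (hF : kp (k := k) p ≤ F)
    (g : MvPolynomial τ (MvPowerSeries σ k)) : g ^ p ∈ Bsub (σ := σ) (τ := τ) p F := by
  haveI := charP_mvPowerSeries (σ := σ) (k := k) p
  exact pow_mem_Psub p (fun c => Rsub_mono hF (pow_mem_Rsub_kp p c)) g

theorem exists_pow_eq_of_forall_mem_Bsub {ι : Type*} [Nonempty ι] (F : ι → Subfield k)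
    (hInf : ⨅ i, F i = kp (k := k) p) (g : MvPolynomial τ (MvPowerSeries σ k))
    (hg : ∀ i, g ∈ Bsub (σ := σ) (τ := τ) p (F i)) : ∃ u, u ^ p = g := by
  haveI := charP_mvPowerSeries (σ := σ) (k := k) p
  refine exists_pow_eq p g fun n => ⟨?_, (hg (Classical.arbitrary ι) n).2⟩
  apply exists_pow_eq_of_mem_Rsub_kp p
  intro m
  refine ⟨?_, ((hg (Classical.arbitrary ι) n).1 m).2⟩
  rw [← hInf, Subfield.mem_iInf]
  exact fun i => ((hg i n).1 m).1

end Groth.Agent.Lib.Helper7.PolyFamPs
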