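import Mathlib
import Groth.Agent.Lib.Helper7PFamily
import Groth.Agent.Lib.Helper7PsFam
import Groth.Agent.Lib.Helper7GoodFam
import Groth.Agent.Lib.Helper7PolyFam
import Groth.Agent.Lib.Helper7PolyFamPs

/-!
# Derivations of finite type domains over `k[[x]]` in characteristic `p` (helper7)

`exists_derivation_of_finiteType`: let `k` be a field of characteristic `p`, `B` a domain of finite
type over `k[[x_1..x_n]]` (injectively) and `f ∈ B` not a `p`-th power in the fraction field of
`B`.  Then some derivation `D : B → B` has `D f ≠ 0` (Stacks 07PG for `R = k[[x]]`).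
-/

set_option autoImplicit false
set_option linter.style.haveILetI false
set_option linter.unusedSectionVars false
universe u

namespace Groth.Agent.Lib.Helper7.DerFT

open MvPowerSeries Groth.Agent.Lib.Helper7.PolyFam Groth.Agent.Lib.Helper7.PolyFamPs
  Groth.Agent.Lib.Helper7.GoodFam

open Groth.Agent.Lib.Helper7.PsFam (Rsub Rsub_mono)

/-- the field-theoretic part: a derivation of `L = Frac B` killing `F[[x^p]]` for a cofinite
subfield `F` of `k` and not killing `f` -/
theorem exists_derivation_fractionRing {k : Type u} [Field k] (p : ℕ) [hp : Fact p.Prime]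
    [CharP k p] (n : ℕ)
    (B : Type u) [CommRing B] [IsDomain B] [Algebra (MvPowerSeries (Fin n) k) B]
    [Algebra.FiniteType (MvPowerSeries (Fin n) k) B]
    (hinj : Function.Injective (algebraMap (MvPowerSeries (Fin n) k) B))
    (L : Type u) [Field L] [Algebra B L] [IsFractionRing B L] [Algebra (MvPowerSeries (Fin n) k) L]
    [IsScalarTower (MvPowerSeries (Fin n) k) B L] (f : L)
    (hf : ∀ x : L, x ^ p ≠ f) :
    ∃ (F : Subfield k) (_ : Module.Finite F k) (δ : Derivation ℤ L L),
      δ f ≠ 0 ∧ ∀ c ∈ Rsub (σ := Fin n) p F,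
        δ (algebraMap (MvPowerSeries (Fin n) k) L c) = 0 := by
  classical
  have hBL : Function.Injective (algebraMap B L) := IsFractionRing.injective B L
  have hR₀L : Function.Injective (algebraMap (MvPowerSeries (Fin n) k) L) := by
    rw [IsScalarTower.algebraMap_eq (MvPowerSeries (Fin n) k) B L]
    exact hBL.comp hinj
  haveI : IsDomain (MvPowerSeries (Fin n) k) := NoZeroDivisors.to_isDomain _
  haveI : CharP (MvPowerSeries (Fin n) k) p := charP_mvPowerSeries p
  haveI : CharP L p := charP_of_injective_algebraMap hR₀L p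
  haveI : FaithfulSMul (MvPowerSeries (Fin n) k) L :=
    (faithfulSMul_iff_algebraMap_injective _ _).2 hR₀L
  -- a transcendence basis
  obtain ⟨ι, x, hx⟩ := exists_isTranscendenceBasis' (MvPowerSeries (Fin n) k) L
  have hxinj : Function.Injective
      (MvPolynomial.aeval x : MvPolynomial ι (MvPowerSeries (Fin n) k) →ₐ[_] L) :=
    algebraicIndependent_iff_injective_aeval.1 hx.1
  haveI : IsDomain (MvPolynomial ι (MvPowerSeries (Fin n) k)) := NoZeroDivisors.to_isDomain _
  letI algA₁L : Algebra (MvPolynomial ι (MvPowerSeries (Fin n) k)) L :=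
    (MvPolynomial.aeval x : MvPolynomial ι (MvPowerSeries (Fin n) k) →ₐ[_] L).toRingHom.toAlgebra
  have halgA₁L : ∀ a : MvPolynomial ι (MvPowerSeries (Fin n) k),
      algebraMap (MvPolynomial ι (MvPowerSeries (Fin n) k)) L a =
        MvPolynomial.aeval x a := fun _ => rfl
  haveI : FaithfulSMul (MvPolynomial ι (MvPowerSeries (Fin n) k)) L :=
    (faithfulSMul_iff_algebraMap_injective _ _).2 hxinj
  haveI : IsScalarTower (MvPowerSeries (Fin n) k) (MvPolynomial ι (MvPowerSeries (Fin n) k))
      L :=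
    IsScalarTower.of_algebraMap_eq (fun r => by
      rw [halgA₁L, MvPolynomial.algebraMap_eq, MvPolynomial.aeval_C])
  letI algK₁L : Algebra (FractionRing (MvPolynomial ι (MvPowerSeries (Fin n) k))) L :=
    FractionRing.liftAlgebra _ _
  haveI : IsScalarTower (MvPolynomial ι (MvPowerSeries (Fin n) k))
      (FractionRing (MvPolynomial ι (MvPowerSeries (Fin n) k))) L :=
    FractionRing.isScalarTower_liftAlgebra _ _
  haveI : IsScalarTower (MvPowerSeries (Fin n) k)
      (FractionRing (MvPolynomial ι (MvPowerSeries (Fin n) k))) L :=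
    IsScalarTower.to₁₃₄ _ (MvPolynomial ι (MvPowerSeries (Fin n) k)) _ _
  -- algebraicity
  haveI halg₁ : Algebra.IsAlgebraic (MvPolynomial ι (MvPowerSeries (Fin n) k)) L := by
    haveI := hx.isAlgebraic
    refine Algebra.IsAlgebraic.of_ringHom_of_comp_eq
      (S := Algebra.adjoin (MvPowerSeries (Fin n) k) (Set.range x)) (B := L)
      (hx.1.aevalEquiv : MvPolynomial ι (MvPowerSeries (Fin n) k) →+* _)
      (RingHom.id L) hx.1.aevalEquiv.surjective Function.injective_id ?_
    ext a
    · simp [halgA₁L, hx.1.algebraMap_aevalEquiv]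
    · simp [halgA₁L, hx.1.algebraMap_aevalEquiv]
  haveI : Algebra.IsAlgebraic (FractionRing (MvPolynomial ι (MvPowerSeries (Fin n) k)))
      L :=
    Algebra.IsAlgebraic.extendScalars (R := MvPolynomial ι (MvPowerSeries (Fin n) k))
      (IsFractionRing.injective _ _)
  haveI : Algebra.EssFiniteType B L := Algebra.EssFiniteType.of_isLocalization L (nonZeroDivisors B)
  haveI : Algebra.EssFiniteType (MvPowerSeries (Fin n) k) L :=
    Algebra.EssFiniteType.comp (MvPowerSeries (Fin n) k) B L
  haveI : Algebra.EssFiniteType (FractionRing (MvPolynomial ι (MvPowerSeries (Fin n) k)))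
      L :=
    Algebra.EssFiniteType.of_comp (MvPowerSeries (Fin n) k) _ _
  haveI : Module.Finite (FractionRing (MvPolynomial ι (MvPowerSeries (Fin n) k)))
      L := Algebra.finite_of_essFiniteType_of_isAlgebraic
  -- the family
  obtain ⟨I, F, hF1, hF2, hF3, hF4⟩ := Groth.Agent.Lib.Helper7.PFamily.exists_family k p
  obtain ⟨Bs, hBs⟩ : ∃ Bs : Finset I → Subring (MvPolynomial ι (MvPowerSeries (Fin n) k)),
      ∀ S, Bs S = Bsub (σ := Fin n) (τ := ι) p (F S) := ⟨_, fun _ => rfl⟩
  obtain ⟨E, hE⟩ : ∃ E : Finset I → Subfield (FractionRing (MvPolynomial ι (MvPowerSeries (Fin n) k))),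
      ∀ S, E S = Ksub (FractionRing (MvPolynomial ι (MvPowerSeries (Fin n) k))) (Bs S) :=
    ⟨_, fun _ => rfl⟩
  have hmono : ∀ S S', S ⊆ S' → E S' ≤ E S := by
    intro S S' h
    rw [hE, hE, hBs, hBs]
    exact Ksub_mono (Psub_mono (Rsub_mono (hF2 S S' h)))
  have hdir : ∀ a b, ∃ c, E c ≤ E a ⊓ E b := fun a b =>
    ⟨a ∪ b, le_inf (hmono _ _ Finset.subset_union_left) (hmono _ _ Finset.subset_union_right)⟩
  have hpowB : ∀ S (g : MvPolynomial ι (MvPowerSeries (Fin n) k)), g ^ p ∈ Bs S := by
    intro S g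
    rw [hBs]
    exact pow_mem_Bsub p (hF1 S) g
  have hpow : ∀ S (z : FractionRing (MvPolynomial ι (MvPowerSeries (Fin n) k))), z ^ p ∈ E S := by
    intro S z
    rw [hE]
    exact pow_mem_Ksub p (hpowB S) z
  have hretB : ∀ S, HasRetraction (Bs S) := by
    intro S
    rw [hBs]
    exact hasRetraction_Bsub p (F S)
  have hintB : ∀ g : MvPolynomial ι (MvPowerSeries (Fin n) k), (∀ S, g ∈ Bs S) → ∃ u, u ^ p = g := by
    intro g hg
    exact exists_pow_eq_of_forall_mem_Bsub p F hF3 g (fun S => by rw [← hBs]; exact hg S)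
  have hInf : ∀ z : FractionRing (MvPolynomial ι (MvPowerSeries (Fin n) k)),
      (∀ S, z ∈ E S) → ∃ y, y ^ p = z := by
    intro z hz
    exact exists_pow_eq_of_forall_mem_Ksub p hp.out.pos Bs hretB hpowB hintB z
      (fun S => by rw [← hE]; exact hz S)
  obtain ⟨S, δ, hδf, hδE⟩ := exists_derivation p E hdir hpow hInf f hf
  refine ⟨F S, hF4 S, δ, hδf, fun c hc => ?_⟩
  have h1 : algebraMap (MvPowerSeries (Fin n) k) L c =
      algebraMap (FractionRing (MvPolynomial ι (MvPowerSeries (Fin n) k))) L
        (algebraMap (MvPolynomial ι (MvPowerSeries (Fin n) k)) _ (MvPolynomial.C c)) := by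
    rw [← IsScalarTower.algebraMap_apply, halgA₁L, MvPolynomial.aeval_C]
  rw [h1]
  refine hδE _ ?_
  rw [hE, hBs]
  exact algebraMap_mem_Ksub (C_mem_Psub hc)

/-- **Stacks 07PG over `k[[x]]`**: a domain `B` of finite type over `k[[x_1..x_n]]` and `f ∈ B`
not a `p`-th power in `Frac B`: some derivation `D : B → B` has `D f ≠ 0`. -/
theorem exists_derivation_of_finiteType {k : Type u} [Field k] (p : ℕ) [hp : Fact p.Prime]
    [CharP k p] (n : ℕ)
    (B : Type u) [CommRing B] [IsDomain B] [Algebra (MvPowerSeries (Fin n) k) B]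
    [Algebra.FiniteType (MvPowerSeries (Fin n) k) B]
    (hinj : Function.Injective (algebraMap (MvPowerSeries (Fin n) k) B))
    (L : Type u) [Field L] [Algebra B L] [IsFractionRing B L] (f : B)
    (hf : ∀ x : L, x ^ p ≠ algebraMap B L f) :
    ∃ D : Derivation ℤ B B, D f ≠ 0 := by
  classical
  letI : Algebra (MvPowerSeries (Fin n) k) L :=
    ((algebraMap B L).comp (algebraMap (MvPowerSeries (Fin n) k) B)).toAlgebra
  haveI : IsScalarTower (MvPowerSeries (Fin n) k) B L := IsScalarTower.of_algebraMap_eq fun _ => rfl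
  have hBL : Function.Injective (algebraMap B L) := IsFractionRing.injective B L
  obtain ⟨F, hFfin, δ, hδf, hδR⟩ :=
    exists_derivation_fractionRing p n B hinj L (algebraMap B L f) hf
  haveI := hFfin
  obtain ⟨J, hJ, g, hg⟩ := Groth.Agent.Lib.Helper7.PsFam.exists_finite_generators (σ := Fin n) p F
  obtain ⟨s, hs⟩ := (Algebra.FiniteType.out : (⊤ : Subalgebra (MvPowerSeries (Fin n) k) B).FG)
  -- a common denominator
  obtain ⟨t, ht⟩ := IsLocalization.exist_integer_multiples_of_finset (nonZeroDivisors B)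
    ((Finset.univ.image fun j : J => δ (algebraMap (MvPowerSeries (Fin n) k) L (g j))) ∪
      (s.image fun b => δ (algebraMap B L b)))
  have ht0 : algebraMap B L (t : B) ≠ 0 := fun h0 =>
    nonZeroDivisors.ne_zero t.2 (hBL (by rw [h0, map_zero]))
  -- the subring of elements whose scaled derivative is integral
  let T : Subring B :=
    { carrier := {b | ∃ b' : B, algebraMap B L b' = algebraMap B L (t : B) * δ (algebraMap B L b)}
      mul_mem' := by
        rintro a b ⟨a', ha'⟩ ⟨b', hb'⟩
        refine ⟨a * b' + b * a', ?_⟩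
        rw [map_add, map_mul, map_mul, ha', hb', map_mul, Derivation.leibniz, smul_eq_mul,
          smul_eq_mul]
        ring
      one_mem' := ⟨0, by rw [map_zero, map_one, Derivation.map_one_eq_zero, mul_zero]⟩
      add_mem' := by
        rintro a b ⟨a', ha'⟩ ⟨b', hb'⟩
        exact ⟨a' + b', by rw [map_add, ha', hb', map_add, map_add, mul_add]⟩
      zero_mem' := ⟨0, by rw [map_zero, map_zero, mul_zero]⟩
      neg_mem' := by
        rintro a ⟨a', ha'⟩
        exact ⟨-a', by rw [map_neg, ha', map_neg, map_neg, mul_neg]⟩ }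
  have hTmem : ∀ b, b ∈ T ↔
      ∃ b' : B, algebraMap B L b' = algebraMap B L (t : B) * δ (algebraMap B L b) := fun _ => Iff.rfl
  -- `T` contains the image of `k[[x]]`
  have hTR : ∀ r : MvPowerSeries (Fin n) k, algebraMap (MvPowerSeries (Fin n) k) B r ∈ T := by
    intro r
    obtain ⟨c, hc, hr⟩ := hg r
    rw [hr, map_sum]
    refine sum_mem fun j _ => ?_
    rw [map_mul]
    refine mul_mem ?_ ?_
    · refine ⟨0, ?_⟩
      rw [map_zero, ← IsScalarTower.algebraMap_apply, hδR _ (hc j), mul_zero]
    · obtain ⟨b', hb'⟩ := ht (δ (algebraMap (MvPowerSeries (Fin n) k) L (g j)))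
        (Finset.mem_union_left _ (Finset.mem_image.2 ⟨j, Finset.mem_univ _, rfl⟩))
      refine ⟨b', ?_⟩
      rw [hb', Algebra.smul_def, ← IsScalarTower.algebraMap_apply]
  have hTs : ∀ b ∈ s, b ∈ T := by
    intro b hb
    obtain ⟨b', hb'⟩ := ht (δ (algebraMap B L b))
      (Finset.mem_union_right _ (Finset.mem_image.2 ⟨b, hb, rfl⟩))
    exact ⟨b', by rw [hb', Algebra.smul_def]⟩
  have hTtop : ∀ b : B, b ∈ T := by
    let T' : Subalgebra (MvPowerSeries (Fin n) k) B :=
      { T.toSubsemiring with algebraMap_mem' := hTR }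
    have h1 : Algebra.adjoin (MvPowerSeries (Fin n) k) (s : Set B) ≤ T' :=
      Algebra.adjoin_le fun b hb => hTs b hb
    intro b
    have h2 : b ∈ Algebra.adjoin (MvPowerSeries (Fin n) k) (s : Set B) := by
      rw [hs]; exact Algebra.mem_top
    exact h1 h2
  choose Dfun hD using fun b => (hTmem b).1 (hTtop b)
  let Dadd : B →+ B :=
    { toFun := Dfun
      map_zero' := hBL (by rw [hD, map_zero, map_zero, mul_zero])
      map_add' := fun a b => hBL (by rw [hD, map_add, map_add, mul_add, map_add, hD, hD]) }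
  have hDadd : ∀ b, Dadd b = Dfun b := fun _ => rfl
  refine ⟨Derivation.mk' Dadd.toIntLinearMap (fun a b => hBL ?_), ?_⟩
  · change algebraMap B L (Dfun (a * b)) = algebraMap B L (a * Dfun b + b * Dfun a)
    rw [hD, map_add, map_mul (algebraMap B L) a (Dfun b), map_mul (algebraMap B L) b (Dfun a),
      hD, hD, map_mul (algebraMap B L) a b, Derivation.leibniz, smul_eq_mul, smul_eq_mul]
    ring
  · intro h0
    have h1 : Dfun f = 0 := h0
    have h2 := hD f
    rw [h1, map_zero] at h2
    exact (mul_ne_zero ht0 hδf) h2.symm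

end Groth.Agent.Lib.Helper7.DerFT
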