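import Mathlib
import Groth.Agent.Lib.Helper7Cartier2

/-!
Helper library (helper7): the equaliser of the two maps from `L` to the diagonal-adic completion of
`L ⊗[K] L` is the separable closure of `K` in `L`.
-/

set_option autoImplicit false
set_option linter.style.haveILetI false
set_option linter.unusedSectionVars false
universe u
open KaehlerDifferential TensorProduct

namespace Groth.Agent.Lib.Helper7.DiagAdic

section General

variable {R : Type*} [CommRing R] (I : Ideal R)

lemma of_eq_of_iff (a b : R) :
    AdicCompletion.of I R a = AdicCompletion.of I R b ↔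
      a - b ∈ (⨅ n : ℕ, I ^ n • ⊤ : Submodule R R) := by
  rw [← sub_eq_zero, ← map_sub, Submodule.mem_iInf]
  constructor
  · intro h n
    have := congrArg (fun z => z.1 n) h
    simp only [AdicCompletion.of_apply, AdicCompletion.val_zero_apply] at this
    exact (Submodule.Quotient.mk_eq_zero _).1 this
  · intro h
    apply AdicCompletion.ext
    intro n
    rw [AdicCompletion.of_apply, AdicCompletion.val_zero_apply]
    exact (Submodule.Quotient.mk_eq_zero _).2 (h n)

end General

variable (K L : Type u) [Field K] [Field L] [Algebra K L]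

/-- the element `x ⊗ 1 - 1 ⊗ x` -/
noncomputable def delta (x : L) : L ⊗[K] L := x ⊗ₜ[K] (1 : L) - (1 : L) ⊗ₜ[K] x

variable {K L}

/-- the comparison map `K⟮x⟯ ⊗ K⟮x⟯ → L ⊗ L` -/
noncomputable abbrev phi (F : IntermediateField K L) : F ⊗[K] F →ₐ[K] L ⊗[K] L :=
  Algebra.TensorProduct.map F.val F.val

lemma lmul'_phi (F : IntermediateField K L) (s : F ⊗[K] F) :
    Algebra.TensorProduct.lmul' K (phi F s) = algebraMap F L (Algebra.TensorProduct.lmul' K s) := by
  induction s using TensorProduct.induction_on with
  | zero => simp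
  | tmul a b => simp [phi]
  | add a b ha hb => rw [map_add, map_add, ha, hb, map_add, map_add]

lemma map_ideal_le (F : IntermediateField K L) :
    Ideal.map (phi F) (KaehlerDifferential.ideal K F) ≤ KaehlerDifferential.ideal K L := by
  rw [Ideal.map_le_iff_le_comap]
  intro s hs
  rw [Ideal.mem_comap, RingHom.mem_ker, lmul'_phi]
  rw [RingHom.mem_ker] at hs
  rw [hs, map_zero]

/-- descent of annihilators along the flat map `F ⊗ F → L ⊗ L` -/
lemma exists_annihilator (F : IntermediateField K L) (δ₀ : F ⊗[K] F) (t : L ⊗[K] L)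
    (h : phi F δ₀ * t = 0) (hm : Algebra.TensorProduct.lmul' K t = 1) :
    ∃ s : F ⊗[K] F, s * δ₀ = 0 ∧ Algebra.TensorProduct.lmul' K s ≠ 0 := by
  classical
  have hflat := RingHom.Flat.tensorProductMap (f := F.val) (g := F.val)
      (RingHom.Flat.of_isField (Field.toIsField F) _) (RingHom.Flat.of_isField (Field.toIsField F) _)
  letI alg : Algebra (F ⊗[K] F) (L ⊗[K] L) := (phi F).toRingHom.toAlgebra
  haveI : Module.Flat (F ⊗[K] F) (L ⊗[K] L) := hflat
  have halg : ∀ s : F ⊗[K] F, s • (1 : L ⊗[K] L) = phi F s := by
    intro s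
    rw [Algebra.smul_def, mul_one, RingHom.algebraMap_toAlgebra]
    rfl
  have hsmul : ∀ (s : F ⊗[K] F) (z : L ⊗[K] L), s • z = phi F s * z := by
    intro s z
    rw [← halg, smul_mul_assoc, one_mul]
  have hrel : ∑ _i : Unit, δ₀ • t = 0 := by
    rw [Finset.sum_const, Finset.card_univ, Fintype.card_unit, one_smul, hsmul, h]
  obtain ⟨k, a, y, hy, ha⟩ := Module.Flat.isTrivialRelation_of_sum_smul_eq_zero
    (f := fun _ : Unit => δ₀) (x := fun _ : Unit => t) hrel
  have hty : t = ∑ j, phi F (a () j) * y j := by
    refine (hy ()).trans (Finset.sum_congr rfl fun j _ => ?_)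
    rw [hsmul]
  have hex : ∃ j, Algebra.TensorProduct.lmul' K (a () j) ≠ 0 := by
    by_contra hcon
    push Not at hcon
    have : Algebra.TensorProduct.lmul' (S := L) K t = 0 := by
      rw [hty, map_sum]
      refine Finset.sum_eq_zero fun j _ => ?_
      rw [map_mul, lmul'_phi, hcon j, map_zero, zero_mul]
    rw [hm] at this
    exact one_ne_zero this
  obtain ⟨j, hj⟩ := hex
  refine ⟨a () j, ?_, hj⟩
  have := ha j
  rw [Fintype.sum_unique] at this
  have h2 : δ₀ * a () j = 0 := this
  exact (mul_comm (a () j) δ₀).trans h2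

theorem delta_mem_of_isSeparable {x : L} (hx : IsSeparable K x) (n : ℕ) :
    delta K L x ∈ (KaehlerDifferential.ideal K L) ^ n := by
  classical
  let F : IntermediateField K L := IntermediateField.adjoin K {x}
  haveI : Algebra.IsSeparable K F :=
    (IntermediateField.isSeparable_adjoin_simple_iff_isSeparable K L).2 hx
  haveI : Algebra.FormallyUnramified K F := Algebra.FormallyUnramified.of_isSeparable K F
  have hsub : Subsingleton (KaehlerDifferential.ideal K F).Cotangent :=
    (inferInstance : Subsingleton (Ω[F⁄K]))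
  have hidem : IsIdempotentElem (KaehlerDifferential.ideal K F) :=
    (Ideal.cotangent_subsingleton_iff _).1 hsub
  have hpow : ∀ m : ℕ, (KaehlerDifferential.ideal K F) ^ (m + 1) = KaehlerDifferential.ideal K F := by
    intro m
    induction m with
    | zero => rw [zero_add, pow_one]
    | succ m ih => rw [pow_succ, ih]; exact hidem
  let g : F := IntermediateField.AdjoinSimple.gen K x
  have hg : algebraMap F L g = x := IntermediateField.AdjoinSimple.algebraMap_gen K x
  let δ₀ : F ⊗[K] F := g ⊗ₜ[K] (1 : F) - (1 : F) ⊗ₜ[K] g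
  have hδ₀ : δ₀ ∈ KaehlerDifferential.ideal K F := by
    rw [RingHom.mem_ker]; simp [δ₀]
  have hφ : phi F δ₀ = delta K L x := by
    simp only [δ₀, delta, phi, map_sub, Algebra.TensorProduct.map_tmul, map_one]
    rfl
  cases n with
  | zero => rw [pow_zero, Ideal.one_eq_top]; trivial
  | succ m =>
    rw [← hφ]
    have h1 : phi F δ₀ ∈ Ideal.map (phi F) ((KaehlerDifferential.ideal K F) ^ (m + 1)) := by
      rw [hpow]; exact Ideal.mem_map_of_mem _ hδ₀
    rw [Ideal.map_pow] at h1
    exact Ideal.pow_right_mono (map_ideal_le F) _ h1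

theorem isSeparable_of_delta_mem (hfg : (⊤ : IntermediateField K L).FG) {x : L}
    (h : delta K L x ∈ (⨅ n : ℕ, (KaehlerDifferential.ideal K L) ^ n • ⊤ :
      Submodule (L ⊗[K] L) (L ⊗[K] L))) : IsSeparable K x := by
  classical
  haveI : Algebra.EssFiniteType K L := IntermediateField.fg_top_iff.1 hfg
  haveI : Algebra.EssFiniteType L (L ⊗[K] L) := inferInstance
  haveI : IsNoetherianRing (L ⊗[K] L) := Algebra.EssFiniteType.isNoetherianRing L _
  obtain ⟨r, hr⟩ := (Ideal.mem_iInf_smul_pow_eq_bot_iff (KaehlerDifferential.ideal K L)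
    (delta K L x)).1 h
  set t : L ⊗[K] L := 1 - r.1 with ht
  have htδ : delta K L x * t = 0 := by
    rw [ht, mul_sub, mul_one, mul_comm, ← smul_eq_mul, hr, sub_self]
  have hmult : Algebra.TensorProduct.lmul' K t = 1 := by
    have : Algebra.TensorProduct.lmul' (S := L) K r.1 = 0 := r.2
    rw [ht, map_sub, map_one, this, sub_zero]
  let F : IntermediateField K L := IntermediateField.adjoin K {x}
  let g : F := IntermediateField.AdjoinSimple.gen K x
  have hg : algebraMap F L g = x := IntermediateField.AdjoinSimple.algebraMap_gen K x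
  let δ₀ : F ⊗[K] F := g ⊗ₜ[K] (1 : F) - (1 : F) ⊗ₜ[K] g
  have hφ : phi F δ₀ = delta K L x := by
    simp only [δ₀, delta, phi, map_sub, Algebra.TensorProduct.map_tmul, map_one]
    rfl
  obtain ⟨sA, hsδ, hj⟩ := exists_annihilator F δ₀ t (by rw [hφ]; exact htδ) hmult
  have hD : D K F g = 0 := by
    have h1 := Derivation.tensorProductTo_mul (D K F) (sA) δ₀
    rw [hsδ, map_zero] at h1
    have h2 : Algebra.TensorProduct.lmul' (S := F) K δ₀ = 0 := by simp [δ₀]
    have h3 : (D K F).tensorProductTo δ₀ = - D K F g := by
      simp only [δ₀, map_sub, Derivation.tensorProductTo_tmul, Derivation.map_one_eq_zero,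
        smul_zero, one_smul, zero_sub]
    rw [h2, zero_smul, add_zero, h3, smul_neg, eq_comm, neg_eq_zero] at h1
    exact (smul_eq_zero.1 h1).resolve_left hj
  have htop : IntermediateField.adjoin K {g} = ⊤ :=
    Groth.Agent.Lib.Helper7.ExalLib.adjoin_gen_eq_top x
  have hspan : ∀ z : F, D K F z = 0 := by
    intro z
    have hz : z ∈ IntermediateField.adjoin K {g} := by rw [htop]; trivial
    induction hz using IntermediateField.adjoin_induction with
    | mem w hw => rw [Set.mem_singleton_iff.1 hw]; exact hD
    | algebraMap r => exact Derivation.map_algebraMap _ r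
    | add a c _ _ ha hc => rw [map_add, ha, hc, add_zero]
    | inv a _ ha => rw [Derivation.leibniz_inv, ha, smul_zero]
    | mul a c _ _ ha hc => rw [Derivation.leibniz, ha, hc, smul_zero, smul_zero, add_zero]
  haveI : Subsingleton (Ω[F⁄K]) := by
    refine subsingleton_of_forall_eq 0 fun ω => ?_
    have hω : ω ∈ Submodule.span F (Set.range (D K F)) := by
      rw [KaehlerDifferential.span_range_derivation]; trivial
    induction hω using Submodule.span_induction with
    | mem ω hω => obtain ⟨z, rfl⟩ := hω; exact hspan z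
    | zero => rfl
    | add a c _ _ ha hc => rw [ha, hc, add_zero]
    | smul c a _ ha => rw [ha, smul_zero]
  haveI : Algebra.FormallyUnramified K F := ⟨inferInstance⟩
  haveI : Algebra.EssFiniteType K F := by
    rw [IntermediateField.essFiniteType_iff]
    have := IntermediateField.fg_adjoin_finset (F := K) ({x} : Finset L)
    simpa using this
  haveI : Algebra.IsSeparable K F := Algebra.FormallyUnramified.isSeparable K F
  exact (IntermediateField.isSeparable_adjoin_simple_iff_isSeparable K L).1 ‹_›

end Groth.Agent.Lib.Helper7.DiagAdic
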