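import Mathlib.CategoryTheory.EffectiveEpi.Comp
import Mathlib.CategoryTheory.MorphismProperty.Limits
import Mathlib.CategoryTheory.Limits.Shapes.Pullback.HasPullback
import Mathlib.CategoryTheory.Comma.Over.Pullback

/-!
# Universal effective epimorphisms (helper7)
-/

set_option autoImplicit false

namespace Groth.Agent.Lib.Helper7

open CategoryTheory CategoryTheory.Limits

universe v₁ u₁
variable {C : Type u₁} [Category.{v₁} C]

/-- Universal effective epimorphisms. -/
abbrev UEE (C : Type u₁) [Category.{v₁} C] : MorphismProperty C :=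
  MorphismProperty.universally (fun (A B : C) (p : A ⟶ B) => EffectiveEpi p)

/-- Universal epimorphisms. -/
abbrev UE (C : Type u₁) [Category.{v₁} C] : MorphismProperty C :=
  MorphismProperty.universally (MorphismProperty.epimorphisms C)

lemma UEE.effectiveEpi {X Y : C} {f : X ⟶ Y} (hf : UEE C f) : EffectiveEpi f :=
  MorphismProperty.universally_le _ _ hf

lemma UEE.ue {X Y : C} {f : X ⟶ Y} (hf : UEE C f) : UE C f := by
  intro X' Y' i₁ i₂ f' H
  have : EffectiveEpi f' := hf _ _ _ H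
  show Epi f'
  infer_instance

lemma UE.epi {X Y : C} {f : X ⟶ Y} (hf : UE C f) : Epi f :=
  MorphismProperty.universally_le _ _ hf

lemma UEE.epi {X Y : C} {f : X ⟶ Y} (hf : UEE C f) : Epi f := hf.ue.epi

lemma UE.of_isPullback {X Y X' Y' : C} {f : X ⟶ Y} (hf : UE C f) {f' : X' ⟶ Y'} {i₁ : X' ⟶ X}
    {i₂ : Y' ⟶ Y} (H : IsPullback f' i₁ i₂ f) : UE C f' :=
  (MorphismProperty.universally_isStableUnderBaseChange _).of_isPullback H.flip hf

lemma UEE.of_isPullback {X Y X' Y' : C} {f : X ⟶ Y} (hf : UEE C f) {f' : X' ⟶ Y'} {i₁ : X' ⟶ X}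
    {i₂ : Y' ⟶ Y} (H : IsPullback f' i₁ i₂ f) : UEE C f' :=
  (MorphismProperty.universally_isStableUnderBaseChange _).of_isPullback H.flip hf

/-- For a universal epimorphism `v : U ⟶ T` and two maps `a₁ a₂ : Z ⟶ T` there is an epimorphism
`π : Q ⟶ Z` and lifts `b₁ b₂ : Q ⟶ U` of `π ≫ a₁`, `π ≫ a₂`. -/
lemma UE.exists_lifts [HasPullbacks C] {U T Z : C} {v : U ⟶ T} (hv : UE C v) (a₁ a₂ : Z ⟶ T) :
    ∃ (Q : C) (π : Q ⟶ Z) (b₁ b₂ : Q ⟶ U), Epi π ∧ b₁ ≫ v = π ≫ a₁ ∧ b₂ ≫ v = π ≫ a₂ := by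
  have h1 : Epi (pullback.fst a₁ v) := hv _ _ _ (IsPullback.of_hasPullback a₁ v)
  have h2 : Epi (pullback.fst (pullback.fst a₁ v ≫ a₂) v) :=
    hv _ _ _ (IsPullback.of_hasPullback _ v)
  refine ⟨_, pullback.fst (pullback.fst a₁ v ≫ a₂) v ≫ pullback.fst a₁ v,
    pullback.fst (pullback.fst a₁ v ≫ a₂) v ≫ pullback.snd a₁ v,
    pullback.snd (pullback.fst a₁ v ≫ a₂) v, epi_comp _ _, ?_, ?_⟩
  · rw [Category.assoc, Category.assoc, pullback.condition]
  · rw [← pullback.condition, Category.assoc]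

/-- The composite of two effective epimorphisms, the first of which is a universal epimorphism, is
an effective epimorphism. -/
theorem effectiveEpi_comp_of_ue [HasPullbacks C] {U T S : C} (v : U ⟶ T) (u : T ⟶ S)
    [EffectiveEpi u] [EffectiveEpi v] (hv : UE C v) : EffectiveEpi (v ≫ u) := by
  have key : ∀ {W : C} (e : U ⟶ W)
      (h : ∀ {Z : C} (g₁ g₂ : Z ⟶ U), g₁ ≫ v ≫ u = g₂ ≫ v ≫ u → g₁ ≫ e = g₂ ≫ e),
      ∃ d : S ⟶ W, (v ≫ u) ≫ d = e := by
    intro W e h
    have h1 : ∀ {Z : C} (g₁ g₂ : Z ⟶ U), g₁ ≫ v = g₂ ≫ v → g₁ ≫ e = g₂ ≫ e := by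
      intro Z g₁ g₂ hg
      apply h
      rw [← Category.assoc, hg, Category.assoc]
    have h2 : ∀ {Z : C} (a₁ a₂ : Z ⟶ T), a₁ ≫ u = a₂ ≫ u →
        a₁ ≫ EffectiveEpi.desc v e h1 = a₂ ≫ EffectiveEpi.desc v e h1 := by
      intro Z a₁ a₂ ha
      obtain ⟨Q, π, b₁, b₂, hπ, hb₁, hb₂⟩ := hv.exists_lifts a₁ a₂
      rw [← cancel_epi π, ← Category.assoc, ← hb₁, ← Category.assoc π, ← hb₂, Category.assoc,
        Category.assoc, EffectiveEpi.fac]
      apply h
      rw [← Category.assoc, hb₁, ← Category.assoc, hb₂, Category.assoc, Category.assoc, ha]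
    refine ⟨EffectiveEpi.desc u (EffectiveEpi.desc v e h1) h2, ?_⟩
    rw [Category.assoc, EffectiveEpi.fac, EffectiveEpi.fac]
  have hepi : Epi (v ≫ u) := epi_comp _ _
  refine ⟨⟨{ desc := fun e h => (key e (fun g₁ g₂ hg => h g₁ g₂ hg)).choose
             fac := fun e h => (key e (fun g₁ g₂ hg => h g₁ g₂ hg)).choose_spec
             uniq := fun e h m hm => ?_ }⟩⟩
  rw [← cancel_epi (v ≫ u), hm, (key e (fun g₁ g₂ hg => h g₁ g₂ hg)).choose_spec]

/-- If `v ≫ u` is an effective epimorphism whose base change along `u` is an epimorphism, then `u` is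
an effective epimorphism. -/
theorem effectiveEpi_of_comp [HasPullbacks C] {U T S : C} (v : U ⟶ T) (u : T ⟶ S)
    [EffectiveEpi (v ≫ u)] (hvu : Epi (pullback.fst u (v ≫ u))) : EffectiveEpi u := by
  have hepi : Epi u := epi_of_epi v u
  have key : ∀ {W : C} (e : T ⟶ W)
      (h : ∀ {Z : C} (g₁ g₂ : Z ⟶ T), g₁ ≫ u = g₂ ≫ u → g₁ ≫ e = g₂ ≫ e),
      ∃ d : S ⟶ W, u ≫ d = e := by
    intro W e h
    have h1 : ∀ {Z : C} (g₁ g₂ : Z ⟶ U), g₁ ≫ v ≫ u = g₂ ≫ v ≫ u →
        g₁ ≫ v ≫ e = g₂ ≫ v ≫ e := by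
      intro Z g₁ g₂ hg
      rw [← Category.assoc, ← Category.assoc]
      apply h
      rw [Category.assoc, Category.assoc, hg]
    refine ⟨EffectiveEpi.desc (v ≫ u) (v ≫ e) h1, ?_⟩
    rw [← cancel_epi (pullback.fst u (v ≫ u))]
    have := EffectiveEpi.fac (v ≫ u) (v ≫ e) h1
    rw [← Category.assoc, pullback.condition, Category.assoc, this, ← Category.assoc]
    symm
    apply h
    rw [pullback.condition, Category.assoc]
  refine ⟨⟨{ desc := fun e h => (key e (fun g₁ g₂ hg => h g₁ g₂ hg)).choose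
             fac := fun e h => (key e (fun g₁ g₂ hg => h g₁ g₂ hg)).choose_spec
             uniq := fun e h m hm => ?_ }⟩⟩
  rw [← cancel_epi u, hm, (key e (fun g₁ g₂ hg => h g₁ g₂ hg)).choose_spec]

/-- Universal effective epimorphisms are stable under composition. -/
theorem UEE.comp [HasPullbacks C] {U T S : C} {v : U ⟶ T} {u : T ⟶ S} (hv : UEE C v)
    (hu : UEE C u) : UEE C (v ≫ u) := by
  intro X' Z' i₁ i₂ f' H
  have w : f' ≫ i₂ = (i₁ ≫ v) ≫ u := H.w.trans (Category.assoc _ _ _).symm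
  have hl : pullback.lift f' (i₁ ≫ v) w ≫ pullback.fst i₂ u = f' := pullback.lift_fst _ _ _
  have H' : IsPullback (pullback.lift f' (i₁ ≫ v) w ≫ pullback.fst i₂ u) i₁ i₂ (v ≫ u) := by
    rw [hl]; exact H
  have hu' : UEE C (pullback.fst i₂ u) := hu.of_isPullback (IsPullback.of_hasPullback i₂ u)
  have hv' : UEE C (pullback.lift f' (i₁ ≫ v) w) :=
    hv.of_isPullback (H'.of_right (pullback.lift_snd _ _ _) (IsPullback.of_hasPullback i₂ u))
  have := hu'.effectiveEpi
  have := hv'.effectiveEpi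
  show EffectiveEpi f'
  rw [← hl]
  exact effectiveEpi_comp_of_ue _ _ hv'.ue

/-- If `v ≫ u` is a universal effective epimorphism then so is `u`. -/
theorem UEE.of_comp [HasPullbacks C] {U T S : C} (v : U ⟶ T) (u : T ⟶ S) (h : UEE C (v ≫ u)) :
    UEE C u := by
  intro X' Z' i₁ i₂ f' H
  -- X' = T ×_S Z'; form U' = U ×_T X'
  have H' : IsPullback (pullback.fst i₁ v ≫ f') (pullback.snd i₁ v) i₂ (v ≫ u) :=
    (IsPullback.of_hasPullback i₁ v).paste_horiz H
  have h' : UEE C (pullback.fst i₁ v ≫ f') := h.of_isPullback H'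
  have := h'.effectiveEpi
  refine effectiveEpi_of_comp (pullback.fst i₁ v) f' ?_
  exact (h'.of_isPullback (IsPullback.of_hasPullback f' (pullback.fst i₁ v ≫ f'))).epi

/-- Monomorphisms descend along universal epimorphisms. -/
theorem mono_of_isPullback_of_ue [HasPullbacks C] {X Y X' Y' : C} {g' : X' ⟶ Y'} {p : X' ⟶ X}
    {h : Y' ⟶ Y} {g : X ⟶ Y} (H : IsPullback g' p h g) (hh : UE C h) [Mono g'] : Mono g := by
  refine ⟨fun {Z} a b hab => ?_⟩
  have hπ : Epi (pullback.fst (a ≫ g) h) := hh _ _ _ (IsPullback.of_hasPullback (a ≫ g) h)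
  have wa : pullback.snd (a ≫ g) h ≫ h = (pullback.fst (a ≫ g) h ≫ a) ≫ g := by
    rw [Category.assoc, pullback.condition]
  have wb : pullback.snd (a ≫ g) h ≫ h = (pullback.fst (a ≫ g) h ≫ b) ≫ g := by
    rw [Category.assoc, ← hab, pullback.condition]
  have e : H.lift _ _ wa = H.lift _ _ wb := by
    rw [← cancel_mono g', H.lift_fst, H.lift_fst]
  have := congrArg (· ≫ p) e
  simp only [H.lift_snd] at this
  exact (cancel_epi _).1 this

/-- Isomorphisms descend along effective epimorphisms which are universal epimorphisms. -/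
theorem isIso_of_isPullback_of_ue [HasPullbacks C] {X Y X' Y' : C} {g' : X' ⟶ Y'} {p : X' ⟶ X}
    {h : Y' ⟶ Y} {g : X ⟶ Y} (H : IsPullback g' p h g) (hh : UE C h) [EffectiveEpi h]
    [IsIso g'] : IsIso g := by
  have hm : Mono g := mono_of_isPullback_of_ue H hh
  have hk : (inv g' ≫ p) ≫ g = h := by
    rw [Category.assoc, ← H.w, IsIso.inv_hom_id_assoc]
  have hc : ∀ {Z : C} (a b : Z ⟶ Y'), a ≫ h = b ≫ h → a ≫ inv g' ≫ p = b ≫ inv g' ≫ p := by
    intro Z a b hab
    have e1 : ∀ c : Z ⟶ Y', (c ≫ inv g' ≫ p) ≫ g = c ≫ h := fun c => by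
      rw [Category.assoc, hk]
    rw [← cancel_mono g, e1, e1, hab]
  refine ⟨EffectiveEpi.desc h (inv g' ≫ p) hc, ?_, ?_⟩
  · rw [← cancel_mono g, Category.assoc, Category.id_comp]
    have : EffectiveEpi.desc h (inv g' ≫ p) hc ≫ g = 𝟙 Y := by
      rw [← cancel_epi h, ← Category.assoc, EffectiveEpi.fac, hk, Category.comp_id]
    rw [this, Category.comp_id]
  · rw [← cancel_epi h, ← Category.assoc, EffectiveEpi.fac, hk, Category.comp_id]

lemma isPullback_overPullback_map [HasPullbacks C] {S' S : C} (f : S' ⟶ S) {X Y : Over S}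
    (g : X ⟶ Y) :
    IsPullback ((Over.pullback f).map g).left (pullback.fst X.hom f) (pullback.fst Y.hom f)
      g.left := by
  have h1 : IsPullback (pullback.snd Y.hom f) (pullback.fst Y.hom f) f Y.hom :=
    (IsPullback.of_hasPullback Y.hom f).flip
  have h2 : IsPullback (((Over.pullback f).map g).left ≫ pullback.snd Y.hom f)
      (pullback.fst X.hom f) f (g.left ≫ Y.hom) := by
    have e1 : ((Over.pullback f).map g).left ≫ pullback.snd Y.hom f = pullback.snd X.hom f :=
      pullback.lift_snd _ _ _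
    rw [e1, Over.w g]
    exact (IsPullback.of_hasPullback X.hom f).flip
  exact IsPullback.of_right h2 (pullback.lift_fst _ _ _) h1

/-- Descent of isomorphisms and monomorphisms along a universal effective epimorphism. -/
theorem isIso_iff_overPullback [HasPullbacks C] {S' S : C} (f : S' ⟶ S) (hf : UEE C f)
    {X Y : Over S} (g : X ⟶ Y) : IsIso g ↔ IsIso ((Over.pullback f).map g) := by
  constructor
  · intro _; infer_instance
  · intro hg
    have : IsIso ((Over.pullback f).map g).left :=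
      (Over.forget S').map_isIso ((Over.pullback f).map g)
    have hh : UEE C (pullback.fst Y.hom f) := hf.of_isPullback (IsPullback.of_hasPullback Y.hom f)
    have := hh.effectiveEpi
    have : IsIso g.left := isIso_of_isPullback_of_ue (isPullback_overPullback_map f g) hh.ue
    have : IsIso ((Over.forget S).map g) := ‹IsIso g.left›
    exact isIso_of_reflects_iso g (Over.forget S)

theorem mono_iff_overPullback [HasPullbacks C] {S' S : C} (f : S' ⟶ S) (hf : UEE C f)
    {X Y : Over S} (g : X ⟶ Y) : Mono g ↔ Mono ((Over.pullback f).map g) := by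
  constructor
  · intro _
    have : Mono g.left := inferInstance
    have : Mono ((Over.pullback f).map g).left := by
      refine ⟨fun {Z} a b hab => ?_⟩
      have H := isPullback_overPullback_map f g
      apply H.hom_ext hab
      rw [← cancel_mono g.left, Category.assoc, Category.assoc, ← H.w, reassoc_of% hab]
    exact Over.mono_of_mono_left _
  · intro hg
    have : Mono ((Over.pullback f).map g).left := inferInstance
    have hh : UEE C (pullback.fst Y.hom f) := hf.of_isPullback (IsPullback.of_hasPullback Y.hom f)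
    have : Mono g.left := mono_of_isPullback_of_ue (isPullback_overPullback_map f g) hh.ue
    exact Over.mono_of_mono_left _

/-- If `π` is a universal epimorphism and every pair coequalized by `π ≫ g` is coequalized by `π`,
then `g` is a monomorphism. -/
theorem mono_of_ue_of_forall [HasPullbacks C] {X B Z : C} {π : X ⟶ B} (hπ : UE C π) (g : B ⟶ Z)
    (h : ∀ {W : C} (b₁ b₂ : W ⟶ X), b₁ ≫ π ≫ g = b₂ ≫ π ≫ g → b₁ ≫ π = b₂ ≫ π) : Mono g := by
  refine ⟨fun {W} a b hab => ?_⟩
  obtain ⟨Q, ρ, b₁, b₂, hρ, hb₁, hb₂⟩ := hπ.exists_lifts a b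
  have := h b₁ b₂ (by rw [← Category.assoc, hb₁, ← Category.assoc, hb₂, Category.assoc,
    Category.assoc, hab])
  rw [hb₁, hb₂] at this
  exact (cancel_epi ρ).1 this

/-- Morphisms into a subobject descend along effective epimorphisms. -/
theorem exists_desc_of_mono {X' X Y S : C} (h : X' ⟶ X) [EffectiveEpi h] (x : X ⟶ S) (y : Y ⟶ S)
    [Mono y] (e : X' ⟶ Y) (he : e ≫ y = h ≫ x) : ∃ d : X ⟶ Y, h ≫ d = e ∧ d ≫ y = x := by
  have hc : ∀ {Z : C} (a b : Z ⟶ X'), a ≫ h = b ≫ h → a ≫ e = b ≫ e := by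
    intro Z a b hab
    rw [← cancel_mono y, Category.assoc, Category.assoc, he, ← Category.assoc, hab,
      Category.assoc]
  refine ⟨EffectiveEpi.desc h e hc, EffectiveEpi.fac h e hc, ?_⟩
  rw [← cancel_epi h, ← Category.assoc, EffectiveEpi.fac h e hc, he]

lemma isPullback_prod_map_id [HasBinaryProducts C] {A B : C} (f : A ⟶ B) (X : C) :
    IsPullback (prod.map f (𝟙 X)) prod.fst prod.fst f :=
  (IsPullback.of_prod_fst_with_id f X).flip

lemma isPullback_prod_id_map [HasBinaryProducts C] {A B : C} (f : A ⟶ B) (X : C) :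
    IsPullback (prod.map (𝟙 X) f) prod.snd prod.snd f := by
  refine IsPullback.mk' (prod.map_snd _ _) ?_ ?_
  · intro T φ φ' h1 h2
    apply Limits.prod.hom_ext
    · have := congrArg (· ≫ prod.fst) h1
      simp only [Category.assoc, prod.map_fst, Category.comp_id] at this
      exact this
    · exact h2
  · intro T a b hab
    refine ⟨prod.lift (a ≫ prod.fst) b, ?_, prod.lift_snd _ _⟩
    apply Limits.prod.hom_ext
    · rw [Category.assoc, prod.map_fst, Category.comp_id, prod.lift_fst]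
    · rw [Category.assoc, prod.map_snd, prod.lift_snd_assoc, hab]

/-- Products of universal effective epimorphisms are universal effective epimorphisms. -/
theorem UEE.prod_map [HasPullbacks C] [HasBinaryProducts C] {X Y X' Y' : C} {u : X ⟶ Y}
    {u' : X' ⟶ Y'} (hu : UEE C u) (hu' : UEE C u') : UEE C (prod.map u u') := by
  have e : prod.map u u' = prod.map u (𝟙 X') ≫ prod.map (𝟙 Y) u' := by
    rw [prod.map_map, Category.comp_id, Category.id_comp]
  rw [e]
  exact UEE.comp (hu.of_isPullback (isPullback_prod_map_id u X'))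
    (hu'.of_isPullback (isPullback_prod_id_map u' Y))

end Groth.Agent.Lib.Helper7
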