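import Mathlib
import Groth.Agent.Lib.Helper7DegL
import Groth.Agent.Lib.Helper24EnvSurj
import Groth.Agent.Lib.Helper24ComplDecomp
import Groth.Prelude.Def_Bivar

set_option autoImplicit false
set_option linter.style.haveILetI false
set_option linter.unusedVariables false
set_option linter.unusedSectionVars false
universe u
open CategoryTheory CategoryTheory.Limits AlgebraicGeometry IsLocalRing TopologicalSpace

namespace Groth.Agent.Lib.Helper7.CycEnv

open Groth.Agent.Lib.Helper7.CycSq Groth.Agent.Lib.Helper7.CycDeg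

section Cancel

/-- cancellation for induced dimension functions. -/
theorem deltaCompat_cancel {X Y Z : Scheme.{u}} (q : X ⟶ Y) (f : Y ⟶ Z) (δX : X → ℤ) (δY : Y → ℤ)
    (δZ : Z → ℤ) (hqf : Cyc.DeltaCompat (q ≫ f) δX δZ) (hf : Cyc.DeltaCompat f δY δZ) :
    Cyc.DeltaCompat q δX δY := by
  intro x
  obtain ⟨n, hn, hδn⟩ := hqf x
  obtain ⟨m, hm, hδm⟩ := hf (q x)
  let algYX : Algebra (Y.residueField (q x)) (X.residueField x) := (q.residueFieldMap x).hom.toAlgebra
  let algZY : Algebra (Z.residueField (f (q x))) (Y.residueField (q x)) :=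
    (f.residueFieldMap (q x)).hom.toAlgebra
  let algZX : Algebra (Z.residueField (f (q x))) (X.residueField x) :=
    ((q ≫ f).residueFieldMap x).hom.toAlgebra
  have hST : IsScalarTower (Z.residueField (f (q x))) (Y.residueField (q x)) (X.residueField x) :=
    IsScalarTower.of_algebraMap_eq' (by
      change ((q ≫ f).residueFieldMap x).hom = (q.residueFieldMap x).hom.comp (f.residueFieldMap (q x)).hom
      rw [Scheme.residueFieldMap_comp]; rfl)
  have h1 : FaithfulSMul (Z.residueField (f (q x))) (Y.residueField (q x)) :=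
    (faithfulSMul_iff_algebraMap_injective _ _).mpr (RingHom.injective _)
  have h2 : FaithfulSMul (Y.residueField (q x)) (X.residueField x) :=
    (faithfulSMul_iff_algebraMap_injective _ _).mpr (RingHom.injective _)
  have key := trdeg_add_eq (Z.residueField (f (q x))) (Y.residueField (q x)) (A := X.residueField x)
  have hn' : Algebra.trdeg (Z.residueField (f (q x))) (X.residueField x) = n := hn
  rw [hm, hn'] at key
  have hlt : Algebra.trdeg (Y.residueField (q x)) (X.residueField x) < Cardinal.aleph0 := by
    refine lt_of_le_of_lt ?_ (Cardinal.natCast_lt_aleph0 (n := n))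
    rw [← key]
    exact self_le_add_left _ _
  obtain ⟨c, hc⟩ := Cardinal.lt_aleph0.mp hlt
  refine ⟨c, hc, ?_⟩
  rw [hc] at key
  have hk : m + c = n := by exact_mod_cast key
  have hx : (q ≫ f) x = f (q x) := rfl
  rw [hx] at hδn
  rw [hδn, hδm, ← hk]
  push_cast
  ring

end Cancel


section Point

/-- explicit version of `Helper24ComplDecomp.residueFieldMap_surjective_of_comp`. -/
theorem residueFieldMap_surjective_of_comp' {P X' : Scheme.{u}} (s : P ⟶ X') (x' : X')
    (h : Spec (X'.residueField x') ⟶ P) (hs : h ≫ s = X'.fromSpecResidueField x') :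
    s (h (IsLocalRing.closedPoint (X'.residueField x'))) = x' ∧
      Function.Surjective (s.residueFieldMap
        (h (IsLocalRing.closedPoint (X'.residueField x')))).hom := by
  let K : Type u := X'.residueField x'
  let h' : Spec (.of K) ⟶ P := h
  let z : P := h' (IsLocalRing.closedPoint K)
  have hz : s z = x' := by
    change (h ≫ s) (IsLocalRing.closedPoint K) = x'
    rw [hs]
    exact Scheme.fromSpecResidueField_apply x' _
  refine ⟨hz, ?_⟩
  let ι : P.residueField z ⟶ .of K := Scheme.descResidueField (Scheme.stalkClosedPointTo h')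
  have h1 : Spec.map ι ≫ P.fromSpecResidueField z = h' :=
    Scheme.descResidueField_stalkClosedPointTo_fromSpecResidueField K P h'
  have h2 : Spec.map (s.residueFieldMap z ≫ ι) ≫ X'.fromSpecResidueField (s z) =
      X'.fromSpecResidueField x' := by
    rw [Spec.map_comp, Category.assoc, Scheme.Hom.SpecMap_residueFieldMap_fromSpecResidueField,
      ← Category.assoc, h1]
    exact hs
  let φ : X'.residueField x' ⟶ .of K :=
    (X'.residueFieldCongr hz.symm).hom ≫ s.residueFieldMap z ≫ ι
  have h3 : Spec.map φ ≫ X'.fromSpecResidueField x' = X'.fromSpecResidueField x' := by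
    change Spec.map ((X'.residueFieldCongr hz.symm).hom ≫ (s.residueFieldMap z ≫ ι)) ≫ _ = _
    rw [Spec.map_comp, Category.assoc, Scheme.residueFieldCongr_fromSpecResidueField, h2]
  have h4 : φ = 𝟙 _ := by
    have hmono : Mono (X'.fromSpecResidueField x') := inferInstance
    have : Spec.map φ = 𝟙 _ := by
      rw [← cancel_mono (X'.fromSpecResidueField x'), h3, Category.id_comp]
    rw [← Spec.map_id] at this
    exact Spec.map_injective this
  have hιinj : Function.Injective ι.hom := ι.hom.injective
  intro b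
  refine ⟨(X'.residueFieldCongr hz.symm).hom.hom (ι.hom b), ?_⟩
  apply hιinj
  have := congrArg (fun ψ => ψ.hom (ι.hom b)) h4
  exact this

/-- the point of `Y ×_X Y` over `(y, y₀)` when `κ(f y₀) = κ(y₀)`. -/
theorem exists_point_pullback {X Y : Scheme.{u}} (f : Y ⟶ X) (y y₀ : Y) (h0 : f y₀ = f y)
    (hsurj : Function.Surjective (f.residueFieldMap y₀).hom) :
    ∃ z : ↥(pullback f f), (pullback.fst f f) z = y ∧ (pullback.snd f f) z = y₀ ∧
      Function.Surjective ((pullback.fst f f).residueFieldMap z).hom := by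
  have hbij : Function.Bijective (f.residueFieldMap y₀).hom :=
    ⟨(f.residueFieldMap y₀).hom.injective, hsurj⟩
  let e : X.residueField (f y₀) ≅ Y.residueField y₀ :=
    (RingEquiv.ofBijective _ hbij).toCommRingCatIso
  have he : e.hom = f.residueFieldMap y₀ := rfl
  let ψ : Y.residueField y₀ ⟶ Y.residueField y :=
    e.inv ≫ (X.residueFieldCongr h0).hom ≫ f.residueFieldMap y
  let b : Spec (Y.residueField y) ⟶ Y := Spec.map ψ ≫ Y.fromSpecResidueField y₀
  have hb : b ≫ f = Y.fromSpecResidueField y ≫ f := by
    change (Spec.map ψ ≫ Y.fromSpecResidueField y₀) ≫ f = _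
    rw [Category.assoc, ← Scheme.Hom.SpecMap_residueFieldMap_fromSpecResidueField,
      ← Category.assoc, ← Spec.map_comp, ← he]
    change Spec.map (e.hom ≫ e.inv ≫ _) ≫ _ = _
    rw [Iso.hom_inv_id_assoc, Spec.map_comp, Category.assoc,
      Scheme.residueFieldCongr_fromSpecResidueField,
      Scheme.Hom.SpecMap_residueFieldMap_fromSpecResidueField]
  obtain ⟨h1, h2⟩ := residueFieldMap_surjective_of_comp' (pullback.fst f f) y
    (pullback.lift (Y.fromSpecResidueField y) b hb.symm) (pullback.lift_fst _ _ _)
  refine ⟨_, h1, ?_, h2⟩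
  change (pullback.lift (Y.fromSpecResidueField y) b hb.symm ≫ pullback.snd f f)
    (IsLocalRing.closedPoint (Y.residueField y)) = y₀
  rw [pullback.lift_snd]
  change (Y.fromSpecResidueField y₀) (Spec.map ψ (IsLocalRing.closedPoint (Y.residueField y))) = y₀
  exact Scheme.fromSpecResidueField_apply y₀ _

end Point


section Lift

open Groth.Agent.Lib.Helper24EnvSurj

open Classical in
/-- lifting a cycle along a section-like choice of points with trivial residue field extension. -/
theorem exists_lift_cycle {X Y : Scheme.{u}} (δ : X → ℤ) (δY : Y → ℤ) (f : Y ⟶ X) [QuasiCompact f]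
    (σ : X → Y) (hσ1 : ∀ x, f (σ x) = x)
    (hσ2 : ∀ x, Function.Surjective (f.residueFieldMap (σ x)).hom)
    (hδ : Cyc.DeltaCompat f δY δ) (k : ℤ)
    (α : AlgebraicCycle X ℤ) (hα : α ∈ Cyc.Zk X δ k) :
    ∃ β : AlgebraicCycle Y ℤ, β ∈ Cyc.Zk Y δY k ∧ AlgebraicCycle.map f δY δ β = α ∧
      ∀ y, β y = if y = σ (f y) then α (f y) else 0 := by
  let b : Y → ℤ := fun y => if y = σ (f y) then α (f y) else 0
  have hb_ne : ∀ y, b y ≠ 0 → y = σ (f y) ∧ α (f y) ≠ 0 := by
    intro y hy
    by_cases h : y = σ (f y)
    · refine ⟨h, ?_⟩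
      simpa [b, ← h] using hy
    · exact absurd (by simp [b, h]) hy
  let β : AlgebraicCycle Y ℤ :=
    { toFun := b
      supportWithinDomain' := Set.subset_univ _
      supportLocallyFiniteWithinDomain' := by
        intro y₀ _
        obtain ⟨t, ht, hfin⟩ := α.supportLocallyFiniteWithinDomain' (f y₀) trivial
        refine ⟨f ⁻¹' t, f.continuous.continuousAt ht, ?_⟩
        refine (hfin.image σ).subset ?_
        rintro y ⟨hyt, hy⟩
        obtain ⟨h1, h2⟩ := hb_ne y hy
        exact ⟨f y, ⟨hyt, h2⟩, h1.symm⟩ }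
  have hβ : ∀ y, β y = b y := fun _ => rfl
  refine ⟨β, ?_, ?_, hβ⟩
  · intro y hy
    by_contra hne
    obtain ⟨h1, h2⟩ := hb_ne y hne
    have hk : δ (f y) = k := by
      by_contra hk
      exact h2 (hα (f y) hk)
    have := (mapCoeff_eq_one f δ δY hδ y (by rw [h1]; exact hσ2 (f y))).1
    exact hy (this.trans hk)
  · ext z
    change ∑ᶠ y ∈ f ⁻¹' {z}, β y * ((AlgebraicCycle.mapCoeff f δY δ y : ℕ) : ℤ) = α z
    rw [finsum_mem_def, finsum_eq_single _ (σ z)]
    · have hmem : σ z ∈ f ⁻¹' {z} := hσ1 z
      rw [Set.indicator_of_mem hmem, hβ]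
      have h1 : b (σ z) = α z := by
        simp only [b, hσ1 z, if_true]
      have h2 := (mapCoeff_eq_one f δ δY hδ (σ z) (hσ2 z)).2
      rw [h1, h2]
      simp
    · intro y hy
      by_cases hmem : y ∈ f ⁻¹' {z}
      · rw [Set.indicator_of_mem hmem, hβ]
        have hfy : f y = z := hmem
        have : b y = 0 := by
          simp only [b, hfy]
          rw [if_neg hy]
        rw [this, zero_mul]
      · exact Set.indicator_of_notMem hmem _

/-- lifting a rational function along a point with trivial residue field extension. -/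
theorem exists_lift_divisor {X Y : Scheme.{u}} (f : Y ⟶ X) (x : X) (y : Y) (hy : f y = x)
    (hsurj : Function.Surjective (f.residueFieldMap y).hom) (g : X.residueField x) (hg : g ≠ 0) :
    ∃ g' : Y.residueField y, g' ≠ 0 ∧
      ∀ δ : X → ℤ, Cyc.divFun δ (f y) (Cyc.normGen f y g') = Cyc.divFun δ x g := by
  subst hy
  have hbij : Function.Bijective (f.residueFieldMap y).hom :=
    ⟨(f.residueFieldMap y).hom.injective, hsurj⟩
  refine ⟨(f.residueFieldMap y).hom g, ?_, ?_⟩
  · intro h
    exact hg (hbij.1 (h.trans (map_zero _).symm))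
  · intro δ
    rw [normGen_of_bijective f y hbij g]

end Lift

end Groth.Agent.Lib.Helper7.CycEnv
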