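import Mathlib
import Groth.Agent.Lib.Helper7EnvA
import Groth.Agent.S1859

set_option autoImplicit false
set_option linter.style.haveILetI false
set_option linter.unusedVariables false
set_option linter.unusedSectionVars false
universe u
open CategoryTheory CategoryTheory.Limits AlgebraicGeometry IsLocalRing TopologicalSpace

namespace Groth.Agent.Lib.Helper7.CycEnv

open Groth.Agent.Lib.Helper7.CycSq Groth.Agent.Lib.Helper7.CycDeg
  Groth.Agent.Lib.Helper24EnvSurj Groth.Agent.Lib.Helper2.CycFamily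

open scoped Classical in
theorem envelope_exact (X Y : Scheme.{u}) (δ : X → ℤ) (δY : Y → ℤ) (hX : Cyc.IsSetup X δ)
    (hY : Cyc.IsSetup Y δY) (f : Y ⟶ X) [IsProper f] (hcd : Cyc.IsCompletelyDecomposed f)
    (hδ : Cyc.DeltaCompat f δY δ) (δ2 : ↥(pullback f f) → ℤ)
    (h2 : Cyc.IsSetup (pullback f f) δ2) (hδ2 : Cyc.DeltaCompat (pullback.fst f f) δ2 δY)
    (k : ℤ) (β : AlgebraicCycle Y ℤ) (hβ : β ∈ Cyc.Zk Y δY k)
    (h0 : Cyc.RatEquivZero δ k (AlgebraicCycle.map f δY δ β)) :
    ∃ γ : AlgebraicCycle (pullback f f) ℤ, γ ∈ Cyc.Zk (pullback f f) δ2 k ∧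
      Cyc.RatEquiv δY k β (AlgebraicCycle.map (pullback.fst f f) δ2 δY γ -
        AlgebraicCycle.map (pullback.snd f f) δ2 δY γ) := by
  choose σ hσ1 hσ2 using hcd
  obtain ⟨ι, ξ, g, hξ, hg, hlf, hsum⟩ := h0
  have hlift := fun i => exists_lift_divisor f (ξ i) (σ (ξ i)) (hσ1 (ξ i)) (hσ2 (ξ i)) (g i) (hg i)
  choose g' hg' hdiv using hlift
  have hηδ : ∀ i, δY (σ (ξ i)) = k + 1 := fun i => by
    rw [(mapCoeff_eq_one f δ δY hδ (σ (ξ i)) (hσ2 _)).1, hσ1, hξ i]
  have hlfY : ∀ y : Y, ∃ U : Set Y, IsOpen U ∧ y ∈ U ∧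
      {i | (closure {σ (ξ i)} ∩ U).Nonempty}.Finite := by
    intro y
    obtain ⟨V, hVo, hyV, hfin⟩ := hlf (f y)
    refine ⟨(f : Y → X) ⁻¹' V, hVo.preimage f.continuous, hyV, hfin.subset ?_⟩
    rintro i ⟨w, hw1, hw2⟩
    refine ⟨f w, ?_, hw2⟩
    have := image_closure_subset_closure_image f.continuous (Set.mem_image_of_mem f hw1)
    rw [Set.image_singleton, hσ1] at this
    exact this
  haveI : IsLocallyNoetherian Y := hY.1
  obtain ⟨D, hD⟩ := exists_cycle_finsum_divFun δY hY.2.2 (fun i => σ (ξ i)) g' hg' hlfY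
  have hDk : D ∈ Cyc.Zk Y δY k := by
    intro y hy
    rw [hD y]
    apply finsum_eq_zero_of_forall_eq_zero
    intro i
    unfold Cyc.divFun
    rw [dif_neg]
    rintro ⟨_, h⟩
    apply hy
    have := hηδ i
    omega
  have hβ' : β - D ∈ Cyc.Zk Y δY k := by
    intro y hy
    show β y - D y = 0
    rw [hβ y hy, hDk y hy, sub_zero]
  -- push-forward of `β - D` vanishes
  have hpush : AlgebraicCycle.map f δY δ (β - D) = 0 := by
    ext x
    rw [map_apply']
    have h1 := map_sub_apply f δY δ β D x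
    rw [← h1]
    have h3 : (AlgebraicCycle.map f δY δ β - AlgebraicCycle.map f δY δ D) x =
      (AlgebraicCycle.map f δY δ β) x - (AlgebraicCycle.map f δY δ D) x := rfl
    rw [h3, map_apply' f δY δ D x,
      map_finsum_divFun f δY δ hY hX hδ k (fun i => σ (ξ i)) g' hηδ hg' hlfY (fun y => D y) hD x,
      hsum x]
    have hS : {i : ι | δ (f (σ (ξ i))) = k + 1} = Set.univ := by
      apply Set.eq_univ_of_forall
      intro i
      show δ (f (σ (ξ i))) = k + 1
      rw [hσ1, hξ i]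
    have h4 : ∑ᶠ j : ↥{i : ι | δ (f (σ (ξ i))) = k + 1},
          Cyc.divFun δ (f (σ (ξ j.1))) (Cyc.normGen f (σ (ξ j.1)) (g' j.1)) x =
        ∑ᶠ j : ↥{i : ι | δ (f (σ (ξ i))) = k + 1}, Cyc.divFun δ (ξ j.1) (g j.1) x :=
      finsum_congr (fun j => congrFun (hdiv j.1 δ) x)
    rw [h4, finsum_set_coe_eq_finsum_mem (f := fun i => Cyc.divFun δ (ξ i) (g i) x), hS,
      finsum_mem_univ, sub_self]
    rfl
  -- the points of `Y ×_X Y`
  have hpt := fun y => exists_point_pullback f y (σ (f y)) (hσ1 (f y)) (hσ2 (f y))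
  choose τ hτ1 hτ2 hτ3 using hpt
  obtain ⟨γ, hγk, hγmap, hγ⟩ := exists_lift_cycle δY δ2 (pullback.fst f f) τ hτ1 hτ3 hδ2 k
    (β - D) hβ'
  have hsnd : Cyc.DeltaCompat (pullback.snd f f) δ2 δY := by
    apply deltaCompat_cancel (pullback.snd f f) f δ2 δY δ _ hδ
    rw [← pullback.condition]
    exact Bivar.deltaCompat_comp (pullback.fst f f) f δ2 δY δ hδ2 hδ
  -- `θ = snd_* γ` vanishes
  have hθ1 : ∀ y' : Y, y' ≠ σ (f y') →
      (AlgebraicCycle.map (pullback.snd f f) δ2 δY γ) y' = 0 := by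
    intro y' hy'
    rw [map_apply']
    apply finsum_mem_eq_zero_of_forall_eq_zero
    intro z hz
    have hz' : (pullback.snd f f) z = y' := hz
    by_cases hγz : γ z = 0
    · rw [hγz, zero_mul]
    · exfalso
      apply hy'
      have h1 : z = τ ((pullback.fst f f) z) := by
        by_contra hne
        apply hγz
        rw [hγ z, if_neg hne]
      have h2 : f ((pullback.fst f f) z) = f ((pullback.snd f f) z) :=
        congrArg (fun h : pullback f f ⟶ X => h z) pullback.condition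
      have h3 : (pullback.snd f f) z = σ (f ((pullback.fst f f) z)) := by
        conv_lhs => rw [h1]
        exact hτ2 _
      exact hz'.symm.trans (h3.trans (by rw [h2, hz']))
  have hθ2 : AlgebraicCycle.map f δY δ (AlgebraicCycle.map (pullback.snd f f) δ2 δY γ) = 0 := by
    rw [Groth.Agent.S1859.result (pullback f f) Y X δ2 δY δ h2 hY hX (pullback.snd f f) f hsnd hδ k
      γ hγk, ← map_congr_hom pullback.condition δ2 δ γ,
      ← Groth.Agent.S1859.result (pullback f f) Y X δ2 δY δ h2 hY hX (pullback.fst f f) f hδ2 hδ k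
      γ hγk, hγmap, hpush]
  have hθ : AlgebraicCycle.map (pullback.snd f f) δ2 δY γ = 0 := by
    ext y'
    by_cases hy' : y' = σ (f y')
    · have h1 := congrArg (fun c : AlgebraicCycle X ℤ => c (f y')) hθ2
      simp only at h1
      rw [map_apply', finsum_mem_def, finsum_eq_single _ (σ (f y'))] at h1
      · have hmem : σ (f y') ∈ (f : Y → X) ⁻¹' {f y'} := hσ1 (f y')
        rw [Set.indicator_of_mem hmem,
          (mapCoeff_eq_one f δ δY hδ (σ (f y')) (hσ2 (f y'))).2] at h1
        rw [hy']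
        simpa using h1
      · intro y hy
        by_cases hmem : y ∈ (f : Y → X) ⁻¹' {f y'}
        · rw [Set.indicator_of_mem hmem]
          have hfy : f y = f y' := hmem
          rw [hθ1 y (by rw [hfy]; exact hy), zero_mul]
        · exact Set.indicator_of_notMem hmem _
    · exact hθ1 y' hy'
  refine ⟨γ, hγk, ι, fun i => σ (ξ i), g', hηδ, hg', hlfY, ?_⟩
  intro y
  rw [hγmap, hθ, sub_zero, sub_sub_cancel]
  exact hD y

end Groth.Agent.Lib.Helper7.CycEnv
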