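import Mathlib
import Groth.Prelude.Def_EssEt
import Groth.Agent.Lib.Helper3EssEt
import Groth.Agent.Lib.Helper3HenselLF
import Groth.Agent.Lib.Helper24LocEt
import Groth.Agent.Lib.Helper24G0

set_option autoImplicit false
universe u

namespace Groth.Agent.Lib.Helper7.EssEtCompl

open IsLocalRing TensorProduct

/-- a local étale algebra with local structure map is essentially étale -/
theorem isEssentiallyEtale_of_etale_local (R S : Type u) [CommRing R] [IsLocalRing R] [CommRing S]
    [IsLocalRing S] [Algebra R S] [IsLocalHom (algebraMap R S)] [Algebra.Etale R S] :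
    EGA4loc.IsEssentiallyEtale R S := by
  refine ⟨S, inferInstance, inferInstance, maximalIdeal S, inferInstance, inferInstance, ?_, ⟨?_⟩⟩
  · exact ((local_hom_TFAE (algebraMap R S)).out 0 4 rfl rfl).mp inferInstance
  · have h : ∀ x ∈ (maximalIdeal S).primeCompl, IsUnit x := by
      intro x hx
      by_contra hnu
      exact hx ((mem_maximalIdeal x).2 hnu)
    exact (IsLocalization.atUnits S (maximalIdeal S).primeCompl h).restrictScalars R

section main

variable (R A E : Type u) [CommRing R] [IsLocalRing R]
  [CommRing A] [IsLocalRing A] [IsNoetherianRing A]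
  [Algebra R A] [IsLocalHom (algebraMap R A)]
  [CommRing E] [IsLocalRing E] [Algebra A E] [IsLocalHom (algebraMap A E)]
  [Algebra R E] [IsScalarTower R A E]

omit [IsNoetherianRing A] [IsLocalHom (algebraMap A E)] in
theorem finite_of_isEssentiallyEtale (hA : HenselianLocalRing A)
    (hE : EGA4loc.IsEssentiallyEtale A E) : Module.Finite A E := by
  obtain ⟨C, _, _, q, _, hEt, hq, ⟨e⟩⟩ := hE
  haveI : q.LiesOver (maximalIdeal A) := ⟨hq.symm⟩
  haveI : Algebra.EssFiniteType A (Localization.AtPrime q) := Algebra.EssFiniteType.comp A C _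
  haveI : Algebra.FormallyUnramified A (Localization.AtPrime q) :=
    Algebra.FormallyUnramified.comp A C _
  haveI : Module.Finite A (Localization.AtPrime q) :=
    Groth.Agent.Lib.Helper3.Hensel.finite_localization_of_quasiFiniteAt q
  exact Module.Finite.equiv e.symm.toLinearEquiv

omit [IsNoetherianRing A] [IsLocalHom (algebraMap A E)] in
theorem flat_of_isEssentiallyEtale (hE : EGA4loc.IsEssentiallyEtale A E) : Module.Flat A E := by
  obtain ⟨C, _, _, q, _, hEt, hq, ⟨e⟩⟩ := hE
  haveI : Module.Flat C (Localization.AtPrime q) := IsLocalization.flat _ q.primeCompl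
  haveI : Module.Flat A (Localization.AtPrime q) := Module.Flat.trans A C _
  exact Module.Flat.of_linearEquiv e.toLinearEquiv


set_option maxHeartbeats 1000000 in
theorem main (hA : HenselianLocalRing A)
    (hres : Function.Bijective (ResidueField.map (algebraMap R A)))
    (hE : EGA4loc.IsEssentiallyEtale A E) :
    ∃ (S : Type u) (_ : CommRing S) (_ : IsLocalRing S) (_ : Algebra R S),
      Module.Finite R S ∧ Algebra.Etale R S ∧ Nonempty (E ≃ₐ[A] A ⊗[R] S) := by
  classical
  have hEft := Groth.Agent.Lib.Helper3.EssEt.essFiniteType_of_isEssentiallyEtale A E hE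
  have hEfe := Groth.Agent.Lib.Helper3.EssEt.formallyEtale_of_isEssentiallyEtale A E hE
  have hmE : (maximalIdeal A).map (algebraMap A E) = maximalIdeal E :=
    Groth.Agent.Lib.Helper3.EssEt.map_maximalIdeal A E hE
  have hfin : Module.Finite A E := finite_of_isEssentiallyEtale A E hA hE
  have hflat : Module.Flat A E := flat_of_isEssentiallyEtale A E hE
  have hEh : HenselianLocalRing E := Groth.Agent.Lib.Helper24G0.henselian_of_finite A E
  haveI hlocRE : IsLocalHom (algebraMap R E) := by
    rw [IsScalarTower.algebraMap_eq R A E]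
    exact RingHom.isLocalHom_comp _ _
  -- the residue field extension is finite separable
  haveI : Algebra.IsSeparable (ResidueField A) (ResidueField E) := inferInstance
  haveI : Module.Finite (ResidueField A) (ResidueField E) := inferInstance
  let eR : ResidueField A ≃+* ResidueField R := (RingEquiv.ofBijective _ hres).symm
  haveI : Algebra.IsSeparable (ResidueField R) (ResidueField E) := by
    refine Algebra.IsSeparable.of_equiv_equiv eR (RingEquiv.refl (ResidueField E)) ?_
    ext x
    obtain ⟨y, rfl⟩ := (RingEquiv.ofBijective _ hres).surjective x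
    obtain ⟨r, rfl⟩ := residue_surjective y
    simp only [RingHom.coe_comp, RingHom.coe_coe, Function.comp_apply, RingEquiv.refl_apply, eR,
      RingEquiv.symm_apply_apply]
    rw [RingEquiv.ofBijective_apply, ResidueField.map_residue]
    simp only [ResidueField.algebraMap_residue, ← IsScalarTower.algebraMap_apply]
  haveI : Module.Finite (ResidueField R) (ResidueField A) :=
    Module.Finite.of_surjective (Algebra.linearMap (ResidueField R) (ResidueField A)) hres.2
  haveI : Module.Finite (ResidueField R) (ResidueField E) :=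
    Module.Finite.trans (ResidueField A) (ResidueField E)
  obtain ⟨S, _, _, _, hlocS, hSfin, hSet, ⟨eκ⟩⟩ :=
    Groth.Agent.Lib.Helper24LocEt.exists_local_finite_etale R (ResidueField E)
  have hSee : EGA4loc.IsEssentiallyEtale R S := isEssentiallyEtale_of_etale_local R S
  have hmS : (maximalIdeal R).map (algebraMap R S) = maximalIdeal S :=
    Groth.Agent.Lib.Helper3.EssEt.map_maximalIdeal R S hSee
  -- lift the residue field isomorphism
  obtain ⟨ψ', ⟨hψloc, hψcomp, hψres⟩, -⟩ :=
    Groth.Agent.Lib.Helper3.EssEt.existsUnique_lift R S hSee E (algebraMap R E)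
      (eκ : ResidueField S →+* ResidueField E) (by
        ext x
        obtain ⟨r, rfl⟩ := residue_surjective x
        simp only [RingHom.coe_comp, RingHom.coe_coe, Function.comp_apply,
          ResidueField.map_residue]
        have := eκ.commutes (residue R r)
        rw [ResidueField.algebraMap_residue, ResidueField.algebraMap_residue] at this
        exact this)
  let ψS : S →ₐ[R] E := { ψ' with commutes' := fun r => RingHom.congr_fun hψcomp r }
  have hψS : ∀ s, ψS s = ψ' s := fun s => rfl
  let φ : A ⊗[R] S →ₐ[A] E :=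
    Algebra.TensorProduct.lift (Algebra.ofId A E) ψS (fun _ _ => Commute.all _ _)
  have hφ : ∀ (a : A) (s : S), φ (a ⊗ₜ s) = algebraMap A E a * ψ' s := by
    intro a s
    simp [φ, hψS, Algebra.ofId_apply]
  -- surjectivity
  have hsurj : Function.Surjective φ := by
    have hle : (⊤ : Submodule A E) ≤ LinearMap.range φ.toLinearMap ⊔
        (maximalIdeal A) • (⊤ : Submodule A E) := by
      intro e₀ _
      obtain ⟨z, hz⟩ := eκ.surjective (residue E e₀)
      obtain ⟨s, rfl⟩ := residue_surjective z
      have hmem : e₀ - ψ' s ∈ maximalIdeal E := by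
        rw [← residue_eq_zero_iff, map_sub, hψres, sub_eq_zero]
        exact hz.symm
      rw [← hmE] at hmem
      have hmem' : e₀ - ψ' s ∈ (maximalIdeal A) • (⊤ : Submodule A E) := by
        rw [Ideal.smul_top_eq_map]
        exact hmem
      have : e₀ = φ ((1 : A) ⊗ₜ s) + (e₀ - ψ' s) := by
        rw [hφ, map_one, one_mul]; ring
      rw [this]
      exact Submodule.add_mem_sup ⟨(1 : A) ⊗ₜ s, rfl⟩ hmem'
    have := Submodule.le_of_le_smul_of_le_jacobson_bot (Module.Finite.fg_top (R := A) (M := E))
      (maximalIdeal_le_jacobson ⊥) hle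
    intro e₀
    obtain ⟨t, ht⟩ := this (Submodule.mem_top (x := e₀))
    exact ⟨t, ht⟩
  -- the ideal `m_A T` is maximal
  set T := A ⊗[R] S with hT
  set IT : Ideal T := (maximalIdeal A).map (algebraMap A T) with hIT
  have hφIT : ∀ x ∈ IT, φ x ∈ maximalIdeal E := by
    have : IT ≤ (maximalIdeal E).comap φ.toRingHom := by
      rw [hIT, Ideal.map_le_iff_le_comap, Ideal.comap_comap]
      have : φ.toRingHom.comp (algebraMap A T) = algebraMap A E := φ.comp_algebraMap
      rw [this]
      exact ((local_hom_TFAE (algebraMap A E)).out 0 3 rfl rfl).mp inferInstance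
    exact fun x hx => this hx
  have hITne : IT ≠ ⊤ := by
    intro h
    have h1 : (1 : T) ∈ IT := h ▸ Submodule.mem_top
    have := hφIT 1 h1
    rw [map_one] at this
    exact (maximalIdeal.isMaximal E).ne_top ((Ideal.eq_top_iff_one _).2 this)
  let g : S →+* T ⧸ IT :=
    (Ideal.Quotient.mk IT).comp (Algebra.TensorProduct.includeRight (R := R) (A := A) (B := S)).toRingHom
  have hg : ∀ s, g s = Ideal.Quotient.mk IT ((1 : A) ⊗ₜ s) := fun s => rfl
  have hmem_IT : ∀ (a : A) (s : S), a ∈ maximalIdeal A → (a ⊗ₜ[R] s : T) ∈ IT := by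
    intro a s ha
    have : (a ⊗ₜ[R] s : T) = algebraMap A T a * ((1 : A) ⊗ₜ s) := by
      rw [Algebra.TensorProduct.algebraMap_apply, Algebra.TensorProduct.tmul_mul_tmul]
      simp
    rw [this]
    exact Ideal.mul_mem_right _ _ (Ideal.mem_map_of_mem _ ha)
  have hgsurj : Function.Surjective g := by
    intro y
    obtain ⟨t, rfl⟩ := Ideal.Quotient.mk_surjective y
    induction t using TensorProduct.induction_on with
    | zero => exact ⟨0, by simp⟩
    | add x y hx hy =>
      obtain ⟨sx, hsx⟩ := hx
      obtain ⟨sy, hsy⟩ := hy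
      exact ⟨sx + sy, by rw [map_add, hsx, hsy, map_add]⟩
    | tmul a s =>
      obtain ⟨z, hz⟩ := hres.2 (residue A a)
      obtain ⟨r, rfl⟩ := residue_surjective z
      rw [ResidueField.map_residue] at hz
      have hmem : a - algebraMap R A r ∈ maximalIdeal A := by
        rw [← residue_eq_zero_iff, map_sub, hz, sub_self]
      refine ⟨r • s, ?_⟩
      rw [hg, eq_comm, ← sub_eq_zero, ← map_sub, Ideal.Quotient.eq_zero_iff_mem]
      have : (a ⊗ₜ[R] s - (1 : A) ⊗ₜ[R] (r • s) : T) = (a - algebraMap R A r) ⊗ₜ[R] s := by
        rw [TensorProduct.sub_tmul, TensorProduct.tmul_smul, TensorProduct.smul_tmul',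
          Algebra.smul_def, mul_one]
      rw [this]
      exact hmem_IT _ _ hmem
  have hgker : (maximalIdeal S).map g = ⊥ := by
    rw [← hmS, Ideal.map_map, Ideal.map_eq_bot_iff_le_ker]
    intro r hr
    rw [RingHom.mem_ker, RingHom.comp_apply, hg, Ideal.Quotient.eq_zero_iff_mem]
    have : ((1 : A) ⊗ₜ[R] (algebraMap R S r) : T) = (algebraMap R A r) ⊗ₜ[R] (1 : S) := by
      rw [Algebra.algebraMap_eq_smul_one, Algebra.algebraMap_eq_smul_one, TensorProduct.tmul_smul,
        TensorProduct.smul_tmul']
    rw [this]
    exact hmem_IT _ _ (((local_hom_TFAE (algebraMap R A)).out 0 3 rfl rfl).mp inferInstance hr)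
  have hITmax : IT.IsMaximal := by
    rcases Ideal.map_eq_top_or_isMaximal_of_surjective g hgsurj (maximalIdeal.isMaximal S) with h | h
    · exfalso
      rw [hgker] at h
      have : (1 : T ⧸ IT) ∈ (⊥ : Ideal (T ⧸ IT)) := h ▸ Submodule.mem_top
      rw [Ideal.mem_bot, ← map_one (Ideal.Quotient.mk IT), Ideal.Quotient.eq_zero_iff_mem] at this
      exact hITne ((Ideal.eq_top_iff_one _).2 this)
    · rw [hgker] at h
      exact (Ideal.bot_quotient_isMaximal_iff IT).1 h
  -- injectivity
  have hinj : Function.Injective φ := by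
    rw [injective_iff_map_eq_zero]
    have : Module.Free A E := Module.free_of_flat_of_isLocalRing
    obtain ⟨σ, hσ⟩ := Module.projective_lifting_property φ.toLinearMap (LinearMap.id : E →ₗ[A] E)
      hsurj
    set K : Submodule A T := LinearMap.ker φ.toLinearMap with hK
    have hKIT : ∀ x ∈ K, x ∈ IT := by
      intro x hx
      by_contra hxn
      obtain ⟨y, i, hi, hyi⟩ := hITmax.exists_inv hxn
      have h1 := congrArg φ hyi
      have hx0 : φ x = 0 := LinearMap.mem_ker.1 hx
      rw [map_add, map_mul, map_one, hx0, mul_zero, zero_add] at h1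
      have := hφIT i hi
      rw [h1] at this
      exact (maximalIdeal.isMaximal E).ne_top ((Ideal.eq_top_iff_one _).2 this)
    let pr : T →ₗ[A] T := LinearMap.id - σ.comp φ.toLinearMap
    have hpr : ∀ t, pr t ∈ K := by
      intro t
      rw [hK, LinearMap.mem_ker]
      have this : φ (σ (φ t)) = φ t := LinearMap.congr_fun hσ (φ t)
      simp only [pr, LinearMap.sub_apply, LinearMap.id_coe, id_eq, LinearMap.coe_comp,
        Function.comp_apply, map_sub, AlgHom.toLinearMap_apply]
      rw [this, sub_self]
    have hprK : ∀ x ∈ K, pr x = x := by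
      intro x hx
      simp only [pr, LinearMap.sub_apply, LinearMap.id_coe, id_eq, LinearMap.coe_comp,
        Function.comp_apply, AlgHom.toLinearMap_apply]
      have hx0 : φ x = 0 := LinearMap.mem_ker.1 hx
      rw [hx0, map_zero, sub_zero]
    have hKle : K ≤ (maximalIdeal A) • K := by
      intro x hx
      have h1 : x ∈ (maximalIdeal A) • (⊤ : Submodule A T) := by
        rw [Ideal.smul_top_eq_map]
        exact hKIT x hx
      have h2 : pr x ∈ ((maximalIdeal A) • (⊤ : Submodule A T)).map pr :=
        Submodule.mem_map_of_mem h1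
      rw [Submodule.map_smul'', hprK x hx] at h2
      refine Submodule.smul_mono le_rfl ?_ h2
      rintro _ ⟨t, -, rfl⟩
      exact hpr t
    have : Module.Finite A T := inferInstance
    have : IsNoetherian A T := isNoetherian_of_isNoetherianRing_of_finite A T
    have hKbot : K = ⊥ :=
      Submodule.eq_bot_of_le_smul_of_le_jacobson_bot (maximalIdeal A) K (IsNoetherian.noetherian K)
        hKle (maximalIdeal_le_jacobson ⊥)
    intro x hx
    have : x ∈ K := LinearMap.mem_ker.2 hx
    rw [hKbot] at this
    exact (Submodule.mem_bot A).1 this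
  exact ⟨S, inferInstance, inferInstance, inferInstance, hSfin, hSet,
    ⟨(AlgEquiv.ofBijective φ ⟨hinj, hsurj⟩).symm⟩⟩

end main

end Groth.Agent.Lib.Helper7.EssEtCompl
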