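import Mathlib

/-! # Étale coordinates inducing an isomorphism of residue fields over a base with finite residue
field (helper7) -/

set_option autoImplicit false
set_option linter.style.haveILetI false
universe u
open TensorProduct IsLocalRing KaehlerDifferential

namespace Groth.Agent.Lib.Helper7.EtChart

theorem finite_quotient (k : Type u) [CommRing k] [IsLocalRing k] [Finite (ResidueField k)]
    (R : Type u) [CommRing R] [Algebra k R] [Algebra.FiniteType k R]
    (m : Ideal R) [m.IsMaximal] (hm : m.comap (algebraMap k R) = maximalIdeal k) :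
    Finite (R ⧸ m) := by
  haveI : m.LiesOver (maximalIdeal k) := ⟨hm.symm⟩
  letI : Field (R ⧸ m) := Ideal.Quotient.field m
  letI : Field (k ⧸ maximalIdeal k) := Ideal.Quotient.field _
  haveI : Finite (k ⧸ maximalIdeal k) := inferInstanceAs (Finite (ResidueField k))
  haveI : Algebra.FiniteType (k ⧸ maximalIdeal k) (R ⧸ m) :=
    Algebra.FiniteType.of_restrictScalars_finiteType k (k ⧸ maximalIdeal k) (R ⧸ m)
  haveI : Module.Finite (k ⧸ maximalIdeal k) (R ⧸ m) :=
    finite_of_finite_type_of_isJacobsonRing (k ⧸ maximalIdeal k) (R ⧸ m)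
  exact Module.finite_of_finite (k ⧸ maximalIdeal k)


section JZ

variable (k : Type u) [CommRing k] (d : ℕ) (T : Type u) [CommRing T] [Algebra k T]
  [Algebra (MvPolynomial (Fin d) k) T] [IsScalarTower k (MvPolynomial (Fin d) k) T]

/-- `T ⊗ Ω_{P/k} → Ω_{T/k}` in terms of the basis `dX_i` -/
theorem mapBaseChange_eq :
    (KaehlerDifferential.mapBaseChange k (MvPolynomial (Fin d) k) T) =
      (Finsupp.linearCombination T (fun i : Fin d =>
        D k T (algebraMap (MvPolynomial (Fin d) k) T (MvPolynomial.X i)))) ∘ₗ
      ((KaehlerDifferential.mvPolynomialBasis k (Fin d)).baseChange T).repr.toLinearMap := by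
  apply ((KaehlerDifferential.mvPolynomialBasis k (Fin d)).baseChange T).ext
  intro i
  simp only [LinearMap.comp_apply, LinearEquiv.coe_coe, Module.Basis.repr_self,
    Finsupp.linearCombination_single, one_smul]
  simp only [Module.Basis.baseChange_apply,
    KaehlerDifferential.mvPolynomialBasis_apply, KaehlerDifferential.mapBaseChange_tmul,
    one_smul, KaehlerDifferential.map_D]

theorem formallyEtale_of_bijective [Algebra.FormallySmooth k T]
    (hb : Function.Bijective (Finsupp.linearCombination T (fun i : Fin d =>
      D k T (algebraMap (MvPolynomial (Fin d) k) T (MvPolynomial.X i))))) :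
    Algebra.FormallyEtale (MvPolynomial (Fin d) k) T := by
  have hl : Function.Bijective (KaehlerDifferential.mapBaseChange k (MvPolynomial (Fin d) k) T) := by
    rw [mapBaseChange_eq]
    exact hb.comp (LinearEquiv.bijective _)
  rw [Algebra.formallyEtale_iff]
  constructor
  · refine ⟨fun a b => ?_⟩
    obtain ⟨a', rfl⟩ := KaehlerDifferential.map_surjective k (MvPolynomial (Fin d) k) T a
    obtain ⟨b', rfl⟩ := KaehlerDifferential.map_surjective k (MvPolynomial (Fin d) k) T b
    obtain ⟨a'', rfl⟩ := hl.2 a'
    obtain ⟨b'', rfl⟩ := hl.2 b'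
    rw [(KaehlerDifferential.exact_mapBaseChange_map k (MvPolynomial (Fin d) k) T _).mpr ⟨a'', rfl⟩,
      (KaehlerDifferential.exact_mapBaseChange_map k (MvPolynomial (Fin d) k) T _).mpr ⟨b'', rfl⟩]
  · have key : ∀ x : Algebra.H1Cotangent (MvPolynomial (Fin d) k) T, x = 0 := by
      intro x
      have h1 : Algebra.H1Cotangent.δ k (MvPolynomial (Fin d) k) T x = 0 := by
        apply hl.1
        rw [map_zero]
        exact (Algebra.H1Cotangent.exact_δ_mapBaseChange k (MvPolynomial (Fin d) k) T _).mpr ⟨x, rfl⟩
      obtain ⟨y, rfl⟩ := (Algebra.H1Cotangent.exact_map_δ k (MvPolynomial (Fin d) k) T x).mp h1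
      rw [Subsingleton.elim y 0, map_zero]
    exact ⟨fun a b => by rw [key a, key b]⟩

end JZ

section Residue

variable (k R : Type u) [CommRing k] [CommRing R] [Algebra k R] (m : Ideal R) [m.IsMaximal]

/-- the vectors `1 ⊗ d(a/1)`, `a ∈ m` -/
noncomputable def resD (a : R) : m.ResidueField ⊗[Localization.AtPrime m] Ω[Localization.AtPrime m⁄k] :=
  (1 : m.ResidueField) ⊗ₜ[Localization.AtPrime m]
    D k (Localization.AtPrime m) (algebraMap R (Localization.AtPrime m) a)

theorem tmul_D_mem_of_mem_maximalIdeal (u : Localization.AtPrime m)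
    (hu : u ∈ maximalIdeal (Localization.AtPrime m)) :
    (1 : m.ResidueField) ⊗ₜ[Localization.AtPrime m] D k (Localization.AtPrime m) u ∈
      Submodule.span m.ResidueField (Set.range fun a : m => resD k R m a) := by
  obtain ⟨a, s, rfl⟩ := IsLocalization.exists_mk'_eq m.primeCompl u
  have ha : a ∈ m := by
    have h1 : algebraMap R (Localization.AtPrime m) a ∈ maximalIdeal (Localization.AtPrime m) := by
      rw [← IsLocalization.mk'_spec (Localization.AtPrime m) a s]
      exact Ideal.mul_mem_right _ _ hu
    exact (IsLocalization.AtPrime.to_map_mem_maximal_iff (Localization.AtPrime m) m a).mp h1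
  set u := IsLocalization.mk' (Localization.AtPrime m) a s with hudef
  have hs : algebraMap R (Localization.AtPrime m) a = u * algebraMap R (Localization.AtPrime m) s :=
    (IsLocalization.mk'_spec (Localization.AtPrime m) a s).symm
  have hsu : IsUnit (algebraMap R (Localization.AtPrime m) (s : R)) :=
    IsLocalization.map_units (Localization.AtPrime m) s
  have hres : residue (Localization.AtPrime m) u = 0 := (residue_eq_zero_iff _).mpr hu
  have h2 : resD k R m a = (residue (Localization.AtPrime m)
      (algebraMap R (Localization.AtPrime m) (s : R))) •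
        ((1 : m.ResidueField) ⊗ₜ[Localization.AtPrime m] D k (Localization.AtPrime m) u) := by
    rw [resD, hs, Derivation.leibniz, TensorProduct.tmul_add, TensorProduct.tmul_smul,
      TensorProduct.tmul_smul, TensorProduct.smul_tmul', TensorProduct.smul_tmul',
      TensorProduct.smul_tmul', Algebra.smul_def, mul_one, Algebra.smul_def, mul_one]
    change (residue _ u) ⊗ₜ[Localization.AtPrime m] _ + _ = _
    rw [hres, TensorProduct.zero_tmul, zero_add, smul_eq_mul, mul_one]
    rfl
  have hru : IsUnit (residue (Localization.AtPrime m)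
      (algebraMap R (Localization.AtPrime m) (s : R))) := hsu.map _
  have h3 : (1 : m.ResidueField) ⊗ₜ[Localization.AtPrime m] D k (Localization.AtPrime m) u =
      (hru.unit⁻¹ : m.ResidueFieldˣ).1 • resD k R m a := by
    rw [h2, smul_smul, IsUnit.val_inv_mul, one_smul]
  rw [h3]
  exact Submodule.smul_mem _ _ (Submodule.subset_span ⟨⟨a, ha⟩, rfl⟩)

theorem tmul_D_mem [Finite (R ⧸ m)] (t : Localization.AtPrime m) :
    (1 : m.ResidueField) ⊗ₜ[Localization.AtPrime m] D k (Localization.AtPrime m) t ∈
      Submodule.span m.ResidueField (Set.range fun a : m => resD k R m a) := by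
  classical
  haveI : Fintype m.ResidueField := Fintype.ofFinite _
  set q := Fintype.card m.ResidueField with hq
  have hq0 : ((q : ℕ) : m.ResidueField) = 0 := FiniteField.cast_card_eq_zero m.ResidueField
  have hqpos : 0 < q := Fintype.card_pos
  have hu : t ^ q - t ∈ maximalIdeal (Localization.AtPrime m) := by
    rw [← residue_eq_zero_iff, map_sub, map_pow]
    have := FiniteField.pow_card (residue (Localization.AtPrime m) t)
    rw [this, sub_self]
  have h1 := tmul_D_mem_of_mem_maximalIdeal k R m _ hu
  have h2 : (1 : m.ResidueField) ⊗ₜ[Localization.AtPrime m]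
      D k (Localization.AtPrime m) (t ^ q - t) =
      - ((1 : m.ResidueField) ⊗ₜ[Localization.AtPrime m] D k (Localization.AtPrime m) t) := by
    rw [map_sub, Derivation.leibniz_pow, TensorProduct.tmul_sub, TensorProduct.tmul_smul,
      TensorProduct.tmul_smul, ← Nat.cast_smul_eq_nsmul m.ResidueField, TensorProduct.smul_tmul',
      hq0, zero_smul, zero_sub]
  rw [h2] at h1
  exact (Submodule.neg_mem_iff _).mp h1

theorem span_resD [Finite (R ⧸ m)] :
    Submodule.span m.ResidueField (Set.range fun a : m => resD k R m a) = ⊤ := by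
  rw [eq_top_iff]
  rintro x -
  induction x using TensorProduct.induction_on with
  | zero => exact Submodule.zero_mem _
  | add x y hx hy => exact Submodule.add_mem _ hx hy
  | tmul c ω =>
    have hω : ω ∈ Submodule.span (Localization.AtPrime m)
        (Set.range (D k (Localization.AtPrime m))) := by
      rw [KaehlerDifferential.span_range_derivation]; trivial
    induction hω using Submodule.span_induction with
    | mem y hy =>
      obtain ⟨t, rfl⟩ := hy
      have : c ⊗ₜ[Localization.AtPrime m] D k (Localization.AtPrime m) t =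
          c • ((1 : m.ResidueField) ⊗ₜ[Localization.AtPrime m] D k (Localization.AtPrime m) t) := by
        rw [TensorProduct.smul_tmul', smul_eq_mul, mul_one]
      rw [this]
      exact Submodule.smul_mem _ _ (tmul_D_mem k R m t)
    | zero => rw [TensorProduct.tmul_zero]; exact Submodule.zero_mem _
    | add y z _ _ hy hz => rw [TensorProduct.tmul_add]; exact Submodule.add_mem _ hy hz
    | smul t y _ hy =>
      have : c ⊗ₜ[Localization.AtPrime m] (t • y) =
          (residue (Localization.AtPrime m) t) • (c ⊗ₜ[Localization.AtPrime m] y) := by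
        rw [TensorProduct.tmul_smul, TensorProduct.smul_tmul', TensorProduct.smul_tmul',
          Algebra.smul_def, smul_eq_mul]
        rfl
      rw [this]
      exact Submodule.smul_mem _ _ hy

/-- `dim_κ (κ ⊗_T Ω_{T/k}) = dim_{R/m} (R/m ⊗_R Ω_{R/k})` for `T = R_m` -/
theorem finrank_residue_tensor :
    Module.finrank m.ResidueField (m.ResidueField ⊗[Localization.AtPrime m]
        Ω[Localization.AtPrime m⁄k]) =
      Module.finrank (R ⧸ m) ((R ⧸ m) ⊗[R] Ω[R⁄k]) := by
  letI : Field (R ⧸ m) := Ideal.Quotient.field m
  let e1 : Localization.AtPrime m ⊗[R] Ω[R⁄k] ≃ₗ[Localization.AtPrime m]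
      Ω[Localization.AtPrime m⁄k] :=
    (IsLocalizedModule.isBaseChange m.primeCompl (Localization.AtPrime m)
      (KaehlerDifferential.map k k R (Localization.AtPrime m))).equiv
  let e2 : m.ResidueField ⊗[Localization.AtPrime m] Ω[Localization.AtPrime m⁄k] ≃ₗ[m.ResidueField]
      m.ResidueField ⊗[Localization.AtPrime m] (Localization.AtPrime m ⊗[R] Ω[R⁄k]) :=
    TensorProduct.AlgebraTensorModule.congr (LinearEquiv.refl _ _) e1.symm
  let e3 := TensorProduct.AlgebraTensorModule.cancelBaseChange R (Localization.AtPrime m)
    m.ResidueField m.ResidueField Ω[R⁄k]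
  let e4 := TensorProduct.AlgebraTensorModule.cancelBaseChange R (R ⧸ m)
    m.ResidueField m.ResidueField Ω[R⁄k]
  rw [LinearEquiv.finrank_eq (e2.trans (e3.trans e4.symm))]
  exact Module.finrank_baseChange


end Residue


section Main

variable (k R : Type u) [CommRing k] [CommRing R] [Algebra k R] (m : Ideal R) [m.IsMaximal]

theorem resD_add (x y : R) : resD k R m (x + y) = resD k R m x + resD k R m y := by
  rw [resD, resD, resD, map_add, map_add, TensorProduct.tmul_add]

theorem resD_pow_card [Fintype m.ResidueField] (x : R) :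
    resD k R m (x ^ Fintype.card m.ResidueField) = 0 := by
  have hq0 : ((Fintype.card m.ResidueField : ℕ) : m.ResidueField) = 0 :=
    FiniteField.cast_card_eq_zero m.ResidueField
  rw [resD, map_pow, Derivation.leibniz_pow, TensorProduct.tmul_smul,
    ← Nat.cast_smul_eq_nsmul m.ResidueField, hq0, zero_smul]

theorem exists_coords [Finite (R ⧸ m)] (d : ℕ) (hd : 0 < d)
    (hdim : Module.finrank (R ⧸ m) ((R ⧸ m) ⊗[R] Ω[R⁄k]) = d) :
    ∃ a : Fin d → R, (∀ i, a i ∈ m) ∧
      LinearIndependent m.ResidueField (fun i => resD k R m (a i)) ∧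
      Submodule.span m.ResidueField (Set.range fun i => resD k R m (a i)) = ⊤ := by
  obtain ⟨B, hBsub, hBspan, hBli⟩ :=
    exists_linearIndependent m.ResidueField (Set.range fun a : m => resD k R m a)
  rw [span_resD] at hBspan
  let bas : Module.Basis B m.ResidueField
      (m.ResidueField ⊗[Localization.AtPrime m] Ω[Localization.AtPrime m⁄k]) :=
    Module.Basis.mk hBli (by rw [Subtype.range_coe, hBspan])
  have hcard : Nat.card B = d := by
    rw [← Module.finrank_eq_nat_card_basis bas, finrank_residue_tensor, hdim]
  haveI : Finite B := Nat.finite_of_card_ne_zero (by rw [hcard]; exact hd.ne')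
  let e : Fin d ≃ B := (Finite.equivFinOfCardEq hcard).symm
  have hex : ∀ i : Fin d, ∃ a : m, resD k R m a = (e i : _) := fun i => hBsub (e i).2
  choose a ha using hex
  refine ⟨fun i => (a i : R), fun i => (a i).2, ?_, ?_⟩
  · have h1 : (fun i => resD k R m (a i)) = (Subtype.val : B → _) ∘ e := by
      funext i; exact ha i
    rw [h1]
    exact hBli.comp e e.injective
  · have h1 : (Set.range fun i => resD k R m (a i)) = B := by
      ext x
      constructor
      · rintro ⟨i, rfl⟩
        show resD k R m (a i) ∈ B
        rw [ha i]; exact (e i).2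
      · intro hx
        refine ⟨e.symm ⟨x, hx⟩, ?_⟩
        show resD k R m (a (e.symm ⟨x, hx⟩)) = x
        rw [ha, Equiv.apply_symm_apply]
    rw [h1, hBspan]

theorem isEtaleAt_of_coords [Algebra.FiniteType k R] [Algebra.IsSmoothAt k m] (d : ℕ)
    [Algebra (MvPolynomial (Fin d) k) R] [IsScalarTower k (MvPolynomial (Fin d) k) R]
    (hli : LinearIndependent m.ResidueField
      (fun i : Fin d => resD k R m (algebraMap (MvPolynomial (Fin d) k) R (MvPolynomial.X i))))
    (hspan : Submodule.span m.ResidueField (Set.range fun i : Fin d =>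
      resD k R m (algebraMap (MvPolynomial (Fin d) k) R (MvPolynomial.X i))) = ⊤) :
    Algebra.IsEtaleAt (MvPolynomial (Fin d) k) m := by
  haveI : IsScalarTower k (MvPolynomial (Fin d) k) (Localization.AtPrime m) := by
    refine IsScalarTower.of_algebraMap_eq fun x => ?_
    rw [IsScalarTower.algebraMap_apply k R (Localization.AtPrime m),
      IsScalarTower.algebraMap_apply k (MvPolynomial (Fin d) k) R,
      ← IsScalarTower.algebraMap_apply (MvPolynomial (Fin d) k) R (Localization.AtPrime m)]
  haveI : Algebra.EssFiniteType k (Localization.AtPrime m) :=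
    Algebra.EssFiniteType.comp k R (Localization.AtPrime m)
  haveI : Module.Finite (Localization.AtPrime m) Ω[Localization.AtPrime m⁄k] := inferInstance
  haveI : Algebra.FormallySmooth k (Localization.AtPrime m) := ‹Algebra.IsSmoothAt k m›
  show Algebra.FormallyEtale (MvPolynomial (Fin d) k) (Localization.AtPrime m)
  apply formallyEtale_of_bijective k d (Localization.AtPrime m)
  apply Module.IsLocalRing.linearCombination_bijective_of_flat
  have hv : (TensorProduct.mk (Localization.AtPrime m) (ResidueField (Localization.AtPrime m))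
      Ω[Localization.AtPrime m⁄k] 1 ∘ fun i : Fin d => D k (Localization.AtPrime m)
        (algebraMap (MvPolynomial (Fin d) k) (Localization.AtPrime m) (MvPolynomial.X i))) =
      fun i : Fin d => resD k R m (algebraMap (MvPolynomial (Fin d) k) R (MvPolynomial.X i)) := by
    funext i
    simp only [Function.comp_apply, TensorProduct.mk_apply, resD]
    rw [IsScalarTower.algebraMap_apply (MvPolynomial (Fin d) k) R (Localization.AtPrime m)]
  rw [hv]
  refine ⟨hli, ?_⟩
  rw [← LinearMap.range_eq_top, Finsupp.range_linearCombination]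
  exact hspan

theorem exists_etale_chart (k : Type u) [CommRing k] [IsLocalRing k] [Finite (ResidueField k)]
    (R : Type u) [CommRing R] [Algebra k R] [Algebra.FinitePresentation k R]
    (m : Ideal R) [m.IsMaximal] (hm : m.comap (algebraMap k R) = maximalIdeal k)
    [Algebra.IsSmoothAt k m] (d : ℕ) (hd : 0 < d)
    (hdim : Module.finrank (R ⧸ m) ((R ⧸ m) ⊗[R] Ω[R⁄k]) = d) :
    ∃ g : R, g ∉ m ∧ ∃ φ : MvPolynomial (Fin d) k →ₐ[k] Localization.Away g,
      φ.toRingHom.Etale ∧ Function.Surjective
        ((Ideal.Quotient.mk (m.map (algebraMap R (Localization.Away g)))).comp φ.toRingHom) := by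
  classical
  haveI hfinE : Finite (R ⧸ m) := finite_quotient k R m hm
  letI : Field (R ⧸ m) := Ideal.Quotient.field m
  haveI : Fintype m.ResidueField := Fintype.ofFinite _
  obtain ⟨a, ham, hli, hspan⟩ := exists_coords k R m d hd hdim
  obtain ⟨θ, hθ⟩ := IsCyclic.exists_monoid_generator (α := (R ⧸ m)ˣ)
  obtain ⟨θ', hθ'⟩ := Ideal.Quotient.mk_surjective (θ : R ⧸ m)
  set q := Fintype.card m.ResidueField with hq
  let i0 : Fin d := ⟨0, hd⟩
  let f' : Fin d → R := fun i => a i + (if i = i0 then θ' ^ q else 0)
  have hres : ∀ i, resD k R m (f' i) = resD k R m (a i) := by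
    intro i
    simp only [f']
    rw [resD_add]
    split_ifs
    · rw [resD_pow_card, add_zero]
    · have : resD k R m 0 = 0 := by rw [resD, map_zero, map_zero, tmul_zero]
      rw [this, add_zero]
  have hpow : ∀ x : R ⧸ m, x ^ q = x := by
    intro x
    apply Ideal.injective_algebraMap_quotient_residueField m
    rw [map_pow, hq, FiniteField.pow_card]
  have hf0 : Ideal.Quotient.mk m (f' i0) = θ := by
    simp only [f', if_pos, map_add, map_pow, hθ', hpow]
    rw [Ideal.Quotient.eq_zero_iff_mem.mpr (ham i0), zero_add]
  letI algPR : Algebra (MvPolynomial (Fin d) k) R :=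
    (MvPolynomial.aeval f' : MvPolynomial (Fin d) k →ₐ[k] R).toRingHom.toAlgebra
  haveI : IsScalarTower k (MvPolynomial (Fin d) k) R :=
    IsScalarTower.of_algebraMap_eq fun x => ((MvPolynomial.aeval f').commutes x).symm
  have hX : ∀ i, algebraMap (MvPolynomial (Fin d) k) R (MvPolynomial.X i) = f' i :=
    fun i => MvPolynomial.aeval_X f' i
  haveI : Algebra.FinitePresentation (MvPolynomial (Fin d) k) R :=
    Algebra.FinitePresentation.of_restrict_scalars_finitePresentation k _ _
  haveI : Algebra.IsEtaleAt (MvPolynomial (Fin d) k) m := by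
    apply isEtaleAt_of_coords k R m d
    · simp only [hX, hres]; exact hli
    · simp only [hX, hres]; exact hspan
  obtain ⟨g, hg, hEt⟩ := Algebra.exists_etale_of_isEtaleAt (R := MvPolynomial (Fin d) k) m
  haveI : IsScalarTower k (MvPolynomial (Fin d) k) (Localization.Away g) := by
    refine IsScalarTower.of_algebraMap_eq fun x => ?_
    rw [IsScalarTower.algebraMap_apply k R (Localization.Away g),
      IsScalarTower.algebraMap_apply k (MvPolynomial (Fin d) k) R,
      ← IsScalarTower.algebraMap_apply (MvPolynomial (Fin d) k) R (Localization.Away g)]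
  refine ⟨g, hg, IsScalarTower.toAlgHom k _ _, ?_, ?_⟩
  · show (algebraMap (MvPolynomial (Fin d) k) (Localization.Away g)).Etale
    exact RingHom.etale_algebraMap.mpr hEt
  · have hmapmem : ∀ x y : R, x - y ∈ m →
        Ideal.Quotient.mk (m.map (algebraMap R (Localization.Away g)))
          (algebraMap R (Localization.Away g) x) =
        Ideal.Quotient.mk (m.map (algebraMap R (Localization.Away g)))
          (algebraMap R (Localization.Away g) y) := by
      intro x y hxy
      rw [Ideal.Quotient.eq, ← map_sub]
      exact Ideal.mem_map_of_mem _ hxy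
    have key : ∀ r : R, ∃ p : MvPolynomial (Fin d) k,
        Ideal.Quotient.mk (m.map (algebraMap R (Localization.Away g)))
          (algebraMap (MvPolynomial (Fin d) k) (Localization.Away g) p) =
        Ideal.Quotient.mk (m.map (algebraMap R (Localization.Away g)))
          (algebraMap R (Localization.Away g) r) := by
      intro r
      by_cases hr : r ∈ m
      · refine ⟨0, ?_⟩
        rw [map_zero, map_zero, eq_comm, Ideal.Quotient.eq_zero_iff_mem]
        exact Ideal.mem_map_of_mem _ hr
      · have hr0 : Ideal.Quotient.mk m r ≠ 0 := by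
          rwa [Ne, Ideal.Quotient.eq_zero_iff_mem]
        obtain ⟨n, hn⟩ := Submonoid.mem_powers_iff _ _ |>.mp (hθ (Units.mk0 _ hr0))
        have hn' : Ideal.Quotient.mk m (f' i0 ^ n) = Ideal.Quotient.mk m r := by
          rw [map_pow, hf0]
          have := congrArg Units.val hn
          simpa using this
        refine ⟨MvPolynomial.X i0 ^ n, ?_⟩
        rw [IsScalarTower.algebraMap_apply (MvPolynomial (Fin d) k) R (Localization.Away g),
          map_pow, hX]
        exact hmapmem _ _ (Ideal.Quotient.eq.mp hn')
    intro y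
    obtain ⟨z, rfl⟩ := Ideal.Quotient.mk_surjective y
    obtain ⟨r, s, rfl⟩ := IsLocalization.exists_mk'_eq (Submonoid.powers g) z
    obtain ⟨n, hn⟩ := s.2
    -- an inverse of `g` modulo `m`
    have hg0 : Ideal.Quotient.mk m g ≠ 0 := by rwa [Ne, Ideal.Quotient.eq_zero_iff_mem]
    obtain ⟨h, hh⟩ := Ideal.Quotient.mk_surjective (Ideal.Quotient.mk m g)⁻¹
    have hgh : (g * h) ^ n - 1 ∈ m := by
      rw [← Ideal.Quotient.eq, map_pow, map_mul, hh, mul_inv_cancel₀ hg0, one_pow, map_one]
    obtain ⟨p, hp⟩ := key (r * h ^ n)
    refine ⟨p, ?_⟩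
    show Ideal.Quotient.mk _ (algebraMap (MvPolynomial (Fin d) k) (Localization.Away g) p) = _
    rw [hp, Ideal.Quotient.eq]
    have hs : algebraMap R (Localization.Away g) (g ^ n) *
        IsLocalization.mk' (Localization.Away g) r s = algebraMap R (Localization.Away g) r := by
      have := IsLocalization.mk'_spec' (Localization.Away g) r s
      rw [← hn] at this
      exact this
    have : algebraMap R (Localization.Away g) (r * h ^ n) -
        IsLocalization.mk' (Localization.Away g) r s =
        algebraMap R (Localization.Away g) ((g * h) ^ n - 1) *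
          IsLocalization.mk' (Localization.Away g) r s := by
      rw [map_sub, map_one, sub_mul, one_mul, mul_pow, map_mul (algebraMap R (Localization.Away g))
        (g ^ n), mul_right_comm, hs, map_mul]
    rw [this]
    exact Ideal.mul_mem_right _ _ (Ideal.mem_map_of_mem _ hgh)

end Main

end Groth.Agent.Lib.Helper7.EtChart
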