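import Mathlib
import Groth.Prelude.Def_Exal2
import Groth.Agent.Lib.Helper7ExalBaer

/-! Extensions of a local ring by its residue field: constructor from a generator of the kernel,
lifting along small extensions. -/

set_option linter.unusedSectionVars false
set_option linter.style.haveILetI false

open Exal IsLocalRing

universe u v w

namespace Groth.Agent.Lib.Helper7.ExalLib


section Gen

variable {Λ : Type u} {R : Type v} [CommRing Λ] [CommRing R] [Algebra Λ R] [IsLocalRing R]
variable {E : Type v} [CommRing E] [Algebra Λ E] (p : E →ₐ[Λ] R) (ε : E)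

/-- the residue map of `R` composed with `p` -/
noncomputable def genRes : E →+* IsLocalRing.ResidueField R :=
  (IsLocalRing.residue R).comp (p : E →+* R)

lemma genRes_apply (e : E) : genRes p e = IsLocalRing.residue R (p e) := rfl

lemma genRes_surjective (hp : Function.Surjective p) : Function.Surjective (genRes p) :=
  (IsLocalRing.residue_surjective).comp hp

lemma mem_ker_genRes (e : E) : e ∈ RingHom.ker (genRes p) ↔ p e ∈ IsLocalRing.maximalIdeal R := by
  rw [RingHom.mem_ker, genRes_apply, IsLocalRing.residue_eq_zero_iff]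

/-- multiplication by `ε` on `E / ker` -/
noncomputable def genMul (hann : ∀ e, p e ∈ IsLocalRing.maximalIdeal R → e * ε = 0) :
    E ⧸ RingHom.ker (genRes p) →+ E :=
  (Submodule.liftQ (RingHom.ker (genRes p)) (LinearMap.mulRight E ε) (by
    intro e he
    rw [LinearMap.mem_ker, LinearMap.mulRight_apply]
    exact hann e ((mem_ker_genRes p e).1 he))).toAddMonoidHom

lemma genMul_mk (hann : ∀ e, p e ∈ IsLocalRing.maximalIdeal R → e * ε = 0) (e : E) :
    genMul p ε hann (Ideal.Quotient.mk _ e) = e * ε := rfl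

/-- the inclusion of the residue field -/
noncomputable def genIncl (hp : Function.Surjective p)
    (hann : ∀ e, p e ∈ IsLocalRing.maximalIdeal R → e * ε = 0) :
    IsLocalRing.ResidueField R →+ E :=
  (genMul p ε hann).comp
    (RingHom.quotientKerEquivOfSurjective (genRes_surjective p hp)).symm.toAddMonoidHom

lemma genIncl_residue (hp : Function.Surjective p)
    (hann : ∀ e, p e ∈ IsLocalRing.maximalIdeal R → e * ε = 0) (e : E) :
    genIncl p ε hp hann (IsLocalRing.residue R (p e)) = e * ε := by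
  have h1 : (RingHom.quotientKerEquivOfSurjective (genRes_surjective p hp)).symm
      (IsLocalRing.residue R (p e)) = Ideal.Quotient.mk _ e := by
    rw [RingEquiv.symm_apply_eq]
    rfl
  change genMul p ε hann ((RingHom.quotientKerEquivOfSurjective (genRes_surjective p hp)).symm
      (IsLocalRing.residue R (p e))) = _
  rw [h1, genMul_mk]

/-- the extension of `R` by its residue field with middle ring `E`, kernel generated by `ε` -/
noncomputable def extOfGen (hp : Function.Surjective p)
    (hker : ∀ x, p x = 0 → ∃ e, x = e * ε) (hε : p ε = 0)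
    (hann : ∀ e, e * ε = 0 ↔ p e ∈ IsLocalRing.maximalIdeal R) :
    Exal.Ext Λ R (IsLocalRing.ResidueField R) where
  E := E
  proj := p
  incl := genIncl p ε hp (fun e he => (hann e).2 he)
  isExtension :=
    { proj_surjective := hp
      incl_injective := by
        rw [injective_iff_map_eq_zero]
        intro z hz
        obtain ⟨r, rfl⟩ := IsLocalRing.residue_surjective z
        obtain ⟨e, rfl⟩ := hp r
        rw [genIncl_residue] at hz
        rw [IsLocalRing.residue_eq_zero_iff]
        exact (hann e).1 hz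
      exact := fun x => by
        constructor
        · intro hx
          obtain ⟨e, rfl⟩ := hker x hx
          exact ⟨IsLocalRing.residue R (p e), genIncl_residue p ε hp _ e⟩
        · rintro ⟨z, rfl⟩
          obtain ⟨r, rfl⟩ := IsLocalRing.residue_surjective z
          obtain ⟨e, rfl⟩ := hp r
          rw [genIncl_residue, map_mul, hε, mul_zero]
      mul_incl := fun x z => by
        obtain ⟨r, rfl⟩ := IsLocalRing.residue_surjective z
        obtain ⟨e, rfl⟩ := hp r
        have h1 : p x • IsLocalRing.residue R (p e) = IsLocalRing.residue R (p (x * e)) := by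
          rw [map_mul, map_mul, Algebra.smul_def]
          rfl
        rw [h1, genIncl_residue, genIncl_residue, mul_assoc] }

end Gen



section Lift

variable {k : Type w} [Field k] {Λ : Type u} [CommRing Λ] [Algebra k Λ]
  {R : Type v} [CommRing R] [Algebra Λ R] [IsLocalRing R]

theorem lift_small_of_forall_isTrivial
    (hall : ∀ X : Exal.Ext Λ R (ResidueField R), X.IsTrivial)
    (B : Type v) [CommRing B] [Algebra Λ B] [IsLocalRing B]
    (hB : ∀ b : B, ∃ c : k, b - algebraMap Λ B (algebraMap k Λ c) ∈ maximalIdeal B)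
    (t : B) (ht : t ∈ maximalIdeal B) (htm : ∀ b ∈ maximalIdeal B, b * t = 0)
    (φ : R →ₐ[Λ] B ⧸ Ideal.span {t}) :
    ∃ φ' : R →ₐ[Λ] B, (Ideal.Quotient.mkₐ Λ (Ideal.span {t})).comp φ' = φ := by
  by_cases ht0 : t = 0
  · have hbij : Function.Bijective (Ideal.Quotient.mkₐ Λ (Ideal.span {t})) := by
      refine ⟨?_, Ideal.Quotient.mkₐ_surjective Λ _⟩
      rw [injective_iff_map_eq_zero]
      intro b hb
      rw [Ideal.Quotient.mkₐ_eq_mk, Ideal.Quotient.eq_zero_iff_mem, ht0, Ideal.mem_span_singleton'] at hb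
      obtain ⟨a, ha⟩ := hb
      rw [← ha, mul_zero]
    let e := AlgEquiv.ofBijective (Ideal.Quotient.mkₐ Λ (Ideal.span {t})) hbij
    refine ⟨(e.symm : _ →ₐ[Λ] B).comp φ, ?_⟩
    ext r
    change e (e.symm (φ r)) = φ r
    rw [AlgEquiv.apply_symm_apply]
  · have hspan : Ideal.span {t} ≤ maximalIdeal B := by
      rw [Ideal.span_le, Set.singleton_subset_iff]; exact ht
    let ψ : R →+* ResidueField B := (Ideal.Quotient.factor hspan).comp (φ : R →+* B ⧸ Ideal.span {t})
    have hψ : ∀ r b, φ r = Ideal.Quotient.mk _ b → ψ r = residue B b := by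
      intro r b h
      change Ideal.Quotient.factor hspan (φ r) = _
      rw [h, Ideal.Quotient.factor_mk]
      rfl
    have hψsurj : Function.Surjective ψ := by
      intro x
      obtain ⟨b, rfl⟩ := residue_surjective x
      obtain ⟨c, hc⟩ := hB b
      refine ⟨algebraMap Λ R (algebraMap k Λ c), ?_⟩
      rw [hψ _ (algebraMap Λ B (algebraMap k Λ c)) (by rw [AlgHom.commutes]; rfl)]
      rw [eq_comm, ← sub_eq_zero, ← map_sub, residue_eq_zero_iff]
      exact hc
    have hker : RingHom.ker ψ = maximalIdeal R :=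
      eq_maximalIdeal (RingHom.ker_isMaximal_of_surjective ψ hψsurj)
    have key : ∀ r b, φ r = Ideal.Quotient.mk _ b → (r ∈ maximalIdeal R ↔ b ∈ maximalIdeal B) := by
      intro r b h
      rw [← hker, RingHom.mem_ker, hψ r b h, residue_eq_zero_iff]
    -- the fibre product
    let F : Subalgebra Λ (R × B) :=
      AlgHom.equalizer (φ.comp (AlgHom.fst Λ R B))
        ((Ideal.Quotient.mkₐ Λ (Ideal.span {t})).comp (AlgHom.snd Λ R B))
    have hF : ∀ x : R × B, x ∈ F ↔ φ x.1 = Ideal.Quotient.mk _ x.2 := by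
      intro x
      change x ∈ AlgHom.equalizer _ _ ↔ _
      rw [AlgHom.mem_equalizer]
      rfl
    let p : F →ₐ[Λ] R := (AlgHom.fst Λ R B).comp F.val
    have hp1 : ∀ x : F, p x = (x : R × B).1 := fun x => rfl
    have hεmem : ((0, t) : R × B) ∈ F := by
      rw [hF]
      change φ 0 = Ideal.Quotient.mk _ t
      rw [map_zero, eq_comm, Ideal.Quotient.eq_zero_iff_mem]
      exact Ideal.mem_span_singleton_self t
    let ε : F := ⟨(0, t), hεmem⟩
    have hp : Function.Surjective p := by
      intro r
      obtain ⟨b, hb⟩ := Ideal.Quotient.mk_surjective (φ r)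
      exact ⟨⟨(r, b), (hF _).2 hb.symm⟩, rfl⟩
    have hkerp : ∀ x, p x = 0 → ∃ e, x = e * ε := by
      intro x hx
      rw [hp1] at hx
      have h1 := (hF _).1 x.2
      rw [hx, map_zero, eq_comm, Ideal.Quotient.eq_zero_iff_mem, Ideal.mem_span_singleton'] at h1
      obtain ⟨c, hc⟩ := h1
      obtain ⟨κ, hκ⟩ := hB c
      have h2 := htm _ hκ
      rw [sub_mul, sub_eq_zero] at h2
      refine ⟨algebraMap Λ F (algebraMap k Λ κ), ?_⟩
      apply Subtype.ext
      apply Prod.ext
      · change (x : R × B).1 = algebraMap Λ R (algebraMap k Λ κ) * 0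
        rw [mul_zero, hx]
      · change (x : R × B).2 = algebraMap Λ B (algebraMap k Λ κ) * t
        rw [← h2, hc]
    have hε : p ε = 0 := rfl
    have hann : ∀ e, e * ε = 0 ↔ p e ∈ maximalIdeal R := by
      intro e
      rw [key (p e) (e : R × B).2 ((hF _).1 e.2)]
      constructor
      · intro h
        have h1 : (e : R × B).2 * t = 0 := congrArg (fun y : F => (y : R × B).2) h
        by_contra hne
        have hu : IsUnit (e : R × B).2 := by
          rw [mem_maximalIdeal, mem_nonunits_iff, not_not] at hne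
          exact hne
        exact ht0 ((hu.mul_right_eq_zero).1 h1)
      · intro h
        apply Subtype.ext
        apply Prod.ext
        · change (e : R × B).1 * 0 = 0
          rw [mul_zero]
        · change (e : R × B).2 * t = 0
          exact htm _ h
    obtain ⟨s, hs⟩ := hall (extOfGen p ε hp hkerp hε hann)
    let s' : R →ₐ[Λ] F := s
    have hs' : ∀ r, ((s' r : F) : R × B).1 = r := hs
    refine ⟨(AlgHom.snd Λ R B).comp (F.val.comp s'), ?_⟩
    ext r
    change Ideal.Quotient.mk _ ((s' r : F) : R × B).2 = φ r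
    rw [← (hF _).1 (s' r).2, hs']

end Lift



section ResExt

variable {Λ : Type u} [CommRing Λ] {R : Type v} [CommRing R] [Algebra Λ R] [IsLocalRing R]
  (X : Exal.Ext Λ R (ResidueField R))

/-- the generator of the kernel -/
noncomputable def gen : X.E := X.incl 1

lemma mul_gen (e : X.E) : e * gen X = X.incl (residue R (X.proj e)) := by
  rw [gen, X.isExtension.mul_incl, Algebra.smul_def, mul_one]
  rfl

lemma incl_eq_mul_gen (z : ResidueField R) : ∃ e, X.incl z = e * gen X := by
  obtain ⟨r, rfl⟩ := residue_surjective z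
  obtain ⟨e, rfl⟩ := X.isExtension.proj_surjective r
  exact ⟨e, (mul_gen X e).symm⟩

lemma mul_gen_eq_zero_iff (e : X.E) : e * gen X = 0 ↔ X.proj e ∈ maximalIdeal R := by
  rw [mul_gen, ← residue_eq_zero_iff]
  constructor
  · intro h
    exact X.isExtension.incl_injective (h.trans (map_zero _).symm)
  · intro h
    rw [h, map_zero]

lemma gen_ne_zero : gen X ≠ 0 := by
  intro h
  have := X.isExtension.incl_injective (h.trans (map_zero X.incl).symm)
  exact one_ne_zero this

lemma proj_gen : X.proj (gen X) = 0 := proj_incl X 1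

lemma isUnit_of_isUnit_proj (a : X.E) (h : IsUnit (X.proj a)) : IsUnit a := by
  obtain ⟨r, hr⟩ := h.exists_right_inv
  obtain ⟨a', rfl⟩ := X.isExtension.proj_surjective r
  have h1 : X.proj (a * a' - 1) = 0 := by rw [map_sub, map_mul, hr, map_one, sub_self]
  obtain ⟨z, hz⟩ := (X.isExtension.exact _).1 h1
  have h2 : X.incl z * X.incl z = 0 := incl_mul_incl X z z
  have h3 : a * a' = 1 + X.incl z := by rw [hz]; ring
  refine IsUnit.of_mul_eq_one (a' * (1 - X.incl z)) ?_
  rw [← mul_assoc, h3]
  linear_combination (-1 : X.E) * h2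

instance isLocalHom_proj : IsLocalHom (X.proj : X.E →+* R) :=
  ⟨fun a ha => isUnit_of_isUnit_proj X a ha⟩

theorem isLocalRing_E : IsLocalRing X.E := RingHom.domain_isLocalRing (X.proj : X.E →+* R)

lemma mem_maximalIdeal_E_iff [IsLocalRing X.E] (e : X.E) :
    e ∈ maximalIdeal X.E ↔ X.proj e ∈ maximalIdeal R := by
  rw [mem_maximalIdeal, mem_maximalIdeal, mem_nonunits_iff, mem_nonunits_iff, not_iff_not]
  exact ⟨fun h => h.map X.proj, isUnit_of_isUnit_proj X e⟩

/-- submodules of the kernel are zero or everything -/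
lemma gen_mem_of_ne_zero (N : Ideal X.E) (x : X.E) (hx : x ∈ N) (hx0 : x ≠ 0) (hpx : X.proj x = 0) :
    gen X ∈ N := by
  obtain ⟨z, rfl⟩ := (X.isExtension.exact x).1 hpx
  have hz : z ≠ 0 := by
    rintro rfl
    exact hx0 (map_zero _)
  obtain ⟨r, hr⟩ := residue_surjective z⁻¹
  obtain ⟨e, rfl⟩ := X.isExtension.proj_surjective r
  have h1 : e * X.incl z = gen X := by
    rw [X.isExtension.mul_incl, Algebra.smul_def]
    change X.incl (residue R (X.proj e) * z) = _
    rw [hr, inv_mul_cancel₀ hz]
    rfl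
  rw [← h1]
  exact N.mul_mem_left e hx

theorem isNoetherianRing_E [IsNoetherianRing R] : IsNoetherianRing X.E := by
  rw [isNoetherianRing_iff_ideal_fg]
  intro I
  have h1 : (Ideal.map (X.proj : X.E →+* R) I).FG := IsNoetherian.noetherian _
  obtain ⟨T, hT⟩ := h1
  have hT' : ∀ t ∈ T, ∃ e ∈ I, X.proj e = t := by
    intro t ht
    have : t ∈ Ideal.map (X.proj : X.E →+* R) I := by
      rw [← hT]; exact Ideal.subset_span ht
    exact (Ideal.mem_map_iff_of_surjective (X.proj : X.E →+* R) X.isExtension.proj_surjective).1 this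
  choose! f hfI hfp using hT'
  classical
  let S : Finset X.E := T.image f
  have hSI : Ideal.span (S : Set X.E) ≤ I := by
    rw [Ideal.span_le]
    intro s hs
    rw [Finset.mem_coe, Finset.mem_image] at hs
    obtain ⟨t, ht, rfl⟩ := hs
    exact hfI t ht
  have hmap : Ideal.map (X.proj : X.E →+* R) I ≤ Ideal.map (X.proj : X.E →+* R) (Ideal.span (S : Set X.E)) := by
    rw [← hT, Ideal.span_le]
    intro t ht
    rw [← hfp t ht]
    exact Ideal.mem_map_of_mem _ (Ideal.subset_span (Finset.mem_coe.2 (Finset.mem_image_of_mem f ht)))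
  by_cases hK : ∃ x ∈ I, x ≠ 0 ∧ X.proj x = 0
  · obtain ⟨x0, hx0I, hx00, hx0p⟩ := hK
    have hgen : gen X ∈ I := gen_mem_of_ne_zero X I x0 hx0I hx00 hx0p
    refine ⟨insert (gen X) S, le_antisymm ?_ ?_⟩
    · rw [Finset.coe_insert, Ideal.span_le]
      intro s hs
      rcases hs with rfl | hs
      · exact hgen
      · exact hSI (Ideal.subset_span hs)
    · intro x hx
      have h2 := hmap (Ideal.mem_map_of_mem _ hx)
      obtain ⟨y, hy, hyx⟩ := (Ideal.mem_map_iff_of_surjective (X.proj : X.E →+* R)
        X.isExtension.proj_surjective).1 h2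
      have h3 : X.proj (x - y) = 0 := by
        rw [map_sub]
        exact sub_eq_zero.2 hyx.symm
      obtain ⟨z, hz⟩ := (X.isExtension.exact _).1 h3
      obtain ⟨e, he⟩ := incl_eq_mul_gen X z
      have h4 : x = y + e * gen X := by rw [← he, hz]; ring
      rw [h4, Finset.coe_insert]
      refine Ideal.add_mem _ (Ideal.span_mono (Set.subset_insert _ _) hy) ?_
      exact Ideal.mul_mem_left _ _ (Ideal.subset_span (Set.mem_insert _ _))
  · push Not at hK
    refine ⟨S, le_antisymm hSI ?_⟩
    intro x hx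
    have h2 := hmap (Ideal.mem_map_of_mem _ hx)
    obtain ⟨y, hy, hyx⟩ := (Ideal.mem_map_iff_of_surjective (X.proj : X.E →+* R)
      X.isExtension.proj_surjective).1 h2
    have h3 : X.proj (x - y) = 0 := by
      rw [map_sub]
      exact sub_eq_zero.2 hyx.symm
    have h4 : x - y = 0 := by
      by_contra hne
      exact hK (x - y) (I.sub_mem hx (hSI hy)) hne h3
    rw [sub_eq_zero.1 h4]
    exact hy

end ResExt



section Triv

variable {k : Type w} [Field k] {Λ : Type u} [CommRing Λ] [Algebra k Λ]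
  {R : Type v} [CommRing R] [Algebra Λ R] [IsLocalRing R] [IsNoetherianRing R]

theorem isTrivial_of_lift_small
    (hR : ∀ r : R, ∃ c : k, r - algebraMap Λ R (algebraMap k Λ c) ∈ maximalIdeal R)
    (hlift : ∀ (B : Type v) [CommRing B] [Algebra Λ B] [IsLocalRing B] [IsArtinianRing B],
      (∀ b : B, ∃ c : k, b - algebraMap Λ B (algebraMap k Λ c) ∈ maximalIdeal B) →
      ∀ t : B, t ∈ maximalIdeal B → (∀ b ∈ maximalIdeal B, b * t = 0) →
      ∀ φ : R →ₐ[Λ] B ⧸ Ideal.span {t},
        ∃ φ' : R →ₐ[Λ] B, (Ideal.Quotient.mkₐ Λ (Ideal.span {t})).comp φ' = φ)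
    (X : Exal.Ext Λ R (ResidueField R)) : X.IsTrivial := by
  haveI : IsLocalRing X.E := isLocalRing_E X
  haveI : IsNoetherianRing X.E := isNoetherianRing_E X
  set ε := gen X with hεdef
  -- Krull
  have hkrull : ⨅ i, maximalIdeal X.E ^ i = ⊥ :=
    Ideal.iInf_pow_eq_bot_of_isLocalRing _ (Ideal.IsMaximal.ne_top inferInstance)
  obtain ⟨n, hn⟩ : ∃ n, ε ∉ maximalIdeal X.E ^ n := by
    by_contra hcon
    push Not at hcon
    have : ε ∈ ⨅ i, maximalIdeal X.E ^ i := by
      rw [Ideal.mem_iInf]; exact hcon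
    rw [hkrull, Ideal.mem_bot] at this
    exact gen_ne_zero X this
  set I : Ideal X.E := maximalIdeal X.E ^ n with hI
  have hItop : I ≠ ⊤ := by
    intro h
    apply hn
    rw [h]
    trivial
  have hIle : I ≤ maximalIdeal X.E := le_maximalIdeal hItop
  -- the intersection of I with the kernel is zero
  have hinter : ∀ x ∈ I, X.proj x = 0 → x = 0 := by
    intro x hx hpx
    by_contra hx0
    exact hn (gen_mem_of_ne_zero X I x hx hx0 hpx)
  -- the Artinian quotient
  let B := X.E ⧸ I
  haveI : Nontrivial B := Ideal.Quotient.nontrivial_iff.2 hItop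
  haveI : IsLocalRing B := IsLocalRing.of_surjective' (Ideal.Quotient.mk I) Ideal.Quotient.mk_surjective
  have hmB : (maximalIdeal X.E).map (Ideal.Quotient.mk I) = maximalIdeal B :=
    map_maximalIdeal_of_surjective (Ideal.Quotient.mk I) Ideal.Quotient.mk_surjective
  haveI : IsArtinianRing B := by
    rw [isArtinianRing_iff_isNilpotent_maximalIdeal]
    refine ⟨n, ?_⟩
    rw [← hmB, ← Ideal.map_pow]
    exact Ideal.map_quotient_self I
  have hmB' : ∀ b : B, b ∈ maximalIdeal B → ∃ e ∈ maximalIdeal X.E, Ideal.Quotient.mk I e = b := by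
    intro b hb
    rw [← hmB] at hb
    exact (Ideal.mem_map_iff_of_surjective _ Ideal.Quotient.mk_surjective).1 hb
  have hmk_mem : ∀ e ∈ maximalIdeal X.E, Ideal.Quotient.mk I e ∈ maximalIdeal B := by
    intro e he
    rw [← hmB]
    exact Ideal.mem_map_of_mem _ he
  have hB : ∀ b : B, ∃ c : k, b - algebraMap Λ B (algebraMap k Λ c) ∈ maximalIdeal B := by
    intro b
    obtain ⟨e, rfl⟩ := Ideal.Quotient.mk_surjective b
    obtain ⟨c, hc⟩ := hR (X.proj e)
    refine ⟨c, ?_⟩
    have h1 : e - algebraMap Λ X.E (algebraMap k Λ c) ∈ maximalIdeal X.E := by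
      rw [mem_maximalIdeal_E_iff, map_sub, AlgHom.commutes]
      exact hc
    exact hmk_mem _ h1
  let t : B := Ideal.Quotient.mk I ε
  have hεm : ε ∈ maximalIdeal X.E := by
    rw [mem_maximalIdeal_E_iff, proj_gen]
    exact zero_mem _
  have ht : t ∈ maximalIdeal B := hmk_mem ε hεm
  have htm : ∀ b ∈ maximalIdeal B, b * t = 0 := by
    intro b hb
    obtain ⟨e, he, rfl⟩ := hmB' b hb
    change Ideal.Quotient.mk I e * Ideal.Quotient.mk I ε = 0
    rw [← map_mul, (mul_gen_eq_zero_iff X e).2 ((mem_maximalIdeal_E_iff X e).1 he), map_zero]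
  -- the map R → B/t
  let ψ : X.E →ₐ[Λ] B ⧸ Ideal.span {t} :=
    (Ideal.Quotient.mkₐ Λ (Ideal.span {t})).comp (Ideal.Quotient.mkₐ Λ I)
  have hψ : ∀ z, ψ (X.incl z) = 0 := by
    intro z
    obtain ⟨e, he⟩ := incl_eq_mul_gen X z
    rw [he]
    change Ideal.Quotient.mk (Ideal.span {t}) (Ideal.Quotient.mk I (e * ε)) = 0
    rw [Ideal.Quotient.eq_zero_iff_mem, map_mul]
    exact Ideal.mul_mem_left _ _ (Ideal.mem_span_singleton_self t)
  obtain ⟨φ, hφ⟩ := exists_lift_of_incl_eq_zero X ψ hψ
  obtain ⟨φ', hφ'⟩ := hlift B hB t ht htm φ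
  have hφ'' : ∀ r, Ideal.Quotient.mk (Ideal.span {t}) (φ' r) = φ r := fun r => congrArg (fun f => f r) hφ'
  -- the graph
  let G : Subalgebra Λ X.E := AlgHom.equalizer (Ideal.Quotient.mkₐ Λ I) (φ'.comp X.proj)
  have hG : ∀ e : X.E, e ∈ G ↔ Ideal.Quotient.mk I e = φ' (X.proj e) := by
    intro e
    change e ∈ AlgHom.equalizer _ _ ↔ _
    rw [AlgHom.mem_equalizer]
    rfl
  let pG : G →ₐ[Λ] R := X.proj.comp G.val
  have hbij : Function.Bijective pG := by
    constructor
    · rw [injective_iff_map_eq_zero]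
      intro g hg
      have hg' : X.proj (g : X.E) = 0 := hg
      have h1 := (hG g).1 g.2
      rw [hg', map_zero, Ideal.Quotient.eq_zero_iff_mem] at h1
      exact Subtype.ext (hinter _ h1 hg')
    · intro r
      obtain ⟨e0, he0⟩ := X.isExtension.proj_surjective r
      have h1 : Ideal.Quotient.mk (Ideal.span {t}) (Ideal.Quotient.mk I e0 - φ' r) = 0 := by
        rw [map_sub, hφ'', ← he0, hφ, sub_eq_zero]
        rfl
      rw [Ideal.Quotient.eq_zero_iff_mem, Ideal.mem_span_singleton'] at h1
      obtain ⟨b, hb⟩ := h1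
      obtain ⟨e1, rfl⟩ := Ideal.Quotient.mk_surjective b
      have hp : X.proj (e0 - e1 * ε) = r := by
        rw [map_sub, map_mul, proj_gen, mul_zero, sub_zero, he0]
      refine ⟨⟨e0 - e1 * ε, ?_⟩, hp⟩
      rw [hG, hp, map_sub, map_mul]
      change Ideal.Quotient.mk I e0 - Ideal.Quotient.mk I e1 * t = φ' r
      rw [hb]; ring
  let eG : G ≃ₐ[Λ] R := AlgEquiv.ofBijective pG hbij
  refine ⟨G.val.comp (eG.symm : R →ₐ[Λ] G), fun r => ?_⟩
  change pG (eG.symm r) = r
  exact eG.apply_symm_apply r

end Triv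

end Groth.Agent.Lib.Helper7.ExalLib
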