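import Mathlib
import Groth.Prelude.Def_Exal2
import Groth.Agent.Lib.Helper7ExalSmall

/-! Artinian local algebras with residue field `k`: subalgebras containing generators of the maximal ideal,
small surjections with a section, non-trivial extensions by the residue field. -/

set_option linter.unusedSectionVars false
set_option linter.style.haveILetI false

open Exal IsLocalRing

universe u v w

namespace Groth.Agent.Lib.Helper7.ExalLib


section SubalgTop

variable {k : Type w} [Field k] {A : Type v} [CommRing A] [Algebra k A] [IsLocalRing A]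

/-- a subalgebra of a local algebra with residue field `k` and nilpotent maximal ideal which contains
generators of the maximal ideal is everything -/
theorem subalgebra_eq_top_of_span_eq
    (hres : ∀ a : A, ∃ c : k, a - algebraMap k A c ∈ maximalIdeal A)
    (hnil : IsNilpotent (maximalIdeal A))
    (S : Subalgebra k A) (T : Set A) (hTS : T ⊆ S) (hT : Ideal.span T = maximalIdeal A) : S = ⊤ := by
  set m := maximalIdeal A with hm
  -- step claim
  have step : ∀ j : ℕ, ∀ y ∈ m ^ j, ∃ s ∈ S, y - s ∈ m ^ (j + 1) := by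
    intro j
    induction j with
    | zero =>
      intro y _
      obtain ⟨c, hc⟩ := hres y
      exact ⟨algebraMap k A c, S.algebraMap_mem c, by rw [zero_add, pow_one]; exact hc⟩
    | succ j ih =>
      intro y hy
      rw [pow_succ] at hy
      -- predicate on the second factor
      have hP : ∀ b ∈ m, ∀ a ∈ m ^ j, ∃ s ∈ S, a * b - s ∈ m ^ (j + 1 + 1) := by
        intro b hb
        rw [← hT] at hb
        induction hb using Submodule.span_induction with
        | mem t ht =>
          intro a ha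
          obtain ⟨s, hs, hsa⟩ := ih a ha
          refine ⟨s * t, S.mul_mem hs (hTS ht), ?_⟩
          have : a * t - s * t = (a - s) * t := by ring
          rw [this, pow_succ _ (j + 1)]
          exact Ideal.mul_mem_mul hsa (by rw [← hT]; exact Ideal.subset_span ht)
        | zero =>
          intro a _
          exact ⟨0, S.zero_mem, by simp⟩
        | add b b' _ _ hb hb' =>
          intro a ha
          obtain ⟨s, hs, h1⟩ := hb a ha
          obtain ⟨s', hs', h2⟩ := hb' a ha
          refine ⟨s + s', S.add_mem hs hs', ?_⟩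
          have : a * (b + b') - (s + s') = (a * b - s) + (a * b' - s') := by ring
          rw [this]
          exact Ideal.add_mem _ h1 h2
        | smul r b _ hb =>
          intro a ha
          obtain ⟨s, hs, h1⟩ := hb (a * r) (Ideal.mul_mem_right _ _ ha)
          refine ⟨s, hs, ?_⟩
          have : a * (r • b) - s = a * r * b - s := by rw [smul_eq_mul]; ring
          rw [this]
          exact h1
      refine Submodule.mul_induction_on hy (fun a ha b hb => hP b hb a ha) ?_
      rintro x y ⟨s, hs, h1⟩ ⟨s', hs', h2⟩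
      refine ⟨s + s', S.add_mem hs hs', ?_⟩
      have : x + y - (s + s') = (x - s) + (y - s') := by ring
      rw [this]
      exact Ideal.add_mem _ h1 h2
  have all : ∀ j : ℕ, ∀ x : A, ∃ s ∈ S, x - s ∈ m ^ j := by
    intro j
    induction j with
    | zero =>
      intro x
      exact ⟨0, S.zero_mem, by simp⟩
    | succ j ih =>
      intro x
      obtain ⟨s, hs, h1⟩ := ih x
      obtain ⟨s', hs', h2⟩ := step j _ h1
      refine ⟨s + s', S.add_mem hs hs', ?_⟩
      have : x - (s + s') = x - s - s' := by ring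
      rw [this]
      exact h2
  obtain ⟨N, hN⟩ := hnil
  rw [eq_top_iff]
  intro x _
  obtain ⟨s, hs, h1⟩ := all N x
  rw [hN] at h1
  have : x = s := sub_eq_zero.1 h1
  rw [this]
  exact hs

end SubalgTop



section NoSection

variable {k : Type w} [CommRing k] {E A : Type v} [CommRing E] [CommRing A] [Algebra k E] [Algebra k A]

/-- if a small surjection with kernel `k ε` has a section then `ε ∉ 𝔫²` unless `ε = 0` -/
theorem gen_eq_zero_of_section (p : E →ₐ[k] A) (ε : E) (𝔫 : Ideal E)
    (h1 : ∀ x, p x = 0 → ∃ c : k, x = algebraMap k E c * ε)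
    (h2 : ∀ e ∈ 𝔫, e * ε = 0) (h3 : ε ∈ 𝔫) (h5 : p ε = 0)
    (s : A →ₐ[k] E) (hs : ∀ a, p (s a) = a) (hε : ε ∈ 𝔫 ^ 2) : ε = 0 := by
  have key : ∀ e ∈ 𝔫, ∃ c : k, e = s (p e) + algebraMap k E c * ε ∧ s (p e) * ε = 0 := by
    intro e he
    have h : p (e - s (p e)) = 0 := by rw [map_sub, hs, sub_self]
    obtain ⟨c, hc⟩ := h1 _ h
    refine ⟨c, by rw [← hc]; ring, ?_⟩
    have h4 : s (p e) = e - algebraMap k E c * ε := by rw [← hc]; ring
    rw [h4]
    exact h2 _ (𝔫.sub_mem he (𝔫.mul_mem_left _ h3))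
  have hεε : ε * ε = 0 := h2 ε h3
  have closure : ∀ x ∈ 𝔫 ^ 2, x = s (p x) := by
    intro x hx
    rw [pow_two] at hx
    refine Submodule.mul_induction_on hx ?_ ?_
    · intro e he e' he'
      obtain ⟨c, hc, hc0⟩ := key e he
      obtain ⟨c', hc', hc0'⟩ := key e' he'
      rw [map_mul, map_mul]
      nth_rw 1 [hc, hc']
      linear_combination (algebraMap k E c') * hc0 + (algebraMap k E c) * hc0' +
        (algebraMap k E c * algebraMap k E c') * hεε
    · intro x y hx hy
      rw [map_add, map_add, ← hx, ← hy]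
  rw [closure ε hε, h5, map_zero]

end NoSection



section PolyDecomp

variable {k : Type w} [CommRing k] {σ : Type v} [Fintype σ] [DecidableEq σ]

theorem mvPolynomial_decomp (f : MvPolynomial σ k) :
    ∃ c : k, ∃ v : σ → k, ∃ g ∈ (Ideal.span (Set.range (MvPolynomial.X : σ → MvPolynomial σ k))) ^ 2,
      f = MvPolynomial.C c + ∑ i, MvPolynomial.C (v i) * MvPolynomial.X i + g := by
  set M : Ideal (MvPolynomial σ k) := Ideal.span (Set.range (MvPolynomial.X : σ → MvPolynomial σ k))
  have hX : ∀ i, (MvPolynomial.X i : MvPolynomial σ k) ∈ M := fun i => Ideal.subset_span ⟨i, rfl⟩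
  induction f using MvPolynomial.induction_on with
  | C a => exact ⟨a, 0, 0, zero_mem _, by simp⟩
  | add p q hp hq =>
    obtain ⟨c, v, g, hg, rfl⟩ := hp
    obtain ⟨c', v', g', hg', rfl⟩ := hq
    refine ⟨c + c', v + v', g + g', Ideal.add_mem _ hg hg', ?_⟩
    simp only [Pi.add_apply, map_add, add_mul, Finset.sum_add_distrib]
    ring
  | mul_X p j hp =>
    obtain ⟨c, v, g, hg, rfl⟩ := hp
    refine ⟨0, Pi.single j c, (∑ i, MvPolynomial.C (v i) * MvPolynomial.X i) * MvPolynomial.X j +
      g * MvPolynomial.X j, ?_, ?_⟩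
    · refine Ideal.add_mem _ ?_ (Ideal.mul_mem_right _ _ hg)
      rw [Finset.sum_mul]
      refine Ideal.sum_mem _ (fun i _ => ?_)
      rw [mul_assoc, pow_two]
      exact Ideal.mul_mem_left _ _ (Ideal.mul_mem_mul (hX i) (hX j))
    · have h1 : ∑ i, MvPolynomial.C ((Pi.single j c : σ → k) i) * (MvPolynomial.X i : MvPolynomial σ k) =
          MvPolynomial.C c * MvPolynomial.X j := by
        rw [Finset.sum_eq_single j]
        · rw [Pi.single_eq_same]
        · intro i _ hij
          rw [Pi.single_eq_of_ne hij, map_zero, zero_mul]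
        · intro h
          exact absurd (Finset.mem_univ j) h
      rw [h1, map_zero]
      ring

end PolyDecomp



section MinPres

variable {k : Type u} [Field k] {A : Type u} [CommRing A] [Algebra k A] [IsLocalRing A] [IsArtinianRing A]

lemma algebraMap_mem_maximalIdeal_iff (c : k) : algebraMap k A c ∈ maximalIdeal A ↔ c = 0 := by
  constructor
  · intro h
    by_contra hc
    have : IsUnit (algebraMap k A c) := (isUnit_iff_ne_zero.2 hc).map _
    exact (mem_maximalIdeal _).1 h this
  · rintro rfl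
    rw [map_zero]
    exact zero_mem _

/-- a minimal presentation of an Artinian local algebra with residue field `k` -/
theorem exists_minimal_presentation
    (hres : ∀ a : A, ∃ c : k, a - algebraMap k A c ∈ maximalIdeal A) :
    ∃ (d : ℕ) (π : MvPolynomial (Fin d) k →ₐ[k] A), Function.Surjective π ∧
      RingHom.ker (π : MvPolynomial (Fin d) k →+* A) ≤
        (Ideal.comap (π : MvPolynomial (Fin d) k →+* A) (maximalIdeal A)) ^ 2 := by
  classical
  let d := Module.finrank (ResidueField A) (CotangentSpace A)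
  let b : Module.Basis (Fin d) (ResidueField A) (CotangentSpace A) := Module.finBasis _ _
  have hlift : ∀ i, ∃ a : maximalIdeal A, (maximalIdeal A).toCotangent a = b i :=
    fun i => (maximalIdeal A).toCotangent_surjective (b i)
  choose a ha using hlift
  have hspan : Submodule.span A (Set.range a) = ⊤ := by
    rw [← CotangentSpace.span_image_eq_top_iff, ← Set.range_comp]
    have : (maximalIdeal A).toCotangent ∘ a = b := funext ha
    rw [this]
    exact b.span_eq
  let a' : Fin d → A := fun i => (a i : A)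
  have hspan' : Ideal.span (Set.range a') = maximalIdeal A := by
    have h1 := congrArg (Submodule.map (maximalIdeal A).subtype) hspan
    rw [Submodule.map_span, Submodule.map_subtype_top, ← Set.range_comp] at h1
    exact h1
  let π : MvPolynomial (Fin d) k →ₐ[k] A := MvPolynomial.aeval a'
  have hπX : ∀ i, π (MvPolynomial.X i) = a' i := fun i => MvPolynomial.aeval_X a' i
  have hnil : IsNilpotent (maximalIdeal A) := by
    rw [← IsLocalRing.jacobson_eq_maximalIdeal ⊥ bot_ne_top]
    exact IsArtinianRing.isNilpotent_jacobson_bot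
  have hsurj : Function.Surjective π := by
    have h1 : π.range = ⊤ := by
      refine subalgebra_eq_top_of_span_eq hres hnil π.range (Set.range a') ?_ hspan'
      rintro _ ⟨i, rfl⟩
      exact ⟨MvPolynomial.X i, hπX i⟩
    intro x
    have : x ∈ π.range := by rw [h1]; trivial
    exact this
  refine ⟨d, π, hsurj, ?_⟩
  intro f hf
  rw [RingHom.mem_ker] at hf
  obtain ⟨c, v, g, hg, rfl⟩ := mvPolynomial_decomp f
  set M0 : Ideal (MvPolynomial (Fin d) k) := Ideal.span (Set.range MvPolynomial.X) with hM0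
  set M : Ideal (MvPolynomial (Fin d) k) :=
    Ideal.comap (π : MvPolynomial (Fin d) k →+* A) (maximalIdeal A) with hM
  have hM0M : M0 ≤ M := by
    rw [hM0, Ideal.span_le]
    rintro _ ⟨i, rfl⟩
    change π (MvPolynomial.X i) ∈ maximalIdeal A
    rw [hπX]
    exact (a i).2
  have hgM : g ∈ M ^ 2 := Ideal.pow_right_mono hM0M 2 hg
  have hπg : π g ∈ maximalIdeal A ^ 2 := by
    have h1 : Ideal.map (π : MvPolynomial (Fin d) k →+* A) (M ^ 2) ≤ maximalIdeal A ^ 2 := by
      rw [Ideal.map_pow]
      exact Ideal.pow_right_mono Ideal.map_comap_le 2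
    exact h1 (Ideal.mem_map_of_mem _ hgM)
  have hsum : π (∑ i, MvPolynomial.C (v i) * MvPolynomial.X i) = ∑ i, algebraMap k A (v i) * a' i := by
    rw [map_sum]
    refine Finset.sum_congr rfl (fun i _ => ?_)
    rw [map_mul, hπX]
    congr 1
    exact MvPolynomial.aeval_C a' (v i)
  have hsum_mem : ∑ i, algebraMap k A (v i) * a' i ∈ maximalIdeal A :=
    Ideal.sum_mem _ (fun i _ => Ideal.mul_mem_left _ _ (a i).2)
  have hexp : algebraMap k A c + ∑ i, algebraMap k A (v i) * a' i + π g = 0 := by
    have hf' : π (MvPolynomial.C c + ∑ i, MvPolynomial.C (v i) * MvPolynomial.X i + g) = 0 := hf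
    rw [map_add, map_add, hsum] at hf'
    have hC : π (MvPolynomial.C c) = algebraMap k A c := MvPolynomial.aeval_C a' c
    rw [hC] at hf'
    exact hf'
  have hc : c = 0 := by
    rw [← algebraMap_mem_maximalIdeal_iff (A := A)]
    have h1 : algebraMap k A c = - (∑ i, algebraMap k A (v i) * a' i + π g) := by
      linear_combination hexp
    rw [h1]
    exact Ideal.neg_mem_iff _ |>.2 (Ideal.add_mem _ hsum_mem (Ideal.pow_le_self two_ne_zero hπg))
  have hsum2 : ∑ i, algebraMap k A (v i) * a' i ∈ maximalIdeal A ^ 2 := by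
    have h1 : ∑ i, algebraMap k A (v i) * a' i = - π g := by
      rw [hc, map_zero, zero_add] at hexp
      linear_combination hexp
    rw [h1]
    exact Ideal.neg_mem_iff _ |>.2 hπg
  have hv : ∀ i, v i = 0 := by
    have h1 : (maximalIdeal A).toCotangent ⟨_, hsum_mem⟩ = 0 := by
      rw [Ideal.toCotangent_eq_zero]
      exact hsum2
    have h2 : (⟨_, hsum_mem⟩ : maximalIdeal A) = ∑ i, algebraMap k A (v i) • a i := by
      apply Subtype.ext
      rw [Submodule.coe_sum]
      rfl
    rw [h2, map_sum] at h1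
    have h3 : ∑ i, residue A (algebraMap k A (v i)) • b i = 0 := by
      rw [← h1]
      refine Finset.sum_congr rfl (fun i _ => ?_)
      rw [map_smul, ha]
      rfl
    have h4 := Fintype.linearIndependent_iff.1 b.linearIndependent _ h3
    intro i
    have h5 := h4 i
    rw [residue_eq_zero_iff, algebraMap_mem_maximalIdeal_iff] at h5
    exact h5
  have : MvPolynomial.C c + ∑ i, MvPolynomial.C (v i) * MvPolynomial.X i + g = g := by
    rw [hc, map_zero, zero_add]
    have : ∑ i, MvPolynomial.C (v i) * (MvPolynomial.X i : MvPolynomial (Fin d) k) = 0 := by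
      refine Finset.sum_eq_zero (fun i _ => ?_)
      rw [hv i, map_zero, zero_mul]
    rw [this, zero_add]
  rw [this]
  exact hgM

end MinPres



section NonTriv

variable {k : Type u} [Field k] {A : Type u} [CommRing A] [Algebra k A] [IsLocalRing A] [IsArtinianRing A]

theorem exists_ext_not_isTrivial
    (hres : ∀ a : A, ∃ c : k, a - algebraMap k A c ∈ maximalIdeal A)
    (hA : maximalIdeal A ≠ ⊥) :
    ∃ X : Exal.Ext k A (ResidueField A), ¬ X.IsTrivial := by
  classical
  obtain ⟨d, π, hsurj, hJM⟩ := exists_minimal_presentation hres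
  set P := MvPolynomial (Fin d) k with hP
  set J : Ideal P := RingHom.ker (π : P →+* A) with hJ
  set M : Ideal P := Ideal.comap (π : P →+* A) (maximalIdeal A) with hM
  have hmemM : ∀ q : P, q ∈ M ↔ π q ∈ maximalIdeal A := fun q => Iff.rfl
  have hmemJ : ∀ q : P, q ∈ J ↔ π q = 0 := fun q => RingHom.mem_ker
  have hπC : ∀ c : k, π (MvPolynomial.C c) = algebraMap k A c := fun c => π.commutes c
  have hJleM : J ≤ M := by
    intro q hq
    rw [hmemM, (hmemJ q).1 hq]
    exact zero_mem _
  have hMtop : M ≠ ⊤ := Ideal.comap_ne_top _ (Ideal.IsMaximal.ne_top inferInstance)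
  have hnil : IsNilpotent (maximalIdeal A) := by
    rw [← IsLocalRing.jacobson_eq_maximalIdeal ⊥ bot_ne_top]
    exact IsArtinianRing.isNilpotent_jacobson_bot
  -- J ≠ ⊥
  have hJbot : J ≠ ⊥ := by
    intro hJ0
    obtain ⟨N, hN⟩ := hnil
    have h1 : M ^ N ≤ J := by
      intro q hq
      have h2 : π q ∈ Ideal.map (π : P →+* A) (M ^ N) := Ideal.mem_map_of_mem _ hq
      rw [Ideal.map_pow] at h2
      have h3 : Ideal.map (π : P →+* A) M ^ N ≤ maximalIdeal A ^ N :=
        Ideal.pow_right_mono Ideal.map_comap_le N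
      have h4 := h3 h2
      rw [hN] at h4
      exact (hmemJ q).2 h4
    rw [hJ0, le_bot_iff] at h1
    have h2 : M = ⊥ := by
      have hN0 : N ≠ 0 := by
        rintro rfl
        rw [pow_zero, Ideal.one_eq_top] at h1
        exact top_ne_bot h1
      rw [← Ideal.zero_eq_bot] at h1 ⊢
      exact (pow_eq_zero_iff hN0).1 h1
    apply hA
    rw [← Ideal.map_comap_of_surjective (π : P →+* A) hsurj (maximalIdeal A)]
    change Ideal.map (π : P →+* A) M = ⊥
    rw [h2, Ideal.map_bot]
  -- J ≠ M J
  have hJMJ : ¬ J ≤ M * J := by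
    intro hle
    have hfg : (J : Submodule P P).FG := IsNoetherian.noetherian _
    obtain ⟨r, hr1, hr2⟩ := Submodule.exists_sub_one_mem_and_smul_eq_zero_of_fg_of_le_smul M J hfg
      (by rw [smul_eq_mul]; exact hle)
    obtain ⟨j, hj, hj0⟩ := Submodule.exists_mem_ne_zero_of_ne_bot hJbot
    have h1 := hr2 j hj
    rw [smul_eq_mul, mul_eq_zero] at h1
    rcases h1 with h1 | h1
    · rw [h1, zero_sub] at hr1
      apply hMtop
      rw [Ideal.eq_top_iff_one]
      have := M.neg_mem hr1
      rwa [neg_neg] at this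
    · exact hj0 h1
  obtain ⟨f, hfJ, hfMJ⟩ := SetLike.not_le_iff_exists.1 hJMJ
  -- the functional
  obtain ⟨lam, hlamf, hlam⟩ := Submodule.exists_le_ker_of_notMem (K := k)
    (p := (M * J).restrictScalars k) (v := f) (by rwa [Submodule.restrictScalars_mem])
  have hlamMJ : ∀ q ∈ M, ∀ j ∈ J, lam (q * j) = 0 := by
    intro q hq j hj
    have : q * j ∈ (M * J).restrictScalars k := by
      rw [Submodule.restrictScalars_mem]; exact Ideal.mul_mem_mul hq hj
    exact hlam this
  -- decomposition of P
  have hdec : ∀ q : P, ∃ c : k, q - MvPolynomial.C c ∈ M ∧ (π q ∈ maximalIdeal A ↔ c = 0) := by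
    intro q
    obtain ⟨c, hc⟩ := hres (π q)
    refine ⟨c, ?_, ?_⟩
    · rw [hmemM, map_sub, hπC]; exact hc
    · rw [← algebraMap_mem_maximalIdeal_iff (A := A)]
      constructor
      · intro h
        have := (maximalIdeal A).sub_mem h hc
        rwa [sub_sub_cancel] at this
      · intro h
        have := (maximalIdeal A).add_mem hc h
        rwa [sub_add_cancel] at this
  have hlam_mul : ∀ q : P, ∀ j ∈ J, ∀ c : k, q - MvPolynomial.C c ∈ M → lam (q * j) = c * lam j := by
    intro q j hj c hc
    have h1 : q * j = c • j + (q - MvPolynomial.C c) * j := by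
      rw [MvPolynomial.smul_eq_C_mul]; ring
    rw [h1, map_add, map_smul, hlamMJ _ hc j hj, add_zero, smul_eq_mul]
  -- the ideal J'
  let J' : Ideal P :=
    { carrier := {j | j ∈ J ∧ lam j = 0}
      add_mem' := by
        rintro x y ⟨hx, hx0⟩ ⟨hy, hy0⟩
        exact ⟨J.add_mem hx hy, by rw [map_add, hx0, hy0, add_zero]⟩
      zero_mem' := ⟨J.zero_mem, map_zero _⟩
      smul_mem' := by
        rintro q j ⟨hj, hj0⟩
        refine ⟨J.mul_mem_left q hj, ?_⟩
        obtain ⟨c, hc, -⟩ := hdec q
        rw [smul_eq_mul, hlam_mul q j hj c hc, hj0, mul_zero] }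
  have hmemJ' : ∀ q : P, q ∈ J' ↔ q ∈ J ∧ lam q = 0 := fun q => Iff.rfl
  have hJ'J : J' ≤ J := fun q hq => hq.1
  let E := P ⧸ J'
  let p : E →ₐ[k] A := Ideal.Quotient.liftₐ J' π (fun q hq => (hmemJ q).1 (hJ'J hq))
  have hpmk : ∀ q : P, p (Ideal.Quotient.mk J' q) = π q := fun q => rfl
  let ε : E := Ideal.Quotient.mk J' f
  have hp : Function.Surjective p := by
    intro x
    obtain ⟨q, rfl⟩ := hsurj x
    exact ⟨Ideal.Quotient.mk J' q, rfl⟩
  have hε : p ε = 0 := (hmemJ f).1 hfJ
  have hkerk : ∀ x, p x = 0 → ∃ c : k, x = algebraMap k E c * ε := by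
    intro x hx
    obtain ⟨q, rfl⟩ := Ideal.Quotient.mk_surjective x
    rw [hpmk] at hx
    have hqJ : q ∈ J := (hmemJ q).2 hx
    refine ⟨lam q / lam f, ?_⟩
    change Ideal.Quotient.mk J' q = Ideal.Quotient.mk J' (MvPolynomial.C (lam q / lam f)) * Ideal.Quotient.mk J' f
    rw [← map_mul, Ideal.Quotient.eq, hmemJ']
    refine ⟨J.sub_mem hqJ (J.mul_mem_left _ hfJ), ?_⟩
    rw [← MvPolynomial.smul_eq_C_mul, map_sub, map_smul, smul_eq_mul, div_mul_cancel₀ _ hlamf, sub_self]
  have hker : ∀ x, p x = 0 → ∃ e, x = e * ε := by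
    intro x hx
    obtain ⟨c, hc⟩ := hkerk x hx
    exact ⟨_, hc⟩
  have hann : ∀ e, e * ε = 0 ↔ p e ∈ maximalIdeal A := by
    intro e
    obtain ⟨q, rfl⟩ := Ideal.Quotient.mk_surjective e
    obtain ⟨c, hc, hc0⟩ := hdec q
    rw [hpmk, hc0]
    change Ideal.Quotient.mk J' q * Ideal.Quotient.mk J' f = 0 ↔ _
    rw [← map_mul, Ideal.Quotient.eq_zero_iff_mem, hmemJ', hlam_mul q f hfJ c hc]
    constructor
    · rintro ⟨-, h⟩
      rcases mul_eq_zero.1 h with h | h
      · exact h
      · exact absurd h hlamf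
    · intro h
      exact ⟨J.mul_mem_left _ hfJ, by rw [h, zero_mul]⟩
  refine ⟨extOfGen p ε hp hker hε hann, ?_⟩
  rintro ⟨s, hs⟩
  let s' : A →ₐ[k] E := s
  have hs' : ∀ a, p (s' a) = a := hs
  -- the ideal 𝔫
  let 𝔫 : Ideal E := Ideal.comap (p : E →+* A) (maximalIdeal A)
  have h𝔫 : ∀ e, e ∈ 𝔫 ↔ p e ∈ maximalIdeal A := fun e => Iff.rfl
  have h2 : ∀ e ∈ 𝔫, e * ε = 0 := fun e he => (hann e).2 ((h𝔫 e).1 he)
  have h3 : ε ∈ 𝔫 := by rw [h𝔫, hε]; exact zero_mem _
  have hεsq : ε ∈ 𝔫 ^ 2 := by
    have h4 : Ideal.map (Ideal.Quotient.mk J') M ≤ 𝔫 := by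
      rw [Ideal.map_le_iff_le_comap]
      intro q hq
      change p (Ideal.Quotient.mk J' q) ∈ maximalIdeal A
      rw [hpmk]
      exact hq
    have h5 : ε ∈ Ideal.map (Ideal.Quotient.mk J') (M ^ 2) := Ideal.mem_map_of_mem _ (hJM hfJ)
    rw [Ideal.map_pow] at h5
    exact Ideal.pow_right_mono h4 2 h5
  have h0 := gen_eq_zero_of_section p ε 𝔫 hkerk h2 h3 hε s' hs' hεsq
  have h6 : f ∈ J' := Ideal.Quotient.eq_zero_iff_mem.1 h0
  exact hlamf h6.2

end NonTriv

end Groth.Agent.Lib.Helper7.ExalLib
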