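import Mathlib
import Groth.Prelude.Def_Exal2
import Groth.Agent.Lib.Helper7Exal

set_option linter.unusedSectionVars false

open Exal

universe u v

namespace Groth.Agent.Lib.Helper7.ExalLib

attribute [local instance] Exal.opModule Exal.isCentralScalar_opModule

section Sec

variable {A : Type u} {B C L : Type v} [CommRing A] [CommRing B] [CommRing C]
    [Algebra A B] [Algebra B C] [Algebra A C] [IsScalarTower A B C]
    [AddCommGroup L] [Module C L] [Module B L] [IsScalarTower B C L] [Module A L] [IsScalarTower A B L]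
    [IsScalarTower A C L]

/-- an `A`-trivial extension has a ring-hom section compatible with `A` -/
lemma exists_ringHom_section_of_isTrivialOver (X : Exal.Ext B C L) (h : X.IsTrivialOver A) :
    ∃ σ : C →+* X.E, (∀ c, X.proj (σ c) = c) ∧
      (∀ a : A, σ (algebraMap A C a) = algebraMap B X.E (algebraMap A B a)) := by
  obtain ⟨s, hs⟩ := h
  let σ : C →+* X.E :=
    { toFun := fun c => s c
      map_one' := map_one s
      map_mul' := map_mul s
      map_zero' := map_zero s
      map_add' := map_add s }
  exact ⟨σ, hs, fun a => s.commutes a⟩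

lemma isTrivialOver_of_ringHom_section (X : Exal.Ext B C L) (σ : C →+* X.E)
    (hσ : ∀ c, X.proj (σ c) = c)
    (hσA : ∀ a : A, σ (algebraMap A C a) = algebraMap B X.E (algebraMap A B a)) :
    X.IsTrivialOver A := by
  let s : C →ₐ[A] (X.restrictBase A).E :=
    { toFun := fun c => σ c
      map_one' := map_one σ
      map_mul' := map_mul σ
      map_zero' := map_zero σ
      map_add' := map_add σ
      commutes' := hσA }
  exact ⟨s, hσ⟩

theorem exists_derivation_of_section (X : Exal.Ext B C L) (σ : C →+* X.E)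
    (hσ : ∀ c, X.proj (σ c) = c)
    (hσA : ∀ a : A, σ (algebraMap A C a) = algebraMap B X.E (algebraMap A B a)) :
    ∃ D : Derivation A B L, ∀ b, X.incl (D b) = algebraMap B X.E b - σ (algebraMap B C b) := by
  have hδ : ∀ b : B, X.proj (algebraMap B X.E b - σ (algebraMap B C b)) = 0 := by
    intro b
    rw [map_sub, AlgHom.commutes, hσ, sub_self]
  have hker : ∀ b : B, X.incl (X.kerLift _ (hδ b)) = algebraMap B X.E b - σ (algebraMap B C b) :=
    fun b => X.incl_kerLift _ _
  have hDmul : ∀ b b' : B, X.kerLift _ (hδ (b * b')) =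
      b • X.kerLift _ (hδ b') + b' • X.kerLift _ (hδ b) := by
    intro b b'
    apply X.isExtension.incl_injective
    rw [hker, map_add, ← algebraMap_smul C b, ← algebraMap_smul C b']
    have e1 : X.incl (algebraMap B C b • X.kerLift _ (hδ b')) =
        algebraMap B X.E b * X.incl (X.kerLift _ (hδ b')) := by
      rw [X.isExtension.mul_incl, AlgHom.commutes]
    have e2 : X.incl (algebraMap B C b' • X.kerLift _ (hδ b)) =
        σ (algebraMap B C b') * X.incl (X.kerLift _ (hδ b)) := by
      rw [X.isExtension.mul_incl, hσ]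
    rw [e1, e2, hker, hker, map_mul, map_mul, map_mul]
    ring
  have hDadd : ∀ b b' : B, X.kerLift _ (hδ (b + b')) =
      X.kerLift _ (hδ b) + X.kerLift _ (hδ b') := by
    intro b b'
    apply X.isExtension.incl_injective
    rw [hker (b + b'), map_add X.incl, hker b, hker b']
    simp only [map_add]
    ring
  have hDA : ∀ a : A, X.kerLift _ (hδ (algebraMap A B a)) = 0 := by
    intro a
    apply X.isExtension.incl_injective
    rw [hker, map_zero, ← IsScalarTower.algebraMap_apply A B C, hσA, sub_self]
  let D0 : B →ₗ[A] L :=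
    { toFun := fun b => X.kerLift _ (hδ b)
      map_add' := hDadd
      map_smul' := fun a b => by
        rw [RingHom.id_apply, Algebra.smul_def, hDmul, hDA, smul_zero, add_zero, algebraMap_smul] }
  let D : Derivation A B L := Derivation.mk' D0 (fun b b' => hDmul b b')
  have hD : ∀ b, X.incl (D b) = algebraMap B X.E b - σ (algebraMap B C b) := hker
  exact ⟨D, hD⟩

theorem equiv_ofDerivation_of_section (X : Exal.Ext B C L) (σ : C →+* X.E)
    (hσ : ∀ c, X.proj (σ c) = c) (D : Derivation A B L)
    (hD : ∀ b, X.incl (D b) = algebraMap B X.E b - σ (algebraMap B C b)) :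
    Nonempty (X.Equiv (Exal.Ext.ofDerivation (C := C) D)) := by
  -- the map `C ⊕ L → E`
  let ψ0 : TrivSqZeroExt C L → X.E := fun t => σ t.fst + X.incl t.snd
  have hψmul : ∀ t t' : TrivSqZeroExt C L, ψ0 (t * t') = ψ0 t * ψ0 t' := by
    intro t t'
    simp only [ψ0, TrivSqZeroExt.fst_mul, TrivSqZeroExt.snd_mul, map_mul, map_add, op_smul_eq_smul]
    have e1 : X.incl (t.fst • t'.snd) = σ t.fst * X.incl t'.snd := by
      rw [X.isExtension.mul_incl, hσ]
    have e2 : X.incl (t'.fst • t.snd) = σ t'.fst * X.incl t.snd := by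
      rw [X.isExtension.mul_incl, hσ]
    rw [e1, e2]
    have e3 : X.incl t.snd * X.incl t'.snd = 0 := incl_mul_incl X _ _
    linear_combination (-1 : X.E) * e3
  have hψadd : ∀ t t' : TrivSqZeroExt C L, ψ0 (t + t') = ψ0 t + ψ0 t' := by
    intro t t'
    simp only [ψ0, TrivSqZeroExt.fst_add, TrivSqZeroExt.snd_add, map_add]
    ring
  have hψone : ψ0 1 = 1 := by simp [ψ0]
  have hψzero : ψ0 0 = 0 := by simp [ψ0]
  have hψcomm : ∀ b : B, ψ0 (TrivSqZeroExt.inl (algebraMap B C b) + TrivSqZeroExt.inr (D b)) =
      algebraMap B X.E b := by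
    intro b
    simp only [ψ0, TrivSqZeroExt.fst_add, TrivSqZeroExt.fst_inl, TrivSqZeroExt.fst_inr,
      add_zero, TrivSqZeroExt.snd_add, TrivSqZeroExt.snd_inl, TrivSqZeroExt.snd_inr, zero_add]
    rw [hD]; ring
  let ψ : (Exal.Ext.ofDerivation (C := C) D).E →ₐ[B] X.E :=
    { toFun := ψ0
      map_one' := hψone
      map_mul' := hψmul
      map_zero' := hψzero
      map_add' := hψadd
      commutes' := hψcomm }
  have hψproj : ∀ t, X.proj (ψ t) = (Exal.Ext.ofDerivation (C := C) D).proj t := by
    intro t
    change X.proj (σ (t : TrivSqZeroExt C L).fst + X.incl (t : TrivSqZeroExt C L).snd) =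
      (t : TrivSqZeroExt C L).fst
    rw [map_add, hσ, proj_incl, add_zero]
  have hψincl : ∀ z : L, ψ ((Exal.Ext.ofDerivation (C := C) D).incl z) = X.incl z := by
    intro z
    change σ (TrivSqZeroExt.inr z : TrivSqZeroExt C L).fst +
      X.incl (TrivSqZeroExt.inr z : TrivSqZeroExt C L).snd = X.incl z
    simp
  have hbij : Function.Bijective ψ := by
    constructor
    · rw [injective_iff_map_eq_zero]
      intro t ht
      have h1 : (t : TrivSqZeroExt C L).fst = 0 := by
        have := hψproj t
        rw [ht, map_zero] at this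
        exact this.symm
      have h2 : X.incl (t : TrivSqZeroExt C L).snd = 0 := by
        have : σ (t : TrivSqZeroExt C L).fst + X.incl (t : TrivSqZeroExt C L).snd = 0 := ht
        rw [h1, map_zero, zero_add] at this
        exact this
      have h3 : (t : TrivSqZeroExt C L).snd = 0 :=
        X.isExtension.incl_injective (h2.trans (map_zero _).symm)
      exact TrivSqZeroExt.ext h1 h3
    · intro x
      have h0 : X.proj (x - σ (X.proj x)) = 0 := by rw [map_sub, hσ, sub_self]
      obtain ⟨z, hz⟩ := (X.isExtension.exact _).1 h0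
      refine ⟨(TrivSqZeroExt.inl (X.proj x) + TrivSqZeroExt.inr z : TrivSqZeroExt C L), ?_⟩
      change σ (TrivSqZeroExt.inl (X.proj x) + TrivSqZeroExt.inr z : TrivSqZeroExt C L).fst +
        X.incl (TrivSqZeroExt.inl (X.proj x) + TrivSqZeroExt.inr z : TrivSqZeroExt C L).snd = x
      simp only [TrivSqZeroExt.fst_add, TrivSqZeroExt.fst_inl, TrivSqZeroExt.fst_inr,
        add_zero, TrivSqZeroExt.snd_add, TrivSqZeroExt.snd_inl, TrivSqZeroExt.snd_inr, zero_add]
      rw [hz]; ring
  let E : (Exal.Ext.ofDerivation (C := C) D).Equiv X :=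
    { toAlgEquiv := AlgEquiv.ofBijective ψ hbij
      proj_apply := hψproj
      apply_incl := hψincl }
  exact ⟨E.symm⟩


end Sec

end Groth.Agent.Lib.Helper7.ExalLib
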