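import Mathlib
import Groth.Prelude.Def_Exal3
import Groth.Prelude.Def_Exal2
import Groth.Agent.Lib.Helper7ExalChar
import Groth.Agent.Lib.Helper7ExalSec

set_option linter.unusedSectionVars false

open Exal TensorProduct KaehlerDifferential

universe u v

namespace Groth.Agent.Lib.Helper7.ExalLib

section CharSec

variable {A : Type u} {B C L : Type v} [CommRing A] [CommRing B] [CommRing C]
    [Algebra A B] [Algebra B C] [Algebra A C] [IsScalarTower A B C] [AddCommGroup L] [Module C L]
    (X : Exal.Ext B C L)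

theorem isCharHom_of_section (σ : C →+* X.E) (hσ : ∀ c, X.proj (σ c) = c)
    (hσA : ∀ a : A, σ (algebraMap A C a) = algebraMap B X.E (algebraMap A B a))
    (φ : C ⊗[B] Ω[B⁄A] →ₗ[C] L)
    (hφ : ∀ b : B, X.incl (φ ((1 : C) ⊗ₜ[B] D A B b)) =
      algebraMap B X.E b - σ (algebraMap B C b)) (z : EGA41.imperfection A B C) :
    X.deltaL A (φ z) = X.baseChangeToMiddle A (z : C ⊗[B] Ω[B⁄A]) := by
  let g : C →ₐ[A] X.CharCarrier A :=
    { toFun := fun c => σ c
      map_one' := map_one σ
      map_mul' := map_mul σ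
      map_zero' := map_zero σ
      map_add' := map_add σ
      commutes' := hσA }
  have hg : (IsScalarTower.toAlgHom A (X.CharCarrier A) C).comp g = AlgHom.id A C := by
    ext c
    exact hσ c
  have hsq := ker_algebraMap_charCarrier_sq (A := A) X
  let r := retractionOfSectionOfKerSqZero g hsq hg
  have key : ∀ (ω : Ω[B⁄A]) (c : C),
      ((r (X.baseChangeToMiddle A (c ⊗ₜ[B] ω)) : RingHom.ker (algebraMap (X.CharCarrier A) C)) :
        X.CharCarrier A) = X.inclC A (φ (c ⊗ₜ[B] ω)) := by
    intro ω
    have hω : ω ∈ Submodule.span B (Set.range (D A B)) := by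
      rw [KaehlerDifferential.span_range_derivation]; trivial
    induction hω using Submodule.span_induction with
    | mem x hx =>
      obtain ⟨b, rfl⟩ := hx
      intro c
      rw [bcm_tmul, KaehlerDifferential.map_D]
      have h1 := retractionOfSectionOfKerSqZero_tmul_D g hsq hg c (algebraMap B (X.CharCarrier A) b)
      rw [h1]
      have h2 : algebraMap (X.CharCarrier A) C (algebraMap B (X.CharCarrier A) b) =
          algebraMap B C b := (IsScalarTower.algebraMap_apply B (X.CharCarrier A) C b).symm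
      rw [h2]
      have h3 : (c ⊗ₜ[B] D A B b : C ⊗[B] Ω[B⁄A]) = c • ((1 : C) ⊗ₜ[B] D A B b) := by
        rw [TensorProduct.smul_tmul', smul_eq_mul, mul_one]
      rw [h3, map_smul]
      change σ c * algebraMap B X.E b - σ c * σ (algebraMap B C b) = X.incl (c • φ _)
      have h4 : X.incl (c • φ ((1 : C) ⊗ₜ[B] D A B b)) =
          σ c * X.incl (φ ((1 : C) ⊗ₜ[B] D A B b)) := by
        rw [X.isExtension.mul_incl, hσ]
      rw [h4, hφ]; ring
    | zero =>
      intro c
      rw [TensorProduct.tmul_zero, map_zero, map_zero, map_zero, map_zero]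
      rfl
    | add x y _ _ hx hy =>
      intro c
      rw [TensorProduct.tmul_add, map_add, map_add, map_add, map_add, Submodule.coe_add, hx, hy]
    | smul b x _ hx =>
      intro c
      have h1 : (c ⊗ₜ[B] (b • x) : C ⊗[B] Ω[B⁄A]) = (b • c) ⊗ₜ[B] x := by
        rw [TensorProduct.tmul_smul, TensorProduct.smul_tmul']
      rw [h1]
      exact hx (b • c)
  obtain ⟨l, hl⟩ := exists_deltaL_eq (A := A) X z
  have hret := retractionOfSectionOfKerSqZero_comp_kerToTensor g hsq hg
  have e1 := LinearMap.congr_fun hret ⟨X.inclC A l, proj_incl X l⟩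
  simp only [LinearMap.comp_apply, LinearMap.id_apply] at e1
  have key2 : ∀ y : C ⊗[B] Ω[B⁄A],
      ((r (X.baseChangeToMiddle A y) : RingHom.ker (algebraMap (X.CharCarrier A) C)) :
        X.CharCarrier A) = X.inclC A (φ y) := by
    intro y
    induction y using TensorProduct.induction_on with
    | zero => rw [map_zero, map_zero, map_zero, map_zero]; rfl
    | tmul c ω => exact key ω c
    | add x y hx hy => rw [map_add, map_add, map_add, map_add, Submodule.coe_add, hx, hy]
  have e2 := key2 (z : C ⊗[B] Ω[B⁄A])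
  rw [← hl, deltaL_eq_kerToTensor] at e2
  have e3 : X.inclC A l = X.inclC A (φ z) := by
    rw [← e2]
    exact (congrArg Subtype.val e1).symm
  have e4 : l = φ z := X.isExtension.incl_injective e3
  rw [← e4]; exact hl

end CharSec

section Surj

attribute [local instance] Exal.opModule Exal.isCentralScalar_opModule

variable {A : Type u} {B C L : Type v} [CommRing A] [CommRing B] [CommRing C]
    [Algebra A B] [Algebra B C] [Algebra A C] [IsScalarTower A B C] [AddCommGroup L] [Module C L]

/-- every `C`-linear `φ : C ⊗_B Ω_{B/A} → L` is (after restriction to the imperfection module) the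
characteristic homomorphism of an `A`-trivial extension -/
theorem exists_ext_isCharHom_of_linearMap (φ : C ⊗[B] Ω[B⁄A] →ₗ[C] L) :
    ∃ X : Exal.Ext B C L, X.IsTrivialOver A ∧
      ∀ z : EGA41.imperfection A B C, X.deltaL A (φ z) = X.baseChangeToMiddle A (z : C ⊗[B] Ω[B⁄A]) := by
  let instB : Module B L := Module.compHom L (algebraMap B C)
  let instA : Module A L := Module.compHom L (algebraMap A C)
  have tBC : IsScalarTower B C L := IsScalarTower.of_algebraMap_smul (fun _ _ => rfl)
  have tAC : IsScalarTower A C L := IsScalarTower.of_algebraMap_smul (fun _ _ => rfl)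
  have tAB : IsScalarTower A B L := by
    refine IsScalarTower.of_algebraMap_smul (fun a l => ?_)
    change algebraMap B C (algebraMap A B a) • l = algebraMap A C a • l
    rw [← IsScalarTower.algebraMap_apply]
  let f : Ω[B⁄A] →ₗ[B] L := (φ.restrictScalars B) ∘ₗ (TensorProduct.mk B C Ω[B⁄A] 1)
  let D : Derivation A B L := f.compDer (KaehlerDifferential.D A B)
  have hDapply : ∀ b, D b = φ ((1 : C) ⊗ₜ[B] KaehlerDifferential.D A B b) := fun b => rfl
  let X : Exal.Ext B C L := Exal.Ext.ofDerivation (C := C) D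
  let σ : C →+* X.E :=
    { toFun := fun c => (TrivSqZeroExt.inl c : TrivSqZeroExt C L)
      map_one' := TrivSqZeroExt.inl_one L
      map_mul' := TrivSqZeroExt.inl_mul L
      map_zero' := TrivSqZeroExt.inl_zero L
      map_add' := TrivSqZeroExt.inl_add L }
  have hσ : ∀ c, X.proj (σ c) = c := fun c => rfl
  have hσA : ∀ a : A, σ (algebraMap A C a) = algebraMap B X.E (algebraMap A B a) := by
    intro a
    change (TrivSqZeroExt.inl (algebraMap A C a) : TrivSqZeroExt C L) =
      TrivSqZeroExt.inl (algebraMap B C (algebraMap A B a)) +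
        TrivSqZeroExt.inr (D (algebraMap A B a))
    rw [Derivation.map_algebraMap, TrivSqZeroExt.inr_zero, add_zero,
      ← IsScalarTower.algebraMap_apply]
  have hφ : ∀ b : B, X.incl (φ ((1 : C) ⊗ₜ[B] KaehlerDifferential.D A B b)) =
      algebraMap B X.E b - σ (algebraMap B C b) := by
    intro b
    change (TrivSqZeroExt.inr (φ ((1 : C) ⊗ₜ[B] KaehlerDifferential.D A B b)) :
        TrivSqZeroExt C L) =
      (TrivSqZeroExt.inl (algebraMap B C b) + TrivSqZeroExt.inr (D b)) -
        TrivSqZeroExt.inl (algebraMap B C b)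
    rw [hDapply, add_sub_cancel_left]
  exact ⟨X, isTrivialOver_of_ringHom_section X σ hσ hσA,
    fun z => isCharHom_of_section X σ hσ hσA φ hφ z⟩

theorem exists_ext_isCharHom
    (h : Module.Injective C L ∨
      ((∃ r : C ⊗[B] Ω[B⁄A] →ₗ[C] ↥(EGA41.imperfection A B C),
          ∀ z : ↥(EGA41.imperfection A B C), r z = z) ∧
        ∃ s : Ω[C⁄B] →ₗ[C] Ω[C⁄A], ∀ ω : Ω[C⁄B], KaehlerDifferential.map A B C C (s ω) = ω))
    (χ : ↥(EGA41.imperfection A B C) →ₗ[C] L) :
    ∃ X : Exal.Ext B C L, X.IsTrivialOver A ∧ X.IsCharHom A χ := by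
  have hext : ∃ φ : C ⊗[B] Ω[B⁄A] →ₗ[C] L, ∀ z : EGA41.imperfection A B C, φ z = χ z := by
    rcases h with hinj | ⟨⟨r, hr⟩, -⟩
    · obtain ⟨φ, hφ⟩ := Module.Injective.extension_property C L
        (↥(EGA41.imperfection A B C)) (C ⊗[B] Ω[B⁄A])
        (EGA41.imperfection A B C).subtype (Submodule.injective_subtype _) χ
      exact ⟨φ, fun z => LinearMap.congr_fun hφ z⟩
    · exact ⟨χ ∘ₗ r, fun z => by rw [LinearMap.comp_apply, hr]⟩
  obtain ⟨φ, hφ⟩ := hext
  obtain ⟨X, hX, hchar⟩ := exists_ext_isCharHom_of_linearMap (A := A) φ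
  refine ⟨X, hX, fun z => ?_⟩
  rw [← hφ z]
  exact hchar z

end Surj

end Groth.Agent.Lib.Helper7.ExalLib
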