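import Mathlib
import Groth.Prelude.Def_Exal3
import Groth.Prelude.Def_Exal2
import Groth.Agent.Lib.Helper7ExalChar2

set_option linter.unusedSectionVars false
set_option linter.style.haveILetI false

open Exal TensorProduct KaehlerDifferential

universe u v

namespace Groth.Agent.Lib.Helper7.ExalLib

section Inj

attribute [local instance] Exal.opModule Exal.isCentralScalar_opModule

variable {A : Type u} {B C L : Type v} [CommRing A] [CommRing B] [CommRing C]
    [Algebra A B] [Algebra B C] [Algebra A C] [IsScalarTower A B C] [AddCommGroup L] [Module C L]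

/-- extension of a map vanishing on the imperfection module to `Ω_{C/A}` -/
theorem exists_theta
    (h : Module.Injective C L ∨
      ∃ s : Ω[C⁄B] →ₗ[C] Ω[C⁄A], ∀ ω : Ω[C⁄B], KaehlerDifferential.map A B C C (s ω) = ω)
    (ψ : C ⊗[B] Ω[B⁄A] →ₗ[C] L)
    (hψ : ∀ z : EGA41.imperfection A B C, ψ z = 0) :
    ∃ θ : Ω[C⁄A] →ₗ[C] L, ∀ y, θ (KaehlerDifferential.mapBaseChange A B C y) = ψ y := by
  let mbc := KaehlerDifferential.mapBaseChange A B C
  have hle : LinearMap.ker mbc ≤ LinearMap.ker ψ := by
    intro y hy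
    exact hψ ⟨y, hy⟩
  let ψI : LinearMap.range mbc →ₗ[C] L :=
    (Submodule.liftQ (LinearMap.ker mbc) ψ hle) ∘ₗ (mbc.quotKerEquivRange.symm : _ →ₗ[C] _)
  have hψI : ∀ y (hy : mbc y ∈ LinearMap.range mbc), ψI ⟨mbc y, hy⟩ = ψ y := by
    intro y hy
    change Submodule.liftQ (LinearMap.ker mbc) ψ hle (mbc.quotKerEquivRange.symm ⟨mbc y, hy⟩) = _
    rw [LinearMap.quotKerEquivRange_symm_apply_image]
    rfl
  rcases h with hinj | ⟨s, hs⟩
  · obtain ⟨θ, hθ⟩ := Module.Injective.extension_property C L
      (↥(LinearMap.range mbc)) (Ω[C⁄A]) (LinearMap.range mbc).subtype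
      (Submodule.injective_subtype _) ψI
    refine ⟨θ, fun y => ?_⟩
    have := LinearMap.congr_fun hθ ⟨mbc y, LinearMap.mem_range_self mbc y⟩
    rw [LinearMap.comp_apply, hψI] at this
    exact this
  · let π := KaehlerDifferential.map A B C C
    have hex : Function.Exact mbc π := KaehlerDifferential.exact_mapBaseChange_map A B C
    let p : Ω[C⁄A] →ₗ[C] Ω[C⁄A] := LinearMap.id - s ∘ₗ π
    have hp : ∀ x, p x ∈ LinearMap.range mbc := by
      intro x
      rw [LinearMap.mem_range]
      apply (hex (p x)).mp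
      change π (x - s (π x)) = 0
      rw [map_sub, hs, sub_self]
    let θ : Ω[C⁄A] →ₗ[C] L := ψI ∘ₗ (p.codRestrict (LinearMap.range mbc) hp)
    refine ⟨θ, fun y => ?_⟩
    have h1 : p (mbc y) = mbc y := by
      change mbc y - s (π (mbc y)) = mbc y
      rw [(hex (mbc y)).mpr ⟨y, rfl⟩, map_zero, sub_zero]
    change ψI (p.codRestrict (LinearMap.range mbc) hp (mbc y)) = ψ y
    have h2 : p.codRestrict (LinearMap.range mbc) hp (mbc y) =
        ⟨mbc y, LinearMap.mem_range_self mbc y⟩ := Subtype.ext h1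
    rw [h2, hψI]

theorem equiv_of_isCharHom
    (h : Module.Injective C L ∨
      ∃ s : Ω[C⁄B] →ₗ[C] Ω[C⁄A], ∀ ω : Ω[C⁄B], KaehlerDifferential.map A B C C (s ω) = ω)
    (X Y : Exal.Ext B C L) (hX : X.IsTrivialOver A) (hY : Y.IsTrivialOver A)
    (χ : ↥(EGA41.imperfection A B C) →ₗ[C] L) (hXχ : X.IsCharHom A χ) (hYχ : Y.IsCharHom A χ) :
    Nonempty (X.Equiv Y) := by
  letI instB : Module B L := Module.compHom L (algebraMap B C)
  letI instA : Module A L := Module.compHom L (algebraMap A C)
  haveI tBC : IsScalarTower B C L := IsScalarTower.of_algebraMap_smul (fun _ _ => rfl)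
  haveI tAC : IsScalarTower A C L := IsScalarTower.of_algebraMap_smul (fun _ _ => rfl)
  haveI tAB : IsScalarTower A B L := by
    refine IsScalarTower.of_algebraMap_smul (fun a l => ?_)
    change algebraMap B C (algebraMap A B a) • l = algebraMap A C a • l
    rw [← IsScalarTower.algebraMap_apply]
  obtain ⟨σX, hσX, hσAX⟩ := exists_ringHom_section_of_isTrivialOver X hX
  obtain ⟨σY, hσY, hσAY⟩ := exists_ringHom_section_of_isTrivialOver Y hY
  obtain ⟨DX, hDX⟩ := exists_derivation_of_section X σX hσX hσAX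
  obtain ⟨DY, hDY⟩ := exists_derivation_of_section Y σY hσY hσAY
  let φX : C ⊗[B] Ω[B⁄A] →ₗ[C] L := LinearMap.liftBaseChange C DX.liftKaehlerDifferential
  let φY : C ⊗[B] Ω[B⁄A] →ₗ[C] L := LinearMap.liftBaseChange C DY.liftKaehlerDifferential
  have hφX : ∀ b, φX ((1 : C) ⊗ₜ[B] D A B b) = DX b := by
    intro b
    simp only [φX, LinearMap.liftBaseChange_tmul, one_smul]
    exact Derivation.liftKaehlerDifferential_comp_D DX b
  have hφY : ∀ b, φY ((1 : C) ⊗ₜ[B] D A B b) = DY b := by
    intro b
    simp only [φY, LinearMap.liftBaseChange_tmul, one_smul]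
    exact Derivation.liftKaehlerDifferential_comp_D DY b
  have hXφ : ∀ z : EGA41.imperfection A B C, φX z = χ z := by
    intro z
    apply deltaL_injective (A := A) X hX
    rw [hXχ z]
    exact isCharHom_of_section X σX hσX hσAX φX (fun b => by rw [hφX, hDX]) z
  have hYφ : ∀ z : EGA41.imperfection A B C, φY z = χ z := by
    intro z
    apply deltaL_injective (A := A) Y hY
    rw [hYχ z]
    exact isCharHom_of_section Y σY hσY hσAY φY (fun b => by rw [hφY, hDY]) z
  obtain ⟨θ, hθ⟩ := exists_theta (A := A) (B := B) h (φY - φX) (fun z => by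
    rw [LinearMap.sub_apply, hXφ, hYφ, sub_self])
  let D' : Derivation A C L := θ.compDer (KaehlerDifferential.D A C)
  have hD'apply : ∀ c, D' c = θ (KaehlerDifferential.D A C c) := fun c => rfl
  have hD' : ∀ b : B, D' (algebraMap B C b) = DY b - DX b := by
    intro b
    have h1 : KaehlerDifferential.mapBaseChange A B C ((1 : C) ⊗ₜ[B] D A B b) =
        KaehlerDifferential.D A C (algebraMap B C b) := by
      rw [KaehlerDifferential.mapBaseChange_tmul, one_smul, KaehlerDifferential.map_D]
    rw [hD'apply, ← h1, hθ, LinearMap.sub_apply, hφX, hφY]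
  -- the modified section of `Y`
  let σY'fun : C → Y.E := fun c => σY c + Y.incl (D' c)
  have hmul : ∀ c c' : C, σY'fun (c * c') = σY'fun c * σY'fun c' := by
    intro c c'
    simp only [σY'fun]
    rw [Derivation.leibniz, map_add, map_mul]
    have e1 : Y.incl (c • D' c') = σY c * Y.incl (D' c') := by
      rw [Y.isExtension.mul_incl, hσY]
    have e2 : Y.incl (c' • D' c) = σY c' * Y.incl (D' c) := by
      rw [Y.isExtension.mul_incl, hσY]
    have e3 : Y.incl (D' c) * Y.incl (D' c') = 0 := incl_mul_incl Y _ _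
    rw [e1, e2]
    linear_combination (-1 : Y.E) * e3
  let σY' : C →+* Y.E :=
    { toFun := σY'fun
      map_one' := by
        simp only [σY'fun]
        rw [map_one, Derivation.map_one_eq_zero, map_zero, add_zero]
      map_mul' := hmul
      map_zero' := by
        simp only [σY'fun]
        rw [map_zero, map_zero, map_zero, add_zero]
      map_add' := fun c c' => by
        simp only [σY'fun]
        rw [map_add, map_add, map_add]
        ring }
  have hσY'apply : ∀ c, σY' c = σY c + Y.incl (D' c) := fun c => rfl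
  have hσY' : ∀ c, Y.proj (σY' c) = c := by
    intro c
    rw [hσY'apply, map_add, hσY, proj_incl, add_zero]
  have hDY' : ∀ b, Y.incl (DX b) = algebraMap B Y.E b - σY' (algebraMap B C b) := by
    intro b
    rw [hσY'apply, hD', map_sub, ← sub_sub, ← hDY]
    ring
  obtain ⟨e1⟩ := equiv_ofDerivation_of_section X σX hσX DX hDX
  obtain ⟨e2⟩ := equiv_ofDerivation_of_section Y σY' hσY' DX hDY'
  exact ⟨e1.trans e2.symm⟩

end Inj

end Groth.Agent.Lib.Helper7.ExalLib
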