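import Mathlib
import Groth.Prelude.Def_Exal3
import Groth.Prelude.Def_Exal2
import Groth.Agent.Lib.Helper7ExalChar3

set_option linter.unusedSectionVars false
set_option linter.style.haveILetI false

open Exal TensorProduct KaehlerDifferential

universe u v

namespace Groth.Agent.Lib.Helper7.ExalLib

section FS

variable {A : Type u} {B C L : Type v} [CommRing A] [CommRing B] [CommRing C]
    [Algebra A B] [Algebra B C] [Algebra A C] [IsScalarTower A B C] [AddCommGroup L] [Module C L]

lemma isTrivial_of_formallySmooth {A : Type u} {B L : Type v} [CommRing A] [CommRing B]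
    [Algebra A B] [AddCommGroup L] [Module B L] [Algebra.FormallySmooth A B]
    (X : Exal.Ext A B L) : X.IsTrivial := by
  have hnil : IsNilpotent (RingHom.ker (X.proj : X.E →+* B)) := ⟨2, ker_proj_sq X⟩
  exact ⟨Algebra.FormallySmooth.liftOfSurjective (AlgHom.id A B) X.proj
    X.isExtension.proj_surjective hnil,
    fun b => Algebra.FormallySmooth.liftOfSurjective_apply _ _ _ _ b⟩

lemma isTrivialOver_of_formallySmooth [Algebra.FormallySmooth A C] (X : Exal.Ext B C L) :
    X.IsTrivialOver A := isTrivial_of_formallySmooth (X.restrictBase A)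

theorem exists_section_map [Module.Projective C Ω[C⁄B]] :
    ∃ s : Ω[C⁄B] →ₗ[C] Ω[C⁄A], ∀ ω : Ω[C⁄B], KaehlerDifferential.map A B C C (s ω) = ω := by
  obtain ⟨s, hs⟩ := Module.projective_lifting_property (KaehlerDifferential.map A B C C)
    (LinearMap.id : Ω[C⁄B] →ₗ[C] Ω[C⁄B]) (KaehlerDifferential.map_surjective A B C)
  exact ⟨s, fun ω => LinearMap.congr_fun hs ω⟩

theorem exists_retraction_imperfection [Algebra.FormallySmooth A C] [Module.Projective C Ω[C⁄B]] :
    ∃ r : C ⊗[B] Ω[B⁄A] →ₗ[C] ↥(EGA41.imperfection A B C),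
      ∀ z : ↥(EGA41.imperfection A B C), r z = z := by
  obtain ⟨s, hs⟩ := exists_section_map (A := A) (B := B) (C := C)
  let mbc := KaehlerDifferential.mapBaseChange A B C
  let π := KaehlerDifferential.map A B C C
  have hex : Function.Exact mbc π := KaehlerDifferential.exact_mapBaseChange_map A B C
  let p : Ω[C⁄A] →ₗ[C] Ω[C⁄A] := LinearMap.id - s ∘ₗ π
  have hp : ∀ x, p x ∈ LinearMap.range mbc := by
    intro x
    rw [LinearMap.mem_range]
    apply (hex (p x)).mp
    change π (x - s (π x)) = 0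
    rw [map_sub, hs, sub_self]
  let pI : Ω[C⁄A] →ₗ[C] LinearMap.range mbc := p.codRestrict (LinearMap.range mbc) hp
  have hpI : pI ∘ₗ (LinearMap.range mbc).subtype = LinearMap.id := by
    ext ⟨x, hx⟩
    obtain ⟨y, rfl⟩ := hx
    change mbc y - s (π (mbc y)) = mbc y
    rw [(hex (mbc y)).mpr ⟨y, rfl⟩, map_zero, sub_zero]
  haveI : Module.Projective C (LinearMap.range mbc) :=
    Module.Projective.of_split (LinearMap.range mbc).subtype pI hpI
  obtain ⟨j, hj⟩ := Module.projective_lifting_property mbc.rangeRestrict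
    (LinearMap.id : LinearMap.range mbc →ₗ[C] LinearMap.range mbc) mbc.surjective_rangeRestrict
  have hj' : ∀ y : C ⊗[B] Ω[B⁄A], mbc (j (mbc.rangeRestrict y)) = mbc y := by
    intro y
    have := LinearMap.congr_fun hj (mbc.rangeRestrict y)
    exact congrArg Subtype.val this
  let r0 : C ⊗[B] Ω[B⁄A] →ₗ[C] C ⊗[B] Ω[B⁄A] := LinearMap.id - j ∘ₗ mbc.rangeRestrict
  have hr0 : ∀ y, r0 y ∈ EGA41.imperfection A B C := by
    intro y
    change mbc (y - j (mbc.rangeRestrict y)) = 0
    rw [map_sub, hj', sub_self]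
  refine ⟨r0.codRestrict _ hr0, fun z => ?_⟩
  apply Subtype.ext
  change (z : C ⊗[B] Ω[B⁄A]) - j (mbc.rangeRestrict z) = z
  have hz : mbc.rangeRestrict (z : C ⊗[B] Ω[B⁄A]) = 0 := Subtype.ext z.2
  rw [hz, map_zero, sub_zero]

theorem charHom_bijective_of_formallySmooth [Algebra.FormallySmooth A C]
    [Module.Projective C Ω[C⁄B]] :
    (∀ (X Y : Exal.Ext B C L) (χ : ↥(EGA41.imperfection A B C) →ₗ[C] L),
        X.IsCharHom A χ → Y.IsCharHom A χ → Nonempty (X.Equiv Y)) ∧
      ∀ χ : ↥(EGA41.imperfection A B C) →ₗ[C] L, ∃ X : Exal.Ext B C L, X.IsCharHom A χ := by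
  constructor
  · intro X Y χ hXχ hYχ
    exact equiv_of_isCharHom (Or.inr (exists_section_map (A := A) (B := B) (C := C))) X Y
      (isTrivialOver_of_formallySmooth X) (isTrivialOver_of_formallySmooth Y) χ hXχ hYχ
  · intro χ
    obtain ⟨r, hr⟩ := exists_retraction_imperfection (A := A) (B := B) (C := C)
    obtain ⟨X, -, hchar⟩ := exists_ext_isCharHom_of_linearMap (A := A) (χ ∘ₗ r)
    refine ⟨X, fun z => ?_⟩
    have := hchar z
    rw [LinearMap.comp_apply, hr] at this
    exact this

end FS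

end Groth.Agent.Lib.Helper7.ExalLib
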