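import Mathlib

/-!
# Helper7FinFree: realising a finite residue field extension by a finite free algebra
-/

set_option autoImplicit false
set_option linter.style.haveILetI false
universe u

open Polynomial

namespace Groth.Agent.Lib.Helper7.FinFree

/-- Finitely many elements of a field `K` integral over `R` lie in the image of a finite free
`R`-algebra. -/
theorem exists_finite_free_algHom (R : Type u) [CommRing R] (K : Type u) [Field K] [Algebra R K]
    (s : Finset K) (hs : ∀ x ∈ s, IsIntegral R x) :
    ∃ (S : Type u) (_ : CommRing S) (_ : Algebra R S) (_ : Module.Finite R S)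
      (_ : Module.Free R S) (φ : S →ₐ[R] K), ∀ x ∈ s, x ∈ φ.range := by
  classical
  induction s using Finset.induction_on with
  | empty =>
    exact ⟨R, inferInstance, inferInstance, inferInstance, inferInstance, Algebra.ofId R K,
      fun x hx => absurd hx (Finset.notMem_empty x)⟩
  | insert β s hβs ih =>
    obtain ⟨S, _, _, hfin, hfree, φ, hφ⟩ := ih (fun x hx => hs x (Finset.mem_insert_of_mem hx))
    obtain ⟨f, hf, hfβ⟩ := hs β (Finset.mem_insert_self β s)
    have hmonic : (f.map (algebraMap R S)).Monic := hf.map _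
    let pb := AdjoinRoot.powerBasis' hmonic
    haveI : Module.Finite S (AdjoinRoot (f.map (algebraMap R S))) := pb.finite
    haveI : Module.Free S (AdjoinRoot (f.map (algebraMap R S))) := Module.Free.of_basis pb.basis
    have h0 : (f.map (algebraMap R S)).eval₂ (φ : S →+* K) β = 0 := by
      rw [Polynomial.eval₂_map]
      have : (φ : S →+* K).comp (algebraMap R S) = algebraMap R K := by
        ext r; simp
      rw [this]; exact hfβ
    refine ⟨AdjoinRoot (f.map (algebraMap R S)), inferInstance, inferInstance,
      Module.Finite.trans S _, Module.Free.trans (R := R) (S := S), 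
      AdjoinRoot.liftAlgHom (f.map (algebraMap R S)) φ β h0, ?_⟩
    intro x hx
    rcases Finset.mem_insert.mp hx with rfl | hx
    · exact ⟨AdjoinRoot.root _, by simp⟩
    · obtain ⟨y, hy⟩ := hφ x hx
      exact ⟨AdjoinRoot.of _ y, by simpa using hy⟩


/-- A multiple by an element outside `q` of an element integral over `κ(q)` is integral over `R`. -/
theorem exists_mul_isIntegral (R : Type u) [CommRing R] (q : Ideal R) [q.IsPrime] (k' : Type u)
    [Field k'] [Algebra q.ResidueField k'] [Algebra R k'] [IsScalarTower R q.ResidueField k']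
    (α : k') (hα : IsIntegral q.ResidueField α) :
    ∃ t : R, algebraMap R k' t ≠ 0 ∧ IsIntegral R (algebraMap R k' t * α) := by
  letI : Algebra (R ⧸ q) k' :=
    ((algebraMap q.ResidueField k').comp (algebraMap (R ⧸ q) q.ResidueField)).toAlgebra
  haveI : IsScalarTower (R ⧸ q) q.ResidueField k' := IsScalarTower.of_algebraMap_eq fun _ => rfl
  haveI : IsScalarTower R (R ⧸ q) k' := IsScalarTower.of_algebraMap_eq fun r => by
    rw [IsScalarTower.algebraMap_apply R q.ResidueField k',
      IsScalarTower.algebraMap_apply R (R ⧸ q) q.ResidueField]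
    rfl
  obtain ⟨⟨m, hm⟩, hint⟩ := IsIntegral.exists_multiple_integral_of_isLocalization
    (nonZeroDivisors (R ⧸ q)) (Rₘ := q.ResidueField) α hα
  obtain ⟨t, rfl⟩ := Ideal.Quotient.mk_surjective m
  haveI : Algebra.IsIntegral R (R ⧸ q) :=
    Algebra.isIntegral_of_surjective Ideal.Quotient.mk_surjective
  have hint' : IsIntegral R ((⟨Ideal.Quotient.mk q t, hm⟩ : nonZeroDivisors (R ⧸ q)) • α) :=
    isIntegral_trans (A := R ⧸ q) _ hint
  have heq : ((⟨Ideal.Quotient.mk q t, hm⟩ : nonZeroDivisors (R ⧸ q)) • α) =
      algebraMap R k' t * α := by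
    rw [Submonoid.smul_def, Algebra.smul_def, IsScalarTower.algebraMap_apply R (R ⧸ q) k']
    rfl
  refine ⟨t, ?_, heq ▸ hint'⟩
  rw [IsScalarTower.algebraMap_apply R (R ⧸ q) k',
    IsScalarTower.algebraMap_apply (R ⧸ q) q.ResidueField k']
  have h1 : algebraMap (R ⧸ q) q.ResidueField (algebraMap R (R ⧸ q) t) ≠ 0 := by
    intro h0
    have := (IsFractionRing.injective (R ⧸ q) q.ResidueField) (h0.trans (map_zero _).symm)
    exact (nonZeroDivisors.ne_zero hm) this
  exact fun h0 => h1 ((algebraMap q.ResidueField k').injective (h0.trans (map_zero _).symm))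


/-- A finite extension `k'` of `κ(q)` is the "fraction field of the image" of a finite free
`R`-algebra. -/
theorem exists_finite_free_fraction (R : Type u) [CommRing R] (q : Ideal R) [q.IsPrime]
    (k' : Type u) [Field k'] [Algebra q.ResidueField k'] [Module.Finite q.ResidueField k']
    [Algebra R k'] [IsScalarTower R q.ResidueField k'] :
    ∃ (S : Type u) (_ : CommRing S) (_ : Algebra R S) (_ : Module.Finite R S)
      (_ : Module.Free R S) (φ : S →ₐ[R] k'), ∀ z : k', ∃ a b : S, φ b ≠ 0 ∧ z = φ a / φ b := by
  classical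
  obtain ⟨s₀, hs₀⟩ := (Module.Finite.fg_top : (⊤ : Submodule q.ResidueField k').FG)
  have hint : ∀ α : k', IsIntegral q.ResidueField α := fun α => Algebra.IsIntegral.isIntegral α
  choose t ht0 htint using fun α : k' => exists_mul_isIntegral R q k' α (hint α)
  obtain ⟨S, _, _, hfin, hfree, φ, hφ⟩ := exists_finite_free_algHom R k'
    (s₀.image (fun α => algebraMap R k' (t α) * α)) (by
      intro x hx
      obtain ⟨α, -, rfl⟩ := Finset.mem_image.mp hx
      exact htint α)
  refine ⟨S, inferInstance, inferInstance, hfin, hfree, φ, ?_⟩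
  -- the subfield of fractions
  let F : Subfield k' := Subfield.closure (Set.range φ)
  have hF : ∀ z ∈ F, ∃ a b : S, φ b ≠ 0 ∧ z = φ a / φ b := by
    intro z hz
    obtain ⟨y, hy, w, hw, rfl⟩ := Subfield.mem_closure_iff.mp hz
    have hcl : Subring.closure (Set.range φ) = (φ : S →+* k').range := by
      have : Set.range φ = ((φ : S →+* k').range : Set k') := by ext; simp
      rw [this, Subring.closure_eq]
    rw [hcl] at hy hw
    obtain ⟨a, rfl⟩ := hy
    obtain ⟨b, rfl⟩ := hw
    by_cases hb : φ b = 0
    · refine ⟨0, 1, by simp, ?_⟩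
      simp [hb]
    · exact ⟨a, b, hb, rfl⟩
  have hRF : ∀ r : R, algebraMap R k' r ∈ F := fun r =>
    Subfield.subset_closure ⟨algebraMap R S r, by simp⟩
  have hκF : ∀ c : q.ResidueField, algebraMap q.ResidueField k' c ∈ F := by
    intro c
    obtain ⟨a, b, hb, rfl⟩ := IsFractionRing.div_surjective (A := R ⧸ q) c
    obtain ⟨a', rfl⟩ := Ideal.Quotient.mk_surjective a
    obtain ⟨b', rfl⟩ := Ideal.Quotient.mk_surjective b
    rw [map_div₀]
    have e1 : ∀ x : R, algebraMap q.ResidueField k' (algebraMap (R ⧸ q) q.ResidueField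
        (Ideal.Quotient.mk q x)) = algebraMap R k' x := by
      intro x
      rw [IsScalarTower.algebraMap_apply R q.ResidueField k',
        IsScalarTower.algebraMap_apply R (R ⧸ q) q.ResidueField]
      rfl
    rw [e1, e1]
    exact F.div_mem (hRF a') (hRF b')
  have hαF : ∀ α ∈ s₀, α ∈ F := by
    intro α hα
    have h1 : algebraMap R k' (t α) * α ∈ F :=
      Subfield.subset_closure (hφ _ (Finset.mem_image_of_mem _ hα))
    have h2 := F.div_mem h1 (hRF (t α))
    rwa [mul_div_cancel_left₀ _ (ht0 α)] at h2
  intro z
  apply hF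
  have hz : z ∈ Submodule.span q.ResidueField (s₀ : Set k') := by rw [hs₀]; trivial
  induction hz using Submodule.span_induction with
  | mem x hx => exact hαF x hx
  | zero => exact F.zero_mem
  | add x y _ _ hx hy => exact F.add_mem hx hy
  | smul c x _ hx =>
    rw [Algebra.smul_def]
    exact F.mul_mem (hκF c) hx

end Groth.Agent.Lib.Helper7.FinFree
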