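import Mathlib
import Groth.Prelude
import Groth.Agent.Lib.Helper28ComplQuot
import Groth.Agent.Lib.Helper28ComplIso

/-!
# Helper7FinFreeCpl: elements of `Â ⊗[R] S` modulo `p`, for `Â` the completion of `R_p`.
-/

set_option autoImplicit false
set_option linter.style.haveILetI false
universe u

open TensorProduct IsLocalRing

namespace Groth.Agent.Lib.Helper7.FFCpl

open Groth.Agent.Lib.Helper28

/-- (†): every element of the completion of `R_p` is, up to a multiple outside `p`, congruent
modulo `p` to an element of `R`. -/
theorem exists_mul_sub_mem (R : Type u) [CommRing R] [IsNoetherianRing R] (p : Ideal R) [p.IsPrime]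
    (â : AdicCompletion (maximalIdeal (Localization.AtPrime p)) (Localization.AtPrime p)) :
    ∃ (r t : R), t ∉ p ∧
      algebraMap R (AdicCompletion (maximalIdeal (Localization.AtPrime p))
        (Localization.AtPrime p)) t * â - algebraMap R _ r ∈
      p.map (algebraMap R (AdicCompletion (maximalIdeal (Localization.AtPrime p))
        (Localization.AtPrime p))) := by
  haveI : IsNoetherianRing (Localization.AtPrime p) :=
    IsLocalization.isNoetherianRing p.primeCompl _ inferInstance
  obtain ⟨a, ha⟩ := exists_sub_of_mem_pow_smul_top (maximalIdeal (Localization.AtPrime p))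
    (IsNoetherian.noetherian _) 1 â
  have hmap : p.map (algebraMap R (AdicCompletion (maximalIdeal (Localization.AtPrime p))
      (Localization.AtPrime p))) = maximalIdeal (AdicCompletion (maximalIdeal
      (Localization.AtPrime p)) (Localization.AtPrime p)) := by
    rw [AdicCompletion.maximalIdeal_eq_map (R := Localization.AtPrime p),
      ← IsLocalization.AtPrime.map_eq_maximalIdeal p (Localization.AtPrime p), Ideal.map_map,
      ← IsScalarTower.algebraMap_eq]
  have ha' : â - algebraMap (Localization.AtPrime p) _ a ∈
      maximalIdeal (AdicCompletion (maximalIdeal (Localization.AtPrime p))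
        (Localization.AtPrime p)) := by
    rw [AdicCompletion.maximalIdeal_eq_map (R := Localization.AtPrime p),
      ← Submodule.restrictScalars_mem (Localization.AtPrime p), ← Ideal.smul_top_eq_map]
    rw [pow_one] at ha
    exact ha
  obtain ⟨⟨r, t⟩, hrt⟩ := IsLocalization.surj p.primeCompl a
  refine ⟨r, t, t.2, ?_⟩
  rw [hmap]
  have e : algebraMap R (AdicCompletion (maximalIdeal (Localization.AtPrime p))
        (Localization.AtPrime p)) t * â - algebraMap R _ r =
      algebraMap R _ (t : R) * (â - algebraMap (Localization.AtPrime p) _ a) := by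
    rw [IsScalarTower.algebraMap_apply R (Localization.AtPrime p) (AdicCompletion _ _) r, ← hrt,
      IsScalarTower.algebraMap_apply R (Localization.AtPrime p) (AdicCompletion _ _) (t : R),
      map_mul]
    ring
  rw [e]
  exact Ideal.mul_mem_left _ _ ha'


section Star

variable (R : Type u) [CommRing R] (p : Ideal R) [p.IsPrime]
  (Â : Type u) [CommRing Â] [Algebra R Â] (S : Type u) [CommRing S] [Algebra R S]

/-- (★): every element of `Â ⊗[R] S` is, up to a multiple outside `p`, congruent modulo `p` to
an element of `S`. -/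
theorem exists_smul_sub_mem
    (hdag : ∀ â : Â, ∃ (r t : R), t ∉ p ∧
      algebraMap R Â t * â - algebraMap R Â r ∈ p.map (algebraMap R Â))
    (w : Â ⊗[R] S) :
    ∃ (s : S) (t : R), t ∉ p ∧ t • w - (1 : Â) ⊗ₜ[R] s ∈ p.map (algebraMap R (Â ⊗[R] S)) := by
  induction w using TensorProduct.induction_on with
  | zero => exact ⟨0, 1, fun h => (Ideal.IsPrime.ne_top inferInstance)
      ((Ideal.eq_top_iff_one p).mpr h), by simp⟩
  | tmul â s₀ =>
    obtain ⟨r, t, ht, hx⟩ := hdag â
    refine ⟨r • s₀, t, ht, ?_⟩
    have e : t • (â ⊗ₜ[R] s₀) - (1 : Â) ⊗ₜ[R] (r • s₀) =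
        (Algebra.TensorProduct.includeLeft (R := R) (S := R) (A := Â) (B := S)
          (algebraMap R Â t * â - algebraMap R Â r)) * ((1 : Â) ⊗ₜ[R] s₀) := by
      rw [Algebra.TensorProduct.includeLeft_apply, Algebra.TensorProduct.tmul_mul_tmul, mul_one,
        one_mul, TensorProduct.sub_tmul, TensorProduct.smul_tmul', TensorProduct.tmul_smul,
        TensorProduct.smul_tmul', Algebra.smul_def, Algebra.smul_def, mul_one]
    rw [e]
    apply Ideal.mul_mem_right
    have hle : p.map (algebraMap R Â) ≤ (p.map (algebraMap R (Â ⊗[R] S))).comap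
        (Algebra.TensorProduct.includeLeft (R := R) (S := R) (A := Â) (B := S)).toRingHom := by
      rw [Ideal.map_le_iff_le_comap]
      intro r hr
      rw [Ideal.mem_comap, Ideal.mem_comap]
      have : (Algebra.TensorProduct.includeLeft (R := R) (S := R) (A := Â) (B := S)).toRingHom
          (algebraMap R Â r) = algebraMap R (Â ⊗[R] S) r := by
        simp [Algebra.TensorProduct.algebraMap_apply]
      rw [this]
      exact Ideal.mem_map_of_mem _ hr
    exact hle hx
  | add w₁ w₂ h₁ h₂ =>
    obtain ⟨s₁, t₁, ht₁, hx₁⟩ := h₁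
    obtain ⟨s₂, t₂, ht₂, hx₂⟩ := h₂
    refine ⟨t₂ • s₁ + t₁ • s₂, t₁ * t₂, fun h => (Ideal.IsPrime.mem_or_mem inferInstance h).elim
      ht₁ ht₂, ?_⟩
    have e : (t₁ * t₂) • (w₁ + w₂) - (1 : Â) ⊗ₜ[R] (t₂ • s₁ + t₁ • s₂) =
        t₂ • (t₁ • w₁ - (1 : Â) ⊗ₜ[R] s₁) + t₁ • (t₂ • w₂ - (1 : Â) ⊗ₜ[R] s₂) := by
      rw [TensorProduct.tmul_add, TensorProduct.tmul_smul, TensorProduct.tmul_smul, smul_sub,
        smul_sub, smul_add, mul_smul, mul_smul, smul_comm t₁ t₂ w₁]
      abel
    rw [e]
    refine Ideal.add_mem _ ?_ ?_
    · rw [Algebra.smul_def]; exact Ideal.mul_mem_left _ _ hx₁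
    · rw [Algebra.smul_def]; exact Ideal.mul_mem_left _ _ hx₂

end Star


section H12

variable {R S W : Type u} [CommRing R] [CommRing S] [CommRing W] [Algebra R S] [Algebra S W]
  [Algebra R W] [IsScalarTower R S W] (p : Ideal R) [p.IsPrime] (N : Ideal W) [N.IsPrime]
  (star : ∀ w : W, ∃ (s : S) (t : R), t ∉ p ∧
    t • w - algebraMap S W s ∈ p.map (algebraMap R W))
  (hpN : p.map (algebraMap R W) ≤ N) (hunit : ∀ t : R, t ∉ p → algebraMap R W t ∉ N)

include star hpN hunit

theorem exists_sub_localRingHom_mem (w : W) :
    ∃ a : Localization.AtPrime (N.comap (algebraMap S W)),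
      algebraMap W (Localization.AtPrime N) w -
        Localization.localRingHom (N.comap (algebraMap S W)) N (algebraMap S W) rfl a ∈
      maximalIdeal (Localization.AtPrime N) := by
  obtain ⟨s, t, ht, hy⟩ := star w
  have ht' : algebraMap R S t ∈ (N.comap (algebraMap S W)).primeCompl := by
    intro hmem
    have hmem' : algebraMap S W (algebraMap R S t) ∈ N := hmem
    rw [← IsScalarTower.algebraMap_apply] at hmem'
    exact hunit t ht hmem'
  refine ⟨IsLocalization.mk' _ s ⟨algebraMap R S t, ht'⟩, ?_⟩
  have hu : IsUnit (algebraMap W (Localization.AtPrime N) (algebraMap R W t)) :=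
    IsLocalization.map_units (Localization.AtPrime N)
      (⟨algebraMap R W t, hunit t ht⟩ : N.primeCompl)
  have hy' : algebraMap W (Localization.AtPrime N) (t • w - algebraMap S W s) ∈
      maximalIdeal (Localization.AtPrime N) :=
    (IsLocalization.AtPrime.to_map_mem_maximal_iff (Localization.AtPrime N) N _).mpr (hpN hy)
  have e : algebraMap W (Localization.AtPrime N) (algebraMap R W t) *
      (algebraMap W (Localization.AtPrime N) w -
        Localization.localRingHom (N.comap (algebraMap S W)) N (algebraMap S W) rfl
          (IsLocalization.mk' _ s ⟨algebraMap R S t, ht'⟩)) =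
      algebraMap W (Localization.AtPrime N) (t • w - algebraMap S W s) := by
    rw [Localization.localRingHom_mk', mul_sub, map_sub, Algebra.smul_def, map_mul]
    congr 1
    have : algebraMap W (Localization.AtPrime N) (algebraMap R W t) =
        algebraMap W (Localization.AtPrime N) (algebraMap S W (algebraMap R S t)) := by
      rw [← IsScalarTower.algebraMap_apply R S W]
    rw [this]
    exact IsLocalization.mk'_spec' (Localization.AtPrime N) (algebraMap S W s)
      (⟨algebraMap S W (algebraMap R S t), _⟩ : N.primeCompl)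
  rw [← Ideal.unit_mul_mem_iff_mem _ hu, e]
  exact hy'


/-- h2: the residue field extension of `S_{p'} → W_N` is trivial. -/
theorem exists_sub_mem_maximalIdeal (c : Localization.AtPrime N) :
    ∃ a : Localization.AtPrime (N.comap (algebraMap S W)),
      c - Localization.localRingHom (N.comap (algebraMap S W)) N (algebraMap S W) rfl a ∈
      maximalIdeal (Localization.AtPrime N) := by
  set g := Localization.localRingHom (N.comap (algebraMap S W)) N (algebraMap S W) rfl with hg
  haveI : IsLocalHom g := Localization.isLocalHom_localRingHom _ _ _ rfl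
  obtain ⟨⟨w, u⟩, hwu⟩ := IsLocalization.surj N.primeCompl c
  obtain ⟨aw, haw⟩ := exists_sub_localRingHom_mem p N star hpN hunit w
  obtain ⟨au, hau⟩ := exists_sub_localRingHom_mem p N star hpN hunit (u : W)
  have huu : IsUnit (algebraMap W (Localization.AtPrime N) (u : W)) :=
    IsLocalization.map_units _ u
  have hgau : IsUnit (g au) := by
    by_contra hnu
    have h1 : g au ∈ maximalIdeal (Localization.AtPrime N) := hnu
    have h2 := Ideal.add_mem _ hau h1
    rw [sub_add_cancel] at h2
    exact h2 huu
  have hau' : IsUnit au := IsUnit.of_map g au hgau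
  obtain ⟨v, hv⟩ := hau'.exists_right_inv
  refine ⟨aw * v, ?_⟩
  rw [← Ideal.unit_mul_mem_iff_mem _ huu]
  have e : algebraMap W (Localization.AtPrime N) (u : W) * (c - g (aw * v)) =
      (algebraMap W (Localization.AtPrime N) w - g aw) +
        (g au - algebraMap W (Localization.AtPrime N) (u : W)) * g (aw * v) := by
    have h3 : g au * g (aw * v) = g aw := by
      rw [← map_mul, ← mul_assoc, mul_comm au aw, mul_assoc, hv, mul_one]
    have h4 : algebraMap W (Localization.AtPrime N) (u : W) * c =
        algebraMap W (Localization.AtPrime N) w := by rw [mul_comm]; exact hwu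
    rw [mul_sub, h4, sub_mul, h3]
    ring
  rw [e]
  refine Ideal.add_mem _ haw (Ideal.mul_mem_right _ _ ?_)
  have := Ideal.neg_mem_iff _ |>.mpr hau
  rwa [neg_sub] at this

/-- h1: `m_E C = m_C` for `E = S_{p'}`, `C = W_N`. -/
theorem map_maximalIdeal_eq :
    (maximalIdeal (Localization.AtPrime (N.comap (algebraMap S W)))).map
      (Localization.localRingHom (N.comap (algebraMap S W)) N (algebraMap S W) rfl) =
      maximalIdeal (Localization.AtPrime N) := by
  set g := Localization.localRingHom (N.comap (algebraMap S W)) N (algebraMap S W) rfl with hg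
  haveI hgl : IsLocalHom g := Localization.isLocalHom_localRingHom _ _ _ rfl
  apply le_antisymm (((IsLocalRing.local_hom_TFAE g).out 0 2).mp hgl)
  rw [← IsLocalization.AtPrime.map_eq_maximalIdeal N (Localization.AtPrime N),
    Ideal.map_le_iff_le_comap]
  intro x hx
  rw [Ideal.mem_comap]
  obtain ⟨s, t, ht, hy⟩ := star x
  have hu : IsUnit (algebraMap W (Localization.AtPrime N) (algebraMap R W t)) :=
    IsLocalization.map_units (Localization.AtPrime N)
      (⟨algebraMap R W t, hunit t ht⟩ : N.primeCompl)
  rw [← Ideal.unit_mul_mem_iff_mem _ hu, ← map_mul, ← Algebra.smul_def]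
  -- `t • x = (t • x - s) + s`
  have hs : algebraMap S W s ∈ N := by
    have h1 : t • x ∈ N := by rw [Algebra.smul_def]; exact Ideal.mul_mem_left _ _ hx
    have h2 := Ideal.sub_mem _ h1 (hpN hy)
    rwa [sub_sub_cancel] at h2
  have hs' : algebraMap S (Localization.AtPrime (N.comap (algebraMap S W))) s ∈
      maximalIdeal (Localization.AtPrime (N.comap (algebraMap S W))) :=
    (IsLocalization.AtPrime.to_map_mem_maximal_iff _ (N.comap (algebraMap S W)) _).mpr hs
  have h5 : algebraMap W (Localization.AtPrime N) (algebraMap S W s) ∈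
      (maximalIdeal (Localization.AtPrime (N.comap (algebraMap S W)))).map g := by
    rw [← Localization.localRingHom_to_map (N.comap (algebraMap S W)) N (algebraMap S W) rfl]
    exact Ideal.mem_map_of_mem _ hs'
  have h6 : p.map (algebraMap R W) ≤ ((maximalIdeal (Localization.AtPrime
      (N.comap (algebraMap S W)))).map g).comap (algebraMap W (Localization.AtPrime N)) := by
    rw [Ideal.map_le_iff_le_comap]
    intro r hr
    rw [Ideal.mem_comap, Ideal.mem_comap, IsScalarTower.algebraMap_apply R S W,
      ← Localization.localRingHom_to_map (N.comap (algebraMap S W)) N (algebraMap S W) rfl]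
    apply Ideal.mem_map_of_mem
    apply (IsLocalization.AtPrime.to_map_mem_maximal_iff _ (N.comap (algebraMap S W)) _).mpr
    rw [Ideal.mem_comap, ← IsScalarTower.algebraMap_apply R S W]
    exact hpN (Ideal.mem_map_of_mem _ hr)
  have h7 := h6 hy
  rw [Ideal.mem_comap] at h7
  have e : algebraMap W (Localization.AtPrime N) (t • x) =
      algebraMap W (Localization.AtPrime N) (t • x - algebraMap S W s) +
        algebraMap W (Localization.AtPrime N) (algebraMap S W s) := by
    rw [← map_add, sub_add_cancel]
  rw [e]
  exact Ideal.add_mem _ h7 h5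

end H12

end Groth.Agent.Lib.Helper7.FFCpl
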