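import Mathlib
import Groth.Prelude
import Groth.Agent.Lib.Helper7FinFreeCpl
import Groth.Agent.Lib.Helper7QFFF2
import Groth.Agent.Lib.Helper7RegLoc2
import Groth.Agent.Lib.Helper7FinFree

/-!
# Helper7FinFreeFF: G-rings and formal fibres of finite free algebras (S9274)
-/

set_option autoImplicit false
set_option linter.style.haveILetI false
universe u

open TensorProduct IsLocalRing

namespace Groth.Agent.Lib.Helper7.FFFF

open Groth.Agent.Lib.Helper28 Groth.Agent.Lib.Helper7.QFFF

/-- A field `k'` over a ring `E` in which every element is a fraction of elements of `E` is the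
residue field of the kernel. -/
theorem nonempty_algEquiv_residueField_ker (E : Type u) [CommRing E] (k' : Type u) [Field k']
    [Algebra E k']
    (hfrac : ∀ z : k', ∃ a b : E, z = algebraMap E k' a / algebraMap E k' b) :
    haveI : (RingHom.ker (algebraMap E k')).IsPrime := RingHom.ker_isPrime _
    Nonempty ((RingHom.ker (algebraMap E k')).ResidueField ≃ₐ[E] k') := by
  haveI : (RingHom.ker (algebraMap E k')).IsPrime := RingHom.ker_isPrime _
  letI : Algebra (E ⧸ RingHom.ker (algebraMap E k')) k' :=
    (RingHom.kerLift (algebraMap E k')).toAlgebra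
  haveI : IsScalarTower E (E ⧸ RingHom.ker (algebraMap E k')) k' :=
    IsScalarTower.of_algebraMap_eq fun x => rfl
  haveI : FaithfulSMul (E ⧸ RingHom.ker (algebraMap E k')) k' :=
    (faithfulSMul_iff_algebraMap_injective _ _).mpr (RingHom.kerLift_injective _)
  haveI : IsFractionRing (E ⧸ RingHom.ker (algebraMap E k')) k' := by
    apply IsFractionRing.of_field
    intro z
    obtain ⟨a, b, rfl⟩ := hfrac z
    exact ⟨Ideal.Quotient.mk _ a, Ideal.Quotient.mk _ b, rfl⟩
  exact ⟨(IsLocalization.algEquiv (nonZeroDivisors (E ⧸ RingHom.ker (algebraMap E k')))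
    (RingHom.ker (algebraMap E k')).ResidueField k').restrictScalars E⟩


/-- Formal-fibre transfer: if `W_N` is complete and `S_{p'} → W_N` induces an isomorphism on
completions, then regularity of the formal fibres of `S_{p'}` gives regularity of `k' ⊗[S] W_N`
for a field `k'` which is a field of fractions of a quotient of `S`. -/
theorem isRegularRing_tensor_localization_of_formalFibre
    (S W : Type u) [CommRing S] [CommRing W] [Algebra S W] [IsNoetherianRing S]
    [IsNoetherianRing W] [Module.Flat S W] (N : Ideal W) [N.IsPrime]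
    (hC : IsAdicComplete (maximalIdeal (Localization.AtPrime N)) (Localization.AtPrime N))
    (h1 : (maximalIdeal (Localization.AtPrime (N.comap (algebraMap S W)))).map
      (Localization.localRingHom (N.comap (algebraMap S W)) N (algebraMap S W) rfl) =
      maximalIdeal (Localization.AtPrime N))
    (h2 : ∀ c : Localization.AtPrime N, ∃ a : Localization.AtPrime (N.comap (algebraMap S W)),
      c - Localization.localRingHom (N.comap (algebraMap S W)) N (algebraMap S W) rfl a ∈
      maximalIdeal (Localization.AtPrime N))
    (Hreg : ∀ (Q' : Ideal (Localization.AtPrime (N.comap (algebraMap S W)))) [Q'.IsPrime],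
      IsRegularRing (EGA4.formalFibre (Localization.AtPrime (N.comap (algebraMap S W))) Q'))
    (k' : Type u) [Field k'] [Algebra S k']
    (hfrac : ∀ z : k', ∃ a b : S, algebraMap S k' b ≠ 0 ∧
      z = algebraMap S k' a / algebraMap S k' b)
    (hnt : Nontrivial (k' ⊗[S] Localization.AtPrime N)) :
    IsRegularRing (k' ⊗[S] Localization.AtPrime N) := by
  set p' := N.comap (algebraMap S W) with hp'
  letI algEC : Algebra (Localization.AtPrime p') (Localization.AtPrime N) :=
    (Localization.localRingHom p' N (algebraMap S W) rfl).toAlgebra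
  haveI : IsScalarTower S (Localization.AtPrime p') (Localization.AtPrime N) :=
    IsScalarTower.of_algebraMap_eq fun x => by
      rw [RingHom.algebraMap_toAlgebra, Localization.localRingHom_to_map,
        IsScalarTower.algebraMap_apply S W (Localization.AtPrime N)]
  haveI : IsLocalization (Algebra.algebraMapSubmonoid (Localization.AtPrime N) p'.primeCompl)
      (Localization.AtPrime N) := by
    apply IsLocalization.of_le_isUnit
    rintro _ ⟨x, hx, rfl⟩
    rw [IsScalarTower.algebraMap_apply S W (Localization.AtPrime N)]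
    exact IsLocalization.map_units (Localization.AtPrime N)
      (⟨algebraMap S W x, fun hmem => hx hmem⟩ : N.primeCompl)
  haveI : IsLocalHom (algebraMap (Localization.AtPrime p') (Localization.AtPrime N)) :=
    Localization.isLocalHom_localRingHom _ _ _ rfl
  haveI : IsNoetherianRing (Localization.AtPrime N) :=
    IsLocalization.isNoetherianRing N.primeCompl _ inferInstance
  haveI : IsNoetherianRing (Localization.AtPrime p') :=
    IsLocalization.isNoetherianRing p'.primeCompl _ inferInstance
  haveI : Module.Flat (Localization.AtPrime p') (Localization.AtPrime N) := flat_localRingHom S W N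
  -- (3a) the kernel of `S → k'` lies in `p'`
  have hker : ∀ s : S, algebraMap S k' s = 0 → s ∈ p' := by
    intro s hs
    by_contra hsp
    have hu : IsUnit (algebraMap W (Localization.AtPrime N) (algebraMap S W s)) :=
      IsLocalization.map_units (Localization.AtPrime N)
        (⟨algebraMap S W s, fun hmem => hsp hmem⟩ : N.primeCompl)
    obtain ⟨u, hu⟩ := hu.exists_right_inv
    have h10 : (1 : k' ⊗[S] Localization.AtPrime N) = 0 := by
      rw [Algebra.TensorProduct.one_def, ← hu,
        ← IsScalarTower.algebraMap_apply S W (Localization.AtPrime N), ← Algebra.smul_def,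
        TensorProduct.tmul_smul, TensorProduct.smul_tmul', Algebra.smul_def, hs, zero_mul,
        TensorProduct.zero_tmul]
    exact one_ne_zero h10
  have hunits : ∀ y : p'.primeCompl, IsUnit (algebraMap S k' (y : S)) := fun y =>
    IsUnit.mk0 _ (fun h0 => y.2 (hker _ h0))
  letI algEk : Algebra (Localization.AtPrime p') k' :=
    (IsLocalization.lift (M := p'.primeCompl) (S := Localization.AtPrime p') hunits).toAlgebra
  haveI : IsScalarTower S (Localization.AtPrime p') k' :=
    IsScalarTower.of_algebraMap_eq fun x => by
      rw [RingHom.algebraMap_toAlgebra, IsLocalization.lift_eq]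
  -- (3b) `k' ⊗[S] C ≃ k' ⊗[E] C`
  let i1 : k' ⊗[Localization.AtPrime p'] (Localization.AtPrime p' ⊗[S] Localization.AtPrime N) ≃ₐ[k']
      k' ⊗[S] Localization.AtPrime N :=
    Algebra.TensorProduct.cancelBaseChange S (Localization.AtPrime p') k' k' (Localization.AtPrime N)
  let i2 : Localization.AtPrime p' ⊗[S] Localization.AtPrime N ≃ₐ[Localization.AtPrime p']
      Localization.AtPrime N :=
    localizationTensorEquiv S (Localization.AtPrime N) p'.primeCompl (Localization.AtPrime p')
      (Localization.AtPrime N)
  -- (3c) `Cpl E ≃ₐ[E] C`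
  obtain ⟨e, he⟩ := exists_ringEquiv_adicCompletion_of_flat_of_map_maximalIdeal
    (Localization.AtPrime p') (Localization.AtPrime N) h1 h2
  let eC : Localization.AtPrime N ≃ₐ[Localization.AtPrime N]
      AdicCompletion (maximalIdeal (Localization.AtPrime N)) (Localization.AtPrime N) :=
    AdicCompletion.ofAlgEquiv (maximalIdeal (Localization.AtPrime N))
  let i3 : EGA4.Cpl (Localization.AtPrime p') ≃ₐ[Localization.AtPrime p'] Localization.AtPrime N :=
    { e.trans eC.symm.toRingEquiv with
      commutes' := fun a => by
        show eC.symm (e (algebraMap _ _ a)) = _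
        rw [he a, AlgEquiv.symm_apply_eq]
        exact (eC.commutes _).symm }
  -- (3d) `k' ≅ κ(Q')`
  have hfracE : ∀ z : k', ∃ a b : Localization.AtPrime p',
      z = algebraMap (Localization.AtPrime p') k' a / algebraMap (Localization.AtPrime p') k' b := by
    intro z
    obtain ⟨a, b, -, rfl⟩ := hfrac z
    exact ⟨algebraMap S _ a, algebraMap S _ b, by
      rw [← IsScalarTower.algebraMap_apply, ← IsScalarTower.algebraMap_apply]⟩
  haveI hQ' : (RingHom.ker (algebraMap (Localization.AtPrime p') k')).IsPrime :=
    RingHom.ker_isPrime _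
  obtain ⟨ι⟩ := nonempty_algEquiv_residueField_ker (Localization.AtPrime p') k' hfracE
  have r4 : IsRegularRing ((RingHom.ker (algebraMap (Localization.AtPrime p') k')).ResidueField
      ⊗[Localization.AtPrime p'] EGA4.Cpl (Localization.AtPrime p')) :=
    Hreg (RingHom.ker (algebraMap (Localization.AtPrime p') k'))
  have r3 : IsRegularRing (k' ⊗[Localization.AtPrime p'] EGA4.Cpl (Localization.AtPrime p')) :=
    IsRegularRing.of_ringEquiv (Algebra.TensorProduct.congr ι
      (AlgEquiv.refl (R := Localization.AtPrime p')
        (A₁ := EGA4.Cpl (Localization.AtPrime p')))).toRingEquiv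
  have r2 : IsRegularRing (k' ⊗[Localization.AtPrime p'] Localization.AtPrime N) :=
    IsRegularRing.of_ringEquiv (Algebra.TensorProduct.congr
      (AlgEquiv.refl (R := Localization.AtPrime p') (A₁ := k')) i3).toRingEquiv
  have r1 : IsRegularRing (k' ⊗[Localization.AtPrime p']
      (Localization.AtPrime p' ⊗[S] Localization.AtPrime N)) :=
    IsRegularRing.of_ringEquiv (Algebra.TensorProduct.congr
      (AlgEquiv.refl (R := Localization.AtPrime p') (A₁ := k')) i2.symm).toRingEquiv
  exact IsRegularRing.of_ringEquiv (R := k' ⊗[Localization.AtPrime p']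
      (Localization.AtPrime p' ⊗[S] Localization.AtPrime N)) i1.toRingEquiv


/-- Key step of the converse, abstract form: `Â` a complete Noetherian local flat `R`-algebra
which modulo `p` looks like `R_p`. -/
theorem isRegularRing_tensor_of_formalFibres (R : Type u) [CommRing R] [IsNoetherianRing R]
    (H : ∀ (S : Type u) [CommRing S] [Algebra R S] [Module.Finite R S] [Module.Free R S]
        (q : Ideal S) [q.IsPrime] (P : Ideal (Localization.AtPrime q)) [P.IsPrime],
        IsRegularRing (EGA4.formalFibre (Localization.AtPrime q) P))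
    (p : Ideal R) [p.IsPrime]
    (Â : Type u) [CommRing Â] [Algebra R Â] [IsNoetherianRing Â] [IsLocalRing Â]
    [IsAdicComplete (maximalIdeal Â) Â] [Module.Flat R Â]
    (hdag : ∀ â : Â, ∃ (r t : R), t ∉ p ∧
      algebraMap R Â t * â - algebraMap R Â r ∈ p.map (algebraMap R Â))
    (hpm : p.map (algebraMap R Â) ≤ maximalIdeal Â)
    (hpu : ∀ t : R, t ∉ p → IsUnit (algebraMap R Â t))
    (q : Ideal R) [q.IsPrime] (k' : Type u) [Field k']
    [Algebra q.ResidueField k'] [Module.Finite q.ResidueField k'] [Algebra R k']
    [IsScalarTower R q.ResidueField k'] [IsNoetherianRing (k' ⊗[R] Â)] :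
    IsRegularRing (k' ⊗[R] Â) := by
  obtain ⟨S, _, _, hfin, hfree, φ, hfrac⟩ :=
    Groth.Agent.Lib.Helper7.FinFree.exists_finite_free_fraction R q k'
  letI : Algebra S k' := φ.toRingHom.toAlgebra
  haveI : IsScalarTower R S k' := IsScalarTower.of_algebraMap_eq fun r => (φ.commutes r).symm
  haveI : IsNoetherianRing S := IsNoetherianRing.of_finite R S
  haveI : IsNoetherianRing (Â ⊗[R] S) := IsNoetherianRing.of_finite Â _
  letI algSW : Algebra S (Â ⊗[R] S) := Algebra.TensorProduct.rightAlgebra
  let e : S ⊗[R] Â ≃ₐ[S] Â ⊗[R] S :=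
    { (Algebra.TensorProduct.comm R S Â).toRingEquiv with
      commutes' := fun r => by
        simp [Algebra.TensorProduct.algebraMap_apply, RingHom.algebraMap_toAlgebra] }
  haveI : Module.Flat S (Â ⊗[R] S) := Module.Flat.of_linearEquiv e.symm.toLinearEquiv
  haveI : IsScalarTower R S (Â ⊗[R] S) := IsScalarTower.of_algebraMap_eq fun r => by
    rw [Algebra.TensorProduct.algebraMap_apply, RingHom.algebraMap_toAlgebra]
    simp [Algebra.algebraMap_eq_smul_one, TensorProduct.smul_tmul]
  -- the iso `k' ⊗[S] W ≃ k' ⊗[R] Â`
  let i0 : k' ⊗[S] (Â ⊗[R] S) ≃+* k' ⊗[R] Â :=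
    (Algebra.TensorProduct.congr (AlgEquiv.refl (R := S) (A₁ := k')) e.symm).toRingEquiv.trans
      (Algebra.TensorProduct.cancelBaseChange R S k' k' Â).toRingEquiv
  haveI : IsNoetherianRing (k' ⊗[S] (Â ⊗[R] S)) := isNoetherianRing_of_ringEquiv _ i0.symm
  have key : IsRegularRing (k' ⊗[S] (Â ⊗[R] S)) := by
    apply Groth.Agent.Lib.Helper7.RegLoc2.isRegularRing_tensor_of_forall_maximal k'
    intro N hN hnt
    -- completeness of `W_N`
    obtain ⟨-, -, hcpl⟩ := Groth.Agent.Lib.Helper18ComplProd.main Â (Â ⊗[R] S)
    obtain ⟨-, hC⟩ := hcpl ⟨N, hN⟩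
    -- `N` lies over the closed point of `Â`
    have hNm : N.comap (algebraMap Â (Â ⊗[R] S)) = maximalIdeal Â := by
      haveI : Algebra.IsIntegral Â (Â ⊗[R] S) := Algebra.IsIntegral.of_finite Â _
      haveI := Ideal.isMaximal_comap_of_isIntegral_of_isMaximal (R := Â) N
      exact IsLocalRing.eq_maximalIdeal inferInstance
    have hpN : p.map (algebraMap R (Â ⊗[R] S)) ≤ N := by
      rw [Ideal.map_le_iff_le_comap]
      intro r hr
      rw [Ideal.mem_comap, IsScalarTower.algebraMap_apply R Â (Â ⊗[R] S), ← Ideal.mem_comap, hNm]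
      exact hpm (Ideal.mem_map_of_mem _ hr)
    have hunit : ∀ t : R, t ∉ p → algebraMap R (Â ⊗[R] S) t ∉ N := by
      intro t ht hmem
      have hu : IsUnit (algebraMap R (Â ⊗[R] S) t) := by
        rw [IsScalarTower.algebraMap_apply R Â (Â ⊗[R] S)]
        exact (hpu t ht).map _
      exact (Ideal.IsPrime.ne_top inferInstance) (Ideal.eq_top_of_isUnit_mem _ hmem hu)
    have star : ∀ w : Â ⊗[R] S, ∃ (s : S) (t : R), t ∉ p ∧
        t • w - algebraMap S (Â ⊗[R] S) s ∈ p.map (algebraMap R (Â ⊗[R] S)) := fun w =>
      Groth.Agent.Lib.Helper7.FFCpl.exists_smul_sub_mem R p Â S hdag w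
    exact isRegularRing_tensor_localization_of_formalFibre S (Â ⊗[R] S) N hC
      (Groth.Agent.Lib.Helper7.FFCpl.map_maximalIdeal_eq p N star hpN hunit)
      (Groth.Agent.Lib.Helper7.FFCpl.exists_sub_mem_maximalIdeal p N star hpN hunit)
      (fun Q' _ => H S (N.comap (algebraMap S (Â ⊗[R] S))) Q') k'
      (fun z => by
        obtain ⟨a, b, hb, hz⟩ := hfrac z
        exact ⟨a, b, hb, hz⟩) hnt
  exact IsRegularRing.of_ringEquiv (R := k' ⊗[S] (Â ⊗[R] S)) i0

/-- `k' ⊗[R] Λ` is Noetherian for `Λ` Noetherian and `k'` finite over a residue field of `R`. -/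
theorem isNoetherianRing_tensor_field (R Λ : Type u) [CommRing R] [CommRing Λ] [Algebra R Λ]
    [IsNoetherianRing Λ] (P : Ideal R) [P.IsPrime] (k' : Type u) [Field k']
    [Algebra P.ResidueField k'] [Module.Finite P.ResidueField k'] [Algebra R k']
    [IsScalarTower R P.ResidueField k'] : IsNoetherianRing (k' ⊗[R] Λ) := by
  haveI hNF : IsNoetherianRing (P.Fiber Λ) := isNoetherianRing_fiber P
  haveI hN1 : IsNoetherianRing ((P.Fiber Λ) ⊗[P.ResidueField] k') :=
    IsNoetherianRing.of_finite (P.Fiber Λ) _
  haveI hN2 : IsNoetherianRing (k' ⊗[P.ResidueField] (P.Fiber Λ)) :=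
    isNoetherianRing_of_ringEquiv _ (Algebra.TensorProduct.comm P.ResidueField (P.Fiber Λ) k').toRingEquiv
  exact isNoetherianRing_of_ringEquiv _
      (Algebra.TensorProduct.cancelBaseChange R P.ResidueField k' k' Λ).toRingEquiv

/-- **Converse**: if all formal fibres of all local rings of finite free `R`-algebras are
regular, then `R` is a G-ring. -/
theorem isGRing_of_formalFibres_finite_free (R : Type u) [CommRing R] [IsNoetherianRing R]
    (H : ∀ (S : Type u) [CommRing S] [Algebra R S] [Module.Finite R S] [Module.Free R S]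
        (q : Ideal S) [q.IsPrime] (P : Ideal (Localization.AtPrime q)) [P.IsPrime],
        IsRegularRing (EGA4.formalFibre (Localization.AtPrime q) P)) :
    CAlg.IsGRing R := by
  refine ⟨inferInstance, fun p _ => ?_⟩
  haveI : IsNoetherianRing (Localization.AtPrime p) :=
    IsLocalization.isNoetherianRing p.primeCompl _ inferInstance
  haveI hNÂ : IsNoetherianRing (AdicCompletion (maximalIdeal (Localization.AtPrime p))
      (Localization.AtPrime p)) :=
    Groth.Agent.Lib.Helper19.isNoetherianRing_adicCompletion _
  haveI : Module.Flat R (Localization.AtPrime p) := IsLocalization.flat _ p.primeCompl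
  haveI : Module.Flat R (AdicCompletion (maximalIdeal (Localization.AtPrime p))
      (Localization.AtPrime p)) := Module.Flat.trans R (Localization.AtPrime p) _
  refine ⟨inferInstance, fun Q _ => ⟨isNoetherianRing_fiber Q, ?_⟩⟩
  haveI : IsLocalization (Algebra.algebraMapSubmonoid (AdicCompletion (maximalIdeal
      (Localization.AtPrime p)) (Localization.AtPrime p)) p.primeCompl)
      (AdicCompletion (maximalIdeal (Localization.AtPrime p)) (Localization.AtPrime p)) := by
    apply IsLocalization.of_le_isUnit
    rintro _ ⟨x, hx, rfl⟩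
    rw [IsScalarTower.algebraMap_apply R (Localization.AtPrime p) (AdicCompletion _ _)]
    exact (IsLocalization.map_units (Localization.AtPrime p) (⟨x, hx⟩ : p.primeCompl)).map _
  apply geomRegular_fiber_localization_base R (AdicCompletion (maximalIdeal
      (Localization.AtPrime p)) (Localization.AtPrime p)) p.primeCompl (Localization.AtPrime p)
      (AdicCompletion (maximalIdeal (Localization.AtPrime p)) (Localization.AtPrime p)) Q
  intro k' _ _ hfin
  letI : Algebra R k' :=
    ((algebraMap (Q.under R).ResidueField k').comp (algebraMap R (Q.under R).ResidueField)).toAlgebra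
  haveI : IsScalarTower R (Q.under R).ResidueField k' := IsScalarTower.of_algebraMap_eq fun _ => rfl
  haveI hN3 : IsNoetherianRing (k' ⊗[R] (AdicCompletion (maximalIdeal (Localization.AtPrime p))
      (Localization.AtPrime p))) :=
    isNoetherianRing_tensor_field R _ (Q.under R) k'
  have hmap : p.map (algebraMap R (AdicCompletion (maximalIdeal (Localization.AtPrime p))
      (Localization.AtPrime p))) = maximalIdeal (AdicCompletion (maximalIdeal
      (Localization.AtPrime p)) (Localization.AtPrime p)) := by
    rw [AdicCompletion.maximalIdeal_eq_map (R := Localization.AtPrime p),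
      ← IsLocalization.AtPrime.map_eq_maximalIdeal p (Localization.AtPrime p), Ideal.map_map,
      ← IsScalarTower.algebraMap_eq]
  have key := isRegularRing_tensor_of_formalFibres R H p
    (AdicCompletion (maximalIdeal (Localization.AtPrime p)) (Localization.AtPrime p))
    (Groth.Agent.Lib.Helper7.FFCpl.exists_mul_sub_mem R p) hmap.le
    (fun t ht => by
      rw [IsScalarTower.algebraMap_apply R (Localization.AtPrime p) (AdicCompletion _ _)]
      exact (IsLocalization.map_units (Localization.AtPrime p) (⟨t, ht⟩ : p.primeCompl)).map _)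
    (Q.under R) k'
  exact IsRegularRing.of_ringEquiv
    (Algebra.TensorProduct.cancelBaseChange R (Q.under R).ResidueField k' k'
      (AdicCompletion (maximalIdeal (Localization.AtPrime p))
        (Localization.AtPrime p))).toRingEquiv.symm

end Groth.Agent.Lib.Helper7.FFFF
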