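import Mathlib
import Groth.Prelude.Def_W4bk4goldsch23FF

/-!
Helper library (helper7): constant field extensions `K' = k' ⊗_k K` of geometric function fields.
-/

set_option autoImplicit false
set_option linter.style.haveILetI false
set_option linter.unusedSectionVars false
universe u v
open TensorProduct Polynomial

namespace Groth.Agent.Lib.Helper7.FunFldConst

variable (k k' : Type u) (K K' : Type v) [Field k] [Field k'] [Field K] [Field K']
    [Algebra k k'] [FiniteDimensional k k'] [Algebra k K] [Algebra K K'] [Algebra k' K'] [Algebra k K']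
    [IsScalarTower k k' K'] [IsScalarTower k K K']

/-- the `k'`-algebra map `k' ⊗ K → K'` -/
noncomputable def phi : k' ⊗[k] K →ₐ[k'] K' :=
  Algebra.TensorProduct.productLeftAlgHom (Algebra.ofId k' K') (IsScalarTower.toAlgHom k K K')

lemma phi_apply (z : k' ⊗[k] K) :
    phi k k' K K' z = Algebra.TensorProduct.productMap
      (IsScalarTower.toAlgHom k k' K') (IsScalarTower.toAlgHom k K K') z := by
  induction z using TensorProduct.induction_on with
  | zero => simp
  | add a b ha hb => rw [map_add, map_add, ha, hb]
  | tmul a b => simp [phi, Algebra.ofId_apply]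

variable {k k' K K'}

theorem isGeometric_constExt
    (h : Function.Bijective (Algebra.TensorProduct.productMap
      (IsScalarTower.toAlgHom k k' K') (IsScalarTower.toAlgHom k K K')))
    (hg : FunFld.IsGeometric k K) : FunFld.IsGeometric k' K' := by
  intro k'' _ _ hfin
  haveI := hfin
  letI : Algebra k k'' := ((algebraMap k' k'').comp (algebraMap k k')).toAlgebra
  haveI : IsScalarTower k k' k'' := .of_algebraMap_eq (fun _ => rfl)
  haveI : FiniteDimensional k k'' := Module.Finite.trans k' k''
  have hfld : IsField (k'' ⊗[k] K) := hg k'' inferInstance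
  have hφ : Function.Bijective (phi k k' K K') := by
    have : (phi k k' K K' : k' ⊗[k] K → K') = Algebra.TensorProduct.productMap
      (IsScalarTower.toAlgHom k k' K') (IsScalarTower.toAlgHom k K K') :=
      funext (phi_apply k k' K K')
    rw [this]; exact h
  let e1 : k' ⊗[k] K ≃ₐ[k'] K' := AlgEquiv.ofBijective (phi k k' K K') hφ
  let e2 : k'' ⊗[k'] (k' ⊗[k] K) ≃ₐ[k''] k'' ⊗[k] K :=
    Algebra.TensorProduct.cancelBaseChange k k' k'' k'' K
  let e3 : k'' ⊗[k'] (k' ⊗[k] K) ≃ₐ[k''] k'' ⊗[k'] K' :=
    Algebra.TensorProduct.congr AlgEquiv.refl e1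
  exact MulEquiv.isField hfld (e3.symm.toMulEquiv.trans e2.toMulEquiv)

/-- if `K'/k'` is geometric then `k'` is algebraically closed in `K'` -/
theorem algClosed_of_isGeometric (hg' : FunFld.IsGeometric k' K') (y : K')
    (hy : IsAlgebraic k' y) : y ∈ Set.range (algebraMap k' K') := by
  have hint : IsIntegral k' y := hy.isIntegral
  haveI : Fact (Irreducible (minpoly k' y)) := ⟨minpoly.irreducible hint⟩
  have hne : minpoly k' y ≠ 0 := minpoly.ne_zero hint
  haveI : FiniteDimensional k' (AdjoinRoot (minpoly k' y)) :=
    (AdjoinRoot.powerBasis hne).finite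
  have hfld : IsField (AdjoinRoot (minpoly k' y) ⊗[k'] K') := hg' _ inferInstance
  have hfld' : IsField (K' ⊗[k'] AdjoinRoot (minpoly k' y)) :=
    MulEquiv.isField hfld (Algebra.TensorProduct.comm k' K' (AdjoinRoot (minpoly k' y))).toMulEquiv
  letI : Field (K' ⊗[k'] AdjoinRoot (minpoly k' y)) := hfld'.toField
  let ψ : K' ⊗[k'] AdjoinRoot (minpoly k' y) →ₐ[K'] K' :=
    Algebra.TensorProduct.productLeftAlgHom (AlgHom.id K' K')
      (AdjoinRoot.liftAlgHom (minpoly k' y) (Algebra.ofId k' K') y (by
        exact minpoly.aeval k' y))
  have hinj : Function.Injective ψ := (ψ : K' ⊗[k'] AdjoinRoot (minpoly k' y) →+* K').injective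
  have h1 : Module.finrank K' (K' ⊗[k'] AdjoinRoot (minpoly k' y)) ≤ Module.finrank K' K' :=
    LinearMap.finrank_le_finrank_of_injective (f := ψ.toLinearMap) hinj
  rw [Module.finrank_baseChange, Module.finrank_self,
    (AdjoinRoot.powerBasis hne).finrank, AdjoinRoot.powerBasis_dim] at h1
  have h2 : 0 < (minpoly k' y).natDegree := minpoly.natDegree_pos hint
  have h3 : (minpoly k' y).natDegree = 1 := by omega
  exact (minpoly.natDegree_eq_one_iff).1 h3

variable (k k') in
/-- a `K`-algebra surjection `K ⊗ k' → K'` -/
theorem finite_constExt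
    (h : Function.Bijective (Algebra.TensorProduct.productMap
      (IsScalarTower.toAlgHom k k' K') (IsScalarTower.toAlgHom k K K'))) :
    Module.Finite K K' := by
  let ψ : K ⊗[k] k' →ₐ[K] K' :=
    Algebra.TensorProduct.productLeftAlgHom (Algebra.ofId K K') (IsScalarTower.toAlgHom k k' K')
  have hsurj : Function.Surjective ψ := by
    intro z
    obtain ⟨w, rfl⟩ := h.2 z
    refine ⟨Algebra.TensorProduct.comm k k' K w, ?_⟩
    induction w using TensorProduct.induction_on with
    | zero => simp
    | add a b ha hb => rw [map_add, map_add, map_add, ha, hb]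
    | tmul a b => simp [ψ, Algebra.ofId_apply, mul_comm]
  exact Module.Finite.of_surjective ψ.toLinearMap hsurj

theorem isFunctionField_constExt
    (h : Function.Bijective (Algebra.TensorProduct.productMap
      (IsScalarTower.toAlgHom k k' K') (IsScalarTower.toAlgHom k K K')))
    (hK : FunFld.IsFunctionField k K) (hg : FunFld.IsGeometric k K) :
    FunFld.IsFunctionField k' K' := by
  refine ⟨?_, algClosed_of_isGeometric (isGeometric_constExt h hg)⟩
  obtain ⟨⟨x, hx, hfin⟩, -⟩ := hK
  haveI := hfin
  refine ⟨algebraMap K K' x, ?_, ?_⟩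
  · intro halg
    haveI : Algebra.IsAlgebraic k k' := Algebra.IsAlgebraic.of_finite k k'
    have h1 : IsAlgebraic k (algebraMap K K' x) := halg.restrictScalars k
    exact hx ((isAlgebraic_algebraMap_iff (algebraMap K K').injective).1 h1)
  · haveI := finite_constExt k k' h
    haveI : Module.Finite (IntermediateField.adjoin k ({x} : Set K)) K' :=
      Module.Finite.trans K K'
    have hle : ∀ z ∈ IntermediateField.adjoin k ({x} : Set K),
        algebraMap K K' z ∈ IntermediateField.adjoin k' ({algebraMap K K' x} : Set K') := by
      intro z hz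
      induction hz using IntermediateField.adjoin_induction with
      | mem w hw =>
        rw [Set.mem_singleton_iff.1 hw]
        exact IntermediateField.mem_adjoin_simple_self _ _
      | algebraMap r =>
        rw [← IsScalarTower.algebraMap_apply, IsScalarTower.algebraMap_apply k k' K']
        exact IntermediateField.algebraMap_mem _ _
      | add a c _ _ ha hc => rw [map_add]; exact add_mem ha hc
      | inv a _ ha => rw [map_inv₀]; exact inv_mem ha
      | mul a c _ _ ha hc => rw [map_mul]; exact mul_mem ha hc
    let ι : IntermediateField.adjoin k ({x} : Set K) →+*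
        IntermediateField.adjoin k' ({algebraMap K K' x} : Set K') :=
      { toFun := fun z => ⟨algebraMap K K' z.1, hle z.1 z.2⟩
        map_one' := Subtype.ext (map_one _)
        map_mul' := fun a b => Subtype.ext (map_mul _ _ _)
        map_zero' := Subtype.ext (map_zero _)
        map_add' := fun a b => Subtype.ext (map_add _ _ _) }
    letI : Algebra (IntermediateField.adjoin k ({x} : Set K))
        (IntermediateField.adjoin k' ({algebraMap K K' x} : Set K')) := ι.toAlgebra
    haveI : IsScalarTower (IntermediateField.adjoin k ({x} : Set K))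
        (IntermediateField.adjoin k' ({algebraMap K K' x} : Set K')) K' :=
      .of_algebraMap_eq (fun _ => rfl)
    exact Module.Finite.of_restrictScalars_finite (IntermediateField.adjoin k ({x} : Set K))
      (IntermediateField.adjoin k' ({algebraMap K K' x} : Set K')) K'

end Groth.Agent.Lib.Helper7.FunFldConst
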