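import Groth.Agent.Lib.LeadFF38

/-! Irreducibility over algebraically-closed-in extensions; simple extensions tensor a field. -/

open Polynomial TensorProduct

namespace Groth.Agent.Lib.LeadFF

universe u v

/-- If `k` is algebraically closed in `K`, a monic irreducible polynomial over `k` stays irreducible over `K`. -/
theorem irreducible_map_of_algClosedIn {k : Type*} {K : Type*} [Field k] [Field K] [Algebra k K]
    (hcl : ∀ y : K, IsAlgebraic k y → y ∈ Set.range (algebraMap k K))
    {m : k[X]} (hm : m.Monic) (hirr : Irreducible m) :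
    Irreducible (m.map (algebraMap k K)) := by
  have hmm : (m.map (algebraMap k K)).Monic := hm.map _
  rw [hmm.irreducible_iff_natDegree]
  refine ⟨?_, ?_⟩
  · intro h1
    have : m.natDegree = 0 := by
      have := congrArg Polynomial.natDegree h1
      rwa [Polynomial.natDegree_map, Polynomial.natDegree_one] at this
    have : m = 1 := by
      rw [Polynomial.eq_C_of_natDegree_eq_zero this] 
      have h2 := hm.leadingCoeff
      rw [Polynomial.leadingCoeff, this] at h2
      rw [h2, map_one]
    exact hirr.ne_one this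
  · intro f g hf hg hfg
    have lift : ∀ f : K[X], f.Monic → f ∣ m.map (algebraMap k K) →
        ∃ q : k[X], q.map (algebraMap k K) = f ∧ q.natDegree = f.natDegree ∧ q.Monic := by
      intro f hf hdvd
      apply Polynomial.lifts_and_natDegree_eq_and_monic _ hf
      rw [Polynomial.lifts_iff_coeff_lifts]
      intro n
      have := Polynomial.isIntegral_coeff_of_dvd m f hm hf hdvd n
      exact hcl _ this.isAlgebraic
    obtain ⟨f₀, hf₀, hdf, -⟩ := lift f hf ⟨g, hfg.symm⟩
    obtain ⟨g₀, hg₀, hdg, -⟩ := lift g hg ⟨f, by rw [mul_comm]; exact hfg.symm⟩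
    have hmul : f₀ * g₀ = m := by
      apply Polynomial.map_injective _ (algebraMap k K).injective
      rw [Polynomial.map_mul, hf₀, hg₀, hfg]
    rcases hirr.isUnit_or_isUnit hmul.symm with h | h
    · left; rw [← hdf]; exact Polynomial.natDegree_eq_zero_of_isUnit h
    · right; rw [← hdg]; exact Polynomial.natDegree_eq_zero_of_isUnit h

/-- If `k` is algebraically closed in `K` and `k' = k(α)` is a simple algebraic extension, then `k' ⊗ K` is a field. -/
theorem isField_tensor_of_simple {k : Type*} {K : Type*} {k' : Type*} [Field k] [Field K] [Algebra k K]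
    [Field k'] [Algebra k k']
    (hcl : ∀ y : K, IsAlgebraic k y → y ∈ Set.range (algebraMap k K))
    (α : k') (hint : IsIntegral k α) (hα : IntermediateField.adjoin k {α} = ⊤) :
    IsField (k' ⊗[k] K) := by
  set m := minpoly k α with hmdef
  have hm : m.Monic := minpoly.monic hint
  have hirr : Irreducible m := minpoly.irreducible hint
  have hirr' := irreducible_map_of_algClosedIn hcl hm hirr
  haveI : Fact (Irreducible (m.map (algebraMap k K))) := ⟨hirr'⟩
  let e1 : AdjoinRoot m ≃ₐ[k] k' :=
    (IntermediateField.adjoinRootEquivAdjoin k hint).trans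
      ((IntermediateField.equivOfEq hα).trans IntermediateField.topEquiv)
  let e2 : k' ⊗[k] K ≃ₐ[k] K ⊗[k] AdjoinRoot m :=
    (Algebra.TensorProduct.comm k k' K).trans (Algebra.TensorProduct.congr AlgEquiv.refl e1.symm)
  let q : (K ⊗[k] k)[X] := m.map (Algebra.TensorProduct.includeRight : k →ₐ[k] K ⊗[k] k).toRingHom
  let e3 : K ⊗[k] AdjoinRoot m ≃ₐ[K] AdjoinRoot q := AdjoinRoot.tensorAlgEquiv m q rfl
  let ρ : K ⊗[k] k ≃ₐ[K] K := Algebra.TensorProduct.rid k K K
  have hq : q.map (ρ : K ⊗[k] k →+* K) = m.map (algebraMap k K) := by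
    simp only [q, Polynomial.map_map]
    congr 1
    ext c
    simp [ρ, Algebra.algebraMap_eq_smul_one]
  let e4 : AdjoinRoot q ≃ₐ[K] AdjoinRoot (m.map (algebraMap k K)) :=
    AdjoinRoot.mapAlgEquiv ρ q _ (by rw [show q.map (ρ : K ⊗[k] k →+* K) = _ from hq])
  exact MulEquiv.isField (Field.toIsField (AdjoinRoot (m.map (algebraMap k K))))
    ((e2.toMulEquiv.trans e3.toMulEquiv).trans e4.toMulEquiv)

end Groth.Agent.Lib.LeadFF
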