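import Mathlib
import Groth.Agent.Lib.Helper7FunFldReg
import Groth.Agent.Lib.Helper7FunFldP

/-!
Helper library (helper7): finite separable extensions of geometric function fields.
-/

set_option autoImplicit false
set_option linter.style.haveILetI false
set_option linter.unusedSectionVars false
universe u v
open TensorProduct KaehlerDifferential

namespace Groth.Agent.Lib.Helper7.FunFldReg

/-- if `dx` spans `Ω[K/k]` then `K/k(x)` is separable algebraic -/
theorem isSeparable_of_span_D_eq_top {k : Type u} {K : Type v} [Field k] [Field K] [Algebra k K]
    [Algebra.EssFiniteType k K] {x : K} (hspan : Submodule.span K {D k K x} = ⊤) :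
    Algebra.IsSeparable (IntermediateField.adjoin k ({x} : Set K)) K := by
  set F := IntermediateField.adjoin k ({x} : Set K) with hF
  haveI : Algebra.EssFiniteType F K := Algebra.EssFiniteType.of_comp k F K
  have hsurj : Function.Surjective (KaehlerDifferential.map k F K K) :=
    KaehlerDifferential.map_surjective k F K
  have hzero : ∀ ω : Ω[K⁄k], KaehlerDifferential.map k F K K ω = 0 := by
    intro ω
    have hω : ω ∈ Submodule.span K {D k K x} := by rw [hspan]; trivial
    obtain ⟨c, rfl⟩ := Submodule.mem_span_singleton.1 hω
    rw [map_smul, KaehlerDifferential.map_D]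
    have hxF : x ∈ F := IntermediateField.mem_adjoin_simple_self k x
    rw [Algebra.algebraMap_self_apply]
    have h2 : x = algebraMap F K ⟨x, hxF⟩ := rfl
    rw [h2, Derivation.map_algebraMap, smul_zero]
  haveI : Subsingleton (Ω[K⁄F]) := by
    refine ⟨fun a b => ?_⟩
    obtain ⟨a', rfl⟩ := hsurj a
    obtain ⟨b', rfl⟩ := hsurj b
    rw [hzero, hzero]
  haveI : Algebra.FormallyUnramified F K := (Algebra.formallyUnramified_iff F K).2 inferInstance
  exact Algebra.FormallyUnramified.isSeparable F K

variable (k k' : Type u) (K K' : Type v) [Field k] [Field k'] [Field K] [Field K']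
    [Algebra k k'] [Algebra k K] [Algebra K K'] [Algebra k' K'] [Algebra k K']
    [IsScalarTower k k' K'] [IsScalarTower k K K']

/-- the differential of a separating variable still spans after a separable algebraic extension -/
theorem span_D_map_eq_top [Algebra.IsSeparable K K'] {t : K}
    (ht : Submodule.span K {D k K t} = ⊤) :
    Submodule.span K' {D k' K' (algebraMap K K' t)} = ⊤ := by
  haveI : Algebra.FormallyUnramified K K' := Algebra.FormallyUnramified.of_isSeparable K K'
  haveI : Subsingleton (Ω[K'⁄K]) := (Algebra.formallyUnramified_iff K K').1 inferInstance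
  have hsurj1 : Function.Surjective (KaehlerDifferential.mapBaseChange k K K') := fun ω =>
    (KaehlerDifferential.exact_mapBaseChange_map k K K' ω).mp (Subsingleton.elim _ _)
  have hsurj2 : Function.Surjective (KaehlerDifferential.map k k' K' K') :=
    KaehlerDifferential.map_surjective k k' K'
  rw [eq_top_iff]
  rintro ω -
  obtain ⟨ω₁, rfl⟩ := hsurj2 ω
  obtain ⟨z, rfl⟩ := hsurj1 ω₁
  induction z using TensorProduct.induction_on with
  | zero => rw [map_zero, map_zero]; exact zero_mem _
  | add a b ha hb => rw [map_add, map_add]; exact add_mem ha hb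
  | tmul a η =>
    have hη : η ∈ Submodule.span K {D k K t} := by rw [ht]; trivial
    obtain ⟨c, rfl⟩ := Submodule.mem_span_singleton.1 hη
    have e1 : KaehlerDifferential.map k k K K' (c • D k K t) =
        algebraMap K K' c • D k K' (algebraMap K K' t) := by
      rw [map_smul, KaehlerDifferential.map_D, algebraMap_smul]
    have e2 : KaehlerDifferential.map k k' K' K' (algebraMap K K' c • D k K' (algebraMap K K' t)) =
        algebraMap K K' c • D k' K' (algebraMap K K' t) := by
      rw [map_smul, KaehlerDifferential.map_D, Algebra.algebraMap_self_apply]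
    rw [KaehlerDifferential.mapBaseChange_tmul, map_smul, e1, e2]
    exact Submodule.smul_mem _ _ (Submodule.smul_mem _ _ (Submodule.subset_span rfl))

/-- a finite separable extension of a geometric function field, over its constant field, is
geometric -/
theorem isGeometric_of_finite_separable [FiniteDimensional K K'] [Algebra.IsSeparable K K']
    (hK : FunFld.IsFunctionField k K) (hg : FunFld.IsGeometric k K)
    (hK' : FunFld.IsFunctionField k' K') : FunFld.IsGeometric k' K' := by
  obtain ⟨t, -, hspan, -⟩ := Groth.Agent.Lib.Helper7.FunFldP.exists_sep_var k K hK hg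
  have hspan' := span_D_map_eq_top k k' K K' hspan
  obtain ⟨⟨x', hx', hfin'⟩, hcl'⟩ := hK'
  haveI := hfin'
  haveI := Groth.Agent.S11003.essFiniteType_of_finite_adjoin (k := k') x'
  have hsep := isSeparable_of_span_D_eq_top hspan'
  haveI := hsep
  have htr : Transcendental k' (algebraMap K K' t) := by
    intro halg
    haveI : Algebra.IsAlgebraic k' (IntermediateField.adjoin k' ({algebraMap K K' t} : Set K')) :=
      IntermediateField.isAlgebraic_adjoin_simple halg.isIntegral
    haveI : Algebra.IsAlgebraic (IntermediateField.adjoin k' ({algebraMap K K' t} : Set K')) K' :=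
      Algebra.IsSeparable.isAlgebraic _ _
    haveI : Algebra.IsAlgebraic k' K' :=
      Algebra.IsAlgebraic.trans k' (IntermediateField.adjoin k' ({algebraMap K K' t} : Set K')) K'
    exact hx' (Algebra.IsAlgebraic.isAlgebraic x')
  have hb : AlgebraicIndependent k' (fun _ : Unit => algebraMap K K' t) :=
    algebraicIndependent_unique_type_iff.2 htr
  haveI : Algebra.IsSeparable
      (IntermediateField.adjoin k' (Set.range fun _ : Unit => algebraMap K K' t)) K' := by
    have hr : Set.range (fun _ : Unit => algebraMap K K' t) = {algebraMap K K' t} := Set.range_const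
    rw [hr]; exact hsep
  haveI : Algebra.FormallySmooth k' K' :=
    Algebra.FormallySmooth.of_algebraicIndependent_of_isSeparable hb
  haveI : Algebra.IsGeometricallyReduced k' K' := isGeometricallyReduced_of_formallySmooth
  exact isGeometric_of_isGeometricallyReduced hcl'

end Groth.Agent.Lib.Helper7.FunFldReg
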