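import Mathlib
import Groth.Prelude
import Groth.Agent.Lib.Helper7ExcLoc

/-!
# Helper7GScheme: G-schemes and affine opens (S7414)
-/

set_option autoImplicit false
set_option linter.style.haveILetI false
universe u

open CategoryTheory AlgebraicGeometry

namespace Groth.Agent.Lib.Helper7.GScheme

open Groth.Agent.Lib.Helper7.ExcLoc

/-- If the stalk at a point of an affine open `V` with G-ring coordinate ring... the completion map
of the stalk is regular. -/
theorem isRegularHom_cpl_stalk {X : Scheme.{u}} {V : X.Opens} (hV : IsAffineOpen V)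
    (hG : CAlg.IsGRing Γ(X, V)) (x : X) (hx : x ∈ V) :
    CAlg.IsRegularHom (X.presheaf.stalk x) (EGA4.Cpl (X.presheaf.stalk x)) := by
  haveI := hG.1
  letI : Algebra Γ(X, V) (X.presheaf.stalk x) :=
    TopCat.Presheaf.algebra_section_stalk X.presheaf (⟨x, hx⟩ : V)
  haveI hloc : IsLocalization.AtPrime (X.presheaf.stalk x) (hV.primeIdealOf ⟨x, hx⟩).asIdeal :=
    hV.isLocalization_stalk ⟨x, hx⟩
  haveI : IsNoetherianRing (Localization.AtPrime (hV.primeIdealOf ⟨x, hx⟩).asIdeal) :=
    IsLocalization.isNoetherianRing (hV.primeIdealOf ⟨x, hx⟩).asIdeal.primeCompl _ inferInstance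
  let e : X.presheaf.stalk x ≃ₐ[Γ(X, V)] Localization.AtPrime (hV.primeIdealOf ⟨x, hx⟩).asIdeal :=
    IsLocalization.algEquiv (hV.primeIdealOf ⟨x, hx⟩).asIdeal.primeCompl _ _
  exact isRegularHom_cpl_of_ringEquiv _ _ e.toRingEquiv (hG.2 _)


/-- A G-scheme has G-ring coordinate rings on all affine opens. -/
theorem isGRing_of_isAffineOpen {X : Scheme.{u}}
    (h : ∀ x : X, ∃ U : X.Opens, x ∈ U ∧ IsAffineOpen U ∧ CAlg.IsGRing Γ(X, U))
    (U : X.Opens) (hU : IsAffineOpen U) : CAlg.IsGRing Γ(X, U) := by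
  choose V hxV hV hG using h
  haveI : IsLocallyNoetherian X := by
    apply isLocallyNoetherian_of_affine_cover (S := fun x : X => (⟨V x, hV x⟩ : X.affineOpens))
    · rw [eq_top_iff]
      intro x _
      exact TopologicalSpace.Opens.mem_iSup.mpr ⟨x, hxV x⟩
    · intro x
      exact (hG x).1
  haveI hN : IsNoetherianRing Γ(X, U) :=
    IsLocallyNoetherian.component_noetherian (⟨U, hU⟩ : X.affineOpens)
  refine ⟨hN, fun P hP => ?_⟩
  set y : PrimeSpectrum Γ(X, U) := ⟨P, hP⟩ with hy
  have hyU : hU.fromSpec y ∈ U := by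
    have := (hU.isoSpec.inv y).2
    exact this
  letI : Algebra Γ(X, U) (X.presheaf.stalk (hU.fromSpec y)) :=
    TopCat.Presheaf.algebra_section_stalk X.presheaf (⟨hU.fromSpec y, hyU⟩ : U)
  haveI hloc : IsLocalization.AtPrime (X.presheaf.stalk (hU.fromSpec y)) P :=
    hU.isLocalization_stalk' y hyU
  have h1 := isRegularHom_cpl_stalk (hV (hU.fromSpec y)) (hG (hU.fromSpec y)) (hU.fromSpec y)
    (hxV (hU.fromSpec y))
  haveI : IsNoetherianRing (Localization.AtPrime P) :=
    IsLocalization.isNoetherianRing P.primeCompl _ inferInstance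
  let e : Localization.AtPrime P ≃ₐ[Γ(X, U)] X.presheaf.stalk (hU.fromSpec y) :=
    IsLocalization.algEquiv P.primeCompl _ _
  haveI : IsNoetherianRing (X.presheaf.stalk (hU.fromSpec y)) :=
    isNoetherianRing_of_ringEquiv _ e.toRingEquiv
  exact isRegularHom_cpl_of_ringEquiv _ _ e.toRingEquiv h1

end Groth.Agent.Lib.Helper7.GScheme
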