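import Mathlib
import Groth.Agent.Lib.Helper28FibreTrans

/-!
# Geometrically reduced fibres: descent and composition (helper7)
-/

set_option autoImplicit false
set_option linter.style.haveILetI false
universe u

open TensorProduct

namespace Groth.Agent.Lib.Helper7.GeomRedFib

section Descent

variable (A B C : Type u) [CommRing A] [CommRing B] [CommRing C] [Algebra A B] [Algebra B C]
  [Algebra A C] [IsScalarTower A B C]

/-- the map on fibres induced by `B → C` -/
noncomputable def fiberMap (p : Ideal A) [p.IsPrime] : p.Fiber B →ₐ[p.ResidueField] p.Fiber C :=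
  Algebra.TensorProduct.map (AlgHom.id _ _) (IsScalarTower.toAlgHom A B C)

lemma fiberMap_injective [Module.FaithfullyFlat B C] (p : Ideal A) [p.IsPrime] :
    Function.Injective (fiberMap A B C p) := by
  have h1 : Function.Injective (TensorProduct.mk B C (B ⊗[A] p.ResidueField) 1) :=
    Module.FaithfullyFlat.tensorProduct_mk_injective _
  have h2 : Function.Injective
      ((AlgebraTensorModule.cancelBaseChange A B C C p.ResidueField) ∘
        (TensorProduct.mk B C (B ⊗[A] p.ResidueField) 1)) :=
    (LinearEquiv.injective _).comp h1
  have key : ∀ z : p.Fiber B,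
      (AlgebraTensorModule.cancelBaseChange A B C C p.ResidueField)
        (1 ⊗ₜ (TensorProduct.comm A _ _ z)) =
      TensorProduct.comm A _ _ (fiberMap A B C p z) := by
    intro z
    induction z using TensorProduct.induction_on with
    | zero => simp
    | tmul a b => simp [fiberMap, Algebra.smul_def]
    | add a b ha hb => simp only [map_add, tmul_add, ha, hb]
  intro x y hxy
  apply (TensorProduct.comm A _ _).injective
  apply h2
  simp only [Function.comp, mk_apply, key, hxy]

theorem isGeometricallyReduced_fiber_of_faithfullyFlat [Module.FaithfullyFlat B C]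
    (p : Ideal A) [p.IsPrime]
    [Algebra.IsGeometricallyReduced p.ResidueField (p.Fiber C)] :
    Algebra.IsGeometricallyReduced p.ResidueField (p.Fiber B) :=
  Algebra.IsGeometricallyReduced.of_injective (fiberMap A B C p) (fiberMap_injective A B C p)

end Descent

section LemmaA

variable (R S : Type u) [CommRing R] [CommRing S] [Algebra R S]

/-- A flat algebra over a reduced Noetherian ring whose fibres over the minimal primes are reduced
is reduced. -/
theorem isReduced_of_flat_of_fibers_minimalPrimes [IsNoetherianRing R] [IsReduced R]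
    [Module.Flat R S]
    (h : ∀ (r : Ideal R) [r.IsPrime], r ∈ minimalPrimes R → IsReduced (r.ResidueField ⊗[R] S)) :
    IsReduced S := by
  classical
  let ι := {r : Ideal R // r ∈ minimalPrimes R}
  haveI : Finite ι := (minimalPrimes.finite_of_isNoetherianRing R).to_subtype
  haveI : Fintype ι := Fintype.ofFinite ι
  haveI hprime : ∀ i : ι, i.1.IsPrime := fun i => Ideal.minimalPrimes_isPrime i.2
  let K := ∀ i : ι, i.1.ResidueField
  have hinj : Function.Injective (algebraMap R K) := by
    rw [injective_iff_map_eq_zero]
    intro a ha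
    have h1 : ∀ i : ι, a ∈ i.1 := by
      intro i
      have := congrFun ha i
      simpa [K, Pi.algebraMap_apply] using this
    have h2 : a ∈ nilradical R := by
      rw [nilradical, ← Ideal.sInf_minimalPrimes, Ideal.mem_sInf]
      intro r hr
      exact h1 ⟨r, hr⟩
    rw [nilradical_eq_zero] at h2
    exact h2
  have h3 : Function.Injective
      (Algebra.TensorProduct.includeLeft : S →ₐ[R] S ⊗[R] K) :=
    Algebra.TensorProduct.includeLeft_injective hinj
  haveI : ∀ i : ι, IsReduced (S ⊗[R] i.1.ResidueField) := fun i => by
    haveI := h i.1 i.2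
    exact isReduced_of_injective (Algebra.TensorProduct.comm R S i.1.ResidueField)
      (AlgEquiv.injective _)
  haveI : IsReduced (S ⊗[R] K) :=
    isReduced_of_injective
      (Algebra.TensorProduct.piRight R R S (fun i : ι => i.1.ResidueField))
      (AlgEquiv.injective _)
  exact isReduced_of_injective _ h3

end LemmaA

section LemmaB

variable (B C : Type u) [CommRing B] [CommRing C] [Algebra B C]

/-- base change of a geometrically reduced fibre to an algebraic extension of the residue field -/
theorem isReduced_tensor_of_isAlgebraic (q : Ideal B) [q.IsPrime]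
    [Algebra.IsGeometricallyReduced q.ResidueField (q.Fiber C)]
    (L : Type u) [Field L] [Algebra B L] [Algebra q.ResidueField L]
    [IsScalarTower B q.ResidueField L] [Algebra.IsAlgebraic q.ResidueField L] :
    IsReduced (L ⊗[B] C) := by
  haveI : IsReduced (L ⊗[q.ResidueField] (q.Fiber C)) := inferInstance
  exact isReduced_of_injective
    (Algebra.TensorProduct.cancelBaseChange B q.ResidueField L L C).symm (AlgEquiv.injective _)

/-- If `B → C` is flat with geometrically reduced fibres and `R` is a reduced Noetherian
`B`-algebra whose residue fields at minimal primes are algebraic over those of `B`, then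
`R ⊗[B] C` is reduced. -/
theorem isReduced_baseChange_of_geomReduced_fibers [Module.Flat B C]
    (hBC : ∀ (q : Ideal B) [q.IsPrime],
      Algebra.IsGeometricallyReduced q.ResidueField (q.Fiber C))
    (R : Type u) [CommRing R] [Algebra B R] [IsNoetherianRing R] [IsReduced R]
    (halg : ∀ (r : Ideal R) [r.IsPrime], r ∈ minimalPrimes R →
      (Ideal.ResidueField.map (r.comap (algebraMap B R)) r (algebraMap B R) rfl).IsIntegral) :
    IsReduced (R ⊗[B] C) := by
  refine isReduced_of_flat_of_fibers_minimalPrimes R (R ⊗[B] C) (fun r _ hr => ?_)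
  let q := r.comap (algebraMap B R)
  letI : Algebra q.ResidueField r.ResidueField :=
    (Ideal.ResidueField.map q r (algebraMap B R) rfl).toAlgebra
  haveI : IsScalarTower B q.ResidueField r.ResidueField := .of_algebraMap_eq (fun b => by
    rw [RingHom.algebraMap_toAlgebra, Ideal.ResidueField.map_algebraMap,
      ← IsScalarTower.algebraMap_apply])
  haveI : Algebra.IsIntegral q.ResidueField r.ResidueField := ⟨halg r hr⟩
  haveI : Algebra.IsAlgebraic q.ResidueField r.ResidueField := Algebra.IsIntegral.isAlgebraic
  haveI := hBC q
  haveI := isReduced_tensor_of_isAlgebraic B C q r.ResidueField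
  exact isReduced_of_injective
    (Algebra.TensorProduct.cancelBaseChange B R r.ResidueField r.ResidueField C)
    (AlgEquiv.injective _)

end LemmaB

section LemmaC

variable (A B : Type u) [CommRing A] [CommRing B] [Algebra A B] (p : Ideal A) [p.IsPrime]
  (k' : Type u) [Field k'] [Algebra A k'] [Algebra p.ResidueField k']
  [IsScalarTower A p.ResidueField k'] [Algebra.IsIntegral p.ResidueField k']

include p in
/-- residue fields of `B ⊗[A] k'` are integral over those of `B` when `k'/κ(p)` is algebraic -/
theorem residueField_map_isIntegral (r : Ideal (B ⊗[A] k')) [r.IsPrime] :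
    (Ideal.ResidueField.map (r.comap (algebraMap B (B ⊗[A] k'))) r
      (algebraMap B (B ⊗[A] k')) rfl).IsIntegral := by
  set q := r.comap (algebraMap B (B ⊗[A] k')) with hq
  set φ := Ideal.ResidueField.map q r (algebraMap B (B ⊗[A] k')) rfl with hφ
  let g : (B ⊗[A] k') →+* r.ResidueField := algebraMap _ _
  let θ : k' →+* r.ResidueField :=
    g.comp (Algebra.TensorProduct.includeRight : k' →ₐ[A] B ⊗[A] k').toRingHom
  have hA : ∀ a : A, g (algebraMap A (B ⊗[A] k') a) = θ (algebraMap A k' a) := by
    intro a
    simp only [θ, RingHom.comp_apply, AlgHom.toRingHom_eq_coe, RingHom.coe_coe, AlgHom.commutes]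
  have hpq : p = q.comap (algebraMap A B) := by
    ext x
    rw [Ideal.mem_comap, hq, Ideal.mem_comap, ← IsScalarTower.algebraMap_apply,
      ← Ideal.algebraMap_residueField_eq_zero (I := r)]
    change _ ↔ g (algebraMap A (B ⊗[A] k') x) = 0
    rw [hA, map_eq_zero, IsScalarTower.algebraMap_apply A p.ResidueField k', map_eq_zero,
      Ideal.algebraMap_residueField_eq_zero]
  let ψ : p.ResidueField →+* q.ResidueField :=
    Ideal.ResidueField.map p q (algebraMap A B) hpq
  have hcomm : φ.comp ψ = θ.comp (algebraMap p.ResidueField k') := by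
    apply Ideal.ResidueField.ringHom_ext
    ext a
    simp only [RingHom.comp_apply, ψ, hφ, Ideal.ResidueField.map_algebraMap]
    rw [← IsScalarTower.algebraMap_apply A p.ResidueField k', ← hA,
      ← IsScalarTower.algebraMap_apply A B (B ⊗[A] k')]
  -- Step 1: images of elements of `B ⊗ k'` are integral
  have step1 : ∀ x : B ⊗[A] k', φ.IsIntegralElem (g x) := by
    intro x
    induction x using TensorProduct.induction_on with
    | zero => rw [map_zero]; exact φ.isIntegralElem_zero
    | add x y hx hy => rw [map_add]; exact RingHom.IsIntegralElem.add φ hx hy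
    | tmul b c =>
      have h1 : (b ⊗ₜ[A] c : B ⊗[A] k') = algebraMap B (B ⊗[A] k') b *
          (Algebra.TensorProduct.includeRight : k' →ₐ[A] B ⊗[A] k') c := by
        simp [Algebra.TensorProduct.algebraMap_apply]
      rw [h1, map_mul]
      refine RingHom.IsIntegralElem.mul φ ?_ ?_
      · have : g (algebraMap B (B ⊗[A] k') b) = φ (algebraMap B q.ResidueField b) := by
          rw [hφ, Ideal.ResidueField.map_algebraMap]
        rw [this]
        exact φ.isIntegralElem_map
      · obtain ⟨P, hPm, hP⟩ := Algebra.IsIntegral.isIntegral (R := p.ResidueField) c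
        refine ⟨P.map ψ, hPm.map ψ, ?_⟩
        rw [Polynomial.eval₂_map, hcomm]
        change Polynomial.eval₂ (θ.comp (algebraMap p.ResidueField k')) (θ c) P = 0
        rw [← Polynomial.hom_eval₂, hP, map_zero]
  -- Step 2: fractions
  letI : Algebra q.ResidueField r.ResidueField := φ.toAlgebra
  intro z
  change IsIntegral q.ResidueField z
  obtain ⟨x, y, -, rfl⟩ := IsFractionRing.div_surjective (A := (B ⊗[A] k') ⧸ r) z
  obtain ⟨x, rfl⟩ := Ideal.Quotient.mk_surjective x
  obtain ⟨y, rfl⟩ := Ideal.Quotient.mk_surjective y
  rw [Ideal.algebraMap_quotient_residueField_mk, Ideal.algebraMap_quotient_residueField_mk,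
    div_eq_mul_inv]
  exact IsIntegral.mul (step1 x) (IsIntegral.inv (step1 y))

end LemmaC

section Main

variable (A B C : Type u) [CommRing A] [CommRing B] [CommRing C] [Algebra A B] [Algebra B C]
  [Algebra A C] [IsScalarTower A B C]

/-- the finite-level statement: for `k'/κ(p)` finite, `k' ⊗ (κ(p) ⊗ C)` is reduced. -/
theorem isReduced_tensor_fiber_comp [IsNoetherianRing B] [Module.Flat B C]
    (hAB : ∀ (p : Ideal A) [p.IsPrime],
      Algebra.IsGeometricallyReduced p.ResidueField (p.Fiber B))
    (hBC : ∀ (q : Ideal B) [q.IsPrime],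
      Algebra.IsGeometricallyReduced q.ResidueField (q.Fiber C))
    (p : Ideal A) [p.IsPrime] (k' : Type u) [Field k'] [Algebra p.ResidueField k']
    [Module.Finite p.ResidueField k'] :
    IsReduced (k' ⊗[p.ResidueField] (p.Fiber C)) := by
  letI : Algebra A k' := ((algebraMap p.ResidueField k').comp (algebraMap A p.ResidueField)).toAlgebra
  haveI : IsScalarTower A p.ResidueField k' := .of_algebraMap_eq (fun _ => rfl)
  haveI : Algebra.IsIntegral p.ResidueField k' := Algebra.IsIntegral.of_finite _ _
  haveI : Algebra.IsAlgebraic p.ResidueField k' := Algebra.IsIntegral.isAlgebraic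
  -- the ring `R' = B ⊗[A] k'`
  let e1 : (B ⊗[A] k') ≃+* k' ⊗[p.ResidueField] (p.Fiber B) :=
    (Algebra.TensorProduct.comm A B k').toRingEquiv.trans
      (Algebra.TensorProduct.cancelBaseChange A p.ResidueField k' k' B).symm.toRingEquiv
  haveI := hAB p
  haveI hred : IsReduced (B ⊗[A] k') := isReduced_of_injective e1.toRingHom e1.injective
  haveI : IsNoetherianRing (p.Fiber B) := Groth.Agent.Lib.Helper28.isNoetherianRing_fiber p
  haveI : IsNoetherianRing ((p.Fiber B) ⊗[p.ResidueField] k') :=
    IsNoetherianRing.of_finite (p.Fiber B) _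
  haveI hnoeth : IsNoetherianRing (B ⊗[A] k') :=
    isNoetherianRing_of_ringEquiv ((p.Fiber B) ⊗[p.ResidueField] k')
      ((Algebra.TensorProduct.comm p.ResidueField (p.Fiber B) k').toRingEquiv.trans e1.symm)
  haveI := isReduced_baseChange_of_geomReduced_fibers B C hBC (B ⊗[A] k')
    (fun r _ _ => residueField_map_isIntegral A B p k' r)
  let e2 : k' ⊗[p.ResidueField] (p.Fiber C) ≃+* (B ⊗[A] k') ⊗[B] C :=
    (Algebra.TensorProduct.cancelBaseChange A p.ResidueField k' k' C).toRingEquiv.trans
      ((Algebra.TensorProduct.comm A k' C).toRingEquiv.trans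
        ((Algebra.TensorProduct.cancelBaseChange A B C C k').symm.toRingEquiv.trans
          (Algebra.TensorProduct.comm B C (B ⊗[A] k')).toRingEquiv))
  exact isReduced_of_injective e2.toRingHom e2.injective

/-- **Composition**: flat maps with geometrically reduced fibres compose (fibre part). -/
theorem isGeometricallyReduced_fiber_comp [IsNoetherianRing B] [Module.Flat B C]
    (hAB : ∀ (p : Ideal A) [p.IsPrime],
      Algebra.IsGeometricallyReduced p.ResidueField (p.Fiber B))
    (hBC : ∀ (q : Ideal B) [q.IsPrime],
      Algebra.IsGeometricallyReduced q.ResidueField (q.Fiber C))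
    (p : Ideal A) [p.IsPrime] :
    Algebra.IsGeometricallyReduced p.ResidueField (p.Fiber C) := by
  rw [Algebra.isGeometricallyReduced_field_iff]
  have h : IsReduced ((p.Fiber C) ⊗[p.ResidueField] AlgebraicClosure p.ResidueField) := by
    refine IsReduced.tensorProduct_of_flat_of_forall_fg (fun B' hB' => ?_)
    have hfield : IsField B' := Subalgebra.isField_of_algebraic B'
    let F := B'.toIntermediateField' hfield
    have hF : F.toSubalgebra = B' := toSubalgebra_toIntermediateField' B' hfield
    haveI : Algebra.FiniteType p.ResidueField B' := (Subalgebra.fg_iff_finiteType B').1 hB'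
    haveI : Algebra.IsIntegral p.ResidueField B' :=
      Algebra.IsIntegral.of_injective B'.val Subtype.val_injective
    haveI : Module.Finite p.ResidueField B' := Algebra.IsIntegral.finite
    haveI : Module.Finite p.ResidueField F :=
      Module.Finite.equiv (Subalgebra.equivOfEq _ _ hF.symm).toLinearEquiv
    haveI := isReduced_tensor_fiber_comp A B C hAB hBC p F
    let e : (p.Fiber C) ⊗[p.ResidueField] B' ≃ₐ[p.ResidueField] F ⊗[p.ResidueField] (p.Fiber C) :=
      (Algebra.TensorProduct.congr AlgEquiv.refl (Subalgebra.equivOfEq _ _ hF.symm)).trans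
        (Algebra.TensorProduct.comm _ _ _)
    exact isReduced_of_injective e e.injective
  exact isReduced_of_injective (Algebra.TensorProduct.comm p.ResidueField
    (AlgebraicClosure p.ResidueField) (p.Fiber C)) (AlgEquiv.injective _)

end Main

end Groth.Agent.Lib.Helper7.GeomRedFib
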