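import Mathlib
import Groth.Agent.Lib.Helper7H1Nat
import Groth.Agent.Lib.Helper7CoefField

/-!
# `M ⊗_L H¹(L_{L/K}) → H¹(L_{M/K})` is injective for towers of fields (helper7)
-/

set_option autoImplicit false
set_option linter.style.haveILetI false
universe u

namespace Groth.Agent.Lib.Helper7.H1Nat

open Algebra

theorem injective_liftBaseChange_map_fields {K L M : Type u} [Field K] [Field L]
    [Field M] [Algebra K L] [Algebra L M] [Algebra K M] [IsScalarTower K L M] :
    Function.Injective ((Algebra.H1Cotangent.map K K L M).liftBaseChange M) := by
  obtain ⟨p, hp⟩ := CharP.exists K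
  rcases CharP.char_is_prime_or_zero K p with hpp | rfl
  · haveI : Fact p.Prime := ⟨hpp⟩
    haveI : CharP L p := charP_of_injective_algebraMap (algebraMap K L).injective p
    haveI : CharP M p := charP_of_injective_algebraMap (algebraMap K M).injective p
    letI : Algebra (ZMod p) K := ZMod.algebra K p
    letI : Algebra (ZMod p) L := ZMod.algebra L p
    letI : Algebra (ZMod p) M := ZMod.algebra M p
    haveI : IsScalarTower (ZMod p) K L := IsScalarTower.of_algebraMap_eq' (Subsingleton.elim _ _)
    haveI : IsScalarTower (ZMod p) K M := IsScalarTower.of_algebraMap_eq' (Subsingleton.elim _ _)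
    haveI := Groth.Agent.Lib.Helper19.PBasis.formallySmooth_zmod p L
    exact injective_liftBaseChange_map_of_formallySmooth (k₀ := ZMod p)
  · haveI : CharZero K := CharP.charP_to_charZero K
    haveI : CharZero L := charZero_of_injective_algebraMap (algebraMap K L).injective
    haveI : CharZero M := charZero_of_injective_algebraMap (algebraMap K M).injective
    haveI : IsScalarTower ℚ K L := IsScalarTower.of_algebraMap_eq' (RingHom.ext_rat _ _)
    haveI : IsScalarTower ℚ K M := IsScalarTower.of_algebraMap_eq' (RingHom.ext_rat _ _)
    haveI := Groth.Agent.Lib.Helper7.CoefField.formallySmooth_rat L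
    exact injective_liftBaseChange_map_of_formallySmooth (k₀ := ℚ)

end Groth.Agent.Lib.Helper7.H1Nat
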