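import Mathlib
import Groth.Agent.S0595
import Groth.Agent.Lib.Helper7FunctorModel
import Groth.Agent.Lib.Helper26SmoothLift
import Groth.Agent.Lib.Helper19ComplNoeth

/-!
# Functors commuting with filtered colimits on a Henselian pair with regular completion (helper7)

`(A, I)` Henselian, Noetherian, `A → Â` regular, `F` a functor on `A`-algebras commuting with
filtered colimits.  Then `F(A) → F(Â)` is injective and every element of `F(Â)` has the same image
in `F(A/I)` as some element of `F(A)`.
-/

set_option autoImplicit false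
set_option linter.style.haveILetI false
universe u

open CategoryTheory CategoryTheory.Limits

namespace Groth.Agent.Lib.Helper7.HenselFunctor

open Groth.Agent.Lib.Helper26.FPColim

/-- Two elements of `F(A)` which agree in `F(T)` already agree in `F(B)` for a finitely presented
`A`-algebra `B` mapping to `T`. -/
theorem exists_fp_eq (A : Type u) [CommRing A] (T : Type u) [CommRing T] [Algebra A T]
    (F : Under (CommRingCat.of A) ⥤ Type u)
    (hF : ∀ (J : Type u) [SmallCategory J] [IsFiltered J], PreservesColimitsOfShape J F)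
    (x₁ x₂ : F.obj (uObj A A))
    (h : F.map (uHom (Algebra.ofId A T)) x₁ = F.map (uHom (Algebra.ofId A T)) x₂) :
    ∃ (B : Type u) (_ : CommRing B) (_ : Algebra A B) (_ : Algebra.FinitePresentation A B)
      (_ : B →ₐ[A] T), F.map (uHom (Algebra.ofId A B)) x₁ = F.map (uHom (Algebra.ofId A B)) x₂ := by
  classical
  obtain ⟨hc⟩ := isColimit_cocone A T
  haveI := hF (Idx A T)
  have hc' := isColimitOfPreserves F hc
  let a0 : Idx A T := ⟨∅, ⊥, Submodule.fg_bot, bot_le⟩
  let y₁ : (diag A T ⋙ F).obj a0 := F.map (uHom (Algebra.ofId A (Pol A T a0.s ⧸ a0.J))) x₁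
  let y₂ : (diag A T ⋙ F).obj a0 := F.map (uHom (Algebra.ofId A (Pol A T a0.s ⧸ a0.J))) x₂
  have hcomp : ∀ (a : Idx A T), (toA a).comp (Algebra.ofId A (Pol A T a.s ⧸ a.J)) =
      Algebra.ofId A T := fun a => AlgHom.ext fun r => by simp [Algebra.ofId_apply]
  have hy : (F.mapCocone (cocone A T)).ι.app a0 y₁ = (F.mapCocone (cocone A T)).ι.app a0 y₂ := by
    change F.map (uHom (toA a0)) (F.map (uHom _) x₁) = F.map (uHom (toA a0)) (F.map (uHom _) x₂)
    rw [← FunctorToTypes.map_comp_apply, ← FunctorToTypes.map_comp_apply, ← uHom_comp, hcomp]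
    exact h
  obtain ⟨b, f, hb⟩ := (Types.FilteredColimit.isColimit_eq_iff' hc' y₁ y₂).mp hy
  refine ⟨Pol A T b.s ⧸ b.J, inferInstance, inferInstance,
    Algebra.FinitePresentation.quotient b.fg, toA b, ?_⟩
  have hb' : F.map (uHom (tr (leOfHom f))) (F.map (uHom _) x₁) =
      F.map (uHom (tr (leOfHom f))) (F.map (uHom _) x₂) := hb
  rw [← FunctorToTypes.map_comp_apply, ← FunctorToTypes.map_comp_apply, ← uHom_comp] at hb'
  have h2 : (tr (leOfHom f)).comp (Algebra.ofId A (Pol A T a0.s ⧸ a0.J)) =
      Algebra.ofId A (Pol A T b.s ⧸ b.J) := AlgHom.ext fun r => by simp [Algebra.ofId_apply]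
  rw [h2] at hb'
  exact hb'

theorem injective_and_image (A : Type u) [CommRing A] [IsNoetherianRing A] (I : Ideal A)
    [HenselianRing A I] (hreg : CAlg.IsRegularHom A (AdicCompletion I A))
    (F : Under (CommRingCat.of A) ⥤ Type u)
    (hF : ∀ (J : Type u) [SmallCategory J] [IsFiltered J], PreservesColimitsOfShape J F) :
    Function.Injective (F.map (uHom (Algebra.ofId A (AdicCompletion I A)))) ∧
    ∀ y : F.obj (uObj A (AdicCompletion I A)), ∃ x : F.obj (uObj A A),
      F.map (uHom (Ideal.Quotient.mkₐ A I)) x = F.map (uHom (AdicCompletion.evalOneₐ I)) y := by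
  classical
  haveI : IsNoetherianRing (AdicCompletion I A) :=
    Groth.Agent.Lib.Helper19.isNoetherianRing_adicCompletion I
  constructor
  · intro x₁ x₂ h
    obtain ⟨B, _, _, _, fB, hB⟩ := exists_fp_eq A (AdicCompletion I A) F hF x₁ x₂ h
    obtain ⟨D, _, _, hsm, g, hD, -⟩ := Groth.Agent.S0595.result A (AdicCompletion I A) hreg B fB
    haveI := hsm
    obtain ⟨τ, -⟩ := Groth.Agent.Lib.Helper26.SmoothLift.exists_lift_of_smooth I
      ((AdicCompletion.evalOneₐ I).comp hD)
    have hid : (τ.comp g).comp (Algebra.ofId A B) = AlgHom.id A A :=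
      AlgHom.ext fun r => by simp [Algebra.ofId_apply]
    have key : ∀ x : F.obj (uObj A A),
        F.map (uHom (τ.comp g)) (F.map (uHom (Algebra.ofId A B)) x) = x := by
      intro x
      rw [← FunctorToTypes.map_comp_apply, ← uHom_comp, hid, uHom_id]
      simp
    rw [← key x₁, ← key x₂, hB]
  · intro y
    obtain ⟨k, l, f, â, hf, hmodel⟩ :=
      Groth.Agent.Lib.Helper7.FunctorModel.exists_fp_model A (AdicCompletion I A) F hF y
    let B := MvPolynomial (Fin k) A ⧸ Ideal.span (Set.range f)
    haveI : Algebra.FinitePresentation A B :=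
      Algebra.FinitePresentation.quotient ⟨(Finset.univ.image f), by simp⟩
    let fB : B →ₐ[A] AdicCompletion I A :=
      Ideal.Quotient.liftₐ _ (MvPolynomial.aeval â) (by
        intro p hp
        have hle : Ideal.span (Set.range f) ≤
            RingHom.ker (MvPolynomial.aeval â : _ →ₐ[A] _) := by
          rw [Ideal.span_le]
          rintro _ ⟨i, rfl⟩
          exact hf i
        exact hle hp)
    obtain ⟨D, _, _, hsm, g, h, hgh⟩ := Groth.Agent.S0595.result A (AdicCompletion I A) hreg B fB
    haveI := hsm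
    obtain ⟨τ, hτ⟩ := Groth.Agent.Lib.Helper26.SmoothLift.exists_lift_of_smooth I
      ((AdicCompletion.evalOneₐ I).comp h)
    let mkB : MvPolynomial (Fin k) A →ₐ[A] B := Ideal.Quotient.mkₐ A _
    let a' : Fin k → A := fun j => τ (g (mkB (MvPolynomial.X j)))
    have haeval : ∀ p : MvPolynomial (Fin k) A, MvPolynomial.aeval a' p = τ (g (mkB p)) := by
      intro p
      have : (MvPolynomial.aeval a' : _ →ₐ[A] A) = (τ.comp g).comp mkB := by
        apply MvPolynomial.algHom_ext
        intro j
        simp [a']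
      exact congr($this p)
    have ha' : ∀ i, MvPolynomial.aeval a' (f i) = 0 := by
      intro i
      rw [haeval]
      have : mkB (f i) = 0 := by
        change Ideal.Quotient.mk _ (f i) = 0
        rw [Ideal.Quotient.eq_zero_iff_mem]
        exact Ideal.subset_span ⟨i, rfl⟩
      rw [this, map_zero, map_zero]
    obtain ⟨ξ', hξ'⟩ := hmodel A a' ha'
    refine ⟨ξ', ?_⟩
    apply hξ' _ (AdicCompletion.evalOneₐ I) (Ideal.Quotient.mkₐ A I)
    intro j
    have h1 : Ideal.Quotient.mkₐ A I (a' j) =
        AdicCompletion.evalOneₐ I (h (g (mkB (MvPolynomial.X j)))) := hτ _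
    rw [h1]
    have h2 : h (g (mkB (MvPolynomial.X j))) = fB (mkB (MvPolynomial.X j)) :=
      congr($hgh (mkB (MvPolynomial.X j)))
    rw [h2]
    congr 1
    have h3 : fB (mkB (MvPolynomial.X j)) = MvPolynomial.aeval â (MvPolynomial.X j) :=
      Ideal.Quotient.liftₐ_apply _ _ _ _
    rw [h3, MvPolynomial.aeval_X]

end Groth.Agent.Lib.Helper7.HenselFunctor
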