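import Mathlib

/-!
Helper library (helper7): finiteness of the integral closure in a purely inseparable extension
`K(a^{1/p})` in the presence of a derivation with `D a ≠ 0`.
-/

set_option autoImplicit false
set_option linter.style.haveILetI false
set_option linter.unusedSectionVars false
universe u
open Polynomial

namespace Groth.Agent.Lib.Helper7.IntClosP

variable {R K L : Type u} [CommRing R] [IsDomain R] [IsIntegrallyClosed R] [Field K] [Algebra R K]
  [IsFractionRing R K] (p : ℕ) [Fact p.Prime] [CharP K p] [Field L] [Algebra K L] [Algebra R L]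
  [IsScalarTower R K L]

omit [IsDomain R] in
lemma mem_range_of_isIntegral {k : K} (h : IsIntegral R (algebraMap K L k)) :
    ∃ r : R, algebraMap R K r = k :=
  IsIntegrallyClosed.isIntegral_iff.1 ((isIntegral_algebraMap_iff (algebraMap K L).injective).1 h)

omit [IsDomain R] [IsIntegrallyClosed R] [IsFractionRing R K] in
lemma natCast_pow_char (n : ℕ) : (n : K) ^ p = n := by
  haveI : ExpChar K p := ExpChar.prime Fact.out
  rw [← frobenius_def, map_natCast]

omit [IsDomain R] [IsIntegrallyClosed R] [IsFractionRing R K] in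
lemma natCast_pow_pred {n : ℕ} (h0 : 0 < n) (hn : n < p) : (n : K) ^ (p - 1) = 1 := by
  have hp : p.Prime := Fact.out
  have hne : (n : K) ≠ 0 := by
    intro h
    have := (CharP.cast_eq_zero_iff K p n).1 h
    exact absurd (Nat.le_of_dvd h0 this) (by omega)
  have h1 := natCast_pow_char (K := K) p n
  have h2 : (n : K) ^ (p - 1) * n = 1 * n := by
    rw [← pow_succ, Nat.sub_add_cancel hp.one_le, h1, one_mul]
  exact mul_right_cancel₀ hne h2

section Main

variable (D : Derivation ℤ K K) (a : K) (x : L)

omit [IsDomain R] [IsIntegrallyClosed R] [IsFractionRing R K] [Algebra R K] [Algebra R L]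
  [IsScalarTower R K L] in
lemma D_pow_char (b : K) : D (b ^ p) = 0 := by
  rw [Derivation.leibniz_pow, ← Nat.cast_smul_eq_nsmul K, CharP.cast_eq_zero, zero_smul]

omit [IsDomain R] [IsIntegrallyClosed R] [IsFractionRing R K] [Algebra R K] [Algebra R L]
  [IsScalarTower R K L] in
/-- (C1) -/
lemma sum_pow_p (hx : x ^ p = algebraMap K L a) (n : ℕ) (b : ℕ → K) :
    (∑ j ∈ Finset.range n, algebraMap K L (b j) * x ^ j) ^ p =
      algebraMap K L (∑ j ∈ Finset.range n, (b j) ^ p * a ^ j) := by
  haveI : CharP L p := charP_of_injective_algebraMap (algebraMap K L).injective p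
  rw [sum_pow_char p, map_sum]
  refine Finset.sum_congr rfl fun j _ => ?_
  have h1 : (x ^ j) ^ p = (x ^ p) ^ j := by rw [← pow_mul, ← pow_mul, Nat.mul_comm]
  rw [mul_pow, h1, hx, map_mul, map_pow, map_pow]

omit [IsDomain R] [IsIntegrallyClosed R] [IsFractionRing R K] [Algebra R K] [Algebra R L]
  [IsScalarTower R K L] in
/-- (C2) -/
lemma D_sum (n : ℕ) (b : ℕ → K) :
    D (∑ j ∈ Finset.range n, (b j) ^ p * a ^ j) =
      (∑ j ∈ Finset.range n, (j : K) * (b j) ^ p * a ^ (j - 1)) * D a := by
  rw [map_sum, Finset.sum_mul]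
  refine Finset.sum_congr rfl fun j _ => ?_
  rw [Derivation.leibniz, D_pow_char p, smul_zero, add_zero, Derivation.leibniz_pow,
    ← Nat.cast_smul_eq_nsmul K]
  simp only [smul_eq_mul]
  ring

variable (hD : ∀ r : R, ∃ s : R, D (algebraMap R K r) = algebraMap R K s)
  (ha : ∃ r : R, algebraMap R K r = a) (hx : x ^ p = algebraMap K L a)

include hD ha hx in
theorem coeff_mem (i : ℕ) (hi : i < p) : ∀ b : ℕ → K,
    IsIntegral R (∑ j ∈ Finset.range (i + 1), algebraMap K L (b j) * x ^ j) →
      ∀ j ∈ Finset.range (i + 1), ∃ r : R, algebraMap R K r = (D a) ^ i * b j := by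
  classical
  have hp : p.Prime := Fact.out
  obtain ⟨a₀, ha₀⟩ := ha
  obtain ⟨d₀, hd₀⟩ := hD a₀
  rw [ha₀] at hd₀
  have hxint : IsIntegral R x := by
    apply IsIntegral.of_pow hp.pos
    rw [hx, ← ha₀, ← IsScalarTower.algebraMap_apply]
    exact isIntegral_algebraMap
  induction i with
  | zero =>
    intro b hy j hj
    rw [zero_add, Finset.range_one, Finset.sum_singleton, pow_zero, mul_one] at hy
    rw [zero_add, Finset.range_one, Finset.mem_singleton] at hj
    subst hj
    obtain ⟨r, hr⟩ := mem_range_of_isIntegral hy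
    exact ⟨r, by rw [hr, pow_zero, one_mul]⟩
  | succ i ih =>
    intro b hy
    have ih' := ih (by omega)
    -- the p-th power
    have hs := sum_pow_p p a x hx (i + 1 + 1) b
    have hsint : IsIntegral R (algebraMap K L (∑ j ∈ Finset.range (i + 1 + 1), (b j) ^ p * a ^ j)) := by
      rw [← hs]; exact hy.pow p
    obtain ⟨s₀, hs₀⟩ := mem_range_of_isIntegral hsint
    obtain ⟨e₀, he₀⟩ := hD s₀
    rw [hs₀, D_sum] at he₀
    -- the derived element
    set c : ℕ → K := fun j' => ((j' + 1 : ℕ) : K) * D a * b (j' + 1) with hc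
    have hw := sum_pow_p p a x hx (i + 1) c
    have hsum : ∑ j ∈ Finset.range (i + 1), (c j) ^ p * a ^ j =
        (D a) ^ (p - 1) * ((∑ j ∈ Finset.range (i + 1 + 1), (j : K) * (b j) ^ p * a ^ (j - 1)) *
          D a) := by
      rw [Finset.sum_range_succ' _ (i + 1)]
      simp only [Nat.cast_zero, zero_mul, add_zero, Nat.add_sub_cancel]
      rw [Finset.sum_mul, Finset.mul_sum]
      refine Finset.sum_congr rfl fun j _ => ?_
      rw [hc]
      simp only
      rw [mul_pow, mul_pow, natCast_pow_char]
      have : (D a) ^ p = (D a) ^ (p - 1) * D a := by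
        rw [← pow_succ, Nat.sub_add_cancel hp.one_le]
      rw [this]
      ring
    have hwint : IsIntegral R (∑ j ∈ Finset.range (i + 1), algebraMap K L (c j) * x ^ j) := by
      apply IsIntegral.of_pow hp.pos
      rw [hw, hsum, he₀, hd₀, ← map_pow, ← map_mul, ← IsScalarTower.algebraMap_apply]
      exact isIntegral_algebraMap
    have hIH := ih' c hwint
    -- coefficients of positive index
    have hpos : ∀ j' ∈ Finset.range (i + 1),
        ∃ r : R, algebraMap R K r = (D a) ^ (i + 1) * b (j' + 1) := by
      intro j' hj'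
      obtain ⟨r, hr⟩ := hIH j' hj'
      rw [Finset.mem_range] at hj'
      have hn := natCast_pow_pred (K := K) p (Nat.succ_pos j') (by omega : j' + 1 < p)
      refine ⟨((j' + 1 : ℕ) : R) ^ (p - 2) * r, ?_⟩
      rw [map_mul, map_pow, map_natCast, hr, hc]
      simp only
      have h2 : ((j' + 1 : ℕ) : K) ^ (p - 2) * ((j' + 1 : ℕ) : K) = 1 := by
        rw [← pow_succ, show p - 2 + 1 = p - 1 by have := hp.two_le; omega, hn]
      calc ((j' + 1 : ℕ) : K) ^ (p - 2) * (D a ^ i * (((j' + 1 : ℕ) : K) * D a * b (j' + 1)))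
          = (((j' + 1 : ℕ) : K) ^ (p - 2) * ((j' + 1 : ℕ) : K)) * (D a ^ (i + 1) * b (j' + 1)) := by
            ring
        _ = D a ^ (i + 1) * b (j' + 1) := by rw [h2, one_mul]
    choose! rr hrr using hpos
    intro j hj
    rcases Nat.eq_zero_or_pos j with rfl | hjpos
    · -- the constant coefficient
      have hdecomp : algebraMap K L ((D a) ^ (i + 1) * b 0) =
          algebraMap K L ((D a) ^ (i + 1)) *
            (∑ j ∈ Finset.range (i + 1 + 1), algebraMap K L (b j) * x ^ j) -
          ∑ j' ∈ Finset.range (i + 1),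
            algebraMap K L (algebraMap R K (rr j')) * x ^ (j' + 1) := by
        rw [Finset.sum_range_succ' _ (i + 1), pow_zero, mul_one, mul_add, Finset.mul_sum, map_mul]
        have : ∑ j' ∈ Finset.range (i + 1),
            algebraMap K L (algebraMap R K (rr j')) * x ^ (j' + 1) =
            ∑ j' ∈ Finset.range (i + 1),
              algebraMap K L ((D a) ^ (i + 1)) * (algebraMap K L (b (j' + 1)) * x ^ (j' + 1)) := by
          refine Finset.sum_congr rfl fun j' hj' => ?_
          rw [hrr j' hj', map_mul, mul_assoc]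
        rw [this]
        ring
      have hint : IsIntegral R (algebraMap K L ((D a) ^ (i + 1) * b 0)) := by
        rw [hdecomp]
        refine IsIntegral.sub (IsIntegral.mul ?_ hy) (IsIntegral.sum _ fun j' _ => ?_)
        · rw [hd₀, ← map_pow, ← IsScalarTower.algebraMap_apply]
          exact isIntegral_algebraMap
        · refine IsIntegral.mul ?_ (hxint.pow _)
          rw [← IsScalarTower.algebraMap_apply]
          exact isIntegral_algebraMap
      exact mem_range_of_isIntegral hint
    · obtain ⟨j', rfl⟩ : ∃ j', j = j' + 1 := ⟨j - 1, by omega⟩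
      rw [Finset.mem_range] at hj
      exact ⟨rr j', hrr j' (Finset.mem_range.2 (by omega))⟩

end Main

section Final

omit [IsDomain R] [IsIntegrallyClosed R] [IsFractionRing R K] [Algebra R K] [Algebra R L]
  [IsScalarTower R K L] in
lemma exists_repr (a : K) (x : L) (hx : x ^ p = algebraMap K L a)
    (hgen : IntermediateField.adjoin K {x} = ⊤) (z : L) :
    ∃ b : ℕ → K, z = ∑ j ∈ Finset.range p, algebraMap K L (b j) * x ^ j := by
  have hp : p.Prime := Fact.out
  have hxalg : IsIntegral K x := by
    apply IsIntegral.of_pow hp.pos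
    rw [hx]
    exact isIntegral_algebraMap
  have h1 : z ∈ (IntermediateField.adjoin K {x}).toSubalgebra := by
    rw [hgen]; trivial
  rw [IntermediateField.adjoin_simple_toSubalgebra_of_isAlgebraic hxalg.isAlgebraic,
    Algebra.adjoin_singleton_eq_range_aeval] at h1
  obtain ⟨q, rfl⟩ := h1
  have hmonic : (X ^ p - C a : K[X]).Monic := monic_X_pow_sub_C a hp.ne_zero
  have hroot : aeval x (X ^ p - C a : K[X]) = 0 := by simp [hx]
  have hq : aeval x q = aeval x (q %ₘ (X ^ p - C a)) := by
    conv_lhs => rw [← modByMonic_add_div q (X ^ p - C a)]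
    rw [map_add, map_mul, hroot, zero_mul, add_zero]
  have hdeg : (q %ₘ (X ^ p - C a)).natDegree < p := by
    have hne : (X ^ p - C a : K[X]) ≠ 1 := by
      intro h
      have := congrArg natDegree h
      rw [natDegree_X_pow_sub_C, natDegree_one] at this
      exact hp.ne_zero this
    have := natDegree_modByMonic_lt q hmonic hne
    rwa [natDegree_X_pow_sub_C] at this
  refine ⟨fun j => (q %ₘ (X ^ p - C a)).coeff j, ?_⟩
  change (aeval x) q = _
  rw [hq, aeval_eq_sum_range' hdeg]
  simp only [Algebra.smul_def]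

theorem finite_integralClosure [IsNoetherianRing R] (D : Derivation ℤ K K)
    (hD : ∀ r : R, ∃ s : R, D (algebraMap R K r) = algebraMap R K s) (a : K) (ha : D a ≠ 0)
    (x : L) (hx : x ^ p = algebraMap K L a) (hgen : IntermediateField.adjoin K {x} = ⊤) :
    Module.Finite R (integralClosure R L) := by
  classical
  have hp : p.Prime := Fact.out
  obtain ⟨n, d, hd, rfl⟩ := IsFractionRing.div_surjective (A := R) a
  have hf : algebraMap R K d ≠ 0 := by
    intro h
    rw [map_eq_zero_iff _ (IsFractionRing.injective R K)] at h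
    exact (nonZeroDivisors.ne_zero hd) h
  set f : K := algebraMap R K d with hfdef
  set a' : K := f ^ p * (algebraMap R K n / f) with ha'def
  set x' : L := algebraMap K L f * x with hx'def
  have ha'R : ∃ r : R, algebraMap R K r = a' := by
    refine ⟨d ^ (p - 1) * n, ?_⟩
    rw [map_mul, map_pow, ha'def, ← hfdef]
    have : f ^ p = f ^ (p - 1) * f := by rw [← pow_succ, Nat.sub_add_cancel hp.one_le]
    rw [this]
    field_simp
  have hx' : x' ^ p = algebraMap K L a' := by
    rw [hx'def, mul_pow, hx, ← map_pow, ← map_mul]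
  have hDa' : D a' ≠ 0 := by
    rw [ha'def, Derivation.leibniz, D_pow_char p, smul_zero, add_zero, smul_eq_mul]
    exact mul_ne_zero (pow_ne_zero _ hf) ha
  -- the finite spanning set
  set u : K := ((D a')⁻¹) ^ (p - 1) with hu
  let S : Finset L := (Finset.range p).image (fun j => algebraMap K L u * x' ^ j)
  have hle : Subalgebra.toSubmodule (integralClosure R L) ≤ Submodule.span R (S : Set L) := by
    intro z hz
    have hzint : IsIntegral R z := hz
    obtain ⟨b, hb⟩ := exists_repr p _ x hx hgen z
    -- rewrite in terms of x'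
    set b' : ℕ → K := fun j => b j * (f⁻¹) ^ j with hb'
    have hb2 : z = ∑ j ∈ Finset.range (p - 1 + 1), algebraMap K L (b' j) * x' ^ j := by
      rw [Nat.sub_add_cancel hp.one_le, hb]
      refine Finset.sum_congr rfl fun j _ => ?_
      rw [hb', hx'def]
      simp only
      have hfL : algebraMap K L f ≠ 0 := (_root_.map_ne_zero _).2 hf
      rw [map_mul, map_pow, map_inv₀, mul_pow]
      have h1 : ((algebraMap K L f)⁻¹) ^ j * (algebraMap K L f) ^ j = 1 := by
        rw [← mul_pow, inv_mul_cancel₀ hfL, one_pow]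
      rw [mul_assoc, ← mul_assoc (((algebraMap K L f)⁻¹) ^ j), h1, one_mul]
    rw [hb2] at hzint
    have hcoef := coeff_mem p D a' x' hD ha'R hx' (p - 1) (Nat.sub_lt hp.pos Nat.one_pos) b' hzint
    choose! r hr using hcoef
    have hz3 : z = ∑ j ∈ Finset.range (p - 1 + 1), r j • (algebraMap K L u * x' ^ j) := by
      rw [hb2]
      refine Finset.sum_congr rfl fun j hj => ?_
      rw [Algebra.smul_def, IsScalarTower.algebraMap_apply R K L, hr j hj, ← mul_assoc, ← map_mul]
      congr 2
      rw [hu, mul_comm ((D a') ^ (p - 1)), mul_assoc, ← mul_pow, mul_inv_cancel₀ hDa', one_pow,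
        mul_one]
    rw [hz3]
    refine Submodule.sum_mem _ fun j hj => Submodule.smul_mem _ _ (Submodule.subset_span ?_)
    rw [Nat.sub_add_cancel hp.one_le] at hj
    exact Finset.mem_coe.2 (Finset.mem_image_of_mem _ hj)
  haveI : IsNoetherian R (Submodule.span R (S : Set L)) :=
    isNoetherian_span_of_finite R (Finset.finite_toSet S)
  exact Module.Finite.of_injective (Submodule.inclusion hle) (Submodule.inclusion_injective hle)

end Final

end Groth.Agent.Lib.Helper7.IntClosP
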