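import Mathlib
import Groth.Prelude
import Groth.Agent.S2617
import Groth.Agent.Lib.Helper7ExcLoc
import Groth.Agent.Lib.Helper7ExcDim1
import Groth.Agent.Lib.Helper7RegLocusHom
import Groth.Agent.Lib.Helper7PolyGRing2
import Groth.Agent.Lib.Helper26FinLocalProd

/-!
# A Noetherian local G-ring is J-2 (helper7)
-/

set_option autoImplicit false
set_option linter.style.haveILetI false
set_option linter.unusedSectionVars false
universe u

namespace Groth.Agent.Lib.Helper7.J2Local

open IsLocalRing

theorem isRegularLocalRing_atPrime_bot (L : Type u) [CommRing L] [IsDomain L] :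
    IsRegularLocalRing (Localization.AtPrime (⊥ : Ideal L)) := by
  haveI : IsFractionRing L (Localization.AtPrime (⊥ : Ideal L)) := by
    have : (⊥ : Ideal L).primeCompl = nonZeroDivisors L := by
      ext x
      simp [Ideal.primeCompl]
    change IsLocalization (nonZeroDivisors L) _
    rw [← this]
    infer_instance
  letI : Field (Localization.AtPrime (⊥ : Ideal L)) := IsFractionRing.toField L
  infer_instance

/-- For a Noetherian G-ring domain `B` and a prime `m`, there is `f ≠ 0` such that `B_p` is
regular for all primes `p ⊆ m` not containing `f`. -/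
theorem exists_ne_zero_regLocus (B : Type u) [CommRing B] [IsDomain B] [IsNoetherianRing B]
    (hG : CAlg.IsGRing B) (m : Ideal B) [m.IsPrime] :
    ∃ f : B, f ≠ 0 ∧ ∀ p : PrimeSpectrum B, p.asIdeal ≤ m → f ∉ p.asIdeal →
      p ∈ EGA4.regLocus B := by
  let L := Localization.AtPrime m
  haveI : IsNoetherianRing L := IsLocalization.isNoetherianRing m.primeCompl _ inferInstance
  have hreg : CAlg.IsRegularHom L (EGA4.Cpl L) :=
    Groth.Agent.Lib.Helper7.ExcDim1.isRegularHom_cpl_of_isGRing L
      (Groth.Agent.Lib.Helper7.ExcLoc.isGRing_localization B hG m.primeCompl)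
  have hopen : IsOpen (EGA4.regLocus L) :=
    Groth.Agent.Lib.Helper7.RegLocusHom.isOpen_regLocus_of_isRegularHom_cpl L hreg
  have hbot : (⊥ : PrimeSpectrum L) ∈ EGA4.regLocus L := by
    change IsRegularLocalRing (Localization.AtPrime (⊥ : PrimeSpectrum L).asIdeal)
    exact isRegularLocalRing_atPrime_bot L
  obtain ⟨_, ⟨g, rfl⟩, hg1, hg2⟩ :=
    PrimeSpectrum.isTopologicalBasis_basic_opens.exists_subset_of_mem_open hbot hopen
  obtain ⟨⟨a, s⟩, has⟩ := IsLocalization.surj m.primeCompl g
  have hg0 : g ≠ 0 := by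
    intro h
    rw [h] at hg1
    simp at hg1
  have ha0 : a ≠ 0 := by
    intro h
    rw [h, map_zero] at has
    have hs : algebraMap B L s ≠ 0 := by
      intro h0
      have := (IsLocalization.map_units L s).ne_zero
      exact this h0
    exact hg0 ((mul_eq_zero.mp has).resolve_right hs)
  refine ⟨a, ha0, fun p hpm hap => ?_⟩
  have hdisj : Disjoint (m.primeCompl : Set B) (p.asIdeal : Set B) := by
    rw [Set.disjoint_left]
    intro x hx hxp
    exact hx (hpm hxp)
  let q : Ideal L := p.asIdeal.map (algebraMap B L)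
  haveI hqp : q.IsPrime := IsLocalization.isPrime_of_isPrime_disjoint m.primeCompl L _ p.2 hdisj
  have hqc : q.comap (algebraMap B L) = p.asIdeal :=
    IsLocalization.comap_map_of_isPrime_disjoint m.primeCompl L p.2 hdisj
  have hgq : g ∉ q := by
    intro hgq
    have h1 : algebraMap B L a ∈ q := by rw [← has]; exact q.mul_mem_right _ hgq
    have h2 : a ∈ q.comap (algebraMap B L) := h1
    rw [hqc] at h2
    exact hap h2
  have hqreg : (⟨q, hqp⟩ : PrimeSpectrum L) ∈ EGA4.regLocus L := hg2 hgq
  have hqreg' : IsRegularLocalRing (Localization.AtPrime q) := hqreg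
  haveI : IsLocalization.AtPrime (Localization.AtPrime q) (q.comap (algebraMap B L)) :=
    IsLocalization.isLocalization_isLocalization_atPrime_isLocalization m.primeCompl _ q
  let e : Localization.AtPrime q ≃ₐ[B] Localization.AtPrime (q.comap (algebraMap B L)) :=
    IsLocalization.algEquiv (q.comap (algebraMap B L)).primeCompl _ _
  have h3 : IsRegularLocalRing (Localization.AtPrime (q.comap (algebraMap B L))) :=
    IsRegularLocalRing.of_ringEquiv e.toRingEquiv
  change IsRegularLocalRing (Localization.AtPrime p.asIdeal)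
  have h4 : ∀ (I J : Ideal B) [I.IsPrime] [J.IsPrime], I = J →
      IsRegularLocalRing (Localization.AtPrime I) → IsRegularLocalRing (Localization.AtPrime J) := by
    intro I J _ _ hIJ h
    subst hIJ
    exact h
  exact h4 _ _ hqc h3

/-- **A Noetherian local G-ring is J-2.** -/
theorem isJ2_of_isLocalRing_of_isGRing (A : Type u) [CommRing A] [IsNoetherianRing A]
    [IsLocalRing A] (hA : CAlg.IsGRing A) : EGA4.IsJ2 A := by
  rw [Groth.Agent.S2617.result A]
  intro A' _ _ _ hfin
  haveI := hfin
  haveI : IsNoetherianRing A' := IsNoetherianRing.of_finite A A'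
  have hG : CAlg.IsGRing A' :=
    Groth.Agent.Lib.Helper7.PolyGRing2.isGRing_of_finiteType A hA A'
  haveI : Finite (MaximalSpectrum A') :=
    Finite.of_injective _ (Groth.Agent.Lib.Helper26.FinLocalProd.barMax_injective A A')
  haveI : Fintype (MaximalSpectrum A') := Fintype.ofFinite _
  have key : ∀ m : MaximalSpectrum A', ∃ f : A', f ≠ 0 ∧ ∀ p : PrimeSpectrum A',
      p.asIdeal ≤ m.asIdeal → f ∉ p.asIdeal → p ∈ EGA4.regLocus A' := by
    intro m
    haveI := m.isMaximal
    exact exists_ne_zero_regLocus A' hG m.asIdeal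
  choose f hf0 hf using key
  refine ⟨(PrimeSpectrum.basicOpen (∏ m, f m) : Set (PrimeSpectrum A')),
    (PrimeSpectrum.basicOpen _).isOpen, ⟨⊥, ?_⟩, ?_⟩
  · change (∏ m, f m) ∉ (⊥ : Ideal A')
    rw [Ideal.mem_bot, Finset.prod_eq_zero_iff]
    rintro ⟨m, -, hm⟩
    exact hf0 m hm
  · intro p hp
    obtain ⟨m, hm, hpm⟩ := Ideal.exists_le_maximal p.asIdeal p.2.ne_top
    refine hf ⟨m, hm⟩ p hpm (fun h => hp ?_)
    classical
    rw [← Finset.mul_prod_erase Finset.univ f (Finset.mem_univ (⟨m, hm⟩ : MaximalSpectrum A'))]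
    exact Ideal.mul_mem_right _ _ h

end Groth.Agent.Lib.Helper7.J2Local
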