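import Mathlib.RingTheory.Ideal.KrullsHeightTheorem
import Mathlib.RingTheory.Ideal.MinimalPrime.Noetherian
import Mathlib.RingTheory.Ideal.Height

/-!
A Noetherian domain in which some nonzero element lies in every nonzero prime has dimension at
most one (every nonzero prime is maximal).
-/

namespace Groth.Agent.Lib.Helper7

variable {D : Type*} [CommRing D] [IsDomain D] [IsNoetherianRing D]

/-- If `f ≠ 0` lies in every nonzero prime of the Noetherian domain `D`, every prime of `D` has
height at most one. -/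
theorem height_le_one_of_forall_mem (f : D) (hf : f ≠ 0)
    (h : ∀ Q : Ideal D, Q.IsPrime → Q ≠ ⊥ → f ∈ Q) (M : Ideal D) [hM : M.IsPrime] :
    M.height ≤ 1 := by
  classical
  by_contra hcon
  rw [not_le] at hcon
  have hMne : M ≠ ⊥ := by
    rintro rfl
    rw [Ideal.height_bot] at hcon
    exact absurd hcon (by simp)
  have hfM : f ∈ M := h M hM hMne
  have hfin := Ideal.finite_minimalPrimes_of_isNoetherianRing D (Ideal.span {f})
  -- every minimal prime over (f) has height at most one
  have hht : ∀ P ∈ (Ideal.span {f}).minimalPrimes, P.height ≤ 1 := fun P hP =>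
    Ideal.height_le_one_of_isPrincipal_of_mem_minimalPrimes (Ideal.span {f}) P hP
  -- M is not contained in the union of the minimal primes over (f)
  have hnot : ¬ ((M : Set D) ⊆ ⋃ P ∈ (hfin.toFinset : Set (Ideal D)), (P : Set D)) := by
    intro hsub
    have := (Ideal.subset_union_prime (s := hfin.toFinset) (f := fun P : Ideal D => P) ⊥ ⊥
      (fun P hP _ _ => by
        rw [Set.Finite.mem_toFinset] at hP
        exact hP.1.1)).mp hsub
    obtain ⟨P, hP, hMP⟩ := this
    rw [Set.Finite.mem_toFinset] at hP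
    exact absurd (lt_of_lt_of_le hcon ((Ideal.height_mono hMP).trans (hht P hP))) (lt_irrefl _)
  rw [Set.not_subset] at hnot
  obtain ⟨g, hgM, hg⟩ := hnot
  have hg' : ∀ P ∈ (Ideal.span {f}).minimalPrimes, g ∉ P := by
    intro P hP hgP
    apply hg
    simp only [Set.mem_iUnion, SetLike.mem_coe, exists_prop]
    exact ⟨P, by simpa using hP, hgP⟩
  -- a minimal prime over (f) inside M
  obtain ⟨P₀, hP₀, -⟩ := Ideal.exists_minimalPrimes_le
    (show Ideal.span {f} ≤ M from (Ideal.span_singleton_le_iff_mem _).mpr hfM)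
  have hg0 : g ≠ 0 := by
    rintro rfl
    exact hg' P₀ hP₀ (zero_mem _)
  -- a minimal prime over (g) inside M
  obtain ⟨Q, hQ, -⟩ := Ideal.exists_minimalPrimes_le
    (show Ideal.span {g} ≤ M from (Ideal.span_singleton_le_iff_mem _).mpr hgM)
  have hQprime : Q.IsPrime := hQ.1.1
  have hgQ : g ∈ Q := hQ.1.2 (Ideal.mem_span_singleton_self g)
  have hQne : Q ≠ ⊥ := by
    rintro rfl
    exact hg0 (by simpa using hgQ)
  have hQht : Q.height ≤ 1 :=
    Ideal.height_le_one_of_isPrincipal_of_mem_minimalPrimes (Ideal.span {g}) Q hQ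
  have hfQ : f ∈ Q := h Q hQprime hQne
  obtain ⟨P, hP, hPQ⟩ := Ideal.exists_minimalPrimes_le
    (show Ideal.span {f} ≤ Q from (Ideal.span_singleton_le_iff_mem _).mpr hfQ)
  have hPprime : P.IsPrime := hP.1.1
  have hPne : P ≠ ⊥ := by
    rintro rfl
    have : f ∈ (⊥ : Ideal D) := hP.1.2 (Ideal.mem_span_singleton_self f)
    exact hf (by simpa using this)
  have hPeq : P = Q := by
    by_contra hne
    have hlt : P < Q := lt_of_le_of_ne hPQ hne
    have h1 : P.height + 1 ≤ Q.height := Ideal.height_add_one_le_of_lt_of_isPrime hlt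
    have h2 : 1 ≤ P.height := by
      rw [Order.one_le_iff_ne_zero]
      intro h0
      exact hPne (Ideal.height_eq_zero_iff_eq_bot.mp h0)
    have h3 : (1 : ℕ∞) + 1 ≤ 1 := (add_le_add_left h2 1).trans (h1.trans hQht)
    exact absurd h3 (by decide)
  exact hg' P hP (hPeq ▸ hgQ)

/-- If `f ≠ 0` lies in every nonzero prime of the Noetherian domain `D`, every nonzero prime of
`D` is maximal. -/
theorem isMaximal_of_forall_mem (f : D) (hf : f ≠ 0)
    (h : ∀ Q : Ideal D, Q.IsPrime → Q ≠ ⊥ → f ∈ Q) (Q : Ideal D) [hQ : Q.IsPrime] (hQne : Q ≠ ⊥) :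
    Q.IsMaximal := by
  obtain ⟨M, hM, hQM⟩ := Ideal.exists_le_maximal Q hQ.ne_top
  have hMp : M.IsPrime := hM.isPrime
  by_cases hne : Q = M
  · exact hne ▸ hM
  · exfalso
    have hlt : Q < M := lt_of_le_of_ne hQM hne
    have h1 : Q.height + 1 ≤ M.height := Ideal.height_add_one_le_of_lt_of_isPrime hlt
    have h2 : 1 ≤ Q.height := by
      rw [Order.one_le_iff_ne_zero]
      intro h0
      exact hQne (Ideal.height_eq_zero_iff_eq_bot.mp h0)
    have h3 : (1 : ℕ∞) + 1 ≤ 1 :=
      (add_le_add_left h2 1).trans (h1.trans (height_le_one_of_forall_mem f hf h M))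
    exact absurd h3 (by decide)

/-- Relative form: if `f ∉ P` lies in every prime strictly containing the prime `P` of the
Noetherian ring `A`, then every prime strictly containing `P` is maximal. -/
theorem isMaximal_of_forall_lt_mem {A : Type*} [CommRing A] [IsNoetherianRing A] (P : Ideal A)
    [hP : P.IsPrime] (f : A) (hf : f ∉ P) (h : ∀ Q : Ideal A, Q.IsPrime → P < Q → f ∈ Q)
    (Q : Ideal A) [hQ : Q.IsPrime] (hPQ : P < Q) : Q.IsMaximal := by
  have hsurj : Function.Surjective (Ideal.Quotient.mk P) := Ideal.Quotient.mk_surjective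
  have hker : RingHom.ker (Ideal.Quotient.mk P) ≤ P := (Ideal.mk_ker (I := P)).le
  have hf' : Ideal.Quotient.mk P f ≠ 0 := by
    rwa [Ne, Ideal.Quotient.eq_zero_iff_mem]
  have h' : ∀ Q' : Ideal (A ⧸ P), Q'.IsPrime → Q' ≠ ⊥ → Ideal.Quotient.mk P f ∈ Q' := by
    intro Q' hQ' hQ'ne
    have hle : P ≤ Q'.comap (Ideal.Quotient.mk P) := by
      intro a ha
      rw [Ideal.mem_comap, Ideal.Quotient.eq_zero_iff_mem.mpr ha]
      exact zero_mem _
    have hne : P ≠ Q'.comap (Ideal.Quotient.mk P) := by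
      intro heq
      apply hQ'ne
      rw [← Ideal.map_comap_of_surjective _ hsurj Q', ← heq, Ideal.map_quotient_self]
    exact h _ (Ideal.comap_isPrime _ _) (lt_of_le_of_ne hle hne)
  have hQ'prime : (Q.map (Ideal.Quotient.mk P)).IsPrime :=
    Ideal.map_isPrime_of_surjective hsurj (hker.trans hPQ.le)
  have hQ'ne : Q.map (Ideal.Quotient.mk P) ≠ ⊥ := by
    intro h0
    rw [Ideal.map_eq_bot_iff_le_ker] at h0
    exact absurd hPQ (not_lt_of_ge (h0.trans hker))
  have hmax := isMaximal_of_forall_mem (Ideal.Quotient.mk P f) hf' h'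
    (Q.map (Ideal.Quotient.mk P)) hQ'ne
  have hcomap : (Q.map (Ideal.Quotient.mk P)).comap (Ideal.Quotient.mk P) = Q := by
    rw [Ideal.comap_map_of_surjective _ hsurj, ← RingHom.ker_eq_comap_bot, sup_eq_left]
    exact hker.trans hPQ.le
  rw [← hcomap]
  exact Ideal.comap_isMaximal_of_surjective _ hsurj

end Groth.Agent.Lib.Helper7
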