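import Groth.Prelude.Def_KZero2
import Mathlib.CategoryTheory.Limits.Shapes.Products
import Mathlib.CategoryTheory.Limits.Preserves.Shapes.Products
import Mathlib.CategoryTheory.Triangulated.Pretriangulated
import Mathlib.Tactic.Ring

/-!
# K₀ of a pretriangulated category: basic calculus (helper7)
-/

set_option autoImplicit false

namespace Groth.Agent.Lib.Helper7

open CategoryTheory CategoryTheory.Limits CategoryTheory.Pretriangulated KZero ZeroObject

universe v u
variable {C : Type u} [Category.{v} C] [Preadditive C] [HasZeroObject C]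
    [HasShift C ℤ] [∀ n : ℤ, (shiftFunctor C n).Additive] [Pretriangulated C]

theorem clTri_add (T : Triangle C) (hT : T ∈ distinguishedTriangles) :
    KZero.clTri T.obj₂ = KZero.clTri T.obj₁ + KZero.clTri T.obj₃ := by
  have hmem : FreeAbelianGroup.of (⟨T.obj₂, trivial⟩ : Subtype (⊤ : ObjectProperty C)) -
      FreeAbelianGroup.of ⟨T.obj₁, trivial⟩ - FreeAbelianGroup.of ⟨T.obj₃, trivial⟩ ∈
      KZero.relTr (⊤ : ObjectProperty C) :=
    AddSubgroup.subset_closure ⟨T, trivial, trivial, trivial, hT, rfl⟩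
  have h0 := (QuotientAddGroup.eq_zero_iff _).2 hmem
  have h1 : KZero.clTri T.obj₂ - KZero.clTri T.obj₁ - KZero.clTri T.obj₃ = 0 := h0
  rw [sub_sub, sub_eq_zero] at h1
  exact h1

theorem clTri_zero : KZero.clTri (0 : C) = 0 := by
  have := clTri_add _ (contractible_distinguished (0 : C))
  simpa using this

theorem clTri_shift_one (X : C) : KZero.clTri (X⟦(1 : ℤ)⟧) = - KZero.clTri X := by
  have := clTri_add _ (rot_of_distTriang _ (contractible_distinguished X))
  simp only [Triangle.rotate, contractibleTriangle, Triangle.mk_obj₁, Triangle.mk_obj₂,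
    Triangle.mk_obj₃] at this
  rw [clTri_zero] at this
  exact (neg_eq_of_add_eq_zero_right this.symm).symm

theorem clTri_iso {X Y : C} (e : X ≅ Y) : KZero.clTri X = KZero.clTri Y := by
  have hd : Triangle.mk e.hom (0 : Y ⟶ 0) (0 : 0 ⟶ X⟦(1 : ℤ)⟧) ∈ distinguishedTriangles := by
    refine isomorphic_distinguished _ (contractible_distinguished X) _ ?_
    refine Triangle.isoMk _ _ (Iso.refl X) e.symm (Iso.refl 0) ?_ ?_ ?_
    · show e.hom ≫ e.inv = 𝟙 X ≫ 𝟙 X
      rw [e.hom_inv_id, Category.id_comp]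
    · exact (isZero_zero C).eq_of_tgt _ _
    · exact (isZero_zero C).eq_of_src _ _
  have := clTri_add _ hd
  simp only [Triangle.mk_obj₁, Triangle.mk_obj₂, Triangle.mk_obj₃] at this
  rw [clTri_zero, add_zero] at this
  exact this.symm

theorem clTri_biprod (X Y : C) : KZero.clTri (X ⊞ Y) = KZero.clTri X + KZero.clTri Y := by
  have := clTri_add _ (binaryBiproductTriangle_distinguished X Y)
  simpa [binaryBiproductTriangle] using this

theorem clTri_shift_succ (X : C) (m : ℤ) :
    KZero.clTri (X⟦m + 1⟧) = - KZero.clTri (X⟦m⟧) := by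
  rw [clTri_iso ((shiftFunctorAdd C m 1).app X)]
  exact clTri_shift_one _

theorem clTri_shift_add_two (X : C) (m : ℤ) :
    KZero.clTri (X⟦m + 2⟧) = KZero.clTri (X⟦m⟧) := by
  have : m + 2 = (m + 1) + 1 := by omega
  rw [this, clTri_shift_succ, clTri_shift_succ, neg_neg]

theorem clTri_shift_two_mul (X : C) (n : ℤ) : KZero.clTri (X⟦2 * n⟧) = KZero.clTri X := by
  induction n using Int.induction_on with
  | zero =>
    rw [mul_zero]
    exact clTri_iso ((shiftFunctorZero C ℤ).app X)
  | succ k ih =>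
    have : 2 * ((k : ℤ) + 1) = 2 * (k : ℤ) + 2 := by omega
    rw [this, clTri_shift_add_two, ih]
  | pred k ih =>
    have : 2 * (-(k : ℤ)) = 2 * (-(k : ℤ) - 1) + 2 := by omega
    rw [this, clTri_shift_add_two] at ih
    exact ih

section Swindle

variable {D : Type u} [Category.{v} D] [HasZeroMorphisms D]

/-- The injections of the "shifted" cofan on `A 0 ⊞ F (∐ A)`. -/
noncomputable def swindleInj (A : ℕ → D) (F : D ⥤ D) (M : D) (ι : ∀ i, A i ⟶ M)
    (e : ∀ i, A (i + 1) ⟶ F.obj (A i)) [HasBinaryBiproduct (A 0) (F.obj M)] :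
    ∀ i, A i ⟶ A 0 ⊞ F.obj M
  | 0 => biprod.inl
  | (i + 1) => e i ≫ F.map (ι i) ≫ biprod.inr

/-- Eilenberg swindle: if `F (A i) ≅ A (i+1)` and `F` preserves the coproduct of the `A i`, then
`∐ A ≅ A 0 ⊞ F (∐ A)`. -/
theorem swindle_iso (A : ℕ → D) [HasCoproduct A] (F : D ⥤ D)
    [PreservesColimit (Discrete.functor A) F] (e : ∀ i, A (i + 1) ≅ F.obj (A i))
    [HasBinaryBiproduct (A 0) (F.obj (∐ A))] : Nonempty (∐ A ≅ A 0 ⊞ F.obj (∐ A)) := by
  have hF : IsColimit (Cofan.mk (F.obj (∐ A)) fun j => F.map (Sigma.ι A j)) :=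
    isColimitCofanMkObjOfIsColimit F A _ (coproductIsCoproduct A)
  have hcolim : IsColimit (Cofan.mk (A 0 ⊞ F.obj (∐ A))
      (swindleInj A F (∐ A) (Sigma.ι A) (fun i => (e i).hom))) := by
    refine mkCofanColimit _
      (fun s => biprod.desc (s.inj 0)
        (Cofan.IsColimit.desc hF (fun i => (e i).inv ≫ s.inj (i + 1)))) ?_ ?_
    · intro s j
      cases j with
      | zero =>
        show biprod.inl ≫ biprod.desc _ _ = _
        rw [biprod.inl_desc]
      | succ i =>
        show ((e i).hom ≫ F.map (Sigma.ι A i) ≫ biprod.inr) ≫ biprod.desc _ _ = _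
        rw [Category.assoc, Category.assoc, biprod.inr_desc]
        have := Cofan.IsColimit.fac hF (fun i => (e i).inv ≫ s.inj (i + 1)) i
        dsimp at this
        rw [this, Iso.hom_inv_id_assoc]
    · intro s m hm
      apply biprod.hom_ext'
      · rw [biprod.inl_desc]
        exact hm 0
      · rw [biprod.inr_desc]
        refine Cofan.IsColimit.hom_ext hF _ _ (fun i => ?_)
        have h1 := Cofan.IsColimit.fac hF (fun i => (e i).inv ≫ s.inj (i + 1)) i
        dsimp at h1 ⊢
        rw [h1, ← hm (i + 1)]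
        show _ = (e i).inv ≫ ((e i).hom ≫ F.map (Sigma.ι A i) ≫ biprod.inr) ≫ m
        simp only [Category.assoc, Iso.inv_hom_id_assoc]
  exact ⟨(coproductIsCoproduct A).coconePointUniqueUpToIso hcolim⟩

end Swindle

/-- Eilenberg swindle in `K₀` of a pretriangulated category. -/
theorem clTri_eq_zero_of_hasCoproduct (L : C) (n : ℤ)
    [HasCoproduct (fun i : ℕ => (shiftFunctor C (2 * n * (i : ℤ))).obj L)] :
    KZero.clTri L = 0 := by
  obtain ⟨iso⟩ := swindle_iso (fun i : ℕ => (shiftFunctor C (2 * n * (i : ℤ))).obj L)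
    (shiftFunctor C (2 * n)) (fun i =>
      (shiftFunctorAdd' C (2 * n * (i : ℤ)) (2 * n) (2 * n * ((i + 1 : ℕ) : ℤ))
        (by push_cast; ring)).app L)
  have h1 := clTri_iso iso
  rw [clTri_biprod, clTri_shift_two_mul] at h1
  have h2 : KZero.clTri ((shiftFunctor C (2 * n * ((0 : ℕ) : ℤ))).obj L) = 0 := by
    have := h1.symm
    rwa [add_eq_right] at this
  rw [← h2]
  exact clTri_iso ((shiftFunctorZero' C (2 * n * ((0 : ℕ) : ℤ)) (by simp)).app L).symm

end Groth.Agent.Lib.Helper7
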