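import Mathlib

namespace Groth.Agent.Lib.Helper7.LeftInv

open TensorProduct

universe u

variable {A : Type u} [CommRing A]

section basics

variable {M N P : Type*} [AddCommGroup M] [Module A M] [AddCommGroup N] [Module A N]
  [AddCommGroup P] [Module A P]

/-- the `A`-linear localized map. -/
noncomputable abbrev locMap (S : Submonoid A) (u : M →ₗ[A] N) :
    LocalizedModule S M →ₗ[A] LocalizedModule S N :=
  (LocalizedModule.map S u).restrictScalars A

theorem locMap_mk (S : Submonoid A) (u : M →ₗ[A] N) (m : M) (s : S) :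
    locMap S u (LocalizedModule.mk m s) = LocalizedModule.mk (u m) s :=
  LocalizedModule.map_mk S u m s

theorem locMap_comp (S : Submonoid A) (u : M →ₗ[A] N) (v : N →ₗ[A] P) :
    locMap S (v ∘ₗ u) = locMap S v ∘ₗ locMap S u := by
  ext x
  induction x using LocalizedModule.induction_on with
  | h m s => simp [locMap_mk]

theorem locMap_smul_id (S : Submonoid A) (a : A) :
    locMap S (a • (LinearMap.id : M →ₗ[A] M)) = a • LinearMap.id := by
  ext x
  induction x using LocalizedModule.induction_on with
  | h m s => simp [locMap_mk, LocalizedModule.smul'_mk]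

/-- left invertibility of the localized map -/
def LI (S : Submonoid A) (u : M →ₗ[A] N) : Prop :=
  ∃ w : LocalizedModule S N →ₗ[A] LocalizedModule S M, w ∘ₗ locMap S u = LinearMap.id

theorem LI_of_comp (S : Submonoid A) (u : M →ₗ[A] N) (v : N →ₗ[A] P) (h : LI S (v ∘ₗ u)) :
    LI S u := by
  obtain ⟨w, hw⟩ := h
  refine ⟨w ∘ₗ locMap S v, ?_⟩
  rw [LinearMap.comp_assoc, ← locMap_comp, hw]

theorem LI_of_le {S₁ S₂ : Submonoid A} (h : S₁ ≤ S₂) (u : M →ₗ[A] N) (hu : LI S₁ u) : LI S₂ u := by
  obtain ⟨w, hw⟩ := hu
  let lamM : LocalizedModule S₁ M →ₗ[A] LocalizedModule S₂ M := LocalizedModule.liftOfLE S₁ S₂ h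
  let g : N →ₗ[A] LocalizedModule S₂ M := lamM ∘ₗ w ∘ₗ LocalizedModule.mkLinearMap S₁ N
  have hunits : ∀ x : S₂, IsUnit ((algebraMap A (Module.End A (LocalizedModule S₂ M))) x) :=
    IsLocalizedModule.map_units (LocalizedModule.mkLinearMap S₂ M)
  refine ⟨LocalizedModule.lift S₂ g hunits, ?_⟩
  apply IsLocalizedModule.ext S₂ (LocalizedModule.mkLinearMap S₂ M) hunits
  ext m
  simp only [LinearMap.comp_apply, LocalizedModule.mkLinearMap_apply, locMap_mk,
    LinearMap.id_apply]
  rw [LocalizedModule.lift_mk]
  simp only [g, LinearMap.comp_apply, LocalizedModule.mkLinearMap_apply]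
  have h1 : w (LocalizedModule.mk (u m) 1) = LocalizedModule.mk m 1 := by
    have := LinearMap.congr_fun hw (LocalizedModule.mk m 1)
    simpa [locMap_mk] using this
  rw [h1]
  have h2 : lamM (LocalizedModule.mk m 1) = LocalizedModule.mk m 1 := by
    have := IsLocalizedModule.liftOfLE_apply S₁ S₂ h (LocalizedModule.mkLinearMap S₁ M)
      (LocalizedModule.mkLinearMap S₂ M) m
    simpa using this
  rw [h2]
  simp

theorem exists_LI_powers_of_LI [Module.Finite A M] [Module.FinitePresentation A N]
    (S : Submonoid A) (u : M →ₗ[A] N) (h : LI S u) : ∃ f ∈ S, LI (Submonoid.powers f) u := by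
  obtain ⟨w, hw⟩ := h
  let mkM := LocalizedModule.mkLinearMap S M
  let mkN := LocalizedModule.mkLinearMap S N
  obtain ⟨v, s, hv⟩ := Module.FinitePresentation.exists_lift_of_isLocalizedModule S mkM (w ∘ₗ mkN)
  have h1 : mkM ∘ₗ (v ∘ₗ u) = mkM ∘ₗ ((s : A) • LinearMap.id) := by
    ext m
    have h2 := LinearMap.congr_fun hv (u m)
    have h3 : w (LocalizedModule.mk (u m) 1) = LocalizedModule.mk m 1 := by
      have := LinearMap.congr_fun hw (LocalizedModule.mk m 1)
      simpa [locMap_mk] using this
    simp only [LinearMap.comp_apply, LinearMap.smul_apply, mkN,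
      LocalizedModule.mkLinearMap_apply, h3] at h2
    simp only [LinearMap.comp_apply, LinearMap.smul_apply, LinearMap.id_apply, map_smul]
    rw [h2]
    rfl
  obtain ⟨t, ht⟩ := Module.Finite.exists_smul_of_comp_eq_of_isLocalizedModule S mkM _ _ h1
  let f : A := (t : A) * (s : A)
  refine ⟨f, (t * s).2, ?_⟩
  let fS : Submonoid.powers f := ⟨f, Submonoid.mem_powers f⟩
  refine ⟨LocalizedModule.divBy fS ∘ₗ locMap (Submonoid.powers f) ((t : A) • v), ?_⟩
  rw [LinearMap.comp_assoc, ← locMap_comp]
  have h4 : ((t : A) • v) ∘ₗ u = f • LinearMap.id := by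
    rw [LinearMap.smul_comp]
    have : (t : A) • (v ∘ₗ u) = (t : A) • ((s : A) • LinearMap.id) := ht
    rw [this, smul_smul]
  rw [h4, locMap_smul_id]
  ext x
  simp only [LinearMap.comp_apply, LinearMap.smul_apply, LinearMap.id_apply]
  exact LocalizedModule.divBy_mul_by fS x

end basics

section residue

variable (M : Type*) {N : Type*} [AddCommGroup M] [Module A M] [AddCommGroup N] [Module A N]
variable (p : Ideal A) [p.IsPrime]

/-- comparison equivalence `κ(p) ⊗_A M ≃ κ(p) ⊗_{A_p} M_p`. -/
noncomputable def eM : p.ResidueField ⊗[A] M ≃ₗ[A]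
    p.ResidueField ⊗[Localization.AtPrime p] LocalizedModule p.primeCompl M :=
  ((TensorProduct.AlgebraTensorModule.cancelBaseChange A (Localization.AtPrime p)
      (Localization.AtPrime p) p.ResidueField M).symm.restrictScalars A) ≪≫ₗ
   ((TensorProduct.congr (LinearEquiv.refl (Localization.AtPrime p) p.ResidueField)
      (IsLocalizedModule.isBaseChange p.primeCompl (Localization.AtPrime p)
        (LocalizedModule.mkLinearMap p.primeCompl M)).equiv).restrictScalars A)

theorem eM_tmul (c : p.ResidueField) (m : M) :
    eM M p (c ⊗ₜ m) = c ⊗ₜ LocalizedModule.mk m 1 := by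
  simp [eM, IsBaseChange.equiv_tmul]

variable {M}

theorem injective_lTensor_iff (u : M →ₗ[A] N) :
    Function.Injective (u.lTensor p.ResidueField) ↔
      Function.Injective ((LocalizedModule.map p.primeCompl u).lTensor p.ResidueField) := by
  have hsq : ∀ x, eM N p (u.lTensor p.ResidueField x) =
      (LocalizedModule.map p.primeCompl u).lTensor p.ResidueField (eM M p x) := by
    intro x
    induction x using TensorProduct.induction_on with
    | zero => simp
    | tmul c m => simp [eM_tmul]
    | add x y hx hy => simp only [map_add, hx, hy]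
  constructor
  · intro h a b hab
    obtain ⟨a', rfl⟩ := (eM M p).surjective a
    obtain ⟨b', rfl⟩ := (eM M p).surjective b
    rw [← hsq, ← hsq] at hab
    rw [h ((eM N p).injective hab)]
  · intro h a b hab
    apply (eM M p).injective
    apply h
    rw [← hsq, ← hsq, hab]

end residue


end Groth.Agent.Lib.Helper7.LeftInv

namespace Groth.Agent.Lib.Helper7.LeftInv

open TensorProduct

universe u

variable {A : Type u} [CommRing A]

section main

variable {M N : Type*} [AddCommGroup M] [Module A M] [AddCommGroup N] [Module A N]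

theorem LI_iff_injective (p : Ideal A) [p.IsPrime] [Module.Finite A M] [Module.Finite A N]
    [Module.Free A N] (u : M →ₗ[A] N) :
    LI p.primeCompl u ↔ Function.Injective (u.lTensor p.ResidueField) := by
  have : Module.Free (Localization.AtPrime p) (LocalizedModule p.primeCompl N) :=
    Module.free_of_isLocalizedModule p.primeCompl (LocalizedModule.mkLinearMap p.primeCompl N)
  rw [injective_lTensor_iff, ← IsLocalRing.split_injective_iff_lTensor_residueField_injective]
  constructor
  · rintro ⟨w, hw⟩
    refine ⟨LinearMap.extendScalarsOfIsLocalization p.primeCompl (Localization.AtPrime p) w, ?_⟩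
    ext x
    exact LinearMap.congr_fun hw x
  · rintro ⟨l', hl'⟩
    refine ⟨l'.restrictScalars A, ?_⟩
    ext x
    exact LinearMap.congr_fun hl' x

end main

end Groth.Agent.Lib.Helper7.LeftInv

namespace Groth.Agent.Lib.Helper7.LeftInv

open TensorProduct

universe u

variable {A : Type u} [CommRing A]

section reduction

variable {M N : Type*} [AddCommGroup M] [Module A M] [AddCommGroup N] [Module A N]

theorem exists_factor_finite_free [Module.Finite A M] [Module.Projective A N] (u : M →ₗ[A] N) :
    ∃ (T : Finset N) (α : N →ₗ[A] (T → A)) (β : (T → A) →ₗ[A] N), β ∘ₗ α ∘ₗ u = u := by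
  classical
  obtain ⟨i, hi⟩ := Module.projective_def'.1 (inferInstance : Module.Projective A N)
  obtain ⟨σ, hσ⟩ := Module.Finite.fg_top (R := A) (M := M)
  let T : Finset N := σ.biUnion fun m => (i (u m)).support
  have hsupp : ∀ m : M, (i (u m)).support ⊆ T := by
    intro m
    have hm : m ∈ Submodule.span A (σ : Set M) := by rw [hσ]; trivial
    refine Submodule.span_induction ?_ ?_ ?_ ?_ hm
    · intro x hx
      exact Finset.subset_biUnion_of_mem (fun m => (i (u m)).support) hx
    · simp
    · intro x y _ _ hx hy
      rw [map_add, map_add]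
      exact (Finsupp.support_add).trans (Finset.union_subset hx hy)
    · intro a x _ hx
      rw [map_smul, map_smul]
      exact (Finsupp.support_smul).trans hx
  let α : N →ₗ[A] (T → A) := LinearMap.pi fun t => Finsupp.lapply (t : N) ∘ₗ i
  let β : (T → A) →ₗ[A] N := Fintype.linearCombination A (fun t : T => (t : N))
  refine ⟨T, α, β, ?_⟩
  ext m
  simp only [LinearMap.comp_apply, α, β, Fintype.linearCombination_apply, LinearMap.pi_apply,
    Finsupp.lapply_apply]
  have h1 : u m = Finsupp.linearCombination A id (i (u m)) := (LinearMap.congr_fun hi (u m)).symm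
  conv_rhs => rw [h1, Finsupp.linearCombination_apply,
    Finsupp.sum_of_support_subset _ (hsupp m) _ (by simp)]
  rw [← Finset.sum_coe_sort T]
  rfl

end reduction

end Groth.Agent.Lib.Helper7.LeftInv
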