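import Groth.Agent.Lib.Helper7Lim
import Mathlib.RingTheory.Flat.EquationalCriterion
import Mathlib.RingTheory.RingHom.Flat
import Mathlib.AlgebraicGeometry.Morphisms.Flat

open CategoryTheory AlgebraicGeometry Topology Limits
namespace Groth.Agent.Lib.Helper7
universe u v w

/-!
Flatness and reducedness in cofiltered limits of schemes with affine transition maps.
-/

/-- A "directed union" of flat ring homomorphisms is flat: equational criterion. -/
lemma _root_.RingHom.flat_of_directed {R : Type u} {B : Type v} [CommRing R] [CommRing B] (ρ : R →+* B)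
    {J : Type*} (Bj : J → Type w) [∀ j, CommRing (Bj j)] (ρj : ∀ j, R →+* Bj j)
    (hflat : ∀ j, (ρj j).Flat)
    (g : ∀ j, Bj j →+* B) (hg : ∀ j, (g j).comp (ρj j) = ρ)
    (H1 : ∀ (l : ℕ) (x : Fin l → B), ∃ (j : J) (y : Fin l → Bj j), ∀ i, g j (y i) = x i)
    (H2 : ∀ (j : J) (z : Bj j), g j z = 0 → ∃ (j' : J) (t : Bj j →+* Bj j'),
      t z = 0 ∧ t.comp (ρj j) = ρj j' ∧ (g j').comp t = g j) :
    ρ.Flat := by
  let _ := ρ.toAlgebra
  show Module.Flat R B
  refine Module.Flat.of_forall_isTrivialRelation (fun {l f x} hrel => ?_)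
  obtain ⟨j, y, hy⟩ := H1 l x
  have hsmul : ∀ (r : R) (b : B), r • b = ρ r * b := fun r b => rfl
  have hz : g j (∑ i, ρj j (f i) * y i) = 0 := by
    rw [map_sum, ← hrel]
    refine Finset.sum_congr rfl (fun i _ => ?_)
    rw [map_mul, hy, hsmul, ← hg j]
    rfl
  obtain ⟨j', t, htz, htρ, htg⟩ := H2 j _ hz
  let _ := (ρj j').toAlgebra
  have hfl : Module.Flat R (Bj j') := hflat j'
  have hsmul' : ∀ (r : R) (b : Bj j'), r • b = ρj j' r * b := fun r b => rfl
  have hrel' : ∑ i, f i • t (y i) = 0 := by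
    rw [← htz, map_sum]
    refine Finset.sum_congr rfl (fun i _ => ?_)
    rw [map_mul, hsmul', ← htρ]
    rfl
  obtain ⟨k, a, w, hw1, hw2⟩ := Module.Flat.isTrivialRelation_of_sum_smul_eq_zero hrel'
  refine ⟨k, a, fun κ => g j' (w κ), ?_, hw2⟩
  intro i
  have h1 : x i = g j' (t (y i)) := by
    rw [← hy i, ← htg]
    rfl
  have h2 : t (y i) = ∑ κ, a i κ • w κ := hw1 i
  rw [h1, h2, map_sum]
  refine Finset.sum_congr rfl (fun κ _ => ?_)
  rw [hsmul', map_mul, hsmul, ← hg j']
  rfl


section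
variable {I : Type u} [SmallCategory I] [IsCofiltered I]
  (D : I ⥤ Scheme.{u}) (c : Limits.Cone D) (hc : Limits.IsLimit c)

include hc in
/-- Affine case of flatness of the projection from a cofiltered limit. -/
lemma flat_appTop_π_app_of_isAffine [∀ i, IsAffine (D.obj i)] (i₀ : I)
    (hfl : ∀ (j : I) (f : j ⟶ i₀), (D.map f).appTop.hom.Flat) :
    (c.π.app i₀).appTop.hom.Flat := by
  refine RingHom.flat_of_directed (J := Σ j : I, (j ⟶ i₀)) (c.π.app i₀).appTop.hom
    (fun p => Γ(D.obj p.1, ⊤)) (fun p => (D.map p.2).appTop.hom) (fun p => hfl p.1 p.2)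
    (fun p => (c.π.app p.1).appTop.hom) ?_ ?_ ?_
  · rintro ⟨j, f⟩
    rw [← CommRingCat.hom_comp, ← Scheme.Hom.comp_appTop, c.w]
  · intro l
    induction l with
    | zero => exact fun x => ⟨⟨i₀, 𝟙 _⟩, Fin.elim0, fun i => Fin.elim0 i⟩
    | succ l ih =>
      intro x
      obtain ⟨⟨j₁, f₁⟩, y₁, hy₁⟩ := ih (fun i => x i.succ)
      obtain ⟨j₂, t₂, ht₂⟩ := exists_appTop_π_eq_of_isAffine_of_isLimit D c hc (x 0)
      refine ⟨⟨IsCofiltered.min j₁ j₂, IsCofiltered.minToLeft j₁ j₂ ≫ f₁⟩,
        Fin.cons ((D.map (IsCofiltered.minToRight j₁ j₂)).appTop t₂)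
          (fun i => (D.map (IsCofiltered.minToLeft j₁ j₂)).appTop (y₁ i)), ?_⟩
      intro i
      refine Fin.cases ?_ (fun i => ?_) i
      · rw [Fin.cons_zero, ← ht₂]
        change ((D.map (IsCofiltered.minToRight j₁ j₂)).appTop ≫
          (c.π.app (IsCofiltered.min j₁ j₂)).appTop) t₂ = _
        rw [← Scheme.Hom.comp_appTop, c.w]
      · rw [Fin.cons_succ, ← hy₁ i]
        change ((D.map (IsCofiltered.minToLeft j₁ j₂)).appTop ≫
          (c.π.app (IsCofiltered.min j₁ j₂)).appTop) (y₁ i) = _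
        rw [← Scheme.Hom.comp_appTop, c.w]
  · rintro ⟨j, f⟩ z hz
    obtain ⟨j', h, hj'⟩ := exists_appTop_map_eq_zero_of_isAffine_of_isLimit D c hc j z hz
    refine ⟨⟨j', h ≫ f⟩, (D.map h).appTop.hom, hj', ?_, ?_⟩
    · rw [← CommRingCat.hom_comp, ← Scheme.Hom.comp_appTop, ← Functor.map_comp]
    · rw [← CommRingCat.hom_comp, ← Scheme.Hom.comp_appTop, c.w]

variable [∀ (i j : I) (f : i ⟶ j), IsAffineHom (D.map f)]

include hc in
/-- If all transition maps into `S_i` are flat, so is the projection from the limit. -/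
lemma flat_π_app (i : I) (hf : ∀ (j : I) (φ : j ⟶ i), Flat (D.map φ)) : Flat (c.π.app i) := by
  have hinst : ∀ {i j : I} (f : i ⟶ j), IsAffineHom (D.map f) := fun f => inferInstance
  refine IsZariskiLocalAtTarget.of_iSup_eq_top (P := @Flat)
    (fun W : (D.obj i).affineOpens => W.1) (iSup_affineOpens_eq_top _) ?_
  rintro ⟨W, hW⟩
  have haff : ∀ j : Over i, IsAffine ((opensDiagram D i W).obj j) := fun j =>
    hW.preimage (D.map j.hom)
  have hptaff : IsAffine (opensCone D c i W).pt :=
    Scheme.isAffine_of_isLimit _ (isLimitOpensCone D c hc i W)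
  have hF := flat_appTop_π_app_of_isAffine (opensDiagram D i W) (opensCone D c i W)
    (isLimitOpensCone D c hc i W) (Over.mk (𝟙 i)) (by
      intro j f
      have : Flat (D.map f.left) := hf _ _
      have : Flat ((opensDiagram D i W).map f) := by
        dsimp [opensDiagram]
        infer_instance
      exact (HasRingHomProperty.iff_of_isAffine (P := @Flat)).mp this)
  have hptaff' : IsAffine (((Functor.const (Over i)).obj (opensCone D c i W).pt).obj
      (Over.mk (𝟙 i))) := hptaff
  have h1 : Flat ((opensCone D c i W).π.app (Over.mk (𝟙 i))) :=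
    (HasRingHomProperty.iff_of_isAffine (P := @Flat)).mpr hF
  rw [← Scheme.Hom.resLE_eq_morphismRestrict]
  have hW' : D.map (𝟙 i) ⁻¹ᵁ W = W := by simp
  exact (Scheme.Hom.resLE_congr (c.π.app i) _ hW' rfl @Flat).mp h1
end

set_option backward.isDefEq.respectTransparency.types false in
/-- Reducedness descends along flat surjective morphisms. -/
lemma isReduced_of_flat_of_surjective {X Y : Scheme.{u}} (f : X ⟶ Y) [Flat f] [Surjective f]
    [IsReduced X] : IsReduced Y := by
  have (y : Y) : _root_.IsReduced (Y.presheaf.stalk y) := by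
    obtain ⟨x, rfl⟩ := f.surjective y
    refine isReduced_of_injective (f.stalkMap x).hom ?_
    algebraize [(f.stalkMap x).hom]
    have : Module.FaithfullyFlat (Y.presheaf.stalk (f x)) (X.presheaf.stalk x) :=
      @Module.FaithfullyFlat.of_flat_of_isLocalHom _ _ _ _ _ _ _
        (Flat.stalkMap f x) (f.toLRSHom.prop x)
    exact ‹RingHom.FaithfullyFlat _›.injective
  exact isReduced_of_isReduced_stalk _

section
variable {I : Type u} [SmallCategory I] [IsCofiltered I]
  (D : I ⥤ Scheme.{u}) (c : Limits.Cone D) (hc : Limits.IsLimit c)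

include hc in
/-- Affine case: if the ring of global sections of the limit is not reduced, then eventually the
rings of global sections of the stages are not reduced. -/
lemma exists_forall_not_isReduced_of_isAffine [∀ i, IsAffine (D.obj i)]
    (h : ¬ _root_.IsReduced Γ(c.pt, ⊤)) :
    ∃ i : I, ∀ (j : I) (_ : j ⟶ i), ¬ _root_.IsReduced Γ(D.obj j, ⊤) := by
  have hex : ∃ s : Γ(c.pt, ⊤), IsNilpotent s ∧ s ≠ 0 := by
    by_contra hcon
    push Not at hcon
    exact h ⟨fun s hs => hcon s hs⟩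
  obtain ⟨s, ⟨n, hn⟩, hs0⟩ := hex
  obtain ⟨i, t, rfl⟩ := exists_appTop_π_eq_of_isAffine_of_isLimit D c hc s
  obtain ⟨j, f, hj⟩ := exists_appTop_map_eq_zero_of_isAffine_of_isLimit D c hc i (t ^ n) (by
    rw [map_pow, hn])
  refine ⟨j, fun j' ψ hred => hs0 ?_⟩
  have h1 : (D.map (ψ ≫ f)).appTop t ^ n = 0 := by
    rw [← map_pow, Functor.map_comp, Scheme.Hom.comp_appTop, CommRingCat.comp_apply, hj, map_zero]
  have h2 : (D.map (ψ ≫ f)).appTop t = 0 := hred.eq_zero _ ⟨n, h1⟩
  have h3 : (c.π.app i).appTop t = (c.π.app j').appTop ((D.map (ψ ≫ f)).appTop t) := by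
    rw [← CommRingCat.comp_apply, ← Scheme.Hom.comp_appTop, c.w]
  rw [h3, h2, map_zero]

variable [∀ (i j : I) (f : i ⟶ j), IsAffineHom (D.map f)]

include hc in
/-- If the limit is not reduced, then eventually the stages are not reduced. -/
lemma exists_forall_not_isReduced (h : ¬ IsReduced c.pt) :
    ∃ i : I, ∀ (j : I) (_ : j ⟶ i), ¬ IsReduced (D.obj j) := by
  have hinst : ∀ {i j : I} (f : i ⟶ j), IsAffineHom (D.map f) := fun f => inferInstance
  -- find a basic affine open of the limit which is not reduced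
  have hex : ∃ (i : I) (W : (D.obj i).Opens), IsAffineOpen W ∧
      ¬ IsReduced (c.π.app i ⁻¹ᵁ W : c.pt.Opens) := by
    by_contra hcon
    push Not at hcon
    apply h
    have hB := isBasis_preimage_isAffineOpen' D c hc
    have hx : ∀ x : c.pt, ∃ (i : I) (W : (D.obj i).Opens), IsAffineOpen W ∧
        x ∈ c.π.app i ⁻¹ᵁ W := by
      intro x
      obtain ⟨_, ⟨_, ⟨i, W, hW, rfl⟩, rfl⟩, hxW, -⟩ :=
        hB.exists_subset_of_mem_open (Set.mem_univ x) isOpen_univ
      exact ⟨i, W, hW, hxW⟩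
    choose i W hW hxW using hx
    have hcov : TopologicalSpace.IsOpenCover (fun x : c.pt => c.π.app (i x) ⁻¹ᵁ W x) := by
      rw [TopologicalSpace.IsOpenCover, eq_top_iff]
      intro x _
      exact TopologicalSpace.Opens.mem_iSup.mpr ⟨x, hxW x⟩
    have : ∀ x, IsReduced ((c.pt.openCoverOfIsOpenCover _ hcov).X x) := fun x =>
      hcon (i x) (W x) (hW x)
    exact IsReduced.of_openCover _ (c.pt.openCoverOfIsOpenCover _ hcov)
  obtain ⟨i, W, hW, hnr⟩ := hex
  have haff : ∀ j : Over i, IsAffine ((opensDiagram D i W).obj j) := fun j =>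
    hW.preimage (D.map j.hom)
  have hptaff : IsAffine (opensCone D c i W).pt :=
    Scheme.isAffine_of_isLimit _ (isLimitOpensCone D c hc i W)
  have hnr' : ¬ _root_.IsReduced Γ((opensCone D c i W).pt, ⊤) := by
    intro hred
    exact hnr (isReduced_of_isAffine_isReduced (X := (opensCone D c i W).pt))
  obtain ⟨j₀, hj₀⟩ := exists_forall_not_isReduced_of_isAffine (opensDiagram D i W)
    (opensCone D c i W) (isLimitOpensCone D c hc i W) hnr'
  refine ⟨j₀.left, fun j φ hred => ?_⟩
  refine hj₀ (Over.mk (φ ≫ j₀.hom)) (Over.homMk φ) ?_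
  have : IsReduced ((opensDiagram D i W).obj (Over.mk (φ ≫ j₀.hom))) := by
    dsimp [opensDiagram]
    infer_instance
  infer_instance
end


end Groth.Agent.Lib.Helper7
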