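import Mathlib
import Groth.Agent.Lib.Helper7RegOpen
import Groth.Agent.Lib.Helper28DepthDom
import Groth.Agent.Lib.Helper28Catenary
import Groth.Agent.Lib.Helper5RLR

set_option autoImplicit false
universe u

namespace Groth.Agent.Lib.Helper7.NorOpen

open Groth.Agent.Lib.Helper7.RegOpen Groth.Agent.Lib.Helper28 PrimeSpectrum

section DepthOne

variable {A : Type u} [CommRing A] [IsDomain A] [IsNoetherianRing A]

/-- Localized form of helper28's `mem_range_of_forall_depth_one`: an element of the fraction field
lying in `A_P` for all depth-one primes `P ≤ q` lies in `A_q`. -/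
theorem mem_range_localization_of_forall_depth_one (q : Ideal A) [hq : q.IsPrime]
    (x : FractionRing A)
    (hx : ∀ (P : Ideal A) [P.IsPrime], P ≤ q →
      LocCoh.depth (Localization.AtPrime P) (Localization.AtPrime P) = 1 →
        x ∈ Set.range (algebraMap (Localization.AtPrime P) (FractionRing A))) :
    x ∈ Set.range (algebraMap (Localization.AtPrime q) (FractionRing A)) := by
  set ι := algebraMap A (FractionRing A) with hι
  have hinj : Function.Injective ι := IsFractionRing.injective A (FractionRing A)
  -- the denominator ideal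
  let D : Ideal A :=
    { carrier := {a | ι a * x ∈ Set.range ι}
      add_mem' := by
        rintro a b ⟨u, hu⟩ ⟨v, hv⟩
        exact ⟨u + v, by rw [map_add, map_add, add_mul, hu, hv]⟩
      zero_mem' := ⟨0, by simp⟩
      smul_mem' := by
        rintro c a ⟨u, hu⟩
        exact ⟨c * u, by rw [smul_eq_mul, map_mul, map_mul, mul_assoc, hu]⟩ }
  by_cases hDq : D ≤ q
  · exfalso
    obtain ⟨P, hPmin, hPq⟩ := Ideal.exists_minimalPrimes_le hDq
    have hP : P ∈ associatedPrimes A (A ⧸ D) := by
      apply Module.associatedPrimes.minimalPrimes_annihilator_subset_associatedPrimes A (A ⧸ D)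
      rw [Ideal.annihilator_quotient]
      exact hPmin
    obtain ⟨hPp, zbar, hz⟩ := (isAssociatedPrime_iff (M := A ⧸ D)).mp hP
    haveI := hPp
    obtain ⟨b, rfl⟩ := Ideal.Quotient.mk_surjective zbar
    set y := ι b * x with hy
    have hPmem : ∀ r : A, r ∈ P ↔ ι r * y ∈ Set.range ι := by
      intro r
      rw [hz, Submodule.mem_colon_singleton, Submodule.mem_bot]
      change r • (Ideal.Quotient.mk D b) = 0 ↔ _
      rw [← Ideal.Quotient.mk_eq_mk, ← Submodule.Quotient.mk_smul, Ideal.Quotient.mk_eq_mk,
        Ideal.Quotient.eq_zero_iff_mem, smul_eq_mul]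
      change ι (r * b) * x ∈ Set.range ι ↔ _
      rw [map_mul, mul_assoc]
    -- a nonzero element of `P`
    obtain ⟨n, d, hd, hxd⟩ := IsFractionRing.div_surjective (A := A) x
    have hd0 : d ≠ 0 := nonZeroDivisors.ne_zero hd
    have hιd : ι d ≠ 0 := fun h => hd0 (hinj (by rw [h, map_zero]))
    have hdP : d ∈ P := by
      rw [hPmem]
      refine ⟨b * n, ?_⟩
      rw [hy, ← hxd, map_mul, ← hι, mul_left_comm, mul_div_cancel₀ _ hιd]
    obtain ⟨c, hc⟩ := (hPmem d).mp hdP
    -- `P` is associated to `A/(d)`
    have hPass : P ∈ associatedPrimes A (A ⧸ Ideal.span {d}) := by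
      rw [AssociatedPrimes.mem_iff, isAssociatedPrime_iff]
      refine ⟨hPp, Ideal.Quotient.mk _ c, ?_⟩
      ext r
      rw [hPmem, Submodule.mem_colon_singleton, Submodule.mem_bot]
      change _ ↔ r • (Ideal.Quotient.mk (Ideal.span {d}) c) = 0
      rw [← Ideal.Quotient.mk_eq_mk, ← Submodule.Quotient.mk_smul, Ideal.Quotient.mk_eq_mk,
        Ideal.Quotient.eq_zero_iff_mem, smul_eq_mul, Ideal.mem_span_singleton']
      constructor
      · rintro ⟨t, ht⟩
        refine ⟨t, hinj ?_⟩
        rw [map_mul, map_mul, hc, ht]
        ring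
      · rintro ⟨t, ht⟩
        refine ⟨t, ?_⟩
        have h1 : ι t * ι d = ι r * (ι d * y) := by rw [← map_mul, ht, map_mul, hc]
        have h2 : ι d * ι t = ι d * (ι r * y) := by rw [mul_comm, h1]; ring
        exact mul_left_cancel₀ hιd h2
    have hreg : IsSMulRegular A d := (IsRegular.of_ne_zero hd0).isSMulRegular
    obtain ⟨h1, -⟩ := localization_quotient_span_singleton_add_one P hdP hreg
    rw [(depth_localization_eq_zero_iff (M := A ⧸ Ideal.span {d}) P).mpr hPass, zero_add] at h1
    obtain ⟨w, hw⟩ := hx P hPq h1.symm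
    obtain ⟨n', s, rfl⟩ := IsLocalization.exists_mk'_eq P.primeCompl w
    have hs : ι s * x = ι n' := by
      rw [← hw, hι, IsScalarTower.algebraMap_apply A (Localization.AtPrime P) (FractionRing A),
        IsScalarTower.algebraMap_apply A (Localization.AtPrime P) (FractionRing A), ← map_mul,
        IsLocalization.mk'_spec']
    have hsP : (s : A) ∈ P := by
      rw [hPmem]
      refine ⟨b * n', ?_⟩
      rw [hy, map_mul, ← hs]
      ring
    exact s.2 hsP
  · obtain ⟨s, hsD, hsq⟩ := SetLike.not_le_iff_exists.mp hDq
    obtain ⟨u, hu⟩ := hsD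
    have hs0 : ι s ≠ 0 := by
      intro h
      have : s = 0 := hinj (by rw [h, map_zero])
      exact hsq (this ▸ q.zero_mem)
    refine ⟨IsLocalization.mk' (Localization.AtPrime q) u (⟨s, hsq⟩ : q.primeCompl), ?_⟩
    apply mul_left_cancel₀ hs0
    rw [← hu, hι, IsScalarTower.algebraMap_apply A (Localization.AtPrime q) (FractionRing A),
      IsScalarTower.algebraMap_apply A (Localization.AtPrime q) (FractionRing A), ← map_mul,
      IsLocalization.mk'_spec' (Localization.AtPrime q) u (⟨s, hsq⟩ : q.primeCompl)]

/-- If all the depth-one generizations of `q` have integrally closed local rings, then `A_q` is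
integrally closed. -/
theorem isIntegrallyClosed_localization_of_forall_depth_one (q : Ideal A) [hq : q.IsPrime]
    (h : ∀ (P : Ideal A) [P.IsPrime], P ≤ q →
      LocCoh.depth (Localization.AtPrime P) (Localization.AtPrime P) = 1 →
        IsIntegrallyClosed (Localization.AtPrime P)) :
    IsIntegrallyClosed (Localization.AtPrime q) := by
  rw [isIntegrallyClosed_iff (FractionRing A)]
  intro x hx
  apply mem_range_localization_of_forall_depth_one q x
  intro P _ hPq hdepth
  haveI := h P hPq hdepth
  obtain ⟨⟨s, hs⟩, hint⟩ :=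
    IsIntegral.exists_multiple_integral_of_isLocalization q.primeCompl x hx
  have hsP : s ∈ P.primeCompl := fun hsP => hs (hPq hsP)
  have hint' : IsIntegral (Localization.AtPrime P) (algebraMap A (FractionRing A) s * x) := by
    have : algebraMap A (FractionRing A) s * x = (⟨s, hs⟩ : q.primeCompl) • x := by
      rw [Submonoid.smul_def, Algebra.smul_def]
    rw [this]
    exact hint.tower_top
  obtain ⟨w, hw⟩ := IsIntegrallyClosed.algebraMap_eq_of_integral hint'
  have hunit : IsUnit (algebraMap A (Localization.AtPrime P) s) :=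
    IsLocalization.map_units (Localization.AtPrime P) (⟨s, hsP⟩ : P.primeCompl)
  refine ⟨↑hunit.unit⁻¹ * w, ?_⟩
  have hs0 : algebraMap A (FractionRing A) s ≠ 0 := by
    intro h0
    have : s = 0 := IsFractionRing.injective A (FractionRing A) (by rw [h0, map_zero])
    exact hs (this ▸ q.zero_mem)
  apply mul_left_cancel₀ hs0
  rw [← hw, IsScalarTower.algebraMap_apply A (Localization.AtPrime P) (FractionRing A), ← map_mul,
    ← mul_assoc, IsUnit.mul_val_inv, one_mul]

end DepthOne

section Transport

/-- being a normal domain -/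
def IsNormalDomain (R : Type u) [CommRing R] : Prop := IsDomain R ∧ IsIntegrallyClosed R

theorem IsNormalDomain.of_ringEquiv {R S : Type u} [CommRing R] [CommRing S] (e : R ≃+* S)
    (h : IsNormalDomain R) : IsNormalDomain S := by
  obtain ⟨h1, h2⟩ := h
  exact ⟨e.toMulEquiv.isDomain_iff.mp h1, IsIntegrallyClosed.of_equiv e⟩

/-- the normal locus, as a plain set -/
def nor (A : Type u) [CommRing A] : Set (PrimeSpectrum A) :=
  {p | IsNormalDomain (Localization.AtPrime p.asIdeal)}

variable {A : Type u} [CommRing A]

theorem isNormalDomain_localization_iff (M : Submonoid A) (q' : Ideal (Localization M))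
    [q'.IsPrime] :
    IsNormalDomain (Localization.AtPrime q') ↔
      IsNormalDomain (Localization.AtPrime (q'.comap (algebraMap A (Localization M)))) :=
  ⟨fun h => h.of_ringEquiv
    (IsLocalization.localizationLocalizationAtPrimeIsoLocalization M q').toRingEquiv.symm,
   fun h => h.of_ringEquiv
    (IsLocalization.localizationLocalizationAtPrimeIsoLocalization M q').toRingEquiv⟩

theorem isRegularLocalRing_localization_iff (M : Submonoid A) (q' : Ideal (Localization M))
    [q'.IsPrime] :
    IsRegularLocalRing (Localization.AtPrime q') ↔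
      IsRegularLocalRing (Localization.AtPrime (q'.comap (algebraMap A (Localization M)))) :=
  ⟨fun _ => IsRegularLocalRing.of_ringEquiv
    (IsLocalization.localizationLocalizationAtPrimeIsoLocalization M q').toRingEquiv.symm,
   fun _ => IsRegularLocalRing.of_ringEquiv
    (IsLocalization.localizationLocalizationAtPrimeIsoLocalization M q').toRingEquiv⟩

theorem isNormalDomain_congr_ideal {q1 q2 : Ideal A} [q1.IsPrime] [q2.IsPrime] (h : q1 = q2) :
    IsNormalDomain (Localization.AtPrime q1) ↔ IsNormalDomain (Localization.AtPrime q2) := by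
  subst h; rfl

/-- a localization of a normal domain at a prime is a normal domain -/
theorem IsNormalDomain.localization {R : Type u} [CommRing R] (h : IsNormalDomain R)
    (P : Ideal R) [P.IsPrime] : IsNormalDomain (Localization.AtPrime P) := by
  obtain ⟨h1, h2⟩ := h
  have hle : P.primeCompl ≤ nonZeroDivisors R := by
    intro x hx
    exact mem_nonZeroDivisors_of_ne_zero (fun h0 => hx (h0 ▸ P.zero_mem))
  exact ⟨IsLocalization.isDomain_localization hle,
    isIntegrallyClosed_of_isLocalization (Localization.AtPrime P) P.primeCompl hle⟩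

/-- normality is stable under generization -/
theorem isNormalDomain_of_le {p q : Ideal A} [p.IsPrime] [q.IsPrime] (hqp : q ≤ p)
    (h : IsNormalDomain (Localization.AtPrime p)) : IsNormalDomain (Localization.AtPrime q) := by
  obtain ⟨hprime, hcomap⟩ := Groth.Agent.S2623.isPrime_map_and_comap_map_of_le p hqp
  haveI := hprime
  have h1 := h.localization (q.map (algebraMap A (Localization.AtPrime p)))
  rw [isNormalDomain_localization_iff p.primeCompl] at h1
  exact (isNormalDomain_congr_ideal hcomap).mp h1

theorem stableUnderGeneralization_nor (A : Type u) [CommRing A] :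
    StableUnderGeneralization (nor A) := by
  intro x y hyx hx
  have hle : y.asIdeal ≤ x.asIdeal := (PrimeSpectrum.le_iff_specializes y x).mpr hyx
  exact isNormalDomain_of_le hle hx

/-- a regular local ring is a normal domain -/
theorem isNormalDomain_of_isRegularLocalRing (R : Type u) [CommRing R] [IsRegularLocalRing R] :
    IsNormalDomain R :=
  ⟨Groth.Agent.Lib.Helper5.isDomain_of_isRegularLocalRing R,
    isIntegrallyClosed_of_isRegularLocalRing R⟩

theorem reg_subset_nor (A : Type u) [CommRing A] : reg A ⊆ nor A := by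
  intro p hp
  haveI : IsRegularLocalRing (Localization.AtPrime p.asIdeal) := hp
  exact isNormalDomain_of_isRegularLocalRing _

end Transport

section DomainCase

variable {B : Type u} [CommRing B] [IsDomain B] [IsNoetherianRing B]

/-- the key step: in a Noetherian domain with open regular locus, a normal point has a basic open
neighbourhood in its closure consisting of normal points. -/
theorem exists_basicOpen_nor (hreg : IsOpen (reg B)) (p' : Ideal B) [hp'prime : p'.IsPrime]
    (hp' : IsNormalDomain (Localization.AtPrime p')) :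
    ∃ g : B, g ∉ p' ∧ ∀ (q : Ideal B) [q.IsPrime], p' ≤ q → g ∉ q →
      IsNormalDomain (Localization.AtPrime q) := by
  classical
  by_cases hpreg : (⟨p', hp'prime⟩ : PrimeSpectrum B) ∈ reg B
  · obtain ⟨_, ⟨_, ⟨g, rfl⟩, rfl⟩, hpg, hg⟩ :=
      isBasis_basic_opens.exists_subset_of_mem_open hpreg hreg
    refine ⟨g, hpg, fun q hq _ hgq => ?_⟩
    exact reg_subset_nor B (hg (show (⟨q, hq⟩ : PrimeSpectrum B) ∈ _ from hgq))
  · obtain ⟨I, hI⟩ := (PrimeSpectrum.isClosed_iff_zeroLocus_ideal _).mp hreg.isClosed_compl
    obtain ⟨a, haI, ha0⟩ : ∃ a ∈ I, a ≠ 0 := by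
      by_contra hcon
      push_neg at hcon
      have hmem : (⟨⊥, Ideal.isPrime_bot⟩ : PrimeSpectrum B) ∈ zeroLocus (I : Set B) := by
        intro z hz
        rw [hcon z hz]
        exact Ideal.zero_mem _
      rw [← hI] at hmem
      exact hmem (bot_mem_reg B)
    have hmemI : ∀ (P : Ideal B) [hP : P.IsPrime], (⟨P, hP⟩ : PrimeSpectrum B) ∉ reg B → a ∈ P := by
      intro P hP hPreg
      have : (⟨P, hP⟩ : PrimeSpectrum B) ∈ zeroLocus (I : Set B) := by
        rw [← hI]; exact hPreg
      exact this haI
    have hfin : (associatedPrimes B (B ⧸ Ideal.span {a})).Finite := associatedPrimes.finite B _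
    let 𝒬 : Finset (Ideal B) := hfin.toFinset.filter (fun Q => ¬ Q ≤ p')
    have hex : ∀ Q ∈ 𝒬, ∃ x, x ∈ Q ∧ x ∉ p' := by
      intro Q hQ
      rw [Finset.mem_filter] at hQ
      exact SetLike.not_le_iff_exists.mp hQ.2
    choose! x hxQ hxp using hex
    refine ⟨∏ Q ∈ 𝒬, x Q, ?_, ?_⟩
    · intro hmem
      obtain ⟨Q, hQ, h⟩ := (Ideal.IsPrime.prod_mem_iff).mp hmem
      exact hxp Q hQ h
    · intro q hq hpq hgq
      have hle : q.primeCompl ≤ nonZeroDivisors B := by
        intro z hz
        exact mem_nonZeroDivisors_of_ne_zero (fun h0 => hz (h0 ▸ q.zero_mem))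
      refine ⟨IsLocalization.isDomain_localization hle,
        isIntegrallyClosed_localization_of_forall_depth_one q ?_⟩
      intro P hP hPq hdepth
      by_cases hPreg : (⟨P, hP⟩ : PrimeSpectrum B) ∈ reg B
      · exact (reg_subset_nor B hPreg).2
      · have haP : a ∈ P := hmemI P hPreg
        have hsreg : IsSMulRegular B a := (IsRegular.of_ne_zero ha0).isSMulRegular
        obtain ⟨h1, -⟩ := localization_quotient_span_singleton_add_one P haP hsreg
        rw [hdepth] at h1
        have h0 : LocCoh.depth (Localization.AtPrime P)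
            (LocalizedModule P.primeCompl (B ⧸ Ideal.span {a})) = 0 := by
          apply ENat.add_left_injective_of_ne_top (n := 1) (by simp)
          show _ + 1 = 0 + 1
          rw [h1, zero_add]
        have hPass := (depth_localization_eq_zero_iff (M := B ⧸ Ideal.span {a}) P).mp h0
        have hPp' : P ≤ p' := by
          by_contra hcon
          have hP𝒬 : P ∈ 𝒬 := by
            rw [Finset.mem_filter, Set.Finite.mem_toFinset]
            exact ⟨hPass, hcon⟩
          apply hgq
          obtain ⟨c, hc⟩ := Finset.dvd_prod_of_mem x hP𝒬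
          rw [hc]
          exact Ideal.mul_mem_right _ _ (hPq (hxQ P hP𝒬))
        exact (isNormalDomain_of_le hPp' hp').2

end DomainCase

section General

variable {A : Type u} [CommRing A] [IsNoetherianRing A]

/-- if `A_p` is a domain there is `f ∉ p` with `A_f` a domain -/
theorem exists_away_isDomain (p : Ideal A) [hp : p.IsPrime] [IsDomain (Localization.AtPrime p)] :
    ∃ f : A, f ∉ p ∧ IsDomain (Localization.Away f) := by
  classical
  have hKfg : (RingHom.ker (algebraMap A (Localization.AtPrime p))).FG :=
    IsNoetherian.noetherian _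
  have hkill : ∀ x ∈ RingHom.ker (algebraMap A (Localization.AtPrime p)),
      ∃ s : A, s ∉ p ∧ s * x = 0 := by
    intro x hx
    rw [RingHom.mem_ker, IsLocalization.map_eq_zero_iff p.primeCompl] at hx
    obtain ⟨⟨s, hs⟩, hsx⟩ := hx
    exact ⟨s, hs, hsx⟩
  have hf : ∃ f : A, f ∉ p ∧
      ∀ x ∈ RingHom.ker (algebraMap A (Localization.AtPrime p)), f * x = 0 := by
    obtain ⟨G, hG⟩ := hKfg
    have hex : ∀ g ∈ G, ∃ s : A, s ∉ p ∧ s * g = 0 :=
      fun g hg => hkill g (hG ▸ Ideal.subset_span hg)
    choose! s hsp hsg using hex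
    refine ⟨∏ g ∈ G, s g, ?_, ?_⟩
    · intro hmem
      obtain ⟨g, hg, h⟩ := (Ideal.IsPrime.prod_mem_iff).mp hmem
      exact hsp g hg h
    · intro x hx
      rw [← hG] at hx
      refine Submodule.span_induction (p := fun x _ => (∏ g ∈ G, s g) * x = 0) ?_ ?_ ?_ ?_ hx
      · intro g hg
        obtain ⟨c, hc⟩ := Finset.dvd_prod_of_mem s hg
        rw [hc, mul_comm (s g) c, mul_assoc, hsg g hg, mul_zero]
      · rw [mul_zero]
      · intro a b _ _ ha hb
        rw [mul_add, ha, hb, add_zero]
      · intro c a _ ha
        rw [smul_eq_mul, mul_left_comm, ha, mul_zero]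
  obtain ⟨f, hfp, hfK⟩ := hf
  refine ⟨f, hfp, ?_⟩
  have hunit : IsUnit (algebraMap A (Localization.AtPrime p) f) :=
    IsLocalization.map_units _ (⟨f, hfp⟩ : p.primeCompl)
  let φ : Localization.Away f →+* Localization.AtPrime p := IsLocalization.Away.lift f hunit
  have hφinj : Function.Injective φ := by
    rw [injective_iff_map_eq_zero]
    intro b hb
    obtain ⟨a, ⟨_, n, rfl⟩, rfl⟩ := IsLocalization.exists_mk'_eq (Submonoid.powers f) b
    have ha : algebraMap A (Localization.AtPrime p) a = 0 := by
      have h1 := IsLocalization.mk'_spec (Localization.Away f) a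
        (⟨f ^ n, n, rfl⟩ : Submonoid.powers f)
      have h2 := congrArg φ h1
      rw [map_mul, hb, zero_mul, IsLocalization.Away.lift_eq] at h2
      exact h2.symm
    have hfa : f * a = 0 := hfK a ha
    rw [IsLocalization.mk'_eq_zero_iff]
    exact ⟨⟨f, 1, pow_one f⟩, hfa⟩
  haveI : Nontrivial (Localization.Away f) := φ.domain_nontrivial
  exact hφinj.isDomain φ

/-- **EGA IV 6.13.?**: over a Noetherian ring, if the regular locus is open then so is the normal
locus. -/
theorem isOpen_nor (hreg : IsOpen (reg A)) : IsOpen (nor A) := by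
  apply isOpen_of_nagata (nor A) (stableUnderGeneralization_nor A)
  intro p hp
  haveI : IsDomain (Localization.AtPrime p.asIdeal) := hp.1
  obtain ⟨f, hfp, hdom⟩ := exists_away_isDomain p.asIdeal
  haveI := hdom
  haveI : IsNoetherianRing (Localization.Away f) :=
    IsLocalization.isNoetherianRing (.powers f) _ inferInstance
  have hemb : Topology.IsOpenEmbedding
      (PrimeSpectrum.comap (algebraMap A (Localization.Away f))) :=
    PrimeSpectrum.localization_away_isOpenEmbedding (Localization.Away f) f
  have hregB : IsOpen (reg (Localization.Away f)) := by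
    have : reg (Localization.Away f) =
        PrimeSpectrum.comap (algebraMap A (Localization.Away f)) ⁻¹' reg A := by
      ext q'
      exact isRegularLocalRing_localization_iff (Submonoid.powers f) q'.asIdeal
    rw [this]
    exact hreg.preimage hemb.continuous
  have disj : Disjoint (Submonoid.powers f : Set A) (p.asIdeal : Set A) :=
    (Ideal.disjoint_powers_iff_notMem_of_isPrime _).mpr hfp
  haveI hp'prime : (p.asIdeal.map (algebraMap A (Localization.Away f))).IsPrime :=
    IsLocalization.isPrime_of_isPrime_disjoint (.powers f) _ _ p.2 disj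
  have hcomap : (p.asIdeal.map (algebraMap A (Localization.Away f))).comap
      (algebraMap A (Localization.Away f)) = p.asIdeal :=
    IsLocalization.comap_map_of_isPrime_disjoint (.powers f) _ p.2 disj
  have hp'nor : IsNormalDomain
      (Localization.AtPrime (p.asIdeal.map (algebraMap A (Localization.Away f)))) := by
    rw [isNormalDomain_localization_iff (Submonoid.powers f)]
    exact (isNormalDomain_congr_ideal hcomap).mpr hp
  obtain ⟨g, hgp', hg⟩ := exists_basicOpen_nor hregB _ hp'nor
  refine ⟨PrimeSpectrum.comap (algebraMap A (Localization.Away f)) ''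
    (PrimeSpectrum.basicOpen g : Set _), hemb.isOpenMap _ (PrimeSpectrum.basicOpen g).isOpen,
    ?_, ?_⟩
  · refine ⟨p, ⟨⟨_, hp'prime⟩, hgp', PrimeSpectrum.ext hcomap⟩, ?_⟩
    exact fun x hx => hx
  · rintro _ ⟨⟨q', hq'g, rfl⟩, hq'V⟩
    have hle : p.asIdeal.map (algebraMap A (Localization.Away f)) ≤ q'.asIdeal :=
      Ideal.map_le_iff_le_comap.mpr hq'V
    have := hg q'.asIdeal hle hq'g
    exact (isNormalDomain_localization_iff (Submonoid.powers f) q'.asIdeal).mp this

end General

end Groth.Agent.Lib.Helper7.NorOpen
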