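import Mathlib
import Groth.Prelude.Def_Found
import Groth.Agent.Lib.Helper4Japanese
import Groth.Agent.Lib.Helper14Japanese
import Groth.Agent.Lib.Helper7QE

set_option autoImplicit false
set_option linter.style.haveILetI false
universe u

namespace Groth.Agent.Lib.Helper7.Nag

open TensorProduct Groth CAlg

/-- A Noetherian domain is N-2 as soon as all its finite extension domains with purely inseparable
fraction field extension are N-1. -/
theorem isN2_of_forall_pinsep_isN1 (B : Type u) [CommRing B] [IsDomain B] [IsNoetherianRing B]
    (h : ∀ (K' : Type u) [Field K'] [Algebra B K'] [Algebra (FractionRing B) K']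
      [IsScalarTower B (FractionRing B) K'] [FiniteDimensional (FractionRing B) K']
      [IsPurelyInseparable (FractionRing B) K'] (B' : Subalgebra B K'),
      Module.Finite B B' → IsFractionRing B' K' → IsN1 B') : IsN2 B := by
  intro L _ _ _ _ hfd
  refine Groth.Agent.Lib.Helper4.Japanese.finite_integralClosure_of_purelyInseparable B
    (FractionRing B) ?_ L
  intro K' _ _ _ _ hfd' hpi
  obtain ⟨s, b, hb⟩ := FiniteDimensional.exists_is_basis_integral B (FractionRing B) K'
  let S' : Subalgebra B K' := Algebra.adjoin B (Set.range b)
  haveI hfin : Module.Finite B S' := by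
    refine (Module.Finite.iff_fg (N := Subalgebra.toSubmodule S')).mpr ?_
    exact fg_adjoin_of_finite (Set.finite_range b) (by rintro _ ⟨i, rfl⟩; exact hb i)
  haveI hfr : IsFractionRing S' K' := by
    refine Groth.Agent.Lib.Helper14.isFractionRing_subalgebra_of_span_eq_top B
      (FractionRing B) K' S' ?_
    rw [_root_.eq_top_iff, ← b.span_eq]
    exact Submodule.span_mono Algebra.subset_adjoin
  have hN1 : IsN1 S' := h K' S' hfin hfr
  have h1 : Module.Finite S' (integralClosure S' K') :=
    (Groth.Agent.Lib.Helper14.isN1_iff_of_isFractionRing S' K').mp hN1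
  exact Groth.Agent.Lib.Helper14.finite_integralClosure_of_finite_tower B S' K' h1

/-- Finite extension domains (inside a finite field extension) of an N-2 domain are N-1. -/
theorem isN1_subalgebra_of_isN2 (B : Type u) [CommRing B] [IsDomain B] [IsNoetherianRing B]
    (hB : IsN2 B) (K' : Type u) [Field K'] [Algebra B K'] [Algebra (FractionRing B) K']
    [IsScalarTower B (FractionRing B) K'] [FiniteDimensional (FractionRing B) K']
    (B' : Subalgebra B K') (hfin : Module.Finite B B') (hfr : IsFractionRing B' K') : IsN1 B' := by
  rw [Groth.Agent.Lib.Helper14.isN1_iff_of_isFractionRing B' K']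
  have h0 : Module.Finite B (integralClosure B K') := hB K' inferInstance
  haveI : IsNoetherian B (integralClosure B K') := isNoetherian_of_isNoetherianRing_of_finite B _
  haveI : Algebra.IsIntegral B B' := Algebra.IsIntegral.of_finite B B'
  let g : integralClosure B' K' →ₗ[B] integralClosure B K' :=
    { toFun := fun x => ⟨x.1, isIntegral_trans (R := B) (A := B') x.1 x.2⟩
      map_add' := fun x y => rfl
      map_smul' := fun b x => rfl }
  have hg : Function.Injective g := by
    intro x y hxy
    have h2 : ((g x : integralClosure B K') : K') = (g y : integralClosure B K') :=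
      congrArg Subtype.val hxy
    exact Subtype.ext h2
  haveI : Module.Finite B (integralClosure B' K') := Module.Finite.of_injective g hg
  exact Module.Finite.of_restrictScalars_finite B B' _

/-- If all local rings of `A` at maximal ideals are Nagata, the local rings at maximal ideals
of a finite `A`-algebra domain are N-2. -/
theorem isN2_localization_of_finite (A : Type u) [CommRing A] [IsNoetherianRing A]
    (h1 : ∀ (m : Ideal A) [m.IsMaximal] (P : Ideal (Localization.AtPrime m)) [P.IsPrime],
      IsN2 (Localization.AtPrime m ⧸ P))
    (C : Type u) [CommRing C] [IsDomain C] [Algebra A C] [Module.Finite A C]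
    (n : Ideal C) [n.IsMaximal] : IsN2 (Localization.AtPrime n) := by
  haveI : Algebra.IsIntegral A C := Algebra.IsIntegral.of_finite A C
  let m : Ideal A := n.comap (algebraMap A C)
  haveI hm : m.IsMaximal := Ideal.isMaximal_comap_of_isIntegral_of_isMaximal n
  have hNagAm : IsNagata (Localization.AtPrime m) := ⟨inferInstance, fun P hP => h1 m P⟩
  let Cm := Localization (Algebra.algebraMapSubmonoid C m.primeCompl)
  haveI : Module.Finite (Localization.AtPrime m) Cm :=
    Module.Finite.of_isLocalization A C m.primeCompl
  have hNagCm : IsNagata Cm :=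
    Groth.Agent.Lib.Helper7.QE.isNagata_of_finite (Localization.AtPrime m) Cm hNagAm
  have hle : Algebra.algebraMapSubmonoid C m.primeCompl ≤ n.primeCompl := by
    rintro _ ⟨a, ha, rfl⟩
    exact ha
  letI : Algebra Cm (Localization.AtPrime n) :=
    IsLocalization.localizationAlgebraOfSubmonoidLe Cm (Localization.AtPrime n)
      (Algebra.algebraMapSubmonoid C m.primeCompl) n.primeCompl hle
  haveI : IsScalarTower C Cm (Localization.AtPrime n) :=
    IsLocalization.localization_isScalarTower_of_submonoid_le Cm (Localization.AtPrime n)
      (Algebra.algebraMapSubmonoid C m.primeCompl) n.primeCompl hle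
  haveI : IsLocalization (n.primeCompl.map (algebraMap C Cm)) (Localization.AtPrime n) :=
    IsLocalization.isLocalization_of_submonoid_le Cm (Localization.AtPrime n)
      (Algebra.algebraMapSubmonoid C m.primeCompl) n.primeCompl hle
  have hNagCn : IsNagata (Localization.AtPrime n) :=
    Groth.Agent.Lib.Helper14.isNagata_of_isLocalization Cm (n.primeCompl.map (algebraMap C Cm))
      (Localization.AtPrime n) hNagCm
  have h2 := hNagCn.2 (⊥ : Ideal (Localization.AtPrime n))
  exact Groth.Agent.Lib.Helper14.isN2_of_ringEquiv (RingEquiv.quotientBot _) h2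

end Groth.Agent.Lib.Helper7.Nag
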