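import Mathlib
import Groth.Agent.Lib.Helper7PPow

/-!
Helper library (helper7): basic properties of `A[T]/(T^p - f)` over an Artinian local ring of
characteristic `p`.
-/

set_option autoImplicit false
set_option linter.style.haveILetI false
set_option linter.unusedSectionVars false
universe u
open Polynomial IsLocalRing

namespace Groth.Agent.Lib.Helper7.PRoot

/-- `A[T]/(T^p - f)` -/
abbrev PR (A : Type u) [CommRing A] (p : ℕ) (f : A) : Type u := AdjoinRoot (X ^ p - C f : A[X])

section Basic

variable {A : Type u} [CommRing A] (p : ℕ) [Fact p.Prime] (f : A)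

lemma monic : (X ^ p - C f : A[X]).Monic :=
  monic_X_pow_sub_C f (Fact.out : p.Prime).ne_zero

lemma of_injective [Nontrivial A] : Function.Injective (AdjoinRoot.of (X ^ p - C f : A[X])) := by
  rw [injective_iff_map_eq_zero]
  intro a ha
  by_contra hne
  have h1 : (C a : A[X]) ≠ 0 := fun h => hne (C_eq_zero.1 h)
  have h2 : degree (C a : A[X]) < degree (X ^ p - C f : A[X]) := by
    rw [degree_C hne, degree_X_pow_sub_C (Fact.out : p.Prime).pos]
    exact_mod_cast (Fact.out : p.Prime).pos
  exact AdjoinRoot.mk_ne_zero_of_degree_lt (monic p f) h1 h2 (by rw [AdjoinRoot.mk_C]; exact ha)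

instance nontrivial [Nontrivial A] : Nontrivial (PR A p f) :=
  (of_injective p f).nontrivial

instance charP [Nontrivial A] [CharP A p] : CharP (PR A p f) p :=
  charP_of_injective_ringHom (of_injective p f) p

instance finite : Module.Finite A (PR A p f) := (monic p f).finite_adjoinRoot

instance isArtinianRing [IsArtinianRing A] : IsArtinianRing (PR A p f) :=
  IsArtinianRing.of_finite A _

lemma root_pow : (AdjoinRoot.root (X ^ p - C f : A[X])) ^ p = AdjoinRoot.of _ f := by
  have h := AdjoinRoot.eval₂_root (X ^ p - C f : A[X])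
  rw [eval₂_sub, eval₂_pow, eval₂_X, eval₂_C, sub_eq_zero] at h
  exact h

/-- every `p`-th power lies in (the image of) `A` -/
lemma pow_mem_range [Nontrivial A] [CharP A p] (b : PR A p f) :
    ∃ a : A, AdjoinRoot.of _ a = b ^ p := by
  have hb : b ∈ Algebra.adjoin A ({AdjoinRoot.root (X ^ p - C f : A[X])} : Set (PR A p f)) := by
    rw [AdjoinRoot.adjoinRoot_eq_top]; trivial
  induction hb using Algebra.adjoin_induction with
  | mem x hx =>
    rw [Set.mem_singleton_iff] at hx
    subst hx
    exact ⟨f, (root_pow p f).symm⟩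
  | algebraMap r => exact ⟨r ^ p, by rw [map_pow]; rfl⟩
  | add x y _ _ hx hy =>
    obtain ⟨a, ha⟩ := hx
    obtain ⟨a', ha'⟩ := hy
    exact ⟨a + a', by rw [map_add, ha, ha', add_pow_char]⟩
  | mul x y _ _ hx hy =>
    obtain ⟨a, ha⟩ := hx
    obtain ⟨a', ha'⟩ := hy
    exact ⟨a * a', by rw [map_mul, ha, ha', mul_pow]⟩

end Basic

section Local

variable {A : Type u} [CommRing A] [IsLocalRing A] [IsArtinianRing A] (p : ℕ) [Fact p.Prime]
  [CharP A p] (f : A)

omit [Fact p.Prime] [CharP A p] in
lemma isNilpotent_of_mem_maximalIdeal {a : A} (ha : a ∈ maximalIdeal A) : IsNilpotent a := by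
  obtain ⟨n, hn⟩ := IsArtinianRing.isNilpotent_jacobson_bot (R := A)
  rw [IsLocalRing.jacobson_eq_maximalIdeal _ bot_ne_top] at hn
  refine ⟨n, ?_⟩
  have := Ideal.pow_mem_pow ha n
  rw [hn] at this
  exact this

omit [IsLocalRing A] [IsArtinianRing A] [Fact p.Prime] [CharP A p] in
lemma not_isUnit_of_isNilpotent {R : Type*} [CommRing R] [Nontrivial R] {x : R}
    (hx : IsNilpotent x) : ¬ IsUnit x := by
  intro hu
  obtain ⟨n, hn⟩ := hx
  have := hu.pow n
  rw [hn] at this
  exact not_isUnit_zero this

lemma nonunit_iff (b : PR A p f) :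
    ¬ IsUnit b ↔ ∃ a ∈ maximalIdeal A, AdjoinRoot.of _ a = b ^ p := by
  have hp : p.Prime := Fact.out
  constructor
  · intro hb
    obtain ⟨a, ha⟩ := pow_mem_range p f b
    refine ⟨a, ?_, ha⟩
    by_contra hna
    have hua : IsUnit a := by
      by_contra h
      exact hna h
    have : IsUnit (b ^ p) := by rw [← ha]; exact hua.map _
    exact hb ((isUnit_pow_iff hp.ne_zero).1 this)
  · rintro ⟨a, ha, hab⟩
    have h1 : IsNilpotent (b ^ p) := by
      rw [← hab]
      exact (isNilpotent_of_mem_maximalIdeal ha).map _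
    have h2 : IsNilpotent b := h1.of_pow
    exact not_isUnit_of_isNilpotent h2

instance isLocalRing : IsLocalRing (PR A p f) := by
  apply IsLocalRing.of_nonunits_add
  intro b b' hb hb'
  rw [mem_nonunits_iff] at hb hb' ⊢
  rw [nonunit_iff] at hb hb' ⊢
  obtain ⟨a, ha, hab⟩ := hb
  obtain ⟨a', ha', hab'⟩ := hb'
  exact ⟨a + a', add_mem ha ha', by rw [map_add, hab, hab', add_pow_char]⟩

instance isLocalHom : IsLocalHom (algebraMap A (PR A p f)) := by
  constructor
  intro a ha
  by_contra hna
  have h1 : IsNilpotent a := isNilpotent_of_mem_maximalIdeal hna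
  exact not_isUnit_of_isNilpotent (h1.map (algebraMap A (PR A p f))) ha

lemma mem_maximalIdeal_iff_isNilpotent {R : Type*} [CommRing R] [IsLocalRing R]
    [IsArtinianRing R] (x : R) : x ∈ maximalIdeal R ↔ IsNilpotent x :=
  ⟨fun h => isNilpotent_of_mem_maximalIdeal h, fun h => not_isUnit_of_isNilpotent h⟩

end Local

end Groth.Agent.Lib.Helper7.PRoot
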