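import Mathlib
import Groth.Agent.Lib.Helper7PPow

/-!
Helper library (helper7): derivation tools for `K ⊗_A Ω_{A/ℤ}`:
functionals from derivations, duality with linear independence, extension of derivations to
`A[T]/(T^p - f)` in characteristic `p`, and lower bounds for the embedding dimension.
-/

set_option autoImplicit false
set_option linter.style.haveILetI false
set_option linter.unusedSectionVars false
universe u v
open TensorProduct KaehlerDifferential Polynomial

namespace Groth.Agent.Lib.Helper7.PRootDer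

section Func

variable {A : Type u} [CommRing A] {K : Type u} [Field K] [Algebra A K]
  {F : Type v} [AddCommGroup F] [Module K F] [Module A F] [IsScalarTower A K F]

/-- the functional on `K ⊗ Ω_A` defined by a derivation into a `K`-vector space -/
noncomputable def derFunc (d : Derivation ℤ A F) : K ⊗[A] Ω[A⁄ℤ] →ₗ[K] F :=
  LinearMap.liftBaseChange K d.liftKaehlerDifferential

lemma derFunc_tmul (d : Derivation ℤ A F) (c : K) (a : A) :
    derFunc d (c ⊗ₜ[A] D ℤ A a) = c • d a := by
  rw [derFunc, LinearMap.liftBaseChange_tmul, Derivation.liftKaehlerDifferential_comp_D]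

/-- the universal derivation into `K ⊗ Ω_A` -/
noncomputable def univDer (A : Type u) [CommRing A] (K : Type u) [Field K] [Algebra A K] :
    Derivation ℤ A (K ⊗[A] Ω[A⁄ℤ]) :=
  (TensorProduct.mk A K (Ω[A⁄ℤ]) 1).compDer (D ℤ A)

lemma univDer_apply (a : A) : univDer A K a = (1 : K) ⊗ₜ[A] D ℤ A a := rfl

/-- (DUAL ⇒) dual derivations of a linearly independent family of differentials -/
theorem exists_derivation_of_linearIndependent {ι : Type*} (g : ι → A)
    (hli : LinearIndependent K (fun i => (1 : K) ⊗ₜ[A] D ℤ A (g i))) (j : ι) :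
    ∃ d : Derivation ℤ A K, d (g j) = 1 ∧ ∀ i, i ≠ j → d (g i) = 0 := by
  classical
  set w : ι → K ⊗[A] Ω[A⁄ℤ] := fun i => (1 : K) ⊗ₜ[A] D ℤ A (g i) with hw
  let φ₀ : Submodule.span K (Set.range w) →ₗ[K] K :=
    (Finsupp.lapply j).comp hli.repr
  obtain ⟨φ, hφ⟩ := LinearMap.exists_extend φ₀
  have hφw : ∀ i, φ (w i) = if i = j then 1 else 0 := by
    intro i
    have h1 : φ (w i) = φ₀ ⟨w i, Submodule.subset_span ⟨i, rfl⟩⟩ := by
      rw [← hφ]; rfl
    rw [h1]
    change (hli.repr ⟨w i, _⟩) j = _
    rw [hli.repr_eq_single i ⟨w i, Submodule.subset_span ⟨i, rfl⟩⟩ rfl, Finsupp.single_apply]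
  refine ⟨(φ.restrictScalars A).compDer (univDer A K), ?_, ?_⟩
  · change φ (w j) = 1
    rw [hφw, if_pos rfl]
  · intro i hi
    change φ (w i) = 0
    rw [hφw, if_neg hi]

/-- (DUAL ⇐) a family with dual derivations (into an extension field) has linearly independent
differentials -/
theorem linearIndependent_of_derivations {ι : Type*} (g : ι → A)
    {F : Type v} [Field F] [Algebra K F] [Algebra A F] [IsScalarTower A K F]
    (h : ∀ j, ∃ d : Derivation ℤ A F, d (g j) = 1 ∧ ∀ i, i ≠ j → d (g i) = 0) :
    LinearIndependent K (fun i => (1 : K) ⊗ₜ[A] D ℤ A (g i)) := by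
  classical
  rw [linearIndependent_iff']
  intro s c hc j hj
  obtain ⟨d, hd1, hd0⟩ := h j
  have h1 := congrArg (derFunc (K := K) d) hc
  rw [map_sum, map_zero] at h1
  have h2 : ∀ i ∈ s, derFunc (K := K) d (c i • (1 : K) ⊗ₜ[A] D ℤ A (g i)) =
      if i = j then algebraMap K F (c j) else 0 := by
    intro i _
    rw [map_smul, derFunc_tmul, one_smul]
    split_ifs with hij
    · subst hij
      rw [hd1, Algebra.smul_def, mul_one]
    · rw [hd0 i hij, smul_zero]
  rw [Finset.sum_congr rfl h2, Finset.sum_ite_eq' s j, if_pos hj] at h1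
  exact (map_eq_zero (algebraMap K F)).1 h1

end Func

section Ext

variable {A : Type u} [CommRing A] (p : ℕ) [Fact p.Prime] [CharP A p] (f : A)
  {F : Type v} [Field F] [Algebra (AdjoinRoot (X ^ p - C f : A[X])) F] [Algebra A F]
  [IsScalarTower A (AdjoinRoot (X ^ p - C f : A[X])) F]

omit [Fact p.Prime] [CharP A p] in
lemma root_pow : (AdjoinRoot.root (X ^ p - C f : A[X])) ^ p = AdjoinRoot.of _ f := by
  have h := AdjoinRoot.eval₂_root (X ^ p - C f : A[X])
  rw [eval₂_sub, eval₂_pow, eval₂_X, eval₂_C, sub_eq_zero] at h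
  exact h

/-- (EXT) a derivation `d : A → F` with `d f = 0` extends to `A[T]/(T^p - f)`, with a prescribed
value on the root -/
theorem exists_derivation_adjoinRoot (d : Derivation ℤ A F) (hd : d f = 0) (e : F) :
    ∃ d' : Derivation ℤ (AdjoinRoot (X ^ p - C f : A[X])) F,
      (∀ a, d' (AdjoinRoot.of _ a) = d a) ∧ d' (AdjoinRoot.root _) = e := by
  have hp : p.Prime := Fact.out
  have hpF : ((p : ℕ) : F) = 0 := by
    rw [← map_natCast (algebraMap A F), CharP.cast_eq_zero, map_zero]
  haveI : CharP (DualNumber F) p := by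
    apply Groth.Agent.Lib.Helper7.PPow.charP_of_cast_eq_zero
    rw [← TrivSqZeroExt.inl_natCast, hpF, TrivSqZeroExt.inl_zero]
  let i : A →+* DualNumber F :=
    { toFun := fun a => TrivSqZeroExt.inl (algebraMap A F a) + TrivSqZeroExt.inr (d a)
      map_one' := by
        rw [map_one, Derivation.map_one_eq_zero, TrivSqZeroExt.inr_zero, add_zero]
        rfl
      map_zero' := by
        rw [map_zero, map_zero, TrivSqZeroExt.inr_zero, add_zero, TrivSqZeroExt.inl_zero]
      map_add' := fun a b => by
        rw [map_add, map_add, TrivSqZeroExt.inl_add, TrivSqZeroExt.inr_add]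
        abel
      map_mul' := fun a b => by
        apply TrivSqZeroExt.ext
        · simp
        · simp only [TrivSqZeroExt.snd_add, TrivSqZeroExt.snd_inl, TrivSqZeroExt.snd_inr,
            TrivSqZeroExt.snd_mul, TrivSqZeroExt.fst_add, TrivSqZeroExt.fst_inl,
            TrivSqZeroExt.fst_inr, zero_add, add_zero, Derivation.leibniz, op_smul_eq_mul,
            smul_eq_mul]
          rw [Algebra.smul_def a, Algebra.smul_def b]
          ring }
  set B := AdjoinRoot (X ^ p - C f : A[X]) with hB
  set x : DualNumber F := TrivSqZeroExt.inl (algebraMap B F (AdjoinRoot.root _)) +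
    TrivSqZeroExt.inr e with hx
  have hinr : (TrivSqZeroExt.inr e : DualNumber F) ^ p = 0 := by
    obtain ⟨k, hk⟩ : ∃ k, p = k + 2 := ⟨p - 2, by have := hp.two_le; omega⟩
    rw [hk, pow_add, pow_two, TrivSqZeroExt.inr_mul_inr, mul_zero]
  have hxp : x ^ p = TrivSqZeroExt.inl (algebraMap A F f) := by
    rw [hx, add_pow_char, hinr, add_zero, TrivSqZeroExt.inl_pow, ← map_pow, root_pow,
      IsScalarTower.algebraMap_apply A B F]
    rfl
  have h : (X ^ p - C f : A[X]).eval₂ i x = 0 := by
    rw [eval₂_sub, eval₂_pow, eval₂_X, eval₂_C, hxp]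
    change _ - (TrivSqZeroExt.inl (algebraMap A F f) + TrivSqZeroExt.inr (d f)) = 0
    rw [hd, TrivSqZeroExt.inr_zero, add_zero, sub_self]
  let Φ : B →+* DualNumber F := AdjoinRoot.lift i x h
  have hΦof : ∀ a, Φ (AdjoinRoot.of _ a) = i a := fun a => AdjoinRoot.lift_of h
  have hΦroot : Φ (AdjoinRoot.root _) = x := AdjoinRoot.lift_root h
  have hfst : ∀ b : B, (Φ b).fst = algebraMap B F b := by
    have : ((TrivSqZeroExt.fstHom F F F : DualNumber F →ₐ[F] F) : DualNumber F →+* F).comp Φ =
        algebraMap B F := by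
      apply AdjoinRoot.ringHom_ext
      · ext a
        change (Φ (AdjoinRoot.of _ a)).fst = algebraMap B F (AdjoinRoot.of _ a)
        rw [hΦof]
        change (TrivSqZeroExt.inl (algebraMap A F a) + TrivSqZeroExt.inr (d a) :
          DualNumber F).fst = _
        rw [TrivSqZeroExt.fst_add, TrivSqZeroExt.fst_inl, TrivSqZeroExt.fst_inr, add_zero,
          IsScalarTower.algebraMap_apply A B F]
        rfl
      · change (Φ (AdjoinRoot.root _)).fst = algebraMap B F (AdjoinRoot.root _)
        rw [hΦroot, hx, TrivSqZeroExt.fst_add, TrivSqZeroExt.fst_inl, TrivSqZeroExt.fst_inr,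
          add_zero]
    intro b
    exact RingHom.congr_fun this b
  let L : B →ₗ[ℤ] F :=
    ((TrivSqZeroExt.sndHom F F : DualNumber F →ₗ[F] F).toAddMonoidHom.comp
      Φ.toAddMonoidHom).toIntLinearMap
  have hL : ∀ b, L b = (Φ b).snd := fun b => rfl
  refine ⟨Derivation.mk' L ?_, ?_, ?_⟩
  · intro a b
    rw [hL, hL, hL, map_mul, TrivSqZeroExt.snd_mul, hfst, hfst, op_smul_eq_mul, smul_eq_mul,
      Algebra.smul_def a, Algebra.smul_def b]
    ring
  · intro a
    change (Φ (AdjoinRoot.of _ a)).snd = d a
    rw [hΦof]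
    change (TrivSqZeroExt.inl (algebraMap A F a) + TrivSqZeroExt.inr (d a) : DualNumber F).snd = _
    rw [TrivSqZeroExt.snd_add, TrivSqZeroExt.snd_inl, TrivSqZeroExt.snd_inr, zero_add]
  · change (Φ (AdjoinRoot.root _)).snd = e
    rw [hΦroot, hx, TrivSqZeroExt.snd_add, TrivSqZeroExt.snd_inl, TrivSqZeroExt.snd_inr, zero_add]

end Ext

section LB

open IsLocalRing

variable {B : Type u} [CommRing B] [IsLocalRing B]

/-- derivations into the residue field kill `m²` -/
lemma derivation_sq_eq_zero (d : Derivation ℤ B (ResidueField B)) {x : B}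
    (hx : x ∈ maximalIdeal B ^ 2) : d x = 0 := by
  rw [pow_two] at hx
  refine Submodule.mul_induction_on hx ?_ ?_
  · intro a ha b hb
    rw [Derivation.leibniz, Algebra.smul_def, Algebra.smul_def, ResidueField.algebraMap_eq,
      (residue_eq_zero_iff a).2 ha, (residue_eq_zero_iff b).2 hb, zero_mul, zero_mul, add_zero]
  · intro a b ha hb
    rw [map_add, ha, hb, add_zero]

/-- (LB) elements of the maximal ideal with dual derivations are linearly independent in the
cotangent space -/
theorem linearIndependent_toCotangent_of_derivations {ι : Type*} (y : ι → maximalIdeal B)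
    (h : ∀ j, ∃ d : Derivation ℤ B (ResidueField B),
      d (y j : B) = 1 ∧ ∀ i, i ≠ j → d (y i : B) = 0) :
    LinearIndependent (ResidueField B) (fun i => (maximalIdeal B).toCotangent (y i)) := by
  classical
  rw [linearIndependent_iff']
  intro s c hc j hj
  obtain ⟨d, hd1, hd0⟩ := h j
  have hlift : ∀ i, ∃ b : B, residue B b = c i := fun i => residue_surjective (c i)
  choose b hb using hlift
  have h1 : (maximalIdeal B).toCotangent (∑ i ∈ s, b i • y i) = 0 := by
    rw [map_sum, ← hc]
    refine Finset.sum_congr rfl fun i _ => ?_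
    rw [map_smul, ← hb i]
    rfl
  rw [Ideal.toCotangent_eq_zero] at h1
  have h2 := derivation_sq_eq_zero d h1
  have h3 : ((∑ i ∈ s, b i • y i : maximalIdeal B) : B) = ∑ i ∈ s, b i * (y i : B) := by
    rw [AddSubmonoidClass.coe_finsetSum]
    exact Finset.sum_congr rfl fun i _ => rfl
  rw [h3, map_sum] at h2
  have h4 : ∀ i ∈ s, d (b i * (y i : B)) = if i = j then c j else 0 := by
    intro i _
    rw [Derivation.leibniz, Algebra.smul_def (y i : B), ResidueField.algebraMap_eq,
      (residue_eq_zero_iff _).2 (y i).2, zero_mul, add_zero]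
    split_ifs with hij
    · subst hij
      rw [hd1, Algebra.smul_def, mul_one, ResidueField.algebraMap_eq, hb]
    · rw [hd0 i hij, smul_zero]
  rw [Finset.sum_congr rfl h4, Finset.sum_ite_eq' s j, if_pos hj] at h2
  exact h2

theorem card_le_finrank_cotangentSpace [IsNoetherianRing B] {ι : Type*} [Fintype ι]
    (y : ι → maximalIdeal B)
    (h : ∀ j, ∃ d : Derivation ℤ B (ResidueField B),
      d (y j : B) = 1 ∧ ∀ i, i ≠ j → d (y i : B) = 0) :
    Fintype.card ι ≤ Module.finrank (ResidueField B) (CotangentSpace B) :=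
  (linearIndependent_toCotangent_of_derivations y h).fintype_card_le_finrank

end LB

end Groth.Agent.Lib.Helper7.PRootDer
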