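import Mathlib
import Groth.Agent.Lib.Helper19FSField
import Groth.Agent.Lib.Helper7PPow

/-!
Helper library (helper7): for a local ring of characteristic `p`, the conormal map
`m/m² → κ ⊗ Ω_{A/ℤ}` has a retraction; consequences for regular local rings.
-/

set_option autoImplicit false
set_option linter.style.haveILetI false
set_option linter.unusedSectionVars false
universe u
open IsLocalRing KaehlerDifferential TensorProduct

namespace Groth.Agent.Lib.Helper7.RegDiff

/-- `A/m²` in the form used by `kerSquareLift` -/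
abbrev Bsq (A : Type u) [CommRing A] [IsLocalRing A] : Type u :=
  A ⧸ RingHom.ker (IsScalarTower.toAlgHom ℤ A (ResidueField A)).toRingHom ^ 2

/-- the map `A/m² → κ` -/
noncomputable abbrev Gsq (A : Type u) [CommRing A] [IsLocalRing A] : Bsq A →ₐ[ℤ] ResidueField A :=
  (IsScalarTower.toAlgHom ℤ A (ResidueField A)).kerSquareLift

lemma Gsq_surjective (A : Type u) [CommRing A] [IsLocalRing A] :
    Function.Surjective (Gsq A) := by
  intro y
  obtain ⟨a, rfl⟩ := IsLocalRing.residue_surjective y
  exact ⟨Ideal.Quotient.mk _ a, AlgHom.kerSquareLift_mk _ a⟩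

lemma ker_Gsq_sq (A : Type u) [CommRing A] [IsLocalRing A] :
    RingHom.ker (Gsq A).toRingHom ^ 2 = ⊥ := by
  rw [AlgHom.ker_kerSquareLift, Ideal.cotangentIdeal_square]

/-- a ring-hom section of `A/m² → κ` in characteristic `p` -/
theorem exists_section (p : ℕ) [Fact p.Prime] (A : Type u) [CommRing A]
    [IsLocalRing A] [CharP A p] :
    ∃ σ : ResidueField A →+* Bsq A, ∀ x, Gsq A (σ x) = x := by
  have hf : Function.Surjective (algebraMap A (ResidueField A)) := IsLocalRing.residue_surjective
  haveI : CharP (ResidueField A) p := by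
    apply Groth.Agent.Lib.Helper7.PPow.charP_of_cast_eq_zero
    rw [← map_natCast (algebraMap A (ResidueField A)), CharP.cast_eq_zero, map_zero]
  letI : Algebra (ZMod p) (ResidueField A) := ZMod.algebra _ p
  haveI := Groth.Agent.Lib.Helper19.PBasis.formallySmooth_zmod p (ResidueField A)
  haveI : Nontrivial (Bsq A) := (Gsq A).toRingHom.domain_nontrivial
  haveI : CharP (Bsq A) p := by
    apply Groth.Agent.Lib.Helper7.PPow.charP_of_cast_eq_zero
    rw [← map_natCast (Ideal.Quotient.mk _), CharP.cast_eq_zero, map_zero]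
  letI : Algebra (ZMod p) (Bsq A) := ZMod.algebra _ p
  have hcomm : ∀ r : ZMod p, (Gsq A).toRingHom (algebraMap (ZMod p) (Bsq A) r) =
      algebraMap (ZMod p) (ResidueField A) r := fun r =>
    RingHom.congr_fun (RingHom.ext_zmod ((Gsq A).toRingHom.comp (algebraMap (ZMod p) (Bsq A)))
      (algebraMap (ZMod p) (ResidueField A))) r
  let G' : Bsq A →ₐ[ZMod p] ResidueField A :=
    { toRingHom := (Gsq A).toRingHom
      commutes' := hcomm }
  have hsurj : Function.Surjective G' := Gsq_surjective A
  have hnil : IsNilpotent (RingHom.ker (G' : Bsq A →+* ResidueField A)) :=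
    ⟨2, ker_Gsq_sq A⟩
  let σ := Algebra.FormallySmooth.liftOfSurjective (AlgHom.id (ZMod p) (ResidueField A)) G'
    hsurj hnil
  exact ⟨σ.toRingHom, fun x => Algebra.FormallySmooth.liftOfSurjective_apply
    (AlgHom.id (ZMod p) (ResidueField A)) G' hsurj hnil x⟩

/-- retraction of the conormal map -/
theorem exists_retraction_kerCotangentToTensor (p : ℕ) [Fact p.Prime] (A : Type u) [CommRing A]
    [IsLocalRing A] [CharP A p] :
    ∃ l : ResidueField A ⊗[A] Ω[A⁄ℤ] →ₗ[A] (RingHom.ker (algebraMap A (ResidueField A))).Cotangent,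
      l ∘ₗ kerCotangentToTensor ℤ A (ResidueField A) = LinearMap.id := by
  have hf : Function.Surjective (algebraMap A (ResidueField A)) := IsLocalRing.residue_surjective
  obtain ⟨σ, hσ⟩ := exists_section p A
  let g : ResidueField A →ₐ[ℤ] Bsq A := σ.toIntAlgHom
  have hg : (Gsq A).comp g = AlgHom.id ℤ (ResidueField A) := by
    ext x
    exact hσ x
  obtain ⟨l, hl⟩ := (retractionKerCotangentToTensorEquivSection (R := ℤ) hf).symm ⟨g, hg⟩
  exact ⟨l, hl⟩


/-- in a regular local ring of characteristic `p`, the differentials of a regular system of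
parameters are linearly independent in `κ ⊗ Ω_{A/ℤ}` -/
theorem linearIndependent_one_tmul_D (p : ℕ) [Fact p.Prime] {A : Type u} [CommRing A]
    [IsRegularLocalRing A] [CharP A p] {N : ℕ} (x : Fin N → A)
    (hx : Ideal.span (Set.range x) = maximalIdeal A)
    (hN : ringKrullDim A = (N : WithBot ℕ∞)) :
    LinearIndependent (ResidueField A) (fun i => (1 : ResidueField A) ⊗ₜ[A] D ℤ A (x i)) := by
  classical
  have hxm : ∀ i, x i ∈ maximalIdeal A := fun i => hx ▸ Ideal.subset_span ⟨i, rfl⟩
  let y : Fin N → maximalIdeal A := fun i => ⟨x i, hxm i⟩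
  have hspanA : Submodule.span A (Set.range y) = ⊤ := by
    apply Submodule.map_injective_of_injective (maximalIdeal A).subtype_injective
    rw [Submodule.map_span, Submodule.map_subtype_top, ← Set.range_comp]
    exact hx
  have hspan : Submodule.span (ResidueField A)
      (Set.range fun i => (maximalIdeal A).toCotangent (y i)) = ⊤ := by
    have := (CotangentSpace.span_image_eq_top_iff (R := A) (s := Set.range y)).2 hspanA
    rwa [← Set.range_comp] at this
  have hfin : Module.finrank (ResidueField A) (CotangentSpace A) = N := by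
    have h1 := (IsRegularLocalRing.iff_finrank_cotangentSpace A).1 inferInstance
    rw [hN] at h1
    exact_mod_cast h1
  have hli0 : LinearIndependent (ResidueField A)
      (fun i => ((maximalIdeal A).toCotangent (y i) : CotangentSpace A)) :=
    linearIndependent_of_top_le_span_of_card_eq_finrank hspan.ge
      (by rw [Fintype.card_fin, hfin])
  obtain ⟨l, hl⟩ := exists_retraction_kerCotangentToTensor p A
  have hI : RingHom.ker (algebraMap A (ResidueField A)) = maximalIdeal A := IsLocalRing.ker_residue
  have hxI : ∀ i, x i ∈ RingHom.ker (algebraMap A (ResidueField A)) := fun i => hI ▸ hxm i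
  rw [Fintype.linearIndependent_iff]
  intro c hc
  have hlift : ∀ i, ∃ a : A, IsLocalRing.residue A a = c i :=
    fun i => IsLocalRing.residue_surjective (c i)
  choose a ha using hlift
  have h1 : kerCotangentToTensor ℤ A (ResidueField A)
      (∑ i, a i • (RingHom.ker (algebraMap A (ResidueField A))).toCotangent ⟨x i, hxI i⟩) = 0 := by
    rw [map_sum, ← hc]
    refine Finset.sum_congr rfl (fun i _ => ?_)
    rw [map_smul, kerCotangentToTensor_toCotangent, ← ha i, TensorProduct.smul_tmul',
      TensorProduct.smul_tmul']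
    congr 1
  have h2 : ∑ i, a i • (RingHom.ker (algebraMap A (ResidueField A))).toCotangent ⟨x i, hxI i⟩ = 0 := by
    have := congrArg l h1
    rwa [← LinearMap.comp_apply, hl, LinearMap.id_apply, map_zero] at this
  have hmem : ∑ i, a i * x i ∈ RingHom.ker (algebraMap A (ResidueField A)) :=
    Ideal.sum_mem _ fun i _ => Ideal.mul_mem_left _ _ (hxI i)
  have h3 : (RingHom.ker (algebraMap A (ResidueField A))).toCotangent ⟨∑ i, a i * x i, hmem⟩ = 0 := by
    rw [← h2]
    simp only [← map_smul, ← map_sum]
    congr 1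
    apply Subtype.ext
    change ∑ i, a i * x i = ((∑ i, a i • (⟨x i, hxI i⟩ :
      RingHom.ker (algebraMap A (ResidueField A))) :
      RingHom.ker (algebraMap A (ResidueField A))) : A)
    rw [AddSubmonoidClass.coe_finsetSum]
    exact Finset.sum_congr rfl (fun i _ => rfl)
  rw [Ideal.toCotangent_eq_zero] at h3
  have h4 : ∑ i, a i * x i ∈ maximalIdeal A ^ 2 := by rw [← hI]; exact h3
  have hmem' : ∑ i, a i * x i ∈ maximalIdeal A := Ideal.pow_le_self two_ne_zero h4
  have h5 : (maximalIdeal A).toCotangent ⟨∑ i, a i * x i, hmem'⟩ = 0 := by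
    rw [Ideal.toCotangent_eq_zero]; exact h4
  have h6 : ∑ i, c i • ((maximalIdeal A).toCotangent (y i) : CotangentSpace A) = 0 := by
    rw [← h5]
    have : (⟨∑ i, a i * x i, hmem'⟩ : maximalIdeal A) = ∑ i, a i • y i := by
      apply Subtype.ext
      change ∑ i, a i * x i = ((∑ i, a i • y i : maximalIdeal A) : A)
      rw [AddSubmonoidClass.coe_finsetSum]
      exact Finset.sum_congr rfl (fun i _ => rfl)
    rw [this, map_sum]
    refine Finset.sum_congr rfl (fun i _ => ?_)
    rw [map_smul, ← ha i]
    rfl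
  exact Fintype.linearIndependent_iff.1 hli0 c h6

/-- the differentials of a regular system of parameters are part of a basis of `Ω_{A/ℤ}` -/
theorem exists_basis_D (p : ℕ) [Fact p.Prime] {A : Type u} [CommRing A]
    [IsRegularLocalRing A] [CharP A p]
    [Module.Free A (Ω[A⁄ℤ])] [Module.Finite A (Ω[A⁄ℤ])]
    {N : ℕ} (x : Fin N → A) (hx : Ideal.span (Set.range x) = maximalIdeal A)
    (hN : ringKrullDim A = (N : WithBot ℕ∞)) :
    ∃ (ι : Type u) (b : Module.Basis ι A (Ω[A⁄ℤ])) (e : Fin N ↪ ι),
      ∀ i : Fin N, b (e i) = D ℤ A (x i) := by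
  classical
  have hli := linearIndependent_one_tmul_D p x hx hN
  set w : Fin N → ResidueField A ⊗[A] Ω[A⁄ℤ] := fun i => (1 : ResidueField A) ⊗ₜ[A] D ℤ A (x i)
    with hw
  set t : Set (ResidueField A ⊗[A] Ω[A⁄ℤ]) :=
    Set.range (TensorProduct.mk A (ResidueField A) (Ω[A⁄ℤ]) 1) with ht
  have hst : Set.range w ⊆ t := by
    rintro _ ⟨i, rfl⟩
    exact ⟨D ℤ A (x i), rfl⟩
  obtain ⟨b, hbt, hsb, htb, hb⟩ := exists_linearIndepOn_id_extension hli.linearIndepOn_id hst
  have htop : Submodule.span (ResidueField A) t = ⊤ := by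
    rw [eq_top_iff]
    rintro z -
    induction z using TensorProduct.induction_on with
    | zero => exact zero_mem _
    | add a c ha hc => exact add_mem ha hc
    | tmul c ω =>
      have : c ⊗ₜ[A] ω = c • ((1 : ResidueField A) ⊗ₜ[A] ω) := by
        rw [TensorProduct.smul_tmul', smul_eq_mul, mul_one]
      rw [this]
      exact Submodule.smul_mem _ _ (Submodule.subset_span ⟨ω, rfl⟩)
  have hbtop : Submodule.span (ResidueField A) b = ⊤ := by
    rw [eq_top_iff, ← htop, Submodule.span_le]
    exact htb
  let v : ↥b → Ω[A⁄ℤ] := fun β =>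
    if h : ∃ i, w i = β.1 then D ℤ A (x h.choose) else (hbt β.2).choose
  have hv : ∀ β : ↥b, TensorProduct.mk A (ResidueField A) (Ω[A⁄ℤ]) 1 (v β) = β.1 := by
    intro β
    by_cases h : ∃ i, w i = β.1
    · simp only [v, dif_pos h]
      exact h.choose_spec
    · simp only [v, dif_neg h]
      exact (hbt β.2).choose_spec
  have hcomp : (TensorProduct.mk A (ResidueField A) (Ω[A⁄ℤ]) 1) ∘ v = Subtype.val := funext hv
  have hli' : LinearIndependent (ResidueField A)
      ((TensorProduct.mk A (ResidueField A) (Ω[A⁄ℤ]) 1) ∘ v) := by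
    rw [hcomp]; exact hb
  have hsp' : Submodule.span (ResidueField A)
      (Set.range ((TensorProduct.mk A (ResidueField A) (Ω[A⁄ℤ]) 1) ∘ v)) = ⊤ := by
    rw [hcomp, Subtype.range_coe]; exact hbtop
  haveI : Module.FinitePresentation A (Ω[A⁄ℤ]) := Module.finitePresentation_of_finite A _
  obtain ⟨B, hB⟩ := Module.exists_basis_of_basis_baseChange v hli' hsp'
    (Module.Flat.rTensor_preserves_injective_linearMap (maximalIdeal A).subtype
      Subtype.val_injective)
  have hinj : Function.Injective w := hli.injective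
  refine ⟨↥b, B, ⟨fun i => ⟨w i, hsb ⟨i, rfl⟩⟩, fun i j hij => hinj (congrArg Subtype.val hij)⟩, ?_⟩
  intro i
  rw [hB]
  have h : ∃ j, w j = w i := ⟨i, rfl⟩
  simp only [v, Function.Embedding.coeFn_mk, dif_pos h]
  rw [hinj h.choose_spec]

end Groth.Agent.Lib.Helper7.RegDiff
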