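import Mathlib
import Groth.Agent.Lib.Helper7PRootDer
import Groth.Agent.Lib.Helper7PRootBasic
import Groth.Agent.Lib.Helper7RegDiff
import Groth.Agent.Lib.Helper7PField3
import Groth.Agent.Lib.Helper5RLR
import Groth.Agent.Lib.Helper19RegPres

/-!
Helper library (helper7): the embedding dimension of `A[T]/(T^p - f)` over an Artinian local ring
of characteristic `p`.
-/

set_option autoImplicit false
set_option linter.style.haveILetI false
set_option linter.unusedSectionVars false
universe u
open Polynomial IsLocalRing TensorProduct KaehlerDifferential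
open scoped Classical

namespace Groth.Agent.Lib.Helper7.PRoot

open Groth.Agent.Lib.Helper7.PRootDer Groth.Agent.Lib.Helper5

section General

variable {R : Type u} [CommRing R] [IsLocalRing R]

/-- the embedding dimension -/
noncomputable abbrev edim (R : Type u) [CommRing R] [IsLocalRing R] : ℕ :=
  Module.finrank (ResidueField R) (CotangentSpace R)

lemma edim_eq_spanFinrank [IsNoetherianRing R] : edim R = (maximalIdeal R).spanFinrank :=
  (spanFinrank_maximalIdeal_eq_finrank_cotangentSpace R).symm

/-- the embedding dimension is invariant under ring isomorphisms -/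
lemma edim_eq_of_ringEquiv {R' : Type u} [CommRing R'] [IsLocalRing R'] [IsNoetherianRing R]
    [IsNoetherianRing R'] (e : R ≃+* R') : edim R = edim R' := by
  rw [edim_eq_spanFinrank, edim_eq_spanFinrank]
  exact le_antisymm
    (Groth.Agent.Lib.Helper19.spanFinrank_maximalIdeal_le_of_surjective e.symm.toRingHom
      e.symm.surjective)
    (Groth.Agent.Lib.Helper19.spanFinrank_maximalIdeal_le_of_surjective e.toRingHom e.surjective)

lemma finrank_cotV_span_singleton [IsNoetherianRing R] {x : R} (hx : x ∈ maximalIdeal R) :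
    Module.finrank (ResidueField R) (cotV (Ideal.span {x})) =
      if x ∈ maximalIdeal R ^ 2 then 0 else 1 := by
  have h1 := cotV_span_range (R := R) (fun _ : Fin 1 => (⟨x, hx⟩ : maximalIdeal R))
  rw [Set.range_const, Set.range_const] at h1
  rw [h1]
  split_ifs with h
  · have : (maximalIdeal R).toCotangent ⟨x, hx⟩ = 0 := by
      rw [Ideal.toCotangent_eq_zero]; exact h
    rw [this, Submodule.span_zero_singleton, finrank_bot]
  · apply finrank_span_singleton
    intro h0
    rw [Ideal.toCotangent_eq_zero] at h0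
    exact h h0

/-- `edim (R/x) + [x ∉ m²] = edim R` -/
theorem edim_quotient_singleton [IsNoetherianRing R] {x : R} (hx : x ∈ maximalIdeal R)
    [IsLocalRing (R ⧸ Ideal.span {x})] :
    edim (R ⧸ Ideal.span {x}) + (if x ∈ maximalIdeal R ^ 2 then 0 else 1) = edim R := by
  rw [edim_eq_spanFinrank, edim_eq_spanFinrank, ← finrank_cotV_span_singleton hx]
  exact spanFinrank_maximalIdeal_quotient_add_finrank_cotV _

end General

section CharP

variable {A : Type u} [CommRing A] [IsLocalRing A]

/-- `1 ⊗ d(c^p) = 0` -/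
lemma one_tmul_D_pow (p : ℕ) [Fact p.Prime] [CharP A p] (c : A) : (1 : ResidueField A) ⊗ₜ[A] D ℤ A (c ^ p) = 0 := by
  rw [Derivation.leibniz_pow, ← Nat.cast_smul_eq_nsmul A, CharP.cast_eq_zero, zero_smul,
    TensorProduct.tmul_zero]

/-- for `μ ∈ m`: `1 ⊗ dμ = 0` iff `μ ∈ m²` -/
theorem one_tmul_D_eq_zero_iff (p : ℕ) [Fact p.Prime] [CharP A p] {μ : A}
    (hμ : μ ∈ maximalIdeal A) :
    (1 : ResidueField A) ⊗ₜ[A] D ℤ A μ = 0 ↔ μ ∈ maximalIdeal A ^ 2 := by
  have hI : RingHom.ker (algebraMap A (ResidueField A)) = maximalIdeal A := IsLocalRing.ker_residue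
  have hμI : μ ∈ RingHom.ker (algebraMap A (ResidueField A)) := hI ▸ hμ
  have hv : kerCotangentToTensor ℤ A (ResidueField A)
      ((RingHom.ker (algebraMap A (ResidueField A))).toCotangent ⟨μ, hμI⟩) =
      (1 : ResidueField A) ⊗ₜ[A] D ℤ A μ := kerCotangentToTensor_toCotangent _ _ _ _
  constructor
  · intro h0
    obtain ⟨l, hl⟩ := Groth.Agent.Lib.Helper7.RegDiff.exists_retraction_kerCotangentToTensor p A
    rw [← hv] at h0
    have := congrArg l h0
    rw [← LinearMap.comp_apply, hl, LinearMap.id_apply, map_zero, Ideal.toCotangent_eq_zero] at this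
    rw [← hI]
    exact this
  · intro h2
    rw [← hv]
    have : (RingHom.ker (algebraMap A (ResidueField A))).toCotangent ⟨μ, hμI⟩ = 0 := by
      rw [Ideal.toCotangent_eq_zero]
      change μ ∈ _ ^ 2
      rw [hI]; exact h2
    rw [this, map_zero]

end CharP

section CaseII

variable {A : Type u} [CommRing A] [IsLocalRing A] [IsArtinianRing A] (p : ℕ) [Fact p.Prime]
  [CharP A p] (f c : A)

/-- `S = root - c` -/
noncomputable abbrev S : PR A p f := AdjoinRoot.root _ - AdjoinRoot.of _ c

lemma S_pow : S p f c ^ p = AdjoinRoot.of _ (f - c ^ p) := by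
  rw [S, sub_pow_char, root_pow, map_sub, map_pow]

lemma S_mem (hμ : f - c ^ p ∈ maximalIdeal A) : S p f c ∈ maximalIdeal (PR A p f) := by
  rw [mem_maximalIdeal_iff_isNilpotent]
  apply IsNilpotent.of_pow (m := p)
  rw [S_pow]
  exact (isNilpotent_of_mem_maximalIdeal hμ).map _

lemma S_not_mem_sq : S p f c ∉ maximalIdeal (PR A p f) ^ 2 := by
  intro h
  obtain ⟨d', hd'of, hd'root⟩ := exists_derivation_adjoinRoot p f
    (F := ResidueField (PR A p f)) (0 : Derivation ℤ A _) rfl 1
  have h0 := derivation_sq_eq_zero d' h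
  have h1 : d' (S p f c) = 1 - 0 :=
    (map_sub d' _ _).trans (congrArg₂ (· - ·) hd'root (hd'of c))
  rw [sub_zero] at h1
  exact one_ne_zero (h1.symm.trans h0)

/-- the map `A[T]/(T^p - f) → A/(f - c^p)`, `T ↦ c` -/
noncomputable def quotMap : PR A p f →+* A ⧸ Ideal.span {f - c ^ p} :=
  AdjoinRoot.lift (Ideal.Quotient.mk _) (Ideal.Quotient.mk _ c) (by
    rw [eval₂_sub, eval₂_pow, eval₂_X, eval₂_C, ← map_pow, ← map_sub,
      Ideal.Quotient.eq_zero_iff_mem]
    have : c ^ p - f = -(f - c ^ p) := by ring
    rw [this]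
    exact neg_mem (Ideal.mem_span_singleton_self _))

lemma quotMap_of (a : A) : quotMap p f c (AdjoinRoot.of _ a) = Ideal.Quotient.mk _ a :=
  AdjoinRoot.lift_of _

lemma quotMap_root : quotMap p f c (AdjoinRoot.root _) = Ideal.Quotient.mk _ c :=
  AdjoinRoot.lift_root _

lemma quotMap_surjective : Function.Surjective (quotMap p f c) := by
  intro y
  obtain ⟨a, rfl⟩ := Ideal.Quotient.mk_surjective y
  exact ⟨AdjoinRoot.of _ a, quotMap_of p f c a⟩

lemma ker_quotMap : RingHom.ker (quotMap p f c) = Ideal.span {S p f c} := by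
  apply le_antisymm
  · intro b hb
    rw [RingHom.mem_ker] at hb
    induction b using AdjoinRoot.induction_on with
    | ih q =>
      rw [quotMap, AdjoinRoot.lift_mk, Polynomial.eval₂_at_apply,
        Ideal.Quotient.eq_zero_iff_mem, Ideal.mem_span_singleton'] at hb
      obtain ⟨a', ha'⟩ := hb
      have hq : q = q %ₘ (X - C c) + (X - C c) * (q /ₘ (X - C c)) :=
        (modByMonic_add_div q (X - C c)).symm
      rw [modByMonic_X_sub_C_eq_C_eval, ← ha'] at hq
      have hS : AdjoinRoot.mk (X ^ p - C f : A[X]) (X - C c) = S p f c := by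
        rw [map_sub, AdjoinRoot.mk_X, AdjoinRoot.mk_C]
      have h1 : AdjoinRoot.mk (X ^ p - C f : A[X]) q =
          S p f c * (AdjoinRoot.of _ a' * S p f c ^ (p - 1) +
            AdjoinRoot.mk _ (q /ₘ (X - C c))) := by
        conv_lhs => rw [hq]
        rw [map_add, map_mul (AdjoinRoot.mk _) (X - C c), hS, AdjoinRoot.mk_C,
          map_mul (AdjoinRoot.of _), ← S_pow]
        have hp1 : S p f c ^ p = S p f c ^ (p - 1) * S p f c := by
          rw [← pow_succ, Nat.sub_add_cancel (Fact.out : p.Prime).one_le]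
        rw [hp1]
        ring
      rw [h1]
      exact Ideal.mul_mem_right _ _ (Ideal.mem_span_singleton_self _)
  · rw [Ideal.span_le, Set.singleton_subset_iff, SetLike.mem_coe, RingHom.mem_ker, S, map_sub,
      quotMap_root, quotMap_of, sub_self]

/-- `B/(S) ≃ A/(μ)` -/
noncomputable def quotEquiv :
    (PR A p f ⧸ Ideal.span {S p f c}) ≃+* A ⧸ Ideal.span {f - c ^ p} :=
  (Ideal.quotEquivOfEq (ker_quotMap p f c).symm).trans
    (RingHom.quotientKerEquivOfSurjective (quotMap_surjective p f c))

/-- case II: `f ≡ c^p` modulo `m` -/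
theorem edim_caseII (hμ : f - c ^ p ∈ maximalIdeal A) :
    edim (PR A p f) + (if f - c ^ p ∈ maximalIdeal A ^ 2 then 0 else 1) = edim A + 1 := by
  haveI : IsLocalRing (A ⧸ Ideal.span {f - c ^ p}) :=
    isLocalRing_quotient (fun h => (maximalIdeal.isMaximal A).ne_top
      (top_le_iff.1 (h ▸ (Ideal.span_singleton_le_iff_mem _).2 hμ)))
  haveI : IsLocalRing (PR A p f ⧸ Ideal.span {S p f c}) :=
    isLocalRing_quotient (fun h => (maximalIdeal.isMaximal (PR A p f)).ne_top
      (top_le_iff.1 (h ▸ (Ideal.span_singleton_le_iff_mem _).2 (S_mem p f c hμ))))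
  have h1 := edim_quotient_singleton (R := A) hμ
  have h2 := edim_quotient_singleton (R := PR A p f) (S_mem p f c hμ)
  rw [if_neg (S_not_mem_sq p f c)] at h2
  have h3 := edim_eq_of_ringEquiv (quotEquiv p f c)
  omega

end CaseII

section CotLI

variable {A : Type u} [CommRing A] [IsLocalRing A]

/-- in characteristic `p`, elements of `m` that are independent in `m/m²` have independent
differentials in `κ ⊗ Ω_A` -/
theorem linearIndependent_one_tmul_D_of_cotangent (p : ℕ) [Fact p.Prime] [CharP A p]
    {ι : Type*} (y : ι → maximalIdeal A)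
    (hli : LinearIndependent (ResidueField A) (fun i => (maximalIdeal A).toCotangent (y i))) :
    LinearIndependent (ResidueField A) (fun i => (1 : ResidueField A) ⊗ₜ[A] D ℤ A (y i : A)) := by
  rw [linearIndependent_iff'] at hli ⊢
  intro s c hc
  apply hli s c
  have hlift : ∀ i, ∃ a : A, residue A a = c i := fun i => residue_surjective (c i)
  choose a ha using hlift
  have hmem : ∑ i ∈ s, a i * (y i : A) ∈ maximalIdeal A :=
    Ideal.sum_mem _ fun i _ => Ideal.mul_mem_left _ _ (y i).2
  have h1 : (1 : ResidueField A) ⊗ₜ[A] D ℤ A (∑ i ∈ s, a i * (y i : A)) = 0 := by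
    rw [map_sum, TensorProduct.tmul_sum, ← hc]
    refine Finset.sum_congr rfl fun i _ => ?_
    rw [Derivation.leibniz, TensorProduct.tmul_add, TensorProduct.tmul_smul,
      TensorProduct.tmul_smul, ← ha i]
    have h0 : ((y i : A) • ((1 : ResidueField A) ⊗ₜ[A] D ℤ A (a i))) = 0 := by
      rw [TensorProduct.smul_tmul', Algebra.smul_def, mul_one, ResidueField.algebraMap_eq,
        (residue_eq_zero_iff _).2 (y i).2, TensorProduct.zero_tmul]
    rw [h0, add_zero]
    rw [TensorProduct.smul_tmul', TensorProduct.smul_tmul', Algebra.smul_def, mul_one, smul_eq_mul,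
      mul_one]
    rfl
  rw [one_tmul_D_eq_zero_iff p hmem] at h1
  have h2 : (maximalIdeal A).toCotangent ⟨∑ i ∈ s, a i * (y i : A), hmem⟩ = 0 := by
    rw [Ideal.toCotangent_eq_zero]; exact h1
  rw [← h2]
  have : (⟨∑ i ∈ s, a i * (y i : A), hmem⟩ : maximalIdeal A) = ∑ i ∈ s, a i • y i := by
    apply Subtype.ext
    rw [AddSubmonoidClass.coe_finsetSum]
    exact Finset.sum_congr rfl fun i _ => rfl
  rw [this, map_sum]
  refine Finset.sum_congr rfl fun i _ => ?_
  rw [map_smul, ← ha i]
  rfl

/-- the residue field of a local ring of characteristic `p` has characteristic `p` -/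
lemma charP_residueField (p : ℕ) [Fact p.Prime] [CharP A p] : CharP (ResidueField A) p := by
  apply Groth.Agent.Lib.Helper7.PPow.charP_of_cast_eq_zero
  rw [← map_natCast (algebraMap A (ResidueField A)), CharP.cast_eq_zero, map_zero]

/-- if the residue class of `f` is not a `p`-th power, `1 ⊗ df` is not in the span of the
differentials of elements of `m` -/
theorem one_tmul_D_not_mem_span (p : ℕ) [Fact p.Prime] [CharP A p] {f : A}
    (hf : ∀ c : ResidueField A, c ^ p ≠ residue A f) {ι : Type*} (y : ι → maximalIdeal A) :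
    (1 : ResidueField A) ⊗ₜ[A] D ℤ A f ∉ Submodule.span (ResidueField A)
      (Set.range fun i => (1 : ResidueField A) ⊗ₜ[A] D ℤ A (y i : A)) := by
  haveI := charP_residueField (A := A) p
  intro hmem
  have hker : Submodule.span (ResidueField A)
      (Set.range fun i => (1 : ResidueField A) ⊗ₜ[A] D ℤ A (y i : A)) ≤
      LinearMap.ker (mapBaseChange ℤ A (ResidueField A)) := by
    rw [Submodule.span_le]
    rintro _ ⟨i, rfl⟩
    rw [SetLike.mem_coe, LinearMap.mem_ker, mapBaseChange_tmul, map_D, one_smul,
      ResidueField.algebraMap_eq, (residue_eq_zero_iff _).2 (y i).2, map_zero]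
  have h0 := hker hmem
  rw [LinearMap.mem_ker, mapBaseChange_tmul, map_D, one_smul] at h0
  have hk : ∀ n : ℤ, ∃ b : ResidueField A, b ^ p = algebraMap ℤ (ResidueField A) n := by
    intro n
    refine ⟨(n : ResidueField A), ?_⟩
    haveI : ExpChar (ResidueField A) p := ExpChar.prime Fact.out
    rw [← frobenius_def, map_intCast]
    rfl
  obtain ⟨b, hb⟩ := Groth.Agent.Lib.Helper7.PPow.exists_pow_eq_of_D_eq_zero p hk h0
  exact hf b hb

end CotLI

section CaseI

variable {A : Type u} [CommRing A] [IsLocalRing A] [IsArtinianRing A] (p : ℕ) [Fact p.Prime]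
  [CharP A p] (f : A)

omit [IsArtinianRing A] [CharP A p] in
lemma map_maximalIdeal_isMaximal (hf : ∀ c : ResidueField A, c ^ p ≠ residue A f) :
    ((maximalIdeal A).map (AdjoinRoot.of (X ^ p - C f : A[X]))).IsMaximal := by
  have hp : p.Prime := Fact.out
  have hirr : Irreducible (X ^ p - C (residue A f) : (ResidueField A)[X]) :=
    X_pow_sub_C_irreducible_of_prime hp hf
  have hmap : (X ^ p - C f : A[X]).map (Ideal.Quotient.mk (maximalIdeal A)) =
      (X ^ p - C (residue A f) : (ResidueField A)[X]) := by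
    rw [Polynomial.map_sub, Polynomial.map_pow, map_X, map_C]; rfl
  have hmax' : (Ideal.span {(X ^ p - C (residue A f) : (ResidueField A)[X])}).IsMaximal :=
    PrincipalIdealRing.isMaximal_of_irreducible hirr
  have hmax : (Ideal.span
      {(X ^ p - C f : A[X]).map (Ideal.Quotient.mk (maximalIdeal A))}).IsMaximal := by
    rw [hmap]; exact hmax'
  have hfield := (Ideal.Quotient.maximal_ideal_iff_isField_quotient _).1 hmax
  have e := AdjoinRoot.quotAdjoinRootEquivQuotPolynomialQuot (maximalIdeal A)
    (X ^ p - C f : A[X])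
  exact Ideal.Quotient.maximal_of_isField _ (MulEquiv.isField hfield e.toMulEquiv)

/-- case I: the residue class of `f` is not a `p`-th power -/
theorem edim_caseI (hf : ∀ c : ResidueField A, c ^ p ≠ residue A f) :
    edim (PR A p f) = edim A ∧ (1 : ResidueField A) ⊗ₜ[A] D ℤ A f ≠ 0 := by
  have hmaxeq : maximalIdeal (PR A p f) =
      (maximalIdeal A).map (AdjoinRoot.of (X ^ p - C f : A[X])) :=
    (IsLocalRing.eq_maximalIdeal (map_maximalIdeal_isMaximal p f hf)).symm
  -- a basis of the cotangent space
  set n := Module.finrank (ResidueField A) (CotangentSpace A) with hn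
  let b := Module.finBasis (ResidueField A) (CotangentSpace A)
  have hlift : ∀ i, ∃ x : maximalIdeal A, (maximalIdeal A).toCotangent x = b i :=
    fun i => Ideal.toCotangent_surjective _ (b i)
  choose x hx using hlift
  have hli0 : LinearIndependent (ResidueField A) (fun i => (maximalIdeal A).toCotangent (x i)) := by
    have : (fun i => (maximalIdeal A).toCotangent (x i)) = b := funext hx
    rw [this]
    exact b.linearIndependent
  have hli1 := linearIndependent_one_tmul_D_of_cotangent p x hli0
  have hnot := one_tmul_D_not_mem_span p hf x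
  refine ⟨le_antisymm ?_ ?_, fun h0 => hnot (h0 ▸ zero_mem _)⟩
  · rw [edim_eq_spanFinrank, edim_eq_spanFinrank, hmaxeq]
    exact Ideal.spanFinrank_map_le_of_fg _ (IsNoetherian.noetherian _)
  · set g : Fin (n + 1) → A := Fin.cons f (fun i => (x i : A)) with hg
    have hfam : (fun i => (1 : ResidueField A) ⊗ₜ[A] D ℤ A (g i)) =
        Fin.cons ((1 : ResidueField A) ⊗ₜ[A] D ℤ A f)
          (fun i => (1 : ResidueField A) ⊗ₜ[A] D ℤ A (x i : A)) := by
      funext i
      refine Fin.cases ?_ (fun i => ?_) i
      · rfl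
      · rfl
    have hli : LinearIndependent (ResidueField A)
        (fun i => (1 : ResidueField A) ⊗ₜ[A] D ℤ A (g i)) := by
      rw [hfam]
      exact linearIndependent_finCons.2 ⟨hli1, hnot⟩
    have hmem : ∀ i, AdjoinRoot.of (X ^ p - C f : A[X]) (x i : A) ∈ maximalIdeal (PR A p f) := by
      intro i
      rw [hmaxeq]
      exact Ideal.mem_map_of_mem _ (x i).2
    have key : ∀ j : Fin n, ∃ d : Derivation ℤ (PR A p f) (ResidueField (PR A p f)),
        d (AdjoinRoot.of (X ^ p - C f : A[X]) (x j : A)) = 1 ∧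
          ∀ i, i ≠ j → d (AdjoinRoot.of (X ^ p - C f : A[X]) (x i : A)) = 0 := by
      intro j
      obtain ⟨d, hd1, hd0⟩ := exists_derivation_of_linearIndependent g hli j.succ
      let d₁ : Derivation ℤ A (ResidueField (PR A p f)) :=
        ((Algebra.linearMap (ResidueField A) (ResidueField (PR A p f))).restrictScalars A).compDer d
      have hd₁ : ∀ a, d₁ a = algebraMap (ResidueField A) (ResidueField (PR A p f)) (d a) :=
        fun a => rfl
      have hd₁f : d₁ f = 0 := by
        rw [hd₁]
        have := hd0 0 (Fin.succ_ne_zero j).symm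
        rw [hg, Fin.cons_zero] at this
        rw [this, map_zero]
      obtain ⟨d', hd'of, -⟩ := exists_derivation_adjoinRoot p f d₁ hd₁f 0
      refine ⟨d', ?_, ?_⟩
      · refine (hd'of _).trans ?_
        rw [hd₁]
        have : d (x j : A) = 1 := by
          have := hd1
          rwa [hg, Fin.cons_succ] at this
        rw [this, map_one]
      · intro i hij
        refine (hd'of _).trans ?_
        rw [hd₁]
        have : d (x i : A) = 0 := by
          have := hd0 i.succ (fun h => hij (Fin.succ_injective _ h))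
          rwa [hg, Fin.cons_succ] at this
        rw [this, map_zero]
    have := card_le_finrank_cotangentSpace (B := PR A p f)
      (fun i => (⟨AdjoinRoot.of (X ^ p - C f : A[X]) (x i : A), hmem i⟩ :
        maximalIdeal (PR A p f))) key
    rwa [Fintype.card_fin] at this

end CaseI

section Main

variable {A : Type u} [CommRing A] [IsLocalRing A] [IsArtinianRing A] (p : ℕ) [Fact p.Prime]
  [CharP A p]

/-- (L1) the embedding dimension of `A[T]/(T^p - f)` -/
theorem edim_PR (f : A) :
    edim A ≤ edim (PR A p f) ∧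
      (edim A = edim (PR A p f) ↔ (1 : ResidueField A) ⊗ₜ[A] D ℤ A f ≠ 0) := by
  by_cases hf : ∃ c : ResidueField A, c ^ p = residue A f
  · obtain ⟨cbar, hc⟩ := hf
    obtain ⟨c, rfl⟩ := residue_surjective cbar
    have hμ : f - c ^ p ∈ maximalIdeal A := by
      rw [← residue_eq_zero_iff, map_sub, map_pow, hc, sub_self]
    have hv : (1 : ResidueField A) ⊗ₜ[A] D ℤ A f = (1 : ResidueField A) ⊗ₜ[A] D ℤ A (f - c ^ p) := by
      have : f = c ^ p + (f - c ^ p) := by ring
      conv_lhs => rw [this]
      rw [map_add, TensorProduct.tmul_add, one_tmul_D_pow, zero_add]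
    have h1 := edim_caseII p f c hμ
    have h2 := one_tmul_D_eq_zero_iff p hμ
    rw [hv]
    by_cases hsq : f - c ^ p ∈ maximalIdeal A ^ 2
    · rw [if_pos hsq] at h1
      have h3 := h2.2 hsq
      refine ⟨by omega, ⟨fun h => by omega, fun h => absurd h3 h⟩⟩
    · rw [if_neg hsq] at h1
      have h3 : (1 : ResidueField A) ⊗ₜ[A] D ℤ A (f - c ^ p) ≠ 0 := fun h => hsq (h2.1 h)
      refine ⟨by omega, ⟨fun _ => h3, fun _ => by omega⟩⟩
  · push_neg at hf
    obtain ⟨h1, h2⟩ := edim_caseI p f hf
    exact ⟨h1.ge, ⟨fun _ => h2, fun _ => h1.symm⟩⟩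

/-- (L2) linear independence of differentials and adjoining a `p`-th root of the first element -/
theorem linearIndependent_succ_iff {r : ℕ} (f : Fin (r + 1) → A) :
    LinearIndependent (ResidueField A) (fun i => (1 : ResidueField A) ⊗ₜ[A] D ℤ A (f i)) ↔
      ((1 : ResidueField A) ⊗ₜ[A] D ℤ A (f 0) ≠ 0 ∧
        LinearIndependent (ResidueField (PR A p (f 0)))
          (fun i : Fin r => (1 : ResidueField (PR A p (f 0))) ⊗ₜ[PR A p (f 0)]
            D ℤ (PR A p (f 0)) (AdjoinRoot.of _ (f i.succ)))) := by
  constructor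
  · intro hli
    refine ⟨hli.ne_zero 0, ?_⟩
    apply linearIndependent_of_derivations (A := PR A p (f 0)) (K := ResidueField (PR A p (f 0)))
      (F := ResidueField (PR A p (f 0)))
    intro j
    obtain ⟨d, hd1, hd0⟩ := exists_derivation_of_linearIndependent f hli j.succ
    let d₁ : Derivation ℤ A (ResidueField (PR A p (f 0))) :=
      ((Algebra.linearMap (ResidueField A) (ResidueField (PR A p (f 0)))).restrictScalars A).compDer d
    have hd₁ : ∀ a, d₁ a = algebraMap (ResidueField A) (ResidueField (PR A p (f 0))) (d a) :=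
      fun a => rfl
    have hd₁f : d₁ (f 0) = 0 := by
      rw [hd₁, hd0 0 (Fin.succ_ne_zero j).symm, map_zero]
    obtain ⟨d', hd'of, -⟩ := exists_derivation_adjoinRoot p (f 0) d₁ hd₁f 0
    refine ⟨d', ?_, ?_⟩
    · refine (hd'of _).trans ?_
      rw [hd₁, hd1, map_one]
    · intro i hij
      refine (hd'of _).trans ?_
      rw [hd₁, hd0 i.succ (fun h => hij (Fin.succ_injective _ h)), map_zero]
  · rintro ⟨h0, hli₁⟩
    rw [Fintype.linearIndependent_iff]
    intro c hc
    have hsucc : ∀ j : Fin r, c j.succ = 0 := by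
      intro j
      obtain ⟨d', hd1, hd0⟩ := exists_derivation_of_linearIndependent
        (A := PR A p (f 0)) (K := ResidueField (PR A p (f 0)))
        (fun i : Fin r => AdjoinRoot.of (X ^ p - C (f 0) : A[X]) (f i.succ)) hli₁ j
      have hroot : d' (AdjoinRoot.of (X ^ p - C (f 0) : A[X]) (f 0)) = 0 := by
        rw [← root_pow, Derivation.leibniz_pow, ← Nat.cast_smul_eq_nsmul (PR A p (f 0)),
          CharP.cast_eq_zero, zero_smul]
      let d₂ : Derivation ℤ A (ResidueField (PR A p (f 0))) := d'.compAlgebraMap A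
      have hd₂ : ∀ a, d₂ a = d' (AdjoinRoot.of (X ^ p - C (f 0) : A[X]) a) := fun a => rfl
      have h1 := congrArg (derFunc (K := ResidueField A) d₂) hc
      rw [map_sum, map_zero, Fin.sum_univ_succ] at h1
      have h2 : ∀ i : Fin (r + 1), derFunc (K := ResidueField A) d₂
          (c i • (1 : ResidueField A) ⊗ₜ[A] D ℤ A (f i)) =
          c i • d' (AdjoinRoot.of (X ^ p - C (f 0) : A[X]) (f i)) := by
        intro i
        rw [map_smul, derFunc_tmul, one_smul, hd₂]
      rw [h2 0, hroot, smul_zero, zero_add] at h1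
      have h3 : ∀ i ∈ (Finset.univ : Finset (Fin r)),
          derFunc (K := ResidueField A) d₂
            (c i.succ • (1 : ResidueField A) ⊗ₜ[A] D ℤ A (f i.succ)) =
          if i = j then algebraMap (ResidueField A) (ResidueField (PR A p (f 0))) (c j.succ)
            else 0 := by
        intro i _
        rw [h2]
        split_ifs with hij
        · subst hij
          rw [hd1, Algebra.smul_def, mul_one]
        · rw [hd0 i hij, smul_zero]
      rw [Finset.sum_congr rfl h3, Finset.sum_ite_eq' Finset.univ j, if_pos (Finset.mem_univ j)]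
        at h1
      exact (map_eq_zero _).1 h1
    have h00 : c 0 = 0 := by
      rw [Fin.sum_univ_succ] at hc
      have : ∑ i : Fin r, c i.succ • (1 : ResidueField A) ⊗ₜ[A] D ℤ A (f i.succ) = 0 :=
        Finset.sum_eq_zero fun i _ => by rw [hsucc i, zero_smul]
      rw [this, add_zero] at hc
      exact (smul_eq_zero.1 hc).resolve_right h0
    intro i
    refine Fin.cases h00 hsucc i

end Main

end Groth.Agent.Lib.Helper7.PRoot
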