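import Mathlib
import Groth.Agent.Lib.Helper7PRootEdim

/-!
Helper library (helper7): `A[T_1..T_r]/(T_i^p - f_i)` over an Artinian local ring of characteristic
`p`: locality and the embedding dimension criterion (EGA 0_IV 22-type statement).
-/

set_option autoImplicit false
set_option linter.style.haveILetI false
set_option linter.unusedSectionVars false
universe u
open IsLocalRing TensorProduct KaehlerDifferential

namespace Groth.Agent.Lib.Helper7.PRoot

/-- the defining ideal -/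
noncomputable abbrev QI (A : Type u) [CommRing A] (p : ℕ) {r : ℕ} (f : Fin r → A) :
    Ideal (MvPolynomial (Fin r) A) :=
  Ideal.span (Set.range fun i =>
    (MvPolynomial.X i : MvPolynomial (Fin r) A) ^ p - MvPolynomial.C (f i))

/-- `A[T_1..T_r]/(T_i^p - f_i)` -/
abbrev Q (A : Type u) [CommRing A] (p : ℕ) {r : ℕ} (f : Fin r → A) : Type u :=
  MvPolynomial (Fin r) A ⧸ QI A p f

section Iso

variable {A : Type u} [CommRing A] (p : ℕ) [Fact p.Prime]

/-- base case -/
noncomputable def isoZero (f : Fin 0 → A) : Q A p f ≃+* A :=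
  ((Ideal.quotEquivOfEq (by
    rw [QI, Set.range_eq_empty, Ideal.span_empty] : QI A p f = ⊥)).trans
    (RingEquiv.quotientBot _)).trans (MvPolynomial.isEmptyRingEquiv A (Fin 0))

variable {r : ℕ} (f : Fin (r + 1) → A)

/-- the coefficient ring after adjoining the first root -/
abbrev A1 : Type u := PR A p (f 0)

/-- the remaining elements -/
noncomputable abbrev f1 : Fin r → A1 p f := fun i => AdjoinRoot.of _ (f i.succ)

/-- forward map on polynomials -/
noncomputable def fwdPoly : MvPolynomial (Fin (r + 1)) A →+* Q (A1 p f) p (f1 p f) :=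
  MvPolynomial.eval₂Hom
    ((Ideal.Quotient.mk (QI (A1 p f) p (f1 p f))).comp
      ((MvPolynomial.C : A1 p f →+* MvPolynomial (Fin r) (A1 p f)).comp (AdjoinRoot.of _)))
    (Fin.cons (Ideal.Quotient.mk _ (MvPolynomial.C (AdjoinRoot.root _)))
      (fun i => Ideal.Quotient.mk _ (MvPolynomial.X i)))

lemma fwdPoly_C (a : A) : fwdPoly p f (MvPolynomial.C a) =
    Ideal.Quotient.mk _ (MvPolynomial.C (AdjoinRoot.of _ a)) := by
  rw [fwdPoly, MvPolynomial.eval₂Hom_C]; rfl

lemma fwdPoly_X_zero : fwdPoly p f (MvPolynomial.X 0) =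
    Ideal.Quotient.mk _ (MvPolynomial.C (AdjoinRoot.root _)) := by
  rw [fwdPoly, MvPolynomial.eval₂Hom_X', Fin.cons_zero]

lemma fwdPoly_X_succ (i : Fin r) : fwdPoly p f (MvPolynomial.X i.succ) =
    Ideal.Quotient.mk _ (MvPolynomial.X i) := by
  rw [fwdPoly, MvPolynomial.eval₂Hom_X', Fin.cons_succ]

lemma fwdPoly_mem (x : MvPolynomial (Fin (r + 1)) A) (hx : x ∈ QI A p f) : fwdPoly p f x = 0 := by
  have : QI A p f ≤ RingHom.ker (fwdPoly p f) := by
    rw [QI, Ideal.span_le]
    rintro _ ⟨i, rfl⟩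
    rw [SetLike.mem_coe, RingHom.mem_ker, map_sub, map_pow, fwdPoly_C]
    refine Fin.cases ?_ (fun j => ?_) i
    · rw [fwdPoly_X_zero, ← map_pow, ← map_pow, ← map_sub, ← map_sub, root_pow, sub_self,
        map_zero, map_zero]
    · rw [fwdPoly_X_succ, ← map_pow, ← map_sub, Ideal.Quotient.eq_zero_iff_mem]
      exact Ideal.subset_span ⟨j, rfl⟩
  exact this hx

/-- forward map -/
noncomputable def fwd : Q A p f →+* Q (A1 p f) p (f1 p f) :=
  Ideal.Quotient.lift _ (fwdPoly p f) (fwdPoly_mem p f)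

/-- the map on coefficients for the backward map -/
noncomputable def bwdCoeff : A1 p f →+* Q A p f :=
  AdjoinRoot.lift ((Ideal.Quotient.mk (QI A p f)).comp MvPolynomial.C)
    (Ideal.Quotient.mk _ (MvPolynomial.X 0)) (by
      rw [Polynomial.eval₂_sub, Polynomial.eval₂_pow, Polynomial.eval₂_X, Polynomial.eval₂_C,
        RingHom.comp_apply, ← map_pow, ← map_sub, Ideal.Quotient.eq_zero_iff_mem]
      exact Ideal.subset_span ⟨0, rfl⟩)

lemma bwdCoeff_of (a : A) : bwdCoeff p f (AdjoinRoot.of _ a) =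
    Ideal.Quotient.mk _ (MvPolynomial.C a) := AdjoinRoot.lift_of _

lemma bwdCoeff_root : bwdCoeff p f (AdjoinRoot.root _) =
    Ideal.Quotient.mk _ (MvPolynomial.X 0) := AdjoinRoot.lift_root _

/-- backward map on polynomials -/
noncomputable def bwdPoly : MvPolynomial (Fin r) (A1 p f) →+* Q A p f :=
  MvPolynomial.eval₂Hom (bwdCoeff p f) (fun i => Ideal.Quotient.mk _ (MvPolynomial.X i.succ))

lemma bwdPoly_C (b : A1 p f) : bwdPoly p f (MvPolynomial.C b) = bwdCoeff p f b := by
  rw [bwdPoly, MvPolynomial.eval₂Hom_C]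

lemma bwdPoly_X (i : Fin r) : bwdPoly p f (MvPolynomial.X i) =
    Ideal.Quotient.mk _ (MvPolynomial.X i.succ) := by
  rw [bwdPoly, MvPolynomial.eval₂Hom_X']

lemma bwdPoly_mem (x : MvPolynomial (Fin r) (A1 p f)) (hx : x ∈ QI (A1 p f) p (f1 p f)) :
    bwdPoly p f x = 0 := by
  have : QI (A1 p f) p (f1 p f) ≤ RingHom.ker (bwdPoly p f) := by
    rw [QI, Ideal.span_le]
    rintro _ ⟨i, rfl⟩
    rw [SetLike.mem_coe, RingHom.mem_ker, map_sub, map_pow, bwdPoly_C, bwdPoly_X, bwdCoeff_of,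
      ← map_pow, ← map_sub, Ideal.Quotient.eq_zero_iff_mem]
    exact Ideal.subset_span ⟨i.succ, rfl⟩
  exact this hx

/-- backward map -/
noncomputable def bwd : Q (A1 p f) p (f1 p f) →+* Q A p f :=
  Ideal.Quotient.lift _ (bwdPoly p f) (bwdPoly_mem p f)

lemma bwd_comp_fwd : (bwd p f).comp (fwd p f) = RingHom.id _ := by
  apply Ideal.Quotient.ringHom_ext
  apply MvPolynomial.ringHom_ext
  · intro a
    change bwd p f (fwd p f (Ideal.Quotient.mk _ (MvPolynomial.C a))) =
      Ideal.Quotient.mk _ (MvPolynomial.C a)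
    rw [fwd, Ideal.Quotient.lift_mk, fwdPoly_C, bwd, Ideal.Quotient.lift_mk, bwdPoly_C,
      bwdCoeff_of]
  · intro i
    change bwd p f (fwd p f (Ideal.Quotient.mk _ (MvPolynomial.X i))) =
      Ideal.Quotient.mk _ (MvPolynomial.X i)
    rw [fwd, Ideal.Quotient.lift_mk]
    refine Fin.cases ?_ (fun j => ?_) i
    · rw [fwdPoly_X_zero, bwd, Ideal.Quotient.lift_mk, bwdPoly_C, bwdCoeff_root]
    · rw [fwdPoly_X_succ, bwd, Ideal.Quotient.lift_mk, bwdPoly_X]

lemma fwd_comp_bwd : (fwd p f).comp (bwd p f) = RingHom.id _ := by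
  apply Ideal.Quotient.ringHom_ext
  apply MvPolynomial.ringHom_ext'
  · apply AdjoinRoot.ringHom_ext
    · ext a
      change fwd p f (bwd p f (Ideal.Quotient.mk _ (MvPolynomial.C (AdjoinRoot.of _ a)))) =
        Ideal.Quotient.mk _ (MvPolynomial.C (AdjoinRoot.of _ a))
      rw [bwd, Ideal.Quotient.lift_mk, bwdPoly_C, bwdCoeff_of, fwd, Ideal.Quotient.lift_mk,
        fwdPoly_C]
    · change fwd p f (bwd p f (Ideal.Quotient.mk _ (MvPolynomial.C (AdjoinRoot.root _)))) =
        Ideal.Quotient.mk _ (MvPolynomial.C (AdjoinRoot.root _))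
      rw [bwd, Ideal.Quotient.lift_mk, bwdPoly_C, bwdCoeff_root, fwd, Ideal.Quotient.lift_mk,
        fwdPoly_X_zero]
  · intro i
    change fwd p f (bwd p f (Ideal.Quotient.mk _ (MvPolynomial.X i))) =
      Ideal.Quotient.mk _ (MvPolynomial.X i)
    rw [bwd, Ideal.Quotient.lift_mk, bwdPoly_X, fwd, Ideal.Quotient.lift_mk, fwdPoly_X_succ]

/-- the step isomorphism -/
noncomputable def isoSucc : Q A p f ≃+* Q (A1 p f) p (f1 p f) :=
  RingEquiv.ofRingHom (fwd p f) (bwd p f) (fwd_comp_bwd p f) (bwd_comp_fwd p f)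

end Iso

section Induction

variable (p : ℕ) [Fact p.Prime]

/-- main theorem, by induction on the number of variables -/
theorem main (r : ℕ) : ∀ (A : Type u) [CommRing A] [IsLocalRing A] [IsArtinianRing A] [CharP A p]
    (f : Fin r → A),
    ∃ _ : IsLocalRing (Q A p f), edim A ≤ edim (Q A p f) ∧
      (edim A = edim (Q A p f) ↔
        LinearIndependent (ResidueField A) (fun i => (1 : ResidueField A) ⊗ₜ[A] D ℤ A (f i))) := by
  induction r with
  | zero =>
    intro A _ _ _ _ f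
    haveI hloc : IsLocalRing (Q A p f) := (isoZero p f).symm.isLocalRing
    have he : edim (Q A p f) = edim A := edim_eq_of_ringEquiv (isoZero p f)
    refine ⟨hloc, he.ge, ⟨fun _ => linearIndependent_empty_type, fun _ => he.symm⟩⟩
  | succ r ih =>
    intro A _ _ _ _ f
    obtain ⟨hloc₁, hle₁, hiff₁⟩ := ih (A1 p f) (f1 p f)
    haveI hloc : IsLocalRing (Q A p f) := (isoSucc p f).symm.isLocalRing
    have he : edim (Q A p f) = edim (Q (A1 p f) p (f1 p f)) := edim_eq_of_ringEquiv (isoSucc p f)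
    obtain ⟨hle₀, hiff₀⟩ := edim_PR p (f 0)
    have hL2 := linearIndependent_succ_iff p f
    refine ⟨hloc, by rw [he]; exact hle₀.trans hle₁, ?_⟩
    rw [he, hL2]
    constructor
    · intro h
      have h1 : edim A = edim (A1 p f) := le_antisymm hle₀ (h ▸ hle₁)
      have h2 : edim (A1 p f) = edim (Q (A1 p f) p (f1 p f)) := h1 ▸ h
      exact ⟨hiff₀.1 h1, hiff₁.1 h2⟩
    · rintro ⟨h1, h2⟩
      exact (hiff₀.2 h1).trans (hiff₁.2 h2)

end Induction

end Groth.Agent.Lib.Helper7.PRoot
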