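import Mathlib
import Groth.Agent.Lib.Helper7PRootMain
import Groth.Agent.Lib.Helper5IntDim
import Groth.Agent.Lib.Helper28RegLoc

/-!
Helper library (helper7): reduction of EGA 0_IV 22-type regularity criteria for
`A[T_i]/(T_i^p + p(...) - f_i)` over a regular local ring to the Artinian case `A/m²`.
-/

set_option autoImplicit false
set_option linter.style.haveILetI false
set_option linter.unusedSectionVars false
universe u
open IsLocalRing TensorProduct KaehlerDifferential
open scoped Classical

namespace Groth.Agent.Lib.Helper7.PRootReg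

open Groth.Agent.Lib.Helper7.PRoot Groth.Agent.Lib.Helper7.PRootDer Groth.Agent.Lib.Helper5

section General

/-- a ring mapping onto a local ring with kernel in the Jacobson radical is local -/
theorem isLocalRing_of_surjective_of_ker_le_jacobson {B B' : Type*} [CommRing B] [CommRing B']
    [IsLocalRing B'] (π : B →+* B') (hπ : Function.Surjective π)
    (hker : RingHom.ker π ≤ Ideal.jacobson ⊥) : IsLocalRing B := by
  haveI : IsLocalHom π := by
    constructor
    intro b hb
    obtain ⟨y, hy⟩ := hb.exists_right_inv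
    obtain ⟨b', rfl⟩ := hπ y
    have h1 : b * b' - 1 ∈ RingHom.ker π := by
      rw [RingHom.mem_ker, map_sub, map_mul, hy, map_one, sub_self]
    have h2 := Ideal.mem_jacobson_bot.1 (hker h1) 1
    rw [mul_one, sub_add_cancel] at h2
    exact isUnit_of_mul_isUnit_left h2
  exact RingHom.domain_isLocalRing π

variable {R : Type u} [CommRing R] [IsLocalRing R] [IsNoetherianRing R]

/-- quotients by ideals inside `m²` have the same embedding dimension -/
theorem edim_quotient_of_le_sq (I : Ideal R) (hI : I ≤ maximalIdeal R ^ 2)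
    [IsLocalRing (R ⧸ I)] : edim (R ⧸ I) = edim R := by
  have h := spanFinrank_maximalIdeal_quotient_add_finrank_cotV I
  have h0 : cotV I = ⊥ := by
    rw [cotV, Submodule.span_eq_bot]
    rintro _ ⟨z, hz, rfl⟩
    rw [Ideal.toCotangent_eq_zero]
    exact hI hz
  rw [h0, finrank_bot, add_zero] at h
  rw [edim_eq_spanFinrank, edim_eq_spanFinrank, h]

/-- a derivation killing an ideal descends to the quotient -/
theorem exists_derivation_quotient {A : Type u} [CommRing A] (J : Ideal A) {N : Type*}
    [AddCommGroup N] [Module A N] [Module (A ⧸ J) N] [IsScalarTower A (A ⧸ J) N]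
    (d : Derivation ℤ A N) (hd : ∀ x ∈ J, d x = 0) :
    ∃ d' : Derivation ℤ (A ⧸ J) N, ∀ a, d' (Ideal.Quotient.mk J a) = d a := by
  let L₀ : (A ⧸ J.restrictScalars ℤ) →ₗ[ℤ] N :=
    Submodule.liftQ (J.restrictScalars ℤ) d.toLinearMap (fun x hx => hd x hx)
  let L : (A ⧸ J) →ₗ[ℤ] N :=
    L₀.comp (Submodule.Quotient.restrictScalarsEquiv ℤ J).symm.toLinearMap
  have hL : ∀ a, L (Ideal.Quotient.mk J a) = d a := fun a => rfl
  refine ⟨Derivation.mk' L ?_, hL⟩
  intro x y
  obtain ⟨a, rfl⟩ := Ideal.Quotient.mk_surjective x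
  obtain ⟨b, rfl⟩ := Ideal.Quotient.mk_surjective y
  rw [← map_mul, hL, hL, hL, Derivation.leibniz, ← algebraMap_smul (A ⧸ J) a,
    ← algebraMap_smul (A ⧸ J) b]
  rfl

end General

section Setup

variable {A : Type u} [CommRing A] (p : ℕ) {r : ℕ} (c : Fin r → Fin p → A) (f : Fin r → A)

/-- the one-variable polynomial `g_i` -/
noncomputable def gpoly (i : Fin r) : Polynomial A :=
  Polynomial.X ^ p + (p : Polynomial A) * (Finset.univ.sum fun j : Fin p =>
    if (j : ℕ) = 0 then 0 else Polynomial.C (c i j) * Polynomial.X ^ (p - (j : ℕ))) -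
    Polynomial.C (f i)

/-- the polynomials `F_i` -/
noncomputable def Fpoly (i : Fin r) : MvPolynomial (Fin r) A :=
  MvPolynomial.X i ^ p + (p : MvPolynomial (Fin r) A) * (Finset.univ.sum fun j : Fin p =>
    if (j : ℕ) = 0 then 0 else MvPolynomial.C (c i j) * MvPolynomial.X i ^ (p - (j : ℕ))) -
    MvPolynomial.C (f i)

/-- the ring `B` -/
abbrev BB : Type u := MvPolynomial (Fin r) A ⧸ Ideal.span (Set.range (Fpoly p c f))

lemma degree_lower_lt [Fact p.Prime] (i : Fin r) :
    ((p : Polynomial A) * (Finset.univ.sum fun j : Fin p =>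
      if (j : ℕ) = 0 then 0 else Polynomial.C (c i j) * Polynomial.X ^ (p - (j : ℕ))) -
      Polynomial.C (f i)).degree < (p : WithBot ℕ) := by
  have hp : p.Prime := Fact.out
  rw [Polynomial.degree_lt_iff_coeff_zero]
  intro m hm
  have hm0 : m ≠ 0 := by have := hp.pos; omega
  rw [Polynomial.coeff_sub, ← Polynomial.C_eq_natCast, Polynomial.coeff_C_mul,
    Polynomial.finset_sum_coeff, Polynomial.coeff_C, if_neg hm0, sub_zero]
  rw [Finset.sum_eq_zero, mul_zero]
  intro j _
  split_ifs with hj
  · exact Polynomial.coeff_zero m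
  · rw [Polynomial.coeff_C_mul, Polynomial.coeff_X_pow, if_neg (by have := j.2; omega), mul_zero]

lemma gpoly_monic [Fact p.Prime] (i : Fin r) : (gpoly p c f i).Monic := by
  rw [gpoly, add_sub_assoc]
  exact Polynomial.monic_X_pow_add (degree_lower_lt p c f i)

lemma gpoly_degree [Fact p.Prime] [Nontrivial A] (i : Fin r) : (gpoly p c f i).degree = p := by
  rw [gpoly, add_sub_assoc, Polynomial.degree_add_eq_left_of_degree_lt, Polynomial.degree_X_pow]
  rw [Polynomial.degree_X_pow]
  exact degree_lower_lt p c f i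

lemma aeval_gpoly {S : Type*} [CommRing S] [Algebra A S] (x : S) (i : Fin r) :
    Polynomial.aeval x (gpoly p c f i) =
      x ^ p + (p : S) * (Finset.univ.sum fun j : Fin p =>
        if (j : ℕ) = 0 then 0 else algebraMap A S (c i j) * x ^ (p - (j : ℕ))) -
      algebraMap A S (f i) := by
  rw [gpoly, map_sub, map_add, map_mul, map_pow, Polynomial.aeval_X, map_natCast, map_sum,
    Polynomial.aeval_C]
  congr 3
  refine Finset.sum_congr rfl fun j _ => ?_
  split_ifs with hj
  · exact map_zero _
  · rw [map_mul, map_pow, Polynomial.aeval_X, Polynomial.aeval_C]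

lemma aeval_X_gpoly (i : Fin r) :
    Polynomial.aeval (MvPolynomial.X i : MvPolynomial (Fin r) A) (gpoly p c f i) =
      Fpoly p c f i := by
  rw [aeval_gpoly, Fpoly]
  rfl

/-- the class of `T_i` -/
noncomputable abbrev tt (i : Fin r) : BB p c f := Ideal.Quotient.mk _ (MvPolynomial.X i)

lemma aeval_tt (i : Fin r) : Polynomial.aeval (tt p c f i) (gpoly p c f i) = 0 := by
  have h := Polynomial.aeval_algHom_apply
    (Ideal.Quotient.mkₐ A (Ideal.span (Set.range (Fpoly p c f)))) (MvPolynomial.X i)
    (gpoly p c f i)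
  rw [aeval_X_gpoly] at h
  refine h.trans ?_
  exact Ideal.Quotient.eq_zero_iff_mem.2 (Ideal.subset_span ⟨i, rfl⟩)

lemma isIntegral_tt [Fact p.Prime] (i : Fin r) : IsIntegral A (tt p c f i) :=
  ⟨gpoly p c f i, gpoly_monic p c f i, aeval_tt p c f i⟩

instance isIntegral_BB [Fact p.Prime] : Algebra.IsIntegral A (BB p c f) := by
  constructor
  intro b
  obtain ⟨q, rfl⟩ := Ideal.Quotient.mk_surjective b
  induction q using MvPolynomial.induction_on with
  | C a => exact isIntegral_algebraMap (R := A) (A := BB p c f) (x := a)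
  | add q1 q2 h1 h2 => rw [map_add]; exact h1.add h2
  | mul_X q i h => rw [map_mul]; exact h.mul (isIntegral_tt p c f i)

/-- `A → B` is injective when `A` is a domain -/
theorem algebraMap_BB_injective [Fact p.Prime] [IsDomain A] :
    Function.Injective (algebraMap A (BB p c f)) := by
  let Ω := AlgebraicClosure (FractionRing A)
  have hroot : ∀ i, ∃ ρ : Ω, Polynomial.aeval ρ (gpoly p c f i) = 0 := by
    intro i
    have hm : ((gpoly p c f i).map (algebraMap A Ω)).Monic := (gpoly_monic p c f i).map _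
    have hdeg : ((gpoly p c f i).map (algebraMap A Ω)).degree ≠ 0 := by
      rw [Polynomial.degree_map_eq_of_leadingCoeff_ne_zero]
      · have hp : p.Prime := Fact.out
        rw [gpoly_degree]
        exact_mod_cast hp.ne_zero
      · rw [(gpoly_monic p c f i).leadingCoeff, map_one]; exact one_ne_zero
    obtain ⟨ρ, hρ⟩ := IsAlgClosed.exists_root _ hdeg
    refine ⟨ρ, ?_⟩
    rwa [Polynomial.IsRoot.def, Polynomial.eval_map, ← Polynomial.aeval_def] at hρ
  choose ρ hρ using hroot
  let φ₀ : MvPolynomial (Fin r) A →ₐ[A] Ω := MvPolynomial.aeval ρ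
  have hφ₀ : ∀ x ∈ Ideal.span (Set.range (Fpoly p c f)), φ₀ x = 0 := by
    have : Ideal.span (Set.range (Fpoly p c f)) ≤ RingHom.ker φ₀.toRingHom := by
      rw [Ideal.span_le]
      rintro _ ⟨i, rfl⟩
      rw [SetLike.mem_coe, RingHom.mem_ker]
      change φ₀ (Fpoly p c f i) = 0
      rw [← aeval_X_gpoly, ← Polynomial.aeval_algHom_apply, MvPolynomial.aeval_X]
      exact hρ i
    exact fun x hx => this hx
  let φ : BB p c f →ₐ[A] Ω := Ideal.Quotient.liftₐ _ φ₀ hφ₀
  have hinj : Function.Injective (algebraMap A Ω) := by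
    rw [IsScalarTower.algebraMap_eq A (FractionRing A) Ω]
    exact (algebraMap (FractionRing A) Ω).injective.comp (IsFractionRing.injective A _)
  intro a b hab
  apply hinj
  rw [← φ.commutes a, ← φ.commutes b, hab]

end Setup

section Reduce

variable {A : Type u} [CommRing A] (p : ℕ) {r : ℕ} (c : Fin r → Fin p → A) (f : Fin r → A)
  (J : Ideal A)

/-- the reduced elements -/
noncomputable abbrev fJ : Fin r → A ⧸ J := fun i => Ideal.Quotient.mk J (f i)

/-- reduction of coefficients -/
noncomputable abbrev mapJ : MvPolynomial (Fin r) A →+* MvPolynomial (Fin r) (A ⧸ J) :=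
  MvPolynomial.map (Ideal.Quotient.mk J)

lemma mapJ_Fpoly (hpJ : (p : A) ∈ J) (i : Fin r) :
    mapJ J (Fpoly p c f i) = MvPolynomial.X i ^ p - MvPolynomial.C (fJ f J i) := by
  have h0 : ((p : ℕ) : MvPolynomial (Fin r) (A ⧸ J)) = 0 := by
    rw [← map_natCast (MvPolynomial.C : (A ⧸ J) →+* MvPolynomial (Fin r) (A ⧸ J)),
      ← map_natCast (Ideal.Quotient.mk J), Ideal.Quotient.eq_zero_iff_mem.2 hpJ, map_zero]
  rw [Fpoly, map_sub, map_add, map_mul, map_pow, MvPolynomial.map_X, MvPolynomial.map_C,
    map_natCast, h0, zero_mul, add_zero]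

lemma map_span_Fpoly (hpJ : (p : A) ∈ J) :
    Ideal.map (mapJ J) (Ideal.span (Set.range (Fpoly p c f))) = QI (A ⧸ J) p (fJ f J) := by
  rw [Ideal.map_span, ← Set.range_comp, QI]
  congr 2
  funext i
  exact mapJ_Fpoly p c f J hpJ i

/-- the reduction map on polynomials -/
noncomputable def redPoly : MvPolynomial (Fin r) A →+* Q (A ⧸ J) p (fJ f J) :=
  (Ideal.Quotient.mk _).comp (mapJ J)

lemma redPoly_mem (hpJ : (p : A) ∈ J) (x : MvPolynomial (Fin r) A)
    (hx : x ∈ Ideal.span (Set.range (Fpoly p c f))) : redPoly p f J x = 0 := by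
  rw [redPoly, RingHom.comp_apply, Ideal.Quotient.eq_zero_iff_mem, ← map_span_Fpoly p c f J hpJ]
  exact Ideal.mem_map_of_mem _ hx

/-- the reduction map `B → B'` -/
noncomputable def red (hpJ : (p : A) ∈ J) : BB p c f →+* Q (A ⧸ J) p (fJ f J) :=
  Ideal.Quotient.lift _ (redPoly p f J) (redPoly_mem p c f J hpJ)

lemma red_surjective (hpJ : (p : A) ∈ J) : Function.Surjective (red p c f J hpJ) := by
  apply Ideal.Quotient.lift_surjective_of_surjective
  exact Ideal.Quotient.mk_surjective.comp
    (MvPolynomial.map_surjective _ Ideal.Quotient.mk_surjective)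

lemma ker_red_le (hpJ : (p : A) ∈ J) :
    RingHom.ker (red p c f J hpJ) ≤ J.map (algebraMap A (BB p c f)) := by
  intro b hb
  obtain ⟨q, rfl⟩ := Ideal.Quotient.mk_surjective b
  rw [RingHom.mem_ker, red, Ideal.Quotient.lift_mk, redPoly, RingHom.comp_apply,
    Ideal.Quotient.eq_zero_iff_mem, ← map_span_Fpoly p c f J hpJ,
    Ideal.mem_map_iff_of_surjective _
      (MvPolynomial.map_surjective _ Ideal.Quotient.mk_surjective)] at hb
  obtain ⟨q₀, hq₀, hq₀q⟩ := hb
  have hk : RingHom.ker (mapJ (r := r) J) =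
      J.map (MvPolynomial.C : A →+* MvPolynomial (Fin r) A) := by
    rw [mapJ, MvPolynomial.ker_map, Ideal.mk_ker]
  have h1 : q - q₀ ∈ J.map (MvPolynomial.C : A →+* MvPolynomial (Fin r) A) := by
    rw [← hk, RingHom.mem_ker, map_sub, ← hq₀q, sub_self]
  have h2 : Ideal.Quotient.mk (Ideal.span (Set.range (Fpoly p c f))) q =
      Ideal.Quotient.mk _ (q - q₀) := by
    rw [map_sub, Ideal.Quotient.eq_zero_iff_mem.2 hq₀, sub_zero]
  rw [h2]
  have h3 := Ideal.mem_map_of_mem (Ideal.Quotient.mk (Ideal.span (Set.range (Fpoly p c f)))) h1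
  rw [Ideal.map_map] at h3
  exact h3

end Reduce

section Compare

variable {A : Type u} [CommRing A] [IsLocalRing A] (J : Ideal A)

/-- linear independence of differentials is insensitive to dividing by an ideal inside `m²` -/
theorem linearIndependent_quotient_iff (hJ : J ≤ maximalIdeal A ^ 2) [IsLocalRing (A ⧸ J)]
    {ι : Type*} (g : ι → A) :
    LinearIndependent (ResidueField A) (fun i => (1 : ResidueField A) ⊗ₜ[A] D ℤ A (g i)) ↔
      LinearIndependent (ResidueField (A ⧸ J))
        (fun i => (1 : ResidueField (A ⧸ J)) ⊗ₜ[A ⧸ J]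
          D ℤ (A ⧸ J) (Ideal.Quotient.mk J (g i))) := by
  haveI : IsLocalHom (algebraMap A (A ⧸ J)) :=
    IsLocalHom.of_surjective _ Ideal.Quotient.mk_surjective
  constructor
  · intro hli
    apply linearIndependent_of_derivations (A := A ⧸ J) (K := ResidueField (A ⧸ J))
      (F := ResidueField (A ⧸ J))
    intro j
    obtain ⟨d, hd1, hd0⟩ := exists_derivation_of_linearIndependent g hli j
    let d₁ : Derivation ℤ A (ResidueField (A ⧸ J)) :=
      ((Algebra.linearMap (ResidueField A) (ResidueField (A ⧸ J))).restrictScalars A).compDer d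
    have hd₁ : ∀ a, d₁ a = algebraMap (ResidueField A) (ResidueField (A ⧸ J)) (d a) :=
      fun a => rfl
    have hkill : ∀ x ∈ J, d₁ x = 0 := by
      intro x hx
      rw [hd₁, derivation_sq_eq_zero d (hJ hx), map_zero]
    obtain ⟨d', hd'⟩ := exists_derivation_quotient J d₁ hkill
    refine ⟨d', ?_, ?_⟩
    · refine (hd' _).trans ?_
      rw [hd₁, hd1, map_one]
    · intro i hij
      refine (hd' _).trans ?_
      rw [hd₁, hd0 i hij, map_zero]
  · intro hli
    apply linearIndependent_of_derivations (A := A) (K := ResidueField A)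
      (F := ResidueField (A ⧸ J)) g
    intro j
    obtain ⟨d', hd1, hd0⟩ := exists_derivation_of_linearIndependent
      (A := A ⧸ J) (K := ResidueField (A ⧸ J)) (fun i => Ideal.Quotient.mk J (g i)) hli j
    exact ⟨d'.compAlgebraMap A, hd1, hd0⟩

end Compare

section Final

/-- EGA 0_IV 22-type criterion over a regular local ring -/
theorem main_reg {A : Type u} [CommRing A] [IsRegularLocalRing A] (p : ℕ) [Fact p.Prime]
    {r : ℕ} (c : Fin r → Fin p → A) (f : Fin r → A) (hp : (p : A) ∈ maximalIdeal A ^ 2) :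
    IsLocalRing (BB p c f) ∧ (IsRegularRing (BB p c f) ↔
      LinearIndependent (ResidueField A)
        (fun i => (1 : ResidueField A) ⊗ₜ[A] D ℤ A (f i))) := by
  set J : Ideal A := maximalIdeal A ^ 2 with hJdef
  haveI : IsDomain A := isDomain_of_isRegularLocalRing A
  have hJm : J ≤ maximalIdeal A := Ideal.pow_le_self two_ne_zero
  have hJtop : J ≠ ⊤ := fun h => (maximalIdeal.isMaximal A).ne_top (top_le_iff.1 (h ▸ hJm))
  haveI hlocA' : IsLocalRing (A ⧸ J) := isLocalRing_quotient hJtop
  haveI : IsArtinianRing (A ⧸ J) := by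
    rw [isArtinianRing_iff_isNilpotent_maximalIdeal]
    refine ⟨2, ?_⟩
    rw [maximalIdeal_quotient_eq_map, ← Ideal.map_pow, Ideal.zero_eq_bot,
      Ideal.map_quotient_self]
  haveI : CharP (A ⧸ J) p := by
    apply Groth.Agent.Lib.Helper7.PPow.charP_of_cast_eq_zero
    rw [← map_natCast (Ideal.Quotient.mk J)]
    exact Ideal.Quotient.eq_zero_iff_mem.2 hp
  obtain ⟨hlocB', hle, hiff⟩ := main p r (A ⧸ J) (fJ f J)
  -- `B` is local
  have hjac : (maximalIdeal A).map (algebraMap A (BB p c f)) ≤ Ideal.jacobson ⊥ := by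
    rw [Ideal.jacobson]
    apply le_sInf
    rintro M ⟨-, hM⟩
    rw [Ideal.map_le_iff_le_comap]
    haveI := hM
    have := Ideal.isMaximal_comap_of_isIntegral_of_isMaximal (R := A) M
    exact (IsLocalRing.eq_maximalIdeal this).ge
  have hkerJ := ker_red_le p c f J hp
  have hJm' : J.map (algebraMap A (BB p c f)) ≤ (maximalIdeal A).map (algebraMap A (BB p c f)) :=
    Ideal.map_mono hJm
  haveI hlocB : IsLocalRing (BB p c f) :=
    isLocalRing_of_surjective_of_ker_le_jacobson (red p c f J hp) (red_surjective p c f J hp)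
      (hkerJ.trans (hJm'.trans hjac))
  have hmB : (maximalIdeal A).map (algebraMap A (BB p c f)) ≤ maximalIdeal (BB p c f) := by
    refine hjac.trans ?_
    rw [IsLocalRing.jacobson_eq_maximalIdeal _ bot_ne_top]
  have hkersq : RingHom.ker (red p c f J hp) ≤ maximalIdeal (BB p c f) ^ 2 := by
    refine hkerJ.trans ?_
    rw [hJdef, Ideal.map_pow]
    exact Ideal.pow_right_mono hmB 2
  haveI : IsLocalRing (BB p c f ⧸ RingHom.ker (red p c f J hp)) :=
    isLocalRing_quotient (RingHom.ker_ne_top _)
  have e1 : edim (BB p c f ⧸ RingHom.ker (red p c f J hp)) = edim (BB p c f) :=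
    edim_quotient_of_le_sq _ hkersq
  have e2 : edim (BB p c f ⧸ RingHom.ker (red p c f J hp)) = edim (Q (A ⧸ J) p (fJ f J)) :=
    edim_eq_of_ringEquiv (RingHom.quotientKerEquivOfSurjective (red_surjective p c f J hp))
  have e3 : edim (A ⧸ J) = edim A := edim_quotient_of_le_sq J le_rfl
  have hdim : ringKrullDim (BB p c f) = ringKrullDim A :=
    ringKrullDim_eq_of_isIntegral_of_injective A (BB p c f) (algebraMap_BB_injective p c f)
  have hregA : ((edim A : ℕ) : WithBot ℕ∞) = ringKrullDim A :=
    (IsRegularLocalRing.iff_finrank_cotangentSpace A).1 inferInstance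
  have hLI := linearIndependent_quotient_iff J le_rfl f
  refine ⟨hlocB, ?_⟩
  refine Iff.trans ?_ (hiff.trans hLI.symm)
  constructor
  · intro hreg
    haveI := hreg
    have hB : IsRegularLocalRing (BB p c f) :=
      IsRegularLocalRing.of_isRegularRing_of_isLocalRing (BB p c f)
    have h1 : ((edim (BB p c f) : ℕ) : WithBot ℕ∞) = ringKrullDim (BB p c f) :=
      (IsRegularLocalRing.iff_finrank_cotangentSpace (BB p c f)).1 hB
    rw [hdim, ← hregA] at h1
    have h2 : edim (BB p c f) = edim A := by exact_mod_cast h1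
    omega
  · intro h
    have h2 : edim (BB p c f) = edim A := by omega
    have hB : IsRegularLocalRing (BB p c f) := by
      rw [IsRegularLocalRing.iff_finrank_cotangentSpace, hdim, ← hregA]
      exact_mod_cast h2
    exact isRegularRing_iff.2 (fun q _ =>
      Groth.Agent.Lib.Helper28.isRegularLocalRing_localization_of_isRegularLocalRing _ q)

end Final

end Groth.Agent.Lib.Helper7.PRootReg
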