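import Mathlib
import Groth.Prelude.Def_Hens2
import Groth.Prelude.Def_Hensel
import Groth.Agent.Lib.Helper26PairHzUnique

/-!
# Local rings of a pair henselization vs. henselizations of local rings (helper7)

If `B` is a henselization of the pair `(A, I)`, `n` a maximal ideal of `B` and `m = n ∩ A`, then any
henselization of `B_n` is a henselization of `A_m`.
-/

set_option autoImplicit false
set_option linter.style.haveILetI false
set_option linter.unusedSectionVars false
universe u

namespace Groth.Agent.Lib.Helper7.PairHzG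

open IsLocalRing

theorem isHenselization_of_pair
    {A B : Type u} [CommRing A] [CommRing B] [Algebra A B] {I : Ideal A}
    (hB : Hens2.IsPairHenselization A I B) (n : Ideal B) [hn : n.IsMaximal] (m : Ideal A) [m.IsPrime]
    (hm : m = n.comap (algebraMap A B))
    (Am Bn S : Type u) [CommRing Am] [CommRing Bn] [CommRing S] [Algebra A Am] [Algebra B Bn]
    [IsLocalization.AtPrime Am m] [IsLocalization.AtPrime Bn n]
    [IsLocalRing Am] [IsLocalRing Bn] [IsLocalRing S]
    [Algebra Bn S] [IsLocalHom (algebraMap Bn S)] [Hensel.IsHenselization Bn S]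
    [Algebra Am S] [IsLocalHom (algebraMap Am S)]
    (hcomm : (algebraMap Am S).comp (algebraMap A Am) =
      ((algebraMap Bn S).comp (algebraMap B Bn)).comp (algebraMap A B)) :
    Hensel.IsHenselization Am S := by
  refine ⟨Hensel.IsHenselization.henselian (R := Bn), ?_⟩
  intro T _ _ f hf
  have hjac : I.map (algebraMap A B) ≤ n :=
    le_trans hB.1.jac (sInf_le ⟨bot_le, hn⟩)
  have hIm : I ≤ m := by rw [hm]; exact Ideal.map_le_iff_le_comap.mp hjac
  set f₀ : A →+* T := f.comp (algebraMap A Am) with hf₀def
  have hmem : ∀ a : A, f₀ a ∈ maximalIdeal T ↔ a ∈ m := by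
    intro a
    rw [hf₀def, RingHom.comp_apply, mem_maximalIdeal, map_mem_nonunits_iff f, ← mem_maximalIdeal,
      IsLocalization.AtPrime.to_map_mem_maximal_iff Am m]
  have hf₀ : I.map f₀ ≤ maximalIdeal T := by
    rw [Ideal.map_le_iff_le_comap]
    intro a ha
    exact (hmem a).mpr (hIm ha)
  obtain ⟨g₀, hg₀, hg₀u⟩ := hB.2 T (maximalIdeal T) f₀ inferInstance hf₀
  -- the preimage of the maximal ideal of `T` under `g₀` is `n`
  have hsurj := (Groth.Agent.Lib.Helper26.PairHz.quotientMap_pow_bijective hB 1).2
  have hP : ∀ b : B, g₀ b ∈ maximalIdeal T ↔ b ∈ n := by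
    intro b
    obtain ⟨a', ha'⟩ := hsurj (Ideal.Quotient.mk _ b)
    obtain ⟨a, rfl⟩ := Ideal.Quotient.mk_surjective a'
    rw [Ideal.quotientMap_mk, Ideal.Quotient.eq, pow_one] at ha'
    have h1 : g₀ (algebraMap A B a - b) ∈ maximalIdeal T := by
      have : I.map (algebraMap A B) ≤ (maximalIdeal T).comap g₀ := by
        rw [Ideal.map_le_iff_le_comap]
        intro x hx
        have := (hmem x).mpr (hIm hx)
        rw [← hg₀] at this
        exact this
      exact this ha'
    have h2 : algebraMap A B a - b ∈ n := hjac ha'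
    have h3 : g₀ (algebraMap A B a) ∈ maximalIdeal T ↔ algebraMap A B a ∈ n := by
      have : g₀ (algebraMap A B a) = f₀ a := by rw [← hg₀]; rfl
      rw [this, hmem a, hm]; rfl
    constructor
    · intro hb
      have : g₀ (algebraMap A B a) ∈ maximalIdeal T := by
        have := Ideal.add_mem _ h1 hb
        rwa [← map_add, sub_add_cancel] at this
      have := h3.mp this
      have := Ideal.sub_mem _ this h2
      rwa [sub_sub_cancel] at this
    · intro hb
      have : algebraMap A B a ∈ n := by
        have := Ideal.add_mem _ h2 hb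
        rwa [sub_add_cancel] at this
      have := h3.mpr this
      have := Ideal.sub_mem _ this h1
      rwa [← map_sub, sub_sub_cancel] at this
  have hunit : ∀ y : n.primeCompl, IsUnit (g₀ y) := by
    intro y
    by_contra hy
    exact y.2 ((hP y).mp ((mem_maximalIdeal _).mpr hy))
  set g₁ : Bn →+* T := IsLocalization.lift (M := n.primeCompl) (S := Bn) hunit with hg₁def
  have hg₁ : g₁.comp (algebraMap B Bn) = g₀ := IsLocalization.lift_comp hunit
  haveI hg₁loc : IsLocalHom g₁ := by
    refine ⟨fun x hx => ?_⟩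
    obtain ⟨b, s, rfl⟩ := IsLocalization.exists_mk'_eq n.primeCompl x
    have h1 : g₁ (IsLocalization.mk' Bn b s) * g₀ s = g₀ b := by
      rw [← hg₁, RingHom.comp_apply, RingHom.comp_apply, ← map_mul, IsLocalization.mk'_spec]
    have hb : IsUnit (g₀ b) := by
      rw [← h1]; exact hx.mul (hunit s)
    rw [IsLocalization.AtPrime.isUnit_mk'_iff Bn n]
    intro hbn
    exact ((mem_maximalIdeal _).mp ((hP b).mpr hbn)) hb
  obtain ⟨g, hg, hgu⟩ := Hensel.IsHenselization.universal (R := Bn) (S := S) T g₁ hg₁loc
  refine ⟨g, ?_, ?_⟩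
  · show g.comp (algebraMap Am S) = f
    apply IsLocalization.ringHom_ext m.primeCompl
    rw [RingHom.comp_assoc, hcomm, ← RingHom.comp_assoc, ← RingHom.comp_assoc, hg, hg₁, hg₀]
  · intro g' hg'
    apply hgu
    apply IsLocalization.ringHom_ext n.primeCompl
    rw [hg₁]
    apply hg₀u
    rw [RingHom.comp_assoc, RingHom.comp_assoc, ← RingHom.comp_assoc (algebraMap A B), ← hcomm,
      ← RingHom.comp_assoc, hg']

end Groth.Agent.Lib.Helper7.PairHzG
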