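import Mathlib

/-!
Helper library (helper7): faithful flatness of `R → R_perf` when Frobenius is flat.
-/

set_option autoImplicit false
set_option linter.style.haveILetI false
set_option linter.unusedSectionVars false
universe u

namespace Groth.Agent.Lib.Helper7.PerfFlat

section General

variable {A B : Type*} [CommRing A] [CommRing B]

/-- a ring map along which the target is free on a family is flat -/
theorem flat_of_bijective (f : A →+* B) {J : Type*} (m : J → B)
    (h : Function.Bijective (fun c : J →₀ A => c.sum (fun e r => f r * m e))) : f.Flat := by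
  algebraize [f]
  have hlin : ∀ c : J →₀ A, Finsupp.linearCombination A m c = c.sum (fun e r => f r * m e) := by
    intro c
    rw [Finsupp.linearCombination_apply]
    refine Finsupp.sum_congr fun e _ => ?_
    rw [Algebra.smul_def]; rfl
  have hb : Function.Bijective (Finsupp.linearCombination A m) := by
    have : (Finsupp.linearCombination A m : (J →₀ A) → B) =
        fun c : J →₀ A => c.sum (fun e r => f r * m e) := funext hlin
    rw [this]; exact h
  haveI : Module.Free A B :=
    Module.Free.of_equiv (LinearEquiv.ofBijective (Finsupp.linearCombination A m) hb)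
  exact (inferInstance : Module.Flat A B)

/-- the equational criterion along a flat ring map -/
theorem exists_trivial_of_flat (g : A →+* B) (hg : g.Flat) {l : ℕ} (f : Fin l → A) (r : Fin l → B)
    (h : ∑ i, g (f i) * r i = 0) :
    ∃ (k : ℕ) (a : Fin l → Fin k → A) (y : Fin k → B),
      (∀ i, r i = ∑ j, g (a i j) * y j) ∧ ∀ j, ∑ i, f i * a i j = 0 := by
  algebraize [g]
  have hrel : ∑ i, f i • r i = 0 := by
    rw [← h]
    refine Finset.sum_congr rfl fun i _ => ?_
    rw [Algebra.smul_def]; rfl
  obtain ⟨k, a, y, hy, ha⟩ := Module.Flat.isTrivialRelation_of_sum_smul_eq_zero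
    (R := A) (M := B) (f := f) (x := r) hrel
  refine ⟨k, a, y, fun i => ?_, ha⟩
  rw [hy i]
  refine Finset.sum_congr rfl fun j _ => ?_
  rw [Algebra.smul_def]; rfl

end General

section Perf

variable (p : ℕ) [Fact p.Prime] (R : Type u) [CommRing R] [CharP R p]

theorem iterateFrobenius_flat [ExpChar R p] (h : (frobenius R p).Flat) (n : ℕ) :
    (iterateFrobenius R p n).Flat := by
  induction n with
  | zero => rw [iterateFrobenius_zero]; exact RingHom.Flat.id R
  | succ n ih =>
    have : iterateFrobenius R p (n + 1) = (frobenius R p).comp (iterateFrobenius R p n) := by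
      rw [add_comm, iterateFrobenius_add, iterateFrobenius_one]
    rw [this]
    exact RingHom.Flat.comp ih h

/-- the `p^n`-th root map `R → R_perf` -/
noncomputable def root (n : ℕ) : R →+* PerfectClosure R p :=
  ((iterateFrobeniusEquiv (PerfectClosure R p) p n).symm : PerfectClosure R p →+* _).comp
    (PerfectClosure.of R p)

lemma root_pow (n : ℕ) (r : R) : (root p R n r) ^ p ^ n = PerfectClosure.of R p r := by
  have := (iterateFrobeniusEquiv (PerfectClosure R p) p n).apply_symm_apply (PerfectClosure.of R p r)
  rwa [iterateFrobeniusEquiv_def] at this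

lemma pow_injective (n : ℕ) : Function.Injective (fun z : PerfectClosure R p => z ^ p ^ n) :=
  (iterateFrobeniusEquiv (PerfectClosure R p) p n).injective

lemma root_eq_mk (n : ℕ) (r : R) : root p R n r = PerfectClosure.mk R p (n, r) := by
  apply pow_injective p R n
  change (root p R n r) ^ p ^ n = (PerfectClosure.mk R p (n, r)) ^ p ^ n
  rw [root_pow, ← PerfectClosure.iterate_frobenius_mk, iterate_frobenius]

lemma root_pow_eq_of (n : ℕ) (r : R) : root p R n (r ^ p ^ n) = PerfectClosure.of R p r := by
  rw [map_pow, root_pow]

lemma mk_eq_mk_add (n j : ℕ) (r : R) :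
    PerfectClosure.mk R p (n, r) = PerfectClosure.mk R p (n + j, r ^ p ^ j) := by
  rw [← root_eq_mk, ← root_eq_mk]
  apply pow_injective p R (n + j)
  change (root p R n r) ^ p ^ (n + j) = (root p R (n + j) (r ^ p ^ j)) ^ p ^ (n + j)
  rw [root_pow, pow_add, pow_mul, root_pow, map_pow]

variable [IsReduced R]

lemma of_injective : Function.Injective (PerfectClosure.of R p) := by
  intro a b h
  rw [PerfectClosure.of_apply, PerfectClosure.of_apply, PerfectClosure.eq_iff] at h
  simpa using h

lemma root_injective (n : ℕ) : Function.Injective (root p R n) := by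
  intro a b h
  apply of_injective p R
  rw [← root_pow p R n a, ← root_pow p R n b, h]

theorem of_flat (h : (frobenius R p).Flat) : (PerfectClosure.of R p).Flat := by
  classical
  haveI : ExpChar R p := ExpChar.prime Fact.out
  algebraize [PerfectClosure.of R p]
  have hsmul : ∀ (a : R) (z : PerfectClosure R p), a • z = PerfectClosure.of R p a * z := by
    intro a z
    rw [Algebra.smul_def]; rfl
  apply Module.Flat.of_forall_isTrivialRelation
  intro l f x hrel
  -- common level
  choose nx hx using fun i => PerfectClosure.mk_surjective R p (x i)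
  let N : ℕ := Finset.univ.sup fun i => (nx i).1
  have hN : ∀ i, (nx i).1 ≤ N := fun i => Finset.le_sup (f := fun i => (nx i).1) (Finset.mem_univ i)
  let r : Fin l → R := fun i => (nx i).2 ^ p ^ (N - (nx i).1)
  have hxr : ∀ i, x i = root p R N (r i) := by
    intro i
    rw [root_eq_mk, ← hx i]
    have := mk_eq_mk_add p R (nx i).1 (N - (nx i).1) (nx i).2
    rw [Nat.add_sub_cancel' (hN i)] at this
    exact this
  have hsum : ∑ i, iterateFrobenius R p N (f i) * r i = 0 := by
    apply root_injective p R N
    rw [map_sum, map_zero, ← hrel]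
    refine Finset.sum_congr rfl fun i _ => ?_
    rw [map_mul, iterateFrobenius_def, root_pow_eq_of, hsmul, hxr i]
  obtain ⟨k, a, y, hy, ha⟩ := exists_trivial_of_flat (iterateFrobenius R p N)
    (iterateFrobenius_flat p R h N) f r hsum
  refine ⟨k, a, fun j => root p R N (y j), fun i => ?_, ha⟩
  rw [hxr i, hy i, map_sum]
  refine Finset.sum_congr rfl fun j _ => ?_
  rw [map_mul, iterateFrobenius_def, root_pow_eq_of, hsmul]

theorem of_isIntegral : (PerfectClosure.of R p).IsIntegral := by
  intro z
  obtain ⟨⟨n, r⟩, rfl⟩ := PerfectClosure.mk_surjective R p z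
  refine ⟨Polynomial.X ^ p ^ n - Polynomial.C r,
    Polynomial.monic_X_pow_sub_C r (pow_ne_zero n (Fact.out : p.Prime).ne_zero), ?_⟩
  rw [Polynomial.eval₂_sub, Polynomial.eval₂_pow, Polynomial.eval₂_X, Polynomial.eval₂_C,
    ← root_eq_mk, root_pow, sub_self]

theorem of_faithfullyFlat (h : (frobenius R p).Flat) : (PerfectClosure.of R p).FaithfullyFlat := by
  rw [RingHom.FaithfullyFlat.iff_flat_and_comap_surjective]
  exact ⟨of_flat p R h, (of_isIntegral p R).comap_surjective (of_injective p R)⟩

end Perf

end Groth.Agent.Lib.Helper7.PerfFlat
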