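import Groth.Prelude.Def_W4sga6xxiiiPolyMap
import Mathlib.Algebra.Group.ForwardDiff
import Mathlib.Algebra.Polynomial.Roots
import Mathlib.RingTheory.Polynomial.Pochhammer
import Mathlib.Tactic

open Polynomial

namespace Groth.Agent.Lib.Helper7

/-- Integer binomial coefficients as values of the falling factorial polynomial. -/
lemma choose_cast_eq (c : ℤ) (k : ℕ) :
    ((Ring.choose c k : ℤ) : ℚ) = (descPochhammer ℚ k).eval (c : ℚ) / (k.factorial : ℚ) := by
  have h1 := Ring.descPochhammer_eq_factorial_smul_choose c k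
  rw [← Polynomial.eval_eq_smeval] at h1
  have h2 : (descPochhammer ℚ k).eval (c : ℚ) = (((descPochhammer ℤ k).eval c : ℤ) : ℚ) := by
    rw [← descPochhammer_map (Int.castRingHom ℚ), Polynomial.eval_intCast_map]
    simp
  rw [h2, h1]
  have : (k.factorial : ℚ) ≠ 0 := by exact_mod_cast Nat.factorial_ne_zero k
  rw [nsmul_eq_mul]
  push_cast
  field_simp

/-- A polynomial map restricted to a cyclic subgroup is given by a rational polynomial. -/
lemma exists_poly_of_isPolyMap {G : Type*} [AddCommGroup G] (f : G → ℚ)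
    (hf : W4sga6xxiii.IsPolyMap f) (w : G) :
    ∃ P : ℚ[X], ∀ c : ℤ, f (c • w) = P.eval (c : ℚ) := by
  obtain ⟨m, y, -, hy⟩ := hf 1 (fun _ => w)
  refine ⟨∑ k : Fin 1 → Fin (m + 1),
    C (y k / ((k 0 : ℕ).factorial : ℚ)) * descPochhammer ℚ (k 0 : ℕ), fun c => ?_⟩
  have := hy (fun _ => c)
  simp only [Finset.univ_unique, Fin.default_eq_zero, Finset.sum_singleton,
    Finset.prod_singleton] at this
  rw [this, Polynomial.eval_finsetSum]
  refine Finset.sum_congr rfl (fun k _ => ?_)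
  rw [zsmul_eq_mul, choose_cast_eq, eval_mul, eval_C]
  ring

/-- `d! * leadingCoeff` of an integer-valued polynomial is an integer. -/
lemma exists_int_leadingCoeff_mul_factorial (Q : ℚ[X]) (hQ : ∀ c : ℕ, ∃ z : ℤ, Q.eval (c : ℚ) = z) :
    ∃ z : ℤ, Q.leadingCoeff * (Q.natDegree.factorial : ℚ) = z := by
  have h := congrFun (Polynomial.fwdDiff_iter_degree_eq_factorial Q) 0
  rw [fwdDiff_iter_eq_sum_shift] at h
  simp only [Pi.smul_apply, Pi.natCast_apply, smul_eq_mul, zero_add, nsmul_eq_mul, mul_one] at h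
  rw [← h]
  choose z hz using hQ
  refine ⟨∑ k ∈ Finset.range (Q.natDegree + 1),
    ((-1 : ℤ) ^ (Q.natDegree - k) * (Q.natDegree.choose k : ℤ)) * z k, ?_⟩
  push_cast
  refine Finset.sum_congr rfl (fun k _ => ?_)
  rw [hz k]
  simp [zsmul_eq_mul]

theorem polyMap_const {G : Type*} [AddCommGroup G] (G' : AddSubgroup G)
    (p : ℕ) (hp : p.Prime) (hdiv : ∀ x ∈ G', ∃ y ∈ G', p • y = x)
    (htor : ∀ x : G, ∃ n : ℤ, n ≠ 0 ∧ n • x ∈ G')
    (f : G → ℚ) (hf : W4sga6xxiii.IsPolyMap f) (hint : ∀ x, ∃ z : ℤ, f x = z) (x : G) :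
    f x = f 0 := by
  obtain ⟨n, hn0, hnx⟩ := htor x
  have hchain : ∀ j : ℕ, ∃ z ∈ G', (p ^ j) • z = n • x := by
    intro j
    induction j with
    | zero => exact ⟨n • x, hnx, by simp⟩
    | succ j ih =>
      obtain ⟨z, hz, hzj⟩ := ih
      obtain ⟨z', hz', hpz'⟩ := hdiv z hz
      exact ⟨z', hz', by rw [pow_succ, mul_smul, hpz', hzj]⟩
  obtain ⟨P, hP⟩ := exists_poly_of_isPolyMap f hf x
  set R : ℚ[X] := P.comp (C (n : ℚ) * X) with hR
  have hRe : ∀ c : ℤ, R.eval (c : ℚ) = f (c • (n • x)) := by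
    intro c
    rw [hR, eval_comp, eval_mul, eval_C, eval_X, smul_smul, hP]
    push_cast
    ring_nf
  have hnQ : (n : ℚ) ≠ 0 := by exact_mod_cast hn0
  have hdeg : R.natDegree = P.natDegree := by
    rw [hR, natDegree_comp, natDegree_C_mul_X _ hnQ, mul_one]
  have hRint : ∀ c : ℕ, ∃ z : ℤ, R.eval (c : ℚ) = z := by
    intro c
    obtain ⟨z, hz⟩ := hint ((c : ℤ) • (n • x))
    refine ⟨z, ?_⟩
    rw [← hz, ← hRe]
    simp
  have key : R.natDegree = 0 := by
    by_contra hd
    obtain ⟨z0, hz0⟩ := exists_int_leadingCoeff_mul_factorial R hRint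
    have hdvd : ∀ j : ℕ, ((p : ℤ) ^ j) ∣ z0 := by
      intro j
      obtain ⟨z, hz, hzj⟩ := hchain j
      obtain ⟨Q, hQ⟩ := exists_poly_of_isPolyMap f hf z
      have hpj : ((p : ℚ) ^ j) ≠ 0 := pow_ne_zero _ (by exact_mod_cast hp.ne_zero)
      have hRQ : R = Q.comp (C ((p : ℚ) ^ j) * X) := by
        apply Polynomial.eq_of_infinite_eval_eq
        refine Set.Infinite.mono ?_ (Set.infinite_range_of_injective (Int.cast_injective (α := ℚ)))
        rintro _ ⟨c, rfl⟩
        show eval (c : ℚ) R = eval (c : ℚ) (Q.comp _)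
        rw [hRe, eval_comp, eval_mul, eval_C, eval_X]
        have e1 : ((p : ℚ) ^ j) * (c : ℚ) = (((p : ℤ) ^ j * c : ℤ) : ℚ) := by push_cast; ring
        rw [e1, ← hQ]
        congr 1
        rw [← hzj, mul_comm, mul_smul]
        congr 1
        rw [← natCast_zsmul]
        push_cast
        rfl
      have hdQ : Q.natDegree = R.natDegree := by
        rw [hRQ, natDegree_comp, natDegree_C_mul_X _ hpj, mul_one]
      have hlc : R.leadingCoeff = Q.leadingCoeff * ((p : ℚ) ^ j) ^ R.natDegree := by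
        conv_lhs => rw [hRQ]
        rw [leadingCoeff_comp (by rw [natDegree_C_mul_X _ hpj]; exact one_ne_zero),
          leadingCoeff_mul, leadingCoeff_C, leadingCoeff_X, mul_one, hdQ]
      obtain ⟨zj, hzj'⟩ := exists_int_leadingCoeff_mul_factorial Q (fun c => by
        obtain ⟨w, hw⟩ := hint ((c : ℤ) • z)
        exact ⟨w, by rw [← hw, hQ]; simp⟩)
      have e2 : (z0 : ℚ) = (zj : ℚ) * ((p : ℚ) ^ j) ^ R.natDegree := by
        rw [← hz0, hlc, ← hzj', hdQ]; ring
      have e3 : z0 = zj * ((p : ℤ) ^ j) ^ R.natDegree := by exact_mod_cast e2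
      rw [e3]
      exact Dvd.dvd.mul_left (dvd_pow_self _ hd) _
    have hz00 : z0 = 0 := by
      apply Int.eq_zero_of_abs_lt_dvd (hdvd z0.natAbs)
      have h1 : z0.natAbs < p ^ z0.natAbs := Nat.lt_pow_self hp.one_lt
      have h2 : |z0| = (z0.natAbs : ℤ) := Int.abs_eq_natAbs z0
      rw [h2]
      exact_mod_cast h1
    rw [hz00] at hz0
    have hfac : (R.natDegree.factorial : ℚ) ≠ 0 := by exact_mod_cast Nat.factorial_ne_zero _
    have hl0 : R.leadingCoeff = 0 := by
      have := hz0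
      simp only [Int.cast_zero, mul_eq_zero] at this
      exact this.resolve_right hfac
    rw [leadingCoeff_eq_zero] at hl0
    rw [hl0] at hd
    simp at hd
  have hP0 : P.natDegree = 0 := by rw [← hdeg]; exact key
  have hPc : P = C (P.coeff 0) := eq_C_of_natDegree_eq_zero hP0
  have h1 := hP 1
  have h0 := hP 0
  rw [one_smul] at h1
  rw [zero_smul] at h0
  rw [h1, h0, hPc]
  simp

end Groth.Agent.Lib.Helper7
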