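import Mathlib

open CategoryTheory CategoryTheory.Limits Opposite

universe u

namespace Groth.Agent.Lib.Helper7.ProRep

variable {C : Type u} [SmallCategory C] (F : C ⥤ Type u)

/-- An element `(X, ξ)` is minimal if `ξ` does not come from a proper subobject of `X`. -/
def IsMin (e : F.Elements) : Prop :=
  ∀ ⦃Y : C⦄ (i : Y ⟶ e.1), Mono i → e.2 ∈ Set.range (F.map i) → IsIso i

lemma exists_isMin_hom (hart : ∀ X : C, IsArtinianObject X) (e : F.Elements) :
    ∃ e' : F.Elements, IsMin F e' ∧ Nonempty (e' ⟶ e) := by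
  obtain ⟨X, ξ⟩ := e
  have := hart X
  let S : Set (Subobject X) := {s | ξ ∈ Set.range (F.map s.arrow)}
  have hS : S.Nonempty := by
    refine ⟨⊤, F.map (inv (⊤ : Subobject X).arrow) ξ, ?_⟩
    rw [← Functor.map_comp_apply]
    simp
  obtain ⟨s, hs, hmin⟩ := WellFounded.has_min (wellFounded_lt) S hS
  obtain ⟨ξ', hξ'⟩ := hs
  refine ⟨⟨(s : C), ξ'⟩, ?_, ⟨⟨s.arrow, hξ'⟩⟩⟩
  intro Y i hi hζ
  obtain ⟨ζ, hζ⟩ := hζ
  dsimp only at i hζ
  have hle : Subobject.mk (i ≫ s.arrow) ≤ s := Subobject.mk_le_of_comm i rfl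
  have hmem : Subobject.mk (i ≫ s.arrow) ∈ S := by
    refine ⟨F.map (Subobject.underlyingIso (i ≫ s.arrow)).inv ζ, ?_⟩
    rw [← Functor.map_comp_apply, Subobject.underlyingIso_arrow, Functor.map_comp_apply, hζ, hξ']
  have heq : s ≤ Subobject.mk (i ≫ s.arrow) := by
    by_contra h
    exact hmin _ hmem (lt_of_le_not_ge hle h)
  have h1 : Subobject.ofLEMk s (i ≫ s.arrow) heq ≫ i = 𝟙 _ := by
    rw [← cancel_mono s.arrow, Category.assoc, Subobject.ofLEMk_comp, Category.id_comp]
  have h2 : i ≫ Subobject.ofLEMk s (i ≫ s.arrow) heq = 𝟙 _ := by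
    rw [← cancel_mono (i ≫ s.arrow), Category.assoc, Subobject.ofLEMk_comp, Category.id_comp]
  exact ⟨⟨_, h2, h1⟩⟩

variable [HasFiniteLimits C] [PreservesFiniteLimits F]

lemma eq_of_isMin {e : F.Elements} (he : IsMin F e) {Y : C} (a b : e.1 ⟶ Y)
    (h : F.map a e.2 = F.map b e.2) : a = b := by
  have hlim := isLimitForkMapOfIsLimit F _ (equalizerIsEqualizer a b)
  obtain ⟨x, hx, -⟩ := Types.unique_of_type_equalizer _ _ hlim e.2 h
  have := he (equalizer.ι a b) inferInstance ⟨x, hx⟩
  exact eq_of_epi_equalizer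

lemma epi_of_isMin {e e' : F.Elements} (he' : IsMin F e') (u : e ⟶ e') : Epi u.1 := by
  constructor
  intro Z a b hab
  apply eq_of_isMin F he'
  rw [← u.2, ← Functor.map_comp_apply, ← Functor.map_comp_apply, hab]

theorem strictly_prorepresentable (hart : ∀ X : C, IsArtinianObject X) :
    ∃ (J : Type u) (_ : SmallCategory J) (_ : IsCofiltered J) (D : J ⥤ C),
      (∀ ⦃j j' : J⦄ (a : j ⟶ j'), Epi (D.map a)) ∧
        Nonempty (F ≅ colimit (D.op ⋙ coyoneda)) := by
  let P : ObjectProperty F.Elements := IsMin F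
  let J := P.FullSubcategory
  have : IsCofiltered F.Elements := F.isCofiltered_elements
  have : IsCofiltered J :=
    IsCofiltered.of_exists_of_isCofiltered_of_fullyFaithful P.ι (fun d => by
      obtain ⟨e', he', ⟨f⟩⟩ := exists_isMin_hom F hart d
      exact ⟨⟨e', he'⟩, ⟨f⟩⟩)
  let D : J ⥤ C := P.ι ⋙ CategoryOfElements.π F
  refine ⟨J, inferInstance, inferInstance, D, ?_, ?_⟩
  · intro j j' a
    exact epi_of_isMin F j'.2 (P.ι.map a)
  · let c : Cocone (D.op ⋙ coyoneda) :=
      { pt := F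
        ι :=
          { app := fun j => coyonedaEquiv.symm j.unop.1.2
            naturality := by
              intro j j' a
              have h : F.map (D.map a.unop) j'.unop.1.2 = j.unop.1.2 := (P.ι.map a.unop).2
              simp only [Functor.comp_obj, Functor.op_obj, Functor.const_obj_obj,
                Functor.comp_map, Functor.op_map, Functor.const_obj_map, Category.comp_id]
              exact (coyonedaEquiv_symm_map (D.map a.unop) _).symm.trans
                (congrArg coyonedaEquiv.symm h) } }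
    have hc : IsColimit c := by
      refine evaluationJointlyReflectsColimits _ (fun Y => ?_)
      refine Types.FilteredColimit.isColimitOf' _ _ ?_ ?_
      · intro η
        obtain ⟨e', he', ⟨f⟩⟩ := exists_isMin_hom F hart ⟨Y, η⟩
        refine ⟨op ⟨e', he'⟩, f.1, ?_⟩
        exact f.2.symm
      · intro i x y hxy
        refine ⟨i, 𝟙 i, ?_⟩
        have : x = y := eq_of_isMin F i.unop.2 x y hxy
        rw [this]
    exact ⟨(colimit.isoColimitCocone ⟨c, hc⟩).symm⟩

end Groth.Agent.Lib.Helper7.ProRep
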