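import Mathlib
import Groth.Agent.Lib.Helper7RegLoc
import Groth.Agent.Lib.Helper19FSFlat
import Groth.Agent.Lib.Helper19FSAdicFormal
import Groth.Agent.Lib.Helper19FSLiftUnique

/-!
# Regular homomorphisms induce formally smooth local homomorphisms (helper7)
-/

set_option autoImplicit false
set_option linter.style.haveILetI false
set_option linter.unusedSectionVars false
universe u

namespace Groth.Agent.Lib.Helper7.PsFS

open TensorProduct IsLocalRing

/-- `B_r → C_q` is a regular homomorphism, for `r = q ∩ B`, for any compatible algebra structure -/
theorem isRegularHom_localization_atPrime (B C : Type u) [CommRing B] [CommRing C]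
    [IsNoetherianRing C] [Algebra B C] (h : CAlg.IsRegularHom B C) (q : Ideal C) [q.IsPrime]
    [Algebra (Localization.AtPrime (q.comap (algebraMap B C))) (Localization.AtPrime q)]
    [IsScalarTower B (Localization.AtPrime (q.comap (algebraMap B C))) (Localization.AtPrime q)] :
    CAlg.IsRegularHom (Localization.AtPrime (q.comap (algebraMap B C))) (Localization.AtPrime q) := by
  have h1 : CAlg.IsRegularHom B (Localization.AtPrime q) :=
    Groth.Agent.Lib.Helper7.RegLoc.isRegularHom_of_isLocalization q.primeCompl h
  haveI : IsNoetherianRing (Localization.AtPrime q) :=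
    IsLocalization.isNoetherianRing q.primeCompl _ inferInstance
  haveI : IsLocalization (Algebra.algebraMapSubmonoid (Localization.AtPrime q)
      (q.comap (algebraMap B C)).primeCompl) (Localization.AtPrime q) := by
    apply IsLocalization.of_le_isUnit
    rintro _ ⟨x, hx, rfl⟩
    rw [IsScalarTower.algebraMap_apply B C (Localization.AtPrime q)]
    exact IsLocalization.map_units (Localization.AtPrime q)
      (⟨algebraMap B C x, fun hmem => hx hmem⟩ : q.primeCompl)
  exact Groth.Agent.Lib.Helper7.RegLoc.isRegularHom_localization_base B (Localization.AtPrime q) h1
    (q.comap (algebraMap B C)).primeCompl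
    (Localization.AtPrime (q.comap (algebraMap B C))) (Localization.AtPrime q)

/-- the local homomorphism `B_r → C_q` -/
theorem isLocalHom_localization_atPrime (B C : Type u) [CommRing B] [CommRing C]
    [Algebra B C] (q : Ideal C) [q.IsPrime]
    [Algebra (Localization.AtPrime (q.comap (algebraMap B C))) (Localization.AtPrime q)]
    [IsScalarTower B (Localization.AtPrime (q.comap (algebraMap B C))) (Localization.AtPrime q)] :
    IsLocalHom (algebraMap (Localization.AtPrime (q.comap (algebraMap B C)))
      (Localization.AtPrime q)) := by
  have hcomap : (maximalIdeal (Localization.AtPrime q)).comap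
      (algebraMap (Localization.AtPrime (q.comap (algebraMap B C))) (Localization.AtPrime q)) =
      maximalIdeal (Localization.AtPrime (q.comap (algebraMap B C))) := by
    have h0 : Ideal.comap (algebraMap C (Localization.AtPrime q))
        (maximalIdeal (Localization.AtPrime q)) = q :=
      Localization.AtPrime.under_maximalIdeal
    have h1 : Ideal.under B ((maximalIdeal (Localization.AtPrime q)).comap
        (algebraMap (Localization.AtPrime (q.comap (algebraMap B C)))
          (Localization.AtPrime q))) = q.comap (algebraMap B C) := by
      rw [Ideal.under_def, Ideal.comap_comap, ← IsScalarTower.algebraMap_eq,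
        IsScalarTower.algebraMap_eq B C (Localization.AtPrime q), ← Ideal.comap_comap, h0]
    have h2 : Ideal.under B (maximalIdeal (Localization.AtPrime (q.comap (algebraMap B C)))) =
        q.comap (algebraMap B C) :=
      Localization.AtPrime.under_maximalIdeal
    have e1 := IsLocalization.map_under (q.comap (algebraMap B C)).primeCompl
      (Localization.AtPrime (q.comap (algebraMap B C)))
      ((maximalIdeal (Localization.AtPrime q)).comap
        (algebraMap (Localization.AtPrime (q.comap (algebraMap B C))) (Localization.AtPrime q)))
    have e2 := IsLocalization.map_under (q.comap (algebraMap B C)).primeCompl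
      (Localization.AtPrime (q.comap (algebraMap B C)))
      (maximalIdeal (Localization.AtPrime (q.comap (algebraMap B C))))
    rw [h1] at e1
    rw [h2] at e2
    exact e1.symm.trans e2
  exact (IsLocalRing.local_hom_TFAE _).out 4 0 |>.mp hcomap

/-- **Formal smoothness of the local maps of a regular homomorphism.** -/
theorem isFormallySmoothAdic_localization_atPrime (B C : Type u) [CommRing B] [CommRing C]
    [IsNoetherianRing B] [IsNoetherianRing C] [Algebra B C] (h : CAlg.IsRegularHom B C)
    (q : Ideal C) [q.IsPrime]
    [Algebra (Localization.AtPrime (q.comap (algebraMap B C))) (Localization.AtPrime q)]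
    [IsScalarTower B (Localization.AtPrime (q.comap (algebraMap B C))) (Localization.AtPrime q)] :
    EGA41.IsFormallySmoothAdic (Localization.AtPrime (q.comap (algebraMap B C)))
      (maximalIdeal _) (Localization.AtPrime q) (maximalIdeal _) := by
  have h2 := isRegularHom_localization_atPrime B C h q
  haveI := isLocalHom_localization_atPrime B C q
  haveI : IsNoetherianRing (Localization.AtPrime q) :=
    IsLocalization.isNoetherianRing q.primeCompl _ inferInstance
  haveI : IsNoetherianRing (Localization.AtPrime (q.comap (algebraMap B C))) :=
    IsLocalization.isNoetherianRing (q.comap (algebraMap B C)).primeCompl _ inferInstance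
  have h3 := (h2.2 (maximalIdeal (Localization.AtPrime (q.comap (algebraMap B C))))).2
  have h4 := (Groth.Agent.Lib.Helper19.FSFlat.flat_and_isGeometricallyRegular_iff
    (A := Localization.AtPrime (q.comap (algebraMap B C))) (B := Localization.AtPrime q)
    (κ := (maximalIdeal (Localization.AtPrime (q.comap (algebraMap B C)))).ResidueField)
    (Ideal.algebraMap_residueField_surjective _)
    (Ideal.ker_algebraMap_residueField _)).1 ⟨h2.1, h3⟩
  exact Groth.Agent.Lib.Helper19.FSLiftUnique.isFormallySmoothAdic_of_bot _ _
    ((Groth.Agent.Lib.Helper19.isAdicFormallySmooth_iff_isFormallySmoothAdic_bot _).1 h4)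

end Groth.Agent.Lib.Helper7.PsFS
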