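import Mathlib
import Groth.Agent.Lib.Helper7PsGRing
import Groth.Agent.Lib.Helper7RegLoc
import Groth.Agent.Lib.Helper19FSFlat

/-!
# Generic formal fibres of localizations of complete local domains: consequences (helper7)
-/

set_option autoImplicit false
set_option linter.style.haveILetI false
set_option linter.unusedSectionVars false
universe u

namespace Groth.Agent.Lib.Helper7.PsFS2

open TensorProduct IsLocalRing

/-- from geometric regularity of the generic formal fibre of `B = (A₀)_𝔭` to regularity of
`L ⊗[A₀] B̂` for `L` finite over the fraction field -/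
theorem isRegularRing_tensor_cpl_of_generic (A₀ : Type u) [CommRing A₀] [IsDomain A₀]
    (𝔭 : Ideal A₀) [𝔭.IsPrime]
    (hgen : CAlg.IsGeometricallyRegular (⊥ : Ideal (Localization.AtPrime 𝔭)).ResidueField
      (EGA4.formalFibre (Localization.AtPrime 𝔭) (⊥ : Ideal (Localization.AtPrime 𝔭))))
    (K : Type u) [Field K] [Algebra A₀ K] [IsFractionRing A₀ K] (L : Type u) [Field L]
    [Algebra K L] [Algebra A₀ L] [IsScalarTower A₀ K L] [Module.Finite K L] :
    IsRegularRing (L ⊗[A₀] EGA4.Cpl (Localization.AtPrime 𝔭)) := by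
  haveI : IsFractionRing A₀ (⊥ : Ideal (Localization.AtPrime 𝔭)).ResidueField :=
    Groth.Agent.Lib.Helper7.FracLoc.isFractionRing_of_isLocalization A₀
      (Localization.AtPrime 𝔭) _ 𝔭.primeCompl
  let e : (⊥ : Ideal (Localization.AtPrime 𝔭)).ResidueField ≃ₐ[A₀] K :=
    IsLocalization.algEquiv (nonZeroDivisors A₀) _ K
  letI : Algebra (⊥ : Ideal (Localization.AtPrime 𝔭)).ResidueField K := e.toRingHom.toAlgebra
  haveI : Module.Finite (⊥ : Ideal (Localization.AtPrime 𝔭)).ResidueField K :=
    Module.Finite.of_surjective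
      (Algebra.linearMap (⊥ : Ideal (Localization.AtPrime 𝔭)).ResidueField K) e.surjective
  letI : Algebra (⊥ : Ideal (Localization.AtPrime 𝔭)).ResidueField L :=
    ((algebraMap K L).comp (algebraMap (⊥ : Ideal (Localization.AtPrime 𝔭)).ResidueField K)).toAlgebra
  haveI : IsScalarTower (⊥ : Ideal (Localization.AtPrime 𝔭)).ResidueField K L :=
    IsScalarTower.of_algebraMap_eq (fun _ => rfl)
  haveI : Module.Finite (⊥ : Ideal (Localization.AtPrime 𝔭)).ResidueField L :=
    Module.Finite.trans K L
  letI : Algebra (Localization.AtPrime 𝔭) L :=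
    ((algebraMap (⊥ : Ideal (Localization.AtPrime 𝔭)).ResidueField L).comp
      (algebraMap (Localization.AtPrime 𝔭) _)).toAlgebra
  haveI : IsScalarTower (Localization.AtPrime 𝔭)
      (⊥ : Ideal (Localization.AtPrime 𝔭)).ResidueField L :=
    IsScalarTower.of_algebraMap_eq (fun _ => rfl)
  haveI : IsScalarTower A₀ (Localization.AtPrime 𝔭) L :=
    IsScalarTower.of_algebraMap_eq (fun a => by
      rw [IsScalarTower.algebraMap_apply (Localization.AtPrime 𝔭)
          (⊥ : Ideal (Localization.AtPrime 𝔭)).ResidueField L,
        ← IsScalarTower.algebraMap_apply A₀ (Localization.AtPrime 𝔭)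
          (⊥ : Ideal (Localization.AtPrime 𝔭)).ResidueField,
        IsScalarTower.algebraMap_apply (⊥ : Ideal (Localization.AtPrime 𝔭)).ResidueField K L,
        IsScalarTower.algebraMap_apply A₀ K L]
      congr 1
      exact (e.commutes a).symm)
  have h1 : IsRegularRing (L ⊗[(⊥ : Ideal (Localization.AtPrime 𝔭)).ResidueField]
      (EGA4.formalFibre (Localization.AtPrime 𝔭) (⊥ : Ideal (Localization.AtPrime 𝔭)))) :=
    hgen L inferInstance
  have h2 : IsRegularRing (L ⊗[Localization.AtPrime 𝔭] EGA4.Cpl (Localization.AtPrime 𝔭)) :=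
    IsRegularRing.of_ringEquiv
      (Algebra.TensorProduct.cancelBaseChange (Localization.AtPrime 𝔭)
        (⊥ : Ideal (Localization.AtPrime 𝔭)).ResidueField L L
        (EGA4.Cpl (Localization.AtPrime 𝔭))).toRingEquiv
  exact IsRegularRing.of_ringEquiv
    (IsLocalization.algebraTensorEquiv 𝔭.primeCompl (Localization.AtPrime 𝔭) L
      (EGA4.Cpl (Localization.AtPrime 𝔭))).toRingEquiv

/-- S4583 -/
theorem isAdicFormallySmooth_fractionRing {A : Type u} [CommRing A]
    [IsDomain A] [IsLocalRing A] [IsNoetherianRing A] [IsAdicComplete (maximalIdeal A) A]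
    (p : Ideal A) [p.IsPrime]
    (q : Ideal (AdicCompletion (maximalIdeal (Localization.AtPrime p)) (Localization.AtPrime p)))
    [q.IsPrime]
    [Algebra (FractionRing A) (Localization.AtPrime q)]
    [IsScalarTower A (FractionRing A) (Localization.AtPrime q)] :
    CAlgX.IsAdicFormallySmooth (FractionRing A) (Localization.AtPrime q)
      (maximalIdeal (Localization.AtPrime q)) := by
  haveI : IsNoetherianRing (Localization.AtPrime p) :=
    IsLocalization.isNoetherianRing p.primeCompl _ inferInstance
  haveI : IsNoetherianRing (AdicCompletion (maximalIdeal (Localization.AtPrime p))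
      (Localization.AtPrime p)) :=
    Groth.Agent.Lib.Helper19.isNoetherianRing_adicCompletion _
  haveI : IsNoetherianRing (Localization.AtPrime q) :=
    IsLocalization.isNoetherianRing q.primeCompl _ inferInstance
  apply Groth.Agent.Lib.Helper19.FSFlat.isAdicFormallySmooth_of_isGeometricallyRegular
  intro k' _ _ hfin
  letI : Algebra A k' :=
    ((algebraMap (FractionRing A) k').comp (algebraMap A (FractionRing A))).toAlgebra
  haveI : IsScalarTower A (FractionRing A) k' := IsScalarTower.of_algebraMap_eq (fun _ => rfl)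
  have h1 := isRegularRing_tensor_cpl_of_generic A p
    (Groth.Agent.Lib.Helper7.PsGRing.generic_formalFibre_of_complete A p) (FractionRing A) k'
  have h2 : IsRegularRing (k' ⊗[A] Localization.AtPrime q) :=
    Groth.Agent.Lib.Helper7.RegLoc.isRegularRing_tensor_of_isLocalization q.primeCompl k' h1
  exact IsRegularRing.of_ringEquiv
    (IsLocalization.algebraTensorEquiv (nonZeroDivisors A) (FractionRing A) k'
      (Localization.AtPrime q)).symm.toRingEquiv

end Groth.Agent.Lib.Helper7.PsFS2
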