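import Mathlib

/-!
# Subfields of `k((T_1,…,T_r))` generated by power series with coefficients in a subfield
(EGA 0_IV 21.8) (helper7)
-/

set_option autoImplicit false
set_option linter.style.haveILetI false
set_option linter.unusedSectionVars false
universe u v

namespace Groth.Agent.Lib.Helper7.PsField

open MvPowerSeries

section Basic

variable {σ : Type v} {k : Type u} [Field k]

/-- the subring of power series with all coefficients in the subfield `F` -/
def coeffSubring (σ : Type v) {k : Type u} [Field k] (F : Subfield k) :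
    Subring (MvPowerSeries σ k) where
  carrier := {f | ∀ n, MvPowerSeries.coeff n f ∈ F}
  mul_mem' := by
    classical
    intro a b ha hb n
    rw [MvPowerSeries.coeff_mul]
    exact sum_mem fun x _ => mul_mem (ha _) (hb _)
  one_mem' := by
    classical
    intro n
    rw [MvPowerSeries.coeff_one]
    split_ifs
    · exact one_mem _
    · exact zero_mem _
  add_mem' := by
    intro a b ha hb n
    rw [map_add]
    exact add_mem (ha _) (hb _)
  zero_mem' := by
    intro n
    rw [map_zero]
    exact zero_mem _
  neg_mem' := by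
    intro a ha n
    rw [map_neg]
    exact neg_mem (ha _)

lemma mem_coeffSubring {F : Subfield k} {f : MvPowerSeries σ k} :
    f ∈ coeffSubring σ F ↔ ∀ n, MvPowerSeries.coeff n f ∈ F := Iff.rfl

lemma coeffSubring_mono {F F' : Subfield k} (h : F ≤ F') : coeffSubring σ F ≤ coeffSubring σ F' :=
  fun _ hf n => h (hf n)

/-- `F((T))` inside the fraction field of `k[[T]]` -/
noncomputable def psField (σ : Type v) {k : Type u} [Field k] (F : Subfield k) :
    Subfield (FractionRing (MvPowerSeries σ k)) :=
  Subfield.closure (algebraMap (MvPowerSeries σ k) (FractionRing (MvPowerSeries σ k)) ''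
    {f | ∀ n, MvPowerSeries.coeff n f ∈ F})

lemma psField_mono {F F' : Subfield k} (h : F ≤ F') : psField σ F ≤ psField σ F' :=
  Subfield.closure_mono (Set.image_mono fun _ hf n => h (hf n))

lemma algebraMap_mem_psField {F : Subfield k} {f : MvPowerSeries σ k}
    (hf : f ∈ coeffSubring σ F) :
    algebraMap (MvPowerSeries σ k) (FractionRing (MvPowerSeries σ k)) f ∈ psField σ F :=
  Subfield.subset_closure ⟨f, hf, rfl⟩

lemma mem_psField_iff {F : Subfield k} {z : FractionRing (MvPowerSeries σ k)} :
    z ∈ psField σ F ↔ ∃ a ∈ coeffSubring σ F, ∃ b ∈ coeffSubring σ F, b ≠ 0 ∧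
      algebraMap _ (FractionRing (MvPowerSeries σ k)) a /
        algebraMap _ (FractionRing (MvPowerSeries σ k)) b = z := by
  constructor
  · intro hz
    rw [psField, Subfield.mem_closure_iff] at hz
    obtain ⟨y, hy, w, hw, rfl⟩ := hz
    have himg : (algebraMap (MvPowerSeries σ k) (FractionRing (MvPowerSeries σ k)) ''
        {f | ∀ n, MvPowerSeries.coeff n f ∈ F}) =
        ((coeffSubring σ F).map (algebraMap (MvPowerSeries σ k)
          (FractionRing (MvPowerSeries σ k))) : Set _) := rfl
    rw [himg, Subring.closure_eq] at hy hw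
    obtain ⟨a, ha, rfl⟩ := hy
    obtain ⟨b, hb, rfl⟩ := hw
    by_cases hb0 : b = 0
    · refine ⟨0, zero_mem _, 1, one_mem _, one_ne_zero, ?_⟩
      rw [hb0, map_zero, zero_div, div_zero]
    · exact ⟨a, ha, b, hb, hb0, rfl⟩
  · rintro ⟨a, ha, b, hb, -, rfl⟩
    exact div_mem (algebraMap_mem_psField ha) (algebraMap_mem_psField hb)

/-- key: a power series lying in `F((T))` has coefficients in `F` -/
theorem mem_coeffSubring_of_algebraMap_mem_psField {F : Subfield k} {h : MvPowerSeries σ k}
    (hh : algebraMap (MvPowerSeries σ k) (FractionRing (MvPowerSeries σ k)) h ∈ psField σ F) :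
    h ∈ coeffSubring σ F := by
  classical
  obtain ⟨a, ha, b, hb, hb0, hab⟩ := mem_psField_iff.1 hh
  have hinj : Function.Injective
      (algebraMap (MvPowerSeries σ k) (FractionRing (MvPowerSeries σ k))) :=
    IsFractionRing.injective _ _
  have hb0' : algebraMap (MvPowerSeries σ k) (FractionRing (MvPowerSeries σ k)) b ≠ 0 := by
    intro h0
    exact hb0 (hinj (by rw [h0, map_zero]))
  have hbh : b * h = a := by
    apply hinj
    rw [map_mul, ← hab, mul_div_cancel₀ _ hb0']
  obtain ⟨π, hπ⟩ := LinearMap.exists_leftInverse_of_injective (Algebra.linearMap F k)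
    (LinearMap.ker_eq_bot.2 (algebraMap F k).injective)
  have hπ' : ∀ c : F, π (c : k) = c := fun c => by
    have := congrArg (fun f => f c) hπ
    exact this
  let πt : MvPowerSeries σ k → MvPowerSeries σ k := fun f n => ((π (MvPowerSeries.coeff n f) : F) : k)
  have hπt : ∀ f n, MvPowerSeries.coeff n (πt f) = ((π (MvPowerSeries.coeff n f) : F) : k) :=
    fun f n => rfl
  have hfix : ∀ f ∈ coeffSubring σ F, πt f = f := by
    intro f hf
    ext n
    rw [hπt]
    have := hπ' ⟨_, hf n⟩
    rw [this]
  have hlin : ∀ f ∈ coeffSubring σ F, ∀ g, πt (f * g) = f * πt g := by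
    intro f hf g
    ext n
    rw [hπt, MvPowerSeries.coeff_mul, MvPowerSeries.coeff_mul, map_sum, AddSubmonoidClass.coe_finsetSum]
    refine Finset.sum_congr rfl fun x _ => ?_
    have h1 : MvPowerSeries.coeff x.1 f * MvPowerSeries.coeff x.2 g =
        (⟨_, hf x.1⟩ : F) • MvPowerSeries.coeff x.2 g := rfl
    rw [h1, map_smul, hπt]
    rfl
  have h2 : b * πt h = b * h := by
    rw [← hlin b hb h, hbh, hfix a ha]
  have h3 : πt h = h := mul_left_cancel₀ hb0 h2
  intro n
  rw [← h3, hπt]
  exact (π _).2

end Basic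


section Inf

variable {σ : Type v} {k : Type u} [Field k]

theorem pow_expChar_pow_mem_coeffSubring (p : ℕ) [ExpChar k p] (e : ℕ) (F : Subfield k)
    (hq : ∀ x : k, x ^ p ^ e ∈ F) (g : MvPowerSeries σ k) : g ^ p ^ e ∈ coeffSubring σ F := by
  intro n
  have hp : p ≠ 0 := (expChar_pos k p).ne'
  rw [← MvPowerSeries.map_iterateFrobenius_expand p hp g e, MvPowerSeries.coeff_map,
    iterateFrobenius_def]
  exact hq _

theorem iInf_psField_eq {ι : Type*} (F : ι → Subfield k) (e : ℕ)
    (hq : ∀ x : k, x ^ ringExpChar k ^ e ∈ ⨅ i, F i) :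
    (⨅ i, psField σ (F i)) = psField σ (⨅ i, F i) := by
  apply le_antisymm
  · intro z hz
    rw [Subfield.mem_iInf] at hz
    obtain ⟨f, g, hg, rfl⟩ := IsFractionRing.div_surjective (A := MvPowerSeries σ k) z
    have hg0 : g ≠ 0 := nonZeroDivisors.ne_zero hg
    have hinj : Function.Injective
        (algebraMap (MvPowerSeries σ k) (FractionRing (MvPowerSeries σ k))) :=
      IsFractionRing.injective _ _
    set q := ringExpChar k ^ e with hqdef
    have hqpos : 0 < q := pow_pos (expChar_pos k (ringExpChar k)) e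
    have hs : g ^ q ∈ coeffSubring σ (⨅ i, F i) :=
      pow_expChar_pow_mem_coeffSubring (ringExpChar k) e _ hq g
    have hs0 : g ^ q ≠ 0 := pow_ne_zero _ hg0
    have hg0' : algebraMap (MvPowerSeries σ k) (FractionRing (MvPowerSeries σ k)) g ≠ 0 :=
      fun h0 => hg0 (hinj (by rw [h0, map_zero]))
    have hs0' : algebraMap (MvPowerSeries σ k) (FractionRing (MvPowerSeries σ k)) (g ^ q) ≠ 0 :=
      fun h0 => hs0 (hinj (by rw [h0, map_zero]))
    have hz' : algebraMap (MvPowerSeries σ k) (FractionRing (MvPowerSeries σ k)) f /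
        algebraMap (MvPowerSeries σ k) (FractionRing (MvPowerSeries σ k)) g =
        algebraMap (MvPowerSeries σ k) (FractionRing (MvPowerSeries σ k)) (f * g ^ (q - 1)) /
        algebraMap (MvPowerSeries σ k) (FractionRing (MvPowerSeries σ k)) (g ^ q) := by
      rw [div_eq_div_iff hg0' hs0', ← map_mul, ← map_mul]
      congr 1
      rw [mul_assoc, ← pow_succ, Nat.sub_add_cancel hqpos]
    have hh : f * g ^ (q - 1) ∈ coeffSubring σ (⨅ i, F i) := by
      intro n
      rw [Subfield.mem_iInf]
      intro i
      have h1 : algebraMap (MvPowerSeries σ k) (FractionRing (MvPowerSeries σ k))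
          (f * g ^ (q - 1)) ∈ psField σ (F i) := by
        have : algebraMap (MvPowerSeries σ k) (FractionRing (MvPowerSeries σ k))
            (f * g ^ (q - 1)) =
            (algebraMap (MvPowerSeries σ k) (FractionRing (MvPowerSeries σ k)) f /
              algebraMap (MvPowerSeries σ k) (FractionRing (MvPowerSeries σ k)) g) *
            algebraMap (MvPowerSeries σ k) (FractionRing (MvPowerSeries σ k)) (g ^ q) := by
          rw [hz', div_mul_cancel₀ _ hs0']
        rw [this]
        exact mul_mem (hz i) (algebraMap_mem_psField (coeffSubring_mono (iInf_le F i) hs))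
      exact mem_coeffSubring_of_algebraMap_mem_psField h1 n
    rw [hz']
    exact div_mem (algebraMap_mem_psField hh) (algebraMap_mem_psField hs)
  · exact le_iInf fun i => psField_mono (iInf_le F i)

end Inf


section Laurent

variable (p : ℕ) {k₀ K₀ : Type u} [Field k₀] [Field K₀] [Algebra k₀ K₀]

/-- the subfield `K^p` (closure of the `p`-th powers) -/
abbrev powField (p : ℕ) (K : Type u) [Field K] : Subfield K :=
  Subfield.closure (Set.range fun y : K => y ^ p)

/-- the subfield `k₀(K₀^p)` -/
abbrev compField (p : ℕ) (k₀ K₀ : Type u) [Field k₀] [Field K₀] [Algebra k₀ K₀] : Subfield K₀ :=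
  Subfield.closure (Set.range (algebraMap k₀ K₀) ∪ Set.range fun y : K₀ => y ^ p)

lemma algebraMap_mem_powField {c : k₀} (hc : c ∈ powField p k₀) :
    algebraMap k₀ K₀ c ∈ powField p K₀ := by
  have h1 : algebraMap k₀ K₀ c ∈ (powField p k₀).map (algebraMap k₀ K₀) := ⟨c, hc, rfl⟩
  rw [RingHom.map_field_closure] at h1
  refine Subfield.closure_mono ?_ h1
  rintro _ ⟨_, ⟨y, rfl⟩, rfl⟩
  exact ⟨algebraMap k₀ K₀ y, (map_pow _ _ _).symm⟩

lemma isAlgebraic_powField (hp : p ≠ 0) (y : K₀) : IsAlgebraic (powField p K₀) y := by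
  refine ⟨Polynomial.X ^ p - Polynomial.C ⟨y ^ p, Subfield.subset_closure ⟨y, rfl⟩⟩, ?_, ?_⟩
  · exact Polynomial.X_pow_sub_C_ne_zero (Nat.pos_of_ne_zero hp) _
  · rw [map_sub, map_pow, Polynomial.aeval_X, Polynomial.aeval_C]
    exact sub_self _

/-- elements of `k₀(K₀^p)` are `K₀^p`-combinations of the images of module generators of `k₀`
over `k₀^p` -/
theorem compField_le_span (hp : p ≠ 0) {m : ℕ} (e : Fin m → k₀)
    (he : Submodule.span (powField p k₀) (Set.range e) = ⊤) {y : K₀}
    (hy : y ∈ compField p k₀ K₀) :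
    y ∈ Submodule.span (powField p K₀) (Set.range fun j => algebraMap k₀ K₀ (e j)) := by
  set V := Submodule.span (powField p K₀) (Set.range fun j => algebraMap k₀ K₀ (e j)) with hV
  have hA : ∀ x : k₀, algebraMap k₀ K₀ x ∈ V := by
    intro x
    have hx : x ∈ Submodule.span (powField p k₀) (Set.range e) := by rw [he]; trivial
    obtain ⟨c, rfl⟩ := (Submodule.mem_span_range_iff_exists_fun _).1 hx
    rw [map_sum]
    refine sum_mem fun j _ => ?_
    have : algebraMap k₀ K₀ (c j • e j) =
        (⟨algebraMap k₀ K₀ (c j), algebraMap_mem_powField p (c j).2⟩ : powField p K₀) •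
          algebraMap k₀ K₀ (e j) := by
      rw [Subfield.smul_def, Subfield.smul_def, smul_eq_mul, smul_eq_mul, map_mul]
    rw [this]
    exact Submodule.smul_mem _ _ (Submodule.subset_span ⟨j, rfl⟩)
  set S := Algebra.adjoin (powField p K₀) (Set.range (algebraMap k₀ K₀)) with hS
  let S' : Subfield K₀ :=
    { S.toSubring with
      inv_mem' := fun x hx => by
        have := Subalgebra.inv_mem_of_algebraic (A := S) (x := ⟨x, hx⟩)
          (isAlgebraic_powField p hp x)
        exact this }
  have hFS : compField p k₀ K₀ ≤ S' := by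
    rw [Subfield.closure_le]
    rintro z (⟨x, rfl⟩ | ⟨w, rfl⟩)
    · exact Algebra.subset_adjoin ⟨x, rfl⟩
    · exact Subalgebra.algebraMap_mem S (⟨w ^ p, Subfield.subset_closure ⟨w, rfl⟩⟩ : powField p K₀)
  have hyS : y ∈ S := hFS hy
  have hSV : Subalgebra.toSubmodule S ≤ V := by
    rw [hS, Algebra.adjoin_eq_span, Submodule.span_le]
    have : Submonoid.closure (Set.range (algebraMap k₀ K₀)) =
        MonoidHom.mrange (algebraMap k₀ K₀ : k₀ →* K₀) := by
      rw [← MonoidHom.coe_mrange]
      exact Submonoid.closure_eq _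
    rw [this]
    rintro _ ⟨x, rfl⟩
    exact hA x
  exact hSV hyS

variable {σ : Type v}

theorem psField_compField_eq (hp : p ≠ 0)
    (hfin : Module.Finite (powField p k₀) k₀) :
    psField σ (compField p k₀ K₀) =
      Subfield.closure
        (Set.range (algebraMap k₀ (FractionRing (MvPowerSeries σ K₀))) ∪
          (psField σ (powField p K₀) : Set (FractionRing (MvPowerSeries σ K₀)))) := by
  obtain ⟨m, e, he⟩ := Module.Finite.exists_fin (R := powField p k₀) (M := k₀)
  have halg : ∀ x : k₀, algebraMap k₀ (FractionRing (MvPowerSeries σ K₀)) x =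
      algebraMap (MvPowerSeries σ K₀) (FractionRing (MvPowerSeries σ K₀))
        (MvPowerSeries.C (algebraMap k₀ K₀ x)) := by
    intro x
    rw [IsScalarTower.algebraMap_apply k₀ (MvPowerSeries σ K₀) (FractionRing (MvPowerSeries σ K₀)),
      MvPowerSeries.algebraMap_apply]
  apply le_antisymm
  · rw [psField, Subfield.closure_le]
    rintro _ ⟨f, hf, rfl⟩
    have hcoef : ∀ n, ∃ c : Fin m → powField p K₀,
        ∑ j, c j • algebraMap k₀ K₀ (e j) = MvPowerSeries.coeff n f := fun n =>
      (Submodule.mem_span_range_iff_exists_fun _).1 (compField_le_span p hp e he (hf n))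
    choose c hc using hcoef
    let fj : Fin m → MvPowerSeries σ K₀ := fun j n => ((c n j : powField p K₀) : K₀)
    have hfj : ∀ j n, MvPowerSeries.coeff n (fj j) = ((c n j : powField p K₀) : K₀) :=
      fun j n => rfl
    have hf_eq : f = ∑ j, MvPowerSeries.C (algebraMap k₀ K₀ (e j)) * fj j := by
      ext n
      rw [map_sum, ← hc n]
      refine Finset.sum_congr rfl fun j _ => ?_
      rw [MvPowerSeries.coeff_C_mul, Subfield.smul_def, smul_eq_mul, mul_comm, hfj]
    rw [hf_eq, map_sum]
    refine sum_mem fun j _ => ?_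
    rw [map_mul, ← halg]
    refine mul_mem (Subfield.subset_closure (Or.inl ⟨e j, rfl⟩))
      (Subfield.subset_closure (Or.inr ?_))
    exact algebraMap_mem_psField (fun n => by rw [hfj]; exact (c n j).2)
  · rw [Subfield.closure_le]
    rintro z (⟨x, rfl⟩ | hz)
    · rw [halg]
      refine algebraMap_mem_psField (fun n => ?_)
      classical
      rw [MvPowerSeries.coeff_C]
      split_ifs
      · exact Subfield.subset_closure (Or.inl ⟨x, rfl⟩)
      · exact zero_mem _
    · refine psField_mono ?_ hz
      exact Subfield.closure_mono Set.subset_union_right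

end Laurent

end Groth.Agent.Lib.Helper7.PsField
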