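import Mathlib
import Groth.Agent.Lib.Helper7PsFam
import Groth.Agent.Lib.Helper28RegPow

/-!
# `k[[x]]` is finite free over `F[[x^p]]`, and `F[[x^p]]` is Noetherian (helper7)
-/

set_option autoImplicit false
set_option linter.style.haveILetI false
set_option linter.unusedSectionVars false
universe u v w

namespace Groth.Agent.Lib.Helper7.PsFree

open MvPowerSeries Groth.Agent.Lib.Helper7.PsFam

section Iso

variable {σ : Type v} {k : Type u} [Field k] (p : ℕ) [Fact p.Prime]

/-- the ring homomorphism `F[[x]] → k[[x]]`, `g(x) ↦ g(x^p)` -/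
noncomputable def phi (F : Subfield k) : MvPowerSeries σ F →+* MvPowerSeries σ k :=
  ((expand p (Fact.out : p.Prime).ne_zero :
    MvPowerSeries σ k →ₐ[k] MvPowerSeries σ k) : MvPowerSeries σ k →+* MvPowerSeries σ k).comp
    (MvPowerSeries.map F.subtype)

lemma coeff_phi_smul (F : Subfield k) (g : MvPowerSeries σ F) (m : σ →₀ ℕ) :
    coeff (p • m) (phi p F g) = ((coeff m g : F) : k) := by
  change coeff (p • m) (expand p (Fact.out : p.Prime).ne_zero
    (MvPowerSeries.map F.subtype g)) = _
  rw [coeff_expand_smul, coeff_map]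
  rfl

lemma coeff_phi_of_not_dvd (F : Subfield k) (g : MvPowerSeries σ F) {m : σ →₀ ℕ} {i : σ}
    (h : ¬ p ∣ m i) : coeff m (phi p F g) = 0 := by
  change coeff m (expand p (Fact.out : p.Prime).ne_zero (MvPowerSeries.map F.subtype g)) = _
  exact coeff_expand_of_not_dvd p _ _ h

lemma eq_smul_of_forall_dvd {n : σ →₀ ℕ} (hn : ∀ i, p ∣ n i) :
    n = p • (n.mapRange (fun x => x / p) (by simp)) := by
  ext i
  simp only [Finsupp.smul_apply, Finsupp.mapRange_apply, smul_eq_mul]
  exact (Nat.mul_div_cancel' (hn i)).symm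

lemma phi_mem_Rsub (F : Subfield k) (g : MvPowerSeries σ F) : phi p F g ∈ Rsub (σ := σ) p F := by
  intro n
  by_cases hn : ∀ i, p ∣ n i
  · rw [eq_smul_of_forall_dvd p hn, coeff_phi_smul]
    exact ⟨(coeff _ g).2, fun _ i => by
      rw [← eq_smul_of_forall_dvd p hn]; exact hn i⟩
  · push Not at hn
    obtain ⟨i, hi⟩ := hn
    rw [coeff_phi_of_not_dvd p F g hi]
    exact ⟨zero_mem _, fun h0 => absurd rfl h0⟩

lemma phi_injective (F : Subfield k) : Function.Injective (phi (σ := σ) p F) := by
  intro g g' h
  ext m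
  have := congrArg (coeff (p • m)) h
  rw [coeff_phi_smul, coeff_phi_smul] at this
  exact_mod_cast this

lemma exists_phi_eq (F : Subfield k) {h : MvPowerSeries σ k} (hh : h ∈ Rsub (σ := σ) p F) :
    ∃ g, phi p F g = h := by
  refine ⟨fun m => ⟨coeff (p • m) h, (hh _).1⟩, ?_⟩
  ext n
  by_cases hn : ∀ i, p ∣ n i
  · rw [eq_smul_of_forall_dvd p hn, coeff_phi_smul]
    rfl
  · push Not at hn
    obtain ⟨i, hi⟩ := hn
    rw [coeff_phi_of_not_dvd p F _ hi]
    by_contra hne
    exact hi ((hh n).2 (Ne.symm hne) i)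

/-- `F[[x]] ≃ F[[x^p]]` -/
noncomputable def rsubEquiv (F : Subfield k) : MvPowerSeries σ F ≃+* Rsub (σ := σ) p F :=
  RingEquiv.ofBijective ((phi p F).codRestrict (Rsub (σ := σ) p F) (phi_mem_Rsub p F))
    ⟨fun a b h => phi_injective p F (congrArg Subtype.val h),
      fun ⟨h, hh⟩ => by
        obtain ⟨g, hg⟩ := exists_phi_eq p F hh
        exact ⟨g, Subtype.ext hg⟩⟩

theorem isNoetherianRing_Rsub (n : ℕ) (F : Subfield k) :
    IsNoetherianRing (Rsub (σ := Fin n) p F) := by
  haveI : IsRegularRing (MvPowerSeries (Fin n) F) :=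
    Groth.Agent.Lib.Helper28.isRegularRing_mvPowerSeries_fin F n
  exact isNoetherianRing_of_ringEquiv _ (rsubEquiv (σ := Fin n) p F)

end Iso

section Free

variable {σ : Type v} [Finite σ] {k : Type u} [Field k] (p : ℕ) [Fact p.Prime]

/-- `k[[x]]` has a finite basis over `F[[x^p]]` when `k` is finite over `F`. -/
theorem exists_free_generators (F : Subfield k) [Module.Finite F k] :
    ∃ (J : Type v) (_ : Fintype J) (g : J → MvPowerSeries σ k),
      (∀ r : MvPowerSeries σ k, ∃ c : J → MvPowerSeries σ k,
        (∀ j, c j ∈ Rsub p F) ∧ r = ∑ j, c j * g j) ∧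
      (∀ c : J → MvPowerSeries σ k, (∀ j, c j ∈ Rsub p F) → ∑ j, c j * g j = 0 →
        ∀ j, c j = 0) := by
  classical
  haveI : Fintype σ := Fintype.ofFinite σ
  have hp : p.Prime := Fact.out
  have hppos : 0 < p := hp.pos
  haveI : NeZero p := ⟨hp.ne_zero⟩
  let b := Module.finBasis F k
  set s := Module.finrank F k with hs
  -- exponent vectors
  let hat : (σ → Fin p) → (σ →₀ ℕ) := fun e => Finsupp.equivFunOnFinite.symm fun i => (e i : ℕ)
  have hhat : ∀ e i, hat e i = (e i : ℕ) := fun e i => rfl
  let e0 : (σ →₀ ℕ) → σ → Fin p := fun n i => ⟨n i % p, Nat.mod_lt _ hppos⟩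
  have hcond : ∀ (n : σ →₀ ℕ) (e : σ → Fin p),
      (hat e ≤ n ∧ ∀ i, p ∣ (n - hat e) i) ↔ e = e0 n := by
    intro n e
    constructor
    · rintro ⟨hle, hdvd⟩
      funext i
      apply Fin.ext
      change (e i : ℕ) = n i % p
      have h1 : (e i : ℕ) ≤ n i := by simpa [hhat] using hle i
      have h2 : p ∣ n i - (e i : ℕ) := by simpa [hhat] using hdvd i
      obtain ⟨q, hq⟩ := h2
      have h3 : n i = (e i : ℕ) + p * q := by omega
      rw [h3, Nat.add_mul_mod_self_left, Nat.mod_eq_of_lt (e i).2]
    · rintro rfl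
      refine ⟨fun i => ?_, fun i => ?_⟩
      · simpa [hhat, e0] using Nat.mod_le (n i) p
      · have : (n - hat (e0 n)) i = n i - n i % p := by simp [hhat, e0]
        rw [this]
        exact Nat.dvd_sub_mod (n i)
  -- the coefficient of a product with a generator
  have hterm : ∀ (c : MvPowerSeries σ k), c ∈ Rsub p F → ∀ (n : σ →₀ ℕ) (e : σ → Fin p) (u : k),
      coeff n (c * monomial (hat e) u) =
        if e = e0 n then coeff (n - hat e) c * u else 0 := by
    intro c hc n e u
    rw [coeff_mul_monomial]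
    by_cases hle : hat e ≤ n
    · rw [if_pos hle]
      by_cases hd : ∀ i, p ∣ (n - hat e) i
      · rw [if_pos ((hcond n e).1 ⟨hle, hd⟩)]
      · rw [if_neg (fun h => hd ((hcond n e).2 h).2)]
        have : coeff (n - hat e) c = 0 := by
          by_contra hne
          exact hd ((hc _).2 hne)
        rw [this, zero_mul]
    · rw [if_neg hle, if_neg (fun h => hle ((hcond n e).2 h).1)]
  refine ⟨ULift.{v} ((σ → Fin p) × Fin s), inferInstance,
    fun j => monomial (hat j.down.1) (b j.down.2), ⟨fun r => ?_, fun c hc hsum j₀ => ?_⟩⟩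
  · -- spanning
    let c : ULift.{v} ((σ → Fin p) × Fin s) → MvPowerSeries σ k := fun j m =>
      if ∀ i, p ∣ m i then ((b.repr (coeff (m + hat j.down.1) r) j.down.2 : F) : k) else 0
    have hc : ∀ j m, coeff m (c j) =
        if ∀ i, p ∣ m i then ((b.repr (coeff (m + hat j.down.1) r) j.down.2 : F) : k) else 0 :=
      fun j m => rfl
    have hcmem : ∀ j, c j ∈ Rsub p F := by
      intro j m
      rw [hc]
      split_ifs with h
      · exact ⟨(b.repr _ _).2, fun _ => h⟩
      · exact ⟨zero_mem _, fun h0 => absurd rfl h0⟩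
    refine ⟨c, hcmem, ?_⟩
    ext n
    rw [map_sum]
    rw [Finset.sum_congr rfl (fun j _ => hterm (c j) (hcmem j) n j.down.1 (b j.down.2))]
    have hsum : ∑ j : ULift.{v} ((σ → Fin p) × Fin s),
        (if j.down.1 = e0 n then coeff (n - hat j.down.1) (c j) * b j.down.2 else 0) =
        ∑ l : Fin s, ((b.repr (coeff n r) l : F) : k) * b l := by
      rw [← Equiv.sum_comp Equiv.ulift.symm, Fintype.sum_prod_type]
      simp only [Equiv.ulift_symm_apply]
      rw [Finset.sum_eq_single (e0 n)]
      · simp only [if_true]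
        refine Finset.sum_congr rfl fun l _ => ?_
        rw [hc, if_pos ((hcond n (e0 n)).2 rfl).2,
          tsub_add_cancel_of_le ((hcond n (e0 n)).2 rfl).1]
      · intro e _ hne
        simp [hne]
      · intro h; exact absurd (Finset.mem_univ _) h
    rw [hsum]
    have := b.sum_repr (coeff n r)
    simp only [Subfield.smul_def, smul_eq_mul] at this
    exact this.symm
  · -- independence
    ext m
    rw [map_zero]
    by_cases hm : ∀ i, p ∣ m i
    · -- look at the coefficient of `m + hat e`
      set e := j₀.down.1 with he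
      set n := m + hat e with hn
      have hen : e0 n = e := by
        funext i
        apply Fin.ext
        change (m + hat e) i % p = (e i : ℕ)
        rw [Finsupp.add_apply, hhat]
        obtain ⟨q, hq⟩ := hm i
        rw [hq, Nat.mul_add_mod, Nat.mod_eq_of_lt (e i).2]
      have h0 := congrArg (coeff n) hsum
      rw [map_sum, map_zero,
        Finset.sum_congr rfl (fun j _ => hterm (c j) (hc j) n j.down.1 (b j.down.2)),
        ← Equiv.sum_comp Equiv.ulift.symm, Fintype.sum_prod_type] at h0
      simp only [Equiv.ulift_symm_apply] at h0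
      rw [Finset.sum_eq_single e (fun e' _ hne => by simp [hen, hne])
        (fun h => absurd (Finset.mem_univ _) h)] at h0
      simp only [hen, if_true] at h0
      have hnm : n - hat e = m := by rw [hn]; exact add_tsub_cancel_right m (hat e)
      rw [hnm] at h0
      -- linear independence of `b`
      have hli := Fintype.linearIndependent_iff.1 b.linearIndependent
        (fun l => (⟨coeff m (c ⟨(e, l)⟩), (hc _ m).1⟩ : F)) (by
          simp only [Subfield.smul_def, smul_eq_mul]
          exact h0)
      have := hli j₀.down.2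
      exact congrArg Subtype.val this
    · by_contra hne
      exact hm ((hc j₀ m).2 hne)

/-- `k[[x]]` is finite free over the subring `F[[x^p]]`. -/
theorem free_finite_Rsub (F : Subfield k) [Module.Finite F k] :
    Module.Free (Rsub (σ := σ) p F) (MvPowerSeries σ k) ∧
      Module.Finite (Rsub (σ := σ) p F) (MvPowerSeries σ k) := by
  classical
  obtain ⟨J, hJ, g, hspan, hind⟩ := exists_free_generators (σ := σ) p F
  have hli : LinearIndependent (Rsub (σ := σ) p F) g := by
    rw [Fintype.linearIndependent_iff]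
    intro c hc j
    have := hind (fun j => (c j : MvPowerSeries σ k)) (fun j => (c j).2) (by
      simpa only [Subring.smul_def, smul_eq_mul] using hc) j
    exact Subtype.ext this
  have hsp : ⊤ ≤ Submodule.span (Rsub (σ := σ) p F) (Set.range g) := by
    intro r _
    obtain ⟨c, hc, hr⟩ := hspan r
    rw [hr]
    refine Submodule.sum_mem _ fun j _ => ?_
    have : c j * g j = (⟨c j, hc j⟩ : Rsub (σ := σ) p F) • g j := by
      rw [Subring.smul_def, smul_eq_mul]
    rw [this]
    exact Submodule.smul_mem _ _ (Submodule.subset_span ⟨j, rfl⟩)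
  let B := Module.Basis.mk hli hsp
  exact ⟨Module.Free.of_basis B, Module.Finite.of_basis B⟩

end Free

end Groth.Agent.Lib.Helper7.PsFree
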