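import Mathlib
import Groth.Prelude.Def_EGA41
import Groth.Agent.Lib.Helper7PField3

set_option autoImplicit false
set_option linter.style.haveILetI false
set_option linter.unusedSectionVars false
open TensorProduct KaehlerDifferential MvPolynomial
universe u v w

namespace Groth.Agent.Lib.Helper7.PPow

/-- If the image of `R` in `L` contains `L^p`, then for any intermediate field `K` the map
`L ⊗_K Ω_{K/R} → Ω_{L/R}` is injective. -/
theorem injective_mapBaseChange_of_pow_mem (p : ℕ) [Fact p.Prime] {R : Type u} {K : Type v}
    {L : Type w} [Field R] [Field K] [Field L]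
    [Algebra R K] [Algebra K L] [Algebra R L] [IsScalarTower R K L] [CharP L p]
    (hRL : ∀ y : L, y ^ p ∈ Set.range (algebraMap R L)) :
    Function.Injective (KaehlerDifferential.mapBaseChange R K L) := by
  classical
  haveI : CharP K p := (algebraMap K L).charP (algebraMap K L).injective p
  have hRK : ∀ y : K, y ^ p ∈ Set.range (algebraMap R K) := by
    intro y
    obtain ⟨r, hr⟩ := hRL (algebraMap K L y)
    refine ⟨r, (algebraMap K L).injective ?_⟩
    rw [← IsScalarTower.algebraMap_apply, hr, map_pow]
  obtain ⟨T, -, hT, hgen⟩ := exists_pfreeSet_adjoin_eq_top p hRK (pfreeSet_empty (E := R) p)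
  -- spanning
  have hspanK : Submodule.span K (Set.range fun t : T => D R K (t : K)) = ⊤ := by
    rw [eq_top_iff, ← KaehlerDifferential.span_range_derivation, Submodule.span_le]
    rintro _ ⟨y, rfl⟩
    have hy : y ∈ Algebra.adjoin R T := by rw [hgen]; trivial
    have := D_mem_span_of_mem_adjoin (k := R) (E := R) (K := K)
      (fun e => Derivation.map_algebraMap _ e) hy
    have h2 : (Set.range fun t : T => D R K (t : K)) = D R K '' T := by
      ext z
      simp
    rw [h2]
    exact this
  have hspanL : Submodule.span L (Set.range fun t : T => (1 : L) ⊗ₜ[K] D R K (t : K)) = ⊤ := by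
    have h1 := Submodule.baseChange_span (R := K) (A := L)
      (Set.range fun t : T => D R K (t : K))
    rw [hspanK, Submodule.baseChange_top] at h1
    rw [h1, ← Set.range_comp]
    rfl
  -- p-freeness of the images
  have hfree : PFree R p (fun t : T => algebraMap K L (t : K)) := by
    intro g hg h0
    apply hT g hg
    apply (algebraMap K L).injective
    rw [map_zero, ← h0]
    exact (MvPolynomial.aeval_algebraMap_apply (B := L) (fun t : T => (t : K)) g).symm
  have hli : LinearIndependent L (fun t : T => D R L (algebraMap K L (t : K))) :=
    linearIndependent_D_of_pfree (k := R) (E := R) p hRL hfree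
  refine LinearMap.injective_of_linearIndependent hspanL ?_
  have h : (fun t : T => D R L (algebraMap K L (t : K))) =
      (KaehlerDifferential.mapBaseChange R K L) ∘ fun t : T => (1 : L) ⊗ₜ[K] D R K (t : K) := by
    ext t
    simp [KaehlerDifferential.mapBaseChange_tmul]
  rw [← h]
  exact hli

end Groth.Agent.Lib.Helper7.PPow
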