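import Mathlib
import Groth.Agent.Lib.Helper7RelAssBC

set_option autoImplicit false
set_option linter.style.haveILetI false
set_option linter.unusedVariables false
universe u
open CategoryTheory CategoryTheory.Limits AlgebraicGeometry TensorProduct IsLocalRing

namespace Groth.Agent.Lib.Helper7.RedBC

open Groth.Agent.Lib.Helper7.NoEmbBC Groth.Agent.Lib.Helper7.FibreBC Groth.Agent.Lib.Helper7.RelAssBC
  Groth.Agent.Lib.Helper23.UnitStalk Groth.Agent.Lib.Helper6.NoEmb Groth.Agent.Lib.Helper6.BcBridge
  Groth.Agent.Lib.Helper4.NormDelta Groth.Agent.Lib.Helper23.StalkLin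

section Iso

theorem length_stalk_eq_of_iso {X : Scheme.{u}} {A B : X.Modules} (e : A ≅ B) (x : X) :
    Module.length (X.presheaf.stalk x) (A.presheaf.stalk x) =
      Module.length (X.presheaf.stalk x) (B.presheaf.stalk x) :=
  le_antisymm (Module.length_le_of_injective (stalkLin e.hom x) (stalkLin_injective e.hom x))
    (Module.length_le_of_injective (stalkLin e.inv x) (stalkLin_injective e.inv x))

theorem isReducedMod_iff_of_iso {X : Scheme.{u}} {A B : X.Modules} (e : A ≅ B) :
    AssSch.IsReducedMod A ↔ AssSch.IsReducedMod B := by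
  unfold AssSch.IsReducedMod
  rw [noEmbedded_iff_of_iso e, ass_eq_of_iso e]
  refine and_congr_right fun _ => forall₂_congr fun x _ => ?_
  rw [length_stalk_eq_of_iso e x]

end Iso

section Ring

/-- length one over itself means field -/
theorem length_self_eq_one_iff_isField (R : Type*) [CommRing R] :
    Module.length R R = 1 ↔ IsField R := by
  rw [Module.length_eq_one_iff, isSimpleModule_self_iff_isUnit]
  constructor
  · rintro ⟨hnt, h⟩
    exact { exists_pair_ne := ⟨0, 1, zero_ne_one⟩
            mul_comm := mul_comm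
            mul_inv_cancel := fun {a} ha => (h a ha).exists_right_inv }
  · intro h
    refine ⟨⟨h.exists_pair_ne⟩, fun x hx => ?_⟩
    obtain ⟨y, hy⟩ := h.mul_inv_cancel hx
    exact IsUnit.of_mul_eq_one y hy

theorem length_stalk_structureModule {W : Scheme.{u}} (w : W) :
    Module.length (W.presheaf.stalk w) ((Coh.structureModule W).presheaf.stalk w) =
      Module.length (W.presheaf.stalk w) (W.presheaf.stalk w) :=
  (unitStalkEquiv w).length_eq.symm

/-- elements of a prime minimal over an annihilator are zero divisors -/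
theorem not_mem_nonZeroDivisors_of_mem_minimalPrimes_ann {R : Type*} [CommRing R] (n : R)
    (P : Ideal R) (hP : P ∈ (Ideal.span {n}).annihilator.minimalPrimes) (a : R) (ha : a ∈ P) :
    a ∉ nonZeroDivisors R := by
  obtain ⟨y, hy, hay⟩ := Ideal.exists_mul_mem_of_mem_minimalPrimes hP ha
  intro hnz
  apply hy
  rw [Submodule.mem_annihilator_span_singleton] at hay ⊢
  have : a * (y • n) = 0 := by
    rw [smul_eq_mul, ← mul_assoc]; exact hay
  rw [mul_comm] at this
  exact (mem_nonZeroDivisors_iff_right.mp hnz) _ this

variable {k : Type u} [Field k]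

/-- `K ⊗_k L` is reduced as soon as its local rings at minimal primes are fields. -/
theorem isReduced_of_forall_minimalPrimes_isField (K L : Type u) [Field K] [Field L]
    [Algebra k K] [Algebra k L]
    (h : ∀ (Q : Ideal (K ⊗[k] L)) (hQ : Q ∈ minimalPrimes (K ⊗[k] L)),
      haveI : Q.IsPrime := hQ.1.1
      IsField (Localization.AtPrime Q)) : IsReduced (K ⊗[k] L) := by
  refine ⟨fun n hn => ?_⟩
  by_contra hn0
  have hne : (Ideal.span {n}).annihilator ≠ ⊤ := by
    intro htop
    have : (1 : K ⊗[k] L) ∈ (Ideal.span {n}).annihilator := htop ▸ Submodule.mem_top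
    rw [Submodule.mem_annihilator_span_singleton, one_smul] at this
    exact hn0 this
  obtain ⟨P, hP⟩ := Ideal.nonempty_minimalPrimes hne
  haveI hPp : P.IsPrime := hP.1.1
  have hPmin : P ∈ minimalPrimes (K ⊗[k] L) :=
    mem_minimalPrimes_field K L P (not_mem_nonZeroDivisors_of_mem_minimalPrimes_ann n P hP)
  have hfield := h P hPmin
  letI := hfield.toField
  have h0 : algebraMap (K ⊗[k] L) (Localization.AtPrime P) n = 0 :=
    (hn.map (algebraMap (K ⊗[k] L) (Localization.AtPrime P))).eq_zero
  obtain ⟨⟨s, hs⟩, hsn⟩ := (IsLocalization.map_eq_zero_iff P.primeCompl (Localization.AtPrime P) n).mp h0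
  apply hs
  apply hP.1.2
  rw [Submodule.mem_annihilator_span_singleton]
  exact hsn

end Ring

end Groth.Agent.Lib.Helper7.RedBC
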