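import Mathlib
import Groth.Agent.Lib.Helper7RedBC1

set_option autoImplicit false
set_option linter.style.haveILetI false
set_option linter.unusedVariables false
universe u
open CategoryTheory CategoryTheory.Limits AlgebraicGeometry TensorProduct IsLocalRing

namespace Groth.Agent.Lib.Helper7.RedBC

open Groth.Agent.Lib.Helper7.NoEmbBC Groth.Agent.Lib.Helper7.FibreBC Groth.Agent.Lib.Helper7.RelAssBC
  Groth.Agent.Lib.Helper23.UnitStalk Groth.Agent.Lib.Helper6.NoEmb Groth.Agent.Lib.Helper6.BcBridge
  Groth.Agent.Lib.Helper4.NormDelta Groth.Agent.Lib.Helper23.StalkLin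

section Fibre

variable {k : Type u} [Field k] {X : Scheme.{u}} (f : X ⟶ Spec (CommRingCat.of k))

/-- the `k`-algebra structure on the residue field at `x` -/
@[reducible] noncomputable def resAlg (x : X) : Algebra k (X.residueField x) :=
  (Spec.preimage (X.fromSpecResidueField x ≫ f)).hom.toAlgebra

theorem exists_iso_fibre' (K : Type u) [Field K] [Algebra k K] (x : X) :
    letI := resAlg f x
    Nonempty (Spec (CommRingCat.of (X.residueField x ⊗[k] K)) ≅ (FBase.bcπ f K).fiber x) := by
  letI := resAlg f x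
  let ι := X.fromSpecResidueField x
  have h1 : ι ≫ f = Spec.map (CommRingCat.ofHom (algebraMap k (X.residueField x))) :=
    (Spec.map_preimage _).symm
  exact ⟨(pullbackSpecIso k (X.residueField x) K).symm ≪≫ pullback.congrHom h1.symm rfl ≪≫
    (pullbackRightPullbackFstIso f (Spec.map (CommRingCat.ofHom (algebraMap k K))) ι).symm ≪≫
    pullbackSymmetry _ _⟩

end Fibre

section Sch

variable {k K L : Type u} [Field k] [Field K] [Field L] [Algebra k K] [Algebra k L]

theorem isAssPoint_structureModule_hom_iff {W : Scheme.{u}}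
    (j : Spec (CommRingCat.of (K ⊗[k] L)) ≅ W) (Q : PrimeSpectrum (K ⊗[k] L)) :
    Curv2.IsAssPoint (Coh.structureModule W) (j.hom Q) ↔ Q.asIdeal ∈ minimalPrimes (K ⊗[k] L) := by
  haveI : Q.asIdeal.IsPrime := Q.isPrime
  rw [isAssPoint_structureModule_iff]
  have h1 : IsAssociatedPrime (maximalIdeal (W.presheaf.stalk (j.hom Q))) (W.presheaf.stalk (j.hom Q)) ↔
      IsAssociatedPrime (maximalIdeal (Localization.AtPrime Q.asIdeal))
        (Localization.AtPrime Q.asIdeal) :=
    ⟨isAssociatedPrime_maximalIdeal_of_ringEquiv (stalkEquivSpec j.hom Q),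
      isAssociatedPrime_maximalIdeal_of_ringEquiv (stalkEquivSpec j.hom Q).symm⟩
  rw [h1, isAssociatedPrime_atPrime_iff]

theorem length_stalk_structureModule_hom_eq_one_iff {W : Scheme.{u}}
    (j : Spec (CommRingCat.of (K ⊗[k] L)) ≅ W) (Q : PrimeSpectrum (K ⊗[k] L)) :
    Module.length (W.presheaf.stalk (j.hom Q))
      ((Coh.structureModule W).presheaf.stalk (j.hom Q)) = 1 ↔
      IsField (Localization.AtPrime Q.asIdeal) := by
  rw [length_stalk_structureModule, length_self_eq_one_iff_isField]
  exact (stalkEquivSpec j.hom Q).toMulEquiv.isField_congr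

/-- the structure sheaf of `Spec (K ⊗_k L)` is a reduced module iff the ring is reduced -/
theorem isReducedMod_structureModule_iff_of_iso {W : Scheme.{u}}
    (j : Spec (CommRingCat.of (K ⊗[k] L)) ≅ W) :
    AssSch.IsReducedMod (Coh.structureModule W) ↔ IsReduced (K ⊗[k] L) := by
  constructor
  · rintro ⟨-, hlen⟩
    apply isReduced_of_forall_minimalPrimes_isField (k := k)
    intro Q hQ
    haveI : Q.IsPrime := hQ.1.1
    have h1 : j.hom ⟨Q, hQ.1.1⟩ ∈ AssSch.Ass (Coh.structureModule W) :=
      (isAssPoint_structureModule_hom_iff j ⟨Q, hQ.1.1⟩).mpr hQ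
    exact (length_stalk_structureModule_hom_eq_one_iff j ⟨Q, hQ.1.1⟩).mp (hlen _ h1)
  · intro hred
    refine ⟨noEmbedded_structureModule_of_iso K j, ?_⟩
    intro v hv
    obtain ⟨Q, rfl⟩ : ∃ Q, j.hom Q = v := ⟨j.inv v, Scheme.hom_inv_apply j.symm v⟩
    haveI : Q.asIdeal.IsPrime := Q.isPrime
    have hQ := (isAssPoint_structureModule_hom_iff j Q).mp hv
    refine (length_stalk_structureModule_hom_eq_one_iff j Q).mpr ?_
    haveI : Ring.KrullDimLE 0 (Localization.AtPrime Q.asIdeal) := .of_isLocalization Q.asIdeal hQ _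
    exact Ring.KrullDimLE.isField_of_isReduced

end Sch

end Groth.Agent.Lib.Helper7.RedBC
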