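import Mathlib
import Groth.Agent.S2546
import Groth.Agent.Lib.Helper7RedBC2
import Groth.Agent.Lib.Helper7NoEmbBC3

set_option autoImplicit false
set_option linter.style.haveILetI false
set_option linter.unusedVariables false
universe u
open CategoryTheory CategoryTheory.Limits AlgebraicGeometry TensorProduct IsLocalRing

namespace Groth.Agent.Lib.Helper7.RedBC

open Groth.Agent.Lib.Helper7.NoEmbBC Groth.Agent.Lib.Helper7.FibreBC Groth.Agent.Lib.Helper7.RelAssBC
  Groth.Agent.Lib.Helper23.UnitStalk Groth.Agent.Lib.Helper6.NoEmb Groth.Agent.Lib.Helper6.BcBridge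
  Groth.Agent.Lib.Helper4.NormDelta Groth.Agent.Lib.Helper23.StalkLin

section Core

variable {k : Type u} [Field k] {X : Scheme.{u}} [IsLocallyNoetherian X]
  (f : X ⟶ Spec (CommRingCat.of k))

omit [IsLocallyNoetherian X] in
theorem flat_surjective_bcπ (K : Type u) [Field K] [Algebra k K] :
    Flat (FBase.bcπ f K) ∧ Surjective (FBase.bcπ f K) := by
  haveI hff : (CommRingCat.ofHom (algebraMap k K)).hom.FaithfullyFlat :=
    (RingHom.faithfullyFlat_algebraMap_iff).2 inferInstance
  have hfs := (flat_and_surjective_SpecMap_iff (CommRingCat.ofHom (algebraMap k K))).2 hff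
  haveI : Flat (Spec.map (CommRingCat.ofHom (algebraMap k K))) := hfs.1
  haveI : Surjective (Spec.map (CommRingCat.ofHom (algebraMap k K))) := hfs.2
  exact ⟨(inferInstance : Flat (pullback.fst f (Spec.map (CommRingCat.ofHom (algebraMap k K))))),
    (inferInstance : Surjective (pullback.fst f (Spec.map (CommRingCat.ofHom (algebraMap k K)))))⟩

/-- core: `F ⊗_k K` is a reduced module iff all associated points of `F` are maximal, of length one
and with `κ(x) ⊗_k K` reduced. -/
theorem isReducedMod_bc_iff (F : X.Modules) (hF : Coh.IsCoh F) (K : Type u) [Field K] [Algebra k K]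
    [IsLocallyNoetherian (FBase.bc f K)] :
    AssSch.IsReducedMod ((Scheme.Modules.pullback (FBase.bcπ f K)).obj F) ↔
      ∀ x ∈ AssSch.Ass F, (∀ x' ∈ AssSch.Ass F, x' ⤳ x → x' = x) ∧
        Module.length (X.presheaf.stalk x) (F.presheaf.stalk x) = 1 ∧
        (letI := resAlg f x; IsReduced (X.residueField x ⊗[k] K)) := by
  haveI : Flat (FBase.bcπ f K) := (flat_surjective_bcπ f K).1
  haveI : Surjective (FBase.bcπ f K) := (flat_surjective_bcπ f K).2
  have hS := Groth.Agent.S2546.result (FBase.bcπ f K) F hF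
    (Coh.structureModule (FBase.bc f K)) (isCoh_structureModule _) (isFlatOver_structureModule _)
  rw [← isReducedMod_iff_of_iso (Groth.Agent.Lib.Helper23.TensorUnit.tensorUnitIso
    ((Scheme.Modules.pullback (FBase.bcπ f K)).obj F)), hS]
  constructor
  · intro h x hx
    obtain ⟨z, rfl⟩ := (FBase.bcπ f K).surjective x
    have hz : z ∈ CohB1.support (Coh.structureModule (FBase.bc f K)) :=
      not_subsingleton_iff_nontrivial.2 inferInstance
    obtain ⟨h1, h2, h3⟩ := h _ ⟨hx, z, hz, rfl⟩
    refine ⟨h1, h2, ?_⟩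
    rw [isReducedMod_iff_of_iso (Groth.Agent.Lib.Helper23.PB.pullbackUnitIso _)] at h3
    letI := resAlg f ((FBase.bcπ f K) z)
    obtain ⟨j⟩ := exists_iso_fibre' f K ((FBase.bcπ f K) z)
    exact (isReducedMod_structureModule_iff_of_iso j).mp h3
  · rintro h x ⟨hx, -⟩
    obtain ⟨h1, h2, h3⟩ := h x hx
    refine ⟨h1, h2, ?_⟩
    rw [isReducedMod_iff_of_iso (Groth.Agent.Lib.Helper23.PB.pullbackUnitIso _)]
    letI := resAlg f x
    obtain ⟨j⟩ := exists_iso_fibre' f K x
    exact (isReducedMod_structureModule_iff_of_iso j).mpr h3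

end Core

end Groth.Agent.Lib.Helper7.RedBC
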