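import Mathlib
import Groth.Agent.Lib.Helper7RedBC3

set_option autoImplicit false
set_option linter.style.haveILetI false
set_option linter.unusedVariables false
universe u
open CategoryTheory CategoryTheory.Limits AlgebraicGeometry TensorProduct IsLocalRing

namespace Groth.Agent.Lib.Helper7.RedBC

open Groth.Agent.Lib.Helper7.NoEmbBC Groth.Agent.Lib.Helper7.FibreBC Groth.Agent.Lib.Helper7.RelAssBC
  Groth.Agent.Lib.Helper23.UnitStalk Groth.Agent.Lib.Helper6.NoEmb Groth.Agent.Lib.Helper6.BcBridge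
  Groth.Agent.Lib.Helper4.NormDelta Groth.Agent.Lib.Helper23.StalkLin
  Groth.Agent.Lib.Helper7.AssTensorFlatSch

section Ring

/-- a nontrivial reduced ring with at most one minimal prime is a domain -/
theorem isDomain_of_isReduced_of_subsingleton_minimalPrimes (A : Type*) [CommRing A] [Nontrivial A]
    [IsReduced A] (h : ∀ Q ∈ minimalPrimes A, ∀ Q' ∈ minimalPrimes A, Q = Q') : IsDomain A := by
  obtain ⟨P, hP⟩ := Ideal.nonempty_minimalPrimes (I := (⊥ : Ideal A)) bot_ne_top
  have h1 : sInf (minimalPrimes A) = P := by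
    apply le_antisymm (sInf_le hP)
    apply le_sInf
    intro Q hQ
    rw [h Q hQ P hP]
  have h2 : sInf (minimalPrimes A) = ⊥ := by
    have := Ideal.sInf_minimalPrimes (I := (⊥ : Ideal A))
    rw [show (⊥ : Ideal A).radical = nilradical A from rfl, nilradical_eq_zero] at this
    exact this
  haveI h3 : (⊥ : Ideal A).IsPrime := by
    rw [← h2, h1]; exact hP.1.1
  exact IsDomain.of_bot_isPrime A

theorem minimalPrimes_eq_of_isDomain (A : Type*) [CommRing A] [IsDomain A] (Q : Ideal A)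
    (hQ : Q ∈ minimalPrimes A) : Q = ⊥ :=
  le_antisymm (hQ.2 ⟨Ideal.isPrime_bot, le_rfl⟩ bot_le) bot_le

theorem bot_mem_minimalPrimes_of_isDomain (A : Type*) [CommRing A] [IsDomain A] :
    (⊥ : Ideal A) ∈ minimalPrimes A :=
  ⟨⟨Ideal.isPrime_bot, le_rfl⟩, fun _ _ _ => bot_le⟩

end Ring

section Core

variable {k : Type u} [Field k] {X : Scheme.{u}} [IsLocallyNoetherian X]
  (f : X ⟶ Spec (CommRingCat.of k))

/-- associated points of `F ⊗_k K` on the fibre over `x` -/
theorem isAssPoint_bc_fiberι_iff (F : X.Modules) (hF : Coh.IsCoh F) (K : Type u) [Field K]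
    [Algebra k K] [IsLocallyNoetherian (FBase.bc f K)] (x : X) (z : (FBase.bcπ f K).fiber x) :
    Curv2.IsAssPoint ((Scheme.Modules.pullback (FBase.bcπ f K)).obj F)
        ((FBase.bcπ f K).fiberι x z) ↔
      Curv2.IsAssPoint F x ∧ Curv2.IsAssPoint (Coh.structureModule ((FBase.bcπ f K).fiber x)) z := by
  haveI : Flat (FBase.bcπ f K) := (flat_surjective_bcπ f K).1
  haveI : F.IsQuasicoherent := hF.1
  rw [isAssPoint_iff_of_iso (Groth.Agent.Lib.Helper23.TensorUnit.tensorUnitIso
    ((Scheme.Modules.pullback (FBase.bcπ f K)).obj F)).symm,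
    isAssPoint_tensor_pullback_iff (FBase.bcπ f K) F (Coh.structureModule (FBase.bc f K)) _
      (isFlatOver_structureModule _ _),
    ← isAssPoint_fibre_iff (FBase.bcπ f K) (Coh.structureModule (FBase.bc f K)) x z,
    isAssPoint_iff_of_iso (Groth.Agent.Lib.Helper23.PB.pullbackUnitIso _)]
  have hx : (FBase.bcπ f K) ((FBase.bcπ f K).fiberι x z) = x := fiberι_mem' _ _ _
  rw [hx]

theorem exists_fiberι_eq {A B : Scheme.{u}} (φ : A ⟶ B) (a : A) :
    ∃ z : φ.fiber (φ a), φ.fiberι (φ a) z = a := by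
  have : a ∈ Set.range (φ.fiberι (φ a)) := by
    rw [Scheme.Hom.range_fiberι]; rfl
  exact this

theorem exists_fiberι_eq' {A B : Scheme.{u}} (φ : A ⟶ B) (a : A) (b : B) (h : φ a = b) :
    ∃ z : φ.fiber b, φ.fiberι b z = a := by
  subst h
  exact exists_fiberι_eq φ a

/-- core for integrality: `F ⊗_k K` is integral iff `F` has a unique associated point `x`, of
length one, with `κ(x) ⊗_k K` a domain -/
theorem isIntegralMod_bc_iff (F : X.Modules) (hF : Coh.IsCoh F) (K : Type u) [Field K]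
    [Algebra k K] [IsLocallyNoetherian (FBase.bc f K)] :
    (∃ x' : ↥(FBase.bc f K),
        AssSch.Ass ((Scheme.Modules.pullback (FBase.bcπ f K)).obj F) = {x'} ∧
        Module.length ↑((FBase.bc f K).presheaf.stalk x')
          ↑(((Scheme.Modules.pullback (FBase.bcπ f K)).obj F).presheaf.stalk x') = 1) ↔
      ∃ x : X, AssSch.Ass F = {x} ∧
        Module.length (X.presheaf.stalk x) (F.presheaf.stalk x) = 1 ∧
        (letI := resAlg f x; IsDomain (X.residueField x ⊗[k] K)) := by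
  constructor
  · rintro ⟨x', hA, hL⟩
    have hx'mem : x' ∈ AssSch.Ass ((Scheme.Modules.pullback (FBase.bcπ f K)).obj F) := by
      rw [hA]; rfl
    have hred : AssSch.IsReducedMod ((Scheme.Modules.pullback (FBase.bcπ f K)).obj F) := by
      refine ⟨fun a ha b hb _ => ?_, fun a ha => ?_⟩
      · rw [hA] at ha hb
        rw [Set.mem_singleton_iff.mp ha, Set.mem_singleton_iff.mp hb]
      · rw [hA] at ha
        rw [Set.mem_singleton_iff.mp ha]; exact hL
    have hD := (isReducedMod_bc_iff f F hF K).mp hred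
    obtain ⟨z, hz⟩ := exists_fiberι_eq (FBase.bcπ f K) x'
    have h1 : Curv2.IsAssPoint ((Scheme.Modules.pullback (FBase.bcπ f K)).obj F)
        ((FBase.bcπ f K).fiberι _ z) := by rw [hz]; exact hx'mem
    have hx : (FBase.bcπ f K) x' ∈ AssSch.Ass F :=
      ((isAssPoint_bc_fiberι_iff f F hF K _ z).mp h1).1
    have hAF : AssSch.Ass F = {(FBase.bcπ f K) x'} := by
      ext x₁
      constructor
      · intro hx₁
        letI := resAlg f x₁
        obtain ⟨j₁⟩ := exists_iso_fibre' f K x₁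
        obtain ⟨Q₁, hQ₁⟩ := Ideal.nonempty_minimalPrimes
          (I := (⊥ : Ideal (X.residueField x₁ ⊗[k] K))) bot_ne_top
        have h2 : Curv2.IsAssPoint ((Scheme.Modules.pullback (FBase.bcπ f K)).obj F)
            ((FBase.bcπ f K).fiberι x₁ (j₁.hom ⟨Q₁, hQ₁.1.1⟩)) :=
          (isAssPoint_bc_fiberι_iff f F hF K x₁ _).mpr
            ⟨hx₁, (isAssPoint_structureModule_hom_iff j₁ ⟨Q₁, hQ₁.1.1⟩).mpr hQ₁⟩
        have h3 : (FBase.bcπ f K).fiberι x₁ (j₁.hom ⟨Q₁, hQ₁.1.1⟩) = x' := by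
          have : (FBase.bcπ f K).fiberι x₁ (j₁.hom ⟨Q₁, hQ₁.1.1⟩) ∈
              AssSch.Ass ((Scheme.Modules.pullback (FBase.bcπ f K)).obj F) := h2
          rw [hA] at this
          exact this
        rw [Set.mem_singleton_iff, ← h3, fiberι_mem']
      · intro hx₁
        rw [Set.mem_singleton_iff.mp hx₁]; exact hx
    obtain ⟨-, hlen, hRed⟩ := hD _ hx
    refine ⟨(FBase.bcπ f K) x', hAF, hlen, ?_⟩
    letI := resAlg f ((FBase.bcπ f K) x')
    haveI := hRed
    obtain ⟨j⟩ := exists_iso_fibre' f K ((FBase.bcπ f K) x')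
    apply isDomain_of_isReduced_of_subsingleton_minimalPrimes
    intro Q hQ Q' hQ'
    have hpt : ∀ (P : Ideal (X.residueField ((FBase.bcπ f K) x') ⊗[k] K))
        (hP : P ∈ minimalPrimes (X.residueField ((FBase.bcπ f K) x') ⊗[k] K)),
        (FBase.bcπ f K).fiberι _ (j.hom ⟨P, hP.1.1⟩) = x' := by
      intro P hP
      have : (FBase.bcπ f K).fiberι _ (j.hom ⟨P, hP.1.1⟩) ∈
          AssSch.Ass ((Scheme.Modules.pullback (FBase.bcπ f K)).obj F) :=
        (isAssPoint_bc_fiberι_iff f F hF K _ _).mpr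
          ⟨hx, (isAssPoint_structureModule_hom_iff j ⟨P, hP.1.1⟩).mpr hP⟩
      rw [hA] at this
      exact this
    have h4 := (hpt Q hQ).trans (hpt Q' hQ').symm
    have h5 := ((FBase.bcπ f K).fiberι _).isEmbedding.injective h4
    have h6 := j.hom.isOpenEmbedding.injective h5
    exact congrArg PrimeSpectrum.asIdeal h6
  · rintro ⟨x, hAF, hlen, hDom⟩
    letI := resAlg f x
    haveI := hDom
    obtain ⟨j⟩ := exists_iso_fibre' f K x
    have hx : x ∈ AssSch.Ass F := by rw [hAF]; rfl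
    have hred : AssSch.IsReducedMod ((Scheme.Modules.pullback (FBase.bcπ f K)).obj F) := by
      rw [isReducedMod_bc_iff f F hF K]
      intro x₁ hx₁
      rw [hAF] at hx₁
      obtain rfl := Set.mem_singleton_iff.mp hx₁
      refine ⟨fun x₂ hx₂ _ => ?_, hlen, inferInstance⟩
      rw [hAF] at hx₂
      exact Set.mem_singleton_iff.mp hx₂
    have hbot := bot_mem_minimalPrimes_of_isDomain (X.residueField x ⊗[k] K)
    have hmem : (FBase.bcπ f K).fiberι x (j.hom ⟨⊥, hbot.1.1⟩) ∈
        AssSch.Ass ((Scheme.Modules.pullback (FBase.bcπ f K)).obj F) :=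
      (isAssPoint_bc_fiberι_iff f F hF K _ _).mpr
        ⟨hx, (isAssPoint_structureModule_hom_iff j ⟨⊥, hbot.1.1⟩).mpr hbot⟩
    refine ⟨(FBase.bcπ f K).fiberι x (j.hom ⟨⊥, hbot.1.1⟩), ?_, hred.2 _ hmem⟩
    ext y
    constructor
    · intro hy
      obtain ⟨z₁, hz₁⟩ := exists_fiberι_eq (FBase.bcπ f K) y
      have h1 : Curv2.IsAssPoint ((Scheme.Modules.pullback (FBase.bcπ f K)).obj F)
          ((FBase.bcπ f K).fiberι _ z₁) := by rw [hz₁]; exact hy
      have h2 : (FBase.bcπ f K) y ∈ AssSch.Ass F :=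
        ((isAssPoint_bc_fiberι_iff f F hF K _ z₁).mp h1).1
      rw [hAF] at h2
      obtain ⟨z, rfl⟩ := exists_fiberι_eq' (FBase.bcπ f K) y x (Set.mem_singleton_iff.mp h2)
      have h3 := ((isAssPoint_bc_fiberι_iff f F hF K x z).mp hy).2
      obtain ⟨Q, rfl⟩ : ∃ Q, j.hom Q = z := ⟨j.inv z, Scheme.hom_inv_apply j.symm z⟩
      have h4 := (isAssPoint_structureModule_hom_iff j Q).mp h3
      have h5 : Q = ⟨⊥, hbot.1.1⟩ := PrimeSpectrum.ext (minimalPrimes_eq_of_isDomain _ _ h4)
      rw [h5]; rfl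
    · intro hy
      rw [Set.mem_singleton_iff.mp hy]; exact hmem

end Core

end Groth.Agent.Lib.Helper7.RedBC
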