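import Mathlib
import Groth.Agent.Lib.Helper7RedBC3
import Groth.Agent.Lib.Helper14GeomRed

set_option autoImplicit false
set_option linter.style.haveILetI false
set_option linter.unusedVariables false
universe u
open CategoryTheory CategoryTheory.Limits AlgebraicGeometry TensorProduct IsLocalRing

namespace Groth.Agent.Lib.Helper7.RedBC

open Groth.Agent.Lib.Helper7.NoEmbBC Groth.Agent.Lib.Helper7.FibreBC Groth.Agent.Lib.Helper7.RelAssBC
  Groth.Agent.Lib.Helper23.UnitStalk Groth.Agent.Lib.Helper6.NoEmb Groth.Agent.Lib.Helper6.BcBridge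
  Groth.Agent.Lib.Helper4.NormDelta Groth.Agent.Lib.Helper23.StalkLin
  Groth.Agent.Lib.Helper14.GeomRed

section Gen

variable {k : Type u} [Field k] {X : Scheme.{u}} [IsLocallyNoetherian X]
  (f : X ⟶ Spec (CommRingCat.of k))

omit [IsLocallyNoetherian X] in
theorem flat_surjective_of_isPullback (K : Type u) [Field K] [Algebra k K] {W : Scheme.{u}}
    (π' : W ⟶ X) (s : W ⟶ Spec (CommRingCat.of K))
    (h : IsPullback π' s f (Spec.map (CommRingCat.ofHom (algebraMap k K)))) :
    Flat π' ∧ Surjective π' := by
  haveI : Flat (pullback.fst f (Spec.map (CommRingCat.ofHom (algebraMap k K)))) :=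
    (flat_surjective_bcπ f K).1
  haveI : Surjective (pullback.fst f (Spec.map (CommRingCat.ofHom (algebraMap k K)))) :=
    (flat_surjective_bcπ f K).2
  have e : h.isoPullback.hom ≫ pullback.fst f (Spec.map (CommRingCat.ofHom (algebraMap k K))) =
      π' := h.isoPullback_hom_fst
  rw [← e]
  exact ⟨inferInstance, inferInstance⟩

omit [IsLocallyNoetherian X] in
theorem exists_iso_fibre_of_isPullback (K : Type u) [Field K] [Algebra k K] {W : Scheme.{u}}
    (π' : W ⟶ X) (s : W ⟶ Spec (CommRingCat.of K))
    (h : IsPullback π' s f (Spec.map (CommRingCat.ofHom (algebraMap k K)))) (x : X) :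
    letI := resAlg f x
    Nonempty (Spec (CommRingCat.of (X.residueField x ⊗[k] K)) ≅ π'.fiber x) := by
  letI := resAlg f x
  have h1 : X.fromSpecResidueField x ≫ f =
      Spec.map (CommRingCat.ofHom (algebraMap k (X.residueField x))) :=
    (Spec.map_preimage _).symm
  have hs : IsPullback (π'.fiberToSpecResidueField x) (π'.fiberι x)
      (X.fromSpecResidueField x) π' :=
    (IsPullback.of_hasPullback π' (X.fromSpecResidueField x)).flip
  have hp := hs.paste_vert h
  exact ⟨(pullbackSpecIso k (X.residueField x) K).symm ≪≫ pullback.congrHom h1.symm rfl ≪≫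
    hp.isoPullback.symm⟩

/-- core, for an arbitrary pullback square -/
theorem isReducedMod_pullback_iff_of_isPullback (F : X.Modules) (hF : Coh.IsCoh F) (K : Type u)
    [Field K] [Algebra k K] {W : Scheme.{u}} [IsLocallyNoetherian W]
    (π' : W ⟶ X) (s : W ⟶ Spec (CommRingCat.of K))
    (h : IsPullback π' s f (Spec.map (CommRingCat.ofHom (algebraMap k K)))) :
    AssSch.IsReducedMod ((Scheme.Modules.pullback π').obj F) ↔
      ∀ x ∈ AssSch.Ass F, (∀ x' ∈ AssSch.Ass F, x' ⤳ x → x' = x) ∧
        Module.length (X.presheaf.stalk x) (F.presheaf.stalk x) = 1 ∧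
        (letI := resAlg f x; IsReduced (X.residueField x ⊗[k] K)) := by
  haveI : Flat π' := (flat_surjective_of_isPullback f K π' s h).1
  haveI : Surjective π' := (flat_surjective_of_isPullback f K π' s h).2
  have hS := Groth.Agent.S2546.result π' F hF
    (Coh.structureModule W) (isCoh_structureModule _) (isFlatOver_structureModule _)
  rw [← isReducedMod_iff_of_iso (Groth.Agent.Lib.Helper23.TensorUnit.tensorUnitIso
    ((Scheme.Modules.pullback π').obj F)), hS]
  constructor
  · intro h' x hx
    obtain ⟨z, rfl⟩ := π'.surjective x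
    have hz : z ∈ CohB1.support (Coh.structureModule W) :=
      not_subsingleton_iff_nontrivial.2 inferInstance
    obtain ⟨h1, h2, h3⟩ := h' _ ⟨hx, z, hz, rfl⟩
    refine ⟨h1, h2, ?_⟩
    rw [isReducedMod_iff_of_iso (Groth.Agent.Lib.Helper23.PB.pullbackUnitIso _)] at h3
    letI := resAlg f (π' z)
    obtain ⟨j⟩ := exists_iso_fibre_of_isPullback f K π' s h (π' z)
    exact (isReducedMod_structureModule_iff_of_iso j).mp h3
  · rintro h' x ⟨hx, -⟩
    obtain ⟨h1, h2, h3⟩ := h' x hx
    refine ⟨h1, h2, ?_⟩
    rw [isReducedMod_iff_of_iso (Groth.Agent.Lib.Helper23.PB.pullbackUnitIso _)]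
    letI := resAlg f x
    obtain ⟨j⟩ := exists_iso_fibre_of_isPullback f K π' s h x
    exact (isReducedMod_structureModule_iff_of_iso j).mpr h3

theorem isLocallyNoetherian_bc_of_finite (k' : Type u) [Field k']
    [Algebra k k'] [FiniteDimensional k k'] : IsLocallyNoetherian (FBase.bc f k') := by
  haveI : LocallyOfFiniteType (Spec.map (CommRingCat.ofHom (algebraMap k k'))) := by
    rw [HasRingHomProperty.Spec_iff (P := @LocallyOfFiniteType)]
    show (algebraMap k k').FiniteType
    rw [RingHom.finiteType_algebraMap]
    infer_instance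
  haveI : LocallyOfFiniteType (FBase.bcπ f k') :=
    (inferInstance : LocallyOfFiniteType
      (pullback.fst f (Spec.map (CommRingCat.ofHom (algebraMap k k')))))
  exact LocallyOfFiniteType.isLocallyNoetherian (FBase.bcπ f k')

theorem isReduced_comm {k : Type u} [Field k] (A B : Type u) [CommRing A] [CommRing B]
    [Algebra k A] [Algebra k B] (h : IsReduced (A ⊗[k] B)) : IsReduced (B ⊗[k] A) :=
  isReduced_of_injective (Algebra.TensorProduct.comm k B A).toRingHom
    (Algebra.TensorProduct.comm k B A).injective

/-- geometric reducedness: the associated points are maximal, of length one and have geometrically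
reduced residue fields -/
theorem geomReduced_of_forall (F : X.Modules) (hF : Coh.IsCoh F)
    (h : ∀ (k' : Type u) [Field k'] [Algebra k k'] [FiniteDimensional k k']
      [IsPurelyInseparable k k'],
      AssSch.IsReducedMod ((Scheme.Modules.pullback (FBase.bcπ f k')).obj F)) :
    ∀ x ∈ AssSch.Ass F, (∀ x' ∈ AssSch.Ass F, x' ⤳ x → x' = x) ∧
        Module.length (X.presheaf.stalk x) (F.presheaf.stalk x) = 1 ∧
        (letI := resAlg f x; Algebra.IsGeometricallyReduced k (X.residueField x)) := by
  intro x hx
  haveI := isLocallyNoetherian_bc_of_finite f k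
  obtain ⟨h1, h2, -⟩ := (isReducedMod_bc_iff f F hF k).mp (h k) x hx
  refine ⟨h1, h2, ?_⟩
  letI := resAlg f x
  apply isGeometricallyReduced_of_forall_finite_purelyInseparable
  intro k' _ _ _ _
  haveI := isLocallyNoetherian_bc_of_finite f k'
  exact isReduced_comm _ _ ((isReducedMod_bc_iff f F hF k').mp (h k') x hx).2.2

omit [IsLocallyNoetherian X] in
/-- every module is flat over a field -/
theorem isFlatOver_of_field (F : X.Modules) : FlatMod.IsFlatOver f F := by
  intro x
  have hfield : IsField ((Spec (CommRingCat.of k)).presheaf.stalk (f x)) := by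
    have e := stalkEquivSpec (𝟙 (Spec (CommRingCat.of k))) (f x)
    haveI : (f x).asIdeal.IsPrime := (f x).isPrime
    have h2 : IsField (Localization.AtPrime (f x).asIdeal) := by
      have hb : Function.Bijective (algebraMap k (Localization.AtPrime (f x).asIdeal)) :=
        Field.localization_map_bijective (M := (f x).asIdeal.primeCompl)
          (fun h0 => h0 (Ideal.zero_mem _))
      exact (RingEquiv.ofBijective (algebraMap k (Localization.AtPrime (f x).asIdeal))
        hb).symm.toMulEquiv.isField (Field.toIsField k)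
    exact e.toMulEquiv.isField h2
  letI := hfield.toField
  letI mAF := FlatMod.moduleStalkOver f F x
  show Module.Flat ((Spec (CommRingCat.of k)).presheaf.stalk (f x)) (F.presheaf.stalk x)
  infer_instance

end Gen

end Groth.Agent.Lib.Helper7.RedBC
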