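import Mathlib
import Groth.Agent.Lib.Helper7Reg751
import Groth.Agent.Lib.Helper28ComplFlatLocal
import Groth.Agent.S9295

/-!
# EGA IV 7.5.1 (regular case), general Noetherian local rings via completion (helper7)
-/

set_option autoImplicit false
set_option linter.style.haveILetI false
set_option linter.unusedSectionVars false
universe u

namespace Groth.Agent.Lib.Helper7.Reg751

open IsLocalRing TensorProduct

section compat

variable (A Â : Type*) [CommRing A] [CommRing Â] [Algebra A Â] [IsLocalRing A] [IsLocalRing Â]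

/-- tensoring over `A` or over `Â` is the same when the first factor is killed by
`𝔪_Â = 𝔪_A Â` and `A → Â/𝔪_Â` is surjective -/
theorem compatibleSMul_of_residue
    (hm : (maximalIdeal A).map (algebraMap A Â) = maximalIdeal Â)
    (hres : ∀ x : Â, ∃ a : A, x - algebraMap A Â a ∈ maximalIdeal Â)
    (K M : Type*) [AddCommGroup K] [Module A K] [Module Â K] [IsScalarTower A Â K]
    [AddCommGroup M] [Module A M] [Module Â M] [IsScalarTower A Â M]
    (hk : ∀ a ∈ maximalIdeal Â, ∀ x : K, a • x = 0) : TensorProduct.CompatibleSMul A Â K M := by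
  have key : ∀ r ∈ maximalIdeal Â, ∀ (m : K) (n : M), m ⊗ₜ[A] (r • n) = 0 := by
    intro r hr
    rw [← hm, Ideal.map] at hr
    refine Submodule.span_induction (p := fun r _ => ∀ (m : K) (n : M), m ⊗ₜ[A] (r • n) = 0)
      ?_ ?_ ?_ ?_ hr
    · rintro _ ⟨a, ha, rfl⟩ m n
      rw [algebraMap_smul, TensorProduct.tmul_smul,
        TensorProduct.smul_tmul', ← algebraMap_smul Â a m,
        hk _ (hm ▸ Ideal.mem_map_of_mem _ ha), TensorProduct.zero_tmul]
    · intro m n
      rw [zero_smul, TensorProduct.tmul_zero]
    · intro x y _ _ hx hy m n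
      rw [add_smul, TensorProduct.tmul_add, hx, hy, add_zero]
    · intro a x _ hx m n
      rw [smul_eq_mul, mul_comm, mul_smul]
      exact hx m (a • n)
  refine ⟨fun r m n => ?_⟩
  obtain ⟨a, ha⟩ := hres r
  have hr : r = algebraMap A Â a + (r - algebraMap A Â a) := by ring
  rw [hr, add_smul, add_smul, TensorProduct.add_tmul, TensorProduct.tmul_add, hk _ ha,
    key _ ha, TensorProduct.zero_tmul, algebraMap_smul, algebraMap_smul,
    TensorProduct.smul_tmul]

/-- finiteness over `Â` gives finiteness over `A` when `Â` acts through `A` -/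
theorem finite_of_finite_of_residue
    (hres : ∀ x : Â, ∃ a : A, x - algebraMap A Â a ∈ maximalIdeal Â)
    (K : Type*) [AddCommGroup K] [Module A K] [Module Â K] [IsScalarTower A Â K]
    (hk : ∀ a ∈ maximalIdeal Â, ∀ x : K, a • x = 0) [Module.Finite Â K] : Module.Finite A K := by
  obtain ⟨s, hs⟩ := (Module.finite_def (R := Â) (M := K)).1 inferInstance
  refine ⟨⟨s, ?_⟩⟩
  let N : Submodule Â K :=
    { carrier := Submodule.span A (s : Set K)
      add_mem' := fun ha hb => Submodule.add_mem _ ha hb
      zero_mem' := Submodule.zero_mem _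
      smul_mem' := by
        intro c x hx
        obtain ⟨a, ha⟩ := hres c
        have hc : c • x = a • x := by
          have : c = algebraMap A Â a + (c - algebraMap A Â a) := by ring
          rw [this, add_smul, hk _ ha, add_zero, algebraMap_smul]
        rw [hc]
        exact Submodule.smul_mem _ _ hx }
  have hN : Submodule.span Â (s : Set K) ≤ N := Submodule.span_le.2 Submodule.subset_span
  rw [hs] at hN
  rw [eq_top_iff]
  intro x _
  exact hN (Submodule.mem_top : x ∈ (⊤ : Submodule Â K))

end compat

/-- the closed fibre over `Â` from the closed fibre over `A` -/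
theorem geomRegular_closedFibre_of_residue (A Â B' : Type u) [CommRing A] [CommRing Â]
    [CommRing B'] [Algebra A Â] [IsLocalRing A] [IsLocalRing Â]
    [Algebra A B'] [Algebra Â B'] [IsScalarTower A Â B']
    (hm : (maximalIdeal A).map (algebraMap A Â) = maximalIdeal Â)
    (hres : ∀ x : Â, ∃ a : A, x - algebraMap A Â a ∈ maximalIdeal Â)
    (h : CAlg.IsGeometricallyRegular (maximalIdeal A).ResidueField
      ((maximalIdeal A).Fiber B')) :
    CAlg.IsGeometricallyRegular (maximalIdeal Â).ResidueField ((maximalIdeal Â).Fiber B') := by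
  intro k'' _ _ hfin
  letI algÂ : Algebra Â k'' := ((algebraMap (maximalIdeal Â).ResidueField k'').comp
    (algebraMap Â (maximalIdeal Â).ResidueField)).toAlgebra
  haveI : IsScalarTower Â (maximalIdeal Â).ResidueField k'' := .of_algebraMap_eq fun _ => rfl
  letI algA : Algebra A k'' := ((algebraMap Â k'').comp (algebraMap A Â)).toAlgebra
  haveI : IsScalarTower A Â k'' := .of_algebraMap_eq fun _ => rfl
  have hk : ∀ a ∈ maximalIdeal Â, ∀ x : k'', a • x = 0 := by
    intro a ha x
    rw [Algebra.smul_def, IsScalarTower.algebraMap_apply Â (maximalIdeal Â).ResidueField k'',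
      Ideal.algebraMap_residueField_eq_zero.2 ha, map_zero, zero_mul]
  let f0 : A →+* k'' := algebraMap A k''
  have hf1 : maximalIdeal A ≤ RingHom.ker f0 := by
    intro a ha
    rw [RingHom.mem_ker]
    change algebraMap A k'' a = 0
    rw [IsScalarTower.algebraMap_apply A Â k'']
    have := hk (algebraMap A Â a) (hm ▸ Ideal.mem_map_of_mem _ ha) 1
    rwa [Algebra.smul_def, mul_one] at this
  have hf2 : (maximalIdeal A).primeCompl ≤ (IsUnit.submonoid k'').comap f0 := by
    intro a ha
    have hu : IsUnit a := by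
      by_contra hnu
      exact ha ((mem_maximalIdeal a).2 hnu)
    exact hu.map f0
  letI : Algebra (maximalIdeal A).ResidueField k'' :=
    (Ideal.ResidueField.lift (maximalIdeal A) f0 hf1 hf2).toAlgebra
  haveI : IsScalarTower A (maximalIdeal A).ResidueField k'' :=
    .of_algebraMap_eq fun a =>
      (Ideal.ResidueField.lift_algebraMap (maximalIdeal A) f0 hf1 hf2 a).symm
  haveI : Module.Finite Â (maximalIdeal Â).ResidueField :=
    Module.Finite.of_surjective (Algebra.linearMap Â _)
      (Ideal.algebraMap_residueField_surjective _)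
  haveI : Module.Finite Â k'' := Module.Finite.trans (maximalIdeal Â).ResidueField k''
  haveI : Module.Finite A k'' := finite_of_finite_of_residue A Â hres k'' hk
  haveI : Module.Finite (maximalIdeal A).ResidueField k'' :=
    Module.Finite.of_restrictScalars_finite A _ _
  haveI h1 := h k'' inferInstance
  haveI h2 : IsRegularRing (k'' ⊗[A] B') := IsRegularRing.of_ringEquiv
    (Algebra.TensorProduct.cancelBaseChange A (maximalIdeal A).ResidueField k'' k'' B').toRingEquiv
  haveI := compatibleSMul_of_residue A Â hm hres k'' B' hk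
  haveI h3 : IsRegularRing (k'' ⊗[Â] B') := IsRegularRing.of_ringEquiv
    (Algebra.TensorProduct.equivOfCompatibleSMul A Â k'' k'' B').symm.toRingEquiv
  exact IsRegularRing.of_ringEquiv
    (Algebra.TensorProduct.cancelBaseChange Â (maximalIdeal Â).ResidueField k'' k'' B').symm.toRingEquiv

/-- `R → R̂/𝔪` is surjective -/
theorem exists_sub_mem_maximalIdeal_cpl (R : Type u) [CommRing R] [IsNoetherianRing R]
    [IsLocalRing R] (x : EGA4.Cpl R) :
    ∃ a : R, x - algebraMap R (EGA4.Cpl R) a ∈ maximalIdeal (EGA4.Cpl R) := by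
  obtain ⟨y, hy⟩ := (AdicCompletion.residueField_map_bijective R).2 (residue _ x)
  obtain ⟨a, rfl⟩ := residue_surjective y
  refine ⟨a, ?_⟩
  rw [← residue_eq_zero_iff, map_sub, sub_eq_zero, ← hy]
  rfl

/-- **EGA IV 7.5.1 (regular case)** (S4708). -/
theorem isRegularHom_of_closedFibre_cpl (A B : Type u) [CommRing A] [CommRing B]
    [IsNoetherianRing A] [IsNoetherianRing B] [IsLocalRing A] [IsLocalRing B] [Algebra A B]
    [IsLocalHom (algebraMap A B)] [Module.Flat A B]
    [Module.Finite (ResidueField A) (ResidueField B)]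
    (hA : CAlg.IsRegularHom A (EGA4.Cpl A))
    (h : CAlg.IsGeometricallyRegular (maximalIdeal A).ResidueField
      ((maximalIdeal A).Fiber (EGA4.Cpl B))) :
    CAlg.IsRegularHom A B := by
  obtain ⟨alg, htower, hloc, hflat⟩ :=
    Groth.Agent.Lib.Helper28.exists_algebra_adicCompletion_of_isLocalHom A B
  letI := alg
  haveI := htower
  haveI := hloc
  haveI := hflat inferInstance
  haveI : IsNoetherianRing (EGA4.Cpl A) :=
    Groth.Agent.Lib.Helper19.isNoetherianRing_adicCompletion _
  haveI : IsNoetherianRing (EGA4.Cpl B) :=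
    Groth.Agent.Lib.Helper19.isNoetherianRing_adicCompletion _
  have hm : (maximalIdeal A).map (algebraMap A (EGA4.Cpl A)) = maximalIdeal (EGA4.Cpl A) :=
    AdicCompletion.maximalIdeal_eq_map.symm
  have hT := geomRegular_closedFibre_of_residue A (EGA4.Cpl A) (EGA4.Cpl B) hm
    (exists_sub_mem_maximalIdeal_cpl A) h
  haveI : IsLocalHom (algebraMap A (EGA4.Cpl B)) := by
    rw [IsScalarTower.algebraMap_eq A B (EGA4.Cpl B)]
    exact RingHom.isLocalHom_comp _ _
  haveI : Module.Finite (ResidueField B) (ResidueField (EGA4.Cpl B)) := by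
    refine Module.Finite.of_surjective (Algebra.linearMap _ _) ?_
    intro y
    obtain ⟨x, rfl⟩ := residue_surjective y
    obtain ⟨b, hb⟩ := exists_sub_mem_maximalIdeal_cpl B x
    refine ⟨residue B b, ?_⟩
    rw [Algebra.linearMap_apply, ResidueField.algebraMap_residue]
    symm
    rw [← sub_eq_zero, ← map_sub, residue_eq_zero_iff]
    exact hb
  haveI : Module.Finite (ResidueField A) (ResidueField (EGA4.Cpl B)) :=
    Module.Finite.trans (ResidueField B) _
  haveI : Module.Finite (ResidueField (EGA4.Cpl A)) (ResidueField (EGA4.Cpl B)) :=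
    Module.Finite.of_restrictScalars_finite (ResidueField A) _ _
  have h4 := isRegularHom_of_complete (EGA4.Cpl A) (EGA4.Cpl B) hT
  have h5 : CAlg.IsRegularHom A (EGA4.Cpl B) :=
    Groth.Agent.Lib.Helper7.RegComp.isRegularHom_comp A (EGA4.Cpl A) (EGA4.Cpl B) hA h4
  haveI : Module.FaithfullyFlat B (EGA4.Cpl B) := Module.FaithfullyFlat.of_flat_of_isLocalHom
  exact Groth.Agent.S9295.result A B (EGA4.Cpl B) h5
    PrimeSpectrum.comap_surjective_of_faithfullyFlat

end Groth.Agent.Lib.Helper7.Reg751
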