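import Mathlib.AlgebraicGeometry.Morphisms.Flat

open CategoryTheory AlgebraicGeometry Topology Limits TopologicalSpace
namespace Groth.Agent.Lib.Helper7
universe u

set_option backward.isDefEq.respectTransparency.types false in
/-- A flat surjective morphism is injective on sections over every open. -/
lemma app_injective_of_flat_of_surjective {X Y : Scheme.{u}} (g : X ⟶ Y) [Flat g] [Surjective g]
    (V : Y.Opens) : Function.Injective (g.app V) := by
  rw [injective_iff_map_eq_zero]
  intro t ht
  apply TopCat.Presheaf.section_ext Y.sheaf V t 0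
  intro y hy
  obtain ⟨x, rfl⟩ := g.surjective y
  have hinj : Function.Injective (g.stalkMap x) := by
    algebraize [(g.stalkMap x).hom]
    have : Module.FaithfullyFlat (Y.presheaf.stalk (g x)) (X.presheaf.stalk x) :=
      @Module.FaithfullyFlat.of_flat_of_isLocalHom _ _ _ _ _ _ _
        (Flat.stalkMap g x) (g.toLRSHom.prop x)
    exact ‹RingHom.FaithfullyFlat _›.injective
  have h1 : g.stalkMap x (Y.presheaf.germ V (g x) hy t) = 0 := by
    rw [Scheme.Hom.germ_stalkMap_apply, ht, map_zero]
  have h2 : Y.presheaf.germ V (g x) hy t = 0 := hinj (h1.trans (map_zero _).symm)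
  exact h2.trans (map_zero (Y.presheaf.germ V (g x) hy).hom).symm

end Groth.Agent.Lib.Helper7
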