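import Mathlib
import Groth.Agent.Lib.Helper7SepPlace

/-!
Helper library (helper7): elements of `k K^p` as `∑ b_i z_i^p` for a `k^p`-spanning family `b`.
-/

set_option autoImplicit false
set_option linter.style.haveILetI false
set_option linter.unusedSectionVars false
universe u v w
open TensorProduct

namespace Groth.Agent.Lib.Helper7.SepPlace

section Repr

variable {k : Type u} {K : Type v} [Field k] [Field K] [Algebra k K] (p : ℕ) [Fact p.Prime]
  [CharP K p] {ι : Type w} (b : ι → k)

/-- the map `z ↦ ∑ b_i z_i^p` -/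
noncomputable def Phi (z : ι →₀ K) : K := z.sum (fun i zi => algebraMap k K (b i) * zi ^ p)

lemma Phi_zero : Phi p b (0 : ι →₀ K) = 0 := by
  unfold Phi; exact Finsupp.sum_zero_index

lemma Phi_add (z z' : ι →₀ K) : Phi p b (z + z') = Phi p b z + Phi p b z' := by
  have hp : p.Prime := Fact.out
  unfold Phi
  refine Finsupp.sum_add_index' (fun i => ?_) (fun i x y => ?_)
  · rw [zero_pow hp.ne_zero, mul_zero]
  · rw [add_pow_char, mul_add]

/-- the set of values of `Phi` -/
def T : Set K := Set.range (Phi p b)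

lemma T_zero : (0 : K) ∈ T p b := ⟨0, Phi_zero p b⟩

lemma T_add {w w' : K} (h : w ∈ T p b) (h' : w' ∈ T p b) : w + w' ∈ T p b := by
  obtain ⟨z, rfl⟩ := h
  obtain ⟨z', rfl⟩ := h'
  exact ⟨z + z', Phi_add p b z z'⟩

lemma T_sum {α : Type*} (s : Finset α) (f : α → K) (h : ∀ a ∈ s, f a ∈ T p b) :
    ∑ a ∈ s, f a ∈ T p b :=
  Finset.sum_induction f (· ∈ T p b) (fun _ _ => T_add p b) (T_zero p b) h

variable (hspan : ∀ a : k, ∃ c : ι →₀ k, a = c.sum (fun i ci => ci ^ p * b i))

include hspan in
lemma T_key (a : k) (y : K) : algebraMap k K a * y ^ p ∈ T p b := by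
  have hp : p.Prime := Fact.out
  obtain ⟨c, hc⟩ := hspan a
  refine ⟨c.mapRange (fun ci => algebraMap k K ci * y) (by rw [map_zero, zero_mul]), ?_⟩
  unfold Phi
  rw [Finsupp.sum_mapRange_index (fun i => by rw [zero_pow hp.ne_zero, mul_zero])]
  conv_rhs => rw [hc]
  simp only [Finsupp.sum, map_sum, Finset.sum_mul]
  refine Finset.sum_congr rfl (fun i _ => ?_)
  rw [mul_pow, map_mul, map_pow]
  ring

include hspan in
lemma T_one : (1 : K) ∈ T p b := by
  have := T_key p b hspan 1 (1 : K)
  rwa [map_one, one_pow, one_mul] at this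

include hspan in
lemma T_mul {w w' : K} (h : w ∈ T p b) (h' : w' ∈ T p b) : w * w' ∈ T p b := by
  obtain ⟨z, rfl⟩ := h
  obtain ⟨z', rfl⟩ := h'
  unfold Phi
  simp only [Finsupp.sum]
  rw [Finset.sum_mul_sum]
  refine T_sum p b _ _ (fun i _ => T_sum p b _ _ (fun j _ => ?_))
  have : algebraMap k K (b i) * z i ^ p * (algebraMap k K (b j) * z' j ^ p) =
      algebraMap k K (b i * b j) * (z i * z' j) ^ p := by
    rw [map_mul, mul_pow]; ring
  rw [this]
  exact T_key p b hspan _ _

include hspan in
lemma T_pow {w : K} (h : w ∈ T p b) (n : ℕ) : w ^ n ∈ T p b := by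
  induction n with
  | zero => rw [pow_zero]; exact T_one p b hspan
  | succ n ih => rw [pow_succ]; exact T_mul p b hspan ih h

include hspan in
lemma T_inv {w : K} (h : w ∈ T p b) : w⁻¹ ∈ T p b := by
  have hp : p.Prime := Fact.out
  by_cases hw : w = 0
  · rw [hw, inv_zero]; exact T_zero p b
  · have h1 : w⁻¹ = w ^ (p - 1) * (w⁻¹) ^ p := by
      have h2 : w ^ p = w ^ (p - 1) * w := by
        rw [← pow_succ, Nat.sub_add_cancel hp.one_le]
      rw [inv_pow, h2, mul_inv, ← mul_assoc, mul_inv_cancel₀ (pow_ne_zero _ hw), one_mul]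
    rw [h1]
    refine T_mul p b hspan (T_pow p b hspan h _) ?_
    have := T_key p b hspan 1 w⁻¹
    rwa [map_one, one_mul] at this

include hspan in
/-- every element of `k K^p` has the form `∑ b_i z_i^p` -/
theorem mem_T_of_mem_adjoin {w : K}
    (hw : w ∈ IntermediateField.adjoin k (Set.range fun y : K => y ^ p)) : w ∈ T p b := by
  induction hw using IntermediateField.adjoin_induction with
  | mem x hx =>
    obtain ⟨y, rfl⟩ := hx
    have := T_key p b hspan 1 y
    rwa [map_one, one_mul] at this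
  | algebraMap r =>
    have := T_key p b hspan r (1 : K)
    rwa [one_pow, mul_one] at this
  | add a c _ _ ha hc => exact T_add p b ha hc
  | inv a _ ha => exact T_inv p b hspan ha
  | mul a c _ _ ha hc => exact T_mul p b hspan ha hc

end Repr

end Groth.Agent.Lib.Helper7.SepPlace
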