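import Mathlib
import Groth.Agent.Lib.Helper7SepPlace2
import Groth.Agent.Lib.LeadFF1

/-!
Helper library (helper7): at a place with separable residue field, the value of an element of
`k K^p` is a `p`-th power.
-/

set_option autoImplicit false
set_option linter.style.haveILetI false
set_option linter.unusedSectionVars false
universe u v w
open FunFld WithZero

namespace Groth.Agent.Lib.Helper7.SepPlace

variable {k : Type u} {K : Type v} [Field k] [Field K] [Algebra k K]

theorem val_Phi_eq_pow (P : Place k K) [Algebra.IsSeparable k (IsLocalRing.ResidueField P.O)]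
    (p : ℕ) [Fact p.Prime] [CharP K p] [CharP k p] {ι : Type w} (b : ι → k)
    (hb : @LinearIndependent ι (FrobBase k) k b _ _ (frobAlgebra k p).toModule)
    (z : ι →₀ K) (hz : Phi p b z ≠ 0) : ∃ y : K, P.1 (Phi p b z) = P.1 y ^ p := by
  classical
  have hp : p.Prime := Fact.out
  have hne : z.support.Nonempty := by
    rw [Finset.nonempty_iff_ne_empty, Ne, Finsupp.support_eq_empty]
    rintro rfl
    exact hz (Phi_zero p b)
  obtain ⟨i₀, hi₀, hmax⟩ := Finset.exists_max_image z.support (fun i => P.1 (z i)) hne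
  set y := z i₀ with hy
  have hy0 : y ≠ 0 := Finsupp.mem_support_iff.1 hi₀
  have hvy : P.1 y ≠ 0 := (Valuation.ne_zero_iff _).2 hy0
  have hvy' : 0 < P.1 y := zero_lt_iff.2 hvy
  refine ⟨y, ?_⟩
  have hu : ∀ i ∈ z.support, P.1 (z i / y) ≤ 1 := by
    intro i hi
    rw [map_div₀, div_le_one₀ hvy']
    exact hmax i hi
  let U : ι → P.O := fun i => if h : P.1 (z i / y) ≤ 1 then ⟨z i / y, h⟩ else 0
  have hU : ∀ i ∈ z.support, ((U i : P.O) : K) = z i / y := by
    intro i hi
    simp only [U, dif_pos (hu i hi)]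
  let W : P.O := ∑ i ∈ z.support, (b i) • (U i) ^ p
  have hW : Phi p b z = y ^ p * (W : K) := by
    unfold Phi
    simp only [Finsupp.sum, W]
    rw [show ((∑ i ∈ z.support, (b i) • (U i) ^ p : P.O) : K) =
      ∑ i ∈ z.support, ((b i • (U i) ^ p : P.O) : K) from by
        simp only [AddSubmonoidClass.coe_finset_sum]]
    rw [Finset.mul_sum]
    refine Finset.sum_congr rfl (fun i hi => ?_)
    rw [Groth.Agent.Lib.LeadFF.coe_smul_O, SubmonoidClass.coe_pow, hU i hi, div_pow]
    field_simp
  have hWle : P.1 (W : K) ≤ 1 := (Valuation.mem_valuationSubring_iff _ _).1 W.2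
  have hW1 : P.1 (W : K) = 1 := by
    by_contra hcon
    have hlt : P.1 (W : K) < 1 := lt_of_le_of_ne hWle hcon
    have hres : IsLocalRing.residue P.O W = 0 :=
      (Groth.Agent.Lib.LeadFF.residue_eq_zero_iff P W).2 hlt
    have hsum : ∑ i ∈ z.support, algebraMap k (IsLocalRing.ResidueField P.O) (b i) *
        (IsLocalRing.residue P.O (U i)) ^ p = 0 := by
      rw [← hres]
      simp only [W, map_sum]
      refine Finset.sum_congr rfl (fun i _ => ?_)
      rw [Groth.Agent.Lib.LeadFF.residue_smul, map_pow, Algebra.smul_def]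
    have hzero := eq_zero_of_sum_mul_pow_eq_zero k (IsLocalRing.ResidueField P.O) p b hb
      z.support (fun i => IsLocalRing.residue P.O (U i)) hsum i₀ hi₀
    have hU0 : U i₀ = 1 := by
      apply Subtype.ext
      rw [hU i₀ hi₀, ← hy, div_self hy0]
      rfl
    simp only [hU0, map_one] at hzero
    exact one_ne_zero hzero
  rw [hW, map_mul, map_pow, hW1, mul_one]

/-- at a place with separable residue field, a local parameter is not in `k K^p`. -/
theorem notMem_kKp_of_val (P : Place k K) [Algebra.IsSeparable k (IsLocalRing.ResidueField P.O)]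
    (p : ℕ) [Fact p.Prime] [CharP K p] {t : K} (ht : P.1 t = exp (-1 : ℤ)) :
    t ∉ IntermediateField.adjoin k (Set.range fun y : K => y ^ p) := by
  classical
  have hp : p.Prime := Fact.out
  haveI : CharP k p := RingHom.charP (algebraMap k K) (algebraMap k K).injective p
  intro hmem
  letI a1 : Algebra (FrobBase k) k := frobAlgebra k p
  let B := Module.Basis.ofVectorSpace (FrobBase k) k
  have hspan : ∀ a : k, ∃ c : Module.Basis.ofVectorSpaceIndex (FrobBase k) k →₀ k,
      a = c.sum (fun i ci => ci ^ p * B i) := by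
    intro a
    refine ⟨B.repr a, ?_⟩
    have h1 := B.linearCombination_repr a
    rw [Finsupp.linearCombination_apply] at h1
    conv_lhs => rw [← h1]
    refine Finset.sum_congr rfl (fun i _ => ?_)
    change (B.repr a) i • B i = _
    rw [Algebra.smul_def]
    rfl
  obtain ⟨z, hz⟩ := mem_T_of_mem_adjoin p (fun i => B i) hspan hmem
  have ht0 : t ≠ 0 := by
    intro h0
    rw [h0, map_zero] at ht
    exact exp_ne_zero ht.symm
  have hz0 : Phi p (fun i => B i) z ≠ 0 := by rw [hz]; exact ht0
  obtain ⟨y, hy⟩ := val_Phi_eq_pow P p (fun i => B i) B.linearIndependent z hz0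
  rw [hz, ht] at hy
  have hvy : P.1 y ≠ 0 := by
    intro h0
    rw [h0, zero_pow hp.ne_zero] at hy
    exact exp_ne_zero hy
  have h2 := congrArg WithZero.log hy
  rw [log_exp, log_pow, nsmul_eq_mul] at h2
  have h3 := hp.two_le
  have h4 : (p : ℤ) ∣ 1 := ⟨-(log (P.1 y)), by linarith⟩
  have h5 := Int.le_of_dvd one_pos h4
  omega

end Groth.Agent.Lib.Helper7.SepPlace
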