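import Mathlib
import Groth.Agent.Lib.Helper6SmNorm
import Groth.Agent.Lib.Helper6ReducedSmooth

set_option autoImplicit false
set_option linter.style.haveILetI false
universe u

namespace Groth.Agent.Lib.Helper7.SmLoc
open TensorProduct

attribute [local instance] Algebra.TensorProduct.rightAlgebra in
/-- local ascent of reducedness and normality along a smooth ring map -/
theorem ascent (A S : Type u) [CommRing A] [CommRing S] [Algebra A S] [Algebra.Smooth A S]
    (p : Ideal A) [hp : p.IsPrime] (Q : Ideal S) [hQ : Q.IsPrime]
    (hQp : Q.comap (algebraMap A S) = p) :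
    (IsReduced (Localization.AtPrime p) → IsReduced (Localization.AtPrime Q)) ∧
    (IsDomain (Localization.AtPrime p) ∧ IsIntegrallyClosed (Localization.AtPrime p) →
      IsDomain (Localization.AtPrime Q) ∧ IsIntegrallyClosed (Localization.AtPrime Q)) := by
  subst hQp
  let p := Q.comap (algebraMap A S)
  let M := Algebra.algebraMapSubmonoid S p.primeCompl
  haveI : IsLocalization M (Localization.AtPrime p ⊗[A] S) :=
    IsLocalization.tensorRight (R := A) (S := S) (Localization.AtPrime p) p.primeCompl
  have hdisj : Disjoint (M : Set S) (Q : Set S) := by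
    rw [Set.disjoint_left]
    rintro x ⟨a, ha, rfl⟩ hxQ
    exact ha hxQ
  let Q' := Q.map (algebraMap S (Localization.AtPrime p ⊗[A] S))
  haveI hQ' : Q'.IsPrime :=
    IsLocalization.isPrime_of_isPrime_disjoint M _ Q hQ hdisj
  have hcomap : Q'.comap (algebraMap S (Localization.AtPrime p ⊗[A] S)) = Q :=
    IsLocalization.under_map_of_isPrime_disjoint M _ hQ hdisj
  haveI : IsLocalization.AtPrime (Localization.AtPrime Q')
      (Q'.comap (algebraMap S (Localization.AtPrime p ⊗[A] S))) :=
    IsLocalization.isLocalization_isLocalization_atPrime_isLocalization M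
      (Localization.AtPrime Q') Q'
  haveI : IsLocalization.AtPrime (Localization.AtPrime Q') Q := by
    convert this
    exact hcomap.symm
  let e : Localization.AtPrime Q ≃ₐ[S] Localization.AtPrime Q' :=
    IsLocalization.algEquiv Q.primeCompl (Localization.AtPrime Q) (Localization.AtPrime Q')
  constructor
  · intro hred
    haveI : IsReduced (Localization.AtPrime p ⊗[A] S) :=
      Groth.Agent.Lib.Helper6.isReduced_of_smooth (Localization.AtPrime p) _
    haveI : IsReduced (Localization.AtPrime Q') :=
      isReduced_localizationPreserves Q'.primeCompl (Localization.AtPrime Q') inferInstance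
    exact isReduced_of_injective e.toRingEquiv.toRingHom e.injective
  · rintro ⟨hd, hic⟩
    have key := Groth.Agent.Lib.Helper6.SmNorm.isDomain_and_isIntegrallyClosed_localization
      (Localization.AtPrime p) (Localization.AtPrime p ⊗[A] S) Q'
    exact Groth.Agent.Lib.Helper6.EtNormal.normal_of_ringEquiv e.toRingEquiv key

/-- local descent of reducedness and normality along a flat ring map -/
theorem descent (A S : Type u) [CommRing A] [CommRing S] [Algebra A S] [Module.Flat A S]
    (p : Ideal A) [hp : p.IsPrime] (Q : Ideal S) [hQ : Q.IsPrime] [Q.LiesOver p] :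
    (IsReduced (Localization.AtPrime Q) → IsReduced (Localization.AtPrime p)) ∧
    (IsDomain (Localization.AtPrime Q) ∧ IsIntegrallyClosed (Localization.AtPrime Q) →
      IsDomain (Localization.AtPrime p) ∧ IsIntegrallyClosed (Localization.AtPrime p)) := by
  letI := Localization.AtPrime.algebraOfLiesOver p Q
  haveI : IsLocalHom (algebraMap (Localization.AtPrime p) (Localization.AtPrime Q)) := by
    rw [RingHom.algebraMap_toAlgebra]
    exact Localization.isLocalHom_localRingHom p Q (algebraMap A S) Ideal.LiesOver.over
  haveI : Module.Flat (Localization.AtPrime p) (Localization.AtPrime Q) := inferInstance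
  haveI : Module.FaithfullyFlat (Localization.AtPrime p) (Localization.AtPrime Q) :=
    Module.FaithfullyFlat.of_flat_of_isLocalHom
  constructor
  · intro h
    exact isReduced_of_injective (algebraMap (Localization.AtPrime p) (Localization.AtPrime Q))
      (FaithfulSMul.algebraMap_injective _ _)
  · intro h
    exact Groth.Agent.Lib.Helper6.EtNormal.normal_of_faithfullyFlat _ _ h

end Groth.Agent.Lib.Helper7.SmLoc
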