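import Groth.Agent.Lib.Helper7Smoothing5
import Groth.Agent.S2030

set_option autoImplicit false
set_option linter.style.haveILetI false
universe u
open MvPolynomial

namespace Groth.Agent.Lib.Helper7.Smoothing


theorem aeval_add_taylor {R T : Type*} [CommRing R] [CommRing T] [Algebra R T] {n : ℕ}
    (a b : Fin n → T) (p : MvPolynomial (Fin n) R) :
    aeval (a + b) p - aeval a p - ∑ i, aeval a (pderiv i p) * b i ∈
      Ideal.span (Set.range b) ^ 2 := by
  classical
  set J := Ideal.span (Set.range b) with hJ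
  have hb : ∀ i, b i ∈ J := fun i => Ideal.subset_span ⟨i, rfl⟩
  induction p using MvPolynomial.induction_on with
  | C x => simp
  | add p q hp hq =>
    have : aeval (a + b) (p + q) - aeval a (p + q) - ∑ i, aeval a (pderiv i (p + q)) * b i =
        (aeval (a + b) p - aeval a p - ∑ i, aeval a (pderiv i p) * b i) +
        (aeval (a + b) q - aeval a q - ∑ i, aeval a (pderiv i q) * b i) := by
      simp only [map_add, add_mul, Finset.sum_add_distrib]
      ring
    rw [this]
    exact Ideal.add_mem _ hp hq
  | mul_X p i hp =>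
    have h1 : aeval (a + b) p - aeval a p ∈ J := by
      have : aeval (a + b) p - aeval a p =
          (aeval (a + b) p - aeval a p - ∑ i, aeval a (pderiv i p) * b i) +
            ∑ i, aeval a (pderiv i p) * b i := by ring
      rw [this]
      exact Ideal.add_mem _ (Ideal.pow_le_self two_ne_zero hp)
        (Ideal.sum_mem _ fun l _ => Ideal.mul_mem_left _ _ (hb l))
    have h2 : ∑ l, aeval a (pderiv l (p * X i)) * b l =
        (∑ l, aeval a (pderiv l p) * b l) * a i + aeval a p * b i := by
      simp only [pderiv_mul, pderiv_X, map_add, map_mul, aeval_X, add_mul, Finset.sum_add_distrib,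
        Finset.sum_mul]
      congr 1
      · refine Finset.sum_congr rfl fun l _ => ?_
        ring
      · rw [Finset.sum_eq_single i]
        · simp
        · intro l _ hl
          simp [Pi.single_eq_of_ne (Ne.symm hl)]
        · intro h; exact absurd (Finset.mem_univ _) h
    have : aeval (a + b) (p * X i) - aeval a (p * X i) -
        ∑ l, aeval a (pderiv l (p * X i)) * b l =
        (aeval (a + b) p - aeval a p - ∑ i, aeval a (pderiv i p) * b i) * a i +
          (aeval (a + b) p - aeval a p) * b i := by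
      rw [h2]
      simp only [map_mul, aeval_X, Pi.add_apply]
      ring
    rw [this]
    refine Ideal.add_mem _ (Ideal.mul_mem_right _ _ hp) ?_
    rw [pow_two]
    exact Ideal.mul_mem_mul h1 (hb i)

theorem pderiv_aeval_chain {R : Type*} [CommRing R] {n : ℕ} {τ : Type*}
    (XX : Fin n → MvPolynomial τ R) (k : τ) (p : MvPolynomial (Fin n) R) :
    pderiv k (aeval XX p) = ∑ i, aeval XX (pderiv i p) * pderiv k (XX i) := by
  classical
  induction p using MvPolynomial.induction_on with
  | C x => simp
  | add p q hp hq =>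
    simp only [map_add, hp, hq, add_mul, Finset.sum_add_distrib]
  | mul_X p i hp =>
    have h2 : ∑ l, aeval XX (pderiv l (p * X i)) * pderiv k (XX l) =
        (∑ l, aeval XX (pderiv l p) * pderiv k (XX l)) * XX i + aeval XX p * pderiv k (XX i) := by
      simp only [pderiv_mul, pderiv_X, map_add, map_mul, aeval_X, add_mul, Finset.sum_add_distrib,
        Finset.sum_mul]
      congr 1
      · refine Finset.sum_congr rfl fun l _ => ?_
        ring
      · rw [Finset.sum_eq_single i]
        · simp
        · intro l _ hl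
          simp [Pi.single_eq_of_ne (Ne.symm hl)]
        · intro h; exact absurd (Finset.mem_univ _) h
    rw [h2, map_mul, aeval_X, pderiv_mul, hp]

theorem aeval_C_comp_eq {R : Type*} [CommRing R] {n : ℕ} {τ : Type*} (r : Fin n → R)
    (p : MvPolynomial (Fin n) R) :
    aeval (fun i => (C (r i) : MvPolynomial τ R)) p = C (eval r p) := by
  induction p using MvPolynomial.induction_on with
  | C x => simp
  | add p q hp hq => simp only [map_add, hp, hq]
  | mul_X p i hp => simp only [map_mul, hp, aeval_X, eval_X]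

theorem exists_matrix_mul_eq_smul_one {R : Type*} [CommRing R] {c n : ℕ}
    (M : Matrix (Fin c) (Fin n) R) (rc : (Fin c → Fin n) → R) :
    ∃ S : Matrix (Fin n) (Fin c) R,
      M * S = (∑ cols, rc cols * (M.submatrix id cols).det) • (1 : Matrix (Fin c) (Fin c) R) := by
  classical
  let E : (Fin c → Fin n) → Matrix (Fin n) (Fin c) R := fun cols =>
    Matrix.of fun i k => if i = cols k then 1 else 0
  have hE : ∀ cols, M * E cols = M.submatrix id cols := by
    intro cols
    ext j k
    simp [E, Matrix.mul_apply]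
  refine ⟨∑ cols, rc cols • (E cols * (M.submatrix id cols).adjugate), ?_⟩
  rw [Matrix.mul_sum, Finset.sum_smul]
  refine Finset.sum_congr rfl fun cols _ => ?_
  rw [Matrix.mul_smul, ← Matrix.mul_assoc, hE, Matrix.mul_adjugate, smul_smul]



section QuotAlg
variable {R : Type u} [CommRing R] {N k : ℕ}

/-- The algebra `R[x_1..x_N]/(rel)`. -/
def QuotAlg (rel : Fin k → MvPolynomial (Fin N) R) : Type u :=
  MvPolynomial (Fin N) R ⧸ Ideal.span (Set.range rel)

noncomputable instance (rel : Fin k → MvPolynomial (Fin N) R) : CommRing (QuotAlg rel) :=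
  inferInstanceAs (CommRing (MvPolynomial (Fin N) R ⧸ Ideal.span (Set.range rel)))

noncomputable instance (rel : Fin k → MvPolynomial (Fin N) R) : Algebra R (QuotAlg rel) :=
  inferInstanceAs (Algebra R (MvPolynomial (Fin N) R ⧸ Ideal.span (Set.range rel)))

variable (rel : Fin k → MvPolynomial (Fin N) R)

/-- The quotient map. -/
noncomputable def qmk : MvPolynomial (Fin N) R →ₐ[R] QuotAlg rel := Ideal.Quotient.mkₐ R _

lemma qmk_surjective : Function.Surjective (qmk rel) := Ideal.Quotient.mk_surjective

lemma qmk_eq_zero_iff (p : MvPolynomial (Fin N) R) :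
    qmk rel p = 0 ↔ p ∈ Ideal.span (Set.range rel) := Ideal.Quotient.eq_zero_iff_mem

lemma qmk_rel (j : Fin k) : qmk rel (rel j) = 0 :=
  (qmk_eq_zero_iff rel _).mpr (Ideal.subset_span ⟨j, rfl⟩)

lemma ker_qmk : RingHom.ker (qmk rel).toRingHom = Ideal.span (Set.range rel) := Ideal.mk_ker

/-- Lift a map out of the polynomial ring killing the relations. -/
noncomputable def qlift {T : Type*} [CommRing T] [Algebra R T]
    (ψ : MvPolynomial (Fin N) R →ₐ[R] T) (h : ∀ j, ψ (rel j) = 0) : QuotAlg rel →ₐ[R] T :=
  Ideal.Quotient.liftₐ _ ψ (by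
    intro a ha
    have : Ideal.span (Set.range rel) ≤ RingHom.ker ψ.toRingHom := by
      rw [Ideal.span_le]
      rintro _ ⟨j, rfl⟩
      exact h j
    exact this ha)

lemma qlift_qmk {T : Type*} [CommRing T] [Algebra R T]
    (ψ : MvPolynomial (Fin N) R →ₐ[R] T) (h : ∀ j, ψ (rel j) = 0) (p : MvPolynomial (Fin N) R) :
    qlift rel ψ h (qmk rel p) = ψ p := rfl

instance : Algebra.FinitePresentation R (QuotAlg rel) :=
  Algebra.FinitePresentation.quotient (Submodule.fg_span (Set.finite_range rel))

/-- The marked presentation of `QuotAlg rel` with `c` leading relations. -/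
noncomputable def qMP (c : ℕ) (hcN : c ≤ N) (hck : c ≤ k) :
    Smoothing.MarkedPresentation R (QuotAlg rel) where
  n := N
  m := k
  c := c
  hcn := hcN
  hcm := hck
  rel := rel
  hom := qmk rel
  surj := qmk_surjective rel
  ker_eq := Ideal.mk_ker

/-- Generic chart criterion for smoothness at a prime of `QuotAlg rel₂`. -/
theorem isSmoothAt_of_quotAlg_chart {k₁ k₂ : ℕ} (rel₁ : Fin k₁ → MvPolynomial (Fin N) R)
    (rel₂ : Fin k₂ → MvPolynomial (Fin N) R)
    (hle : ∀ j, rel₁ j ∈ Ideal.span (Set.range rel₂)) (s : MvPolynomial (Fin N) R)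
    [Algebra.FormallySmooth R (Localization.Away (qmk rel₁ s))]
    (hkill : ∀ j, algebraMap (QuotAlg rel₁) (Localization.Away (qmk rel₁ s))
      (qmk rel₁ (rel₂ j)) = 0)
    (Q : Ideal (QuotAlg rel₂)) [Q.IsPrime] (hQ : qmk rel₂ s ∉ Q) : Algebra.IsSmoothAt R Q := by
  let α₀ : QuotAlg rel₁ →ₐ[R] QuotAlg rel₂ := qlift rel₁ (qmk rel₂)
    (fun j => (qmk_eq_zero_iff rel₂ _).mpr (hle j))
  let β : QuotAlg rel₂ →ₐ[R] Localization.Away (qmk rel₁ s) :=
    qlift rel₂ ((IsScalarTower.toAlgHom R (QuotAlg rel₁) (Localization.Away (qmk rel₁ s))).comp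
      (qmk rel₁)) hkill
  refine isSmoothAt_of_chart (B := QuotAlg rel₁) (B' := Localization.Away (qmk rel₁ s))
    (qmk rel₁ s) (α₀ : QuotAlg rel₁ →+* QuotAlg rel₂) β ?_ ?_ Q hQ
  · intro b
    obtain ⟨p, rfl⟩ := qmk_surjective rel₁ b
    rfl
  · intro d
    obtain ⟨p, rfl⟩ := qmk_surjective rel₂ d
    exact ⟨0, qmk rel₁ p, by rw [pow_zero, one_mul]; rfl⟩

end QuotAlg


end Groth.Agent.Lib.Helper7.Smoothing
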