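import Groth.Agent.Lib.Helper7Smoothing11

set_option autoImplicit false
set_option linter.style.haveILetI false
universe u
open MvPolynomial

namespace Groth.Agent.Lib.Helper7.Smoothing


section Desing
variable {R : Type u} [CommRing R] {n c : ℕ} (π : R) (r : Fin n → R)
  (S : Matrix (Fin n) (Fin c) R)

/-- the variables `v_k`. -/
noncomputable def dsv (k : Fin c) : MvPolynomial (Fin (c + n)) R := X (Fin.castAdd n k)
/-- the variables `w_i`. -/
noncomputable def dsw (i : Fin n) : MvPolynomial (Fin (c + n)) R := X (Fin.natAdd c i)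
/-- `Y_i = ∑ s_{ik} v_k + π w_i`. -/
noncomputable def dsY (i : Fin n) : MvPolynomial (Fin (c + n)) R :=
  ∑ k, C (S i k) * dsv (n := n) k + C π * dsw (c := c) i
/-- `X_i = r_i + π² Y_i`. -/
noncomputable def dsX (i : Fin n) : MvPolynomial (Fin (c + n)) R :=
  C (r i) + C (π ^ 2) * dsY π S i
/-- the substitution `x_i ↦ X_i`. -/
noncomputable def dsθ : MvPolynomial (Fin n) R →ₐ[R] MvPolynomial (Fin (c + n)) R :=
  aeval (dsX π r S)

theorem dsθ_taylor (p : MvPolynomial (Fin n) R) :
    ∃ q : MvPolynomial (Fin (c + n)) R, dsθ π r S p = C (eval r p) +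
      C (π ^ 2) * ∑ i, C (eval r (pderiv i p)) * dsY π S i + C (π ^ 4) * q := by
  have h := aeval_add_taylor (R := R) (fun i => (C (r i) : MvPolynomial (Fin (c + n)) R))
    (fun i => C (π ^ 2) * dsY π S i) p
  have hle : Ideal.span (Set.range fun i => C (π ^ 2) * dsY π S i) ^ 2 ≤
      Ideal.span {(C (π ^ 4) : MvPolynomial (Fin (c + n)) R)} := by
    have h1 : Ideal.span (Set.range fun i => C (π ^ 2) * dsY π S i) ≤
        Ideal.span {(C (π ^ 2) : MvPolynomial (Fin (c + n)) R)} := by
      rw [Ideal.span_le]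
      rintro _ ⟨i, rfl⟩
      exact Ideal.mul_mem_right _ _ (Ideal.subset_span rfl)
    refine (Ideal.pow_right_mono h1 2).trans ?_
    rw [Ideal.span_singleton_pow, ← map_pow, ← pow_mul]
  obtain ⟨q, hq⟩ := Ideal.mem_span_singleton'.mp (hle h)
  refine ⟨q, ?_⟩
  have e1 : (fun i => (C (r i) : MvPolynomial (Fin (c + n)) R)) +
      (fun i => C (π ^ 2) * dsY π S i) = dsX π r S := rfl
  rw [e1] at hq
  simp only [aeval_C_comp_eq] at hq
  have e2 : ∑ i, C (eval r (pderiv i p)) * (C (π ^ 2) * dsY π S i) =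
      C (π ^ 2) * ∑ i, C (eval r (pderiv i p)) * dsY π S i := by
    rw [Finset.mul_sum]
    refine Finset.sum_congr rfl fun i _ => ?_
    ring
  rw [e2] at hq
  change aeval (dsX π r S) p = _
  rw [mul_comm (C (π ^ 4)), hq]
  ring

theorem dsθ_eq_sq_mul (p : MvPolynomial (Fin n) R) (t : R) (hp : eval r p = π ^ 4 * t) :
    ∃ a : MvPolynomial (Fin (c + n)) R, dsθ π r S p = C (π ^ 2) * a := by
  obtain ⟨q, hq⟩ := dsθ_taylor π r S p
  refine ⟨C (π ^ 2 * t) + ∑ i, C (eval r (pderiv i p)) * dsY π S i + C (π ^ 2) * q, ?_⟩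
  rw [hq, hp]
  simp only [map_mul, map_pow]
  ring

theorem sum_C_mul_dsY (mm : Fin n → R) (u : R) (j : Fin c)
    (hM : ∀ k, ∑ i, mm i * S i k = if k = j then π * u else 0) :
    ∑ i, C (mm i) * dsY π S i =
      C π * (C u * dsv (n := n) j + ∑ i, C (mm i) * dsw (c := c) i) := by
  classical
  have e1 : ∑ i, C (mm i) * dsY π S i =
      ∑ k, C (∑ i, mm i * S i k) * dsv (n := n) k + C π * ∑ i, C (mm i) * dsw (c := c) i := by
    simp only [dsY, mul_add, Finset.mul_sum, Finset.sum_add_distrib, map_sum, Finset.sum_mul,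
      map_mul]
    congr 1
    · rw [Finset.sum_comm]
      refine Finset.sum_congr rfl fun k _ => Finset.sum_congr rfl fun i _ => ?_
      ring
    · refine Finset.sum_congr rfl fun i _ => ?_
      ring
  rw [e1]
  simp only [hM]
  rw [Finset.sum_eq_single j]
  · simp only [if_true, map_mul]
    ring
  · intro k _ hk
    simp [hk]
  · intro h; exact absurd (Finset.mem_univ _) h

theorem dsθ_eq_cube_mul (p : MvPolynomial (Fin n) R) (t u : R) (j : Fin c)
    (hp : eval r p = π ^ 4 * t)
    (hM : ∀ k, ∑ i, eval r (pderiv i p) * S i k = if k = j then π * u else 0) :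
    ∃ G : MvPolynomial (Fin (c + n)) R, dsθ π r S p = C (π ^ 3) *
      (C u * dsv (n := n) j + ∑ i, C (eval r (pderiv i p)) * dsw (c := c) i + C π * G) := by
  obtain ⟨q, hq⟩ := dsθ_taylor π r S p
  refine ⟨C t + q, ?_⟩
  rw [hq, hp, sum_C_mul_dsY π S _ u j hM]
  simp only [map_mul, map_pow]
  ring

end Desing



theorem det_sub_pow_mem {T : Type*} [CommRing T] (I : Ideal T) {c : ℕ}
    (A : Matrix (Fin c) (Fin c) T) (a : T)
    (h : ∀ j k, A j k - (if j = k then a else 0) ∈ I) : A.det - a ^ c ∈ I := by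
  classical
  rw [← Ideal.Quotient.eq, RingHom.map_det, map_pow]
  have : (Ideal.Quotient.mk I).mapMatrix A =
      (Ideal.Quotient.mk I a) • (1 : Matrix (Fin c) (Fin c) (T ⧸ I)) := by
    ext j k
    have hjk := (Ideal.Quotient.eq (I := I)).mpr (h j k)
    simp only [RingHom.mapMatrix_apply, Matrix.map_apply, Matrix.smul_apply, smul_eq_mul]
    rw [hjk]
    by_cases hjk' : j = k
    · subst hjk'; simp
    · simp [hjk', Matrix.one_apply_ne hjk']
  rw [this, Matrix.det_smul, Matrix.det_one, mul_one, Fintype.card_fin]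


section Desing2
variable {R : Type u} [CommRing R] {n c : ℕ} (π : R)


/-- the relations `g_j = u v_j + ∑ M_{ji} w_i + π G_j`. -/
noncomputable def dsg (u : R) (M : Matrix (Fin c) (Fin n) R)
    (G : Fin c → MvPolynomial (Fin (c + n)) R) (j : Fin c) : MvPolynomial (Fin (c + n)) R :=
  C u * dsv (n := n) j + ∑ i, C (M j i) * dsw (c := c) i + C π * G j

lemma pderiv_dsg (u : R) (M : Matrix (Fin c) (Fin n) R)
    (G : Fin c → MvPolynomial (Fin (c + n)) R) (j k : Fin c) :
    pderiv (Fin.castAdd n k) (dsg π u M G j) =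
      (if j = k then C u else 0) + C π * pderiv (Fin.castAdd n k) (G j) := by
  classical
  have hne : ∀ i : Fin n, Fin.natAdd c i ≠ Fin.castAdd n k := by
    intro i h
    have := congrArg Fin.val h
    simp at this
    omega
  rw [dsg, map_add, map_add, pderiv_C_mul, pderiv_C_mul, map_sum, dsv, pderiv_X]
  have h0 : ∑ i, pderiv (Fin.castAdd n k) (C (M j i) * dsw (c := c) i) = 0 := by
    refine Finset.sum_eq_zero fun i _ => ?_
    rw [pderiv_C_mul, dsw, pderiv_X_of_ne (hne i), mul_zero]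
  rw [h0, add_zero]
  congr 1
  by_cases hjk : j = k
  · subst hjk; simp
  · have : Fin.castAdd n j ≠ Fin.castAdd n k := fun h => hjk (Fin.castAdd_injective c n h)
    simp [hjk]

theorem dsg_minor_sub_one_mem (u : R) (hu : u - 1 ∈ Ideal.span {π})
    (M : Matrix (Fin c) (Fin n) R) (G : Fin c → MvPolynomial (Fin (c + n)) R) (hc : c ≤ c) :
    Smoothing.jacobianMinor (dsg π u M G) (Fin.castLE hc) (Fin.castAdd n) - 1 ∈
      Ideal.span {(C π : MvPolynomial (Fin (c + n)) R)} := by
  classical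
  have h1 : Smoothing.jacobianMinor (dsg π u M G) (Fin.castLE hc) (Fin.castAdd n) - (C u) ^ c ∈
      Ideal.span {(C π : MvPolynomial (Fin (c + n)) R)} := by
    unfold Smoothing.jacobianMinor
    refine det_sub_pow_mem _ _ _ fun j k => ?_
    have hj : Fin.castLE hc j = j := Fin.ext rfl
    rw [Matrix.of_apply, hj, pderiv_dsg, add_sub_cancel_left]
    exact Ideal.mul_mem_right _ _ (Ideal.subset_span rfl)
  have h2 : (C u : MvPolynomial (Fin (c + n)) R) ^ c - 1 ∈
      Ideal.span {(C π : MvPolynomial (Fin (c + n)) R)} := by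
    have : (C u : MvPolynomial (Fin (c + n)) R) - 1 ∈
        Ideal.span {(C π : MvPolynomial (Fin (c + n)) R)} := by
      obtain ⟨t, ht⟩ := Ideal.mem_span_singleton'.mp hu
      rw [Ideal.mem_span_singleton']
      exact ⟨C t, by rw [← map_mul, ht, map_sub, map_one]⟩
    have h3 := Ideal.Quotient.eq.mpr this
    rw [← Ideal.Quotient.eq, map_pow, h3, map_one, one_pow]
  have : Smoothing.jacobianMinor (dsg π u M G) (Fin.castLE hc) (Fin.castAdd n) - 1 =
      (Smoothing.jacobianMinor (dsg π u M G) (Fin.castLE hc) (Fin.castAdd n) - (C u) ^ c) +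
        ((C u) ^ c - 1) := by ring
  rw [this]
  exact Ideal.add_mem _ h1 h2

end Desing2




end Groth.Agent.Lib.Helper7.Smoothing
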