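import Groth.Agent.Lib.Helper7Smoothing12

set_option autoImplicit false
set_option linter.style.haveILetI false
universe u
open MvPolynomial

namespace Groth.Agent.Lib.Helper7.Smoothing

theorem smul_eq_zero_of_sq_smul_of_flat' {R T : Type*} [CommRing R] [AddCommGroup T] [Module R T]
    [Module.Flat R T] (π r₀ : R) (hR : ∀ x : R, π ^ 2 * x = 0 → π * (r₀ * x) = 0) (y : T)
    (hy : π ^ 2 • y = 0) : (π * r₀) • y = 0 := by
  have h : ∑ i : Fin 1, (fun _ => π ^ 2 : Fin 1 → R) i • (fun _ => y : Fin 1 → T) i = 0 := by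
    simpa using hy
  obtain ⟨k, a, z, h1, h2⟩ := Module.Flat.isTrivialRelation_of_sum_smul_eq_zero h
  have hy' : y = ∑ j, a 0 j • z j := h1 0
  rw [hy', Finset.smul_sum]
  refine Finset.sum_eq_zero fun j _ => ?_
  rw [smul_smul, mul_assoc, hR (a 0 j) (by simpa using h2 j), zero_smul]

/-- The tail relations die once the leading ones do, after inverting a determinant. -/
theorem exists_det_kill_tail {R : Type u} [CommRing R] {N m c : ℕ} (π : R) (hcm : c ≤ m)
    (g : Fin c → MvPolynomial (Fin N) R) (F a : Fin m → MvPolynomial (Fin N) R)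
    (hFa : ∀ j, F j = C (π ^ 2) * a j)
    (hlead : ∀ j : Fin c, F (Fin.castLE hcm j) = C (π ^ 3) * g j)
    (htail : ∀ j : Fin m, c ≤ (j : ℕ) → C π * F j ∈
      Ideal.span (F '' {j' : Fin m | (j' : ℕ) < c}) ⊔ Ideal.span (Set.range F) ^ 2) :
    ∃ d : MvPolynomial (Fin N) R, d - 1 ∈ Ideal.span {(C π : MvPolynomial (Fin N) R)} ∧
      ∀ (T : Type u) [CommRing T] [Algebra R T] (τ : MvPolynomial (Fin N) R →ₐ[R] T),
        (∀ j, τ (g j) = 0) → (∀ x : T, π ^ 2 • x = 0 → π • x = 0) → ∀ j, τ d * τ (F j) = 0 := by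
  classical
  -- decompose the tail relations
  have hspanF : Ideal.span (Set.range F) ≤ Ideal.span {(C (π ^ 2) : MvPolynomial (Fin N) R)} := by
    rw [Ideal.span_le]
    rintro _ ⟨j, rfl⟩
    rw [hFa]
    exact Ideal.mul_mem_right _ _ (Ideal.subset_span rfl)
  have key : ∀ j : Fin m, ∃ (e : MvPolynomial (Fin N) R) (b' : Fin m → MvPolynomial (Fin N) R),
      e ∈ Ideal.span (F '' {j' : Fin m | (j' : ℕ) < c}) ∧
      (c ≤ (j : ℕ) → C π * F j = e + ∑ k, C (π ^ 2) * b' k * F k) := by
    intro j
    by_cases hj : c ≤ (j : ℕ)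
    · obtain ⟨e, he, s, hs, hes⟩ := Submodule.mem_sup.mp (htail j hj)
      rw [pow_two, ← smul_eq_mul (a := Ideal.span (Set.range F)), Ideal.span,
        Submodule.mem_ideal_smul_span_iff_exists_sum] at hs
      obtain ⟨b, hb, hbs⟩ := hs
      have hb' : ∀ k, ∃ b' : MvPolynomial (Fin N) R, b k = C (π ^ 2) * b' := by
        intro k
        obtain ⟨x, hx⟩ := Ideal.mem_span_singleton'.mp (hspanF (hb k))
        exact ⟨x, by rw [← hx, mul_comm]⟩
      choose b' hb'' using hb'
      refine ⟨e, b', he, fun _ => ?_⟩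
      rw [← hes, ← hbs, Finsupp.sum_fintype b (fun i c => c • F i) (fun _ => zero_smul _ _)]
      congr 1
      refine Finset.sum_congr rfl fun k _ => ?_
      rw [smul_eq_mul, hb'' k]
    · exact ⟨0, 0, Ideal.zero_mem _, fun h => absurd h hj⟩
  choose e b' he hb' using key
  let Nm : Matrix (Fin m) (Fin m) (MvPolynomial (Fin N) R) :=
    Matrix.of fun j k => if c ≤ (j : ℕ) then b' j k else 0
  refine ⟨((1 : Matrix (Fin m) (Fin m) (MvPolynomial (Fin N) R)) - (C π : MvPolynomial (Fin N) R) • Nm).det, ?_, ?_⟩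
  · have := det_sub_pow_mem (Ideal.span {(C π : MvPolynomial (Fin N) R)})
      ((1 : Matrix (Fin m) (Fin m) (MvPolynomial (Fin N) R)) - (C π : MvPolynomial (Fin N) R) • Nm) 1 (fun j k => by
        rw [Matrix.sub_apply, Matrix.one_apply, sub_sub_cancel_left, Matrix.smul_apply,
          smul_eq_mul]
        exact Ideal.neg_mem_iff _ |>.mpr (Ideal.mul_mem_right _ _ (Ideal.subset_span rfl)))
    rwa [one_pow] at this
  · intro T _ _ τ hg hT j
    have hτπ : ∀ k : ℕ, τ (C (π ^ k)) = algebraMap R T (π ^ k) := fun k => by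
      rw [← MvPolynomial.algebraMap_eq, τ.commutes]
    have hlead0 : ∀ j : Fin m, (j : ℕ) < c → τ (F j) = 0 := by
      intro j hj
      have : j = Fin.castLE hcm ⟨j, hj⟩ := Fin.ext rfl
      rw [this, hlead, map_mul, hg, mul_zero]
    have he0 : ∀ j, τ (e j) = 0 := by
      intro j
      have : Ideal.span (F '' {j' : Fin m | (j' : ℕ) < c}) ≤ RingHom.ker τ.toRingHom := by
        rw [Ideal.span_le]
        rintro _ ⟨j', hj', rfl⟩
        exact hlead0 j' hj'
      exact this (he j)
    -- the fixed-point equation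
    have hfix : ∀ j, τ (F j) = algebraMap R T π * ∑ k, τ (Nm j k) * τ (F k) := by
      intro j
      by_cases hj : c ≤ (j : ℕ)
      · have h1 := congrArg τ (hb' j hj)
        rw [map_mul, map_add, he0, zero_add, map_sum] at h1
        simp only [map_mul, hτπ] at h1
        have hτπ1 : τ (C π) = algebraMap R T π := by
          rw [← MvPolynomial.algebraMap_eq, τ.commutes]
        rw [hτπ1] at h1
        set z := algebraMap R T π * τ (a j) - ∑ k, τ (b' j k) * τ (F k) with hz
        have hFj : τ (F j) = algebraMap R T (π ^ 2) * τ (a j) := by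
          rw [hFa, map_mul, hτπ]
        have e1 : τ (F j) - algebraMap R T π * ∑ k, τ (b' j k) * τ (F k) = π • z := by
          rw [hz, Algebra.smul_def, mul_sub, ← mul_assoc, ← map_mul, ← sq, ← hFj]
        have e2 : π ^ 2 • z = 0 := by
          calc π ^ 2 • z = π • (π • z) := by rw [sq, mul_smul]
            _ = algebraMap R T π * τ (F j) -
                algebraMap R T π * (algebraMap R T π * ∑ k, τ (b' j k) * τ (F k)) := by
              rw [← e1, Algebra.smul_def, mul_sub]
            _ = 0 := by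
              rw [h1, sub_eq_zero, Finset.mul_sum, Finset.mul_sum]
              refine Finset.sum_congr rfl fun k _ => ?_
              rw [map_pow]
              ring
        have e3 := hT z e2
        rw [← e1, sub_eq_zero] at e3
        rw [e3]
        congr 1
        refine Finset.sum_congr rfl fun k _ => ?_
        simp [Nm, hj]
      · have hj' : (j : ℕ) < c := not_le.mp hj
        rw [hlead0 j hj']
        have : ∀ k, τ (Nm j k) = 0 := fun k => by simp [Nm, hj]
        simp [this]
    -- determinant trick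
    let Mτ : Matrix (Fin m) (Fin m) T := (1 : Matrix (Fin m) (Fin m) T) -
      algebraMap R T π • (τ : MvPolynomial (Fin N) R →+* T).mapMatrix Nm
    have hMv : Mτ.mulVec (fun k => τ (F k)) = 0 := by
      funext j
      simp only [Mτ, Matrix.sub_mulVec, Matrix.one_mulVec, Matrix.smul_mulVec, Pi.sub_apply,
        Pi.smul_apply, Pi.zero_apply, smul_eq_mul]
      rw [sub_eq_zero]
      conv_lhs => rw [hfix j]
      rfl
    have hdet : τ ((1 : Matrix (Fin m) (Fin m) (MvPolynomial (Fin N) R)) - (C π : MvPolynomial (Fin N) R) • Nm).det =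
        Mτ.det := by
      change (τ : MvPolynomial (Fin N) R →+* T) _ = _
      rw [RingHom.map_det]
      congr 1
      ext j k
      simp only [RingHom.mapMatrix_apply, Matrix.map_apply, Matrix.sub_apply, Matrix.smul_apply,
        Matrix.one_apply, smul_eq_mul, Mτ, RingHom.coe_coe, map_sub, map_mul]
      congr 1
      · split_ifs <;> simp
      · rw [← MvPolynomial.algebraMap_eq, τ.commutes]
    have e : Mτ.det • (fun k => τ (F k)) = 0 := by
      have : Mτ.det • (fun k => τ (F k)) = (Mτ.adjugate * Mτ).mulVec (fun k => τ (F k)) := by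
        rw [Matrix.adjugate_mul, Matrix.smul_mulVec, Matrix.one_mulVec]
      rw [this, ← Matrix.mulVec_mulVec, hMv, Matrix.mulVec_zero]
    have e' := congrFun e j
    rw [hdet]
    simpa using e'

end Groth.Agent.Lib.Helper7.Smoothing
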