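import Groth.Agent.Lib.Helper7Smoothing13

set_option autoImplicit false
set_option linter.style.haveILetI false
universe u
open MvPolynomial

namespace Groth.Agent.Lib.Helper7.Smoothing

section Desing3
variable {R : Type u} [CommRing R] {n m c : ℕ} (π : R) (r : Fin n → R)
  (S : Matrix (Fin n) (Fin c) R)

lemma pderiv_dsX (i l : Fin n) :
    pderiv (Fin.natAdd c l) (dsX π r S i) = if i = l then C (π ^ 3) else 0 := by
  classical
  have hne : ∀ k : Fin c, Fin.castAdd n k ≠ Fin.natAdd c l := by
    intro k h
    have := congrArg Fin.val h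
    simp at this
    omega
  rw [dsX, map_add, pderiv_C, zero_add, pderiv_C_mul, dsY, map_add, map_sum, pderiv_C_mul, dsw,
    pderiv_X]
  have h0 : ∑ k, pderiv (Fin.natAdd c l) (C (S i k) * dsv (n := n) k) = 0 := by
    refine Finset.sum_eq_zero fun k _ => ?_
    rw [pderiv_C_mul, dsv, pderiv_X_of_ne (hne k), mul_zero]
  rw [h0, zero_add]
  by_cases hil : i = l
  · subst hil
    simp only [Pi.single_eq_same, mul_one, if_true]
    rw [← map_mul]
    congr 1
    ring
  · have : Fin.natAdd c i ≠ Fin.natAdd c l := fun h => hil (Fin.natAdd_injective n c h)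
    simp [hil]

theorem dsθ_minor (f : Fin m → MvPolynomial (Fin n) R) (rows : Fin c → Fin m)
    (cols : Fin c → Fin n) :
    Smoothing.jacobianMinor (fun j => dsθ π r S (f j)) rows (Fin.natAdd c ∘ cols) =
      C (π ^ 3) ^ c * dsθ π r S (Smoothing.jacobianMinor f rows cols) := by
  classical
  unfold Smoothing.jacobianMinor
  rw [AlgHom.map_det]
  have : (Matrix.of fun j k : Fin c => pderiv ((Fin.natAdd c ∘ cols) k)
      ((fun j => dsθ π r S (f j)) (rows j))) =
      (C (π ^ 3) : MvPolynomial (Fin (c + n)) R) •
        (dsθ π r S).mapMatrix (Matrix.of fun j k : Fin c => pderiv (cols k) (f (rows j))) := by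
    refine Matrix.ext fun j k => ?_
    simp only [Matrix.of_apply, Function.comp_apply, Matrix.smul_apply, AlgHom.mapMatrix_apply,
      Matrix.map_apply, smul_eq_mul]
    change pderiv (Fin.natAdd c (cols k)) (aeval (dsX π r S) (f (rows j))) = _
    rw [pderiv_aeval_chain]
    simp only [pderiv_dsX]
    rw [Finset.sum_eq_single (cols k)]
    · simp only [if_true]
      rw [mul_comm]
      rfl
    · intro i _ hi
      simp [hi]
    · intro h; exact absurd (Finset.mem_univ _) h
  rw [this, Matrix.det_smul, Fintype.card_fin]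

end Desing3

end Groth.Agent.Lib.Helper7.Smoothing
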