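import Groth.Agent.Lib.Helper7Smoothing14

set_option autoImplicit false
set_option linter.style.haveILetI false
universe u
open MvPolynomial

namespace Groth.Agent.Lib.Helper7.Smoothing

theorem isStrictlyStandard_quotAlg {R : Type u} [CommRing R] {N k : ℕ}
    (rel : Fin k → MvPolynomial (Fin N) R) (c : ℕ) (hcN : c ≤ N) (hck : c ≤ k)
    (s : MvPolynomial (Fin N) R)
    (hmem : qmk rel s ∈ Ideal.span (Set.range fun cols : Fin c → Fin N =>
      qmk rel (Smoothing.jacobianMinor rel (Fin.castLE hck) cols)))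
    (hkt : ∀ a', qmk rel a' = qmk rel s → ∀ j : Fin k, c ≤ (j : ℕ) →
      a' * rel j ∈ Ideal.span (rel '' {j' : Fin k | (j' : ℕ) < c}) ⊔
        Ideal.span (Set.range rel) ^ 2) :
    Smoothing.IsStrictlyStandard R (QuotAlg rel) (qmk rel s) :=
  ⟨qMP rel c hcN hck, hmem, hkt⟩

theorem map_mem_span_image {A B : Type*} [CommRing A] [CommRing B] (θ : A →+* B) {ι : Type*}
    (f : ι → A) (s : Set ι) {x : A} (hx : x ∈ Ideal.span (f '' s)) :
    θ x ∈ Ideal.span ((fun j => θ (f j)) '' s) := by
  have := Ideal.mem_map_of_mem θ hx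
  rwa [Ideal.map_span, Set.image_image] at this

theorem map_mem_span_range {A B : Type*} [CommRing A] [CommRing B] (θ : A →+* B) {ι : Type*}
    (f : ι → A) {x : A} (hx : x ∈ Ideal.span (Set.range f)) :
    θ x ∈ Ideal.span (Set.range fun j => θ (f j)) := by
  have := Ideal.mem_map_of_mem θ hx
  rwa [Ideal.map_span, ← Set.range_comp] at this

theorem map_mem_tail {A B : Type*} [CommRing A] [CommRing B] (θ : A →+* B) {ι : Type*}
    (f : ι → A) (s : Set ι) {x : A}
    (hx : x ∈ Ideal.span (f '' s) ⊔ Ideal.span (Set.range f) ^ 2) :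
    θ x ∈ Ideal.span ((fun j => θ (f j)) '' s) ⊔ Ideal.span (Set.range fun j => θ (f j)) ^ 2 := by
  have := Ideal.mem_map_of_mem θ hx
  rwa [Ideal.map_sup, Ideal.map_pow, Ideal.map_span, Ideal.map_span, Set.image_image,
    ← Set.range_comp] at this

end Groth.Agent.Lib.Helper7.Smoothing
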