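import Groth.Agent.Lib.Helper7Smoothing15

set_option autoImplicit false
set_option linter.style.haveILetI false
universe u
open MvPolynomial

namespace Groth.Agent.Lib.Helper7.Smoothing

section Case1
variable {R : Type u} [CommRing R] {n m c : ℕ} (π : R) (r : Fin n → R)
  (S : Matrix (Fin n) (Fin c) R)

theorem desing_strictlyStandard (f : Fin m → MvPolynomial (Fin n) R) (hcm : c ≤ m)
    (htail : ∀ j : Fin m, c ≤ (j : ℕ) → C π * f j ∈
      Ideal.span (f '' {j' : Fin m | (j' : ℕ) < c}) ⊔ Ideal.span (Set.range f) ^ 2)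
    (A : (Fin c → Fin n) → MvPolynomial (Fin n) R)
    (hA : C π - ∑ cols, A cols * Smoothing.jacobianMinor f (Fin.castLE hcm) cols ∈
      Ideal.span (Set.range f)) :
    Smoothing.IsStrictlyStandard R (QuotAlg fun j => dsθ π r S (f j))
      (qmk (fun j => dsθ π r S (f j)) (C (π ^ (3 * c + 1)))) := by
  classical
  set F : Fin m → MvPolynomial (Fin (c + n)) R := fun j => dsθ π r S (f j) with hF
  have hθC : ∀ x : R, dsθ π r S (C x) = C x := fun x => by
    rw [← MvPolynomial.algebraMap_eq, AlgHom.commutes, MvPolynomial.algebraMap_eq]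
  refine isStrictlyStandard_quotAlg F c (Nat.le_add_right c n) hcm _ ?_ ?_
  · have h1 := map_mem_span_range (dsθ π r S).toRingHom f hA
    have h2 : dsθ π r S (C π - ∑ cols, A cols * Smoothing.jacobianMinor f (Fin.castLE hcm) cols) *
        C (π ^ 3) ^ c ∈ Ideal.span (Set.range F) := Ideal.mul_mem_right _ _ h1
    have h3 : dsθ π r S (C π - ∑ cols, A cols * Smoothing.jacobianMinor f (Fin.castLE hcm) cols) *
        C (π ^ 3) ^ c = C (π ^ (3 * c + 1)) - ∑ cols, dsθ π r S (A cols) *
          Smoothing.jacobianMinor F (Fin.castLE hcm) (Fin.natAdd c ∘ cols) := by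
      rw [map_sub, hθC, map_sum, sub_mul, Finset.sum_mul]
      congr 1
      · rw [← map_pow, ← map_mul]
        congr 1
        ring
      · refine Finset.sum_congr rfl fun cols _ => ?_
        rw [map_mul, hF, dsθ_minor]
        ring
    rw [h3] at h2
    have h4 := (qmk_eq_zero_iff F _).mpr h2
    rw [map_sub, sub_eq_zero] at h4
    rw [h4, map_sum]
    refine Ideal.sum_mem _ fun cols _ => ?_
    rw [map_mul]
    exact Ideal.mul_mem_left _ _ (Ideal.subset_span ⟨Fin.natAdd c ∘ cols, rfl⟩)
  · intro a' ha' j hj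
    have hx : a' - C (π ^ (3 * c + 1)) ∈ Ideal.span (Set.range F) := by
      rw [← qmk_eq_zero_iff, map_sub, ha', sub_self]
    have e : a' * F j = C (π ^ (3 * c)) * (C π * F j) + (a' - C (π ^ (3 * c + 1))) * F j := by
      rw [pow_succ, map_mul]
      ring
    rw [e]
    refine Ideal.add_mem _ (Ideal.mul_mem_left _ _ ?_) (Ideal.mem_sup_right ?_)
    · have := map_mem_tail (dsθ π r S).toRingHom f _ (htail j hj)
      have e2 : (dsθ π r S).toRingHom (C π * f j) = C π * F j := by
        change dsθ π r S (C π * f j) = _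
        rw [map_mul, hθC]
      rw [e2] at this
      exact this
    · rw [pow_two]
      exact Ideal.mul_mem_mul hx (Ideal.subset_span ⟨j, rfl⟩)

end Case1

end Groth.Agent.Lib.Helper7.Smoothing
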