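import Groth.Agent.Lib.Helper7Smoothing16

set_option autoImplicit false
set_option linter.style.haveILetI false
universe u
open MvPolynomial

namespace Groth.Agent.Lib.Helper7.Smoothing

section Case1b
variable {R : Type u} [CommRing R] {n m c : ℕ} (π : R) (r : Fin n → R)
  (S : Matrix (Fin n) (Fin c) R) (f : Fin m → MvPolynomial (Fin n) R)

local notation "FF" => (fun j => dsθ π r S (f j))

lemma qmk_C {N k : ℕ} (rel : Fin k → MvPolynomial (Fin N) R) (x : R) :
    qmk rel (C x) = algebraMap R (QuotAlg rel) x := by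
  rw [← MvPolynomial.algebraMap_eq, AlgHom.commutes]

theorem desing_isSmoothAt_of_notMem (hcm : c ≤ m)
    (htail : ∀ j : Fin m, c ≤ (j : ℕ) → C π * f j ∈
      Ideal.span (f '' {j' : Fin m | (j' : ℕ) < c}) ⊔ Ideal.span (Set.range f) ^ 2)
    (A : (Fin c → Fin n) → MvPolynomial (Fin n) R)
    (hA : C π - ∑ cols, A cols * Smoothing.jacobianMinor f (Fin.castLE hcm) cols ∈
      Ideal.span (Set.range f))
    (g : Fin c → MvPolynomial (Fin (c + n)) R)
    (hlead : ∀ j : Fin c, dsθ π r S (f (Fin.castLE hcm j)) = C (π ^ 3) * g j)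
    (Q : Ideal (QuotAlg (Fin.append g (fun j => dsθ π r S (f j))))) [Q.IsPrime]
    (hQ : algebraMap R (QuotAlg (Fin.append g (fun j => dsθ π r S (f j)))) π ∉ Q) :
    Algebra.IsSmoothAt R Q := by
  classical
  haveI : Algebra.Smooth R (Localization.Away (qmk FF (C (π ^ (3 * c + 1))))) :=
    (Groth.Agent.S2030.result _ (desing_strictlyStandard π r S f hcm htail A hA)).1
  refine isSmoothAt_of_quotAlg_chart FF (Fin.append g FF) (fun j => ?_) (C (π ^ (3 * c + 1)))
    (fun j => ?_) Q ?_
  · exact Ideal.subset_span ⟨Fin.natAdd c j, Fin.append_right g FF j⟩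
  · refine Fin.addCases (fun j' => ?_) (fun j' => ?_) j
    · rw [Fin.append_left]
      have h1 : qmk FF (C (π ^ 3) * g j') = 0 := by
        rw [← hlead]
        exact qmk_rel FF _
      have hpow : ∀ k : ℕ, algebraMap (QuotAlg FF)
          (Localization.Away (qmk FF (C (π ^ (3 * c + 1))))) (qmk FF (C (π ^ k))) =
          (algebraMap (QuotAlg FF) (Localization.Away (qmk FF (C (π ^ (3 * c + 1)))))
            (qmk FF (C π))) ^ k := by
        intro k
        rw [map_pow (C : R →+* MvPolynomial (Fin (c + n)) R) π k, map_pow (qmk FF),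
          map_pow (algebraMap (QuotAlg FF) (Localization.Away (qmk FF (C (π ^ (3 * c + 1))))))]
      have hu : IsUnit (algebraMap (QuotAlg FF) (Localization.Away (qmk FF (C (π ^ (3 * c + 1)))))
          (qmk FF (C (π ^ (3 * c + 1))))) := IsLocalization.Away.algebraMap_isUnit _
      rw [hpow] at hu
      have hu' := (isUnit_pow_iff (Nat.succ_ne_zero _)).mp hu
      have h2 := congrArg (algebraMap (QuotAlg FF)
        (Localization.Away (qmk FF (C (π ^ (3 * c + 1)))))) h1
      rw [map_mul (qmk FF), map_mul (algebraMap _ _), map_zero, hpow] at h2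
      exact ((hu'.pow 3).mul_right_eq_zero).mp h2
    · rw [Fin.append_right, qmk_rel, map_zero]
  · rw [qmk_C, map_pow]
    exact fun h => hQ (Ideal.IsPrime.mem_of_pow_mem inferInstance _ h)

end Case1b

end Groth.Agent.Lib.Helper7.Smoothing
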