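import Groth.Agent.Lib.Helper7Smoothing17

set_option autoImplicit false
set_option linter.style.haveILetI false
universe u
open MvPolynomial

namespace Groth.Agent.Lib.Helper7.Smoothing

section Case2
variable {R : Type u} [CommRing R] {n m c : ℕ} (π : R)

theorem dsg_isStrictlyStandard (u : R) (M : Matrix (Fin c) (Fin n) R)
    (G : Fin c → MvPolynomial (Fin (c + n)) R) (x : MvPolynomial (Fin (c + n)) R) :
    Smoothing.IsStrictlyStandard R (QuotAlg (dsg π u M G))
      (qmk (dsg π u M G) (Smoothing.jacobianMinor (dsg π u M G) (Fin.castLE le_rfl)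
        (Fin.castAdd n) * x)) := by
  refine isStrictlyStandard_quotAlg (dsg π u M G) c (Nat.le_add_right c n) le_rfl _ ?_ ?_
  · rw [map_mul]
    exact Ideal.mul_mem_right _ _ (Ideal.subset_span ⟨Fin.castAdd n, rfl⟩)
  · intro a' _ j hj
    exact absurd j.isLt (not_lt.mpr hj)

theorem desing_isSmoothAt_of_mem (hcm : c ≤ m) (r₀ : R)
    (hr₀ : ∀ x : R, π ^ 2 * x = 0 → π * (r₀ * x) = 0)
    (u : R) (hu : u - 1 ∈ Ideal.span {π}) (M : Matrix (Fin c) (Fin n) R)
    (G : Fin c → MvPolynomial (Fin (c + n)) R) (F a : Fin m → MvPolynomial (Fin (c + n)) R)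
    (hFa : ∀ j, F j = C (π ^ 2) * a j)
    (hlead : ∀ j : Fin c, F (Fin.castLE hcm j) = C (π ^ 3) * dsg π u M G j)
    (htail : ∀ j : Fin m, c ≤ (j : ℕ) → C π * F j ∈
      Ideal.span (F '' {j' : Fin m | (j' : ℕ) < c}) ⊔ Ideal.span (Set.range F) ^ 2)
    (Q : Ideal (QuotAlg (Fin.append (dsg π u M G) F))) [Q.IsPrime]
    (hπQ : algebraMap R (QuotAlg (Fin.append (dsg π u M G) F)) π ∈ Q)
    (hrQ : algebraMap R (QuotAlg (Fin.append (dsg π u M G) F)) r₀ ∉ Q) :
    Algebra.IsSmoothAt R Q := by
  classical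
  obtain ⟨d, hd1, hd⟩ := exists_det_kill_tail π hcm (dsg π u M G) F a hFa hlead htail
  generalize hΔ : Smoothing.jacobianMinor (dsg π u M G) (Fin.castLE le_rfl) (Fin.castAdd n) = Δ
  have hΔ1 : Δ - 1 ∈ Ideal.span {(C π : MvPolynomial (Fin (c + n)) R)} :=
    hΔ ▸ dsg_minor_sub_one_mem π u hu M G le_rfl
  haveI : Algebra.Smooth R (Localization.Away (qmk (dsg π u M G) (Δ * (C r₀ * d)))) :=
    hΔ ▸ (Groth.Agent.S2030.result _ (dsg_isStrictlyStandard π u M G (C r₀ * d))).1
  haveI : Module.Flat R (Localization.Away (qmk (dsg π u M G) (Δ * (C r₀ * d)))) := inferInstance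
  have hunit : IsUnit (algebraMap (QuotAlg (dsg π u M G))
      (Localization.Away (qmk (dsg π u M G) (Δ * (C r₀ * d))))
      (qmk (dsg π u M G) (Δ * (C r₀ * d)))) := IsLocalization.Away.algebraMap_isUnit _
  have e0 : algebraMap (QuotAlg (dsg π u M G))
      (Localization.Away (qmk (dsg π u M G) (Δ * (C r₀ * d))))
      (qmk (dsg π u M G) (Δ * (C r₀ * d))) =
      algebraMap (QuotAlg (dsg π u M G))
        (Localization.Away (qmk (dsg π u M G) (Δ * (C r₀ * d)))) (qmk (dsg π u M G) Δ) *
      (algebraMap (QuotAlg (dsg π u M G))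
        (Localization.Away (qmk (dsg π u M G) (Δ * (C r₀ * d)))) (qmk (dsg π u M G) (C r₀)) *
       algebraMap (QuotAlg (dsg π u M G))
        (Localization.Away (qmk (dsg π u M G) (Δ * (C r₀ * d)))) (qmk (dsg π u M G) d)) := by
    simp only [map_mul]
  rw [e0] at hunit
  have hunit2 := isUnit_of_mul_isUnit_right hunit
  have hur := isUnit_of_mul_isUnit_left hunit2
  have hud := isUnit_of_mul_isUnit_right hunit2
  refine isSmoothAt_of_quotAlg_chart (dsg π u M G) (Fin.append (dsg π u M G) F) (fun j => ?_)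
    (Δ * (C r₀ * d)) (fun j => ?_) Q ?_
  · exact Ideal.subset_span ⟨Fin.castAdd m j, Fin.append_left _ F j⟩
  · refine Fin.addCases (fun j' => ?_) (fun j' => ?_) j
    · rw [Fin.append_left, qmk_rel, map_zero]
    · rw [Fin.append_right]
      have h1 := hd (Localization.Away (qmk (dsg π u M G) (Δ * (C r₀ * d))))
        ((IsScalarTower.toAlgHom R (QuotAlg (dsg π u M G))
          (Localization.Away (qmk (dsg π u M G) (Δ * (C r₀ * d))))).comp (qmk (dsg π u M G)))
        (fun j => by
          change algebraMap _ _ (qmk (dsg π u M G) (dsg π u M G j)) = 0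
          rw [qmk_rel, map_zero])
        (fun x hx => by
          have h2 := smul_eq_zero_of_sq_smul_of_flat' π r₀ hr₀ x hx
          rw [mul_comm π r₀, mul_smul, Algebra.smul_def r₀,
            IsScalarTower.algebraMap_apply R (QuotAlg (dsg π u M G)), ← qmk_C] at h2
          exact (hur.mul_right_eq_zero).mp h2) j'
      exact (hud.mul_right_eq_zero).mp h1
  · have h1 : ∀ y : MvPolynomial (Fin (c + n)) R,
        y - 1 ∈ Ideal.span {(C π : MvPolynomial (Fin (c + n)) R)} →
        qmk (Fin.append (dsg π u M G) F) y ∉ Q := by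
      intro y hy hmem
      obtain ⟨t, ht⟩ := Ideal.mem_span_singleton'.mp hy
      have e : qmk (Fin.append (dsg π u M G) F) y = 1 +
          qmk (Fin.append (dsg π u M G) F) t * algebraMap R _ π := by
        rw [← qmk_C, ← map_mul, ht, map_sub, map_one]
        ring
      have : (1 : QuotAlg (Fin.append (dsg π u M G) F)) ∈ Q := by
        have h3 := Q.sub_mem hmem (Q.mul_mem_left (qmk (Fin.append (dsg π u M G) F) t) hπQ)
        rwa [e, add_sub_cancel_right] at h3
      exact Ideal.IsPrime.ne_top inferInstance ((Ideal.eq_top_iff_one Q).mpr this)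
    rw [map_mul, map_mul, qmk_C]
    intro hmem
    rcases Ideal.IsPrime.mem_or_mem inferInstance hmem with h | h
    · exact h1 Δ hΔ1 h
    · rcases Ideal.IsPrime.mem_or_mem inferInstance h with h | h
      · exact hrQ h
      · exact h1 d hd1 h

end Case2

end Groth.Agent.Lib.Helper7.Smoothing
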