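import Groth.Agent.Lib.Helper7Smoothing18

set_option autoImplicit false
set_option linter.style.haveILetI false
universe u
open MvPolynomial

namespace Groth.Agent.Lib.Helper7.Smoothing

section Data
variable {R A : Type u} [CommRing R] [CommRing A] [Algebra R A] {n m c : ℕ} (π : R)

theorem exists_desing_data (hcm : c ≤ m) (f : Fin m → MvPolynomial (Fin n) R)
    (hom : MvPolynomial (Fin n) R →ₐ[R] A) (hsurj : Function.Surjective hom)
    (hker : RingHom.ker hom.toRingHom = Ideal.span (Set.range f))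
    (hspan : algebraMap R A π ∈ Ideal.span (Set.range fun cols : Fin c → Fin n =>
      hom (Smoothing.jacobianMinor f (Fin.castLE hcm) cols)))
    (ρ : A →ₐ[R] R ⧸ Ideal.span {π ^ 4}) (r : Fin n → R)
    (hr : ∀ i, Ideal.Quotient.mk (Ideal.span {π ^ 4}) (r i) = ρ (hom (X i))) :
    (∀ p, ρ (hom p) = Ideal.Quotient.mk (Ideal.span {π ^ 4}) (eval r p)) ∧
    (∀ j, ∃ t, eval r (f j) = π ^ 4 * t) ∧
    (∃ A' : (Fin c → Fin n) → MvPolynomial (Fin n) R,
      C π - ∑ cols, A' cols * Smoothing.jacobianMinor f (Fin.castLE hcm) cols ∈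
        Ideal.span (Set.range f)) ∧
    ∃ (u : R) (S : Matrix (Fin n) (Fin c) R), u - 1 ∈ Ideal.span {π} ∧
      ∀ j k : Fin c, ∑ i, eval r (pderiv i (f (Fin.castLE hcm j))) * S i k =
        if k = j then π * u else 0 := by
  classical
  have hρ : ∀ p, ρ (hom p) = Ideal.Quotient.mk (Ideal.span {π ^ 4}) (eval r p) := by
    intro p
    have : ρ.comp hom = (Ideal.Quotient.mkₐ R (Ideal.span {π ^ 4})).comp
        (aeval r : MvPolynomial (Fin n) R →ₐ[R] R) := by
      apply MvPolynomial.algHom_ext
      intro i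
      simp only [AlgHom.comp_apply, aeval_X]
      exact (hr i).symm
    have h2 := DFunLike.congr_fun this p
    simp only [AlgHom.comp_apply] at h2
    rw [h2, MvPolynomial.aeval_eq_eval]
    rfl
  have hker0 : ∀ p ∈ Ideal.span (Set.range f), ∃ t, eval r p = π ^ 4 * t := by
    intro p hp
    have h0 : hom p = 0 := by
      have : p ∈ RingHom.ker hom.toRingHom := hker ▸ hp
      exact this
    have h1 := hρ p
    rw [h0, map_zero] at h1
    have h2 := Ideal.Quotient.eq_zero_iff_mem.mp h1.symm
    obtain ⟨t, ht⟩ := Ideal.mem_span_singleton'.mp h2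
    exact ⟨t, by rw [← ht, mul_comm]⟩
  obtain ⟨α, hα⟩ := (Ideal.mem_span_range_iff_exists_fun).mp hspan
  choose A' hA' using fun cols => hsurj (α cols)
  have hA : C π - ∑ cols, A' cols * Smoothing.jacobianMinor f (Fin.castLE hcm) cols ∈
      Ideal.span (Set.range f) := by
    rw [← hker]
    change hom _ = 0
    rw [map_sub, map_sum, ← MvPolynomial.algebraMap_eq, hom.commutes, ← hα, sub_eq_zero]
    refine Finset.sum_congr rfl fun cols _ => ?_
    rw [map_mul, hA']
  refine ⟨hρ, fun j => hker0 _ (Ideal.subset_span ⟨j, rfl⟩), ⟨A', hA⟩, ?_⟩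
  obtain ⟨t₀, ht₀⟩ := hker0 _ hA
  let Mmat : Matrix (Fin c) (Fin n) R :=
    Matrix.of fun j i => eval r (pderiv i (f (Fin.castLE hcm j)))
  let rc : (Fin c → Fin n) → R := fun cols => eval r (A' cols)
  have hminor : ∀ cols : Fin c → Fin n,
      eval r (Smoothing.jacobianMinor f (Fin.castLE hcm) cols) =
        (Mmat.submatrix id cols).det := by
    intro cols
    unfold Smoothing.jacobianMinor
    rw [RingHom.map_det]
    congr 1
  have hsum : ∑ cols, rc cols * (Mmat.submatrix id cols).det = π * (1 - π ^ 3 * t₀) := by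
    rw [map_sub, eval_C, map_sum] at ht₀
    have : ∑ cols, rc cols * (Mmat.submatrix id cols).det = π - π ^ 4 * t₀ := by
      rw [← ht₀, sub_sub_cancel]
      refine Finset.sum_congr rfl fun cols _ => ?_
      rw [map_mul, hminor]
    rw [this]
    ring
  obtain ⟨S, hS⟩ := exists_matrix_mul_eq_smul_one Mmat rc
  refine ⟨1 - π ^ 3 * t₀, S, ?_, fun j k => ?_⟩
  · rw [Ideal.mem_span_singleton']
    exact ⟨-(π ^ 2 * t₀), by ring⟩
  · have := congrFun (congrFun hS j) k
    rw [hsum, Matrix.mul_apply, Matrix.smul_apply, Matrix.one_apply] at this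
    rw [show ∑ i, eval r (pderiv i (f (Fin.castLE hcm j))) * S i k = ∑ i, Mmat j i * S i k from rfl,
      this]
    by_cases hjk : k = j
    · subst hjk; simp
    · simp [hjk, Ne.symm hjk]

end Data

end Groth.Agent.Lib.Helper7.Smoothing
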