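import Groth.Agent.Lib.Helper7Smoothing19

set_option autoImplicit false
set_option linter.style.haveILetI false
universe u
open MvPolynomial

namespace Groth.Agent.Lib.Helper7.Smoothing

section Maps
variable {R : Type u} [CommRing R] {n c : ℕ} (π : R) (r : Fin n → R)
  (S : Matrix (Fin n) (Fin c) R)

/-- evaluation point in `Λ` for the variables `(v, w)`. -/
noncomputable def dsevPt {Λ : Type*} [CommRing Λ] [Algebra R Λ] (lam : Fin n → Λ) :
    Fin (c + n) → Λ :=
  Fin.addCases (fun _ : Fin c => 0) (fun i => π • lam i)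

lemma aeval_dsevPt_dsX {Λ : Type*} [CommRing Λ] [Algebra R Λ] (lam : Fin n → Λ) (i : Fin n) :
    aeval (dsevPt (c := c) π lam) (dsX π r S i) = algebraMap R Λ (r i) + π ^ 4 • lam i := by
  rw [dsX, dsY, map_add, map_mul, map_add, map_sum, map_mul, aeval_C, aeval_C, aeval_C, dsw,
    aeval_X]
  have h0 : ∑ k, aeval (dsevPt (c := c) π lam) (C (S i k) * dsv (n := n) k) = 0 := by
    refine Finset.sum_eq_zero fun k _ => ?_
    rw [map_mul, dsv, aeval_X]
    simp [dsevPt]
  rw [h0, zero_add]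
  have : dsevPt (c := c) π lam (Fin.natAdd c i) = π • lam i := by simp [dsevPt]
  rw [this, Algebra.smul_def, Algebra.smul_def, map_pow, map_pow]
  ring

lemma aeval_dsevPt_dsg {Λ : Type*} [CommRing Λ] [Algebra R Λ] (lam : Fin n → Λ) (u : R)
    (M : Matrix (Fin c) (Fin n) R) (G : Fin c → MvPolynomial (Fin (c + n)) R) (j : Fin c) :
    aeval (dsevPt (c := c) π lam) (dsg π u M G j) ∈ Ideal.span {algebraMap R Λ π} := by
  rw [dsg, map_add, map_add, map_mul, map_mul, map_sum, dsv, aeval_X, aeval_C, aeval_C]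
  have h1 : dsevPt (c := c) π lam (Fin.castAdd n j) = 0 := by simp [dsevPt]
  rw [h1, mul_zero, zero_add]
  refine Ideal.add_mem _ (Ideal.sum_mem _ fun i _ => ?_)
    (Ideal.mul_mem_right _ _ (Ideal.subset_span rfl))
  rw [map_mul, dsw, aeval_X]
  have : dsevPt (c := c) π lam (Fin.natAdd c i) = π • lam i := by simp [dsevPt]
  rw [this, Algebra.smul_def, mul_left_comm]
  exact Ideal.mul_mem_right _ _ (Ideal.subset_span rfl)

theorem eq_zero_of_cube_smul {Λ : Type*} [CommRing Λ] [Algebra R Λ]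
    (hΛ : ∀ x : Λ, π ^ 2 • x = 0 → π • x = 0) (t : Λ)
    (ht : t ∈ Ideal.span {algebraMap R Λ π}) (h3 : π ^ 3 • t = 0) : t = 0 := by
  obtain ⟨t', rfl⟩ := Ideal.mem_span_singleton'.mp ht
  have h4 : π ^ 4 • t' = 0 := by
    have : π ^ 4 • t' = π ^ 3 • (t' * algebraMap R Λ π) := by
      rw [Algebra.smul_def, Algebra.smul_def, map_pow, map_pow]; ring
    rw [this, h3]
  have e1 : π ^ 2 • (π ^ 2 • t') = 0 := by
    rw [smul_smul, ← pow_add]
    exact h4
  have e2 := hΛ _ e1
  have e3 : π ^ 2 • (π • t') = 0 := by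
    rw [smul_smul] at e2 ⊢
    rw [← e2]
    congr 1
    ring
  have e4 := hΛ _ e3
  have e5 : π ^ 2 • t' = 0 := by
    rw [smul_smul, ← sq] at e4
    exact e4
  have e6 := hΛ _ e5
  rw [mul_comm, ← Algebra.smul_def, e6]

end Maps

end Groth.Agent.Lib.Helper7.Smoothing
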