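import Groth.Agent.Lib.Helper7Smoothing20

set_option autoImplicit false
set_option linter.style.haveILetI false
universe u
open MvPolynomial

namespace Groth.Agent.Lib.Helper7.Smoothing

theorem desing_core {R Λ A : Type u} [CommRing R] [CommRing Λ] [Algebra R Λ] (π : R)
    (hΛ : ∀ x : Λ, π ^ 2 • x = 0 → π • x = 0) [CommRing A] [Algebra R A] (φ : A →ₐ[R] Λ)
    {n m c : ℕ} (hcm : c ≤ m) (f : Fin m → MvPolynomial (Fin n) R)
    (hom : MvPolynomial (Fin n) R →ₐ[R] A) (hsurj : Function.Surjective hom)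
    (hker : RingHom.ker hom.toRingHom = Ideal.span (Set.range f))
    (hspan : algebraMap R A π ∈ Ideal.span (Set.range fun cols : Fin c → Fin n =>
      hom (Smoothing.jacobianMinor f (Fin.castLE hcm) cols)))
    (htail : ∀ j : Fin m, c ≤ (j : ℕ) → C π * f j ∈
      Ideal.span (f '' {j' : Fin m | (j' : ℕ) < c}) ⊔ Ideal.span (Set.range f) ^ 2)
    (ρ : A →ₐ[R] R ⧸ Ideal.span {π ^ 4})
    (hρ : ∀ (a : A) (r : R), Ideal.Quotient.mk (Ideal.span {π ^ 4}) r = ρ a →
      algebraMap R Λ r - φ a ∈ Ideal.span {algebraMap R Λ (π ^ 4)}) :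
    ∃ (B : Type u) (_ : CommRing B) (_ : Algebra R B), Algebra.FinitePresentation R B ∧
      ∃ (α : A →ₐ[R] B) (β : B →ₐ[R] Λ), β.comp α = φ ∧
        ∀ r : R, (∀ x : R, π ^ 2 * x = 0 → π * (r * x) = 0) →
          algebraMap R B r ∈ Smoothing.singularIdeal R B := by
  classical
  choose r hr using fun i => Ideal.Quotient.mk_surjective (I := Ideal.span {π ^ 4}) (ρ (hom (X i)))
  obtain ⟨hρe, hH1, ⟨A', hA⟩, u, S, hu, hMS⟩ :=
    exists_desing_data π hcm f hom hsurj hker hspan ρ r hr
  choose t ht using hH1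
  choose a ha using fun j => dsθ_eq_sq_mul π r S (f j) (t j) (ht j)
  choose G hG using fun j : Fin c => dsθ_eq_cube_mul π r S (f (Fin.castLE hcm j))
    (t (Fin.castLE hcm j)) u j (ht _) (hMS j)
  let Mmat : Matrix (Fin c) (Fin n) R :=
    Matrix.of fun j i => eval r (pderiv i (f (Fin.castLE hcm j)))
  have hlead : ∀ j : Fin c, dsθ π r S (f (Fin.castLE hcm j)) = C (π ^ 3) * dsg π u Mmat G j :=
    fun j => hG j
  -- the point of Λ
  have hlam : ∀ i, ∃ l : Λ, φ (hom (X i)) = algebraMap R Λ (r i) + π ^ 4 • l := by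
    intro i
    obtain ⟨μ, hμ⟩ := Ideal.mem_span_singleton'.mp (hρ (hom (X i)) (r i) (hr i))
    refine ⟨-μ, ?_⟩
    rw [Algebra.smul_def, mul_neg, mul_comm, hμ]
    ring
  choose lam hlam' using hlam
  let ev : MvPolynomial (Fin (c + n)) R →ₐ[R] Λ := aeval (dsevPt (c := c) π lam)
  have hevθ : ∀ p, ev (dsθ π r S p) = φ (hom p) := by
    intro p
    have : ev.comp (dsθ π r S) = φ.comp hom := by
      apply MvPolynomial.algHom_ext
      intro i
      simp only [AlgHom.comp_apply]
      change aeval (dsevPt (c := c) π lam) (aeval (dsX π r S) (X i)) = _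
      rw [aeval_X, aeval_dsevPt_dsX, hlam']
    exact DFunLike.congr_fun this p
  have hf0 : ∀ j, hom (f j) = 0 := by
    intro j
    have : f j ∈ RingHom.ker hom.toRingHom := hker ▸ Ideal.subset_span ⟨j, rfl⟩
    exact this
  have hevF : ∀ j, ev (dsθ π r S (f j)) = 0 := fun j => by rw [hevθ, hf0, map_zero]
  have hevg : ∀ j, ev (dsg π u Mmat G j) = 0 := by
    intro j
    refine eq_zero_of_cube_smul π hΛ _ (aeval_dsevPt_dsg π lam u Mmat G j) ?_
    have := hevF (Fin.castLE hcm j)
    rw [hlead, map_mul, ← MvPolynomial.algebraMap_eq, AlgHom.commutes, ← Algebra.smul_def] at this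
    exact this
  let rel : Fin (c + m) → MvPolynomial (Fin (c + n)) R :=
    Fin.append (dsg π u Mmat G) (fun j => dsθ π r S (f j))
  let β : QuotAlg rel →ₐ[R] Λ := qlift rel ev (fun j => by
    refine Fin.addCases (fun j' => ?_) (fun j' => ?_) j
    · rw [show rel (Fin.castAdd m j') = dsg π u Mmat G j' from Fin.append_left _ _ j']
      exact hevg j'
    · rw [show rel (Fin.natAdd c j') = dsθ π r S (f j') from Fin.append_right _ _ j']
      exact hevF j')
  let α₁ : MvPolynomial (Fin n) R →ₐ[R] QuotAlg rel := (qmk rel).comp (dsθ π r S)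
  have hα₁ : ∀ a ∈ RingHom.ker hom, α₁ a = 0 := by
    intro a ha
    have hle : RingHom.ker hom.toRingHom ≤ RingHom.ker α₁.toRingHom := by
      rw [hker, Ideal.span_le]
      rintro _ ⟨j, rfl⟩
      change qmk rel (dsθ π r S (f j)) = 0
      rw [← show rel (Fin.natAdd c j) = dsθ π r S (f j) from Fin.append_right _ _ j]
      exact qmk_rel rel _
    exact hle ha
  let α : A →ₐ[R] QuotAlg rel := (Ideal.Quotient.liftₐ (RingHom.ker hom) α₁ hα₁).comp
    (Ideal.quotientKerAlgEquivOfSurjective hsurj).symm.toAlgHom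
  have hα : ∀ p, α (hom p) = qmk rel (dsθ π r S p) := by
    intro p
    have : (Ideal.quotientKerAlgEquivOfSurjective hsurj).symm (hom p) =
        Ideal.Quotient.mk (RingHom.ker hom) p := by
      rw [AlgEquiv.symm_apply_eq]
      rfl
    change Ideal.Quotient.liftₐ (RingHom.ker hom) α₁ hα₁
      ((Ideal.quotientKerAlgEquivOfSurjective hsurj).symm (hom p)) = _
    rw [this]
    rfl
  refine ⟨QuotAlg rel, inferInstance, inferInstance, inferInstance, α, β, ?_, ?_⟩
  · apply AlgHom.ext
    intro x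
    obtain ⟨p, rfl⟩ := hsurj x
    rw [AlgHom.comp_apply, hα]
    exact (qlift_qmk rel ev _ _).trans (hevθ p)
  · intro r₀ hr₀
    change algebraMap R (QuotAlg rel) r₀ ∈ PrimeSpectrum.vanishingIdeal _
    rw [PrimeSpectrum.mem_vanishingIdeal]
    intro q hq
    by_contra hrq
    apply hq
    change Algebra.IsSmoothAt R q.asIdeal
    by_cases hπq : algebraMap R (QuotAlg rel) π ∈ q.asIdeal
    · have htailF : ∀ j : Fin m, c ≤ (j : ℕ) → C π * dsθ π r S (f j) ∈
          Ideal.span ((fun j => dsθ π r S (f j)) '' {j' : Fin m | (j' : ℕ) < c}) ⊔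
            Ideal.span (Set.range fun j => dsθ π r S (f j)) ^ 2 := by
        intro j hj
        have := map_mem_tail (dsθ π r S).toRingHom f _ (htail j hj)
        have e2 : (dsθ π r S).toRingHom (C π * f j) = C π * dsθ π r S (f j) := by
          change dsθ π r S (C π * f j) = _
          rw [map_mul, ← MvPolynomial.algebraMap_eq, AlgHom.commutes, MvPolynomial.algebraMap_eq]
        rw [e2] at this
        exact this
      exact desing_isSmoothAt_of_mem π hcm r₀ hr₀ u hu Mmat G (fun j => dsθ π r S (f j)) a ha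
        hlead htailF q.asIdeal hπq hrq
    · exact desing_isSmoothAt_of_notMem π r S f hcm htail A' hA (dsg π u Mmat G) hlead
        q.asIdeal hπq

end Groth.Agent.Lib.Helper7.Smoothing
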