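import Groth.Agent.Lib.Helper7Smoothing22

set_option autoImplicit false
set_option linter.style.haveILetI false
universe u
open MvPolynomial

namespace Groth.Agent.Lib.Helper7.Smoothing

theorem singularIdeal_map_le {R D B : Type u} [CommRing R] [IsNoetherianRing R] [CommRing D]
    [Algebra R D] [Algebra.FinitePresentation R D] [CommRing B] [Algebra D B] [Algebra R B]
    [IsScalarTower R D B] [Algebra.FinitePresentation D B] (π : R)
    (hR : ∀ r : R, π ^ 2 * r = 0 → π * r = 0)
    (hsing : ∀ r : D, (∀ x : D, algebraMap R D π ^ 2 * x = 0 → algebraMap R D π * (r * x) = 0) →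
      algebraMap D B r ∈ Smoothing.singularIdeal D B) :
    (Smoothing.singularIdeal R D).map (algebraMap D B) ≤ Smoothing.singularIdeal D B ∧
    (Smoothing.singularIdeal R D).map (algebraMap D B) ≤ Smoothing.singularIdeal R B := by
  classical
  haveI : IsNoetherianRing D := Algebra.FiniteType.isNoetherianRing R D
  have key : ∀ h ∈ Smoothing.singularIdeal R D, ∀ qB : PrimeSpectrum B,
      algebraMap D B h ∉ qB.asIdeal →
      Algebra.IsSmoothAt R (qB.asIdeal.comap (algebraMap D B)) ∧
        Algebra.IsSmoothAt D qB.asIdeal := by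
    intro h hh qB hmem
    have hq : (PrimeSpectrum.comap (algebraMap D B) qB) ∈ Algebra.smoothLocus R D := by
      by_contra hq
      exact hmem ((PrimeSpectrum.mem_vanishingIdeal _ _).mp hh _ hq)
    have hq' : Algebra.IsSmoothAt R (qB.asIdeal.comap (algebraMap D B)) := hq
    refine ⟨hq', ?_⟩
    haveI := hq'
    obtain ⟨r₀, hr₀, hann⟩ := exists_notMem_ann_of_isSmoothAt π hR
      (qB.asIdeal.comap (algebraMap D B))
    have h1 := hsing r₀ hann
    by_contra hns
    have : qB ∈ (Algebra.smoothLocus D B)ᶜ := hns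
    exact hr₀ ((PrimeSpectrum.mem_vanishingIdeal _ _).mp h1 _ this)
  constructor
  · rw [Ideal.map_le_iff_le_comap]
    intro h hh
    change algebraMap D B h ∈ PrimeSpectrum.vanishingIdeal _
    rw [PrimeSpectrum.mem_vanishingIdeal]
    intro qB hqB
    by_contra hmem
    exact hqB (key h hh qB hmem).2
  · rw [Ideal.map_le_iff_le_comap]
    intro h hh
    change algebraMap D B h ∈ PrimeSpectrum.vanishingIdeal _
    rw [PrimeSpectrum.mem_vanishingIdeal]
    intro qB hqB
    by_contra hmem
    apply hqB
    obtain ⟨h1, h2⟩ := key h hh qB hmem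
    haveI := h1
    haveI := h2
    haveI : qB.asIdeal.LiesOver (qB.asIdeal.comap (algebraMap D B)) := ⟨rfl⟩
    exact isSmoothAt_comp (R := R) (qB.asIdeal.comap (algebraMap D B)) qB.asIdeal

end Groth.Agent.Lib.Helper7.Smoothing
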