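import Groth.Agent.Lib.Helper7Smoothing24

set_option autoImplicit false
set_option linter.style.haveILetI false
universe u
open MvPolynomial

namespace Groth.Agent.Lib.Helper7.Smoothing


/-- A surjection whose kernel is killed by `s` becomes an isomorphism after inverting `s`. -/
theorem isLocalization_away_of_surjective_of_ker_killed {C Cb T : Type*} [CommRing C]
    [CommRing Cb] [CommRing T] [Algebra Cb T] [Algebra C T] (f : C →+* Cb)
    (hf : Function.Surjective f) (s : C) (hs : ∀ x, f x = 0 → s * x = 0)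
    [IsLocalization.Away (f s) T] (hcomp : ∀ c, algebraMap C T c = algebraMap Cb T (f c)) :
    IsLocalization.Away s T := by
  refine ⟨?_, ?_, ?_⟩
  · rintro ⟨_, k, rfl⟩
    rw [map_pow, hcomp]
    exact (IsLocalization.Away.algebraMap_isUnit (f s)).pow k
  · intro z
    obtain ⟨⟨b, ⟨_, k, rfl⟩⟩, hb⟩ := IsLocalization.surj (Submonoid.powers (f s)) z
    obtain ⟨c, rfl⟩ := hf b
    refine ⟨⟨c, ⟨s ^ k, k, rfl⟩⟩, ?_⟩
    simp only at hb ⊢
    rw [hcomp, hcomp, map_pow, hb]
  · intro c₁ c₂ h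
    rw [hcomp, hcomp] at h
    obtain ⟨⟨_, k, rfl⟩, hk⟩ := (IsLocalization.eq_iff_exists (Submonoid.powers (f s)) T).mp h
    simp only at hk
    have h0 : f (s ^ k * (c₁ - c₂)) = 0 := by
      rw [map_mul, map_pow, map_sub, mul_sub, hk, sub_self]
    have h1 := hs _ h0
    refine ⟨⟨s ^ (k + 1), _, rfl⟩, ?_⟩
    simp only
    rw [← sub_eq_zero, ← mul_sub, pow_succ', mul_assoc]
    exact h1

theorem isSmoothAt_comap_of_surjective_of_ker_killed {R C Cb : Type u} [CommRing R] [CommRing C]
    [CommRing Cb] [Algebra R C] [Algebra R Cb] (f : C →ₐ[R] Cb) (hf : Function.Surjective f)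
    (s : C) (hs : ∀ x, f x = 0 → s * x = 0) (Qb : Ideal Cb) [Qb.IsPrime] (hsQ : f s ∉ Qb)
    [Algebra.IsSmoothAt R Qb] : Algebra.IsSmoothAt R (Qb.comap f) := by
  let T := Localization.Away (f s)
  letI : Algebra C T := ((algebraMap Cb T).comp (f : C →+* Cb)).toAlgebra
  haveI : IsScalarTower R C T := IsScalarTower.of_algebraMap_eq (fun r => by
    change algebraMap R T r = algebraMap Cb T (f (algebraMap R C r))
    rw [f.commutes, ← IsScalarTower.algebraMap_apply])
  haveI hloc0 : IsLocalization.Away ((f : C →+* Cb) s) T :=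
    (inferInstance : IsLocalization.Away (f s) (Localization.Away (f s)))
  haveI : IsLocalization.Away s T :=
    isLocalization_away_of_surjective_of_ker_killed (f : C →+* Cb) hf s hs (fun _ => rfl)
  have hdisj : Disjoint (Submonoid.powers (f s) : Set Cb) (Qb : Set Cb) := by
    rw [Ideal.disjoint_powers_iff_notMem _ (Ideal.IsPrime.isRadical inferInstance)]
    exact hsQ
  have hprime : (Qb.map (algebraMap Cb T)).IsPrime :=
    IsLocalization.isPrime_of_isPrime_disjoint (Submonoid.powers (f s)) T Qb inferInstance hdisj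
  have hcomap : (Qb.map (algebraMap Cb T)).comap (algebraMap Cb T) = Qb :=
    IsLocalization.under_map_of_isPrime_disjoint (Submonoid.powers (f s)) T inferInstance hdisj
  have h1 := Algebra.smoothLocus_comap_of_isLocalization (R := R) (A := Cb) (Af := T) (f s)
  have h2 := Algebra.smoothLocus_comap_of_isLocalization (R := R) (A := C) (Af := T) s
  have hmem : (⟨Qb.map (algebraMap Cb T), hprime⟩ : PrimeSpectrum T) ∈
      Algebra.smoothLocus R T := by
    rw [← h1, Set.mem_preimage]
    have : PrimeSpectrum.comap (algebraMap Cb T) ⟨Qb.map (algebraMap Cb T), hprime⟩ =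
        ⟨Qb, inferInstance⟩ := PrimeSpectrum.ext hcomap
    rw [this]
    exact (inferInstance : Algebra.IsSmoothAt R Qb)
  rw [← h2, Set.mem_preimage] at hmem
  have e : (PrimeSpectrum.comap (algebraMap C T) ⟨Qb.map (algebraMap Cb T), hprime⟩).asIdeal =
      Qb.comap f := by
    change ((Qb.map (algebraMap Cb T)).comap (algebraMap Cb T)).comap (f : C →+* Cb) = _
    rw [hcomap]
    rfl
  have hmem' : Algebra.IsSmoothAt R
    (PrimeSpectrum.comap (algebraMap C T) ⟨Qb.map (algebraMap Cb T), hprime⟩).asIdeal := hmem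
  convert hmem' using 2; exact e.symm



/-- elements of `E` that are fractions of elements of the subalgebra `T₀` with denominator a unit. -/
def fracClosure {R E : Type*} [CommRing R] [CommRing E] [Algebra R E] (T₀ : Subalgebra R E) :
    Subalgebra R E where
  carrier := {e | ∃ t ∈ T₀, ∃ m ∈ T₀, IsUnit m ∧ e * m = t}
  mul_mem' := by
    rintro e₁ e₂ ⟨t₁, ht₁, m₁, hm₁, hu₁, h₁⟩ ⟨t₂, ht₂, m₂, hm₂, hu₂, h₂⟩
    refine ⟨t₁ * t₂, T₀.mul_mem ht₁ ht₂, m₁ * m₂, T₀.mul_mem hm₁ hm₂, hu₁.mul hu₂, ?_⟩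
    rw [← h₁, ← h₂]; ring
  add_mem' := by
    rintro e₁ e₂ ⟨t₁, ht₁, m₁, hm₁, hu₁, h₁⟩ ⟨t₂, ht₂, m₂, hm₂, hu₂, h₂⟩
    refine ⟨t₁ * m₂ + t₂ * m₁, T₀.add_mem (T₀.mul_mem ht₁ hm₂) (T₀.mul_mem ht₂ hm₁), m₁ * m₂,
      T₀.mul_mem hm₁ hm₂, hu₁.mul hu₂, ?_⟩
    rw [← h₁, ← h₂]; ring
  algebraMap_mem' := fun r =>
    ⟨algebraMap R E r, T₀.algebraMap_mem r, 1, T₀.one_mem, isUnit_one, mul_one _⟩

lemma le_fracClosure {R E : Type*} [CommRing R] [CommRing E] [Algebra R E]
    (T₀ : Subalgebra R E) : T₀ ≤ fracClosure T₀ :=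
  fun t ht => ⟨t, ht, 1, T₀.one_mem, isUnit_one, mul_one _⟩

lemma inv_mem_fracClosure {R E : Type*} [CommRing R] [CommRing E] [Algebra R E]
    (T₀ : Subalgebra R E) {e e' : E} (he : e ∈ fracClosure T₀) (hee' : e * e' = 1) :
    e' ∈ fracClosure T₀ := by
  obtain ⟨t, ht, m, hm, hu, h⟩ := he
  have hue : IsUnit e := IsUnit.of_mul_eq_one _ hee'
  refine ⟨m, hm, t, ht, ?_, ?_⟩
  · rw [← h]; exact hue.mul hu
  · rw [← h, ← mul_assoc, mul_comm e', hee', one_mul]

theorem isSmoothAt_comap_subalgebra {R E : Type u} [CommRing R] [CommRing E] [Algebra R E]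
    [Algebra.FormallySmooth R E] (T₀ : Subalgebra R E) (hfrac : fracClosure T₀ = ⊤)
    (P : Ideal E) [P.IsPrime] : Algebra.IsSmoothAt R (P.comap T₀.val) := by
  let M : Submonoid T₀ :=
    { carrier := {m | IsUnit (m : E)}
      mul_mem' := fun ha hb => by
        simp only [Set.mem_ofPred_eq, Subalgebra.coe_mul] at *
        exact ha.mul hb
      one_mem' := by simp }
  haveI : IsLocalization M E := by
    refine ⟨?_, ?_, ?_⟩
    · rintro ⟨m, hm⟩
      exact hm
    · intro e
      have : e ∈ fracClosure T₀ := hfrac ▸ Algebra.mem_top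
      obtain ⟨t, ht, m, hm, hu, h⟩ := this
      exact ⟨⟨⟨t, ht⟩, ⟨⟨m, hm⟩, hu⟩⟩, h⟩
    · intro x y hxy
      refine ⟨1, ?_⟩
      have : x = y := Subtype.ext hxy
      rw [this]
  have hAt : IsLocalization.AtPrime (Localization.AtPrime P) (P.comap (algebraMap T₀ E)) :=
    IsLocalization.isLocalization_isLocalization_atPrime_isLocalization M _ P
  change Algebra.FormallySmooth R (Localization.AtPrime (P.comap (algebraMap T₀ E)))
  haveI : Algebra.FormallySmooth E (Localization.AtPrime P) :=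
    Algebra.FormallySmooth.of_isLocalization P.primeCompl
  haveI : Algebra.FormallySmooth R (Localization.AtPrime P) :=
    Algebra.FormallySmooth.comp R E _
  refine (Algebra.FormallySmooth.iff_of_equiv ?_).mp
    (inferInstance : Algebra.FormallySmooth R (Localization.AtPrime P))
  exact ((IsLocalization.algEquiv (P.comap (algebraMap T₀ E)).primeCompl
    (Localization.AtPrime (P.comap (algebraMap T₀ E))) (Localization.AtPrime P)).restrictScalars
      R).symm


end Groth.Agent.Lib.Helper7.Smoothing
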