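import Groth.Agent.Lib.Helper7Smoothing26

set_option autoImplicit false
set_option linter.style.haveILetI false
universe u
open MvPolynomial

namespace Groth.Agent.Lib.Helper7.Smoothing

section Core
variable {R P₀ E Λ Λq : Type u} [CommRing R] [CommRing P₀] [Algebra R P₀] [CommRing E]
  [Algebra R E] [CommRing Λ] [Algebra R Λ] [CommRing Λq] [Algebra Λ Λq] [Algebra R Λq]
  [IsScalarTower R Λ Λq]

/-- the ideal `Y · ker ψ'` of `P₀[Y]` -/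
noncomputable def dlJ (T₀ : Subalgebra R E) (ψ' : P₀ →ₐ[R] T₀) : Ideal (MvPolynomial (Fin 1) P₀) :=
  Ideal.span {X 0} * (RingHom.ker (ψ' : P₀ →+* T₀)).map (C : P₀ →+* MvPolynomial (Fin 1) P₀)

lemma dlJ_le_ker_polyMap (T₀ : Subalgebra R E) (ψ' : P₀ →ₐ[R] T₀) (lam : P₀ →ₐ[R] Λ) (ν : Λ)
    (hν : ∀ p, ψ' p = 0 → ν * lam p = 0) :
    ∀ x ∈ dlJ T₀ ψ', polyMap lam (fun _ : Fin 1 => ν) x = 0 := by
  intro x hx
  have hle : dlJ T₀ ψ' ≤ RingHom.ker (polyMap lam (fun _ : Fin 1 => ν) :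
      MvPolynomial (Fin 1) P₀ →+* Λ) := by
    rw [dlJ, Ideal.span_singleton_mul_le_iff]
    intro z hz
    rw [RingHom.mem_ker]
    change polyMap lam (fun _ : Fin 1 => ν) (X 0 * z) = 0
    rw [map_mul, polyMap_X]
    rw [Ideal.map] at hz
    induction hz using Submodule.span_induction with
    | mem z hz =>
      obtain ⟨p, hp, rfl⟩ := hz
      change ν * polyMap lam (fun _ : Fin 1 => ν) (C p) = 0
      rw [polyMap_C]
      exact hν p ((RingHom.mem_ker).mp hp)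
    | zero => simp
    | add x y _ _ hx hy => rw [map_add, mul_add, hx, hy, add_zero]
    | smul a x _ hx => rw [smul_eq_mul, map_mul, mul_left_comm, hx, mul_zero]
  exact hle hx

/-- the map `P₀[Y]/J → Λ` -/
noncomputable def dlh (T₀ : Subalgebra R E) (ψ' : P₀ →ₐ[R] T₀) (lam : P₀ →ₐ[R] Λ) (ν : Λ)
    (hν : ∀ p, ψ' p = 0 → ν * lam p = 0) : (MvPolynomial (Fin 1) P₀ ⧸ dlJ T₀ ψ') →ₐ[R] Λ :=
  Ideal.Quotient.liftₐ (dlJ T₀ ψ') (polyMap lam (fun _ : Fin 1 => ν))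
    (dlJ_le_ker_polyMap T₀ ψ' lam ν hν)

lemma dlh_mk (T₀ : Subalgebra R E) (ψ' : P₀ →ₐ[R] T₀) (lam : P₀ →ₐ[R] Λ) (ν : Λ)
    (hν : ∀ p, ψ' p = 0 → ν * lam p = 0) (x : MvPolynomial (Fin 1) P₀) :
    dlh T₀ ψ' lam ν hν (Ideal.Quotient.mk _ x) = polyMap lam (fun _ : Fin 1 => ν) x := by
  rw [dlh]
  exact Ideal.Quotient.liftₐ_apply _ _ _ _

lemma dlJ_le_ker_map (T₀ : Subalgebra R E) (ψ' : P₀ →ₐ[R] T₀) :
    ∀ x ∈ dlJ T₀ ψ', MvPolynomial.mapAlgHom (σ := Fin 1) ψ' x = 0 := by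
  intro x hx
  have h1 : dlJ T₀ ψ' ≤ (RingHom.ker (ψ' : P₀ →+* T₀)).map
      (C : P₀ →+* MvPolynomial (Fin 1) P₀) := Ideal.mul_le_right
  have h2 := h1 hx
  rw [← MvPolynomial.ker_map] at h2
  exact (RingHom.mem_ker).mp h2

/-- the map `P₀[Y]/J → T₀[Y]` -/
noncomputable def dlf (T₀ : Subalgebra R E) (ψ' : P₀ →ₐ[R] T₀) :
    (MvPolynomial (Fin 1) P₀ ⧸ dlJ T₀ ψ') →ₐ[R] MvPolynomial (Fin 1) T₀ :=
  Ideal.Quotient.liftₐ (dlJ T₀ ψ') (MvPolynomial.mapAlgHom (σ := Fin 1) ψ') (dlJ_le_ker_map T₀ ψ')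

lemma dlf_mk (T₀ : Subalgebra R E) (ψ' : P₀ →ₐ[R] T₀) (x : MvPolynomial (Fin 1) P₀) :
    dlf T₀ ψ' (Ideal.Quotient.mk _ x) = MvPolynomial.map (ψ' : P₀ →+* T₀) x := by
  rw [dlf]
  exact Ideal.Quotient.liftₐ_apply _ _ _ _

lemma dlf_surjective (T₀ : Subalgebra R E) (ψ' : P₀ →ₐ[R] T₀) (hψ' : Function.Surjective ψ') :
    Function.Surjective (dlf T₀ ψ') := by
  intro y
  obtain ⟨x, rfl⟩ := MvPolynomial.map_surjective (ψ' : P₀ →+* T₀) hψ' y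
  exact ⟨Ideal.Quotient.mk _ x, dlf_mk T₀ ψ' x⟩

lemma dlf_ker_killed (T₀ : Subalgebra R E) (ψ' : P₀ →ₐ[R] T₀) (x : MvPolynomial (Fin 1) P₀ ⧸ dlJ T₀ ψ')
    (hx : dlf T₀ ψ' x = 0) : Ideal.Quotient.mk (dlJ T₀ ψ') (X 0) * x = 0 := by
  obtain ⟨p, rfl⟩ := Ideal.Quotient.mk_surjective x
  rw [dlf_mk] at hx
  have h2 : p ∈ RingHom.ker (MvPolynomial.map (σ := Fin 1) (ψ' : P₀ →+* T₀)) := hx
  rw [MvPolynomial.ker_map] at h2
  rw [← map_mul, Ideal.Quotient.eq_zero_iff_mem, dlJ]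
  exact Ideal.mul_mem_mul (Ideal.mem_span_singleton_self _) h2


/-- the map `T₀[Y] → Λq` -/
noncomputable def dlhb (T₀ : Subalgebra R E) (hE : E →ₐ[R] Λq) (ν : Λ) :
    MvPolynomial (Fin 1) T₀ →ₐ[R] Λq :=
  polyMap (hE.comp T₀.val) (fun _ => algebraMap Λ Λq ν)

omit [IsScalarTower R Λ Λq] in
lemma dlhb_dlf (T₀ : Subalgebra R E) (ψ' : P₀ →ₐ[R] T₀) (lam : P₀ →ₐ[R] Λ) (ν : Λ)
    (hν : ∀ p, ψ' p = 0 → ν * lam p = 0) (hE : E →ₐ[R] Λq)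
    (hcomm : ∀ p, algebraMap Λ Λq (lam p) = hE (ψ' p : E))
    (x : MvPolynomial (Fin 1) P₀ ⧸ dlJ T₀ ψ') :
    dlhb T₀ hE ν (dlf T₀ ψ' x) = algebraMap Λ Λq (dlh T₀ ψ' lam ν hν x) := by
  obtain ⟨p, rfl⟩ := Ideal.Quotient.mk_surjective x
  rw [dlf_mk, dlh_mk]
  exact polyMap_ext' ((dlhb T₀ hE ν : MvPolynomial (Fin 1) T₀ →+* Λq).comp
    (MvPolynomial.map (ψ' : P₀ →+* T₀)))
    ((algebraMap Λ Λq).comp (polyMap lam (fun _ : Fin 1 => ν) : MvPolynomial (Fin 1) P₀ →+* Λ))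
    (fun a => by simp [dlhb, hcomm]) (fun i => by simp [dlhb]) p

omit [IsScalarTower R Λ Λq] in
theorem delocalize_core_smooth [Algebra.FormallySmooth R E] (𝔮 : Ideal Λ) [𝔮.IsPrime]
    [IsLocalization.AtPrime Λq 𝔮] (T₀ : Subalgebra R E) (hfrac : fracClosure T₀ = ⊤)
    (ψ' : P₀ →ₐ[R] T₀) (hψ' : Function.Surjective ψ') (hE : E →ₐ[R] Λq) (lam : P₀ →ₐ[R] Λ)
    (hcomm : ∀ p, algebraMap Λ Λq (lam p) = hE (ψ' p : E))
    (ν : Λ) (hνq : ν ∉ 𝔮) (hν : ∀ p, ψ' p = 0 → ν * lam p = 0) :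
    Algebra.IsSmoothAt R (𝔮.comap (dlh T₀ ψ' lam ν hν)) := by
  let 𝔪 : Ideal Λq := 𝔮.map (algebraMap Λ Λq)
  haveI h𝔪 : 𝔪.IsPrime := Ideal.isPrime_map_of_isLocalizationAtPrime 𝔮 (S := Λq) le_rfl
  have h𝔪c : 𝔪.comap (algebraMap Λ Λq) = 𝔮 :=
    Ideal.under_map_of_isLocalizationAtPrime 𝔮 (S := Λq) le_rfl
  let Pe : Ideal E := 𝔪.comap hE
  haveI : Pe.IsPrime := Ideal.comap_isPrime _ _
  let p₀ : Ideal T₀ := Pe.comap T₀.val
  haveI : p₀.IsPrime := Ideal.comap_isPrime _ _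
  haveI : Algebra.IsSmoothAt R p₀ := isSmoothAt_comap_subalgebra T₀ hfrac Pe
  let Qb : Ideal (MvPolynomial (Fin 1) T₀) := 𝔪.comap (dlhb T₀ hE ν)
  haveI : Qb.IsPrime := Ideal.comap_isPrime _ _
  haveI : Qb.LiesOver p₀ := ⟨by
    ext t
    simp only [Ideal.under, Ideal.mem_comap, p₀, Pe, Qb, MvPolynomial.algebraMap_eq, dlhb,
      polyMap_C]
    rfl⟩
  haveI : Algebra.IsSmoothAt T₀ Qb := by
    change Algebra.FormallySmooth T₀ (Localization.AtPrime Qb)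
    haveI : Algebra.FormallySmooth (MvPolynomial (Fin 1) T₀) (Localization.AtPrime Qb) :=
      Algebra.FormallySmooth.of_isLocalization Qb.primeCompl
    exact Algebra.FormallySmooth.comp T₀ (MvPolynomial (Fin 1) T₀) _
  haveI : Algebra.IsSmoothAt R Qb := isSmoothAt_comp p₀ Qb
  have hsQ : dlf T₀ ψ' (Ideal.Quotient.mk (dlJ T₀ ψ') (X 0)) ∉ Qb := by
    rw [dlf_mk, MvPolynomial.map_X]
    simp only [Qb, Ideal.mem_comap, dlhb, polyMap_X]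
    intro hmem
    have : ν ∈ 𝔪.comap (algebraMap Λ Λq) := hmem
    rw [h𝔪c] at this
    exact hνq this
  have key := isSmoothAt_comap_of_surjective_of_ker_killed (dlf T₀ ψ') (dlf_surjective T₀ ψ' hψ')
    (Ideal.Quotient.mk (dlJ T₀ ψ') (X 0)) (dlf_ker_killed T₀ ψ') Qb hsQ
  have e : Qb.comap (dlf T₀ ψ') = 𝔮.comap (dlh T₀ ψ' lam ν hν) := by
    ext x
    simp only [Ideal.mem_comap, Qb]
    rw [dlhb_dlf T₀ ψ' lam ν hν hE hcomm x]
    conv_rhs => rw [← h𝔪c]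
    rfl
  convert key using 2
  exact e.symm

end Core


/-- Abstract delocalization: a map `P₀ → E` into a formally smooth `R`-algebra whose image has `E`
as ring of fractions, compatible with maps to `Λ` and `Λ_𝔮`, yields a finitely presented `C`
through which `P₀ → Λ` factors and which is smooth at the contraction of `𝔮`. -/
theorem delocalize_core {R P₀ E Λ Λq : Type u} [CommRing R] [IsNoetherianRing R] [CommRing P₀]
    [Algebra R P₀] [Algebra.FinitePresentation R P₀] [CommRing E] [Algebra R E]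
    [Algebra.FormallySmooth R E] [CommRing Λ] [Algebra R Λ] (𝔮 : Ideal Λ) [𝔮.IsPrime]
    [CommRing Λq] [Algebra Λ Λq] [IsLocalization.AtPrime Λq 𝔮] [Algebra R Λq]
    [IsScalarTower R Λ Λq] (ψ : P₀ →ₐ[R] E) (hfrac : fracClosure ψ.range = ⊤)
    (hE : E →ₐ[R] Λq) (lam : P₀ →ₐ[R] Λ) (hcomm : ∀ p, algebraMap Λ Λq (lam p) = hE (ψ p)) :
    ∃ (C : Type u) (_ : CommRing C) (_ : Algebra R C), Algebra.FinitePresentation R C ∧
      ∃ (g : P₀ →ₐ[R] C) (h : C →ₐ[R] Λ), h.comp g = lam ∧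
        ¬ (Smoothing.singularIdeal R C).map h ≤ 𝔮 := by
  classical
  haveI : IsNoetherianRing P₀ := Algebra.FiniteType.isNoetherianRing R P₀
  let T₀ : Subalgebra R E := ψ.range
  let ψ' : P₀ →ₐ[R] T₀ := ψ.rangeRestrict
  have hψ' : Function.Surjective ψ' := ψ.rangeRestrict_surjective
  have hψ'v : ∀ p, (ψ' p : E) = ψ p := fun p => rfl
  let I₀ : Ideal P₀ := RingHom.ker (ψ' : P₀ →+* T₀)
  have hI₀ : I₀.FG := IsNoetherian.noetherian I₀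
  obtain ⟨ν, hνq, hνI⟩ := exists_mul_eq_zero_of_fg (Λq := Λq) 𝔮.primeCompl (lam : P₀ →+* Λ) I₀ hI₀
    (fun p hp => by
      have h0 : ψ' p = 0 := (RingHom.mem_ker).mp hp
      change algebraMap Λ Λq (lam p) = 0
      rw [hcomm, ← hψ'v, h0]
      simp)
  have hν : ∀ p, ψ' p = 0 → ν * lam p = 0 := fun p hp => hνI p ((RingHom.mem_ker).mpr hp)
  have hJ : (dlJ T₀ ψ').FG := by
    rw [dlJ]
    exact (Submodule.fg_span_singleton _).mul (hI₀.map _)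
  haveI : Algebra.FinitePresentation R (MvPolynomial (Fin 1) P₀ ⧸ dlJ T₀ ψ') :=
    Algebra.FinitePresentation.quotient hJ
  refine ⟨MvPolynomial (Fin 1) P₀ ⧸ dlJ T₀ ψ', inferInstance, inferInstance, inferInstance,
    (Ideal.Quotient.mkₐ R (dlJ T₀ ψ')).comp (IsScalarTower.toAlgHom R P₀ (MvPolynomial (Fin 1) P₀)),
    dlh T₀ ψ' lam ν hν, ?_, ?_⟩
  · ext p
    simp only [AlgHom.comp_apply, IsScalarTower.coe_toAlgHom', Ideal.Quotient.mkₐ_eq_mk,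
      MvPolynomial.algebraMap_eq]
    rw [dlh_mk, polyMap_C]
  · exact not_singularIdeal_map_le_of_isSmoothAt _ 𝔮
      (delocalize_core_smooth 𝔮 T₀ hfrac ψ' hψ' hE lam (fun p => by rw [hcomm, ← hψ'v]) ν hνq hν)

end Groth.Agent.Lib.Helper7.Smoothing
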