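import Groth.Agent.Lib.Helper7Smoothing27

set_option autoImplicit false
set_option linter.style.haveILetI false
universe u
open MvPolynomial

namespace Groth.Agent.Lib.Helper7.Smoothing

theorem formallySmooth_away_C_mul_X {K B₀ : Type u} [CommRing K] [CommRing B₀] [Algebra K B₀]
    [Algebra.FinitePresentation K B₀] (b : B₀) (hb : b ∈ Smoothing.singularIdeal K B₀) :
    Algebra.FormallySmooth K (Localization.Away (C b * X 0 : MvPolynomial (Fin 1) B₀)) := by
  rw [← Algebra.basicOpen_subset_smoothLocus_iff]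
  intro x hx
  have hx' : (C b * X 0 : MvPolynomial (Fin 1) B₀) ∉ x.asIdeal := hx
  let q₀ : Ideal B₀ := x.asIdeal.under B₀
  haveI : q₀.IsPrime := Ideal.comap_isPrime _ _
  have hbq : b ∉ q₀ := by
    intro hmem
    apply hx'
    have : (C b : MvPolynomial (Fin 1) B₀) ∈ x.asIdeal := hmem
    exact Ideal.mul_mem_right _ _ this
  have hq₀ : (⟨q₀, inferInstance⟩ : PrimeSpectrum B₀) ∈ Algebra.smoothLocus K B₀ := by
    by_contra hns
    rw [Smoothing.singularIdeal, PrimeSpectrum.mem_vanishingIdeal] at hb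
    exact hbq (hb _ hns)
  haveI : Algebra.IsSmoothAt K q₀ := hq₀
  haveI : x.asIdeal.LiesOver q₀ := Ideal.over_under _
  haveI : Algebra.IsSmoothAt B₀ x.asIdeal := by
    change Algebra.FormallySmooth B₀ (Localization.AtPrime x.asIdeal)
    haveI : Algebra.FormallySmooth (MvPolynomial (Fin 1) B₀) (Localization.AtPrime x.asIdeal) :=
      Algebra.FormallySmooth.of_isLocalization x.asIdeal.primeCompl
    exact Algebra.FormallySmooth.comp B₀ (MvPolynomial (Fin 1) B₀) _
  exact isSmoothAt_comp q₀ x.asIdeal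

theorem fracClosure_eq_top_of_gens {R Rₚ B₀ E₁ : Type*} [CommRing R] [CommRing Rₚ] [Algebra R Rₚ]
    (M : Submonoid R) [IsLocalization M Rₚ] [CommRing B₀] [Algebra Rₚ B₀] [Algebra R B₀]
    [IsScalarTower R Rₚ B₀] [CommRing E₁] [Algebra (MvPolynomial (Fin 1) B₀) E₁] [Algebra R E₁]
    [IsScalarTower R (MvPolynomial (Fin 1) B₀) E₁] (b : B₀)
    [IsLocalization.Away (C b * X 0 : MvPolynomial (Fin 1) B₀) E₁]
    (s : Set B₀) (hs : Algebra.adjoin Rₚ s = ⊤) (T₀ : Subalgebra R E₁)
    (hX : algebraMap (MvPolynomial (Fin 1) B₀) E₁ (X 0) ∈ T₀)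
    (hβ : ∀ β ∈ s, algebraMap (MvPolynomial (Fin 1) B₀) E₁ (X 0 * C β) ∈ T₀) :
    fracClosure T₀ = ⊤ := by
  set can := algebraMap (MvPolynomial (Fin 1) B₀) E₁ with hcan
  have hle := le_fracClosure T₀
  -- (ii) X is a unit
  have hel : IsUnit (can (C b * X 0)) := IsLocalization.Away.algebraMap_isUnit _
  have hXu : IsUnit (can (X 0)) := by
    rw [map_mul] at hel
    exact isUnit_of_mul_isUnit_right hel
  obtain ⟨u, hu⟩ := hXu.exists_right_inv
  have huF : u ∈ fracClosure T₀ := inv_mem_fracClosure T₀ (hle hX) hu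
  -- (iii)
  have h3 : ∀ β ∈ s, can (C β) ∈ fracClosure T₀ := by
    intro β hβs
    have : can (C β) = u * can (X 0 * C β) := by
      rw [map_mul, ← mul_assoc, mul_comm u, hu, one_mul]
    rw [this]
    exact (fracClosure T₀).mul_mem huF (hle (hβ β hβs))
  -- (iv)
  have hR : ∀ r : R, can (C (algebraMap R B₀ r)) ∈ fracClosure T₀ := by
    intro r
    have : can (C (algebraMap R B₀ r)) = algebraMap R E₁ r := by
      rw [IsScalarTower.algebraMap_apply R (MvPolynomial (Fin 1) B₀) E₁,
        IsScalarTower.algebraMap_apply R B₀ (MvPolynomial (Fin 1) B₀), MvPolynomial.algebraMap_eq]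
    rw [this]
    exact (fracClosure T₀).algebraMap_mem r
  have h4 : ∀ r' : Rₚ, can (C (algebraMap Rₚ B₀ r')) ∈ fracClosure T₀ := by
    intro r'
    obtain ⟨⟨r, m⟩, hrm⟩ := IsLocalization.surj M r'
    simp only at hrm
    have hmu : IsUnit (algebraMap R Rₚ m) := IsLocalization.map_units Rₚ m
    obtain ⟨v, hv⟩ := hmu.exists_right_inv
    have hvF : can (C (algebraMap Rₚ B₀ v)) ∈ fracClosure T₀ := by
      refine inv_mem_fracClosure T₀ (hR m) ?_
      rw [← map_mul, ← map_mul, IsScalarTower.algebraMap_apply R Rₚ B₀, ← map_mul, hv]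
      simp
    have : can (C (algebraMap Rₚ B₀ r')) =
        can (C (algebraMap R B₀ r)) * can (C (algebraMap Rₚ B₀ v)) := by
      rw [← map_mul, ← map_mul, IsScalarTower.algebraMap_apply R Rₚ B₀, ← map_mul, ← hrm,
        mul_assoc, hv, mul_one]
    rw [this]
    exact (fracClosure T₀).mul_mem (hR r) hvF
  -- (v)
  have h5 : ∀ β : B₀, can (C β) ∈ fracClosure T₀ := by
    intro β
    have hβ' : β ∈ Algebra.adjoin Rₚ s := hs ▸ Algebra.mem_top
    induction hβ' using Algebra.adjoin_induction with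
    | mem x hx => exact h3 x hx
    | algebraMap r => exact h4 r
    | add x y _ _ hx hy => rw [map_add, map_add]; exact (fracClosure T₀).add_mem hx hy
    | mul x y _ _ hx hy => rw [map_mul, map_mul]; exact (fracClosure T₀).mul_mem hx hy
  -- (vi)
  have h6 : ∀ p : MvPolynomial (Fin 1) B₀, can p ∈ fracClosure T₀ := by
    intro p
    induction p using MvPolynomial.induction_on with
    | C a => exact h5 a
    | add p q hp hq => rw [map_add]; exact (fracClosure T₀).add_mem hp hq
    | mul_X p i hp =>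
      rw [map_mul, Subsingleton.elim i 0]
      exact (fracClosure T₀).mul_mem hp (hle hX)
  -- (vii)
  obtain ⟨w, hw⟩ := hel.exists_right_inv
  have hwF : w ∈ fracClosure T₀ := inv_mem_fracClosure T₀ (h6 _) hw
  -- (viii)
  rw [eq_top_iff]
  intro e _
  obtain ⟨⟨p, ⟨_, n, rfl⟩⟩, hpe⟩ := IsLocalization.surj
    (Submonoid.powers (C b * X 0 : MvPolynomial (Fin 1) B₀)) e
  simp only at hpe
  have : e = can p * w ^ n := by
    rw [← hpe, map_pow, mul_assoc, ← mul_pow, hw, one_pow, mul_one]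
  rw [this]
  exact (fracClosure T₀).mul_mem (h6 p) ((fracClosure T₀).pow_mem hwF n)

end Groth.Agent.Lib.Helper7.Smoothing
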