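import Groth.Agent.Lib.Helper7Smoothing30

set_option autoImplicit false
set_option linter.style.haveILetI false
universe u
open MvPolynomial

namespace Groth.Agent.Lib.Helper7.Smoothing

theorem zk_mem_singular_z {R P Cc : Type u} [CommRing R] [CommRing P] [Algebra R P] [CommRing Cc]
    [Algebra R Cc] (ψ : P →ₐ[R] Cc) (hψ : Function.Surjective ψ) (c : Cc)
    (hc : c ∈ Smoothing.singularIdeal R Cc) (ct : P) (hct : ψ ct = c) :
    Ideal.Quotient.mk (zkJ ψ) (X 0 * C ct) ∈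
      Smoothing.singularIdeal R (MvPolynomial (Fin 1) P ⧸ zkJ ψ) := by
  refine mem_singularIdeal_of_forall _ (fun Q hQ huQ => ?_)
  have hsQ : Ideal.Quotient.mk (zkJ ψ) (X 0) ∉ Q := by
    intro hmem
    apply huQ
    rw [map_mul]
    exact Ideal.mul_mem_right _ _ hmem
  refine isSmoothAt_of_surjective_of_ker_killed (zkf ψ) (zkf_surjective ψ hψ) _
    (zkf_ker_killed ψ) Q hsQ ?_
  intro Q₂ hQ₂ hcomap
  refine isSmoothAt_mvPolynomial_of_notMem c hc Q₂ ?_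
  intro hmem
  apply huQ
  rw [← hcomap, Ideal.mem_comap, zkf_mk, map_mul, MvPolynomial.map_C]
  change _ * C (ψ ct) ∈ Q₂
  rw [hct]
  exact Ideal.mul_mem_left _ _ hmem

theorem zk_mem_singular_y {R A Cc : Type u} {σ : Type u} [CommRing R] [CommRing A] [Algebra R A]
    [CommRing Cc] [Algebra R Cc] (ψ : MvPolynomial σ A →ₐ[R] Cc) (y : MvPolynomial σ A)
    (hy : ψ y = 0) (a : A) (ha : a ∈ Smoothing.singularIdeal R A) :
    Ideal.Quotient.mk (zkJ ψ) (C (y * C a)) ∈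
      Smoothing.singularIdeal R (MvPolynomial (Fin 1) (MvPolynomial σ A) ⧸ zkJ ψ) := by
  refine mem_singularIdeal_of_forall _ (fun Q hQ huQ => ?_)
  have hsQ : Ideal.Quotient.mk (zkJ ψ) (C y) ∉ Q := by
    intro hmem
    apply huQ
    rw [map_mul, map_mul]
    exact Ideal.mul_mem_right _ _ hmem
  refine isSmoothAt_of_surjective_of_ker_killed (zkg ψ) (zkg_surjective ψ) _
    (zkg_ker_killed ψ y hy) Q hsQ ?_
  intro Q₂ hQ₂ hcomap
  refine isSmoothAt_mvPolynomial_of_notMem a ha Q₂ ?_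
  intro hmem
  apply huQ
  rw [← hcomap, Ideal.mem_comap, zkg_mk, zkev, polyMap_C]
  exact Ideal.mul_mem_left _ _ hmem

theorem resolvable_of_zk {R A Λ Cc : Type u} {σ : Type u} [Finite σ] [CommRing R]
    [IsNoetherianRing R] [CommRing A] [Algebra R A] [Algebra.FinitePresentation R A] [CommRing Λ]
    [Algebra R Λ] (φ : A →ₐ[R] Λ) (𝔮 : Ideal Λ) [𝔮.IsPrime] [CommRing Cc] [Algebra R Cc]
    (ψ : MvPolynomial σ A →ₐ[R] Cc) (hψ : Function.Surjective ψ) (ρ : MvPolynomial σ A →ₐ[R] Λ)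
    (hρC : ∀ a, ρ (C a) = φ a) (ν : Λ) (hν : ∀ p, ψ p = 0 → ν * ρ p = 0)
    (sA : Set A) (hsA : Ideal.span sA = Smoothing.singularIdeal R A)
    (hy : ∀ a ∈ sA, ∃ y : MvPolynomial σ A, ψ y = 0 ∧ ∃ k : ℕ, ρ y * φ a = φ a ^ (k + 1))
    (hc : ∃ c ∈ Smoothing.singularIdeal R Cc, ∃ ct, ψ ct = c ∧ ν * ρ ct ∉ 𝔮) :
    Smoothing.Resolvable R φ 𝔮 := by
  classical
  haveI : IsNoetherianRing (MvPolynomial σ A) := Algebra.FiniteType.isNoetherianRing R _
  have hJ : (zkJ ψ).FG := by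
    rw [zkJ]
    have h1 : (RingHom.ker (ψ : MvPolynomial σ A →+* Cc)).FG := IsNoetherian.noetherian _
    exact (Submodule.fg_span_singleton _).mul (Ideal.FG.map h1 _)
  haveI : Algebra.FinitePresentation R (MvPolynomial (Fin 1) (MvPolynomial σ A) ⧸ zkJ ψ) :=
    Algebra.FinitePresentation.quotient hJ
  refine ⟨MvPolynomial (Fin 1) (MvPolynomial σ A) ⧸ zkJ ψ, inferInstance, inferInstance,
    inferInstance, (Ideal.Quotient.mkₐ R (zkJ ψ)).comp
      ((IsScalarTower.toAlgHom R (MvPolynomial σ A) (MvPolynomial (Fin 1) (MvPolynomial σ A))).comp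
        (IsScalarTower.toAlgHom R A (MvPolynomial σ A))), zkh ψ ρ ν hν, ?_, ?_, ?_⟩
  · ext a
    change zkh ψ ρ ν hν (Ideal.Quotient.mk (zkJ ψ) (C (C a))) = φ a
    rw [zkh_mk, polyMap_C, hρC]
  · rw [Smoothing.singRad, Smoothing.singRad, Ideal.radical_le_radical_iff,
      Ideal.map_le_iff_le_comap, ← hsA, Ideal.span_le]
    intro a ha
    rw [SetLike.mem_coe, Ideal.mem_comap]
    obtain ⟨y, hy0, k, hyk⟩ := hy a ha
    have hua := zk_mem_singular_y ψ y hy0 a (hsA ▸ Ideal.subset_span ha)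
    refine ⟨k + 1, ?_⟩
    have : φ a ^ (k + 1) = zkh ψ ρ ν hν (Ideal.Quotient.mk (zkJ ψ) (C (y * C a))) := by
      rw [zkh_mk, polyMap_C, map_mul, hρC, hyk]
    change φ a ^ (k + 1) ∈ _
    rw [this]
    exact Ideal.mem_map_of_mem _ hua
  · obtain ⟨c, hc, ct, hct, hn⟩ := hc
    have hu := zk_mem_singular_z ψ hψ c hc ct hct
    intro hle
    apply hn
    have h1 : zkh ψ ρ ν hν (Ideal.Quotient.mk (zkJ ψ) (X 0 * C ct)) ∈ 𝔮 :=
      hle (Ideal.le_radical (Ideal.mem_map_of_mem _ hu))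
    rwa [zkh_mk, map_mul, polyMap_X, polyMap_C] at h1

end Groth.Agent.Lib.Helper7.Smoothing
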