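import Groth.Agent.Lib.Helper7Smoothing32

set_option autoImplicit false
set_option linter.style.haveILetI false
universe u
open MvPolynomial

namespace Groth.Agent.Lib.Helper7.Smoothing

/-- Formal smoothness descends along compatible surjections `R → R'`, `S → S'` when the kernel of
`S → S'` is generated by the kernel of `R → R'` (i.e. `S' = S ⊗_R R'`). -/
theorem formallySmooth_of_surjective {R S R' S' : Type*} [CommRing R] [CommRing S] [Algebra R S]
    [CommRing R'] [CommRing S'] [Algebra R' S'] (pR : R →+* R') (hpR : Function.Surjective pR)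
    (pS : S →+* S') (hpS : Function.Surjective pS)
    (hcompat : ∀ r, pS (algebraMap R S r) = algebraMap R' S' (pR r))
    (hker : RingHom.ker pS ≤ (RingHom.ker pR).map (algebraMap R S))
    [Algebra.FormallySmooth R S] : Algebra.FormallySmooth R' S' := by
  refine .of_comp_surjective fun C _ _ I hI f ↦ ?_
  letI : Algebra R C := ((algebraMap R' C).comp pR).toAlgebra
  have hRC : ∀ r, algebraMap R C r = algebraMap R' C (pR r) := fun r => rfl
  let f₁ : S →ₐ[R] C ⧸ I :=
    { (f : S' →+* C ⧸ I).comp pS with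
      commutes' := fun r => by
        change f (pS (algebraMap R S r)) = _
        rw [hcompat, f.commutes]
        rfl }
  let f₂ : S →ₐ[R] C := Algebra.FormallySmooth.lift I ⟨2, hI⟩ f₁
  have hf₂ : ∀ s, Ideal.Quotient.mk I (f₂ s) = f (pS s) := fun s =>
    Algebra.FormallySmooth.mk_lift I ⟨2, hI⟩ f₁ s
  have hkill : RingHom.ker pS ≤ RingHom.ker (f₂ : S →+* C) := by
    refine hker.trans ?_
    rw [Ideal.map_le_iff_le_comap]
    intro r hr
    rw [Ideal.mem_comap, RingHom.mem_ker]
    change f₂ (algebraMap R S r) = 0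
    rw [f₂.commutes, hRC, (RingHom.mem_ker).mp hr, map_zero]
  let f' : S' →+* C := RingHom.liftOfSurjective pS hpS ⟨(f₂ : S →+* C), hkill⟩
  have hf' : ∀ s, f' (pS s) = f₂ s := fun s =>
    RingHom.liftOfRightInverse_comp_apply pS _ _ ⟨(f₂ : S →+* C), hkill⟩ s
  refine ⟨{ f' with
    commutes' := fun r' => by
      obtain ⟨r, rfl⟩ := hpR r'
      change f' (algebraMap R' S' (pR r)) = _
      rw [← hcompat, hf', f₂.commutes, hRC] }, ?_⟩
  apply AlgHom.ext
  intro s'
  obtain ⟨s, rfl⟩ := hpS s'
  change Ideal.Quotient.mk I (f' (pS s)) = f (pS s)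
  rw [hf', hf₂]

section
variable {A A' : Type*} [CommRing A] [CommRing A'] (pA : A →+* A') (hpA : Function.Surjective pA)
  (Q' : Ideal A') [Q'.IsPrime]

include hpA in
theorem localRingHom_surjective_of_surjective :
    Function.Surjective (Localization.localRingHom (Q'.comap pA) Q' pA rfl) := by
  intro z
  obtain ⟨x', ⟨y', hy'⟩, rfl⟩ := IsLocalization.exists_mk'_eq Q'.primeCompl z
  obtain ⟨x, rfl⟩ := hpA x'
  obtain ⟨y, rfl⟩ := hpA y'
  have hy : y ∈ (Q'.comap pA).primeCompl := fun h => hy' h
  refine ⟨IsLocalization.mk' _ x ⟨y, hy⟩, ?_⟩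
  rw [Localization.localRingHom_mk']

include hpA in
theorem ker_localRingHom_le :
    RingHom.ker (Localization.localRingHom (Q'.comap pA) Q' pA rfl) ≤
      (RingHom.ker pA).map (algebraMap A (Localization.AtPrime (Q'.comap pA))) := by
  intro z hz
  obtain ⟨x, ⟨y, hy⟩, rfl⟩ := IsLocalization.exists_mk'_eq (Q'.comap pA).primeCompl z
  rw [RingHom.mem_ker, Localization.localRingHom_mk', IsLocalization.mk'_eq_zero_iff] at hz
  obtain ⟨⟨t', ht'⟩, htx⟩ := hz
  obtain ⟨t, rfl⟩ := hpA t'
  have ht : t ∈ (Q'.comap pA).primeCompl := fun h => ht' h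
  simp only at htx
  have hker : t * x ∈ RingHom.ker pA := by rw [RingHom.mem_ker, map_mul]; exact htx
  have e : IsLocalization.mk' (Localization.AtPrime (Q'.comap pA)) x ⟨y, hy⟩ =
      algebraMap A _ (t * x) * IsLocalization.mk' _ 1 (⟨t, ht⟩ * ⟨y, hy⟩ : (Q'.comap pA).primeCompl) := by
    rw [← IsLocalization.mk'_eq_mul_mk'_one, mul_comm t x,
      show ((⟨t, ht⟩ * ⟨y, hy⟩ : (Q'.comap pA).primeCompl)) = ⟨y, hy⟩ * ⟨t, ht⟩ from mul_comm _ _,
      ]
    exact (IsLocalization.mk'_cancel x ⟨y, hy⟩ ⟨t, ht⟩).symm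
  rw [e]
  exact Ideal.mul_mem_right _ _ (Ideal.mem_map_of_mem _ hker)

end

/-- Base change of the singular ideal along compatible surjections. -/
theorem map_mem_singularIdeal_of_surjective {R A R' A' : Type u} [CommRing R] [CommRing A]
    [Algebra R A] [CommRing R'] [CommRing A'] [Algebra R' A'] (pR : R →+* R')
    (hpR : Function.Surjective pR) (pA : A →+* A') (hpA : Function.Surjective pA)
    (hcompat : ∀ r, pA (algebraMap R A r) = algebraMap R' A' (pR r))
    (hker : RingHom.ker pA ≤ (RingHom.ker pR).map (algebraMap R A)) (a : A)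
    (ha : a ∈ Smoothing.singularIdeal R A) : pA a ∈ Smoothing.singularIdeal R' A' := by
  refine mem_singularIdeal_of_forall _ (fun Q' hQ' haQ' => ?_)
  have haQ : a ∉ Q'.comap pA := haQ'
  haveI : Algebra.IsSmoothAt R (Q'.comap pA) :=
    isSmoothAt_of_notMem_of_mem_singularIdeal a ha _ haQ
  haveI : Algebra.FormallySmooth R (Localization.AtPrime (Q'.comap pA)) :=
    (inferInstance : Algebra.IsSmoothAt R (Q'.comap pA))
  change Algebra.FormallySmooth R' (Localization.AtPrime Q')
  refine formallySmooth_of_surjective (S := Localization.AtPrime (Q'.comap pA)) pR hpR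
    (Localization.localRingHom (Q'.comap pA) Q' pA rfl)
    (localRingHom_surjective_of_surjective pA hpA Q') ?_ ?_
  · intro r
    rw [IsScalarTower.algebraMap_apply R A (Localization.AtPrime (Q'.comap pA)),
      Localization.localRingHom_to_map, hcompat, ← IsScalarTower.algebraMap_apply]
  · refine (ker_localRingHom_le pA hpA Q').trans ?_
    refine (Ideal.map_mono hker).trans ?_
    rw [Ideal.map_map, ← IsScalarTower.algebraMap_eq]

end Groth.Agent.Lib.Helper7.Smoothing
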