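import Groth.Agent.Lib.Helper7Smoothing34

set_option autoImplicit false
set_option linter.style.haveILetI false
universe u
open MvPolynomial

namespace Groth.Agent.Lib.Helper7.Smoothing

/-- Rigid form (with `π⁴`) of the combination of the lifting lemma and desingularization. -/
theorem desing_lift_rigid {R Λ A C : Type u} [CommRing R] [IsNoetherianRing R] [CommRing Λ]
    [Algebra R Λ] (π : R) (hR : ∀ r : R, π ^ 2 * r = 0 → π * r = 0)
    (hΛ : ∀ x : Λ, π ^ 2 • x = 0 → π • x = 0) [CommRing A] [Algebra R A]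
    [Algebra.FinitePresentation R A] (φ : A →ₐ[R] Λ)
    (hπ : Smoothing.IsStrictlyStandard R A (algebraMap R A π))
    [CommRing C] [Algebra R C] [Algebra (R ⧸ Ideal.span {(π ^ 4) ^ 2}) C]
    [IsScalarTower R (R ⧸ Ideal.span {(π ^ 4) ^ 2}) C]
    [Algebra.FinitePresentation (R ⧸ Ideal.span {(π ^ 4) ^ 2}) C]
    (γ : A →ₐ[R] C) (g : C →ₐ[R] Λ ⧸ Ideal.span {algebraMap R Λ ((π ^ 4) ^ 2)})
    (hfac : ∀ a : A, g (γ a) = Ideal.Quotient.mk _ (φ a)) :
    ∃ (B : Type u) (_ : CommRing B) (_ : Algebra R B), Algebra.FinitePresentation R B ∧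
      ∃ (α : A →ₐ[R] B) (β : B →ₐ[R] Λ), β.comp α = φ ∧
        (∀ (Q : Ideal B) [Q.IsPrime], algebraMap R B π ∉ Q → Algebra.IsSmoothAt R Q) ∧
        ∀ c : C, (∀ (q : Ideal C) [q.IsPrime], c ∉ q →
            Algebra.IsSmoothAt (R ⧸ Ideal.span {(π ^ 4) ^ 2}) q) →
          ∀ l : Λ, Ideal.Quotient.mk (Ideal.span {algebraMap R Λ ((π ^ 4) ^ 2)}) l = g c →
            l ∈ (Smoothing.singularIdeal R B).map β := by
  have hR₄ : ∀ r : R, (π ^ 4) ^ 2 * r = 0 → π ^ 4 * r = 0 := fun r hr =>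
    pow_four_ann (M := R) π (fun x hx => hR x hx) r hr
  have hΛ₄ : ∀ x : Λ, (π ^ 4) ^ 2 • x = 0 → π ^ 4 • x = 0 := fun x hx => pow_four_ann π hΛ x hx
  obtain ⟨D, _, _, hDfp, δ, ψ, hcompat, sm1, sm2⟩ := Groth.Agent.S2024.result (π ^ 4) hR₄ hΛ₄ g
  have hψ' : ∀ (a : A) (d : D),
      Ideal.Quotient.mk (Ideal.span {algebraMap R D (π ^ 4)}) d = (ψ.comp γ) a →
        δ d - φ a ∈ Ideal.span {algebraMap R Λ (π ^ 4)} := fun a d hd =>
    hcompat (γ a) d (φ a) hd (hfac a).symm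
  obtain ⟨B, _, _, _, _, hBfp, α, β, hβα, hβδ, -, hDB⟩ :=
    Groth.Agent.S2028.result π hR hΛ φ δ hπ (ψ.comp γ) hψ'
  have hβδ' : ∀ d, β (algebraMap D B d) = δ d := fun d => DFunLike.congr_fun hβδ d
  -- π ∈ H_D
  have hπD : algebraMap R D π ∈ Smoothing.singularIdeal R D := by
    refine mem_singularIdeal_of_forall _ (fun Q hQ hπQ => ?_)
    refine sm1 Q ?_
    intro hmem
    rw [map_pow] at hmem
    exact hπQ (Ideal.IsPrime.mem_of_pow_mem hQ _ hmem)
  have hπB : algebraMap R B π ∈ Smoothing.singularIdeal R B := by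
    rw [IsScalarTower.algebraMap_apply R D B]
    exact hDB (Ideal.mem_map_of_mem _ hπD)
  refine ⟨B, inferInstance, inferInstance, hBfp, α, β, hβα, ?_, ?_⟩
  · intro Q _ hQ
    exact isSmoothAt_of_notMem_of_mem_singularIdeal _ hπB Q hQ
  · intro c hc l hl
    obtain ⟨d, hd⟩ := Ideal.Quotient.mk_surjective (ψ c)
    have hdD : d ∈ Smoothing.singularIdeal R D :=
      mem_singularIdeal_of_lifting (π ^ 4)
        (fun q => ∀ [q.IsPrime], Algebra.IsSmoothAt (R ⧸ Ideal.span {(π ^ 4) ^ 2}) q)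
        (ψ : C →+* D ⧸ Ideal.span {algebraMap R D (π ^ 4)})
        (fun Q _ hQ => sm1 Q hQ)
        (fun Q _ hP => sm2 Q hP)
        c (fun q hq hcq _ => hc q hcq) d hd
    have h1 : δ d - l ∈ Ideal.span {algebraMap R Λ (π ^ 4)} := hcompat c d l hd hl
    have h2 : δ d ∈ (Smoothing.singularIdeal R B).map β := by
      rw [← hβδ']
      exact Ideal.mem_map_of_mem _ (hDB (Ideal.mem_map_of_mem _ hdD))
    have h3 : Ideal.span {algebraMap R Λ (π ^ 4)} ≤ (Smoothing.singularIdeal R B).map β := by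
      rw [Ideal.span_le, Set.singleton_subset_iff, SetLike.mem_coe, ← β.commutes, map_pow, map_pow]
      exact Ideal.pow_mem_of_mem _ (Ideal.mem_map_of_mem _ hπB) 4 (by norm_num)
    have : l = δ d - (δ d - l) := by ring
    rw [this]
    exact Ideal.sub_mem _ h2 (h3 h1)

end Groth.Agent.Lib.Helper7.Smoothing
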