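import Groth.Agent.Lib.Helper7Smoothing36

set_option autoImplicit false
set_option linter.style.haveILetI false
universe u
open MvPolynomial

namespace Groth.Agent.Lib.Helper7.Smoothing

/-- One step of the `π⁸` reduction, in flexible form. -/
theorem resolvable_step {R A Λ R' A' Λ' : Type u} [CommRing R] [IsNoetherianRing R] [CommRing A]
    [Algebra R A] [Algebra.FinitePresentation R A] [CommRing Λ] [Algebra R Λ] (φ : A →ₐ[R] Λ)
    (𝔮 : Ideal Λ) [𝔮.IsPrime] (π : R) (hR : ∀ r : R, π ^ 2 * r = 0 → π * r = 0)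
    (hΛ : ∀ x : Λ, π ^ 2 • x = 0 → π • x = 0)
    (hπ : Smoothing.IsStrictlyStandard R A (algebraMap R A π))
    [CommRing R'] [CommRing A'] [Algebra R' A'] [CommRing Λ'] [Algebra R' Λ'] (φ' : A' →ₐ[R'] Λ')
    (pR : R →+* R') (hpR : Function.Surjective pR) (hkR : RingHom.ker pR = Ideal.span {π ^ 8})
    (pA : A →+* A') (hpA : Function.Surjective pA)
    (hkA : RingHom.ker pA ≤ (RingHom.ker pR).map (algebraMap R A))
    (pΛ : Λ →+* Λ') (hpΛ : Function.Surjective pΛ)
    (hkΛ : RingHom.ker pΛ = Ideal.span {algebraMap R Λ (π ^ 8)})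
    (hRA : ∀ r, pA (algebraMap R A r) = algebraMap R' A' (pR r))
    (hRΛ : ∀ r, pΛ (algebraMap R Λ r) = algebraMap R' Λ' (pR r))
    (hφ : ∀ a, φ' (pA a) = pΛ (φ a))
    (𝔮' : Ideal Λ') [𝔮'.IsPrime] (h𝔮 : 𝔮'.comap pΛ = 𝔮)
    (hres : Smoothing.Resolvable R' φ' 𝔮') : Smoothing.Resolvable R φ 𝔮 := by
  obtain ⟨Cb, _, _, hCfp, gb, hb, hgh, hle, hnle⟩ := hres
  have hgh' : ∀ x, hb (gb x) = φ' x := fun x => DFunLike.congr_fun hgh x
  obtain ⟨B, _, _, hBfp, α, β, hβα, hsm, H⟩ := desing_lift_flex π hR hΛ φ hπ pR hpR hkR pΛ hpΛ hkΛ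
    ((gb : A' →+* Cb).comp pA)
    (fun r => by
      change gb (pA (algebraMap R A r)) = _
      rw [hRA, gb.commutes])
    (hb : Cb →+* Λ')
    (fun r => by
      change hb (algebraMap R' Cb (pR r)) = _
      rw [hb.commutes, hRΛ])
    (fun a => by
      change hb (gb (pA a)) = _
      rw [hgh', hφ])
  -- π ∈ H_B
  have hπB : algebraMap R B π ∈ Smoothing.singularIdeal R B :=
    mem_singularIdeal_of_forall _ (fun Q hQ hπQ => hsm Q hπQ)
  have hkerle : RingHom.ker pΛ ≤ (Smoothing.singularIdeal R B).map β := by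
    rw [hkΛ, Ideal.span_le, Set.singleton_subset_iff, SetLike.mem_coe, ← β.commutes, map_pow,
      map_pow]
    exact Ideal.pow_mem_of_mem _ (Ideal.mem_map_of_mem _ hπB) 8 (by norm_num)
  have hmaple : (Smoothing.singularIdeal R' Cb).map hb ≤
      ((Smoothing.singularIdeal R B).map β).map pΛ := by
    rw [Ideal.map_le_iff_le_comap]
    intro c hc
    rw [Ideal.mem_comap]
    obtain ⟨l, hl⟩ := hpΛ (hb c)
    rw [← hl]
    exact Ideal.mem_map_of_mem _ (H c hc l hl)
  refine ⟨B, inferInstance, inferInstance, hBfp, α, β, hβα, ?_, ?_⟩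
  · rw [Smoothing.singRad, Smoothing.singRad, Ideal.radical_le_radical_iff,
      Ideal.map_le_iff_le_comap]
    intro a ha
    rw [Ideal.mem_comap]
    have h1 : pA a ∈ Smoothing.singularIdeal R' A' :=
      map_mem_singularIdeal_of_surjective pR hpR pA hpA hRA hkA a ha
    have h2 : φ' (pA a) ∈ Smoothing.singRad R' hb :=
      hle (Ideal.le_radical (Ideal.mem_map_of_mem _ h1))
    obtain ⟨n, hn⟩ := h2
    refine ⟨n, ?_⟩
    have h3 : pΛ (φ a ^ n) ∈ ((Smoothing.singularIdeal R B).map β).map pΛ := by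
      rw [map_pow, ← hφ]
      exact hmaple hn
    have h4 : φ a ^ n ∈ (((Smoothing.singularIdeal R B).map β).map pΛ).comap pΛ := h3
    rw [Ideal.comap_map_of_surjective _ hpΛ, ← RingHom.ker_eq_comap_bot,
      sup_eq_left.mpr hkerle] at h4
    exact h4
  · intro hle'
    apply hnle
    rw [Smoothing.singRad, Ideal.IsPrime.radical_le_iff inferInstance, Ideal.map_le_iff_le_comap]
    intro c hc
    rw [Ideal.mem_comap]
    obtain ⟨l, hl⟩ := hpΛ (hb c)
    have h1 : l ∈ 𝔮 := hle' (Ideal.le_radical (H c hc l hl))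
    rw [← h𝔮, Ideal.mem_comap, hl] at h1
    exact h1

end Groth.Agent.Lib.Helper7.Smoothing
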