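import Groth.Agent.Lib.Helper7Smoothing39

set_option autoImplicit false
set_option linter.style.haveILetI false
universe u
open MvPolynomial TensorProduct

namespace Groth.Agent.Lib.Helper7.Smoothing

theorem resolvable_of_resAt_singleton {R A Λ : Type u} [CommRing R] [IsNoetherianRing R]
    [CommRing A] [Algebra R A] [Algebra.FinitePresentation R A] [CommRing Λ] [Algebra R Λ]
    (φ : A →ₐ[R] Λ) (𝔮 : Ideal Λ) [𝔮.IsPrime] (π : R)
    (hR : ∀ r : R, π ^ 2 * r = 0 → π * r = 0) (hΛ : ∀ x : Λ, π ^ 2 • x = 0 → π • x = 0)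
    (hstd : Smoothing.IsStrictlyStandard R A (algebraMap R A π))
    (hπ𝔮 : algebraMap R Λ π ∈ 𝔮) (h : ResAt φ 𝔮 (Ideal.span {π ^ 8})) :
    Smoothing.Resolvable R φ 𝔮 := by
  have hJ𝔮 : (Ideal.span {π ^ 8}).map (algebraMap R Λ) ≤ 𝔮 := by
    rw [Ideal.map_span, Set.image_singleton, Ideal.span_le, Set.singleton_subset_iff, map_pow]
    exact Ideal.pow_mem_of_mem _ hπ𝔮 8 (by norm_num)
  haveI : (𝔮.map (Ideal.Quotient.mk ((Ideal.span {π ^ 8}).map (algebraMap R Λ)))).IsPrime :=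
    map_mk_isPrime 𝔮 _ hJ𝔮
  unfold ResAt at h
  refine resolvable_step φ 𝔮 π hR hΛ hstd (quotPhi φ (Ideal.span {π ^ 8}))
    (Ideal.Quotient.mk _) Ideal.Quotient.mk_surjective Ideal.mk_ker
    (Ideal.Quotient.mk _) Ideal.Quotient.mk_surjective ?_
    (Ideal.Quotient.mk _) Ideal.Quotient.mk_surjective ?_ ?_ ?_ ?_ _ ?_ h
  · rw [Ideal.mk_ker, Ideal.mk_ker]
  · rw [Ideal.mk_ker, Ideal.map_span, Set.image_singleton]
  · intro r; rfl
  · intro r; rfl
  · intro a; rfl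
  · ext x
    rw [Ideal.mem_comap, Ideal.mem_quotient_iff_mem hJ𝔮]

end Groth.Agent.Lib.Helper7.Smoothing
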