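import Mathlib
import Groth.Agent.S2108
import Groth.Agent.S2030

set_option autoImplicit false
set_option linter.style.haveILetI false
universe u
open MvPolynomial

namespace Groth.Agent.Lib.Helper7.Smoothing

section DD
variable {R : Type u} [CommRing R] {n m : ℕ}

/-- The ideal of relations defining the lifting-lemma algebra. -/
noncomputable def relIdeal (π : R) (f : Fin m → MvPolynomial (Fin n) R) :
    Ideal (MvPolynomial (Fin m) (MvPolynomial (Fin n) R)) :=
  Ideal.span (Set.range fun j : Fin m =>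
    (C (f j) - C (C π) * X j : MvPolynomial (Fin m) (MvPolynomial (Fin n) R))) ⊔
    Ideal.span {p | ∃ (c : Fin m → MvPolynomial (Fin n) R) (g : MvPolynomial (Fin n) R),
      ∑ ℓ, c ℓ * f ℓ = C (π ^ 2) * g ∧ p = ∑ ℓ, C (c ℓ) * X ℓ - C (C π * g)}

/-- The lifting-lemma algebra `P[z]/(f_j - π z_j, syzygies mod π²)`. -/
def DD (π : R) (f : Fin m → MvPolynomial (Fin n) R) : Type u :=
  MvPolynomial (Fin m) (MvPolynomial (Fin n) R) ⧸ relIdeal π f

noncomputable instance (π : R) (f : Fin m → MvPolynomial (Fin n) R) : CommRing (DD π f) :=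
  inferInstanceAs (CommRing (MvPolynomial (Fin m) (MvPolynomial (Fin n) R) ⧸ relIdeal π f))

noncomputable instance (π : R) (f : Fin m → MvPolynomial (Fin n) R) : Algebra R (DD π f) :=
  inferInstanceAs (Algebra R (MvPolynomial (Fin m) (MvPolynomial (Fin n) R) ⧸ relIdeal π f))

/-- The quotient map onto `D`. -/
noncomputable def DDmk (π : R) (f : Fin m → MvPolynomial (Fin n) R) :
    MvPolynomial (Fin m) (MvPolynomial (Fin n) R) →ₐ[R] DD π f :=
  Ideal.Quotient.mkₐ R (relIdeal π f)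

lemma DDmk_surjective (π : R) (f : Fin m → MvPolynomial (Fin n) R) :
    Function.Surjective (DDmk π f) := Ideal.Quotient.mk_surjective

lemma DDmk_eq_zero_iff (π : R) (f : Fin m → MvPolynomial (Fin n) R)
    (p : MvPolynomial (Fin m) (MvPolynomial (Fin n) R)) : DDmk π f p = 0 ↔ p ∈ relIdeal π f :=
  Ideal.Quotient.eq_zero_iff_mem

variable (π : R) (f : Fin m → MvPolynomial (Fin n) R)

/-- The structure map `P → D`. -/
noncomputable def DDι : MvPolynomial (Fin n) R →ₐ[R] DD π f :=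
  (DDmk π f).comp
    (IsScalarTower.toAlgHom R (MvPolynomial (Fin n) R)
      (MvPolynomial (Fin m) (MvPolynomial (Fin n) R)))

/-- The generators `z_ℓ` of `D`. -/
noncomputable def DDz (ℓ : Fin m) : DD π f := DDmk π f (X ℓ)

lemma DDι_apply (p : MvPolynomial (Fin n) R) :
    DDι π f p = DDmk π f (C p) := rfl

lemma DDmk_eq_of_sub_mem {p q : MvPolynomial (Fin m) (MvPolynomial (Fin n) R)}
    (h : p - q ∈ relIdeal π f) : DDmk π f p = DDmk π f q := by
  rw [← sub_eq_zero, ← map_sub, DDmk_eq_zero_iff]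
  exact h

lemma DDmk_C_C (r : R) : DDmk π f (C (C r)) = algebraMap R (DD π f) r := by
  rw [← (DDmk π f).commutes r]
  rfl

lemma DDι_f (ℓ : Fin m) : DDι π f (f ℓ) = algebraMap R (DD π f) π * DDz π f ℓ := by
  have h : (C (f ℓ) - C (C π) * X ℓ : MvPolynomial (Fin m) (MvPolynomial (Fin n) R)) ∈
      relIdeal π f :=
    Ideal.mem_sup_left (Ideal.subset_span ⟨ℓ, rfl⟩)
  rw [DDι_apply, DDmk_eq_of_sub_mem π f h, map_mul, DDmk_C_C]
  rfl

lemma DD_syz (c : Fin m → MvPolynomial (Fin n) R) (g : MvPolynomial (Fin n) R)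
    (h : ∑ ℓ, c ℓ * f ℓ = C (π ^ 2) * g) :
    ∑ ℓ, DDι π f (c ℓ) * DDz π f ℓ = algebraMap R (DD π f) π * DDι π f g := by
  have hm : (∑ ℓ, C (c ℓ) * X ℓ - C (C π * g) :
      MvPolynomial (Fin m) (MvPolynomial (Fin n) R)) ∈ relIdeal π f :=
    Ideal.mem_sup_right (Ideal.subset_span ⟨c, g, h, rfl⟩)
  have h2 := DDmk_eq_of_sub_mem π f hm
  have e1 : ∑ ℓ, DDι π f (c ℓ) * DDz π f ℓ = DDmk π f (∑ ℓ, C (c ℓ) * X ℓ) := by
    rw [map_sum]
    refine Finset.sum_congr rfl fun ℓ _ => ?_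
    rw [map_mul]
    rfl
  have e2 : algebraMap R (DD π f) π * DDι π f g = DDmk π f (C (C π * g)) := by
    rw [DDι_apply, map_mul (C : MvPolynomial (Fin n) R →+* _), map_mul, DDmk_C_C]
  rw [e1, e2, h2]

lemma DD_induction {motive : DD π f → Prop} (hι : ∀ p, motive (DDι π f p))
    (hz : ∀ ℓ, motive (DDz π f ℓ)) (hadd : ∀ x y, motive x → motive y → motive (x + y))
    (hmul : ∀ x y, motive x → motive y → motive (x * y)) : ∀ d, motive d := by
  intro d
  obtain ⟨q, rfl⟩ := DDmk_surjective π f d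
  induction q using MvPolynomial.induction_on with
  | C a => exact hι a
  | add p q hp hq => rw [map_add]; exact hadd _ _ hp hq
  | mul_X p i hp => rw [map_mul]; exact hmul _ _ hp (hz i)

theorem exists_DD_lift {T : Type*} [CommRing T] [Algebra R T]
    (hT : ∀ x : T, π ^ 2 • x = 0 → π • x = 0)
    (ξ : MvPolynomial (Fin n) R →ₐ[R] T) (ζ : Fin m → T)
    (h1 : ∀ ℓ, ξ (f ℓ) = π • ζ ℓ)
    (h2 : ∀ (c : Fin m → MvPolynomial (Fin n) R) (g : MvPolynomial (Fin n) R),
      ∑ ℓ, c ℓ * f ℓ = C (π ^ 2) * g →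
        ∑ ℓ, ξ (c ℓ) * ζ ℓ ∈ Ideal.span {algebraMap R T π}) :
    ∃ β : DD π f →ₐ[R] T, (∀ p, β (DDι π f p) = ξ p) ∧ ∀ ℓ, β (DDz π f ℓ) = ζ ℓ := by
  let β₀ : MvPolynomial (Fin m) (MvPolynomial (Fin n) R) →ₐ[R] T :=
    { MvPolynomial.eval₂Hom (ξ : MvPolynomial (Fin n) R →+* T) ζ with
      commutes' := fun r => by
        change MvPolynomial.eval₂Hom (ξ : MvPolynomial (Fin n) R →+* T) ζ
          (algebraMap R (MvPolynomial (Fin m) (MvPolynomial (Fin n) R)) r) = _
        rw [IsScalarTower.algebraMap_apply R (MvPolynomial (Fin n) R)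
          (MvPolynomial (Fin m) (MvPolynomial (Fin n) R)), MvPolynomial.algebraMap_eq
            (R := MvPolynomial (Fin n) R)]
        simp }
  have hβC : ∀ p, β₀ (C p) = ξ p := fun p => by
    change MvPolynomial.eval₂Hom (ξ : MvPolynomial (Fin n) R →+* T) ζ (C p) = _
    simp
  have hβX : ∀ ℓ, β₀ (X ℓ) = ζ ℓ := fun ℓ => by
    change MvPolynomial.eval₂Hom (ξ : MvPolynomial (Fin n) R →+* T) ζ (X ℓ) = _
    simp
  have hξπ : ξ (C π) = algebraMap R T π := by
    rw [← MvPolynomial.algebraMap_eq, ξ.commutes]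
  have hker : ∀ a ∈ relIdeal π f, β₀ a = 0 := by
    intro a ha
    have : relIdeal π f ≤ RingHom.ker (β₀ : _ →+* T) := by
      refine sup_le (Ideal.span_le.mpr ?_) (Ideal.span_le.mpr ?_)
      · rintro _ ⟨j, rfl⟩
        change β₀ _ = 0
        rw [map_sub, map_mul, hβC, hβC, hβX, h1, hξπ, Algebra.smul_def, sub_self]
      · rintro _ ⟨c, g, hcg, rfl⟩
        change β₀ _ = 0
        rw [map_sub, map_sum, hβC, map_mul, hξπ]
        simp only [map_mul, hβC, hβX]
        set t := ∑ ℓ, ξ (c ℓ) * ζ ℓ - algebraMap R T π * ξ g with ht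
        have hπt : π • t = 0 := by
          rw [ht, smul_sub, Finset.smul_sum]
          have e1 : ∑ ℓ, π • (ξ (c ℓ) * ζ ℓ) = ξ (∑ ℓ, c ℓ * f ℓ) := by
            rw [map_sum]
            refine Finset.sum_congr rfl fun ℓ _ => ?_
            rw [map_mul, h1, mul_smul_comm]
          rw [e1, hcg, map_mul, ← Algebra.smul_def, smul_smul, ← sq,
            show ξ (C (π ^ 2)) = algebraMap R T (π ^ 2) by
              rw [← MvPolynomial.algebraMap_eq, ξ.commutes], ← Algebra.smul_def, sub_self]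
        have htm : t ∈ Ideal.span {algebraMap R T π} :=
          Ideal.sub_mem _ (h2 c g hcg) (Ideal.mul_mem_right _ _ (Ideal.subset_span rfl))
        obtain ⟨t', ht'⟩ := Ideal.mem_span_singleton'.mp htm
        have : π • t' = 0 := by
          apply hT
          rw [sq, mul_smul, Algebra.smul_def π t', mul_comm, ht', hπt]
        rw [← ht', mul_comm, ← Algebra.smul_def, this]
    exact this ha
  refine ⟨Ideal.Quotient.liftₐ (relIdeal π f) β₀ hker, fun p => ?_, fun ℓ => ?_⟩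
  · change Ideal.Quotient.liftₐ (relIdeal π f) β₀ hker (Ideal.Quotient.mk _ (C p)) = _
    rw [Ideal.Quotient.liftₐ_apply, Ideal.Quotient.lift_mk]
    exact hβC p
  · change Ideal.Quotient.liftₐ (relIdeal π f) β₀ hker (Ideal.Quotient.mk _ (X ℓ)) = _
    rw [Ideal.Quotient.liftₐ_apply, Ideal.Quotient.lift_mk]
    exact hβX ℓ

end DD



theorem isLocalization_of_chart {D B B' : Type*} [CommRing D] [CommRing B] [CommRing B']
    [Algebra B B'] [Algebra D B'] (s : B) [IsLocalization.Away s B'] (α₀ : B →+* D)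
    (hβα : ∀ b, algebraMap D B' (α₀ b) = algebraMap B B' b)
    (hgen : ∀ d : D, ∃ (k : ℕ) (b : B), α₀ s ^ k * d = α₀ b) :
    IsLocalization.Away (α₀ s) B' := by
  refine ⟨?_, ?_, ?_⟩
  · rintro ⟨_, k, rfl⟩
    rw [map_pow, hβα]
    exact (IsLocalization.Away.algebraMap_isUnit s).pow k
  · intro z
    obtain ⟨⟨b, ⟨_, k, rfl⟩⟩, hb⟩ := IsLocalization.surj (Submonoid.powers s) z
    refine ⟨⟨α₀ b, ⟨α₀ s ^ k, k, rfl⟩⟩, ?_⟩
    simp only at hb ⊢
    rw [map_pow, hβα, hβα, ← map_pow, hb]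
  · intro d₁ d₂ h
    obtain ⟨k₁, b₁, h₁⟩ := hgen d₁
    obtain ⟨k₂, b₂, h₂⟩ := hgen d₂
    have hs : algebraMap D B' (α₀ s) = algebraMap B B' s := hβα s
    have e1 : algebraMap B B' b₁ = algebraMap B B' s ^ k₁ * algebraMap D B' d₁ := by
      rw [← hβα b₁, ← h₁, map_mul, map_pow, hs]
    have e2 : algebraMap B B' b₂ = algebraMap B B' s ^ k₂ * algebraMap D B' d₂ := by
      rw [← hβα b₂, ← h₂, map_mul, map_pow, hs]
    have e : algebraMap B B' (s ^ k₂ * b₁) = algebraMap B B' (s ^ k₁ * b₂) := by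
      rw [map_mul, map_mul, map_pow, map_pow, e1, e2, h]
      ring
    obtain ⟨⟨_, j, rfl⟩, hj⟩ := (IsLocalization.eq_iff_exists (Submonoid.powers s) B').mp e
    simp only at hj
    refine ⟨⟨α₀ s ^ (j + k₁ + k₂), _, rfl⟩, ?_⟩
    simp only
    have := congrArg α₀ hj
    simp only [map_mul, map_pow, ← h₁, ← h₂] at this
    calc α₀ s ^ (j + k₁ + k₂) * d₁ = α₀ s ^ j * (α₀ s ^ k₂ * (α₀ s ^ k₁ * d₁)) := by ring
      _ = α₀ s ^ j * (α₀ s ^ k₁ * (α₀ s ^ k₂ * d₂)) := this
      _ = _ := by ring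

theorem isSmoothAt_of_chart {R D B B' : Type u} [CommRing R] [CommRing D] [Algebra R D]
    [CommRing B] [CommRing B'] [Algebra R B'] [Algebra B B'] (s : B) [IsLocalization.Away s B']
    (α₀ : B →+* D) (β : D →ₐ[R] B') (hβα : ∀ b, β (α₀ b) = algebraMap B B' b)
    (hgen : ∀ d : D, ∃ (k : ℕ) (b : B), α₀ s ^ k * d = α₀ b) [Algebra.FormallySmooth R B']
    (Q : Ideal D) [Q.IsPrime] (hQ : α₀ s ∉ Q) : Algebra.IsSmoothAt R Q := by
  letI : Algebra D B' := β.toRingHom.toAlgebra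
  haveI : IsScalarTower R D B' := IsScalarTower.of_algebraMap_eq (fun r => (β.commutes r).symm)
  haveI hloc : IsLocalization.Away (α₀ s) B' := isLocalization_of_chart s α₀ hβα hgen
  have hdisj : Disjoint (Submonoid.powers (α₀ s) : Set D) (Q : Set D) := by
    rw [Ideal.disjoint_powers_iff_notMem _ (Ideal.IsPrime.isRadical inferInstance)]
    exact hQ
  have hprime : (Q.map (algebraMap D B')).IsPrime :=
    IsLocalization.isPrime_of_isPrime_disjoint (Submonoid.powers (α₀ s)) B' Q inferInstance hdisj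
  have hcomap : (Q.map (algebraMap D B')).comap (algebraMap D B') = Q :=
    IsLocalization.under_map_of_isPrime_disjoint (Submonoid.powers (α₀ s)) B' inferInstance hdisj
  have hloc' := Algebra.smoothLocus_comap_of_isLocalization (R := R) (A := D) (Af := B') (α₀ s)
  have hmem : (⟨Q.map (algebraMap D B'), hprime⟩ : PrimeSpectrum B') ∈ Algebra.smoothLocus R B' := by
    change Algebra.FormallySmooth R (Localization.AtPrime (Q.map (algebraMap D B')))
    haveI : Algebra.FormallySmooth B' (Localization.AtPrime (Q.map (algebraMap D B'))) :=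
      Algebra.FormallySmooth.of_isLocalization (Q.map (algebraMap D B')).primeCompl
    exact Algebra.FormallySmooth.comp R B' _
  rw [← hloc'] at hmem
  have : PrimeSpectrum.comap (algebraMap D B') ⟨Q.map (algebraMap D B'), hprime⟩ = ⟨Q, inferInstance⟩ :=
    PrimeSpectrum.ext hcomap
  rw [Set.mem_preimage, this] at hmem
  exact hmem



theorem smul_eq_zero_of_sq_smul_of_flat {R T : Type*} [CommRing R] [AddCommGroup T] [Module R T]
    [Module.Flat R T] (π : R) (hR : ∀ r : R, π ^ 2 * r = 0 → π * r = 0) (x : T)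
    (hx : π ^ 2 • x = 0) : π • x = 0 := by
  have h : ∑ i : Fin 1, (fun _ => π ^ 2 : Fin 1 → R) i • (fun _ => x : Fin 1 → T) i = 0 := by
    simpa using hx
  obtain ⟨k, a, y, h1, h2⟩ := Module.Flat.isTrivialRelation_of_sum_smul_eq_zero h
  have hx' : x = ∑ j, a 0 j • y j := h1 0
  rw [hx', Finset.smul_sum]
  refine Finset.sum_eq_zero fun j _ => ?_
  rw [smul_smul, hR (a 0 j) (by simpa using h2 j), zero_smul]


section DDgen
variable {R : Type u} [CommRing R] {n m : ℕ} (π : R) (f : Fin m → MvPolynomial (Fin n) R)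

theorem DD_gen {B : Type*} [CommRing B] (α₀ : B →+* DD π f) (s : B)
    (hι : ∀ p, ∃ (k : ℕ) (b : B), α₀ s ^ k * DDι π f p = α₀ b)
    (hz : ∀ ℓ, ∃ (k : ℕ) (b : B), α₀ s ^ k * DDz π f ℓ = α₀ b) :
    ∀ d : DD π f, ∃ (k : ℕ) (b : B), α₀ s ^ k * d = α₀ b := by
  refine DD_induction π f hι hz ?_ ?_
  · rintro x y ⟨k₁, b₁, h₁⟩ ⟨k₂, b₂, h₂⟩
    refine ⟨k₁ + k₂, s ^ k₂ * b₁ + s ^ k₁ * b₂, ?_⟩
    rw [map_add, map_mul, map_mul, map_pow, map_pow, ← h₁, ← h₂]
    ring
  · rintro x y ⟨k₁, b₁, h₁⟩ ⟨k₂, b₂, h₂⟩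
    refine ⟨k₁ + k₂, b₁ * b₂, ?_⟩
    rw [map_mul, ← h₁, ← h₂]
    ring

end DDgen

end Groth.Agent.Lib.Helper7.Smoothing
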