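import Groth.Agent.Lib.Helper7Smoothing5
import Groth.Agent.S2108

set_option autoImplicit false
set_option linter.style.haveILetI false
universe u
open MvPolynomial

namespace Groth.Agent.Lib.Helper7.Smoothing


section PartB
variable {R : Type u} [CommRing R] {n m : ℕ} (π : R) (f : Fin m → MvPolynomial (Fin n) R)

theorem DD_isSmoothAt_of_notMem (Q : Ideal (DD π f)) [Q.IsPrime]
    (hQ : algebraMap R (DD π f) π ∉ Q) : Algebra.IsSmoothAt R Q := by
  let P := MvPolynomial (Fin n) R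
  let B' := Localization.Away (C π : P)
  have hu : IsUnit (algebraMap P B' (C π)) := IsLocalization.Away.algebraMap_isUnit _
  have hπ : algebraMap R B' π = algebraMap P B' (C π) := by
    rw [IsScalarTower.algebraMap_apply R P B', MvPolynomial.algebraMap_eq]
  have hu' : IsUnit (algebraMap R B' π) := hπ ▸ hu
  obtain ⟨β, hβι, hβz⟩ := exists_DD_lift π f (T := B')
    (fun x hx => by
      have : x = 0 := by
        rw [Algebra.smul_def, map_pow] at hx
        exact ((hu'.pow 2).mul_right_eq_zero).mp hx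
      rw [this, smul_zero])
    (IsScalarTower.toAlgHom R P B') (fun ℓ => algebraMap P B' (f ℓ) * ↑hu'.unit⁻¹)
    (fun ℓ => by
      rw [Algebra.smul_def, mul_left_comm, IsUnit.mul_val_inv, mul_one]
      rfl)
    (fun c g _ => by
      rw [Ideal.span_singleton_eq_top.mpr hu']
      trivial)
  haveI : Algebra.FormallySmooth P B' :=
    Algebra.FormallySmooth.of_isLocalization (Submonoid.powers (C π : P))
  haveI : Algebra.FormallySmooth R B' := Algebra.FormallySmooth.comp R P B'
  have hs : (DDι π f : P →+* DD π f) (C π) = algebraMap R (DD π f) π := by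
    change DDι π f (C π) = _
    rw [← MvPolynomial.algebraMap_eq, AlgHom.commutes]
  refine isSmoothAt_of_chart (B := P) (B' := B') (C π) (DDι π f : P →+* DD π f) β
    (fun b => hβι b) ?_ Q (by rw [hs]; exact hQ)
  refine DD_gen π f _ _ (fun p => ⟨0, p, by simp⟩) (fun ℓ => ⟨1, f ℓ, ?_⟩)
  rw [pow_one, hs]
  exact (DDι_f π f ℓ).symm

end PartB



section PartA
variable {R : Type u} [CommRing R] {n m : ℕ} (π : R) (f : Fin m → MvPolynomial (Fin n) R)

theorem DD_finitePresentation [IsNoetherianRing R] : Algebra.FinitePresentation R (DD π f) := by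
  have hfg : (relIdeal π f).FG :=
    (inferInstance : IsNoetherianRing (MvPolynomial (Fin m) (MvPolynomial (Fin n) R))).noetherian _
  haveI : Algebra.FinitePresentation R (MvPolynomial (Fin m) (MvPolynomial (Fin n) R)) :=
    Algebra.FinitePresentation.mvPolynomial_of_finitePresentation _
  exact Algebra.FinitePresentation.quotient hfg

theorem exists_DD_to_Λ {Λ C : Type u} [CommRing Λ] [Algebra R Λ]
    (hΛ : ∀ x : Λ, π ^ 2 • x = 0 → π • x = 0) [CommRing C] [Algebra R C]
    (φ : MvPolynomial (Fin n) R →ₐ[R] C)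
    (hker : RingHom.ker φ.toRingHom = Ideal.span (Set.range f))
    (g : C →ₐ[R] Λ ⧸ Ideal.span {algebraMap R Λ (π ^ 2)}) :
    ∃ (δ : DD π f →ₐ[R] Λ), ∀ p,
      Ideal.Quotient.mk (Ideal.span {algebraMap R Λ (π ^ 2)}) (δ (DDι π f p)) = g (φ p) := by
  have hsurj := Ideal.Quotient.mk_surjective (I := Ideal.span {algebraMap R Λ (π ^ 2)})
  choose lam hlam using fun i : Fin n => hsurj (g (φ (X i)))
  let ev : MvPolynomial (Fin n) R →ₐ[R] Λ := MvPolynomial.aeval lam
  have hev : ∀ p, Ideal.Quotient.mk (Ideal.span {algebraMap R Λ (π ^ 2)}) (ev p) = g (φ p) := by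
    intro p
    have : (Ideal.Quotient.mkₐ R (Ideal.span {algebraMap R Λ (π ^ 2)})).comp ev = g.comp φ := by
      apply MvPolynomial.algHom_ext
      intro i
      simp only [AlgHom.comp_apply, ev, aeval_X]
      exact hlam i
    exact DFunLike.congr_fun this p
  have hf : ∀ ℓ, ∃ μ : Λ, ev (f ℓ) = π ^ 2 • μ := by
    intro ℓ
    have h0 : φ (f ℓ) = 0 := by
      have : f ℓ ∈ RingHom.ker φ.toRingHom := hker ▸ Ideal.subset_span ⟨ℓ, rfl⟩
      exact this
    have := hev (f ℓ)
    rw [h0, map_zero, Ideal.Quotient.eq_zero_iff_mem, Ideal.mem_span_singleton'] at this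
    obtain ⟨μ, hμ⟩ := this
    exact ⟨μ, by rw [Algebra.smul_def, mul_comm, hμ]⟩
  choose μ hμ using hf
  obtain ⟨δ, hδι, -⟩ := exists_DD_lift π f hΛ ev (fun ℓ => π • μ ℓ)
    (fun ℓ => by rw [hμ, sq, mul_smul])
    (fun c g _ => by
      refine Ideal.sum_mem _ fun ℓ _ => ?_
      rw [Algebra.smul_def, mul_left_comm]
      exact Ideal.mul_mem_right _ _ (Ideal.subset_span rfl))
  exact ⟨δ, fun p => by rw [hδι]; exact hev p⟩

theorem exists_DD_from_C {C : Type u} [CommRing C] [Algebra R C]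
    (φ : MvPolynomial (Fin n) R →ₐ[R] C) (hφ : Function.Surjective φ)
    (hker : RingHom.ker φ.toRingHom = Ideal.span (Set.range f)) :
    ∃ (ψ : C →ₐ[R] DD π f ⧸ Ideal.span {algebraMap R (DD π f) π}), ∀ p,
      ψ (φ p) = Ideal.Quotient.mk _ (DDι π f p) := by
  let ιπ : MvPolynomial (Fin n) R →ₐ[R] DD π f ⧸ Ideal.span {algebraMap R (DD π f) π} :=
    (Ideal.Quotient.mkₐ R _).comp (DDι π f)
  have hle : ∀ a ∈ RingHom.ker φ, ιπ a = 0 := by
    intro a ha
    have hle' : RingHom.ker φ.toRingHom ≤ RingHom.ker ιπ.toRingHom := by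
      rw [hker, Ideal.span_le]
      rintro _ ⟨ℓ, rfl⟩
      change Ideal.Quotient.mk _ (DDι π f (f ℓ)) = 0
      rw [DDι_f, Ideal.Quotient.eq_zero_iff_mem]
      exact Ideal.mul_mem_right _ _ (Ideal.subset_span rfl)
    exact hle' ha
  refine ⟨(Ideal.Quotient.liftₐ (RingHom.ker φ) ιπ hle).comp
    (Ideal.quotientKerAlgEquivOfSurjective hφ).symm.toAlgHom, fun p => ?_⟩
  have : (Ideal.quotientKerAlgEquivOfSurjective hφ).symm (φ p) =
      Ideal.Quotient.mk (RingHom.ker φ) p := by
    rw [AlgEquiv.symm_apply_eq]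
    rfl
  change Ideal.Quotient.liftₐ (RingHom.ker φ) ιπ hle
    ((Ideal.quotientKerAlgEquivOfSurjective hφ).symm (φ p)) = _
  rw [this]
  rfl

end PartA



theorem exists_det_mul_mem {P : Type*} [CommRing P] {m : ℕ} (f : Fin m → P) (K : Ideal P) (a₁ : P)
    (h : ∀ ℓ, a₁ * f ℓ ∈ K ⊔ Ideal.span (Set.range f) ^ 2) :
    ∃ a₂ : P, a₂ - a₁ ^ m ∈ Ideal.span (Set.range f) ∧ ∀ ℓ, a₂ * f ℓ ∈ K := by
  classical
  set I := Ideal.span (Set.range f) with hI
  have h' : ∀ ℓ, ∃ (k : P) (b : Fin m → P), k ∈ K ∧ (∀ j, b j ∈ I) ∧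
      a₁ * f ℓ = k + ∑ j, b j * f j := by
    intro ℓ
    obtain ⟨k, hk, s, hs, hks⟩ := Submodule.mem_sup.mp (h ℓ)
    rw [pow_two, ← smul_eq_mul (a := I), hI, Ideal.span,
      Submodule.mem_ideal_smul_span_iff_exists_sum] at hs
    obtain ⟨a, ha, has⟩ := hs
    refine ⟨k, a, hk, ha, ?_⟩
    rw [← hks, ← has, Finsupp.sum_fintype a (fun i c => c • f i) (fun _ => zero_smul _ _)]
    rfl
  choose k b hk hb hkb using h'
  let M' : Matrix (Fin m) (Fin m) P := a₁ • (1 : Matrix (Fin m) (Fin m) P) - Matrix.of b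
  have hM : M'.mulVec f = k := by
    funext ℓ
    simp only [M', Matrix.sub_mulVec, Matrix.smul_mulVec, Matrix.one_mulVec, Pi.sub_apply,
      Pi.smul_apply, smul_eq_mul]
    rw [hkb ℓ]
    simp [Matrix.mulVec, dotProduct]
  refine ⟨M'.det, ?_, fun ℓ => ?_⟩
  · rw [← Ideal.Quotient.eq, RingHom.map_det, map_pow]
    have : (Ideal.Quotient.mk I).mapMatrix M' =
        (Ideal.Quotient.mk I a₁) • (1 : Matrix (Fin m) (Fin m) (P ⧸ I)) := by
      ext i j
      simp only [M', RingHom.mapMatrix_apply, Matrix.map_apply, Matrix.sub_apply,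
        Matrix.smul_apply, Matrix.of_apply, map_sub, map_mul, smul_eq_mul]
      rw [Ideal.Quotient.eq_zero_iff_mem.mpr (hb i j), sub_zero]
      by_cases hij : i = j
      · subst hij; simp
      · simp [Matrix.one_apply_ne hij]
    rw [this, Matrix.det_smul, Matrix.det_one, mul_one, Fintype.card_fin]
  · have e : M'.det • f = M'.adjugate.mulVec k := by
      rw [← hM, Matrix.mulVec_mulVec, Matrix.adjugate_mul, Matrix.smul_mulVec, Matrix.one_mulVec]
    have e' := congrFun e ℓ
    rw [Pi.smul_apply, smul_eq_mul] at e'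
    rw [e']
    simp only [Matrix.mulVec, dotProduct]
    exact Ideal.sum_mem _ fun j _ => Ideal.mul_mem_left _ _ (hk j)



theorem jacobian_mul_mem {R : Type*} [CommRing R] {n c : ℕ}
    (u : Fin c → MvPolynomial (Fin n) R) (cols : Fin c → Fin n)
    (K : Ideal (MvPolynomial (Fin n) R)) (hu : ∀ j, u j ∈ K) (r : R) (hr : C r ∈ K)
    (d : Fin c → MvPolynomial (Fin n) R) (q : MvPolynomial (Fin n) R)
    (h : ∑ j, d j * u j = C r * q) (j : Fin c) :
    Matrix.det (Matrix.of fun j k : Fin c => pderiv (cols k) (u j)) * d j ∈ K := by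
  classical
  set M : Matrix (Fin c) (Fin c) (MvPolynomial (Fin n) R) :=
    Matrix.of fun j k : Fin c => pderiv (cols k) (u j) with hM
  have hw : ∀ k, Matrix.vecMul d M k ∈ K := by
    intro k
    have h1 := congrArg (pderiv (cols k)) h
    rw [map_sum, pderiv_C_mul] at h1
    simp only [pderiv_mul] at h1
    rw [Finset.sum_add_distrib] at h1
    have : Matrix.vecMul d M k = C r * pderiv (cols k) q - ∑ j, pderiv (cols k) (d j) * u j := by
      rw [← h1, add_sub_cancel_left]
      simp [Matrix.vecMul, dotProduct, hM]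
    rw [this]
    exact Ideal.sub_mem _ (Ideal.mul_mem_right _ _ hr)
      (Ideal.sum_mem _ fun j _ => Ideal.mul_mem_left _ _ (hu j))
  have e : M.det • d = Matrix.vecMul (Matrix.vecMul d M) M.adjugate := by
    rw [Matrix.vecMul_vecMul, Matrix.mul_adjugate, Matrix.vecMul_smul, Matrix.vecMul_one]
  have e' := congrFun e j
  rw [Pi.smul_apply, smul_eq_mul] at e'
  rw [e']
  simp only [Matrix.vecMul, dotProduct]
  exact Ideal.sum_mem _ fun k _ => Ideal.mul_mem_right _ _ (hw k)



theorem exists_local_structure {R S : Type u} [CommRing R] (π : R) [CommRing S] [Algebra R S]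
    [Algebra (R ⧸ Ideal.span {π ^ 2}) S] [IsScalarTower R (R ⧸ Ideal.span {π ^ 2}) S] {n m : ℕ}
    (f : Fin m → MvPolynomial (Fin n) R) (φ : MvPolynomial (Fin n) R →ₐ[R] S)
    (hφ : Function.Surjective φ)
    (hker : RingHom.ker φ.toRingHom = Ideal.span (Set.range f)) (𝔭 : Ideal S) [𝔭.IsPrime]
    [Algebra.IsSmoothAt (R ⧸ Ideal.span {π ^ 2}) 𝔭] :
    ∃ (c : ℕ) (rows : Fin c ↪ Fin m) (cols : Fin c ↪ Fin n) (a₁ : MvPolynomial (Fin n) R),
      φ a₁ ∉ 𝔭 ∧ φ (Smoothing.jacobianMinor f rows cols) ∉ 𝔭 ∧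
      ∀ ℓ, a₁ * f ℓ ∈ (Ideal.span (Set.range (f ∘ rows)) ⊔ Ideal.span {C (π ^ 2)}) ⊔
        Ideal.span (Set.range f) ^ 2 := by
  classical
  let q : R →+* (R ⧸ Ideal.span {π ^ 2}) := Ideal.Quotient.mk _
  let mapq : MvPolynomial (Fin n) R →+* MvPolynomial (Fin n) (R ⧸ Ideal.span {π ^ 2}) :=
    MvPolynomial.map q
  have hmapq : Function.Surjective mapq :=
    MvPolynomial.map_surjective q Ideal.Quotient.mk_surjective
  let fb : Fin m → MvPolynomial (Fin n) (R ⧸ Ideal.span {π ^ 2}) := fun ℓ => mapq (f ℓ)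
  let φb : MvPolynomial (Fin n) (R ⧸ Ideal.span {π ^ 2}) →ₐ[R ⧸ Ideal.span {π ^ 2}] S :=
    MvPolynomial.aeval (fun i => φ (X i))
  have hφφb : ∀ p, φb (mapq p) = φ p := by
    intro p
    have : (φb : _ →+* S).comp mapq = (φ : _ →+* S) := by
      apply MvPolynomial.ringHom_ext
      · intro r
        simp only [RingHom.comp_apply, mapq, MvPolynomial.map_C, RingHom.coe_coe, φb,
          MvPolynomial.aeval_C]
        rw [← MvPolynomial.algebraMap_eq, φ.commutes]
        exact (IsScalarTower.algebraMap_apply R (R ⧸ Ideal.span {π ^ 2}) S r).symm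
      · intro i
        simp [mapq, φb]
    exact DFunLike.congr_fun this p
  have hφbsurj : Function.Surjective φb := by
    intro x
    obtain ⟨p, rfl⟩ := hφ x
    exact ⟨mapq p, hφφb p⟩
  have hfb0 : ∀ ℓ, φ (f ℓ) = 0 := by
    intro ℓ
    have : f ℓ ∈ RingHom.ker φ.toRingHom := hker ▸ Ideal.subset_span ⟨ℓ, rfl⟩
    exact this
  have hspan : Ideal.span (Set.range fb) = (Ideal.span (Set.range f)).map mapq := by
    rw [Ideal.map_span, ← Set.range_comp]
    rfl
  have hkerb : RingHom.ker φb.toRingHom = Ideal.span (Set.range fb) := by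
    apply le_antisymm
    · intro x hx
      obtain ⟨p, rfl⟩ := hmapq x
      have h0 : φ p = 0 := by rw [← hφφb]; exact hx
      have hp : p ∈ Ideal.span (Set.range f) := hker ▸ (show p ∈ RingHom.ker φ.toRingHom from h0)
      rw [hspan]
      exact Ideal.mem_map_of_mem _ hp
    · rw [Ideal.span_le]
      rintro _ ⟨ℓ, rfl⟩
      change φb (mapq (f ℓ)) = 0
      rw [hφφb, hfb0]
  obtain ⟨a, ha, c, rows, cols, a', haa', H⟩ :=
    Groth.Agent.S2108.result fb φb hφbsurj hkerb 𝔭
  have hjac : Smoothing.jacobianMinor fb rows cols =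
      mapq (Smoothing.jacobianMinor f rows cols) := by
    unfold Smoothing.jacobianMinor
    rw [RingHom.map_det]
    congr 1
    refine Matrix.ext fun j k => ?_
    simp only [Matrix.of_apply, RingHom.mapMatrix_apply, Matrix.map_apply, fb, mapq]
    exact MvPolynomial.pderiv_map
  obtain ⟨a₁, ha₁⟩ := hφ a
  refine ⟨c, rows, cols, a₁, ha₁ ▸ ha, ?_, fun ℓ => ?_⟩
  · intro hmem
    apply ha
    rw [haa', hjac, hφφb]
    exact Ideal.mul_mem_left _ _ hmem
  · have h1 := H (mapq a₁) (by rw [hφφb, ha₁]) ℓ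
    have h2 : Ideal.span (Set.range (fb ∘ rows)) ⊔ Ideal.span (Set.range fb) ^ 2 =
        (Ideal.span (Set.range (f ∘ rows)) ⊔ Ideal.span (Set.range f) ^ 2).map mapq := by
      rw [Ideal.map_sup, Ideal.map_pow, ← hspan, Ideal.map_span, ← Set.range_comp]
      rfl
    rw [h2, ← map_mul] at h1
    have h3 : a₁ * f ℓ ∈ ((Ideal.span (Set.range (f ∘ rows)) ⊔
        Ideal.span (Set.range f) ^ 2).map mapq).comap mapq := h1
    rw [Ideal.comap_map_of_surjective mapq hmapq] at h3
    have hk : Ideal.comap mapq ⊥ = Ideal.span {C (π ^ 2)} := by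
      change RingHom.ker mapq = _
      rw [MvPolynomial.ker_map, Ideal.mk_ker, Ideal.map_span, Set.image_singleton]
    rw [hk] at h3
    rwa [sup_right_comm] at h3


end Groth.Agent.Lib.Helper7.Smoothing
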