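import Groth.Agent.Lib.Helper7Smoothing6
import Groth.Agent.S2030

set_option autoImplicit false
set_option linter.style.haveILetI false
universe u
open MvPolynomial

namespace Groth.Agent.Lib.Helper7.Smoothing


theorem exists_local_data {R S : Type u} [CommRing R] (π : R) [CommRing S] [Algebra R S]
    [Algebra (R ⧸ Ideal.span {π ^ 2}) S] [IsScalarTower R (R ⧸ Ideal.span {π ^ 2}) S] {n m : ℕ}
    (f : Fin m → MvPolynomial (Fin n) R) (φ : MvPolynomial (Fin n) R →ₐ[R] S)
    (hφ : Function.Surjective φ)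
    (hker : RingHom.ker φ.toRingHom = Ideal.span (Set.range f)) (𝔭 : Ideal S) [𝔭.IsPrime]
    [Algebra.IsSmoothAt (R ⧸ Ideal.span {π ^ 2}) 𝔭] :
    ∃ (c : ℕ) (rows : Fin c ↪ Fin m) (cols : Fin c ↪ Fin n) (a₃ : MvPolynomial (Fin n) R)
      (h : Fin m → Fin c → MvPolynomial (Fin n) R) (g : Fin m → MvPolynomial (Fin n) R),
      φ a₃ ∉ 𝔭 ∧ (∃ a₂, a₃ = a₂ * Smoothing.jacobianMinor f rows cols) ∧
      (∀ ℓ, a₃ * f ℓ = ∑ j, h ℓ j * f (rows j) + C (π ^ 2) * g ℓ) ∧
      ∀ j₀, h (rows j₀) = Pi.single j₀ a₃ ∧ g (rows j₀) = 0 := by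
  classical
  obtain ⟨c, rows, cols, a₁, ha₁, hjac, H⟩ := exists_local_structure π f φ hφ hker 𝔭
  obtain ⟨a₂, ha₂, H₂⟩ := exists_det_mul_mem f _ a₁ H
  have hφa₂ : φ a₂ = φ a₁ ^ m := by
    have : a₂ - a₁ ^ m ∈ RingHom.ker φ.toRingHom := hker ▸ ha₂
    have h0 : φ (a₂ - a₁ ^ m) = 0 := this
    rw [map_sub, map_pow, sub_eq_zero] at h0
    exact h0
  set Δ := Smoothing.jacobianMinor f rows cols with hΔ
  set a₃ := a₂ * Δ with ha₃
  have hφa₃ : φ a₃ ∉ 𝔭 := by
    rw [ha₃, map_mul, hφa₂]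
    intro hmem
    rcases Ideal.IsPrime.mem_or_mem inferInstance hmem with h1 | h1
    · exact ha₁ (Ideal.IsPrime.mem_of_pow_mem inferInstance _ h1)
    · exact hjac h1
  have key : ∀ ℓ, ∃ (hℓ : Fin c → MvPolynomial (Fin n) R) (gℓ : MvPolynomial (Fin n) R),
      a₃ * f ℓ = ∑ j, hℓ j * f (rows j) + C (π ^ 2) * gℓ ∧
      ∀ j₀, rows j₀ = ℓ → hℓ = Pi.single j₀ a₃ ∧ gℓ = 0 := by
    intro ℓ
    by_cases hℓ : ∃ j₀, rows j₀ = ℓ
    · obtain ⟨j₀, rfl⟩ := hℓ
      refine ⟨Pi.single j₀ a₃, 0, ?_, fun j₁ hj₁ => ?_⟩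
      · rw [mul_zero, add_zero, Finset.sum_eq_single j₀]
        · rw [Pi.single_eq_same]
        · intro j _ hj
          rw [Pi.single_eq_of_ne hj, zero_mul]
        · intro h; exact absurd (Finset.mem_univ _) h
      · rw [rows.injective hj₁]
        exact ⟨rfl, rfl⟩
    · have hmem : a₃ * f ℓ ∈ Ideal.span (Set.range (f ∘ rows)) ⊔ Ideal.span {C (π ^ 2)} := by
        rw [ha₃, mul_right_comm]
        exact Ideal.mul_mem_right _ _ (H₂ ℓ)
      obtain ⟨x, hx, y, hy, hxy⟩ := Submodule.mem_sup.mp hmem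
      obtain ⟨hh, hhx⟩ := (Ideal.mem_span_range_iff_exists_fun).mp hx
      obtain ⟨gg, hgy⟩ := Ideal.mem_span_singleton'.mp hy
      refine ⟨hh, gg, ?_, fun j₀ hj₀ => absurd ⟨j₀, hj₀⟩ hℓ⟩
      rw [← hxy, ← hhx, ← hgy, mul_comm gg]
      rfl
  choose h g hhg hsp using key
  exact ⟨c, rows, cols, a₃, h, g, hφa₃, ⟨a₂, rfl⟩, hhg, fun j₀ => hsp (rows j₀) j₀ rfl⟩



section Chart
variable {R : Type u} [CommRing R] {n m c : ℕ} (π : R) (f : Fin m → MvPolynomial (Fin n) R)
  (rows : Fin c → Fin m)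

/-- Relations of the chart algebra `R[x, y]/(f_{rows j} - π y_j)`. -/
noncomputable def chartRel : Fin c → MvPolynomial (Fin (n + c)) R :=
  fun j => rename (Fin.castAdd c) (f (rows j)) - C π * X (Fin.natAdd n j)

/-- The chart algebra `R[x, y]/(f_{rows j} - π y_j)`. -/
def ChartB : Type u :=
  MvPolynomial (Fin (n + c)) R ⧸ Ideal.span (Set.range (chartRel π f rows))

noncomputable instance : CommRing (ChartB π f rows) :=
  inferInstanceAs (CommRing (MvPolynomial (Fin (n + c)) R ⧸ Ideal.span (Set.range (chartRel π f rows))))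

noncomputable instance : Algebra R (ChartB π f rows) :=
  inferInstanceAs (Algebra R (MvPolynomial (Fin (n + c)) R ⧸ Ideal.span (Set.range (chartRel π f rows))))

/-- The quotient map onto the chart algebra. -/
noncomputable def chartMk : MvPolynomial (Fin (n + c)) R →ₐ[R] ChartB π f rows :=
  Ideal.Quotient.mkₐ R _

lemma chartMk_surjective : Function.Surjective (chartMk π f rows) := Ideal.Quotient.mk_surjective

lemma chartMk_eq_zero_iff (p : MvPolynomial (Fin (n + c)) R) :
    chartMk π f rows p = 0 ↔ p ∈ Ideal.span (Set.range (chartRel π f rows)) :=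
  Ideal.Quotient.eq_zero_iff_mem

/-- The map `P → B`. -/
noncomputable def chartξ : MvPolynomial (Fin n) R →ₐ[R] ChartB π f rows :=
  (chartMk π f rows).comp (rename (Fin.castAdd c))

/-- The generators `y_j` of `B`. -/
noncomputable def charty (j : Fin c) : ChartB π f rows := chartMk π f rows (X (Fin.natAdd n j))

lemma chartξ_u (j : Fin c) :
    chartξ π f rows (f (rows j)) = algebraMap R (ChartB π f rows) π * charty π f rows j := by
  have h : chartMk π f rows (chartRel π f rows j) = 0 :=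
    (chartMk_eq_zero_iff π f rows _).mpr (Ideal.subset_span ⟨j, rfl⟩)
  rw [chartRel, map_sub, sub_eq_zero, map_mul] at h
  rw [charty, ← (chartMk π f rows).commutes π, MvPolynomial.algebraMap_eq]
  exact h

/-- The marked presentation of the chart algebra, all relations leading. -/
noncomputable def chartMP : Smoothing.MarkedPresentation R (ChartB π f rows) where
  n := n + c
  m := c
  c := c
  hcn := Nat.le_add_left c n
  hcm := le_rfl
  rel := chartRel π f rows
  hom := chartMk π f rows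
  surj := chartMk_surjective π f rows
  ker_eq := Ideal.mk_ker

lemma jacobianMinor_chartRel (cols : Fin c → Fin n) (hc : c ≤ c) :
    Smoothing.jacobianMinor (chartRel π f rows) (Fin.castLE hc) (Fin.castAdd c ∘ cols) =
      rename (Fin.castAdd c) (Smoothing.jacobianMinor f rows cols) := by
  unfold Smoothing.jacobianMinor
  rw [AlgHom.map_det]
  congr 1
  refine Matrix.ext fun j k => ?_
  simp only [Matrix.of_apply, AlgHom.mapMatrix_apply, Matrix.map_apply, Function.comp_apply]
  have hj : Fin.castLE hc j = j := Fin.ext rfl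
  rw [hj, chartRel, map_sub, pderiv_rename (Fin.castAdd_injective n c), pderiv_C_mul,
    pderiv_X_of_ne, mul_zero, sub_zero]
  intro h
  have := congrArg Fin.val h
  simp at this
  omega

theorem chart_isStrictlyStandard (cols : Fin c → Fin n) (a₂ : MvPolynomial (Fin n) R) :
    Smoothing.IsStrictlyStandard R (ChartB π f rows)
      (chartξ π f rows (a₂ * Smoothing.jacobianMinor f rows cols)) := by
  refine ⟨chartMP π f rows, ?_, ?_⟩
  · rw [map_mul]
    refine Ideal.mul_mem_left _ _ (Ideal.subset_span ⟨Fin.castAdd c ∘ cols, ?_⟩)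
    change chartMk π f rows (Smoothing.jacobianMinor (chartRel π f rows) (Fin.castLE le_rfl)
      (Fin.castAdd c ∘ cols)) = _
    rw [jacobianMinor_chartRel]
    rfl
  · intro a' _ j hj
    exact absurd j.isLt (not_lt.mpr hj)

theorem chart_smooth (cols : Fin c → Fin n) (a₂ : MvPolynomial (Fin n) R) :
    Algebra.Smooth R (Localization.Away
      (chartξ π f rows (a₂ * Smoothing.jacobianMinor f rows cols))) :=
  (Groth.Agent.S2030.result _ (chart_isStrictlyStandard π f rows cols a₂)).1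

end Chart


end Groth.Agent.Lib.Helper7.Smoothing
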