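import Groth.Agent.Lib.Helper7Smoothing7

set_option autoImplicit false
set_option linter.style.haveILetI false
universe u
open MvPolynomial

namespace Groth.Agent.Lib.Helper7.Smoothing


section ChartMaps
variable {R : Type u} [CommRing R] {n m c : ℕ} (π : R) (f : Fin m → MvPolynomial (Fin n) R)
  (rows : Fin c → Fin m)

/-- values of the generators of the chart algebra in `D`. -/
noncomputable def chartαval : Fin (n + c) → DD π f :=
  Fin.addCases (fun i => DDι π f (X i)) (fun j => DDz π f (rows j))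

lemma aeval_chartαval_rename (p : MvPolynomial (Fin n) R) :
    aeval (chartαval π f rows) (rename (Fin.castAdd c) p) = DDι π f p := by
  rw [aeval_rename]
  have : (chartαval π f rows ∘ Fin.castAdd c) = fun i => DDι π f (X i) := by
    funext i
    simp [chartαval]
  rw [this]
  have h2 : (aeval fun i => DDι π f (X i)) = DDι π f := by
    apply MvPolynomial.algHom_ext
    intro i
    simp
  rw [h2]

/-- The map `B → D`. -/
noncomputable def chartα : ChartB π f rows →ₐ[R] DD π f :=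
  Ideal.Quotient.liftₐ _ (aeval (chartαval π f rows)) (by
    intro a ha
    have : Ideal.span (Set.range (chartRel π f rows)) ≤
        RingHom.ker (aeval (chartαval π f rows) : MvPolynomial (Fin (n + c)) R →ₐ[R] DD π f).toRingHom := by
      rw [Ideal.span_le]
      rintro _ ⟨j, rfl⟩
      change aeval (chartαval π f rows) (chartRel π f rows j) = 0
      rw [chartRel, map_sub, aeval_chartαval_rename, map_mul, aeval_C, aeval_X, DDι_f, sub_eq_zero]
      simp [chartαval]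
    exact this ha)

lemma chartα_mk (p : MvPolynomial (Fin (n + c)) R) :
    chartα π f rows (chartMk π f rows p) = aeval (chartαval π f rows) p := rfl

lemma chartα_ξ (p : MvPolynomial (Fin n) R) :
    chartα π f rows (chartξ π f rows p) = DDι π f p := by
  change chartα π f rows (chartMk π f rows (rename (Fin.castAdd c) p)) = _
  rw [chartα_mk, aeval_chartαval_rename]

lemma chartα_y (j : Fin c) : chartα π f rows (charty π f rows j) = DDz π f (rows j) := by
  change chartα π f rows (chartMk π f rows (X (Fin.natAdd n j))) = _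
  rw [chartα_mk, aeval_X]
  simp [chartαval]

lemma DD_rel (ℓ : Fin m) (a₃ : MvPolynomial (Fin n) R) (hℓ : Fin c → MvPolynomial (Fin n) R)
    (gℓ : MvPolynomial (Fin n) R)
    (H : a₃ * f ℓ = ∑ j, hℓ j * f (rows j) + C (π ^ 2) * gℓ) :
    DDι π f a₃ * DDz π f ℓ =
      ∑ j, DDι π f (hℓ j) * DDz π f (rows j) + algebraMap R (DD π f) π * DDι π f gℓ := by
  classical
  let cc : Fin m → MvPolynomial (Fin n) R := fun ℓ' =>
    (if ℓ' = ℓ then a₃ else 0) - ∑ j, if rows j = ℓ' then hℓ j else 0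
  have key : ∀ {A : Type u} [CommRing A] (ρ : MvPolynomial (Fin n) R →+* A) (F : Fin m → A),
      ∑ ℓ', ρ (cc ℓ') * F ℓ' = ρ a₃ * F ℓ - ∑ j, ρ (hℓ j) * F (rows j) := by
    intro A _ ρ F
    simp only [cc, map_sub, sub_mul, Finset.sum_sub_distrib, map_sum, Finset.sum_mul]
    congr 1
    · rw [Finset.sum_eq_single ℓ]
      · simp
      · intro b _ hb; simp [hb]
      · intro h; exact absurd (Finset.mem_univ _) h
    · rw [Finset.sum_comm]
      refine Finset.sum_congr rfl fun j _ => ?_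
      rw [Finset.sum_eq_single (rows j)]
      · simp
      · intro b _ hb; simp [Ne.symm hb]
      · intro h; exact absurd (Finset.mem_univ _) h
  have h1 := key (RingHom.id _) f
  simp only [RingHom.id_apply] at h1
  rw [H, add_sub_cancel_left] at h1
  have h2 := DD_syz π f cc gℓ h1
  have h3 : ∑ ℓ', DDι π f (cc ℓ') * DDz π f ℓ' =
      DDι π f a₃ * DDz π f ℓ - ∑ j, DDι π f (hℓ j) * DDz π f (rows j) :=
    key (DDι π f : _ →+* DD π f) (DDz π f)
  rw [h3, sub_eq_iff_eq_add'] at h2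
  exact h2

end ChartMaps



section ChartBeta
variable {R : Type u} [CommRing R] {n m c : ℕ} (π : R) (f : Fin m → MvPolynomial (Fin n) R)
  (rows : Fin c → Fin m)

/-- The element `w_ℓ` of the chart algebra with `a₃ z_ℓ = w_ℓ`. -/
noncomputable def chartw (h : Fin m → Fin c → MvPolynomial (Fin n) R)
    (g : Fin m → MvPolynomial (Fin n) R) (ℓ : Fin m) : ChartB π f rows :=
  ∑ j, chartξ π f rows (h ℓ j) * charty π f rows j +
    algebraMap R (ChartB π f rows) π * chartξ π f rows (g ℓ)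

lemma chartξ_mul_f (a₃ : MvPolynomial (Fin n) R) (h : Fin m → Fin c → MvPolynomial (Fin n) R)
    (g : Fin m → MvPolynomial (Fin n) R)
    (hhg : ∀ ℓ, a₃ * f ℓ = ∑ j, h ℓ j * f (rows j) + C (π ^ 2) * g ℓ) (ℓ : Fin m) :
    chartξ π f rows a₃ * chartξ π f rows (f ℓ) =
      algebraMap R (ChartB π f rows) π * chartw π f rows h g ℓ := by
  rw [← map_mul, hhg ℓ, map_add, map_sum, chartw, mul_add, Finset.mul_sum]
  congr 1
  · refine Finset.sum_congr rfl fun j _ => ?_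
    rw [map_mul, chartξ_u]
    ring
  · rw [map_mul, ← MvPolynomial.algebraMap_eq, AlgHom.commutes, map_pow]
    ring

end ChartBeta




theorem sum_d_mul_u {P : Type*} [CommRing P] {m c : ℕ} (cc f g : Fin m → P)
    (h : Fin m → Fin c → P) (u : Fin c → P) (a₃ r gg : P)
    (hhg : ∀ ℓ, a₃ * f ℓ = ∑ j, h ℓ j * u j + r * g ℓ)
    (hcg : ∑ ℓ, cc ℓ * f ℓ = r * gg) :
    ∑ j, (∑ ℓ, cc ℓ * h ℓ j) * u j = r * (a₃ * gg - ∑ ℓ, cc ℓ * g ℓ) := by
  have e1 : ∑ j, (∑ ℓ, cc ℓ * h ℓ j) * u j = ∑ ℓ, cc ℓ * ∑ j, h ℓ j * u j := by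
    simp only [Finset.sum_mul, Finset.mul_sum]
    rw [Finset.sum_comm]
    refine Finset.sum_congr rfl fun ℓ _ => Finset.sum_congr rfl fun j _ => ?_
    ring
  have e2 : ∀ ℓ, ∑ j, h ℓ j * u j = a₃ * f ℓ - r * g ℓ := fun ℓ => by
    rw [hhg ℓ, add_sub_cancel_right]
  have e3 : ∑ ℓ, cc ℓ * (a₃ * f ℓ) = a₃ * ∑ ℓ, cc ℓ * f ℓ := by
    rw [Finset.mul_sum]
    refine Finset.sum_congr rfl fun ℓ _ => ?_
    ring
  have e4 : ∑ ℓ, cc ℓ * (r * g ℓ) = r * ∑ ℓ, cc ℓ * g ℓ := by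
    rw [Finset.mul_sum]
    refine Finset.sum_congr rfl fun ℓ _ => ?_
    ring
  rw [e1]
  simp only [e2, mul_sub, Finset.sum_sub_distrib]
  rw [e3, e4, hcg]
  ring

theorem sum_mul_zeta {T : Type*} [CommRing T] {m c : ℕ} (x xg : Fin m → T)
    (xh : Fin m → Fin c → T) (Y : Fin c → T) (ζ : Fin m → T) (v p : T)
    (hζ : ∀ ℓ, ζ ℓ = (∑ j, xh ℓ j * Y j + p * xg ℓ) * v) :
    ∑ ℓ, x ℓ * ζ ℓ = (∑ j, (∑ ℓ, x ℓ * xh ℓ j) * Y j + p * ∑ ℓ, x ℓ * xg ℓ) * v := by
  simp only [hζ, Finset.sum_mul, Finset.mul_sum, mul_add, add_mul, Finset.sum_add_distrib]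
  congr 1
  · rw [Finset.sum_comm]
    refine Finset.sum_congr rfl fun j _ => Finset.sum_congr rfl fun ℓ _ => ?_
    ring
  · refine Finset.sum_congr rfl fun ℓ _ => ?_
    ring


section H2
variable {R : Type u} [CommRing R] {n m c : ℕ} (π : R) (f : Fin m → MvPolynomial (Fin n) R)
  (rows : Fin c → Fin m)

theorem sum_mem_span_of_chart {T : Type*} [CommRing T] [Algebra R T]
    (hπ2 : C (π ^ 2) ∈ Ideal.span (Set.range f)) (cols : Fin c → Fin n)
    (a₃ : MvPolynomial (Fin n) R) (h : Fin m → Fin c → MvPolynomial (Fin n) R)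
    (g : Fin m → MvPolynomial (Fin n) R)
    (hhg : ∀ ℓ, a₃ * f ℓ = ∑ j, h ℓ j * f (rows j) + C (π ^ 2) * g ℓ)
    (ξ' : MvPolynomial (Fin n) R →ₐ[R] T) (Y : Fin c → T) (ζ : Fin m → T) (v : T)
    (h1 : ∀ ℓ, ξ' (f ℓ) = π • ζ ℓ)
    (hζ : ∀ ℓ, ζ ℓ = (∑ j, ξ' (h ℓ j) * Y j + algebraMap R T π * ξ' (g ℓ)) * v)
    (hΔu : IsUnit (ξ' (Smoothing.jacobianMinor f rows cols)))
    (cc : Fin m → MvPolynomial (Fin n) R) (gg : MvPolynomial (Fin n) R)
    (hcg : ∑ ℓ, cc ℓ * f ℓ = C (π ^ 2) * gg) :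
    ∑ ℓ, ξ' (cc ℓ) * ζ ℓ ∈ Ideal.span {algebraMap R T π} := by
  classical
  set Δ := Smoothing.jacobianMinor f rows cols with hΔ
  have hI : ∀ x ∈ Ideal.span (Set.range f), ξ' x ∈ Ideal.span {algebraMap R T π} := by
    intro x hx
    have : Ideal.span (Set.range f) ≤ (Ideal.span {algebraMap R T π}).comap ξ' := by
      rw [Ideal.span_le]
      rintro _ ⟨ℓ, rfl⟩
      rw [SetLike.mem_coe, Ideal.mem_comap, h1, Algebra.smul_def]
      exact Ideal.mul_mem_right _ _ (Ideal.subset_span rfl)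
    exact this hx
  let d : Fin c → MvPolynomial (Fin n) R := fun j => ∑ ℓ, cc ℓ * h ℓ j
  have hd : ∀ j, ξ' (d j) ∈ Ideal.span {algebraMap R T π} := by
    intro j
    have hsum : ∑ j, d j * f (rows j) = C (π ^ 2) * (a₃ * gg - ∑ ℓ, cc ℓ * g ℓ) :=
      sum_d_mul_u cc f g h (fun j => f (rows j)) a₃ (C (π ^ 2)) gg hhg hcg
    have hm := jacobian_mul_mem (fun j => f (rows j)) cols (Ideal.span (Set.range f))
      (fun j => Ideal.subset_span ⟨rows j, rfl⟩) (π ^ 2) hπ2 d _ hsum j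
    have hm' : Δ * d j ∈ Ideal.span (Set.range f) := hm
    have h3 := hI _ hm'
    rw [map_mul] at h3
    have : ξ' (d j) = ↑hΔu.unit⁻¹ * (ξ' Δ * ξ' (d j)) := by
      rw [← mul_assoc, IsUnit.val_inv_mul, one_mul]
    rw [this]
    exact Ideal.mul_mem_left _ _ h3
  have hsum2 : ∑ ℓ, ξ' (cc ℓ) * ζ ℓ =
      (∑ j, ξ' (d j) * Y j + algebraMap R T π * ∑ ℓ, ξ' (cc ℓ) * ξ' (g ℓ)) * v := by
    rw [sum_mul_zeta (fun ℓ => ξ' (cc ℓ)) (fun ℓ => ξ' (g ℓ)) (fun ℓ j => ξ' (h ℓ j)) Y ζ v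
      (algebraMap R T π) hζ]
    simp only [d, map_sum, map_mul]
  rw [hsum2]
  refine Ideal.mul_mem_right _ _ (Ideal.add_mem _ (Ideal.sum_mem _ fun j _ => ?_) ?_)
  · exact Ideal.mul_mem_right _ _ (hd j)
  · exact Ideal.mul_mem_right _ _ (Ideal.subset_span rfl)

end H2


end Groth.Agent.Lib.Helper7.Smoothing
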