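import Mathlib
import Groth.Prelude.Def_Found
import Groth.Agent.Lib.Helper7RegHomField
import Groth.Agent.Lib.Helper28FibreTrans

/-!
# Helper7Smoothing89 (helper7): an unramified extension of discrete valuation rings with separable
residue field and fraction field extensions is a regular homomorphism.

* `isGeometricallyRegular_of_ringEquiv`: transport of geometric regularity.
* `isGeometricallyRegular_of_isGeometricallyReduced_field`.
* `isRegularHom_of_dvr_extension`.
-/

set_option autoImplicit false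
set_option linter.style.haveILetI false
universe u
open Function TensorProduct IsLocalRing nonZeroDivisors

namespace Groth.Agent.Lib.Helper7.Smoothing

/-- transport of geometric regularity along compatible isomorphisms of the field and the algebra -/
theorem isGeometricallyRegular_of_ringEquiv {k₁ k₂ S₁ S₂ : Type u} [Field k₁] [Field k₂]
    [CommRing S₁] [CommRing S₂] [Algebra k₁ S₁] [Algebra k₂ S₂] (σ : k₁ ≃+* k₂) (τ : S₁ ≃+* S₂)
    (hτ : ∀ c, τ (algebraMap k₁ S₁ c) = algebraMap k₂ S₂ (σ c))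
    (h : CAlg.IsGeometricallyRegular k₁ S₁) : CAlg.IsGeometricallyRegular k₂ S₂ := by
  intro k' _ _ hfin
  letI a1 : Algebra k₁ k₂ := σ.toRingHom.toAlgebra
  have hsurj : Function.Surjective (algebraMap k₁ k₂) := σ.surjective
  letI a2 : Algebra k₁ k' := ((algebraMap k₂ k').comp (algebraMap k₁ k₂)).toAlgebra
  haveI t2 : IsScalarTower k₁ k₂ k' := IsScalarTower.of_algebraMap_eq (fun _ => rfl)
  haveI : Module.Finite k₁ k₂ := Module.Finite.of_surjective (Algebra.linearMap k₁ k₂) hsurj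
  haveI : Module.Finite k₁ k' := Module.Finite.trans k₂ k'
  haveI hreg1 : IsRegularRing (k' ⊗[k₁] S₁) := h k' inferInstance
  letI a3 : Algebra k₁ S₂ := ((algebraMap k₂ S₂).comp (algebraMap k₁ k₂)).toAlgebra
  haveI t3 : IsScalarTower k₁ k₂ S₂ := IsScalarTower.of_algebraMap_eq (fun _ => rfl)
  let τa : S₁ ≃ₐ[k₁] S₂ := AlgEquiv.ofRingEquiv (f := τ) (fun c => hτ c)
  let σa : k₁ ≃ₐ[k₁] k₂ := AlgEquiv.ofRingEquiv (f := σ) (fun _ => rfl)
  let e1 : S₂ ≃ₐ[k₁] k₂ ⊗[k₁] S₁ :=
    τa.symm.trans ((Algebra.TensorProduct.lid k₁ S₁).symm.trans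
      (Algebra.TensorProduct.congr σa (AlgEquiv.refl (R := k₁) (A₁ := S₁))))
  let e2 : S₂ ≃ₐ[k₂] k₂ ⊗[k₁] S₁ := AlgEquiv.extendScalarsOfSurjective hsurj e1
  let e3 : k' ⊗[k₂] S₂ ≃ₐ[k₂] k' ⊗[k₂] (k₂ ⊗[k₁] S₁) :=
    Algebra.TensorProduct.congr (AlgEquiv.refl (R := k₂) (A₁ := k')) e2
  let e4 : k' ⊗[k₂] (k₂ ⊗[k₁] S₁) ≃ₐ[k'] k' ⊗[k₁] S₁ :=
    Algebra.TensorProduct.cancelBaseChange k₁ k₂ k' k' S₁
  exact IsRegularRing.of_ringEquiv (e3.toRingEquiv.trans e4.toRingEquiv).symm

/-- a geometrically reduced (separable) field extension is geometrically regular -/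
theorem isGeometricallyRegular_of_isGeometricallyReduced_field (k K : Type u) [Field k] [Field K]
    [Algebra k K] [Algebra.IsGeometricallyReduced k K] : CAlg.IsGeometricallyRegular k K := by
  intro k' _ _ hfin
  haveI : Algebra.IsAlgebraic k k' := Algebra.IsAlgebraic.of_finite k k'
  haveI : IsReduced (k' ⊗[k] K) := inferInstance
  haveI : IsArtinianRing (K ⊗[k] k') := IsArtinianRing.of_finite K _
  haveI : IsArtinianRing (k' ⊗[k] K) :=
    (Algebra.TensorProduct.comm k K k').toRingEquiv.isArtinianRing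
  exact Groth.Agent.Lib.Helper7.RegHomField.isRegularRing_of_isArtinianRing_of_isReduced (k' ⊗[k] K)

section DVR

variable {R Λ K L : Type u} [CommRing R] [IsDomain R] [IsDiscreteValuationRing R] [CommRing Λ]
  [IsDomain Λ] [IsDiscreteValuationRing Λ] [Algebra R Λ] [NoZeroSMulDivisors R Λ]
  [IsLocalHom (algebraMap R Λ)]

/-- the closed fibre -/
theorem isGeometricallyRegular_closedFibre_dvr
    (he : (maximalIdeal R).map (algebraMap R Λ) = maximalIdeal Λ)
    [Algebra.IsGeometricallyReduced (ResidueField R) (ResidueField Λ)] :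
    CAlg.IsGeometricallyRegular (maximalIdeal R).ResidueField ((maximalIdeal R).Fiber Λ) := by
  have hbij := Ideal.bijective_algebraMap_quotient_residueField (maximalIdeal R)
  let σ₁ : ResidueField R ≃+* (maximalIdeal R).ResidueField :=
    RingEquiv.ofBijective (algebraMap (R ⧸ maximalIdeal R) (maximalIdeal R).ResidueField) hbij
  let σ₁a : (R ⧸ maximalIdeal R) ≃ₐ[R] (maximalIdeal R).ResidueField :=
    AlgEquiv.ofBijective
      (IsScalarTower.toAlgHom R (R ⧸ maximalIdeal R) (maximalIdeal R).ResidueField) hbij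
  let e1 : ResidueField Λ ≃+* (Λ ⧸ (maximalIdeal R).map (algebraMap R Λ)) :=
    Ideal.quotEquivOfEq he.symm
  let e2 : (Λ ⧸ (maximalIdeal R).map (algebraMap R Λ)) ≃ₐ[R ⧸ maximalIdeal R]
      (R ⧸ maximalIdeal R) ⊗[R] Λ :=
    Algebra.TensorProduct.quotIdealMapEquivQuotTensor Λ (maximalIdeal R)
  let e3 : (R ⧸ maximalIdeal R) ⊗[R] Λ ≃ₐ[R] (maximalIdeal R).ResidueField ⊗[R] Λ :=
    Algebra.TensorProduct.congr σ₁a (AlgEquiv.refl (R := R) (A₁ := Λ))
  let τ₁ : ResidueField Λ ≃+* (maximalIdeal R).Fiber Λ :=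
    e1.trans (e2.toRingEquiv.trans e3.toRingEquiv)
  refine isGeometricallyRegular_of_ringEquiv σ₁ τ₁ ?_
    (isGeometricallyRegular_of_isGeometricallyReduced_field _ _)
  intro c
  obtain ⟨r, rfl⟩ := residue_surjective c
  rw [ResidueField.algebraMap_residue]
  change e3 (e2 (e1 (Ideal.Quotient.mk _ (algebraMap R Λ r)))) = _
  have h1 : e1 (Ideal.Quotient.mk _ (algebraMap R Λ r)) =
      Ideal.Quotient.mk _ (algebraMap R Λ r) := rfl
  rw [h1, Algebra.TensorProduct.quotIdealMapEquivQuotTensor_mk]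
  change Algebra.TensorProduct.congr σ₁a AlgEquiv.refl (1 ⊗ₜ[R] algebraMap R Λ r) = _
  rw [Algebra.TensorProduct.congr_apply, Algebra.TensorProduct.map_tmul, map_one]
  rw [Algebra.TensorProduct.algebraMap_apply]
  change _ = algebraMap (R ⧸ maximalIdeal R) (maximalIdeal R).ResidueField
    (Ideal.Quotient.mk _ r) ⊗ₜ[R] (1 : Λ)
  rw [Ideal.algebraMap_quotient_residueField_mk, Algebra.algebraMap_eq_smul_one,
    Algebra.algebraMap_eq_smul_one r, TensorProduct.smul_tmul]
  rfl

variable [Field K] [Algebra R K] [IsFractionRing R K] [Field L] [Algebra Λ L] [IsFractionRing Λ L]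
  [Algebra K L] [Algebra R L] [IsScalarTower R K L] [IsScalarTower R Λ L]

/-- the generic fibre -/
theorem isGeometricallyRegular_genericFibre_dvr
    (he : (maximalIdeal R).map (algebraMap R Λ) = maximalIdeal Λ)
    [Algebra.IsGeometricallyReduced K L] :
    CAlg.IsGeometricallyRegular (⊥ : Ideal R).ResidueField ((⊥ : Ideal R).Fiber Λ) := by
  have hinj : Function.Injective (algebraMap R Λ) := FaithfulSMul.algebraMap_injective R Λ
  -- uniformizer
  obtain ⟨ϖ, hϖ⟩ := IsDiscreteValuationRing.exists_irreducible R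
  have hϖ' : Irreducible (algebraMap R Λ ϖ) := by
    rw [IsDiscreteValuationRing.irreducible_iff_uniformizer] at hϖ ⊢
    rw [← he, hϖ, Ideal.map_span, Set.image_singleton]
  letI algΛ : Algebra Λ (K ⊗[R] Λ) := Algebra.TensorProduct.rightAlgebra
  haveI hloc1 : IsLocalization (Algebra.algebraMapSubmonoid Λ R⁰) (K ⊗[R] Λ) :=
    IsLocalization.tensorRight K R⁰
  have hle : Algebra.algebraMapSubmonoid Λ R⁰ ≤ Λ⁰ := by
    rintro _ ⟨r, hr, rfl⟩
    have hr' : r ≠ 0 := mem_nonZeroDivisors_iff_ne_zero.mp hr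
    rw [mem_nonZeroDivisors_iff_ne_zero]
    exact fun h0 => hr' (hinj (by rw [h0, map_zero]))
  have hdvd : ∀ n ∈ Λ⁰, ∃ m ∈ Algebra.algebraMapSubmonoid Λ R⁰, n ∣ m := by
    intro n hn
    obtain ⟨e, u, hu⟩ := IsDiscreteValuationRing.eq_unit_mul_pow_irreducible
      (mem_nonZeroDivisors_iff_ne_zero.mp hn) hϖ'
    refine ⟨algebraMap R Λ (ϖ ^ e), ⟨ϖ ^ e, ?_, rfl⟩, ?_⟩
    · exact mem_nonZeroDivisors_iff_ne_zero.mpr (pow_ne_zero _ hϖ.ne_zero)
    · refine ⟨(↑u⁻¹ : Λ), ?_⟩
      rw [hu, map_pow]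
      rw [mul_comm (u : Λ), mul_assoc, Units.mul_inv, mul_one]
  haveI hfrac : IsFractionRing Λ (K ⊗[R] Λ) :=
    IsLocalization.of_le_of_exists_dvd (Algebra.algebraMapSubmonoid Λ R⁰) Λ⁰ hle hdvd
  let ψ₁ : K ⊗[R] Λ ≃ₐ[Λ] L := IsLocalization.algEquiv Λ⁰ _ _
  let σ₀ : (⊥ : Ideal R).ResidueField ≃ₐ[R] K := IsLocalization.algEquiv R⁰ _ _
  let τ₀ : L ≃+* (⊥ : Ideal R).Fiber Λ :=
    ψ₁.symm.toRingEquiv.trans
      (Algebra.TensorProduct.congr σ₀.symm (AlgEquiv.refl (R := R) (A₁ := Λ))).toRingEquiv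
  refine isGeometricallyRegular_of_ringEquiv σ₀.symm.toRingEquiv τ₀ ?_
    (isGeometricallyRegular_of_isGeometricallyReduced_field K L)
  intro c
  have hψ : ∀ c : K, ψ₁ (c ⊗ₜ[R] (1 : Λ)) = algebraMap K L c := by
    have h2 : ((ψ₁ : K ⊗[R] Λ →+* L).comp
        (Algebra.TensorProduct.includeLeftRingHom : K →+* K ⊗[R] Λ)) = algebraMap K L := by
      refine IsLocalization.ringHom_ext R⁰ ?_
      ext r
      change ψ₁ (algebraMap R K r ⊗ₜ[R] (1 : Λ)) = algebraMap K L (algebraMap R K r)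
      have h3 : algebraMap R K r ⊗ₜ[R] (1 : Λ) =
          algebraMap Λ (K ⊗[R] Λ) (algebraMap R Λ r) := by
        rw [Algebra.TensorProduct.right_algebraMap_apply, Algebra.algebraMap_eq_smul_one,
          Algebra.algebraMap_eq_smul_one r, TensorProduct.smul_tmul]
      rw [h3, ψ₁.commutes, ← IsScalarTower.algebraMap_apply, ← IsScalarTower.algebraMap_apply]
    intro c
    exact RingHom.congr_fun h2 c
  change Algebra.TensorProduct.congr σ₀.symm AlgEquiv.refl (ψ₁.symm (algebraMap K L c)) = _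
  rw [← hψ c, ψ₁.symm_apply_apply, Algebra.TensorProduct.congr_apply,
    Algebra.TensorProduct.map_tmul, map_one]
  rfl

/-- **An unramified extension of DVRs with separable residue and fraction field extensions is
regular.** -/
theorem isRegularHom_of_dvr_extension
    (he : (maximalIdeal R).map (algebraMap R Λ) = maximalIdeal Λ)
    [Algebra.IsGeometricallyReduced (ResidueField R) (ResidueField Λ)]
    [Algebra.IsGeometricallyReduced K L] : CAlg.IsRegularHom R Λ := by
  refine ⟨inferInstance, fun p hp => ⟨Groth.Agent.Lib.Helper28.isNoetherianRing_fiber p, ?_⟩⟩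
  by_cases hp0 : p = ⊥
  · subst hp0
    exact isGeometricallyRegular_genericFibre_dvr (K := K) (L := L) he
  · have hpm : p = maximalIdeal R := IsLocalRing.eq_maximalIdeal (hp.isMaximal hp0)
    subst hpm
    exact isGeometricallyRegular_closedFibre_dvr he

end DVR

end Groth.Agent.Lib.Helper7.Smoothing
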