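import Groth.Agent.Lib.Helper7Smoothing8

set_option autoImplicit false
set_option linter.style.haveILetI false
universe u
open MvPolynomial

namespace Groth.Agent.Lib.Helper7.Smoothing

section ChartBeta2
variable {R : Type u} [CommRing R] {n m c : ℕ} (π : R) (f : Fin m → MvPolynomial (Fin n) R)
  (rows : Fin c → Fin m)

theorem exists_chartβ (hR : ∀ r : R, π ^ 2 * r = 0 → π * r = 0)
    (hπ2 : C (π ^ 2) ∈ Ideal.span (Set.range f)) (cols : Fin c → Fin n)
    (a₂ : MvPolynomial (Fin n) R) (h : Fin m → Fin c → MvPolynomial (Fin n) R)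
    (g : Fin m → MvPolynomial (Fin n) R)
    (hhg : ∀ ℓ, (a₂ * Smoothing.jacobianMinor f rows cols) * f ℓ =
      ∑ j, h ℓ j * f (rows j) + C (π ^ 2) * g ℓ) :
    ∃ β : DD π f →ₐ[R]
        Localization.Away (chartξ π f rows (a₂ * Smoothing.jacobianMinor f rows cols)),
      (∀ p, β (DDι π f p) = algebraMap _ _ (chartξ π f rows p)) ∧
      ∀ ℓ, β (DDz π f ℓ) *
          algebraMap _ _ (chartξ π f rows (a₂ * Smoothing.jacobianMinor f rows cols)) =
        algebraMap _ _ (chartw π f rows h g ℓ) := by
  classical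
  haveI : Algebra.Smooth R (Localization.Away
      (chartξ π f rows (a₂ * Smoothing.jacobianMinor f rows cols))) :=
    chart_smooth π f rows cols a₂
  generalize hs : chartξ π f rows (a₂ * Smoothing.jacobianMinor f rows cols) = s at *
  haveI : Module.Flat R (Localization.Away s) := inferInstance
  have hu : IsUnit (algebraMap (ChartB π f rows) (Localization.Away s) s) :=
    IsLocalization.Away.algebraMap_isUnit s
  let ξ' : MvPolynomial (Fin n) R →ₐ[R] Localization.Away s :=
    (IsScalarTower.toAlgHom R (ChartB π f rows) (Localization.Away s)).comp (chartξ π f rows)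
  have hξ' : ∀ p, ξ' p = algebraMap (ChartB π f rows) (Localization.Away s)
    (chartξ π f rows p) := fun _ => rfl
  have hπB' : algebraMap (ChartB π f rows) (Localization.Away s)
      (algebraMap R (ChartB π f rows) π) = algebraMap R (Localization.Away s) π :=
    (IsScalarTower.algebraMap_apply R (ChartB π f rows) (Localization.Away s) π).symm
  let ζ : Fin m → Localization.Away s := fun ℓ =>
    algebraMap (ChartB π f rows) (Localization.Away s) (chartw π f rows h g ℓ) * ↑hu.unit⁻¹
  have h1 : ∀ ℓ, ξ' (f ℓ) = π • ζ ℓ := by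
    intro ℓ
    have e := congrArg (algebraMap (ChartB π f rows) (Localization.Away s))
      (chartξ_mul_f π f rows _ h g hhg ℓ)
    rw [hs, map_mul (algebraMap (ChartB π f rows) (Localization.Away s)),
      map_mul (algebraMap (ChartB π f rows) (Localization.Away s)), hπB'] at e
    rw [hξ', Algebra.smul_def, ← mul_assoc, ← e, mul_comm, ← mul_assoc, IsUnit.val_inv_mul,
      one_mul]
  have hΔu : IsUnit (ξ' (Smoothing.jacobianMinor f rows cols)) := by
    have : IsUnit (ξ' a₂ * ξ' (Smoothing.jacobianMinor f rows cols)) := by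
      rw [← map_mul, hξ', hs]
      exact hu
    exact isUnit_of_mul_isUnit_right this
  have hw : ∀ ℓ, ζ ℓ = (∑ j, ξ' (h ℓ j) * algebraMap (ChartB π f rows) (Localization.Away s)
      (charty π f rows j) + algebraMap R (Localization.Away s) π * ξ' (g ℓ)) * ↑hu.unit⁻¹ := by
    intro ℓ
    change algebraMap (ChartB π f rows) (Localization.Away s) (chartw π f rows h g ℓ) *
      ↑hu.unit⁻¹ = _
    rw [chartw, map_add, map_sum, map_mul, hπB']
    simp only [map_mul, hξ']
  obtain ⟨β, hβι, hβz⟩ := exists_DD_lift π f (T := Localization.Away s)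
    (fun x hx => smul_eq_zero_of_sq_smul_of_flat π hR x hx) ξ' ζ h1
    (fun cc gg hcg => sum_mem_span_of_chart π f rows hπ2 cols _ h g hhg ξ' _ ζ _ h1 hw hΔu
      cc gg hcg)
  refine ⟨β, fun p => by rw [hβι, hξ'], fun ℓ => ?_⟩
  rw [hβz]
  change algebraMap (ChartB π f rows) (Localization.Away s) (chartw π f rows h g ℓ) *
    ↑hu.unit⁻¹ * algebraMap (ChartB π f rows) (Localization.Away s) s = _
  rw [mul_assoc, IsUnit.val_inv_mul, mul_one]

end ChartBeta2

end Groth.Agent.Lib.Helper7.Smoothing
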