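import Groth.Agent.Lib.Helper7Synt27

/-! # Semilinear transport of local complete intersections (helper7)

* `isLCIOver_of_semilinear`, `isLCIOver_of_semilinear'`: transport of `IsLCIOver` along a ring
  isomorphism which is semilinear over an isomorphism of fields.
-/

set_option autoImplicit false
set_option linter.style.haveILetI false
universe u

open TensorProduct

namespace Groth.Agent.Lib.Helper7.Synt

section Semilinear

variable {k k' B B' : Type u} [Field k] [Field k'] [CommRing B] [CommRing B']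
  [Algebra k B] [Algebra k' B']

theorem isLCIOver_of_semilinear (σ : k →+* k') (hσ : Function.Bijective σ) (e : B ≃+* B')
    (he : ∀ x, e (algebraMap k B x) = algebraMap k' B' (σ x)) (h : Synt.IsLCIOver k B) :
    Synt.IsLCIOver k' B' := by
  letI : Algebra k k' := σ.toAlgebra
  letI : Algebra k B' := ((algebraMap k' B').comp σ).toAlgebra
  haveI : IsScalarTower k k' B' := .of_algebraMap_eq' rfl
  let eA : B ≃ₐ[k] B' := AlgEquiv.ofRingEquiv (f := e) he
  have h1 : Synt.IsLCIOver k B' := isLCIOver_of_algEquiv k eA h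
  have h2 : Synt.IsLCIOver k' (k' ⊗[k] B') := isLCIOver_baseChange k k' B' h1
  let μ : k' ⊗[k] B' →ₐ[k'] B' :=
    Algebra.TensorProduct.lift (Algebra.ofId k' B') (AlgHom.id k B') (fun _ _ => Commute.all _ _)
  have hμ : ∀ b : B', μ ((1 : k') ⊗ₜ[k] b) = b := by
    intro b
    simp [μ]
  have hform : ∀ x : k' ⊗[k] B', ∃ b : B', x = (1 : k') ⊗ₜ[k] b := by
    intro x
    induction x using TensorProduct.induction_on with
    | zero => exact ⟨0, (TensorProduct.tmul_zero _ _).symm⟩
    | tmul a b =>
      obtain ⟨a₀, rfl⟩ := hσ.2 a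
      refine ⟨a₀ • b, ?_⟩
      have : σ a₀ = a₀ • (1 : k') := by
        rw [Algebra.smul_def, mul_one]
        rfl
      rw [this, TensorProduct.smul_tmul]
    | add x y hx hy =>
      obtain ⟨b₁, rfl⟩ := hx
      obtain ⟨b₂, rfl⟩ := hy
      exact ⟨b₁ + b₂, (TensorProduct.tmul_add _ _ _).symm⟩
  have hbij : Function.Bijective μ := by
    constructor
    · intro x y hxy
      obtain ⟨b₁, rfl⟩ := hform x
      obtain ⟨b₂, rfl⟩ := hform y
      rw [hμ, hμ] at hxy
      rw [hxy]
    · intro b
      exact ⟨_, hμ b⟩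
  exact isLCIOver_of_algEquiv k' (AlgEquiv.ofBijective μ hbij) h2

theorem isLCIOver_of_semilinear' (σ : k →+* k') (hσ : Function.Bijective σ) (e : B ≃+* B')
    (he : ∀ x, e (algebraMap k B x) = algebraMap k' B' (σ x)) (h : Synt.IsLCIOver k' B') :
    Synt.IsLCIOver k B := by
  let σ' : k ≃+* k' := RingEquiv.ofBijective σ hσ
  refine isLCIOver_of_semilinear (σ'.symm : k' →+* k) σ'.symm.bijective e.symm ?_ h
  intro x
  obtain ⟨y, rfl⟩ := hσ.2 x
  have : σ'.symm (σ y) = y := σ'.symm_apply_apply y
  show e.symm _ = algebraMap k B (σ'.symm (σ y))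
  rw [this, ← he, e.symm_apply_apply]

end Semilinear

end Groth.Agent.Lib.Helper7.Synt
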