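import Groth.Agent.Lib.Helper7Synt28

/-! # Syntomic ring maps and localization (helper7)

* `exists_semilinear_fiber_of_isLocalization`: fibres of an `R'`-algebra over `R'` and over `R`,
  for a localization `R → R'`;
* `isSyntomic_away_target`: `R → S` syntomic implies `R → S_s` syntomic;
* `isSyntomic_of_isLocalization_source`: `R' → T` syntomic, `R'` a localization of `R` which is of
  finite presentation, implies `R → T` syntomic;
* `isSyntomic_localization_base`: `R → S'` syntomic and factoring through a localization `R'` of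
  `R` implies `R' → S'` syntomic.
-/

set_option autoImplicit false
set_option linter.style.haveILetI false
universe u
open TensorProduct

namespace Groth.Agent.Lib.Helper7.Synt

theorem isLCIOver_of_subsingleton (k B : Type u) [Field k] [CommRing B] [Algebra k B]
    [Subsingleton B] : Synt.IsLCIOver k B := by
  refine ⟨⟨⟨∅, ?_⟩⟩, fun P => ?_⟩
  · exact Subsingleton.elim _ _
  · exact absurd (Subsingleton.elim _ _) P.isPrime.ne_top

section LocFib

variable {R R' T : Type u} [CommRing R] [CommRing R'] [CommRing T]
    [Algebra R R'] [Algebra R' T] [Algebra R T] [IsScalarTower R R' T]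

/-- For a localization `R → R'`, the fibre of an `R'`-algebra `T` over a prime `p'` of `R'` is
(semilinearly) the fibre of the `R`-algebra `T` over the contraction of `p'`. -/
theorem exists_semilinear_fiber_of_isLocalization (M : Submonoid R) [IsLocalization M R']
    (p' : Ideal R') [p'.IsPrime] (p : Ideal R) [p.IsPrime]
    (hp : p = p'.comap (algebraMap R R')) :
    ∃ (σ : p.ResidueField →+* p'.ResidueField) (_ : Function.Bijective σ)
      (e : p.Fiber T ≃+* p'.Fiber T),
      ∀ x, e (algebraMap p.ResidueField (p.Fiber T) x) =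
        algebraMap p'.ResidueField (p'.Fiber T) (σ x) := by
  have hbij : Function.Bijective (Ideal.ResidueField.map p p' (algebraMap R R') hp) :=
    (RingHom.surjectiveOnStalks_of_isLocalization M R').residueFieldMap_bijective p p' hp
  let σA : p.ResidueField ≃ₐ[R] p'.ResidueField :=
    AlgEquiv.ofBijective (Ideal.ResidueField.mapₐ p p' (Algebra.ofId R R') hp) hbij
  let e₁ : p.ResidueField ⊗[R] T ≃ₐ[R] p'.ResidueField ⊗[R] T :=
    Algebra.TensorProduct.congr σA AlgEquiv.refl
  let e₂ : p'.ResidueField ⊗[R'] T ≃ₐ[R'] p'.ResidueField ⊗[R] T :=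
    IsLocalization.algebraTensorEquiv M R' p'.ResidueField T
  refine ⟨Ideal.ResidueField.map p p' (algebraMap R R') hp, hbij,
    e₁.toRingEquiv.trans e₂.toRingEquiv.symm, fun x => ?_⟩
  show e₂.symm (e₁ (x ⊗ₜ[R] (1 : T))) =
    (Ideal.ResidueField.map p p' (algebraMap R R') hp x) ⊗ₜ[R'] (1 : T)
  rw [AlgEquiv.symm_apply_eq]
  rfl

/-- `R' → T` syntomic and `R → R'` a localization of finite presentation: `R → T` is syntomic. -/
theorem isSyntomic_of_isLocalization_source (M : Submonoid R) [IsLocalization M R']
    [Algebra.FinitePresentation R R'] (h : Synt.IsSyntomic R' T) : Synt.IsSyntomic R T := by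
  obtain ⟨hflat, hfp, hfib⟩ := h
  haveI := hflat
  haveI := hfp
  haveI : Module.Flat R R' := IsLocalization.flat R' M
  refine ⟨Module.Flat.trans R R' T, Algebra.FinitePresentation.trans R R' T, fun p => ?_⟩
  by_cases hdisj : Disjoint (M : Set R) (p.asIdeal : Set R)
  · haveI hp'prime : (p.asIdeal.map (algebraMap R R')).IsPrime :=
      IsLocalization.isPrime_of_isPrime_disjoint M R' _ p.isPrime hdisj
    have hcomap : p.asIdeal = (p.asIdeal.map (algebraMap R R')).comap (algebraMap R R') :=
      (IsLocalization.under_map_of_isPrime_disjoint M R' p.isPrime hdisj).symm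
    obtain ⟨σ, hσ, e, he⟩ := exists_semilinear_fiber_of_isLocalization (T := T) M
      (p.asIdeal.map (algebraMap R R')) p.asIdeal hcomap
    exact isLCIOver_of_semilinear' σ hσ e he (hfib ⟨_, hp'prime⟩)
  · haveI : Subsingleton (p.asIdeal.Fiber T) := by
      rw [Set.not_disjoint_iff] at hdisj
      obtain ⟨m, hmM, hmp⟩ := hdisj
      have hu : IsUnit (algebraMap R T m) := by
        rw [IsScalarTower.algebraMap_apply R R' T]
        exact (IsLocalization.map_units R' ⟨m, hmM⟩).map _
      obtain ⟨u, hu'⟩ := hu
      have h0 : algebraMap R p.asIdeal.ResidueField m = 0 :=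
        Ideal.algebraMap_residueField_eq_zero.mpr hmp
      refine subsingleton_of_zero_eq_one ?_
      have h1 : (1 : p.asIdeal.Fiber T) = (1 : p.asIdeal.ResidueField) ⊗ₜ[R] (1 : T) := rfl
      have h2 : (1 : T) = m • (↑u⁻¹ : T) := by
        rw [Algebra.smul_def, ← hu', Units.mul_inv]
      rw [h1, h2, ← TensorProduct.smul_tmul, Algebra.smul_def, mul_one, h0,
        TensorProduct.zero_tmul]
    exact isLCIOver_of_subsingleton _ _

/-- if `R → S'` is syntomic and factors through a localization `R'` of `R` (of finite type),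
then `R' → S'` is syntomic. -/
theorem isSyntomic_localization_base (M : Submonoid R) [IsLocalization M R']
    [Algebra.FiniteType R R'] (h : Synt.IsSyntomic R T) : Synt.IsSyntomic R' T := by
  obtain ⟨hflat, hfp, hfib⟩ := h
  haveI := hflat
  haveI := hfp
  refine ⟨(Module.flat_iff_of_isLocalization R' M T).mpr hflat,
    Algebra.FinitePresentation.of_restrict_scalars_finitePresentation R R' T, fun p' => ?_⟩
  obtain ⟨σ, hσ, e, he⟩ := exists_semilinear_fiber_of_isLocalization (T := T) M
    p'.asIdeal (p'.asIdeal.comap (algebraMap R R')) rfl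
  exact isLCIOver_of_semilinear σ hσ e he
    (hfib ⟨p'.asIdeal.comap (algebraMap R R'), Ideal.comap_isPrime _ _⟩)

end LocFib

section Target

variable {R S T : Type u} [CommRing R] [CommRing S] [CommRing T] [Algebra R S] [Algebra S T]
  [Algebra R T] [IsScalarTower R S T]

/-- `R → S` syntomic implies `R → S_s` syntomic. -/
theorem isSyntomic_away_target (s : S) [IsLocalization.Away s T] (h : Synt.IsSyntomic R S) :
    Synt.IsSyntomic R T := by
  obtain ⟨hflat, hfp, hfib⟩ := h
  haveI := hflat
  haveI := hfp
  haveI : Module.Flat S T := IsLocalization.flat T (Submonoid.powers s)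
  haveI : Algebra.FinitePresentation S T := IsLocalization.Away.finitePresentation s
  refine ⟨Module.Flat.trans R S T, Algebra.FinitePresentation.trans R S T, fun p => ?_⟩
  have h1 := isLCIOver_away p.asIdeal.ResidueField (hfib p)
    ((1 : p.asIdeal.ResidueField) ⊗ₜ[R] s)
  let ψ : p.asIdeal.ResidueField ⊗[R] S →ₐ[p.asIdeal.ResidueField]
      p.asIdeal.ResidueField ⊗[R] T :=
    Algebra.TensorProduct.map (AlgHom.id _ _) (IsScalarTower.toAlgHom R S T)
  letI : Algebra (p.asIdeal.Fiber S) (p.asIdeal.Fiber T) := ψ.toRingHom.toAlgebra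
  haveI htower : IsScalarTower p.asIdeal.ResidueField (p.asIdeal.Fiber S) (p.asIdeal.Fiber T) := by
    refine ⟨fun a b c => ?_⟩
    change ψ (a • b) * c = a • (ψ b * c)
    rw [map_smul, smul_mul_assoc]
  haveI hloc' : IsLocalization.Away ((1 : p.asIdeal.ResidueField) ⊗ₜ[R] s : p.asIdeal.Fiber S)
      (p.asIdeal.Fiber T) := by
    have hpow : Submonoid.powers ((1 : p.asIdeal.ResidueField) ⊗ₜ[R] s : p.asIdeal.Fiber S) =
        (Submonoid.powers s).map (Algebra.TensorProduct.includeRight (R := R)
          (A := p.asIdeal.ResidueField) (B := S)) := by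
      rw [Submonoid.map_powers]
      rfl
    rw [IsLocalization.Away, hpow]
    refine IsLocalization.tensorProduct_tensorProduct_right R p.asIdeal.ResidueField
      (Submonoid.powers s) T ?_
    ext x
    simp [RingHom.algebraMap_toAlgebra, ψ]
  let ε : Localization.Away ((1 : p.asIdeal.ResidueField) ⊗ₜ[R] s : p.asIdeal.Fiber S)
      ≃ₐ[p.asIdeal.Fiber S] p.asIdeal.Fiber T :=
    IsLocalization.algEquiv
      (Submonoid.powers ((1 : p.asIdeal.ResidueField) ⊗ₜ[R] s : p.asIdeal.Fiber S)) _ _
  exact isLCIOver_of_algEquiv _ (ε.restrictScalars p.asIdeal.ResidueField) h1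

end Target

end Groth.Agent.Lib.Helper7.Synt
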