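import Groth.Agent.Lib.Helper7Synt30

/-! # Syntomic over a field = local complete intersection (helper7)

* `isSyntomic_field_iff`: over a field `K`, `Synt.IsSyntomic K B ↔ Synt.IsLCIOver K B`;
* `syntomicHom_iff_isLCIOver`: for `φ : K →+* B` with `K` a field identified with `k` via a ring
  isomorphism compatible with the `k`-algebra structure of `B`:
  `SyntomicHom φ ↔ Synt.IsLCIOver k B`.
-/

set_option autoImplicit false
set_option linter.style.haveILetI false
universe u
open TensorProduct

namespace Groth.Agent.Lib.Helper7.Synt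

section Field

variable (K B : Type u) [Field K] [CommRing B] [Algebra K B]

/-- the fibre of a `K`-algebra over a prime of the field `K` is `B`, semilinearly. -/
theorem exists_semilinear_fiber_field (p : Ideal K) [p.IsPrime] :
    ∃ (σ : K →+* p.ResidueField) (_ : Function.Bijective σ) (e : B ≃+* p.Fiber B),
      ∀ x, e (algebraMap K B x) = algebraMap p.ResidueField (p.Fiber B) (σ x) := by
  let σA : K ≃ₐ[K] p.ResidueField := p.algEquivResidueFieldOfField
  let e₁ : K ⊗[K] B ≃ₐ[K] p.ResidueField ⊗[K] B := Algebra.TensorProduct.congr σA AlgEquiv.refl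
  let e₀ : B ≃ₐ[K] K ⊗[K] B := (Algebra.TensorProduct.lid K B).symm
  refine ⟨algebraMap K p.ResidueField, σA.bijective, (e₀.trans e₁).toRingEquiv, fun x => ?_⟩
  show e₁ (e₀ (algebraMap K B x)) = (algebraMap K p.ResidueField x) ⊗ₜ[K] (1 : B)
  rw [AlgEquiv.commutes, AlgEquiv.commutes, Algebra.TensorProduct.algebraMap_apply]

theorem isSyntomic_field_iff : Synt.IsSyntomic K B ↔ Synt.IsLCIOver K B := by
  constructor
  · rintro ⟨-, -, hfib⟩
    obtain ⟨σ, hσ, e, he⟩ := exists_semilinear_fiber_field K B (⊥ : Ideal K)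
    exact isLCIOver_of_semilinear' σ hσ e he (hfib ⟨⊥, Ideal.isPrime_bot⟩)
  · intro h
    haveI := h.1
    refine ⟨inferInstance, Algebra.FinitePresentation.of_finiteType.mp h.1, fun p => ?_⟩
    obtain ⟨σ, hσ, e, he⟩ := exists_semilinear_fiber_field K B p.asIdeal
    exact isLCIOver_of_semilinear σ hσ e he h

end Field

section Hom

variable {k K B : Type u} [Field k] [CommRing K] [CommRing B] [Algebra k B]

theorem syntomicHom_iff_isLCIOver (φ : K →+* B) (ι : k →+* K) (hι : Function.Bijective ι)
    (hcomp : algebraMap k B = φ.comp ι) : SyntomicHom φ ↔ Synt.IsLCIOver k B := by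
  have hK : IsField K :=
    MulEquiv.isField (Field.toIsField k) (RingEquiv.ofBijective ι hι).symm.toMulEquiv
  letI : Field K := hK.toField
  letI := φ.toAlgebra
  show Synt.IsSyntomic K B ↔ _
  rw [isSyntomic_field_iff]
  have he : ∀ x, (RingEquiv.refl B) (algebraMap k B x) = algebraMap K B (ι x) := by
    intro x
    rw [hcomp]
    rfl
  exact ⟨isLCIOver_of_semilinear' ι hι (RingEquiv.refl B) he,
    isLCIOver_of_semilinear ι hι (RingEquiv.refl B) he⟩

end Hom

end Groth.Agent.Lib.Helper7.Synt
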