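import Groth.Agent.Lib.Helper7Synt32

/-! # Syntomic morphisms and fibres (helper7)

* `fiber_iff_of_isPullback`: fibres of a base change along an open immersion;
* `syntomicMor_fiber_comp_of_isOpenImmersion`: fibres of the restriction to an open of the source;
* `syntomicMor_fiber_Spec_iff`: in the affine case, the fibre morphism is syntomic iff the fibre
  ring is a local complete intersection over the residue field;
* `isLCIOver_fiber_appLE_of_fiber`: the fibre rings of `Γ(S, V) → Γ(X, U)` are lci as soon as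
  the scheme-theoretic fibres of `f` are syntomic.
-/

set_option autoImplicit false
set_option linter.style.haveILetI false
universe u
open TensorProduct AlgebraicGeometry CategoryTheory CategoryTheory.Limits

namespace Groth.Agent.Lib.Helper7.Synt

lemma iff_of_isPullback_of_isIso {C : Type*} [Category C] (P : MorphismProperty C) [P.RespectsIso]
    {A B C' D : C} {t : A ⟶ B} {l : A ⟶ C'} {r : B ⟶ D} {b : C' ⟶ D} (sq : IsPullback t l r b)
    [IsIso b] : P l ↔ P r := by
  haveI := sq.isIso_fst_of_isIso
  exact P.arrow_mk_iso_iff (Arrow.isoMk (asIso t) (asIso b) sq.w)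

/-- for a base change along an open immersion the fibre maps are isomorphic -/
theorem fiber_iff_of_isPullback (P : MorphismProperty Scheme.{u}) [P.RespectsIso]
    {P' X Y Z : Scheme.{u}} {fst : P' ⟶ X} {snd : P' ⟶ Y}
    {f : X ⟶ Z} {g : Y ⟶ Z} [IsOpenImmersion g] (h : IsPullback fst snd f g) (y : Y) :
    P (snd.fiberToSpecResidueField y) ↔ P (f.fiberToSpecResidueField (g y)) :=
  iff_of_isPullback_of_isIso P (isPullback_fiberToSpecResidueField_of_isPullback h y)

theorem syntomicMor_fiber_comp_of_isOpenImmersion {U' X' Y : Scheme.{u}} (j : U' ⟶ X')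
    [IsOpenImmersion j] (h : X' ⟶ Y) (v : Y)
    (H : syntomicMor (h.fiberToSpecResidueField v)) :
    syntomicMor ((j ≫ h).fiberToSpecResidueField v) := by
  let m : (j ≫ h).fiber v ⟶ h.fiber v :=
    pullback.map (j ≫ h) (Y.fromSpecResidueField v) h (Y.fromSpecResidueField v) j (𝟙 _) (𝟙 _)
      (by simp) (by simp)
  have hm : (j ≫ h).fiberToSpecResidueField v = m ≫ h.fiberToSpecResidueField v := by
    show pullback.snd _ _ = pullback.map _ _ _ _ _ _ _ _ _ ≫ pullback.snd _ _
    rw [pullback.lift_snd, Category.comp_id]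
  haveI : IsOpenImmersion m := by
    show IsOpenImmersion (pullback.map _ _ _ _ _ _ _ _ _)
    infer_instance
  rw [hm]
  exact HasRingHomProperty.comp_of_isOpenImmersion syntomicMor m _ H

theorem syntomicMor_fiber_Spec_iff {R A : CommRingCat.{u}} (φ : R ⟶ A) (p : PrimeSpectrum R) :
    letI := φ.hom.toAlgebra
    syntomicMor ((Spec.map φ).fiberToSpecResidueField p) ↔
      Synt.IsLCIOver p.asIdeal.ResidueField (p.asIdeal.Fiber A) := by
  letI := φ.hom.toAlgebra
  have h1 := MorphismProperty.arrow_mk_iso_iff syntomicMor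
    (Spec.fiberToSpecResidueFieldIso R A p)
  have h2 : syntomicMor ((Spec.map φ).fiberToSpecResidueField p) ↔
      syntomicMor (Spec.map (CommRingCat.ofHom
        (algebraMap p.asIdeal.ResidueField (p.asIdeal.Fiber A)))) := h1
  rw [h2, HasRingHomProperty.Spec_iff (P := syntomicMor)]
  show SyntomicHom (algebraMap p.asIdeal.ResidueField (p.asIdeal.Fiber A)) ↔ _
  rw [syntomicHom_algebraMap, isSyntomic_field_iff]

theorem isLCIOver_fiber_appLE_of_fiber {X S : Scheme.{u}} (f : X ⟶ S)
    (hfib : ∀ s : S, Synt.IsSyntomicMor (f.fiberToSpecResidueField s))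
    {U : X.Opens} {V : S.Opens} (hU : IsAffineOpen U) (hV : IsAffineOpen V) (e : U ≤ f ⁻¹ᵁ V)
    (p : PrimeSpectrum Γ(S, V)) :
    letI := (f.appLE V U e).hom.toAlgebra
    Synt.IsLCIOver p.asIdeal.ResidueField (p.asIdeal.Fiber Γ(X, U)) := by
  letI := (f.appLE V U e).hom.toAlgebra
  rw [← syntomicMor_fiber_Spec_iff (f.appLE V U e) p]
  -- the square with horizontal isomorphisms
  have sq : IsPullback hU.isoSpec.inv (Spec.map (f.appLE V U e)) (f.resLE V U e)
      hV.isoSpec.inv := by
    refine IsPullback.of_horiz_isIso ⟨?_⟩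
    rw [← cancel_mono hV.isoSpec.hom, Category.assoc, Category.assoc, Iso.inv_hom_id,
      Category.comp_id, ← isoSpec_hom_SpecMap_appLE f hU hV e, Iso.inv_hom_id_assoc]
  rw [fiber_iff_of_isPullback syntomicMor sq p]
  -- the restriction to `U ⊆ f ⁻¹ V`
  have hres : f.resLE V U e = X.homOfLE e ≫ f ∣_ V := rfl
  rw [hres]
  apply syntomicMor_fiber_comp_of_isOpenImmersion
  rw [fiber_iff_of_isPullback syntomicMor (isPullback_morphismRestrict f V).flip]
  exact (isSyntomicMor_iff_syntomicMor _).mp (hfib _)

end Groth.Agent.Lib.Helper7.Synt
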