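import Groth.Agent.Lib.Helper7Synt33
import Groth.Agent.Lib.Helper7CIMor
import Groth.Agent.S2166

/-! # Complete intersections over a field vs. absolute complete intersections (helper7)

* `isCIOver_iff_isCompleteIntersection`: for a local `k`-algebra essentially of finite type,
  `Synt.IsCIOver k S ↔ Pi1.IsCompleteIntersection S`;
* for a scheme `Z` locally of finite type over a field `K`: the stalks are essentially of finite
  type over `K` (`essFiniteType_stalk`), `isCIOver_stalk_iff`.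
-/

set_option autoImplicit false
set_option linter.style.haveILetI false
universe u
open TensorProduct AlgebraicGeometry CategoryTheory CategoryTheory.Limits

namespace Groth.Agent.Lib.Helper7.Synt

section Bridge

variable (k : Type u) [Field k] (S : Type u) [CommRing S] [IsLocalRing S] [Algebra k S]

theorem isCIOver_iff_isCompleteIntersection [Algebra.EssFiniteType k S] :
    Synt.IsCIOver k S ↔ Pi1.IsCompleteIntersection S := by
  obtain ⟨R, _, _, _, hess, π, hπ⟩ := exists_regular_presentation k S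
  rw [isCIOver_iff_regular_ker k R hess π hπ]
  have hne : RingHom.ker π.toRingHom ≠ ⊤ := RingHom.ker_ne_top _
  haveI : IsLocalRing (R ⧸ RingHom.ker π.toRingHom) :=
    Groth.Agent.Lib.Helper5.isLocalRing_quotient hne
  haveI : IsNoetherianRing S := isNoetherianRing_of_surjective R S π.toRingHom hπ
  let e : R ⧸ RingHom.ker π.toRingHom ≃+* S := RingHom.quotientKerEquivOfSurjective hπ
  rw [← Groth.Agent.S2166.result (RingHom.ker π.toRingHom) hne]
  exact ⟨Groth.Agent.Lib.Helper7.CILocus.isCompleteIntersection_of_ringEquiv e,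
    Groth.Agent.Lib.Helper7.CILocus.isCompleteIntersection_of_ringEquiv e.symm⟩

end Bridge

section Scheme

variable {K : Type u} [Field K] {Z : Scheme.{u}} (q : Z ⟶ Spec (CommRingCat.of K))

theorem finiteType_section_of_lft [LocallyOfFiniteType q] {U : Z.Opens} (hU : IsAffineOpen U) :
    letI := ((Scheme.ΓSpecIso (CommRingCat.of K)).inv ≫ q.appLE ⊤ U le_top).hom.toAlgebra
    Algebra.FiniteType K Γ(Z, U) := by
  letI := ((Scheme.ΓSpecIso (CommRingCat.of K)).inv ≫ q.appLE ⊤ U le_top).hom.toAlgebra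
  have hι : Function.Bijective (Scheme.ΓSpecIso (CommRingCat.of K)).inv.hom :=
    ConcreteCategory.bijective_of_isIso (Scheme.ΓSpecIso (CommRingCat.of K)).inv
  have h1 : (q.appLE ⊤ U le_top).hom.FiniteType :=
    LocallyOfFiniteType.finiteType_appLE q (isAffineOpen_top _) hU le_top
  have h2 : (Scheme.ΓSpecIso (CommRingCat.of K)).inv.hom.FiniteType := RingHom.FiniteType.of_surjective _ hι.2
  have h3 : ((q.appLE ⊤ U le_top).hom.comp (Scheme.ΓSpecIso (CommRingCat.of K)).inv.hom).FiniteType := h1.comp h2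
  exact h3

theorem nonempty_algEquiv_stalk {U : Z.Opens} (hU : IsAffineOpen U) (z : Z) (hz : z ∈ U) :
    letI := ((Scheme.ΓSpecIso (CommRingCat.of K)).inv ≫ q.appLE ⊤ U le_top).hom.toAlgebra
    letI := ((Scheme.ΓSpecIso (CommRingCat.of K)).inv ≫ q.appLE ⊤ ⊤ le_top ≫
      Z.presheaf.germ ⊤ z trivial).hom.toAlgebra
    Nonempty (Localization.AtPrime (hU.primeIdealOf ⟨z, hz⟩).asIdeal ≃ₐ[K]
      Z.presheaf.stalk z) := by
  letI := ((Scheme.ΓSpecIso (CommRingCat.of K)).inv ≫ q.appLE ⊤ U le_top).hom.toAlgebra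
  letI := ((Scheme.ΓSpecIso (CommRingCat.of K)).inv ≫ q.appLE ⊤ ⊤ le_top ≫
    Z.presheaf.germ ⊤ z trivial).hom.toAlgebra
  letI := Z.presheaf.algebra_section_stalk ⟨z, hz⟩
  haveI := hU.isLocalization_stalk ⟨z, hz⟩
  haveI : IsScalarTower K Γ(Z, U) (Z.presheaf.stalk z) := by
    refine .of_algebraMap_eq' ?_
    show ((Scheme.ΓSpecIso (CommRingCat.of K)).inv ≫ q.appLE ⊤ ⊤ le_top ≫
      Z.presheaf.germ ⊤ z trivial).hom = (Z.presheaf.germ U z hz).hom.comp
        ((Scheme.ΓSpecIso (CommRingCat.of K)).inv ≫ q.appLE ⊤ U le_top).hom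
    rw [← CommRingCat.hom_comp, Category.assoc]
    congr 2
    rw [← q.appLE_map (le_top : (⊤ : Z.Opens) ≤ q ⁻¹ᵁ ⊤) (homOfLE (le_top : U ≤ ⊤)).op,
      Category.assoc, TopCat.Presheaf.germ_res]
  exact ⟨(IsLocalization.algEquiv (hU.primeIdealOf ⟨z, hz⟩).asIdeal.primeCompl
    (Localization.AtPrime (hU.primeIdealOf ⟨z, hz⟩).asIdeal)
    (Z.presheaf.stalk z)).restrictScalars K⟩

theorem essFiniteType_stalk [LocallyOfFiniteType q] (z : Z) :
    letI := ((Scheme.ΓSpecIso (CommRingCat.of K)).inv ≫ q.appLE ⊤ ⊤ le_top ≫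
      Z.presheaf.germ ⊤ z trivial).hom.toAlgebra
    Algebra.EssFiniteType K (Z.presheaf.stalk z) := by
  letI := ((Scheme.ΓSpecIso (CommRingCat.of K)).inv ≫ q.appLE ⊤ ⊤ le_top ≫
    Z.presheaf.germ ⊤ z trivial).hom.toAlgebra
  obtain ⟨_, ⟨U : Z.Opens, hU, rfl⟩, hzU, -⟩ :=
    Z.isBasis_affineOpens.exists_subset_of_mem_open (Set.mem_univ z) isOpen_univ
  replace hU : IsAffineOpen U := hU
  letI := ((Scheme.ΓSpecIso (CommRingCat.of K)).inv ≫ q.appLE ⊤ U le_top).hom.toAlgebra
  haveI := finiteType_section_of_lft q hU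
  obtain ⟨ε⟩ := nonempty_algEquiv_stalk q hU z hzU
  exact (Algebra.EssFiniteType.iff_of_algEquiv ε).mp inferInstance

theorem isCIOver_stalk_iff [LocallyOfFiniteType q] (z : Z) :
    letI := ((Scheme.ΓSpecIso (CommRingCat.of K)).inv ≫ q.appLE ⊤ ⊤ le_top ≫
      Z.presheaf.germ ⊤ z trivial).hom.toAlgebra
    Synt.IsCIOver K (Z.presheaf.stalk z) ↔ Pi1.IsCompleteIntersection (Z.presheaf.stalk z) := by
  letI := ((Scheme.ΓSpecIso (CommRingCat.of K)).inv ≫ q.appLE ⊤ ⊤ le_top ≫
    Z.presheaf.germ ⊤ z trivial).hom.toAlgebra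
  haveI := essFiniteType_stalk q z
  exact isCIOver_iff_isCompleteIntersection K (Z.presheaf.stalk z)

end Scheme

end Groth.Agent.Lib.Helper7.Synt
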