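import Groth.Agent.Lib.Helper7Synt35

/-! # Syntomic algebras over Noetherian rings: presentations by regular sequences (helper7)

* `isWeaklyRegular_ring_iff`: colon criterion for weakly regular sequences of a ring;
* `exists_isWeaklyRegular_away`: spreading out a regular sequence from `P_q` to some `P_h`;
* `isWeaklyRegular_polynomial_cons`: `(hY - 1, rs)` is weakly regular in `P[Y]` if `rs` is in `P_h`;
* `thetaLast`: `A[x_1..x_n, y] ≃ A[x_1..x_n][Y]`;
* `exists_regular_presentation_of_isSyntomic` (Noetherian base).
-/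

set_option autoImplicit false
set_option linter.style.haveILetI false
universe u
open RingTheory.Sequence Polynomial
open scoped Pointwise

namespace Groth.Agent.Lib.Helper7.Synt

section W

theorem isWeaklyRegular_ring_iff {T : Type*} [CommRing T] (ts : List T) :
    IsWeaklyRegular T ts ↔ ∀ (i : ℕ) (hi : i < ts.length), ∀ x : T,
      ts[i] * x ∈ Ideal.ofList (ts.take i) → x ∈ Ideal.ofList (ts.take i) := by
  rw [isWeaklyRegular_iff]
  refine forall_congr' fun i => forall_congr' fun hi => ?_
  rw [isSMulRegular_quotient_iff_mem_of_smul_mem]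
  have h : (Ideal.ofList (ts.take i) • (⊤ : Submodule T T)) = Ideal.ofList (ts.take i) := by
    rw [smul_eq_mul, Ideal.mul_top]
  rw [h]
  rfl

variable {P : Type u} [CommRing P]

/-- the colon condition for a localization, from a uniform denominator. -/
theorem isWeaklyRegular_away_of_colon (rs : List P) (h : P)
    (H : ∀ (i : ℕ) (hi : i < rs.length), ∀ x : P,
      rs[i] * x ∈ Ideal.ofList (rs.take i) → h * x ∈ Ideal.ofList (rs.take i))
    (T : Type*) [CommRing T] [Algebra P T] [IsLocalization.Away h T] :
    IsWeaklyRegular T (rs.map (algebraMap P T)) := by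
  rw [isWeaklyRegular_ring_iff]
  intro i hi x hx
  have hi' : i < rs.length := by simpa using hi
  have htake : Ideal.ofList ((rs.map (algebraMap P T)).take i) =
      (Ideal.ofList (rs.take i)).map (algebraMap P T) := by
    rw [← List.map_take, Ideal.map_ofList]
  have hget : (rs.map (algebraMap P T))[i] = algebraMap P T rs[i] := by simp
  rw [htake] at hx ⊢
  rw [hget] at hx
  -- write `x = a / h ^ k`
  obtain ⟨⟨a, ⟨_, k, rfl⟩⟩, hax⟩ := IsLocalization.surj (Submonoid.powers h) x
  simp only at hax
  have hu : IsUnit (algebraMap P T h) := IsLocalization.Away.algebraMap_isUnit h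
  have h1 : algebraMap P T (rs[i] * a) ∈ (Ideal.ofList (rs.take i)).map (algebraMap P T) := by
    rw [map_mul, ← hax, ← mul_assoc]
    exact Ideal.mul_mem_right _ _ hx
  rw [IsLocalization.algebraMap_mem_map_algebraMap_iff (Submonoid.powers h)] at h1
  obtain ⟨_, ⟨m, rfl⟩, hm⟩ := h1
  have h2 : h * (h ^ m * a) ∈ Ideal.ofList (rs.take i) := by
    apply H i hi'
    rw [← mul_assoc, mul_comm rs[i], mul_assoc]
    exact hm
  have h3 : algebraMap P T (h * (h ^ m * a)) ∈ (Ideal.ofList (rs.take i)).map (algebraMap P T) :=
    Ideal.mem_map_of_mem _ h2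
  rw [map_mul, map_mul, ← hax, map_pow, map_pow] at h3
  have hu2 : IsUnit (algebraMap P T h * ((algebraMap P T h) ^ m * (algebraMap P T h) ^ k)) :=
    hu.mul ((hu.pow m).mul (hu.pow k))
  have h4 : algebraMap P T h * ((algebraMap P T h) ^ m * (x * (algebraMap P T h) ^ k)) =
      (algebraMap P T h * ((algebraMap P T h) ^ m * (algebraMap P T h) ^ k)) * x := by ring
  rw [h4] at h3
  exact (Ideal.unit_mul_mem_iff_mem _ hu2).mp h3

theorem exists_colon_of_isWeaklyRegular_atPrime [IsNoetherianRing P] (q : Ideal P) [q.IsPrime]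
    (rs : List P)
    (hreg : IsWeaklyRegular (Localization.AtPrime q)
      (rs.map (algebraMap P (Localization.AtPrime q)))) :
    ∃ h : P, h ∉ q ∧ ∀ (i : ℕ) (hi : i < rs.length), ∀ x : P,
      rs[i] * x ∈ Ideal.ofList (rs.take i) → h * x ∈ Ideal.ofList (rs.take i) := by
  classical
  rw [isWeaklyRegular_ring_iff] at hreg
  -- for each index a denominator
  have hex : ∀ i : Fin rs.length, ∃ s : P, s ∉ q ∧ ∀ x : P,
      rs[i] * x ∈ Ideal.ofList (rs.take i) → s * x ∈ Ideal.ofList (rs.take i) := by
    intro i
    set J := Ideal.ofList (rs.take i) with hJ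
    set C : Ideal P := Submodule.colon (J : Submodule P P) {rs[i]} with hC
    have hCmem : ∀ x, x ∈ C ↔ rs[i] * x ∈ J := by
      intro x
      rw [hC, Submodule.mem_colon_singleton, smul_eq_mul, mul_comm]
    have hle : C.map (algebraMap P (Localization.AtPrime q)) ≤
        J.map (algebraMap P (Localization.AtPrime q)) := by
      rw [Ideal.map_le_iff_le_comap]
      intro x hx
      rw [Ideal.mem_comap]
      have hi' : (i : ℕ) < (rs.map (algebraMap P (Localization.AtPrime q))).length := by
        simp
      have htake : Ideal.ofList ((rs.map (algebraMap P (Localization.AtPrime q))).take i) =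
          J.map (algebraMap P (Localization.AtPrime q)) := by
        rw [← List.map_take, Ideal.map_ofList]
      have := hreg i hi' (algebraMap P _ x)
      rw [htake] at this
      apply this
      have hget : (rs.map (algebraMap P (Localization.AtPrime q)))[(i : ℕ)] =
          algebraMap P (Localization.AtPrime q) rs[i] := by simp
      rw [hget, ← map_mul]
      exact Ideal.mem_map_of_mem _ ((hCmem x).mp hx)
    obtain ⟨s, hs, hsC⟩ := exists_mul_mem_of_map_eq q.primeCompl (Localization.AtPrime q) C J
      (IsNoetherian.noetherian C) hle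
    exact ⟨s, hs, fun x hx => hsC x ((hCmem x).mpr hx)⟩
  choose s hs hsC using hex
  refine ⟨∏ i : Fin rs.length, s i, ?_, fun i hi x hx => ?_⟩
  · intro hmem
    obtain ⟨i, -, hi⟩ := (Ideal.IsPrime.prod_mem_iff).mp hmem
    exact hs i hi
  · have h1 := hsC ⟨i, hi⟩ x hx
    have hdvd : s ⟨i, hi⟩ ∣ ∏ j : Fin rs.length, s j :=
      Finset.dvd_prod_of_mem s (Finset.mem_univ _)
    obtain ⟨t, ht⟩ := hdvd
    rw [ht, mul_comm (s ⟨i, hi⟩) t, mul_assoc]
    exact Ideal.mul_mem_left _ _ h1

/-- **Spreading out regular sequences**: in a Noetherian ring, a sequence which is weakly regular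
in the localization at a prime `q` is weakly regular in `P_h` for some `h ∉ q`. -/
theorem exists_isWeaklyRegular_away [IsNoetherianRing P] (q : Ideal P) [q.IsPrime]
    (rs : List P)
    (hreg : IsWeaklyRegular (Localization.AtPrime q)
      (rs.map (algebraMap P (Localization.AtPrime q)))) :
    ∃ h : P, h ∉ q ∧ ∀ g : P, IsWeaklyRegular (Localization.Away (h * g))
      (rs.map (algebraMap P (Localization.Away (h * g)))) := by
  obtain ⟨h, hq, H⟩ := exists_colon_of_isWeaklyRegular_atPrime q rs hreg
  refine ⟨h, hq, fun g => isWeaklyRegular_away_of_colon rs (h * g) (fun i hi x hx => ?_) _⟩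
  rw [mul_comm h g, mul_assoc]
  exact Ideal.mul_mem_left _ _ (H i hi x hx)

end W

section X

variable {P : Type u} [CommRing P] (h : P)

theorem isSMulRegular_C_mul_X_sub_one : IsSMulRegular (Polynomial P) (C h * X - 1 : Polynomial P) := by
  rw [isSMulRegular_iff_right_eq_zero_of_smul]
  intro g hg
  rw [smul_eq_mul] at hg
  ext k
  rw [coeff_zero]
  induction k with
  | zero =>
    have := congrArg (fun p : Polynomial P => p.coeff 0) hg
    simp only [sub_mul, one_mul, coeff_sub, coeff_zero, mul_assoc, coeff_C_mul, coeff_X_mul_zero,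
      mul_zero, zero_sub, neg_eq_zero] at this
    exact this
  | succ k ih =>
    have := congrArg (fun p : Polynomial P => p.coeff (k + 1)) hg
    simp only [sub_mul, one_mul, coeff_sub, coeff_zero, mul_assoc, coeff_C_mul, coeff_X_mul, ih,
      mul_zero, zero_sub, neg_eq_zero] at this
    exact this

/-- `(C h * X - 1, rs)` is weakly regular in `P[X]` as soon as `rs` is weakly regular in `P_h`. -/
theorem isWeaklyRegular_polynomial_cons (rs : List P)
    (hreg : IsWeaklyRegular (Localization.Away h) (rs.map (algebraMap P (Localization.Away h)))) :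
    IsWeaklyRegular (Polynomial P) ((C h * X - 1 : Polynomial P) :: rs.map C) := by
  rw [isWeaklyRegular_cons_iff]
  refine ⟨isSMulRegular_C_mul_X_sub_one h, ?_⟩
  have heq : ((C h * X - 1 : Polynomial P) • (⊤ : Submodule (Polynomial P) (Polynomial P))) =
      (Ideal.span {(C h * X - 1 : Polynomial P)} : Ideal (Polynomial P)) := by
    rw [← Submodule.ideal_span_singleton_smul, smul_eq_mul, Ideal.mul_top]
  let e₁ : QuotSMulTop (C h * X - 1 : Polynomial P) (Polynomial P) ≃ₗ[Polynomial P]
      (Polynomial P ⧸ (Ideal.span {(C h * X - 1 : Polynomial P)} : Ideal (Polynomial P))) :=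
    Submodule.quotEquivOfEq _ _ heq
  let e₂ : (Polynomial P ⧸ (Ideal.span {(C h * X - 1 : Polynomial P)} : Ideal (Polynomial P))) ≃+
      Localization.Away h := (Localization.awayEquivAdjoin h).symm.toAddEquiv
  have he₂ : ∀ (r : P) (g : Polynomial P),
      e₂ (Ideal.Quotient.mk _ (C r * g)) = algebraMap P (Localization.Away h) r *
        e₂ (Ideal.Quotient.mk _ g) := by
    intro r g
    show (Localization.awayEquivAdjoin h).symm (AdjoinRoot.mk _ (C r * g)) =
      algebraMap P (Localization.Away h) r *
        (Localization.awayEquivAdjoin h).symm (AdjoinRoot.mk _ g)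
    rw [map_mul, map_mul]
    congr 1
    have : AdjoinRoot.mk (C h * X - 1 : Polynomial P) (C r) =
        algebraMap P (AdjoinRoot (C h * X - 1 : Polynomial P)) r := rfl
    rw [this, AlgEquiv.commutes]
  let e : QuotSMulTop (C h * X - 1 : Polynomial P) (Polynomial P) ≃+ Localization.Away h :=
    e₁.toAddEquiv.trans e₂
  refine (AddEquiv.isWeaklyRegular_congr (e := e) ?_).mpr hreg
  rw [List.forall₂_map_left_iff, List.forall₂_map_right_iff, List.forall₂_same]
  intro r _ x
  obtain ⟨g, rfl⟩ := Submodule.Quotient.mk_surjective _ x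
  show e₂ (e₁ (C r • Submodule.Quotient.mk g)) =
    algebraMap P (Localization.Away h) r • e₂ (e₁ (Submodule.Quotient.mk g))
  rw [smul_eq_mul]
  exact he₂ r g

end X

section Theta

variable (A : Type u) [CommRing A] (n : ℕ)

/-- `A[x_1..x_n, y] ≃ A[x_1..x_n][Y]`, the last variable going to `Y`. -/
noncomputable def thetaLast : MvPolynomial (Fin (n + 1)) A ≃ₐ[A] Polynomial (MvPolynomial (Fin n) A) :=
  (MvPolynomial.renameEquiv A (finRotate (n + 1))).trans (MvPolynomial.finSuccEquiv A n)

theorem thetaLast_X_last : thetaLast A n (MvPolynomial.X (Fin.last n)) = Polynomial.X := by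
  show MvPolynomial.finSuccEquiv A n (MvPolynomial.rename (finRotate (n + 1)) (MvPolynomial.X (Fin.last n))) = _
  rw [MvPolynomial.rename_X, finRotate_last, MvPolynomial.finSuccEquiv_X_zero]

theorem thetaLast_rename (f : MvPolynomial (Fin n) A) :
    thetaLast A n (MvPolynomial.rename Fin.castSucc f) = Polynomial.C f := by
  have h : ((thetaLast A n).toAlgHom.comp (MvPolynomial.rename Fin.castSucc)) =
      IsScalarTower.toAlgHom A (MvPolynomial (Fin n) A) (Polynomial (MvPolynomial (Fin n) A)) := by
    apply MvPolynomial.algHom_ext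
    intro i
    show MvPolynomial.finSuccEquiv A n (MvPolynomial.rename (finRotate (n + 1))
      (MvPolynomial.rename Fin.castSucc (MvPolynomial.X i))) = Polynomial.C (MvPolynomial.X i)
    rw [MvPolynomial.rename_X, MvPolynomial.rename_X, finRotate_apply, Fin.coeSucc_eq_succ,
      MvPolynomial.finSuccEquiv_X_succ]
  exact congrArg (fun φ : _ →ₐ[A] _ => φ f) h

end Theta

end Groth.Agent.Lib.Helper7.Synt
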