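import Mathlib

/-! # Jacobian criterion pieces (helper7) -/

set_option autoImplicit false
set_option linter.style.haveILetI false
set_option linter.unusedSectionVars false
universe u
open Module TensorProduct KaehlerDifferential

namespace Groth.Agent.Lib.Helper7.Synt

section LinAlg

theorem exists_embedding_det_ne_zero {K : Type*} [Field K] {c n : ℕ}
    (A : Matrix (Fin c) (Fin n) K) (h : LinearIndependent K A.row) :
    ∃ I : Fin c ↪ Fin n, (A.submatrix id I).det ≠ 0 := by
  classical
  have hrank : A.rank = c := by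
    simpa using h.rank_matrix
  have hspan : Submodule.span K (Set.range A.col) = ⊤ := by
    apply Submodule.eq_top_of_finrank_eq
    rw [← Matrix.rank_eq_finrank_span_cols, hrank]
    simp
  obtain ⟨κ, a, ha, hsp, hli⟩ := exists_linearIndependent' K A.col
  rw [hspan] at hsp
  haveI : Finite κ := Finite.of_injective a ha
  haveI : Fintype κ := Fintype.ofFinite κ
  let b : Basis κ K (Fin c → K) := Basis.mk hli (by rw [hsp])
  have hcard : Fintype.card κ = c := by
    rw [← Module.finrank_eq_card_basis b]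
    simp
  let e : Fin c ≃ κ := (Fintype.equivFinOfCardEq hcard).symm
  refine ⟨⟨a ∘ e, ha.comp e.injective⟩, ?_⟩
  have hcols : LinearIndependent K (A.submatrix id (a ∘ e)).col := by
    have : (A.submatrix id (a ∘ e)).col = (A.col ∘ a) ∘ e := by
      ext i j
      rfl
    rw [this]
    exact hli.comp e e.injective
  have := Matrix.linearIndependent_cols_iff_isUnit.mp hcols
  rw [Matrix.isUnit_iff_isUnit_det] at this
  exact this.ne_zero

theorem linearIndependent_row_of_det_ne_zero {K : Type*} [Field K] {c n : ℕ}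
    (A : Matrix (Fin c) (Fin n) K) (I : Fin c → Fin n) (h : (A.submatrix id I).det ≠ 0) :
    LinearIndependent K A.row := by
  have h1 := Matrix.linearIndependent_rows_of_det_ne_zero h
  have h2 : (fun i => A.submatrix id I i) = (LinearMap.funLeft K K I) ∘ A.row := by
    ext j i
    rfl
  rw [h2] at h1
  exact LinearIndependent.of_comp _ h1

end LinAlg

section TensorKer

variable {A : Type*} [CommRing A] {K : Type*} [CommRing K] [Algebra A K] {c : ℕ} (f : Fin c → A)
  (J : Ideal A)

theorem span_one_tmul (hJ : J = Ideal.span (Set.range f)) (hf : ∀ j, f j ∈ J) :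
    Submodule.span K (Set.range fun j : Fin c => (1 : K) ⊗ₜ[A] (⟨f j, hf j⟩ : J)) = ⊤ := by
  rw [eq_top_iff]
  rintro x -
  induction x using TensorProduct.induction_on with
  | zero => exact Submodule.zero_mem _
  | add x y hx hy => exact Submodule.add_mem _ hx hy
  | tmul a y =>
    have hy : (y : A) ∈ Ideal.span (Set.range f) := hJ ▸ y.2
    obtain ⟨b, hb⟩ := (Ideal.mem_span_range_iff_exists_fun (R := A)).mp hy
    have hy' : y = ∑ j, b j • (⟨f j, hf j⟩ : J) := by
      apply Subtype.ext
      simp [← hb]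
    have : a ⊗ₜ[A] y = ∑ j, (a * algebraMap A K (b j)) • ((1 : K) ⊗ₜ[A] (⟨f j, hf j⟩ : J)) := by
      rw [hy', TensorProduct.tmul_sum]
      apply Finset.sum_congr rfl
      intro j _
      rw [TensorProduct.tmul_smul, TensorProduct.smul_tmul', TensorProduct.smul_tmul',
        smul_eq_mul, mul_one, Algebra.smul_def, mul_comm]
    rw [this]
    exact Submodule.sum_mem _ fun j _ => Submodule.smul_mem _ _ (Submodule.subset_span ⟨j, rfl⟩)

theorem linearIndependent_one_tmul (hJ : J = Ideal.span (Set.range f))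
    (hJK : J ≤ RingHom.ker (algebraMap A K))
    (hqr : ∀ b : Fin c → A, ∑ j, b j * f j = 0 → ∀ j, b j ∈ J)
    (hf : ∀ j, f j ∈ J) :
    LinearIndependent K (fun j : Fin c => (1 : K) ⊗ₜ[A] (⟨f j, hf j⟩ : J)) := by
  classical
  -- the functionals
  have key : ∀ j₀ : Fin c, ∃ ψ : J →ₗ[A] K, ∀ j, ψ ⟨f j, hf j⟩ = if j = j₀ then 1 else 0 := by
    intro j₀
    let π : (Fin c → A) →ₗ[A] J :=
      { toFun := fun b => ⟨∑ j, b j * f j, J.sum_mem fun j _ => J.mul_mem_left _ (hf j)⟩
        map_add' := fun b b' => by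
          apply Subtype.ext
          simp [add_mul, Finset.sum_add_distrib]
        map_smul' := fun r b => by
          apply Subtype.ext
          simp [Finset.mul_sum, mul_assoc] }
    have hπ : Function.Surjective π := by
      intro y
      have hy : (y : A) ∈ Ideal.span (Set.range f) := hJ ▸ y.2
      obtain ⟨b, hb⟩ := (Ideal.mem_span_range_iff_exists_fun (R := A)).mp hy
      exact ⟨b, Subtype.ext hb⟩
    let ψ₀ : (Fin c → A) →ₗ[A] K := (Algebra.linearMap A K) ∘ₗ (LinearMap.proj j₀)
    have hle : LinearMap.ker π ≤ LinearMap.ker ψ₀ := by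
      intro b hb
      have hb' : ∑ j, b j * f j = 0 := congrArg Subtype.val (LinearMap.mem_ker.mp hb)
      have := hJK (hqr b hb' j₀)
      simpa [ψ₀] using this
    let e := π.quotKerEquivOfSurjective hπ
    refine ⟨((LinearMap.ker π).liftQ ψ₀ hle) ∘ₗ e.symm.toLinearMap, fun j => ?_⟩
    have hj : (⟨f j, hf j⟩ : J) = e (Submodule.Quotient.mk (Pi.single j 1)) := by
      apply Subtype.ext
      simp [e, π, Pi.single_apply]
    rw [hj]
    simp [ψ₀, Pi.single_apply, eq_comm]
  choose ψ hψ using key
  rw [Fintype.linearIndependent_iff]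
  intro g hg j₀
  have := congrArg (LinearMap.liftBaseChange K (ψ j₀)) hg
  simpa [hψ] using this

end TensorKer

section Loc

variable {P S : Type*} [CommRing P] [CommRing S] (f : P →+* S) (q : Ideal S) [q.IsPrime]

theorem localRingHom_surjective (hf : Function.Surjective f) :
    Function.Surjective (Localization.localRingHom (q.comap f) q f rfl) := by
  intro y
  obtain ⟨a, s, rfl⟩ := IsLocalization.exists_mk'_eq q.primeCompl y
  obtain ⟨a', rfl⟩ := hf a
  obtain ⟨s', hs'⟩ := hf s.1
  have hs'q : s' ∈ (q.comap f).primeCompl := by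
    intro hmem
    apply s.2
    rw [← hs']
    exact hmem
  refine ⟨IsLocalization.mk' _ a' ⟨s', hs'q⟩, ?_⟩
  rw [Localization.localRingHom_mk']
  congr 1
  exact Subtype.ext hs'

theorem ker_localRingHom (hf : Function.Surjective f) :
    RingHom.ker (Localization.localRingHom (q.comap f) q f rfl) =
      (RingHom.ker f).map (algebraMap P (Localization.AtPrime (q.comap f))) := by
  have hmap : Submonoid.map f (q.comap f).primeCompl = q.primeCompl := by
    ext y
    constructor
    · rintro ⟨x, hx, rfl⟩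
      exact hx
    · intro hy
      obtain ⟨x, rfl⟩ := hf y
      exact ⟨x, hy, rfl⟩
  exact IsLocalization.ker_map (Localization.AtPrime q) f hmap

end Loc

section Crit

theorem injective_of_linearIndependent_comp {K V W : Type*} [Field K] [AddCommGroup V] [Module K V]
    [AddCommGroup W] [Module K W] (T : V →ₗ[K] W) {ι : Type*} [Fintype ι] (v : ι → V)
    (hspan : Submodule.span K (Set.range v) = ⊤) (hli : LinearIndependent K (T ∘ v)) :
    Function.Injective T := by
  rw [← LinearMap.ker_eq_bot, LinearMap.ker_eq_bot']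
  intro x hx
  have hxm : x ∈ Submodule.span K (Set.range v) := hspan ▸ Submodule.mem_top
  obtain ⟨a, rfl⟩ := (Submodule.mem_span_range_iff_exists_fun K).mp hxm
  rw [map_sum] at hx
  simp_rw [map_smul] at hx
  have := Fintype.linearIndependent_iff.mp hli a hx
  simp [this]

variable {R : Type*} [CommRing R] {n c : ℕ} (F : Fin c → MvPolynomial (Fin n) R)
  {P' S' : Type*} [CommRing P'] [CommRing S'] [IsLocalRing S'] [Algebra R P'] [Algebra R S']
  [Algebra (MvPolynomial (Fin n) R) P'] [IsScalarTower R (MvPolynomial (Fin n) R) P']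
  [Algebra P' S'] [IsScalarTower R P' S'] [Algebra.FormallyEtale (MvPolynomial (Fin n) R) P']

local notation "P" => MvPolynomial (Fin n) R
local notation "𝕜" => IsLocalRing.ResidueField S'

theorem formallySmooth_iff_exists_minor (h₁ : Function.Surjective (algebraMap P' S'))
    (hker : RingHom.ker (algebraMap P' S') = Ideal.span (Set.range ((algebraMap P P') ∘ F)))
    (hqr : ∀ b : Fin c → P', ∑ j, b j * algebraMap P P' (F j) = 0 →
      ∀ j, b j ∈ RingHom.ker (algebraMap P' S')) :
    Algebra.FormallySmooth R S' ↔ ∃ I : Fin c ↪ Fin n,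
      algebraMap P' 𝕜 (algebraMap P P'
        (Matrix.det (Matrix.of fun j i => MvPolynomial.pderiv (I i) (F j)))) ≠ 0 := by
  classical
  haveI : Algebra.FormallySmooth R P' := .comp R P P'
  let eΩ := tensorKaehlerEquivOfFormallyEtale R P P'
  haveI : Module.Free P' Ω[P'⁄R] := .of_equiv eΩ
  haveI : Module.Finite P' Ω[P'⁄R] := Module.Finite.equiv eΩ
  let F' : Fin c → P' := (algebraMap P P') ∘ F
  have h₂ : (RingHom.ker (algebraMap P' S')).FG := by
    rw [hker]
    exact Submodule.fg_span (Set.finite_range _)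
  rw [Algebra.FormallySmooth.iff_injective_cotangentComplexBaseChange_residueField P' h₁ h₂]
  let T : 𝕜 ⊗[P'] (RingHom.ker (algebraMap P' S')) →ₗ[𝕜] 𝕜 ⊗[P'] Ω[P'⁄R] :=
    cotangentComplexBaseChange R S' P' 𝕜
  have hF'mem : ∀ j, F' j ∈ RingHom.ker (algebraMap P' S') := fun j => by
    rw [hker]
    exact Ideal.subset_span ⟨j, rfl⟩
  let v : Fin c → 𝕜 ⊗[P'] (RingHom.ker (algebraMap P' S')) := fun j => 1 ⊗ₜ ⟨F' j, hF'mem j⟩
  have hspan : Submodule.span 𝕜 (Set.range v) = ⊤ := span_one_tmul (K := 𝕜) F' _ hker hF'mem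
  let B' : Basis (Fin n) P' Ω[P'⁄R] := ((mvPolynomialBasis R (Fin n)).baseChange P').map eΩ
  let BK : Basis (Fin n) 𝕜 (𝕜 ⊗[P'] Ω[P'⁄R]) := B'.baseChange 𝕜
  let ρ : P →+* 𝕜 := (algebraMap P' 𝕜).comp (algebraMap P P')
  let Jb : Matrix (Fin c) (Fin n) 𝕜 := Matrix.of fun j i => ρ (MvPolynomial.pderiv i (F j))
  have hTv : ∀ j i, BK.repr (T (v j)) i = Jb j i := by
    intro j i
    have h1 : T (v j) = (1 : 𝕜) ⊗ₜ[P'] D R P' (algebraMap P P' (F j)) := by
      simp only [T, v, cotangentComplexBaseChange_tmul, kerToTensor_apply, one_smul]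
      rfl
    rw [h1]
    simp only [BK, B', Basis.baseChange_repr_tmul, Basis.map_repr, LinearEquiv.trans_apply, eΩ,
      tensorKaehlerEquivOfFormallyEtale_symm_D_algebraMap, mvPolynomialBasis_repr_apply]
    simp [Jb, ρ, Algebra.smul_def]
  have hrow : Jb.row = BK.equivFun ∘ (T ∘ v) := by
    ext j i
    simp [hTv]
  have hrowiff : LinearIndependent 𝕜 (T ∘ v) ↔ LinearIndependent 𝕜 Jb.row := by
    rw [hrow]
    exact (LinearMap.linearIndependent_iff BK.equivFun.toLinearMap (LinearEquiv.ker _)).symm
  have hdet : ∀ I : Fin c ↪ Fin n, (Jb.submatrix id I).det = algebraMap P' 𝕜 (algebraMap P P'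
      (Matrix.det (Matrix.of fun j i => MvPolynomial.pderiv (I i) (F j)))) := by
    intro I
    show _ = ρ _
    rw [RingHom.map_det]
    congr 1
  have hJ𝕜 : RingHom.ker (algebraMap P' S') ≤ RingHom.ker (algebraMap P' 𝕜) := by
    intro x hx
    rw [RingHom.mem_ker] at hx ⊢
    rw [IsScalarTower.algebraMap_apply P' S' 𝕜, hx, map_zero]
  constructor
  · intro hinj
    have hv : LinearIndependent 𝕜 v := linearIndependent_one_tmul F' _ hker hJ𝕜 hqr hF'mem
    have hTv' : LinearIndependent 𝕜 (T ∘ v) := hv.map' T (LinearMap.ker_eq_bot.mpr hinj)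
    obtain ⟨I, hI⟩ := exists_embedding_det_ne_zero Jb (hrowiff.mp hTv')
    exact ⟨I, by rwa [← hdet]⟩
  · rintro ⟨I, hI⟩
    rw [← hdet] at hI
    have := linearIndependent_row_of_det_ne_zero Jb I hI
    exact injective_of_linearIndependent_comp T v hspan (hrowiff.mpr this)

end Crit

end Groth.Agent.Lib.Helper7.Synt
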