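import Mathlib
import Groth.Agent.Lib.Helper7Synt38
import Groth.Agent.Lib.Helper7Synt4

/-! # Jacobian criterion for relative global complete intersections (helper7)

`isSmoothAt_relGCI_iff`: for a relative global complete intersection `S = R[x]/(F_1..F_c)` and a prime
`q` of `S`, `R → S` is smooth at `q` iff some `c × c` minor of the Jacobian matrix is not in `q`. -/

set_option autoImplicit false
set_option linter.style.haveILetI false
universe u
open Module TensorProduct KaehlerDifferential

namespace Groth.Agent.Lib.Helper7.Synt

theorem isSmoothAt_relGCI_iff (R : Type u) [CommRing R] (n c : ℕ)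
    (F : Fin c → MvPolynomial (Fin n) R) (hF : Synt.IsRelGCI R n c F)
    (q : Ideal (Synt.RelGCIRing R n c F)) [q.IsPrime] :
    Algebra.IsSmoothAt R q ↔ ∃ I : Fin c ↪ Fin n,
      Ideal.Quotient.mk (Ideal.span (Set.range F))
        (Matrix.det (Matrix.of fun j i => MvPolynomial.pderiv (I i) (F j))) ∉ q := by
  classical
  let P := MvPolynomial (Fin n) R
  let mk : P →+* Synt.RelGCIRing R n c F := Ideal.Quotient.mk (Ideal.span (Set.range F))
  have hmk : Function.Surjective mk := Ideal.Quotient.mk_surjective
  let q' : Ideal P := q.comap mk
  let P' := Localization.AtPrime q'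
  let S' := Localization.AtPrime q
  let φ : P' →+* S' := Localization.localRingHom q' q mk rfl
  letI : Algebra P' S' := φ.toAlgebra
  have hφ : ∀ x : P, algebraMap P' S' (algebraMap P P' x) = algebraMap _ S' (mk x) := fun x =>
    Localization.localRingHom_to_map q' q mk rfl x
  haveI : IsScalarTower R P' S' := IsScalarTower.of_algebraMap_eq fun r => by
    rw [IsScalarTower.algebraMap_apply R P P', hφ]
    rfl
  haveI : Algebra.FormallyEtale P P' := .of_isLocalization q'.primeCompl
  have h₁ : Function.Surjective (algebraMap P' S') := localRingHom_surjective mk q hmk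
  let F' : Fin c → P' := (algebraMap P P') ∘ F
  have hker : RingHom.ker (algebraMap P' S') = Ideal.span (Set.range F') := by
    have := ker_localRingHom mk q hmk
    rw [Ideal.mk_ker, Ideal.map_span, ← Set.range_comp] at this
    exact this
  have hq'le : Ideal.span (Set.range F) ≤ q' := by
    intro x hx
    show mk x ∈ q
    rw [Ideal.Quotient.eq_zero_iff_mem.mpr hx]
    exact q.zero_mem
  have hw := (isWeaklyRegular_and_flat_of_isRelGCI F hF q' hq'le).1
  rw [List.map_ofFn] at hw
  have hqreg := Groth.Agent.S5802.result P' c F' hw
  have hqr : ∀ b : Fin c → P', ∑ j, b j * algebraMap P P' (F j) = 0 →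
      ∀ j, b j ∈ RingHom.ker (algebraMap P' S') := by
    intro b hb j
    rw [hker]
    exact mem_of_sum_mem_sq_of_isQuasiRegular F' hqreg b (by
      show ∑ j, b j * algebraMap P P' (F j) ∈ _
      rw [hb]
      exact Ideal.zero_mem _) j
  have crit := formallySmooth_iff_exists_minor (R := R) F (P' := P') (S' := S') h₁ hker hqr
  refine crit.trans ?_
  refine exists_congr fun I => ?_
  refine not_congr ?_
  rw [← Ideal.algebraMap_residueField_eq_zero (I := q)]
  have hρ : ∀ x : P, algebraMap P' (IsLocalRing.ResidueField (Localization.AtPrime q))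
      (algebraMap P P' x) = algebraMap (Synt.RelGCIRing R n c F) q.ResidueField (mk x) := by
    intro x
    show IsLocalRing.residue (Localization.AtPrime q) (algebraMap P' S' (algebraMap P P' x)) = _
    rw [hφ]
    rfl
  rw [hρ]

end Groth.Agent.Lib.Helper7.Synt
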