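import Mathlib
import Groth.Agent.Lib.Helper7Synt41

/-! # Standard syntomic morphisms descend to a base of finite type over `ℤ` (helper7)

* `isPullback_relMap`: `Spec R₁[x]/(F₁) = Spec R₁ ×_{Spec R₀} Spec R₀[x]/(F₀)`;
* `exists_standardSyntomic_model`: Noetherian approximation of standard syntomic morphisms of affine
  schemes.
-/

set_option autoImplicit false
set_option linter.style.haveILetI false
universe u
open TensorProduct AlgebraicGeometry CategoryTheory Limits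

namespace Groth.Agent.Lib.Helper7.Synt

section

variable {R₀ R₁ : Type u} [CommRing R₀] [CommRing R₁] [Algebra R₀ R₁] {n c : ℕ}
  (F₀ : Fin c → MvPolynomial (Fin n) R₀) (F₁ : Fin c → MvPolynomial (Fin n) R₁)
  (hF : ∀ i, MvPolynomial.map (algebraMap R₀ R₁) (F₀ i) = F₁ i)

theorem isPullback_relMap :
    IsPullback (Spec.map (CommRingCat.ofHom (relMap F₀ F₁ hF)))
      (Spec.map (CommRingCat.ofHom (algebraMap R₁ (Synt.RelGCIRing R₁ n c F₁))))
      (Spec.map (CommRingCat.ofHom (algebraMap R₀ (Synt.RelGCIRing R₀ n c F₀))))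
      (Spec.map (CommRingCat.ofHom (algebraMap R₀ R₁))) := by
  letI : Algebra (Synt.RelGCIRing R₀ n c F₀) (Synt.RelGCIRing R₁ n c F₁) :=
    (relMap F₀ F₁ hF).toAlgebra
  haveI : IsScalarTower R₀ (Synt.RelGCIRing R₀ n c F₀) (Synt.RelGCIRing R₁ n c F₁) :=
    IsScalarTower.of_algebraMap_eq fun r => by
      show algebraMap R₀ (Synt.RelGCIRing R₁ n c F₁) r =
        relMap F₀ F₁ hF (algebraMap R₀ (Synt.RelGCIRing R₀ n c F₀) r)
      rw [relMap_algebraMap]
      exact IsScalarTower.algebraMap_apply R₀ R₁ _ r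
  haveI : Algebra.IsPushout R₀ R₁ (Synt.RelGCIRing R₀ n c F₀) (Synt.RelGCIRing R₁ n c F₁) :=
    ⟨IsBaseChange.of_equiv (relTensorEquiv F₀ F₁ hF).toLinearEquiv
      (fun x => relTensorEquiv_one_tmul F₀ F₁ hF x)⟩
  have hpo := CommRingCat.isPushout_of_isPushout R₀ R₁ (Synt.RelGCIRing R₀ n c F₀)
    (Synt.RelGCIRing R₁ n c F₁)
  exact (isPullback_SpecMap_of_isPushout _ _ _ _ hpo).flip

end

theorem exists_standardSyntomic_model {X S : Scheme.{u}} (f : X ⟶ S) [IsAffine X] [IsAffine S]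
    (hf : Synt.IsStandardSyntomic f) :
    ∃ (X₀ S₀ : Scheme.{u}) (f₀ : X₀ ⟶ S₀) (g : S ⟶ S₀) (g' : X ⟶ X₀), IsAffine X₀ ∧ IsAffine S₀ ∧
      IsPullback g' f f₀ g ∧
      Algebra.FiniteType ℤ Γ(S₀, ⊤) ∧ LocallyOfFiniteType f₀ ∧ Synt.IsStandardSyntomic f₀ := by
  obtain ⟨R, _, n, c, F, hF, e₁, e₂, hcomm⟩ := hf
  obtain ⟨R₀, F₀, hft, hmap, hGCI⟩ := exists_subalgebra_isRelGCI R n c F hF
  have hpb := isPullback_relMap F₀ F hmap
  have hiso : IsPullback e₁.hom f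
      (Spec.map (CommRingCat.ofHom (algebraMap R (Synt.RelGCIRing R n c F)))) e₂.hom :=
    IsPullback.of_horiz_isIso ⟨hcomm⟩
  refine ⟨Spec (CommRingCat.of (Synt.RelGCIRing R₀ n c F₀)), Spec (CommRingCat.of R₀),
    Spec.map (CommRingCat.ofHom (algebraMap R₀ (Synt.RelGCIRing R₀ n c F₀))),
    e₂.hom ≫ Spec.map (CommRingCat.ofHom (algebraMap R₀ R)),
    e₁.hom ≫ Spec.map (CommRingCat.ofHom (relMap F₀ F hmap)), inferInstance, inferInstance,
    hiso.paste_horiz hpb, ?_, ?_, ?_⟩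
  · let e : R₀ ≃+* Γ(Spec (CommRingCat.of R₀), ⊤) :=
      (Scheme.ΓSpecIso (CommRingCat.of R₀)).symm.commRingCatIsoToRingEquiv
    exact Algebra.FiniteType.equiv hft e.toIntAlgEquiv
  · rw [HasRingHomProperty.Spec_iff (P := @LocallyOfFiniteType)]
    show (algebraMap R₀ (Synt.RelGCIRing R₀ n c F₀)).FiniteType
    rw [RingHom.finiteType_algebraMap]
    exact Algebra.FiniteType.of_surjective (Ideal.Quotient.mkₐ R₀ _)
      (Ideal.Quotient.mkₐ_surjective R₀ _)
  · exact ⟨R₀, inferInstance, n, c, F₀, hGCI, Iso.refl _, Iso.refl _, by simp⟩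

end Groth.Agent.Lib.Helper7.Synt
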