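import Mathlib
import Groth.Agent.Lib.Helper7Synt50
import Groth.Agent.Lib.Helper26LimDescend3

/-! # Syntomic morphisms descend along cofiltered limits of schemes (helper7) -/

set_option autoImplicit false
set_option linter.style.haveILetI false
set_option linter.unusedSectionVars false
universe u
open CategoryTheory Limits TensorProduct AlgebraicGeometry Opposite
open Groth.Agent.Lib.Helper18ColimSys

namespace Groth.Agent.Lib.Helper7.Synt

/-- syntomicity of the pushout leg in terms of the tensor product -/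
theorem syntomicHom_iff_of_isPushout {R S T P : CommRingCat.{u}} {f : R ⟶ S} {g : R ⟶ T}
    {inl : S ⟶ P} {inr : T ⟶ P} (h : IsPushout f g inl inr) :
    SyntomicHom inr.hom ↔
      (letI := f.hom.toAlgebra; letI := g.hom.toAlgebra; Synt.IsSyntomic T (T ⊗[R] S)) := by
  algebraize [f.hom, g.hom, inl.hom, inr.hom, inl.hom.comp f.hom]
  have : IsScalarTower R T P := .of_algebraMap_eq' <| congr($(h.1.1).hom)
  have h1 : Algebra.IsPushout R S T P := CommRingCat.isPushout_iff_isPushout.mp h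
  have h2 : Algebra.IsPushout R T S P := h1.symm
  let e : T ⊗[R] S ≃ₐ[T] P := Algebra.IsPushout.equiv R T S P
  show SyntomicHom (algebraMap T P) ↔ _
  rw [syntomicHom_algebraMap]
  exact ⟨fun hh => isSyntomic_of_algEquiv e.symm hh, fun hh => isSyntomic_of_algEquiv e hh⟩

section Stage

variable {J : Type u} [SmallCategory J] [IsFiltered J] (F : J ⥤ CommRingCat.{u}) (cF : Cocone F)
  (hcF : IsColimit cF)

include hcF in
/-- Core: syntomicity of `A ⊗ B₀` over the filtered colimit `A` descends to a stage. -/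
theorem exists_syntomic_stage_aux {A₀ B₀ : Type u} [CommRing A₀] [CommRing B₀] [Algebra A₀ B₀]
    [Algebra.FinitePresentation A₀ B₀]
    (α : (Functor.const J).obj (CommRingCat.of A₀) ⟶ F) (a : CommRingCat.of A₀ ⟶ cF.pt)
    (ha : ∀ j, α.app j ≫ cF.ι.app j = a)
    (hsyn : letI : Algebra A₀ cF.pt := a.hom.toAlgebra
      Synt.IsSyntomic cF.pt (cF.pt ⊗[A₀] B₀)) :
    ∃ j, letI : Algebra A₀ (F.obj j) := RingHom.toAlgebra (R := A₀) (α.app j).hom
      Synt.IsSyntomic (F.obj j) (F.obj j ⊗[A₀] B₀) := by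
  letI algA : Algebra A₀ cF.pt := a.hom.toAlgebra
  letI algF : ∀ j, Algebra A₀ (F.obj j) := fun j => RingHom.toAlgebra (R := A₀) (α.app j).hom
  let g : ∀ j, F.obj j →ₐ[A₀] cF.pt := fun j =>
    { (cF.ι.app j).hom with
      commutes' := fun r => congr($(ha j).hom r) }
  have hg : ∀ j x, g j x = (cF.ι.app j).hom x := fun j x => rfl
  let φ : ∀ {i j : J} (u : i ⟶ j), F.obj i →ₐ[A₀] F.obj j := fun {i j} u =>
    { (F.map u).hom with
      commutes' := fun r => by
        have := α.naturality u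
        simp only [Functor.const_obj_obj, Functor.const_obj_map, Category.id_comp] at this
        exact congr($(this.symm).hom r) }
  have hφ : ∀ {i j : J} (u : i ⟶ j), (g j).comp (φ u) = g i := fun {i j} u => by
    ext x
    exact congr($(cF.w u).hom x)
  have hS : Sys A₀ (fun j => F.obj j) cF.pt g :=
    { nonempty := IsFiltered.nonempty
      surj := fun x => by
        obtain ⟨j, y, hy⟩ := Concrete.isColimit_exists_rep F hcF x
        exact ⟨j, y, hy⟩
      dir := fun i j => ⟨IsFiltered.max i j, φ (IsFiltered.leftToMax i j),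
        φ (IsFiltered.rightToMax i j), hφ _, hφ _⟩
      ker := fun i x hx => by
        have hx' : (cF.ι.app i).hom x = (cF.ι.app i).hom 0 := by
          rw [map_zero]; exact hx
        obtain ⟨k, u, v, huv⟩ := (Concrete.isColimit_rep_eq_iff_exists F hcF x 0).mp hx'
        refine ⟨k, φ u, hφ u, ?_⟩
        show (F.map u).hom x = 0
        have : (F.map v).hom (0 : F.obj i) = 0 := map_zero _
        rw [← this]
        exact huv }
  exact core_syntomic hS B₀ hsyn

include hcF in
/-- Syntomicity descends to a stage of a filtered colimit of rings (pushout form). -/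
theorem exists_syntomic_stage {A₀ B₀ : CommRingCat.{u}} (φ₀ : A₀ ⟶ B₀)
    (hφ₀ : φ₀.hom.FinitePresentation) (α : (Functor.const J).obj A₀ ⟶ F) (a : A₀ ⟶ cF.pt)
    (ha : ∀ j, α.app j ≫ cF.ι.app j = a)
    {B : CommRingCat.{u}} (β : B₀ ⟶ B) (φ : cF.pt ⟶ B) (hpo : IsPushout φ₀ a β φ)
    (hsyn : SyntomicHom φ.hom) :
    ∃ j : J, ∀ {Bj : CommRingCat.{u}} (βj : B₀ ⟶ Bj) (φj : F.obj j ⟶ Bj),
      IsPushout φ₀ (α.app j) βj φj → SyntomicHom φj.hom := by
  letI : Algebra A₀ B₀ := φ₀.hom.toAlgebra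
  haveI : Algebra.FinitePresentation A₀ B₀ := hφ₀
  have h1 := (syntomicHom_iff_of_isPushout hpo).mp hsyn
  obtain ⟨j, hj⟩ := exists_syntomic_stage_aux (A₀ := A₀) (B₀ := B₀) F cF hcF α a ha h1
  exact ⟨j, fun βj φj hpoj => (syntomicHom_iff_of_isPushout hpoj).mpr hj⟩

end Stage

section Descend

open Groth.Agent.Lib.Helper22.LimBC Groth.Agent.Lib.Helper26.LimDescend

variable {I : Type u} [SmallCategory I] [IsCofiltered I] (D : I ⥤ Scheme.{u}) (c : Cone D)
  [∀ {i j : I} (f : i ⟶ j), IsAffineHom (D.map f)]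

variable {D c}

/-- The affine case for syntomic morphisms. -/
theorem affCase2_syntomic (hc : IsLimit c) :
    AffCase2 D c @LocallyOfFinitePresentation syntomicMor.{u} := by
  intro i₀ X₀ Y₀ _ _ f₀ g₀ hQ X Y f g qY qX hY hX hf
  have : LocallyOfFinitePresentation f₀ := hQ
  have hπ : IsAffineHom (c.π.app i₀) := isAffineHom_π_app D c hc i₀
  have hqY : IsAffineHom qY := MorphismProperty.of_isPullback (P := @IsAffineHom) hY.flip hπ
  have hqX : IsAffineHom qX := MorphismProperty.of_isPullback (P := @IsAffineHom) hX.flip hqY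
  have hYa : IsAffine Y := isAffine_of_isAffineHom qY
  have hXa : IsAffine X := isAffine_of_isAffineHom qX
  have h1 : ∀ j, IsAffine ((bcDiagram D i₀ (f₀ ≫ g₀)).obj j) := fun j => by
    show IsAffine (pullback (f₀ ≫ g₀) (D.map j.hom))
    infer_instance
  have h2 : ∀ j, IsAffine ((bcDiagram D i₀ g₀).obj j) := fun j => by
    show IsAffine (pullback g₀ (D.map j.hom))
    infer_instance
  obtain ⟨hcF⟩ := nonempty_isColimit_Γ_mapCocone (bcDiagram D i₀ g₀) (bcCone i₀ hY)
    (isLimitBcCone i₀ hY hc)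
  let α : (Functor.const (Over i₀)ᵒᵖ).obj (Scheme.Γ.obj (op Y₀)) ⟶
      (bcDiagram D i₀ g₀).op ⋙ Scheme.Γ :=
    { app := fun j => (dFst D i₀ g₀ j.unop).appTop
      naturality := fun j k a => by
        show 𝟙 _ ≫ (dFst D i₀ g₀ k.unop).appTop =
          (dFst D i₀ g₀ j.unop).appTop ≫ ((bcDiagram D i₀ g₀).map a.unop).appTop
        rw [Category.id_comp, ← Scheme.Hom.comp_appTop, map_dFst] }
  obtain ⟨j, hj⟩ := exists_syntomic_stage
    ((bcDiagram D i₀ g₀).op ⋙ Scheme.Γ) (Scheme.Γ.mapCocone (bcCone i₀ hY).op) hcF f₀.appTop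
    (HasRingHomProperty.appTop (P := @LocallyOfFinitePresentation) f₀ inferInstance) α qY.appTop
    (fun j => by
      show (dFst D i₀ g₀ j.unop).appTop ≫ (bcπ i₀ hY j.unop).appTop = qY.appTop
      rw [← Scheme.Hom.comp_appTop, bcπ_fst])
    qX.appTop f.appTop (isPushout_appTop_of_isPullback hX)
    (HasRingHomProperty.appTop (P := syntomicMor) f hf)
  refine ⟨j.unop, ?_⟩
  have := hj (dFst D i₀ (f₀ ≫ g₀) j.unop).appTop (bcMor D i₀ f₀ g₀ j.unop).appTop
    (isPushout_appTop_of_isPullback (isPullback_bcMor D i₀ f₀ g₀ j.unop))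
  exact (HasRingHomProperty.iff_of_isAffine (P := syntomicMor)).mpr this

set_option backward.isDefEq.respectTransparency.types false in
theorem isLocalSrc_lfp' : IsZariskiLocalAtSource @LocallyOfFinitePresentation.{u} := inferInstance

set_option backward.isDefEq.respectTransparency.types false in
theorem isLocalTgt_lfp' : IsZariskiLocalAtTarget @LocallyOfFinitePresentation.{u} := inferInstance

theorem descend_syntomic (hc : IsLimit c) (i₀ : I)
    {X₀ Y₀ : Scheme.{u}} (f₀ : X₀ ⟶ Y₀) (g₀ : Y₀ ⟶ D.obj i₀) [CompactSpace X₀]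
    {X Y : Scheme.{u}} (f : X ⟶ Y) (g : Y ⟶ c.pt) (qY : Y ⟶ Y₀) (qX : X ⟶ X₀)
    (hY : IsPullback qY g g₀ (c.π.app i₀)) (hX : IsPullback qX f f₀ qY)
    [LocallyOfFinitePresentation f₀] (hf : Synt.IsSyntomicMor f) :
    ∃ j : Over i₀, ∀ (k : Over i₀) (_ : k ⟶ j), Synt.IsSyntomicMor (bcMor D i₀ f₀ g₀ k) := by
  have := isLocalSrc_lfp'.{u}
  have := isLocalTgt_lfp'.{u}
  have := isLocalSrc_syntomicMor.{u}
  have := isLocalTgt_syntomicMor.{u}
  obtain ⟨j, hj⟩ := exists_forall_of_affCase2 (Q := @LocallyOfFinitePresentation)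
    (P := syntomicMor) (affCase2_syntomic hc) i₀ f₀ g₀ inferInstance f g qY qX hY hX
    ((isSyntomicMor_iff_syntomicMor f).mp hf)
  exact ⟨j, fun k u => (isSyntomicMor_iff_syntomicMor _).mpr (hj k u)⟩

end Descend

end Groth.Agent.Lib.Helper7.Synt
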