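import Mathlib
import Groth.Agent.Lib.Helper7Synt50
import Groth.Agent.Lib.Helper2FrobTwist
import Groth.Agent.Lib.Helper20RelFrobBC
import Groth.Agent.Lib.Helper11PerfEt
import Groth.Agent.Lib.Helper6RelFrobFlat
import Groth.Agent.S18933

/-! # The relative Frobenius of a smooth morphism is syntomic (helper7)

* `syntomicHom_expand`, `syntomicHom_relFrob_poly`: ring level, polynomial algebras;
* `relFrob_Spec`: the scheme-level relative Frobenius of `Spec B ⟶ Spec A` is `Spec` of the
  ring-level relative Frobenius (up to the canonical identification of the Frobenius twist);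
* `syntomicMor_relFrob_comp_left/right`, `comp_relFrob`, `syntomicMor_relFrob_of_local`:
  the property "the relative Frobenius is syntomic" under composition with relatively perfect
  morphisms and its locality on the source;
* `syntomicMor_relFrob_of_smooth`: the main theorem.
-/

set_option autoImplicit false
set_option linter.style.haveILetI false
universe u
open TensorProduct AlgebraicGeometry CategoryTheory Limits FrobSch

namespace Groth.Agent.Lib.Helper7.Synt

open Polynomial in
theorem syntomicHom_of_pow (p : ℕ) [Fact p.Prime] (A : Type u) [CommRing A] (m : ℕ)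
    (φ : MvPolynomial (Fin m) A →ₐ[A] MvPolynomial (Fin m) A)
    (hφ : ∀ i : Fin m, φ (MvPolynomial.X i) = MvPolynomial.X i ^ p) :
    @Synt.IsSyntomic (MvPolynomial (Fin m) A) _ (MvPolynomial (Fin m) A) _
      φ.toRingHom.toAlgebra := by
  have hp : p.Prime := Fact.out
  obtain ⟨e⟩ := @Groth.Agent.S18933.equivOfFrob A _ m p (MvPolynomial (Fin m) A) _
    φ.toRingHom.toAlgebra
    (RingEquiv.refl _)
    (fun a => by
      change φ (MvPolynomial.C a) = MvPolynomial.C a
      rw [← MvPolynomial.algebraMap_eq, φ.commutes])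
    (fun i => by
      change φ (MvPolynomial.X i) = MvPolynomial.X i ^ p
      exact hφ i)
  have := @Groth.Agent.S18933.synt_of_equiv (MvPolynomial (Fin m) A) (MvPolynomial (Fin m) A) _ _
    φ.toRingHom.toAlgebra m _
    (fun i => monic_X_pow_sub_C _ hp.ne_zero)
    (fun _ i => by rw [natDegree_X_pow_sub_C]; exact hp.pos) e
  exact this.1

theorem syntomicHom_expand (p : ℕ) [Fact p.Prime] (A : Type u) [CommRing A] (m : ℕ) :
    SyntomicHom ((MvPolynomial.expand p : MvPolynomial (Fin m) A →ₐ[A] MvPolynomial (Fin m) A) :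
      MvPolynomial (Fin m) A →+* MvPolynomial (Fin m) A) :=
  syntomicHom_of_pow p A m (MvPolynomial.expand p) (fun _ => MvPolynomial.expand_X _ _)

theorem syntomicHom_relFrob_poly (p : ℕ) [Fact p.Prime] (A : Type u) [CommRing A] [CharP A p]
    (m : ℕ) : SyntomicHom (FrobAlg.relFrob p A (MvPolynomial (Fin m) A)) := by
  rw [Groth.Agent.Lib.Helper6.RelFrobFlat.relFrob_poly_eq]
  have h := syntomicHom_respectsIso.2
    ((MvPolynomial.expand p : MvPolynomial (Fin m) A →ₐ[A] MvPolynomial (Fin m) A) :
      MvPolynomial (Fin m) A →+* MvPolynomial (Fin m) A)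
    (Groth.Agent.Lib.Helper6.RelFrobFlat.polyEquiv p A (Fin m)) (syntomicHom_expand p A m)
  exact h

section Glue

variable (p : ℕ) [Fact p.Prime] (A B : Type u) [CommRing A] [CommRing B] [CharP A p]
  [Algebra A B]

/-- `a ↦ 1 ⊗ a` as a ring hom from `A` -/
noncomputable def incR : A →+* B ⊗[A] FrobAlg.Twist p A :=
  (Algebra.TensorProduct.includeRight (R := A) (A := B) (B := FrobAlg.Twist p A)).toRingHom.comp
    (FrobAlg.toTwist p A : A →+* FrobAlg.Twist p A)

theorem isPushout_twist :
    IsPushout (CommRingCat.ofHom (algebraMap A B)) (CommRingCat.ofHom (frobenius A p))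
      (CommRingCat.ofHom (S := B ⊗[A] FrobAlg.Twist p A) Algebra.TensorProduct.includeLeftRingHom)
      (CommRingCat.ofHom (incR p A B)) :=
  CommRingCat.isPushout_tensorProduct A B (FrobAlg.Twist p A)

theorem isPullback_Spec_twist :
    IsPullback
      (Spec.map (CommRingCat.ofHom (S := B ⊗[A] FrobAlg.Twist p A)
        Algebra.TensorProduct.includeLeftRingHom))
      (Spec.map (CommRingCat.ofHom (incR p A B)))
      (Spec.map (CommRingCat.ofHom (algebraMap A B)))
      (frob (Spec (CommRingCat.of A)) p) := by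
  rw [Groth.Agent.Lib.Helper2.FrobTwist.frob_Spec]
  exact isPullback_SpecMap_of_isPushout _ _ _ _ (isPushout_twist p A B)

variable [CharP B p]

/-- the scheme-level relative Frobenius of `Spec B ⟶ Spec A` is `Spec` of the ring-level one. -/
theorem relFrob_Spec :
    relFrob (Spec.map (CommRingCat.ofHom (algebraMap A B))) p =
      Spec.map (CommRingCat.ofHom (FrobAlg.relFrob p A B)) ≫
        (isPullback_Spec_twist p A B).isoPullback.hom := by
  apply pullback.hom_ext
  · rw [relFrob_fst, Category.assoc, IsPullback.isoPullback_hom_fst,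
      Groth.Agent.Lib.Helper2.FrobTwist.frob_Spec, ← Spec.map_comp, ← CommRingCat.ofHom_comp]
    congr 2
    ext b
    simp [Groth.Agent.Lib.Helper6.FrobEtale.relFrob_tmul, frobenius_def]
  · rw [relFrob_snd, Category.assoc, IsPullback.isoPullback_hom_snd,
      ← Spec.map_comp, ← CommRingCat.ofHom_comp]
    congr 2
    ext a
    simp [Groth.Agent.Lib.Helper6.FrobEtale.relFrob_tmul, incR]

theorem syntomicMor_relFrob_Spec (h : SyntomicHom (FrobAlg.relFrob p A B)) :
    syntomicMor (relFrob (Spec.map (CommRingCat.ofHom (algebraMap A B))) p) := by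
  rw [relFrob_Spec]
  exact syntomicMor.comp_mem _ _ ((HasRingHomProperty.Spec_iff (P := syntomicMor)).mpr h)
    (syntomicMor.of_isIso _)

end Glue

section SchemeLevel

variable (p : ℕ) [Fact p.Prime]

open Groth.Agent.Lib.Helper20.RelFrobBC

theorem syntomicMor_relFrob_congr {X S : Scheme.{u}} [IsCharP S p] {f f' : X ⟶ S} (h : f = f')
    (hf : syntomicMor (relFrob f p)) : syntomicMor (relFrob f' p) := by
  subst h; exact hf

/-- precomposition with a relatively perfect morphism (e.g. an étale one). -/
theorem syntomicMor_relFrob_comp_left {X T S : Scheme.{u}} [IsCharP S p] [IsCharP T p]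
    (a : X ⟶ T) (g : T ⟶ S) (ha : IsIso (relFrob a p)) (hg : syntomicMor (relFrob g p)) :
    syntomicMor (relFrob (a ≫ g) p) := by
  rw [← relFrob_twistComp p a g]
  have h1 : syntomicMor (twistComp p a g) :=
    MorphismProperty.of_isPullback (isPullback_twistComp p a g).flip hg
  exact syntomicMor.comp_mem _ _ (syntomicMor.of_isIso _) h1

/-- postcomposition with a relatively perfect morphism (e.g. an open immersion). -/
theorem syntomicMor_relFrob_comp_right {X T S : Scheme.{u}} [IsCharP S p] [IsCharP T p]
    (g : X ⟶ T) (j : T ⟶ S) (hj : IsIso (relFrob j p)) (hg : syntomicMor (relFrob g p)) :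
    syntomicMor (relFrob (g ≫ j) p) := by
  rw [← relFrob_twistComp p g j]
  have h1 : IsIso (twistComp p g j) :=
    MorphismProperty.of_isPullback (P := MorphismProperty.isomorphisms Scheme.{u})
      (isPullback_twistComp p g j).flip hj
  exact syntomicMor.comp_mem _ _ hg (syntomicMor.of_isIso _)

/-- naturality of the relative Frobenius in the source. -/
theorem comp_relFrob {X T S : Scheme.{u}} [IsCharP S p] (a : X ⟶ T) (f : T ⟶ S) :
    a ≫ relFrob f p = relFrob (a ≫ f) p ≫ twistMap p a f := by
  haveI : IsCharP T p := IsCharP.of_hom f p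
  haveI : IsCharP X p := IsCharP.of_hom a p
  apply pullback.hom_ext
  · rw [Category.assoc, Category.assoc, relFrob_fst, twistMap, pullback.lift_fst,
      ← Category.assoc, relFrob_fst, frob_comp]
  · rw [Category.assoc, Category.assoc, relFrob_snd, twistMap, pullback.lift_snd,
      Category.comp_id, relFrob_snd]

theorem isOpenImmersion_twistMap {X T S : Scheme.{u}} [IsCharP S p] (a : X ⟶ T) (f : T ⟶ S)
    [IsOpenImmersion a] : IsOpenImmersion (twistMap p a f) :=
  MorphismProperty.of_isPullback (P := @IsOpenImmersion) (isPullback_twistMap p a f)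
    inferInstance

/-- "the relative Frobenius is syntomic" is local on the source. -/
theorem syntomicMor_relFrob_of_local {X S : Scheme.{u}} [IsCharP S p] (f : X ⟶ S)
    (H : ∀ x : X, ∃ U : X.Opens, x ∈ U ∧ syntomicMor (relFrob (U.ι ≫ f) p)) :
    syntomicMor (relFrob f p) := by
  choose U hxU hU using H
  haveI := isLocalSrc_syntomicMor.{u}
  refine IsZariskiLocalAtSource.of_iSup_eq_top (P := syntomicMor) U ?_ fun x => ?_
  · rw [eq_top_iff]
    intro x _
    exact TopologicalSpace.Opens.mem_iSup.mpr ⟨x, hxU x⟩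
  · rw [comp_relFrob]
    haveI := isOpenImmersion_twistMap p (U x).ι f
    exact syntomicMor.comp_mem _ _ (hU x) (syntomicMor_of_isOpenImmersion _)

/-- the relative Frobenius of a smooth morphism of relative dimension `d` is syntomic. -/
theorem syntomicMor_relFrob_of_smooth {S X : Scheme.{u}} [IsCharP S p] (f : X ⟶ S) (d : ℕ)
    [SmoothOfRelativeDimension d f] : syntomicMor (relFrob f p) := by
  have hp : p.Prime := Fact.out
  refine syntomicMor_relFrob_of_local p f fun x => ?_
  obtain ⟨U, hU, V, hV, hxV, e, hstd⟩ :=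
    SmoothOfRelativeDimension.exists_isStandardSmoothOfRelativeDimension (n := d) (f := f) x
  refine ⟨V, hxV, ?_⟩
  obtain ⟨g, hgC, hg⟩ := hstd.exists_etale_mvPolynomial
  -- characteristic of `Γ(S, U)`
  haveI : Nonempty U := ⟨⟨f x, e hxV⟩⟩
  haveI hnt : Nontrivial Γ(S, U) := inferInstance
  haveI hchar : CharP Γ(S, U) p :=
    (CharP.charP_iff_prime_eq_zero hp).2 (natCast_eq_zero_app S p U)
  -- the base case
  have hbase : syntomicMor (relFrob (Spec.map (CommRingCat.ofHom
      (algebraMap Γ(S, U) (MvPolynomial (Fin d) Γ(S, U))))) p) :=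
    syntomicMor_relFrob_Spec p _ _ (syntomicHom_relFrob_poly p _ d)
  haveI : IsCharP (Spec Γ(S, U)) p := IsCharP.of_hom hU.fromSpec p
  have h2 : syntomicMor (relFrob (Spec.map (CommRingCat.ofHom
      (algebraMap Γ(S, U) (MvPolynomial (Fin d) Γ(S, U)))) ≫ hU.fromSpec) p) :=
    syntomicMor_relFrob_comp_right p _ hU.fromSpec
      (Groth.Agent.Lib.Helper11PerfEt.isIso_relFrob_of_etale p hU.fromSpec) hbase
  haveI : Etale (Spec.map (CommRingCat.ofHom g)) :=
    (HasRingHomProperty.Spec_iff (P := @Etale)).mpr hg
  have h3 := syntomicMor_relFrob_comp_left p (hV.isoSpec.hom ≫ Spec.map (CommRingCat.ofHom g))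
    (Spec.map (CommRingCat.ofHom
      (algebraMap Γ(S, U) (MvPolynomial (Fin d) Γ(S, U)))) ≫ hU.fromSpec)
    (Groth.Agent.Lib.Helper11PerfEt.isIso_relFrob_of_etale p _) h2
  refine syntomicMor_relFrob_congr p ?_ h3
  rw [Category.assoc, ← Spec.map_comp_assoc, ← CommRingCat.ofHom_comp, MvPolynomial.algebraMap_eq,
    hgC, CommRingCat.ofHom_hom, IsAffineOpen.SpecMap_appLE_fromSpec f hU hV e,
    IsAffineOpen.isoSpec_hom_fromSpec_assoc]

end SchemeLevel

end Groth.Agent.Lib.Helper7.Synt
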