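import Mathlib
import Groth.Agent.Lib.Helper19LciH1C
import Groth.Agent.Lib.Helper13SyntCMB
import Groth.Agent.S9287

/-! # Associated primes of flat algebras with Cohen–Macaulay fibres; `H¹(NL) = 0` for flat lci
algebras with generically smooth fibres (helper7) -/

set_option autoImplicit false
set_option linter.style.haveILetI false
universe u
open IsLocalRing

namespace Groth.Agent.Lib.Helper7.Synt

open Groth.Agent.Lib.Helper28 in
/-- for a flat map of Noetherian rings with Cohen–Macaulay fibres, an associated prime of the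
target is minimal among the primes of its fibre. -/
theorem eq_of_le_of_comap_eq_of_mem_associatedPrimes (A P : Type u) [CommRing A] [CommRing P]
    [IsNoetherianRing A] [IsNoetherianRing P] [Algebra A P] [Module.Flat A P]
    (hCM : ∀ (q : Ideal P) [q.IsPrime], LocCoh.IsCohenMacaulayLocalRing (EGA4.FibLocRing A P q))
    (q : Ideal P) [hqp : q.IsPrime] (hq : q ∈ associatedPrimes P P)
    (Q : Ideal P) [hQp : Q.IsPrime] (hle : Q ≤ q)
    (hc : Q.comap (algebraMap A P) = q.comap (algebraMap A P)) : Q = q := by
  have hmax : maximalIdeal (Localization.AtPrime q) ∈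
      associatedPrimes (Localization.AtPrime q) (Localization.AtPrime q) := by
    apply Module.associatedPrimes.mem_associatedPrimes_of_comap_mem_associatedPrimes_of_isLocalizedModule
      q.primeCompl (Algebra.linearMap P (Localization.AtPrime q))
    have hcm : Ideal.comap (algebraMap P (Localization.AtPrime q))
        (maximalIdeal (Localization.AtPrime q)) = q := Localization.AtPrime.under_maximalIdeal
    rw [hcm]
    exact hq
  have hle0 := Groth.Agent.Lib.Helper5.depth_le_ringKrullDim_quotient
    (A := Localization.AtPrime q) (M := Localization.AtPrime q) hmax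
  have h0 : ringKrullDim (Localization.AtPrime q ⧸ maximalIdeal (Localization.AtPrime q)) = 0 :=
    ringKrullDim_eq_zero_of_isField
      ((Ideal.Quotient.maximal_ideal_iff_isField_quotient _).mp inferInstance)
  rw [h0] at hle0
  have hd0 : LocCoh.depth (Localization.AtPrime q) (Localization.AtPrime q) = 0 := by
    have h2 : (LocCoh.depth (Localization.AtPrime q) (Localization.AtPrime q) : ℕ∞) ≤ 0 := by
      exact_mod_cast hle0
    exact nonpos_iff_eq_zero.mp h2
  haveI := (hCM q).toIsLocalRing
  haveI := (hCM Q).toIsLocalRing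
  have h2 := depth_localization_eq_add_fibLocRing (A := A) q
  rw [hd0] at h2
  have h3 : LocCoh.depth (EGA4.FibLocRing A P q) (EGA4.FibLocRing A P q) = 0 := by
    have := h2.symm
    exact (add_eq_zero.mp this).2
  have h4 := (isCohenMacaulayLocalRing_iff _).mp (hCM q)
  rw [h3] at h4
  have h5 := height_eq_height_fibLocRing_add (A := A) q
  rw [h4, zero_add] at h5
  have h6 := height_eq_height_fibLocRing_add (A := A) Q
  have hc' : (Q.comap (algebraMap A P)).height = q.height := by rw [hc, h5]
  rw [hc'] at h6
  by_contra hne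
  have hlt : Q < q := lt_of_le_of_ne hle hne
  have h7 : Q.height + 1 ≤ q.height := Ideal.height_add_one_le_of_lt_of_isPrime hlt
  obtain ⟨n, hn⟩ := ENat.ne_top_iff_exists.mp (Ideal.height_ne_top hqp.ne_top)
  rw [h6, ← hn] at h7
  generalize (maximalIdeal (EGA4.FibLocRing A P Q)).height = m at h7
  cases m with
  | top => simp at h7
  | coe k =>
    have : k + n + 1 ≤ n := by exact_mod_cast h7
    omega

open Groth.Agent.Lib.Helper19.Kos Groth.Agent.Lib.Helper19.LciH1 in
/-- `H¹(NL_{P/A}) = 0` for a flat lci algebra `P` over a Noetherian ring `A` all of whose fibres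
are generically smooth. -/
theorem h1Cotangent_subsingleton_of_flat (A : Type u) [CommRing A] [IsNoetherianRing A]
    (P : Type u) [CommRing P] [Algebra A P] [Module.Flat A P] (hlci : LCI.IsLCI A P)
    (hgs : ∀ 𝔓 : PrimeSpectrum P,
      (∀ 𝔔 : PrimeSpectrum P, 𝔔 ≤ 𝔓 →
          𝔔.asIdeal.comap (algebraMap A P) = 𝔓.asIdeal.comap (algebraMap A P) → 𝔔 = 𝔓) →
        𝔓 ∈ Algebra.smoothLocus A P) :
    Subsingleton (Algebra.H1Cotangent A P) := by
  have hsyn : Synt.IsSyntomic A P := (Groth.Agent.S9287.result A P).mpr ⟨inferInstance, hlci⟩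
  obtain ⟨hft, n, f, hf, hK⟩ := hlci
  haveI := hft
  haveI : IsNoetherianRing P := Algebra.FiniteType.isNoetherianRing A P
  have hCM : ∀ (q : Ideal P) [q.IsPrime],
      LocCoh.IsCohenMacaulayLocalRing (EGA4.FibLocRing A P q) := fun q _ =>
    Groth.Agent.Helper13SyntCM.cm_fibLocRing_of_isSyntomic A P hsyn q
  have hval : (MvPolynomial.aeval (R := A) (fun i : Fin n => f (MvPolynomial.X i))) = f := by
    refine MvPolynomial.algHom_ext fun i => ?_
    rw [MvPolynomial.aeval_X]
  let Pg : Algebra.Generators A P (Fin n) :=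
    Algebra.Generators.ofSurjective (fun i => f (MvPolynomial.X i)) (by rw [hval]; exact hf)
  have halg : ∀ x : Pg.toExtension.Ring, algebraMap Pg.toExtension.Ring P x = f x := by
    intro x
    have h1 : algebraMap Pg.toExtension.Ring P x =
        MvPolynomial.aeval (R := A) (fun i : Fin n => f (MvPolynomial.X i)) x := rfl
    rw [h1, hval]
  have hsurj : Function.Surjective (algebraMap Pg.toExtension.Ring P) := Pg.algebraMap_surjective
  have hker : Pg.toExtension.ker = RingHom.ker f.toRingHom := by
    ext x
    show algebraMap Pg.toExtension.Ring P x = 0 ↔ f x = 0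
    rw [halg]
  have hK' : LCI.IsKoszulRegularIdeal Pg.toExtension.ker := by rw [hker]; exact hK
  haveI : IsNoetherianRing Pg.toExtension.Ring :=
    inferInstanceAs (IsNoetherianRing (MvPolynomial (Fin n) A))
  refine Pg.equivH1Cotangent.symm.toEquiv.subsingleton_congr.mpr ?_
  refine ⟨fun a b => ?_⟩
  by_contra hab
  have hx0 : a - b ≠ 0 := sub_ne_zero.mpr hab
  set x := a - b with hxdef
  have hx1 : (x.1 : Pg.toExtension.Cotangent) ≠ 0 := fun h => hx0 (Subtype.ext h)
  obtain ⟨q, hqass, hle⟩ := exists_le_isAssociatedPrime_of_isNoetherianRing P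
    (x.1 : Pg.toExtension.Cotangent) hx1
  obtain ⟨hqp, y, hqy⟩ := isAssociatedPrime_iff.mp hqass
  haveI := hqp
  have hqA : IsAssociatedPrime q P := by
    obtain ⟨⟨z, hz⟩, rfl⟩ := Algebra.Extension.Cotangent.mk_surjective y
    have hq'p : (q.comap (algebraMap Pg.toExtension.Ring P)).IsPrime := Ideal.comap_isPrime _ _
    have hIq : Pg.toExtension.ker ≤ q.comap (algebraMap Pg.toExtension.Ring P) := by
      intro w hw
      rw [Ideal.mem_comap, show algebraMap Pg.toExtension.Ring P w = 0 from hw]
      exact q.zero_mem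
    have hann : ∀ p : Pg.toExtension.Ring,
        p * z ∈ Pg.toExtension.ker ^ 2 ↔ p ∈ q.comap (algebraMap Pg.toExtension.Ring P) := by
      intro p
      rw [Ideal.mem_comap, hqy, Submodule.mem_colon_singleton, Submodule.mem_bot, algebraMap_smul,
        ← map_smul, Algebra.Extension.Cotangent.mk_eq_zero_iff]
      rfl
    obtain ⟨c, g, hreg, hspan⟩ := exists_local_regular Pg.toExtension.ker hK'
      (q.comap (algebraMap Pg.toExtension.Ring P)) hIq
    have hQ := Groth.Agent.Lib.Helper19.CotTVanish.Q_le_F0_of_isWeaklyRegular g hreg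
    obtain ⟨a₁, ha₁⟩ := exists_colon_eq Pg.toExtension.ker
      (q.comap (algebraMap Pg.toExtension.Ring P)) g hspan hQ z hz hann
    refine isAssociatedPrime_iff.mpr ⟨hqp, algebraMap Pg.toExtension.Ring P a₁, ?_⟩
    ext s
    obtain ⟨p, rfl⟩ := hsurj s
    rw [Submodule.mem_colon_singleton, Submodule.mem_bot, smul_eq_mul, ← map_mul,
      ← Ideal.mem_comap, ← ha₁ p]
    rfl
  -- `q` is minimal in its fibre, hence in the smooth locus
  have hsm : (⟨q, hqp⟩ : PrimeSpectrum P) ∈ Algebra.smoothLocus A P := by
    refine hgs ⟨q, hqp⟩ fun 𝔔 hle' hc => ?_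
    haveI := 𝔔.isPrime
    exact PrimeSpectrum.ext
      (eq_of_le_of_comap_eq_of_mem_associatedPrimes A P hCM q hqA 𝔔.asIdeal hle' hc)
  haveI : Algebra.FormallySmooth A (Localization.AtPrime q) := hsm
  have hsub : Subsingleton (Algebra.H1Cotangent A (Localization.AtPrime q)) :=
    Algebra.FormallySmooth.subsingleton_h1Cotangent
  have hmap : Algebra.H1Cotangent.map A A P (Localization.AtPrime q) (Pg.equivH1Cotangent x) =
      Algebra.H1Cotangent.map A A P (Localization.AtPrime q) 0 := Subsingleton.elim _ _
  obtain ⟨s, hs⟩ := IsLocalizedModule.exists_of_eq (S := q.primeCompl)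
    (f := Algebra.H1Cotangent.map A A P (Localization.AtPrime q)) hmap
  have hs' : (s : P) • Pg.equivH1Cotangent x = 0 := by
    have := hs
    rwa [Submonoid.smul_def, Submonoid.smul_def, smul_zero] at this
  rw [← map_smul, LinearEquiv.map_eq_zero_iff] at hs'
  have hs1 : (s : P) • (x.1 : Pg.toExtension.Cotangent) = 0 := by
    have := congrArg Subtype.val hs'
    exact this
  have hs2 : (s : P) ∈ (⊥ : Submodule P Pg.toExtension.Cotangent).colon {x.1} := by
    rw [Submodule.mem_colon_singleton, Submodule.mem_bot]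
    exact hs1
  exact s.2 (hle hs2)

end Groth.Agent.Lib.Helper7.Synt
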