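import Mathlib

set_option autoImplicit false
set_option linter.style.haveILetI false
universe u

namespace Groth.Agent.Lib.Helper7.TensInj

open TensorProduct

section

variable {A : Type*} [CommRing A] {M₁ M₂ B R : Type*} [CommRing M₁] [CommRing M₂] [CommRing B]
  [CommRing R] [Algebra A M₁] [Algebra A M₂] [Algebra A B] [Algebra A R]

/-- `f ⊗ g` is injective when `f`, `g` are injective, and `B`, `M₂` are flat. -/
theorem map_injective_of_flat [Module.Flat A B] [Module.Flat A M₂] (f : M₁ →ₐ[A] M₂)
    (g : B →ₐ[A] R) (hf : Function.Injective f) (hg : Function.Injective g) :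
    Function.Injective (Algebra.TensorProduct.map f g) := by
  have h1 : Function.Injective (LinearMap.rTensor B f.toLinearMap) :=
    Module.Flat.rTensor_preserves_injective_linearMap _ hf
  have h2 : Function.Injective (LinearMap.lTensor M₂ g.toLinearMap) :=
    Module.Flat.lTensor_preserves_injective_linearMap _ hg
  have h3 : ∀ y, Algebra.TensorProduct.map f g y =
      LinearMap.lTensor M₂ g.toLinearMap (LinearMap.rTensor B f.toLinearMap y) := by
    intro y
    induction y using TensorProduct.induction_on with
    | zero => simp
    | tmul b c => simp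
    | add x y hx hy => rw [map_add, map_add, map_add, hx, hy]
  intro x y hxy
  rw [h3, h3] at hxy
  exact h1 (h2 hxy)

/-- `id ⊗ g` is injective when `g` is injective and `M` is flat. -/
theorem map_id_injective_of_flat (M : Type*) [CommRing M] [Algebra A M] [Module.Flat A M]
    (g : B →ₐ[A] R) (hg : Function.Injective g) :
    Function.Injective (Algebra.TensorProduct.map (AlgHom.id A M) g) := by
  have h2 : Function.Injective (LinearMap.lTensor M g.toLinearMap) :=
    Module.Flat.lTensor_preserves_injective_linearMap _ hg
  have h3 : ∀ y, Algebra.TensorProduct.map (AlgHom.id A M) g y =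
      LinearMap.lTensor M g.toLinearMap y := by
    intro y
    induction y using TensorProduct.induction_on with
    | zero => simp
    | tmul b c => simp
    | add x y hx hy => rw [map_add, map_add, hx, hy]
  intro x y hxy
  rw [h3, h3] at hxy
  exact h2 hxy

/-- The kernel of `id ⊗ (B → B/nil)` consists of nilpotent elements. -/
theorem isNilpotent_of_map_mk_eq_zero (M : Type*) [CommRing M] [Algebra A M]
    (y : M ⊗[A] B)
    (hy : Algebra.TensorProduct.map (AlgHom.id A M) (Ideal.Quotient.mkₐ A (nilradical B)) y = 0) :
    IsNilpotent y := by
  have hker := Algebra.TensorProduct.lTensor_ker (A := M) (Ideal.Quotient.mkₐ A (nilradical B))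
    (Ideal.Quotient.mkₐ_surjective A (nilradical B))
  have hy' : y ∈ RingHom.ker (Algebra.TensorProduct.map (AlgHom.id A M)
      (Ideal.Quotient.mkₐ A (nilradical B))) := hy
  rw [hker] at hy'
  have hle : (RingHom.ker (Ideal.Quotient.mkₐ A (nilradical B))).map
      (Algebra.TensorProduct.includeRight : B →ₐ[A] M ⊗[A] B) ≤ nilradical (M ⊗[A] B) := by
    rw [Ideal.map_le_iff_le_comap]
    intro b hb
    rw [Ideal.mem_comap, mem_nilradical]
    have hb' : b ∈ nilradical B := by
      have : Ideal.Quotient.mk (nilradical B) b = 0 := hb
      exact Ideal.Quotient.eq_zero_iff_mem.mp this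
    exact (mem_nilradical.mp hb').map _
  exact mem_nilradical.mp (hle hy')

end

end Groth.Agent.Lib.Helper7.TensInj
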