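import Mathlib
import Groth.Agent.Lib.Helper7FibreBC3
import Groth.Agent.Lib.Helper23AmpleIso
import Groth.Agent.Lib.Helper2PullbackSec3

set_option autoImplicit false
set_option linter.style.haveILetI false
set_option linter.unusedVariables false
universe u
open CategoryTheory CategoryTheory.Limits AlgebraicGeometry TensorProduct IsLocalRing

namespace Groth.Agent.Lib.Helper7.TensS

open Groth.Agent.Lib.Helper2.FlatOver Groth.Agent.Lib.Helper26.TensStalk Groth.Agent.Lib.Helper7.AssTensorFlat
  Groth.Agent.Lib.Helper26.FibFlatSch Groth.Agent.Lib.Helper2.PullbackSec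
  Groth.Agent.Lib.Helper2.FibreCrit Groth.Agent.Lib.Helper7.AssTensorFlatSch
  Groth.Agent.Lib.Helper7.NoEmbBC Groth.Agent.Lib.Helper7.FibreBC

variable {X Y S : Scheme.{u}} (f : X ⟶ S) (g : Y ⟶ S)
  [IsLocallyNoetherian X] [IsLocallyNoetherian Y] [IsLocallyNoetherian (pullback f g)]
  (F : X.Modules) [F.IsQuasicoherent] (G : Y.Modules) [G.IsQuasicoherent]

omit [IsLocallyNoetherian Y] in
/-- **EGA IV 3.3.6 (first step)**: associated points of `F ⊗_S G`. -/
theorem isAssPoint_tensS_iff (hGfl : FlatMod.IsFlatOver g G) (z : ↑(pullback f g)) :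
    Curv2.IsAssPoint (CohB1.tensorMod ((Scheme.Modules.pullback (pullback.fst f g)).obj F)
        ((Scheme.Modules.pullback (pullback.snd f g)).obj G)) z ↔
      Curv2.IsAssPoint F (pullback.fst f g z) ∧
        FibAssAt (pullback.fst f g) ((Scheme.Modules.pullback (pullback.snd f g)).obj G) z :=
  isAssPoint_tensor_pullback_iff (pullback.fst f g) F _ z
    (isFlatOverAt_pullback_of_isPullback (IsPullback.of_hasPullback f g).flip G z (hGfl _))

omit [IsLocallyNoetherian X] in
/-- an associated point of `q^*G` on its `p`-fibre maps to an associated point of `G` on its `g`-fibre. -/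
theorem fibAssAt_snd (z : ↑(pullback f g))
    (h : FibAssAt (pullback.fst f g) ((Scheme.Modules.pullback (pullback.snd f g)).obj G) z) :
    FibAssAt g G (pullback.snd f g z) := by
  have hc := IsPullback.of_hasPullback f g
  haveI : ((Scheme.Modules.pullback (pullback.snd f g)).obj G).IsQuasicoherent :=
    isQuasicoherent_pullback _ G
  obtain ⟨w, hw⟩ : z ∈ Set.range ((pullback.fst f g).fiberι (pullback.fst f g z)) := by
    rw [Scheme.Hom.range_fiberι]; rfl
  have h1 : Curv2.IsAssPoint ((Scheme.Modules.pullback
      ((pullback.fst f g).fiberι (pullback.fst f g z))).obj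
      ((Scheme.Modules.pullback (pullback.snd f g)).obj G)) w := by
    rw [isAssPoint_fibre_iff, hw]; exact h
  have h2 := ((isAssPoint_fibre_pullback_iff hc G _ w).1 h1).1
  have h3 := (isAssPoint_fibre_iff g G _ _).1 h2
  rw [fibreMap_apply, hw] at h3
  exact h3

/-- two associated points of `F ⊗_S G`, one specializing to the other, with the same projections
to `X` and `Y`, are equal (`Spec (κ(x) ⊗ κ(y))` has no embedded points). -/
theorem eq_of_isAssPoint_of_specializes (hGfl : FlatMod.IsFlatOver g G) (z z' : ↑(pullback f g))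
    (hz : Curv2.IsAssPoint (CohB1.tensorMod ((Scheme.Modules.pullback (pullback.fst f g)).obj F)
        ((Scheme.Modules.pullback (pullback.snd f g)).obj G)) z)
    (hz' : Curv2.IsAssPoint (CohB1.tensorMod ((Scheme.Modules.pullback (pullback.fst f g)).obj F)
        ((Scheme.Modules.pullback (pullback.snd f g)).obj G)) z')
    (hsp : z' ⤳ z) (hp : pullback.fst f g z' = pullback.fst f g z)
    (hq : pullback.snd f g z' = pullback.snd f g z) : z = z' := by
  have hc := IsPullback.of_hasPullback f g
  haveI : ((Scheme.Modules.pullback (pullback.snd f g)).obj G).IsQuasicoherent :=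
    isQuasicoherent_pullback _ G
  obtain ⟨w, hw⟩ : z ∈ Set.range ((pullback.fst f g).fiberι (pullback.fst f g z)) := by
    rw [Scheme.Hom.range_fiberι]; rfl
  obtain ⟨w', hw'⟩ : z' ∈ Set.range ((pullback.fst f g).fiberι (pullback.fst f g z)) := by
    rw [Scheme.Hom.range_fiberι]; exact hp
  have hspw : w' ⤳ w := by
    rw [← ((pullback.fst f g).fiberι (pullback.fst f g z)).isEmbedding.toIsInducing.specializes_iff,
      hw, hw']
    exact hsp
  have hF := ((isAssPoint_tensS_iff f g F G hGfl z).1 hz).2
  have hF' := ((isAssPoint_tensS_iff f g F G hGfl z').1 hz').2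
  have h1 : Curv2.IsAssPoint ((Scheme.Modules.pullback
      ((pullback.fst f g).fiberι (pullback.fst f g z))).obj
      ((Scheme.Modules.pullback (pullback.snd f g)).obj G)) w := by
    rw [isAssPoint_fibre_iff, hw]; exact hF
  have h1' : Curv2.IsAssPoint ((Scheme.Modules.pullback
      ((pullback.fst f g).fiberι (pullback.fst f g z))).obj
      ((Scheme.Modules.pullback (pullback.snd f g)).obj G)) w' := by
    rw [isAssPoint_fibre_iff, hw']; exact hF'
  have h2 := ((isAssPoint_fibre_pullback_iff hc G _ w).1 h1).2
  have h2' := ((isAssPoint_fibre_pullback_iff hc G _ w').1 h1').2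
  have hy : fibreMap hc (pullback.fst f g z) w' = fibreMap hc (pullback.fst f g z) w := by
    apply (g.fiberι (f (pullback.fst f g z))).isEmbedding.injective
    rw [fibreMap_apply, fibreMap_apply, hw, hw', hq]
  obtain ⟨v, hv⟩ : w ∈ Set.range ((fibreMap hc (pullback.fst f g z)).fiberι
      (fibreMap hc (pullback.fst f g z) w)) := by
    rw [Scheme.Hom.range_fiberι]; rfl
  obtain ⟨v', hv'⟩ : w' ∈ Set.range ((fibreMap hc (pullback.fst f g z)).fiberι
      (fibreMap hc (pullback.fst f g z) w)) := by
    rw [Scheme.Hom.range_fiberι]; exact hy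
  have hspv : v' ⤳ v := by
    rw [← ((fibreMap hc (pullback.fst f g z)).fiberι
      (fibreMap hc (pullback.fst f g z) w)).isEmbedding.toIsInducing.specializes_iff, hv, hv']
    exact hspw
  haveI : IsNoetherianRing (((pullback.fst f g).fiber (pullback.fst f g z)).presheaf.stalk
      ((fibreMap hc (pullback.fst f g z)).fiberι (fibreMap hc (pullback.fst f g z) w) v)) :=
    isNoetherianRing_stalk_fiber (pullback.fst f g) _ _
  haveI : IsNoetherianRing (((pullback.fst f g).fiber (pullback.fst f g z)).presheaf.stalk
      ((fibreMap hc (pullback.fst f g z)).fiberι (fibreMap hc (pullback.fst f g z) w) v')) :=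
    isNoetherianRing_stalk_fiber (pullback.fst f g) _ _
  have h3 : Curv2.IsAssPoint ((Scheme.Modules.pullback
      ((fibreMap hc (pullback.fst f g z)).fiberι (fibreMap hc (pullback.fst f g z) w))).obj
      (Coh.structureModule ((pullback.fst f g).fiber (pullback.fst f g z)))) v := by
    rw [isAssPoint_fibre_iff', hv]; exact h2
  have h3' : Curv2.IsAssPoint ((Scheme.Modules.pullback
      ((fibreMap hc (pullback.fst f g z)).fiberι (fibreMap hc (pullback.fst f g z) w))).obj
      (Coh.structureModule ((pullback.fst f g).fiber (pullback.fst f g z)))) v' := by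
    rw [isAssPoint_fibre_iff', hv']; exact h2'
  rw [isAssPoint_iff_of_iso (Groth.Agent.Lib.Helper23.PB.pullbackUnitIso _)] at h3 h3'
  have := noEmbedded_fiber_fibreMap hc (pullback.fst f g z) _ v h3 v' h3' hspv
  rw [← hw, ← hw', ← hv, ← hv', this]

end Groth.Agent.Lib.Helper7.TensS
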