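import Mathlib
import Groth.Agent.Lib.Helper7TensS
import Groth.Agent.Lib.Helper7FibreBC4

set_option autoImplicit false
set_option linter.style.haveILetI false
set_option linter.unusedVariables false
universe u
open CategoryTheory CategoryTheory.Limits AlgebraicGeometry TensorProduct IsLocalRing

namespace Groth.Agent.Lib.Helper7.TensS

open Groth.Agent.Lib.Helper2.FlatOver Groth.Agent.Lib.Helper26.TensStalk Groth.Agent.Lib.Helper7.AssTensorFlat
  Groth.Agent.Lib.Helper26.FibFlatSch Groth.Agent.Lib.Helper2.PullbackSec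
  Groth.Agent.Lib.Helper2.FibreCrit Groth.Agent.Lib.Helper7.AssTensorFlatSch
  Groth.Agent.Lib.Helper7.NoEmbBC Groth.Agent.Lib.Helper7.FibreBC
  Groth.Agent.Lib.Helper23.UnitStalk Groth.Agent.Lib.Helper6.NoEmb

/-- associated points of the structure sheaf are preserved by isomorphisms of schemes -/
theorem isAssPoint_structureModule_iso {W W' : Scheme.{u}} (θ : W ≅ W') (v : W) :
    Curv2.IsAssPoint (Coh.structureModule W') (θ.hom v) ↔
      Curv2.IsAssPoint (Coh.structureModule W) v := by
  rw [isAssPoint_structureModule_iff, isAssPoint_structureModule_iff]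
  let e : W'.presheaf.stalk (θ.hom v) ≃+* W.presheaf.stalk v :=
    (asIso (θ.hom.stalkMap v)).commRingCatIsoToRingEquiv
  exact ⟨isAssociatedPrime_maximalIdeal_of_ringEquiv e,
    isAssociatedPrime_maximalIdeal_of_ringEquiv e.symm⟩

variable {X Y S : Scheme.{u}} (f : X ⟶ S) (g : Y ⟶ S)
  [IsLocallyNoetherian X] [IsLocallyNoetherian Y] [IsLocallyNoetherian (pullback f g)]
  (F : X.Modules) [F.IsQuasicoherent] (G : Y.Modules) [G.IsQuasicoherent]

theorem fiberι_mem {A B : Scheme.{u}} (φ : A ⟶ B) (b : B) (a : φ.fiber b) : φ (φ.fiberι b a) = b := by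
  have : φ.fiberι b a ∈ Set.range (φ.fiberι b) := ⟨a, rfl⟩
  rw [Scheme.Hom.range_fiberι] at this
  exact this

/-- **EGA IV 3.3.6**: the associated points of `F ⊗_S G`. -/
theorem isAssPoint_tensS_iff_exists (hGfl : FlatMod.IsFlatOver g G) (z : ↑(pullback f g)) :
    Curv2.IsAssPoint (CohB1.tensorMod ((Scheme.Modules.pullback (pullback.fst f g)).obj F)
        ((Scheme.Modules.pullback (pullback.snd f g)).obj G)) z ↔
      ∃ (x : X) (_ : Curv2.IsAssPoint F x) (y' : g.fiber (f x))
        (_ : Curv2.IsAssPoint ((Scheme.Modules.pullback (g.fiberι (f x))).obj G) y')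
        (t : ↑(pullback (X.fromSpecResidueField x ≫ f)
          (Y.fromSpecResidueField (g.fiberι (f x) y') ≫ g))),
        Curv2.IsAssPoint (Coh.structureModule (pullback (X.fromSpecResidueField x ≫ f)
          (Y.fromSpecResidueField (g.fiberι (f x) y') ≫ g))) t ∧
        (pullback.map (X.fromSpecResidueField x ≫ f) (Y.fromSpecResidueField (g.fiberι (f x) y') ≫ g)
          f g (X.fromSpecResidueField x) (Y.fromSpecResidueField (g.fiberι (f x) y')) (𝟙 S)
          (Category.comp_id _) (Category.comp_id _)) t = z := by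
  have hc := IsPullback.of_hasPullback f g
  haveI : ((Scheme.Modules.pullback (pullback.snd f g)).obj G).IsQuasicoherent :=
    isQuasicoherent_pullback _ G
  constructor
  · intro hz
    obtain ⟨hzF, hzG⟩ := (isAssPoint_tensS_iff f g F G hGfl z).1 hz
    obtain ⟨w, hw⟩ : z ∈ Set.range ((pullback.fst f g).fiberι (pullback.fst f g z)) := by
      rw [Scheme.Hom.range_fiberι]; rfl
    have h1 : Curv2.IsAssPoint ((Scheme.Modules.pullback
        ((pullback.fst f g).fiberι (pullback.fst f g z))).obj
        ((Scheme.Modules.pullback (pullback.snd f g)).obj G)) w := by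
      rw [isAssPoint_fibre_iff, hw]; exact hzG
    obtain ⟨h2a, h2⟩ := (isAssPoint_fibre_pullback_iff hc G _ w).1 h1
    obtain ⟨v, hv⟩ : w ∈ Set.range ((fibreMap hc (pullback.fst f g z)).fiberι
        (fibreMap hc (pullback.fst f g z) w)) := by
      rw [Scheme.Hom.range_fiberι]; rfl
    haveI : IsNoetherianRing (((pullback.fst f g).fiber (pullback.fst f g z)).presheaf.stalk
        ((fibreMap hc (pullback.fst f g z)).fiberι (fibreMap hc (pullback.fst f g z) w) v)) :=
      isNoetherianRing_stalk_fiber (pullback.fst f g) _ _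
    have h3 : Curv2.IsAssPoint ((Scheme.Modules.pullback
        ((fibreMap hc (pullback.fst f g z)).fiberι (fibreMap hc (pullback.fst f g z) w))).obj
        (Coh.structureModule ((pullback.fst f g).fiber (pullback.fst f g z)))) v := by
      rw [isAssPoint_fibre_iff', hv]; exact h2
    rw [isAssPoint_iff_of_iso (Groth.Agent.Lib.Helper23.PB.pullbackUnitIso _)] at h3
    obtain ⟨θ, hθ⟩ := exists_iso_fiber_fibreMap hc (pullback.fst f g z)
      (fibreMap hc (pullback.fst f g z) w)
    refine ⟨pullback.fst f g z, hzF, fibreMap hc (pullback.fst f g z) w, h2a, θ.hom v,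
      (isAssPoint_structureModule_iso θ v).2 h3, ?_⟩
    rw [← Scheme.Hom.comp_apply, hθ _ (pullback.lift_fst _ _ _) (pullback.lift_snd _ _ _),
      Scheme.Hom.comp_apply, hv, hw]
  · rintro ⟨x, hx, y', hy', t, ht, rfl⟩
    obtain ⟨θ, hθ⟩ := exists_iso_fiber_fibreMap hc x y'
    obtain ⟨v, rfl⟩ : ∃ v, θ.hom v = t := ⟨θ.inv t, Scheme.hom_inv_apply θ.symm t⟩
    rw [isAssPoint_structureModule_iso θ v] at ht
    rw [← Scheme.Hom.comp_apply, hθ _ (pullback.lift_fst _ _ _) (pullback.lift_snd _ _ _),
      Scheme.Hom.comp_apply]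
    set w := (fibreMap hc x).fiberι y' v with hwdef
    have hhw : fibreMap hc x w = y' := fiberι_mem _ _ _
    haveI : IsNoetherianRing (((pullback.fst f g).fiber x).presheaf.stalk
        ((fibreMap hc x).fiberι y' v)) :=
      isNoetherianRing_stalk_fiber (pullback.fst f g) _ _
    have h3 : Curv2.IsAssPoint ((Scheme.Modules.pullback ((fibreMap hc x).fiberι y')).obj
        (Coh.structureModule ((pullback.fst f g).fiber x))) v := by
      rw [isAssPoint_iff_of_iso (Groth.Agent.Lib.Helper23.PB.pullbackUnitIso _)]; exact ht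
    have h2 : FibAssAt (fibreMap hc x) (Coh.structureModule ((pullback.fst f g).fiber x)) w :=
      (isAssPoint_fibre_iff' _ _ y' v).1 h3
    have h2a : Curv2.IsAssPoint ((Scheme.Modules.pullback (g.fiberι (f x))).obj G)
        (fibreMap hc x w) := by rw [hhw]; exact hy'
    have h1 := (isAssPoint_fibre_pullback_iff hc G x w).2 ⟨h2a, h2⟩
    have hzG := (isAssPoint_fibre_iff (pullback.fst f g) _ x w).1 h1
    have hpx : pullback.fst f g ((pullback.fst f g).fiberι x w) = x := fiberι_mem _ _ _
    refine (isAssPoint_tensS_iff f g F G hGfl _).2 ⟨?_, hzG⟩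
    rw [hpx]; exact hx

omit [IsLocallyNoetherian X] [IsLocallyNoetherian (pullback f g)] [F.IsQuasicoherent] [G.IsQuasicoherent] in
/-- over an associated point of the base, the associated points of a flat module are those of its
restriction to the fibre. -/
theorem isAssPoint_iff_fibAssAt [IsLocallyNoetherian S] (hGfl : FlatMod.IsFlatOver g G) (y : Y)
    (hs : Curv2.IsAssPoint (Coh.structureModule S) (g y)) :
    Curv2.IsAssPoint G y ↔ FibAssAt g G y := by
  rw [← isAssPoint_iff_of_iso
    (Groth.Agent.Lib.Helper23.AmpleIso.tensorModIso (Groth.Agent.Lib.Helper23.PB.pullbackUnitIso g)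
      (Iso.refl G) ≪≫ Groth.Agent.Lib.Helper23.TensorUnit.unitTensorIso G) y,
    isAssPoint_tensor_pullback_iff g (Coh.structureModule S) G y (hGfl y)]
  exact ⟨fun h => h.2, fun h => ⟨hs, h⟩⟩

end Groth.Agent.Lib.Helper7.TensS
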