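import Mathlib
import Groth.Agent.S8908
import Groth.Agent.Lib.Helper23ClPic3

/-!
# Associated points of torsion-free modules on reduced schemes (helper7)

Namespace `Groth.Agent.Lib.Helper7.TorsionFreeAss`.

* `maximalIdeal_eq_bot_of_mem_ass_self`, `maximalIdeal_eq_bot_of_isTorsionFree`: over a reduced
  Noetherian local ring, if the maximal ideal is associated to the ring (or to a torsion-free
  module), then the ring is a field.
* `maximalIdeal_stalk_eq_bot_of_isAssPoint`: the local ring at an associated point of a
  torsion-free module on a reduced locally Noetherian scheme is a field.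
* `eq_of_specializes_of_maximalIdeal_eq_bot`, `mem_genericPoints_of_maximalIdeal_eq_bot`,
  `mem_of_dense_of_maximalIdeal_eq_bot`: such points are generic points, and lie in every dense open.
* `hom_eq_zero_of_restrict_eq_zero`: a morphism into a quasi-coherent module all of whose
  associated points lie in the open `U` vanishes if its restriction to `U` does.
-/

set_option autoImplicit false
set_option linter.style.haveILetI false
universe u
open CategoryTheory CategoryTheory.Limits AlgebraicGeometry TopologicalSpace

namespace Groth.Agent.Lib.Helper7.TorsionFreeAss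

section Alg

variable {R : Type*} [CommRing R] [IsLocalRing R] [IsNoetherianRing R] [IsReduced R]

/-- a reduced Noetherian local ring whose maximal ideal consists of zero divisors is a field -/
theorem maximalIdeal_eq_bot_of_disjoint
    (h : Disjoint (IsLocalRing.maximalIdeal R : Set R) (nonZeroDivisors R)) :
    IsLocalRing.maximalIdeal R = ⊥ := by
  have h1 := Ideal.bot_lt_annihilator_of_disjoint_nonZeroDivisors h
  obtain ⟨-, r, hr, hr0⟩ := SetLike.lt_iff_le_and_exists.1 h1
  have hr0' : r ≠ 0 := fun h0 => hr0 (by rw [h0]; exact Submodule.zero_mem _)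
  have hkill : ∀ a ∈ IsLocalRing.maximalIdeal R, r * a = 0 := by
    intro a ha
    have := (Module.mem_annihilator.1 hr) ⟨a, ha⟩
    exact congrArg Subtype.val this
  have hunit : IsUnit r := by
    by_contra hnu
    have hrm : r ∈ IsLocalRing.maximalIdeal R := (IsLocalRing.mem_maximalIdeal r).2 hnu
    have h2 : r * r = 0 := hkill r hrm
    have h3 : IsNilpotent r := ⟨2, by rw [pow_two]; exact h2⟩
    exact hr0' h3.eq_zero
  rw [eq_bot_iff]
  intro a ha
  have h2 := hkill a ha
  exact (Submodule.mem_bot R).2 (hunit.mul_right_eq_zero.1 h2)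

/-- over a reduced Noetherian local ring, if the maximal ideal is associated to a torsion-free
module then the ring is a field -/
theorem maximalIdeal_eq_bot_of_isTorsionFree {N : Type*} [AddCommGroup N] [Module R N]
    [Module.IsTorsionFree R N] (h : IsAssociatedPrime (IsLocalRing.maximalIdeal R) N) :
    IsLocalRing.maximalIdeal R = ⊥ := by
  obtain ⟨hprime, x, hx⟩ := isAssociatedPrime_iff.1 h
  have hx0 : x ≠ 0 := by
    intro h0
    have : (1 : R) ∈ IsLocalRing.maximalIdeal R := by
      rw [hx, Submodule.mem_colon_singleton, Submodule.mem_bot, h0, smul_zero]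
    exact hprime.ne_top ((Ideal.eq_top_iff_one _).2 this)
  apply maximalIdeal_eq_bot_of_disjoint
  rw [Set.disjoint_left]
  intro a ha hreg
  have ha' : a • x = 0 := by
    have : a ∈ (⊥ : Submodule R N).colon {x} := hx ▸ ha
    rwa [Submodule.mem_colon_singleton, Submodule.mem_bot] at this
  have hreg' : IsRegular a := isRegular_iff_mem_nonZeroDivisors.2 hreg
  have hsm : IsSMulRegular N a := Module.IsTorsionFree.isSMulRegular hreg'
  apply hx0
  apply hsm
  change a • x = a • 0
  rw [ha', smul_zero]

/-- a reduced Noetherian local ring whose maximal ideal is an associated prime of the ring is a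
field -/
theorem maximalIdeal_eq_bot_of_mem_ass_self
    (h : IsAssociatedPrime (IsLocalRing.maximalIdeal R) R) : IsLocalRing.maximalIdeal R = ⊥ :=
  maximalIdeal_eq_bot_of_isTorsionFree h

end Alg

section Sch

variable {X : Scheme.{u}}

/-- the local ring at an associated point of a torsion-free module on a reduced locally Noetherian
scheme is a field -/
theorem maximalIdeal_stalk_eq_bot_of_isAssPoint [IsLocallyNoetherian X] [IsReduced X]
    (F : X.Modules) (htF : TorSh.IsTorsionFree F) (y : X) (hy : Curv2.IsAssPoint F y) :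
    IsLocalRing.maximalIdeal (X.presheaf.stalk y) = ⊥ := by
  haveI := htF y
  exact maximalIdeal_eq_bot_of_isTorsionFree hy

/-- a point whose local ring is a field has no proper generization -/
theorem eq_of_specializes_of_maximalIdeal_eq_bot (y : X)
    (hy : IsLocalRing.maximalIdeal (X.presheaf.stalk y) = ⊥) (y' : X) (h : y' ⤳ y) : y' = y := by
  have hsub : ∀ p q : PrimeSpectrum (X.presheaf.stalk y), p = q := by
    intro p q
    have hp : p.asIdeal = ⊥ := by
      rw [eq_bot_iff, ← hy]; exact IsLocalRing.le_maximalIdeal p.2.ne_top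
    have hq : q.asIdeal = ⊥ := by
      rw [eq_bot_iff, ← hy]; exact IsLocalRing.le_maximalIdeal q.2.ne_top
    exact PrimeSpectrum.ext (hp.trans hq.symm)
  have hmem : y' ∈ Set.range (X.fromSpecStalk y).base := by
    rw [Scheme.range_fromSpecStalk]; exact h
  have hmem' : y ∈ Set.range (X.fromSpecStalk y).base := by
    rw [Scheme.range_fromSpecStalk]; exact specializes_rfl
  obtain ⟨p, hp⟩ := hmem
  obtain ⟨q, hq⟩ := hmem'
  have hpq : p = q := hsub p q
  exact hp.symm.trans ((congrArg (X.fromSpecStalk y).base hpq).trans hq)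

/-- a point whose local ring is a field is a generic point of an irreducible component -/
theorem mem_genericPoints_of_maximalIdeal_eq_bot (y : X)
    (hy : IsLocalRing.maximalIdeal (X.presheaf.stalk y) = ⊥) : y ∈ genericPoints X := by
  obtain ⟨η, hη, hηy⟩ := Groth.Agent.Lib.Helper23.ClPic.exists_genericPoints_specializes y
  rw [← eq_of_specializes_of_maximalIdeal_eq_bot y hy η hηy]
  exact hη

/-- a point whose local ring is a field lies in every dense open of a Noetherian scheme -/
theorem mem_of_dense_of_maximalIdeal_eq_bot [IsNoetherian X] (y : X)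
    (hy : IsLocalRing.maximalIdeal (X.presheaf.stalk y) = ⊥) (U : X.Opens)
    (hU : Dense (U : Set X)) : y ∈ U :=
  Groth.Agent.Lib.Helper23.ClPic.genericPoints_subset_of_dense U.2 hU
    (mem_genericPoints_of_maximalIdeal_eq_bot y hy)

/-- a morphism into a quasi-coherent module all of whose associated points lie in the open `U`
vanishes if its restriction to `U` does -/
theorem hom_eq_zero_of_restrict_eq_zero [IsLocallyNoetherian X] {A B : X.Modules}
    [B.IsQuasicoherent] (g : A ⟶ B) (U : X.Opens) (hass : ∀ y ∈ AssSch.Ass B, y ∈ U)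
    (h : (Scheme.Modules.restrictFunctor U.ι).map g = 0) : g = 0 := by
  apply Scheme.Modules.hom_ext
  intro W
  ext s
  change g.app W s = 0
  by_contra hne
  obtain ⟨y, hyW, hyA, hgy⟩ :=
    Groth.Agent.Lib.Helper2.Ass.exists_isWeakAssPoint_of_ne_zero_open B W _ hne
  have hyU : y ∈ U := hass y ((Groth.Agent.Lib.Helper2.Ass.isAssPoint_iff_isWeakAssPoint B y).2 hyA)
  apply hgy
  have hle : U.ι ''ᵁ (U.ι ⁻¹ᵁ W) ≤ W := U.ι.image_preimage_le W
  have hyW' : y ∈ U.ι ''ᵁ (U.ι ⁻¹ᵁ W) := by
    rw [Scheme.Hom.image_preimage_eq_opensRange_inf, Scheme.Opens.opensRange_ι]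
    exact ⟨hyU, hyW⟩
  have h0 : ((Scheme.Modules.restrictFunctor U.ι).map g).app (U.ι ⁻¹ᵁ W) = 0 := by
    rw [h]; rfl
  have h1 : g.app (U.ι ''ᵁ (U.ι ⁻¹ᵁ W)) = 0 := h0
  have h2 : B.presheaf.map (homOfLE hle).op (g.app W s) = 0 := by
    rw [← Groth.Agent.S4683.app_res g hle s, h1]; rfl
  rw [← TopCat.Presheaf.germ_res_apply B.presheaf (homOfLE hle) y hyW' (g.app W s), h2, map_zero]

end Sch

end Groth.Agent.Lib.Helper7.TorsionFreeAss
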