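import Mathlib
import Groth.Prelude.Def_EGA41
import Groth.Agent.Lib.Helper7Imperf2

set_option autoImplicit false
set_option linter.style.haveILetI false
set_option linter.unusedSectionVars false
open TensorProduct KaehlerDifferential
universe u u' w

namespace Groth.Agent.Lib.Helper7.ExalLib

section TowerInj

variable {R : Type u} {R' : Type u'} {S T : Type w}
  [CommRing R] [CommRing R'] [CommRing S] [CommRing T]
  [Algebra R R'] [Algebra R S] [Algebra R' S] [IsScalarTower R R' S]
  [Algebra S T] [Algebra R T] [Algebra R' T]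
  [IsScalarTower R S T] [IsScalarTower R' S T] [IsScalarTower R R' T]

/-- In a tower `R → R' → S → T`: if `Υ_{T/R'/R} = 0` and `Υ_{T/S/R'} = 0` then `Υ_{T/S/R} = 0`. -/
theorem injective_mapBaseChange_of_tower
    (h1 : Function.Injective (KaehlerDifferential.mapBaseChange R R' T))
    (h2 : Function.Injective (KaehlerDifferential.mapBaseChange R' S T)) :
    Function.Injective (KaehlerDifferential.mapBaseChange R S T) := by
  rw [injective_iff_map_eq_zero]
  intro z hz
  have hz1 : bcPhi R R' S T z = 0 := by
    apply h2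
    rw [← map_mapBaseChange, hz, map_zero, map_zero]
  have hz2 : z ∈ LinearMap.range (bcBeta R R' S T) := by
    have : z ∈ LinearMap.ker (bcPhi R R' S T) := hz1
    rw [ker_bcPhi_eq_span] at this
    refine (Submodule.span_le.2 ?_) this
    rintro _ ⟨y, rfl⟩
    exact ⟨(1 : T) ⊗ₜ[R'] D R R' y, bcBeta_tmul_D _ _⟩
  obtain ⟨w, rfl⟩ := hz2
  rw [mapBaseChange_bcBeta] at hz
  have hw : w = 0 := h1 (hz.trans (map_zero _).symm)
  rw [hw, map_zero]

end TowerInj

end Groth.Agent.Lib.Helper7.ExalLib
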