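import Mathlib
import Groth.Agent.Lib.Helper7FibReg
import Groth.Agent.Lib.Helper7CIAvr4

set_option autoImplicit false
set_option linter.style.haveILetI false
set_option linter.unusedSectionVars false
universe u

namespace Groth.Agent.Lib.Helper7.TransReg
open IsLocalRing TensorProduct RingTheory.Sequence Groth.Agent.Lib.Helper7.CILocus
  Groth.Agent.Lib.Helper7.CIPres Groth.Agent.Lib.Helper7.CIAvr Groth.Agent.Lib.Helper7.FibReg

section RingMod

variable {A C : Type u} [CommRing A] [CommRing C] [Algebra A C]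

/-- ideal quotient versus `I • ⊤` quotient -/
noncomputable def quotSMulTopEquivQuot (I : Ideal C) :
    (C ⧸ (I • (⊤ : Submodule C C))) ≃ₗ[C] (C ⧸ I) :=
  Submodule.quotEquivOfEq _ _ (by rw [smul_eq_mul, Ideal.mul_top])

theorem flat_quot_iff (I : Ideal C) :
    Module.Flat A (C ⧸ (I • (⊤ : Submodule C C))) ↔ Module.Flat A (C ⧸ I) :=
  Module.Flat.equiv_iff ((quotSMulTopEquivQuot I).restrictScalars A)

/-- weak regularity on the quotient ring, as a module over the ring or over the quotient -/
theorem isWeaklyRegular_quot_iff (I : Ideal C) (rs : List C) :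
    IsWeaklyRegular (C ⧸ I) (rs.map (Ideal.Quotient.mk I)) ↔
      IsWeaklyRegular (C ⧸ (I • (⊤ : Submodule C C))) rs := by
  rw [LinearEquiv.isWeaklyRegular_congr (quotSMulTopEquivQuot I) rs]
  exact isWeaklyRegular_map_algebraMap_iff (C ⧸ I) (C ⧸ I) rs

end RingMod

section Main

variable (A C B : Type u) [CommRing A] [IsLocalRing A] [IsNoetherianRing A] [CommRing C]
  [IsLocalRing C] [IsNoetherianRing C] [Algebra A C] [IsLocalHom (algebraMap A C)]
  [Module.Flat A C] (hreg : IsRegularLocalRing (EGA4.FibRing A C))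
  [CommRing B] [IsLocalRing B] [Algebra C B] [Algebra A B] [IsScalarTower A C B]
  [IsLocalHom (algebraMap A B)] (hsurj : Function.Surjective (algebraMap C B))

omit [IsNoetherianRing A] [IsNoetherianRing C] [Module.Flat A C] [IsLocalHom (algebraMap A B)] in
theorem mB_le_jacobson : EGA4.mB A C ≤ (⊥ : Ideal C).jacobson := by
  rw [IsLocalRing.jacobson_eq_maximalIdeal ⊥ bot_ne_top]
  exact IsLocalRing.map_maximalIdeal_le (algebraMap A C)

omit [IsNoetherianRing A] [IsNoetherianRing C] [Module.Flat A C] [IsLocalHom (algebraMap A B)]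
  [IsLocalHom (algebraMap A C)] in
include hsurj in
theorem ker_le_maximalIdeal : RingHom.ker (algebraMap C B) ≤ maximalIdeal C :=
  IsLocalRing.le_maximalIdeal (RingHom.ker_ne_top _)

include hreg hsurj in
/-- the fibre is a complete intersection iff the fibre ideal is generated by a regular sequence -/
theorem ci_fibRing_iff :
    Pi1.IsCompleteIntersection (EGA4.FibRing A B) ↔
      ∃ rs : List (EGA4.FibRing A C),
        Ideal.ofList rs = (RingHom.ker (algebraMap C B)).map (Ideal.Quotient.mk (EGA4.mB A C)) ∧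
          IsRegular (EGA4.FibRing A C) rs := by
  have hcomm : (algebraMap A B).comp (RingHom.id A) = (algebraMap C B).comp (algebraMap A C) := by
    rw [RingHom.comp_id]
    exact IsScalarTower.algebraMap_eq A C B
  obtain ⟨φ, hφ, hker⟩ := exists_fibMap (RingHom.id A) Function.surjective_id (algebraMap C B)
    hsurj hcomm
  haveI := hreg
  rw [ci_iff_good_of_surjective φ hφ, ← regular_iff_good _ (RingHom.ker_ne_top φ), hker]

omit [IsNoetherianRing A] [IsNoetherianRing C] [Module.Flat A C] [IsLocalHom (algebraMap A B)]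
  [IsLocalHom (algebraMap A C)] [IsLocalRing A] [IsLocalRing B] [IsLocalRing C] in
include hsurj in
theorem flat_iff_flat_quot_ker :
    Module.Flat A B ↔ Module.Flat A (C ⧸ RingHom.ker (algebraMap C B)) := by
  let e : (C ⧸ RingHom.ker (IsScalarTower.toAlgHom A C B)) ≃ₐ[A] B :=
    Ideal.quotientKerAlgEquivOfSurjective (f := IsScalarTower.toAlgHom A C B) hsurj
  exact (Module.Flat.equiv_iff e.toLinearEquiv).symm

include hreg hsurj in
theorem of_transRegular (rs : List C) (hrs : Ideal.ofList rs = RingHom.ker (algebraMap C B))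
    (h : RegImm.IsTransRegularSeq A C rs) :
    Module.Flat A B ∧ Pi1.IsCompleteIntersection (EGA4.FibRing A B) := by
  obtain ⟨hwr, hfl⟩ := h
  constructor
  · rw [flat_iff_flat_quot_ker A C B hsurj, ← hrs]
    have := hfl rs.length le_rfl
    rwa [List.take_length] at this
  · rw [ci_fibRing_iff A C B hreg hsurj]
    refine ⟨rs.map (Ideal.Quotient.mk (EGA4.mB A C)), ?_, ?_⟩
    · rw [← Ideal.map_ofList, hrs]
    · haveI := hreg
      apply IsRegular.of_isWeaklyRegular_of_mem_maximalIdeal
      · intro rb hrb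
        obtain ⟨r, hr, rfl⟩ := List.mem_map.mp hrb
        have hrm : r ∈ maximalIdeal C := by
          apply ker_le_maximalIdeal C B hsurj
          rw [← hrs]
          exact Ideal.subset_span hr
        rw [mem_maximalIdeal, mem_nonunits_iff] at hrm ⊢
        intro hu
        haveI : IsLocalHom (Ideal.Quotient.mk (EGA4.mB A C)) :=
          IsLocalHom.of_surjective _ Ideal.Quotient.mk_surjective
        exact hrm (isUnit_of_map_unit (Ideal.Quotient.mk (EGA4.mB A C)) r hu)
      · rw [isWeaklyRegular_quot_iff]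
        exact isWeaklyRegular_quotient_of_flat (maximalIdeal A) rs C hwr
          (fun j hj => (flat_quot_iff _).mpr (hfl j hj))

omit [IsNoetherianRing A] [IsNoetherianRing C] [Module.Flat A C] [IsLocalHom (algebraMap A B)]
  [IsLocalHom (algebraMap A C)] [IsLocalRing A] [IsLocalRing B] [IsLocalRing C] [Algebra A B]
  [IsScalarTower A C B] [Algebra A C] [CommRing A] [Algebra C B] [CommRing B] in
theorem exists_list_lift {R S : Type u} [CommRing R] [CommRing S] (f : R →+* S) (J : Ideal R) :
    ∀ l : List S, (∀ x ∈ l, ∃ g ∈ J, f g = x) →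
      ∃ gs : List R, (∀ g ∈ gs, g ∈ J) ∧ gs.map f = l := by
  intro l
  induction l with
  | nil => intro _; exact ⟨[], by simp, rfl⟩
  | cons x l ih =>
    intro h
    obtain ⟨g, hg, hgx⟩ := h x List.mem_cons_self
    obtain ⟨gs, hgs, hmap⟩ := ih (fun y hy => h y (List.mem_cons_of_mem _ hy))
    refine ⟨g :: gs, ?_, ?_⟩
    · intro g' hg'
      rcases List.mem_cons.mp hg' with rfl | h'
      · exact hg
      · exact hgs g' h'
    · rw [List.map_cons, hgx, hmap]

include hreg hsurj in
theorem exists_transRegular (hfl : Module.Flat A B)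
    (hci : Pi1.IsCompleteIntersection (EGA4.FibRing A B)) :
    ∃ rs : List C, Ideal.ofList rs = RingHom.ker (algebraMap C B) ∧
      RegImm.IsTransRegularSeq A C rs := by
  obtain ⟨gbs, hgb, hgreg⟩ := (ci_fibRing_iff A C B hreg hsurj).mp hci
  set J := RingHom.ker (algebraMap C B) with hJ
  have hlift : ∀ x ∈ gbs, ∃ g ∈ J, Ideal.Quotient.mk (EGA4.mB A C) g = x := by
    intro x hx
    have : x ∈ J.map (Ideal.Quotient.mk (EGA4.mB A C)) := by
      rw [← hgb]
      exact Ideal.subset_span hx
    rw [Ideal.mem_map_iff_of_surjective _ Ideal.Quotient.mk_surjective] at this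
    exact this
  obtain ⟨gs, hgsJ, hmap⟩ := exists_list_lift (Ideal.Quotient.mk (EGA4.mB A C)) J gbs hlift
  have hle : Ideal.ofList gs ≤ J := Ideal.span_le.mpr hgsJ
  have hcomm : (algebraMap A B).comp (RingHom.id A) = (algebraMap C B).comp (algebraMap A C) := by
    rw [RingHom.comp_id]
    exact IsScalarTower.algebraMap_eq A C B
  -- Nakayama
  have hkey : J ≤ Ideal.ofList gs ⊔ EGA4.mB A C • J := by
    intro x hx
    have hx1 : Ideal.Quotient.mk (EGA4.mB A C) x ∈
        (Ideal.ofList gs).map (Ideal.Quotient.mk (EGA4.mB A C)) := by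
      rw [Ideal.map_ofList, hmap, hgb]
      exact Ideal.mem_map_of_mem _ hx
    rw [Ideal.mem_map_iff_of_surjective _ Ideal.Quotient.mk_surjective] at hx1
    obtain ⟨z, hz, hzx⟩ := hx1
    have hxz : x - z ∈ EGA4.mB A C := by
      rw [← Ideal.Quotient.eq_zero_iff_mem, map_sub, hzx, sub_self]
    have hxzJ : algebraMap C B (x - z) = 0 := by
      rw [← RingHom.mem_ker]
      exact J.sub_mem hx (hle hz)
    have h3 := mem_of_flat (R := A) (E := C) (A' := A) (D' := B)
      (RingHom.id A) Function.surjective_id (algebraMap C B) hsurj hcomm (maximalIdeal A) hxz hxzJ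
    have h4 : RingHom.ker (RingHom.id A) = ⊥ := by
      ext a; simp [RingHom.mem_ker]
    rw [h4, Ideal.map_bot, bot_sup_eq] at h3
    have : x = z + (x - z) := by ring
    rw [this]
    exact Submodule.add_mem_sup hz (by rwa [smul_eq_mul])
  have hJfg : J.FG := IsNoetherian.noetherian J
  have hJle : J ≤ Ideal.ofList gs :=
    Submodule.le_of_le_smul_of_le_jacobson_bot hJfg (mB_le_jacobson A C) hkey
  have hJeq : Ideal.ofList gs = J := le_antisymm hle hJle
  -- regularity
  have hw : IsWeaklyRegular (C ⧸ (EGA4.mB A C • (⊤ : Submodule C C))) gs := by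
    rw [← isWeaklyRegular_quot_iff, hmap]
    exact hgreg.toIsWeaklyRegular
  obtain ⟨h1, h2⟩ := isWeaklyRegular_and_flat_of_fibre (mB_le_jacobson A C) gs C hw
  exact ⟨gs, hJeq, h1, fun j hj => (flat_quot_iff _).mp (h2 j hj)⟩

end Main

end Groth.Agent.Lib.Helper7.TransReg
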