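import Mathlib
import Groth.Agent.Lib.Helper19GRLoc
import Groth.Agent.Lib.Helper7PolyPsCore

/-!
# Field extensions preserving regularity under base change (helper7)

`URP K E₀`: for every regular `K`-algebra `G`, `E₀ ⊗[K] G` is regular.  This holds for
`E₀ = Frac K[X]`, and passes to `E₀ ⊗[K] K₁` over `K₁` for finite purely inseparable `K₁/K`
(where `E₀ ⊗[K] K₁` is again a field).
-/

set_option autoImplicit false
set_option linter.style.haveILetI false
set_option linter.unusedSectionVars false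
universe u

namespace Groth.Agent.Lib.Helper7.URP

open TensorProduct Polynomial

/-- base change along `K → E₀` preserves regularity -/
def URP (K E₀ : Type u) [Field K] [Field E₀] [Algebra K E₀] : Prop :=
  ∀ (G : Type u) [CommRing G] [Algebra K G], IsRegularRing G → IsRegularRing (E₀ ⊗[K] G)

/-- the fraction field of `K[X]` -/
theorem urp_of_isFractionRing (K E₀ : Type u) [Field K] [Field E₀] [Algebra K E₀]
    [Algebra K[X] E₀] [IsScalarTower K K[X] E₀] [IsFractionRing K[X] E₀] : URP K E₀ := by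
  intro G _ _ hG
  haveI := Groth.Agent.Lib.Helper7.PolyPsCore.isRegularRing_polynomial G
  -- `G ⊗[K] K[X]` is regular
  have h1 : IsRegularRing (G ⊗[K] K[X]) :=
    IsRegularRing.of_ringEquiv (R := G[X]) (polyEquivTensor K G).toRingEquiv
  have h2 : IsRegularRing (K[X] ⊗[K] G) :=
    IsRegularRing.of_ringEquiv (R := G ⊗[K] K[X]) (Algebra.TensorProduct.comm K G K[X]).toRingEquiv
  -- localize
  haveI h3 : IsRegularRing ((K[X] ⊗[K] G) ⊗[K[X]] E₀) :=
    Groth.Agent.Lib.Helper19.GR.isRegularRing_of_isLocalization (R := K[X] ⊗[K] G)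
      (Algebra.algebraMapSubmonoid (K[X] ⊗[K] G) (nonZeroDivisors K[X]))
  have h4 : IsRegularRing (E₀ ⊗[K[X]] (K[X] ⊗[K] G)) :=
    IsRegularRing.of_ringEquiv (R := (K[X] ⊗[K] G) ⊗[K[X]] E₀)
      (Algebra.TensorProduct.comm K[X] (K[X] ⊗[K] G) E₀).toRingEquiv
  exact IsRegularRing.of_ringEquiv (R := E₀ ⊗[K[X]] (K[X] ⊗[K] G))
    (Algebra.TensorProduct.cancelBaseChange K K[X] E₀ E₀ G).toRingEquiv

section PI

variable (p : ℕ) [Fact p.Prime] (K E₀ K₁ : Type u) [Field K] [CharP K p] [Field E₀] [Algebra K E₀]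
  [Field K₁] [Algebra K K₁] [IsPurelyInseparable K K₁]

/-- every element of `K₁ ⊗[K] E₀` has a `p^n`-th power in `E₀` -/
lemma exists_pow_eq_one_tmul (x : K₁ ⊗[K] E₀) :
    ∃ (n : ℕ) (y : E₀), x ^ p ^ n = (1 : K₁) ⊗ₜ[K] y := by
  haveI : ExpChar K p := ExpChar.prime Fact.out
  haveI : CharP (K₁ ⊗[K] E₀) p :=
    charP_of_injective_algebraMap (algebraMap K (K₁ ⊗[K] E₀)).injective p
  induction x using TensorProduct.induction_on with
  | zero => exact ⟨0, 0, by simp⟩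
  | tmul k e =>
    obtain ⟨n, c, hc⟩ := IsPurelyInseparable.pow_mem K p k
    refine ⟨n, c • e ^ p ^ n, ?_⟩
    rw [Algebra.TensorProduct.tmul_pow, ← hc, Algebra.algebraMap_eq_smul_one,
      TensorProduct.smul_tmul]
  | add x y hx hy =>
    obtain ⟨n, a, ha⟩ := hx
    obtain ⟨m, b, hb⟩ := hy
    refine ⟨n + m, a ^ p ^ m + b ^ p ^ n, ?_⟩
    rw [add_pow_char_pow, pow_add, pow_mul, ha, pow_mul', hb, Algebra.TensorProduct.tmul_pow,
      Algebra.TensorProduct.tmul_pow, one_pow, one_pow, TensorProduct.tmul_add]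

include p in
/-- `K₁ ⊗[K] E₀` is a field when it is reduced and `K₁/K` is purely inseparable -/
theorem isField_tensor_of_isReduced (hred : IsReduced (K₁ ⊗[K] E₀)) : IsField (K₁ ⊗[K] E₀) := by
  haveI : Nontrivial (K₁ ⊗[K] E₀) :=
    (Algebra.TensorProduct.includeLeft_injective (R := K) (S := K) (A := K₁) (B := E₀)
      (algebraMap K E₀).injective).nontrivial
  refine ⟨exists_pair_ne _, mul_comm, fun {x} hx => ?_⟩
  obtain ⟨n, y, hy⟩ := exists_pow_eq_one_tmul p K E₀ K₁ x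
  have hy0 : y ≠ 0 := by
    rintro rfl
    rw [TensorProduct.tmul_zero] at hy
    exact hx (IsReduced.eq_zero x ⟨_, hy⟩)
  have hu : IsUnit (x ^ p ^ n) := by
    rw [hy]
    exact (isUnit_iff_ne_zero.2 hy0).map
      (Algebra.TensorProduct.includeRight : E₀ →ₐ[K] K₁ ⊗[K] E₀)
  have hpn : p ^ n ≠ 0 := pow_ne_zero _ (Fact.out : p.Prime).ne_zero
  have hux : IsUnit x := (isUnit_pow_iff hpn).1 hu
  obtain ⟨u, rfl⟩ := hux
  exact ⟨↑u⁻¹, u.mul_inv⟩

end PI

/-- `URP` passes to `K₁ ⊗[K] E₀` over `K₁` -/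
theorem urp_of_algEquiv (K E₀ K₁ T₀ : Type u) [Field K] [Field E₀] [Algebra K E₀] [Field K₁]
    [Algebra K K₁] [Field T₀] [Algebra K₁ T₀] (e : T₀ ≃ₐ[K₁] K₁ ⊗[K] E₀) (h : URP K E₀) :
    URP K₁ T₀ := by
  intro G _ _ hG
  letI : Algebra K G := ((algebraMap K₁ G).comp (algebraMap K K₁)).toAlgebra
  haveI : IsScalarTower K K₁ G := IsScalarTower.of_algebraMap_eq (fun _ => rfl)
  have h1 : IsRegularRing (E₀ ⊗[K] G) := h G hG
  have h2 : IsRegularRing (G ⊗[K] E₀) :=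
    IsRegularRing.of_ringEquiv (R := E₀ ⊗[K] G) (Algebra.TensorProduct.comm K E₀ G).toRingEquiv
  have h3 : IsRegularRing (G ⊗[K₁] (K₁ ⊗[K] E₀)) :=
    IsRegularRing.of_ringEquiv (R := G ⊗[K] E₀)
      (Algebra.TensorProduct.cancelBaseChange K K₁ G G E₀).symm.toRingEquiv
  have h4 : IsRegularRing ((K₁ ⊗[K] E₀) ⊗[K₁] G) :=
    IsRegularRing.of_ringEquiv (R := G ⊗[K₁] (K₁ ⊗[K] E₀))
      (Algebra.TensorProduct.comm K₁ G (K₁ ⊗[K] E₀)).toRingEquiv
  exact IsRegularRing.of_ringEquiv (R := (K₁ ⊗[K] E₀) ⊗[K₁] G)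
    (Algebra.TensorProduct.congr e.symm (AlgEquiv.refl : G ≃ₐ[K₁] G)).toRingEquiv

end Groth.Agent.Lib.Helper7.URP
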