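import Mathlib
import Groth.Prelude.Def_Found
import Groth.Prelude.Def_EGA4b
import Groth.Prelude.Def_CAlg2
import Groth.Agent.Lib.Helper7CplDom
import Groth.Agent.Lib.Helper28UnivCat
import Groth.Agent.Lib.Helper28FormalEquidimLoc
import Groth.Agent.S2632
import Groth.Agent.S4754

/-!
# Helper7UniUC: unibranch local rings with geometrically normal formal fibres are universally
catenary (EGA IV 7.6.x / Ratliff).
-/

set_option autoImplicit false
universe u

open TensorProduct IsLocalRing

namespace Groth.Agent.Lib.Helper7.UniUC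

/-- A formally equidimensional Noetherian local ring is formally catenary. -/
theorem isFormallyCatenary_of_isFormallyEquidim (R : Type u) [CommRing R] [IsNoetherianRing R]
    [IsLocalRing R] (h : EGA4.IsFormallyEquidim R) : EGA4.IsFormallyCatenary R := by
  intro p hp
  have h2 := (Groth.Agent.S2632.result R h).2 p
  exact h2.mp (Groth.Agent.Lib.Helper28.isEquidim_of_isDomain (R ⧸ p))

/-- A Noetherian local ring whose completion is a domain is universally catenary. -/
theorem isUniversallyCatenary_of_isDomain_cpl (R : Type u) [CommRing R] [IsNoetherianRing R]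
    [IsLocalRing R] [IsDomain (EGA4.Cpl R)] : CAlg.IsUniversallyCatenary R := by
  apply Groth.Agent.Lib.Helper28.isUniversallyCatenary_of_isFormallyCatenary
  apply isFormallyCatenary_of_isFormallyEquidim
  exact Groth.Agent.Lib.Helper28.isEquidim_of_isDomain (EGA4.Cpl R)

/-- Universal catenarity ascends from `A ⧸ I` to `A` for `I` contained in the nilradical. -/
theorem isUniversallyCatenary_of_quotient_nil (A : Type u) [CommRing A] [IsNoetherianRing A]
    (I : Ideal A) (hI : I ≤ nilradical A) (h : CAlg.IsUniversallyCatenary (A ⧸ I)) :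
    CAlg.IsUniversallyCatenary A := by
  refine ⟨inferInstance, ?_⟩
  intro S _ _ hft
  refine Groth.Agent.Lib.Helper28.isCatenary_of_forall_exists_surjective ?_
  intro P hP
  haveI : Algebra.FiniteType (A ⧸ I) ((A ⧸ I) ⊗[A] S) := inferInstance
  refine ⟨(A ⧸ I) ⊗[A] S, inferInstance,
    (Algebra.TensorProduct.includeRight : S →ₐ[A] (A ⧸ I) ⊗[A] S).toRingHom, ?_, ?_,
    h.2 ((A ⧸ I) ⊗[A] S) inferInstance⟩
  · intro t
    induction t using TensorProduct.induction_on with
    | zero => exact ⟨0, map_zero _⟩
    | tmul a s =>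
      obtain ⟨a, rfl⟩ := Ideal.Quotient.mk_surjective a
      refine ⟨a • s, ?_⟩
      change (1 : A ⧸ I) ⊗ₜ[A] (a • s) = _
      rw [TensorProduct.tmul_smul, TensorProduct.smul_tmul']
      congr 1
      rw [Algebra.smul_def, mul_one]; rfl
    | add x y hx hy =>
      obtain ⟨x, rfl⟩ := hx
      obtain ⟨y, rfl⟩ := hy
      exact ⟨x + y, map_add _ _ _⟩
  · intro s hs
    have hs' : (1 : A ⧸ I) ⊗ₜ[A] s = 0 := hs
    -- the kernel of `S → S/IS` is `IS ⊆ nil(S) ⊆ P`
    let e := (Algebra.TensorProduct.quotIdealMapEquivTensorQuot S I)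
    have h1 : (Ideal.Quotient.mk (I.map (algebraMap A S))) s = 0 := by
      have h2 : e (Ideal.Quotient.mk (I.map (algebraMap A S)) s) = s ⊗ₜ[A] (1 : A ⧸ I) := by
        simp [e]
      have h3 : s ⊗ₜ[A] (1 : A ⧸ I) = 0 := by
        have := congrArg (TensorProduct.comm A (A ⧸ I) S) hs'
        simpa using this
      rw [h3] at h2
      exact e.injective (by rw [h2, map_zero])
    rw [Ideal.Quotient.eq_zero_iff_mem] at h1
    have h4 : I.map (algebraMap A S) ≤ P := by
      rw [Ideal.map_le_iff_le_comap]
      intro a ha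
      have : IsNilpotent a := hI ha
      obtain ⟨n, hn⟩ := this
      rw [Ideal.mem_comap]
      apply hP.mem_of_pow_mem n
      rw [← map_pow, hn, map_zero]
      exact zero_mem _
    exact h4 h1

/-- A unibranch Noetherian local ring with geometrically normal formal fibres is universally
catenary. -/
theorem main (A : Type u) [CommRing A] [IsLocalRing A] [IsNoetherianRing A]
    (hA : EGA4.HasGeomNormalFormalFibres A) (hu : CAlg2.IsUnibranch A) :
    CAlg.IsUniversallyCatenary A := by
  obtain ⟨hdom, hloc⟩ := hu
  haveI : Nontrivial (A ⧸ nilradical A) := Ideal.Quotient.nontrivial_iff.mpr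
    (fun h => by
      have : (1 : A) ∈ nilradical A := h ▸ Submodule.mem_top
      exact not_isNilpotent_one this)
  have hR : EGA4.HasGeomNormalFormalFibres (A ⧸ nilradical A) :=
    Groth.Agent.S4754.result A hA (nilradical A)
  haveI : IsDomain (A ⧸ nilradical A) := hdom
  haveI : IsLocalRing (integralClosure (A ⧸ nilradical A) (FractionRing (A ⧸ nilradical A))) :=
    hloc
  haveI : IsDomain (EGA4.Cpl (A ⧸ nilradical A)) :=
    Groth.Agent.Lib.Helper7.CplDom.isDomain_cpl_of_isLocalRing_integralClosure _ hR
  exact isUniversallyCatenary_of_quotient_nil A (nilradical A) le_rfl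
    (isUniversallyCatenary_of_isDomain_cpl (A ⧸ nilradical A))

end Groth.Agent.Lib.Helper7.UniUC
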