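import Groth.Agent.Lib.Helper25AInvTop

/-!
# The a-invariant through a homogeneous regular system of parameters of varying degrees (helper8)

A variant of helper25's `endDeg_add_eq` with degrees `deg i` depending on `i`.
-/

set_option autoImplicit false
set_option linter.unusedSectionVars false
set_option linter.style.haveILetI false

noncomputable section

namespace Groth.Agent.Lib.Helper8.AInvReg

open DirectSum Groth.Agent.Lib.Helper29GrQuot Groth.Agent.Lib.Helper25.AInvTop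

universe u

variable {R : Type u} [CommRing R] (𝒜 : ℤ → AddSubgroup R) [GradedRing 𝒜]
variable (hpos : ∀ n : ℤ, n < 0 → 𝒜 n = ⊥) (h0 : IsField (GrLC.deg0 𝒜))

include hpos h0 in
theorem endDeg_add_eq [LocCoh.IsCohenMacaulayRing R] (m : HomogeneousIdeal 𝒜)
    (hm : GrLC.IsStarLocal 𝒜 m)
    (hmsp : m.toIdeal = Ideal.span (⋃ n ∈ Set.Ioi (0 : ℤ), (𝒜 n : Set R)))
    (r : ℕ) (hr : ringKrullDim R = r) (I : GrLC.StarInjRes 𝒜 𝒜)
    (y : Fin r → R) (deg : Fin r → ℤ) (hy : ∀ i, y i ∈ 𝒜 (deg i)) (hD : ∀ i, 0 < deg i)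
    (hreg : RingTheory.Sequence.IsRegular R (List.ofFn y))
    (hrad : m.toIdeal ≤ (Ideal.span (Set.range y)).radical) :
    GrLC.endDeg (quotGr 𝒜 (Ideal.span (Set.range y))) =
      GrLC.endDeg (I.Hgr m r) +
        ((((Finset.univ : Finset (Fin r)).sum deg : ℤ) : WithTop ℤ) : WithBot (WithTop ℤ)) := by
  classical
  set J : Ideal R := Ideal.span (Set.range y) with hJ
  have hJhom : J.IsHomogeneous 𝒜 := by
    apply Ideal.homogeneous_span
    rintro _ ⟨i, rfl⟩
    exact ⟨deg i, hy i⟩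
  letI : DirectSum.Decomposition (quotGr 𝒜 J) := quotDecomposition 𝒜 J hJhom
  letI : SetLike.GradedSMul 𝒜 (quotGr 𝒜 J) := quot_gradedSMul 𝒜 J 𝒜
  let F : GrLC.StarInjRes 𝒜 (quotGr 𝒜 J) := Groth.Agent.Lib.Helper29GrRes.starInjRes 𝒜 (quotGr 𝒜 J)
  have hym : ∀ i, y i ∈ m.toIdeal := by
    intro i
    rw [hmsp]
    exact Ideal.subset_span (Set.mem_iUnion₂.mpr ⟨deg i, hD i, hy i⟩)
  have key := Groth.Agent.S18645.result R 𝒜 hpos h0 m hm hmsp r hr I r le_rfl y deg hy hym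
    hreg (R ⧸ J) (quotGr 𝒜 J) J.mkQ (fun g x hx => ⟨x, hx, rfl⟩) (Submodule.mkQ_surjective J)
    (Submodule.ker_mkQ J) F
  rw [Nat.sub_self] at key
  rw [← key]
  haveI : IsNoetherianRing R := inferInstance
  obtain ⟨k, hk⟩ := Ideal.exists_pow_le_of_le_radical_of_fg hrad (IsNoetherian.noetherian _)
  have htors : ∀ n : R ⧸ J, n ∈ GrLC.gam m.toIdeal (R ⧸ J) := by
    intro n
    obtain ⟨x, rfl⟩ := Submodule.mkQ_surjective J n
    refine ⟨k, fun s hs => ?_⟩
    rw [← map_smul, Submodule.mkQ_apply, Submodule.Quotient.mk_eq_zero, smul_eq_mul]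
    exact J.mul_mem_right _ (hk hs)
  exact (Groth.Agent.Lib.Helper29GrRegSeqEnd.endDeg_congr _ _
    (fun γ => Hgr_zero_eq_bot_iff F m htors γ)).symm

end Groth.Agent.Lib.Helper8.AInvReg
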