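import Groth.Agent.S0304
import Groth.Agent.S0306
import Groth.Agent.S0307
import Groth.Agent.S0311
import Groth.Agent.S0314
import Groth.Agent.S11661
import Mathlib

set_option autoImplicit false
universe u
open CategoryTheory CategoryTheory.Limits IsLocalRing

namespace Groth.Agent.Lib.Helper8.ArtCol

section Good

variable (A : Type u) [CommRing A]

/-- a module which is finite over some Artinian `A`-algebra. -/
def Good (N : Type u) [AddCommGroup N] [Module A N] : Prop :=
  ∃ (B : Type u) (_ : CommRing B) (_ : Algebra A B) (_ : IsArtinianRing B) (_ : Module B N)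
    (_ : IsScalarTower A B N), Module.Finite B N

variable {A}

theorem Good.of_linearEquiv {N N' : Type u} [AddCommGroup N] [Module A N] [AddCommGroup N']
    [Module A N'] (e : N ≃ₗ[A] N') (h : Good A N) : Good A N' := by
  obtain ⟨B, _, _, hB, _, _, hfin⟩ := h
  let _ : Module B N' := e.symm.toAddEquiv.module B
  have ht : IsScalarTower A B N' := LinearEquiv.isScalarTower B e.symm
  exact ⟨B, inferInstance, inferInstance, hB, inferInstance, ht,
    Module.Finite.equiv (e.symm.toAddEquiv.linearEquiv B).symm⟩

theorem Good.of_subsingleton (N : Type u) [AddCommGroup N] [Module A N] [Subsingleton N] :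
    Good A N := by
  let _ : Module PUnit.{u + 1} N :=
    { smul := fun _ x => x
      one_smul := fun _ => rfl
      mul_smul := fun _ _ _ => rfl
      smul_zero := fun _ => rfl
      smul_add := fun _ _ _ => rfl
      add_smul := fun _ _ _ => Subsingleton.elim _ _
      zero_smul := fun _ => Subsingleton.elim _ _ }
  refine ⟨PUnit.{u + 1}, inferInstance, inferInstance, inferInstance, inferInstance,
    ⟨fun _ _ _ => Subsingleton.elim _ _⟩, ⟨⟨∅, Subsingleton.elim _ _⟩⟩⟩

theorem Good.prod {N₁ N₂ : Type u} [AddCommGroup N₁] [Module A N₁] [AddCommGroup N₂]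
    [Module A N₂] (h₁ : Good A N₁) (h₂ : Good A N₂) : Good A (N₁ × N₂) := by
  obtain ⟨B₁, _, _, hB₁, _, _, hfin₁⟩ := h₁
  obtain ⟨B₂, _, _, hB₂, _, _, hfin₂⟩ := h₂
  let _ : Module (B₁ × B₂) N₁ := Module.compHom N₁ (RingHom.fst B₁ B₂)
  let _ : Module (B₁ × B₂) N₂ := Module.compHom N₂ (RingHom.snd B₁ B₂)
  have ht₁ : IsScalarTower A (B₁ × B₂) N₁ := ⟨fun a b x => by
    show (a • b).1 • x = a • (b.1 • x)
    rw [Prod.smul_fst, smul_assoc]⟩
  have ht₂ : IsScalarTower A (B₁ × B₂) N₂ := ⟨fun a b x => by
    show (a • b).2 • x = a • (b.2 • x)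
    rw [Prod.smul_snd, smul_assoc]⟩
  have hf₁ : Module.Finite (B₁ × B₂) N₁ := by
    obtain ⟨S, hS⟩ := hfin₁.1
    refine ⟨⟨S, ?_⟩⟩
    rw [eq_top_iff]
    rintro x -
    have hx : x ∈ Submodule.span B₁ (S : Set N₁) := by rw [hS]; trivial
    induction hx using Submodule.span_induction with
    | mem y hy => exact Submodule.subset_span hy
    | zero => exact zero_mem _
    | add y z _ _ hy hz => exact add_mem hy hz
    | smul b y _ hy =>
      have : b • y = ((b, 0) : B₁ × B₂) • y := rfl
      rw [this]
      exact Submodule.smul_mem _ _ hy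
  have hf₂ : Module.Finite (B₁ × B₂) N₂ := by
    obtain ⟨S, hS⟩ := hfin₂.1
    refine ⟨⟨S, ?_⟩⟩
    rw [eq_top_iff]
    rintro x -
    have hx : x ∈ Submodule.span B₂ (S : Set N₂) := by rw [hS]; trivial
    induction hx using Submodule.span_induction with
    | mem y hy => exact Submodule.subset_span hy
    | zero => exact zero_mem _
    | add y z _ _ hy hz => exact add_mem hy hz
    | smul b y _ hy =>
      have : b • y = ((0, b) : B₁ × B₂) • y := rfl
      rw [this]
      exact Submodule.smul_mem _ _ hy
  exact ⟨B₁ × B₂, inferInstance, inferInstance, inferInstance, inferInstance, inferInstance,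
    inferInstance⟩

end Good


section Local

variable {A : Type u} [CommRing A]

theorem isArtinianRing_quot_pow (R' : Type u) [CommRing R'] [IsLocalRing R'] [IsNoetherianRing R']
    (n : ℕ) : IsArtinianRing (R' ⧸ maximalIdeal R' ^ n) := by
  rw [isArtinianRing_iff_isNoetherianRing_krullDimLE_zero]
  refine ⟨inferInstance, ?_⟩
  rw [Ring.krullDimLE_zero_iff]
  intro P hP
  let q := Ideal.Quotient.mk (maximalIdeal R' ^ n)
  have hc : (P.comap q).IsPrime := Ideal.comap_isPrime _ _
  have hle : maximalIdeal R' ^ n ≤ P.comap q := by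
    conv_lhs => rw [← Ideal.mk_ker (I := maximalIdeal R' ^ n)]
    exact Ideal.comap_mono bot_le
  have hm : maximalIdeal R' ≤ P.comap q := hc.le_of_pow_le hle
  have hmax : (P.comap q).IsMaximal := by
    have : P.comap q = maximalIdeal R' :=
      le_antisymm (IsLocalRing.le_maximalIdeal hc.ne_top) hm
    rw [this]
    exact maximalIdeal.isMaximal R'
  have := Ideal.map_eq_top_or_isMaximal_of_surjective q Ideal.Quotient.mk_surjective hmax
  rw [Ideal.map_comap_of_surjective q Ideal.Quotient.mk_surjective P] at this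
  exact this.resolve_left hP.ne_top

theorem good_torsion (R' : Type u) [CommRing R'] [IsLocalRing R'] [IsNoetherianRing R']
    [Algebra A R'] (E' : Type u) [AddCommGroup E'] [Module R' E'] [Module A E']
    [IsScalarTower A R' E'] (hArt : IsArtinian R' E') (n : ℕ) :
    Good A (Submodule.torsionBySet R' E' ((maximalIdeal R' ^ n : Ideal R') : Set R')) := by
  have hB := isArtinianRing_quot_pow R' n
  refine ⟨R' ⧸ maximalIdeal R' ^ n, inferInstance, inferInstance, hB, inferInstance,
    inferInstance, ?_⟩
  have h1 : IsArtinian R' (Submodule.torsionBySet R' E' ((maximalIdeal R' ^ n : Ideal R') : Set R')) :=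
    inferInstance
  have h2 : IsArtinian (R' ⧸ maximalIdeal R' ^ n)
      (Submodule.torsionBySet R' E' ((maximalIdeal R' ^ n : Ideal R') : Set R')) :=
    isArtinian_of_tower R' h1
  exact ((IsArtinianRing.tfae (R' ⧸ maximalIdeal R' ^ n) _).out 0 2).mpr h2

end Local


section Filtration

variable {A : Type u} [CommRing A] [IsNoetherianRing A]

theorem exists_filtration (E : Type u) [AddCommGroup E] [Module A E]
    (hE : InjHull.IsIndecomposable A E) (hinj : Module.Injective A E) :
    ∃ N : ℕ → Submodule A E, Monotone N ∧ (∀ x, ∃ n, x ∈ N n) ∧ ∀ n, Good A (N n) := by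
  have := hE.1
  obtain ⟨p, hp, f, hf⟩ := Groth.Agent.S0306.exists_prime_embedding (R := A) E
  have := hp
  have hrange : LinearMap.range f ≠ ⊥ := by
    intro h
    rw [LinearMap.range_eq_bot] at h
    have : f 1 = f 0 := by rw [h]; rfl
    exact one_ne_zero (hf this)
  have hull : InjHull.IsInjectiveHull f :=
    ⟨⟨hf, fun N hN => (Groth.Agent.S0304.result A E hE hinj).1 N _ hN hrange⟩, hinj⟩
  obtain ⟨hbij, g, hg⟩ := (Groth.Agent.S11661.result A p.primeCompl p E f hull).2
    (Set.disjoint_left.mpr fun x hx hx' => hx' hx)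
  have hmax : p.map (algebraMap A (Localization.AtPrime p)) =
      maximalIdeal (Localization.AtPrime p) := Localization.AtPrime.map_eq_maximalIdeal
  let e0 : (Localization.AtPrime p ⧸ maximalIdeal (Localization.AtPrime p)) ≃ₗ[Localization.AtPrime p]
      (Localization.AtPrime p ⧸ p.map (algebraMap A (Localization.AtPrime p))) :=
    Submodule.quotEquivOfEq _ _ hmax.symm
  let f' : ResidueField (Localization.AtPrime p) →ₗ[Localization.AtPrime p]
      LocalizedModule p.primeCompl E := g.comp e0.toLinearMap
  have hf' : InjHull.IsInjectiveHull f' :=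
    ⟨⟨hg.injective.comp e0.injective, fun N hN => by
      have : LinearMap.range f' = LinearMap.range g :=
        LinearMap.range_comp_of_range_eq_top _ (LinearEquiv.range e0)
      rw [this]
      exact hg.essential N hN⟩, hg.isInjective⟩
  have hArt := Groth.Agent.S0314.result (Localization.AtPrime p) (LocalizedModule p.primeCompl E)
    f' hf'
  have hPT := Groth.Agent.S0311.result (Localization.AtPrime p) (LocalizedModule p.primeCompl E)
    f' hf'
  let e : E ≃ₗ[A] LocalizedModule p.primeCompl E :=
    LinearEquiv.ofBijective (LocalizedModule.mkLinearMap p.primeCompl E) hbij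
  let T : ℕ → Submodule (Localization.AtPrime p) (LocalizedModule p.primeCompl E) := fun n =>
    Submodule.torsionBySet (Localization.AtPrime p) (LocalizedModule p.primeCompl E)
      ((maximalIdeal (Localization.AtPrime p) ^ n : Ideal (Localization.AtPrime p)) :
        Set (Localization.AtPrime p))
  let N : ℕ → Submodule A E := fun n =>
    { carrier := {x | e x ∈ T n}
      add_mem' := fun {x y} hx hy => by
        show e (x + y) ∈ T n
        rw [map_add]
        exact add_mem hx hy
      zero_mem' := by
        show e 0 ∈ T n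
        rw [map_zero]
        exact zero_mem _
      smul_mem' := fun a x hx => by
        show e (a • x) ∈ T n
        rw [map_smul]
        exact (T n).smul_of_tower_mem a hx }
  refine ⟨N, ?_, ?_, ?_⟩
  · intro n n' hnn' x hx
    have hle : T n ≤ T n' :=
      Submodule.torsionBySet_le_torsionBySet_of_subset (Ideal.pow_le_pow_right hnn')
    exact hle hx
  · intro x
    obtain ⟨k, hk⟩ := hPT (e x)
    refine ⟨k, ?_⟩
    show e x ∈ T k
    rw [Submodule.mem_torsionBySet_iff]
    rintro ⟨a, ha⟩
    exact hk a ha
  · intro n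
    let φ : ↥(N n) →ₗ[A] ↥(T n) :=
      { toFun := fun x => ⟨e x, x.2⟩
        map_add' := fun x y => by
          apply Subtype.ext
          show e (↑x + ↑y) = e x + e y
          rw [map_add]
        map_smul' := fun a x => by
          apply Subtype.ext
          show e (a • (x : E)) = a • e x
          rw [map_smul] }
    have hφ : Function.Bijective φ := by
      constructor
      · intro x y hxy
        apply Subtype.ext
        have h1 : (φ x : LocalizedModule p.primeCompl E) = φ y := congrArg Subtype.val hxy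
        exact e.injective h1
      · rintro ⟨y, hy⟩
        refine ⟨⟨e.symm y, ?_⟩, ?_⟩
        · show e (e.symm y) ∈ T n
          rw [LinearEquiv.apply_symm_apply]
          exact hy
        · apply Subtype.ext
          show e (e.symm y) = y
          rw [LinearEquiv.apply_symm_apply]
    exact Good.of_linearEquiv (LinearEquiv.ofBijective φ hφ).symm
      (good_torsion (Localization.AtPrime p) (LocalizedModule p.primeCompl E) hArt n)

end Filtration


section Sums

variable {A : Type u} [CommRing A] {J : Type u} [AddCommGroup J] [Module A J]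

theorem Good.sup (p q : Submodule A J) (h : Disjoint p q) (hp : Good A p) (hq : Good A q) :
    Good A ↥(p ⊔ q) := by
  let φ : (p × q) →ₗ[A] ↥(p ⊔ q) :=
    (p.subtype.coprod q.subtype).codRestrict (p ⊔ q) (fun x => by
      rw [LinearMap.coprod_apply]
      exact Submodule.add_mem_sup x.1.2 x.2.2)
  have hφ : Function.Bijective φ := by
    constructor
    · rw [injective_iff_map_eq_zero]
      rintro ⟨x, y⟩ hxy
      have h1 : (x : J) + y = 0 := congrArg Subtype.val hxy
      have h2 : (x : J) = -y := eq_neg_of_add_eq_zero_left h1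
      have h3 : (x : J) = 0 :=
        Submodule.disjoint_def.mp h x x.2 (h2 ▸ q.neg_mem y.2)
      have h4 : (y : J) = 0 := by rw [h3, zero_add] at h1; exact h1
      exact Prod.ext (Subtype.ext h3) (Subtype.ext h4)
    · rintro ⟨z, hz⟩
      obtain ⟨x, hx, y, hy, rfl⟩ := Submodule.mem_sup.mp hz
      exact ⟨(⟨x, hx⟩, ⟨y, hy⟩), Subtype.ext rfl⟩
  exact Good.of_linearEquiv (LinearEquiv.ofBijective φ hφ) (Good.prod hp hq)

theorem Good.of_eq {p q : Submodule A J} (h : p = q) (hp : Good A p) : Good A q :=
  Good.of_linearEquiv (LinearEquiv.ofEq p q h) hp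

theorem good_finset_sup {ι : Type u} (E : ι → Submodule A J) (hind : iSupIndep E)
    (M' : ι → Submodule A J) (hle : ∀ i, M' i ≤ E i) (hgood : ∀ i, Good A (M' i))
    (F : Finset ι) : Good A ↥(⨆ i ∈ F, M' i) := by
  classical
  induction F using Finset.induction_on with
  | empty =>
    have h0 : (⨆ i ∈ (∅ : Finset ι), M' i) = ⊥ := by simp
    have : Subsingleton ↥(⨆ i ∈ (∅ : Finset ι), M' i) :=
      Submodule.subsingleton_iff_eq_bot.mpr h0
    exact Good.of_subsingleton _
  | insert a F ha ih =>
    have h1 : (⨆ i ∈ insert a F, M' i) = M' a ⊔ ⨆ i ∈ F, M' i := Finset.iSup_insert a F M'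
    have hdis : Disjoint (M' a) (⨆ i ∈ F, M' i) := by
      refine Disjoint.mono (hle a) ?_ (hind a)
      exact iSup₂_le fun i hi => le_iSup₂_of_le i (ne_of_mem_of_not_mem hi ha) (hle i)
    exact Good.of_eq h1.symm (Good.sup _ _ hdis (hgood a) ih)

end Sums

section Dir

variable {A : Type u} [CommRing A] {J : Type u} [AddCommGroup J] [Module A J]
variable {κ : Type u} [Preorder κ]

/-- the transition maps of a monotone family of submodules. -/
def incl (S : κ → Submodule A J) (hS : Monotone S) (k l : κ) (h : k ≤ l) :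
    ↥(S k) →ₗ[A] ↥(S l) :=
  Submodule.inclusion (hS h)

theorem dirSys (S : κ → Submodule A J) (hS : Monotone S) :
    DirectedSystem (fun k => ↥(S k)) (fun k l (h : k ≤ l) => incl S hS k l h) where
  map_self _ _ := rfl
  map_map _ _ _ _ _ _ := rfl

theorem exists_colimit_of_directed [IsDirected κ (· ≤ ·)] [Nonempty κ] [DecidableEq κ] (S : κ → Submodule A J) (hS : Monotone S)
    (hcover : ∀ x : J, ∃ k, x ∈ S k) :
    ∃ (D : κ ⥤ ModuleCat.{u} A) (c : Cocone D) (_ : IsColimit c),
      Nonempty (c.pt ≅ ModuleCat.of A J) ∧ ∀ k, D.obj k = ModuleCat.of A ↥(S k) := by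
  have hds := dirSys S hS
  let L : Module.DirectLimit (fun k => ↥(S k)) (incl S hS) →ₗ[A] J :=
    Module.DirectLimit.lift A κ (fun k => ↥(S k)) (incl S hS) (fun k => (S k).subtype)
      (fun _ _ _ _ => rfl)
  have hL : Function.Bijective L := by
    constructor
    · exact Module.DirectLimit.lift_injective _ _ (fun k => Submodule.injective_subtype _)
    · intro x
      obtain ⟨k, hk⟩ := hcover x
      exact ⟨Module.DirectLimit.of A _ (fun k => ↥(S k)) (incl S hS) k ⟨x, hk⟩,
        Module.DirectLimit.lift_of _ _ _⟩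
  exact ⟨ModuleCat.directLimitDiagram (fun k => ↥(S k)) (incl S hS),
    ModuleCat.directLimitCocone (fun k => ↥(S k)) (incl S hS),
    ModuleCat.directLimitIsColimit (fun k => ↥(S k)) (incl S hS),
    ⟨(LinearEquiv.ofBijective L hL).toModuleIso⟩, fun k => rfl⟩

end Dir

section Main

variable (A : Type u) [CommRing A] [IsNoetherianRing A]

theorem exists_colimit (J : Type u) [AddCommGroup J] [Module A J] [Module.Injective A J] :
    ∃ (ι : Type u) (_ : SmallCategory ι) (_ : IsFiltered ι) (D : ι ⥤ ModuleCat.{u} A)
      (c : Cocone D) (_ : IsColimit c), Nonempty (c.pt ≅ ModuleCat.of A J) ∧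
      ∀ i : ι, Good A (D.obj i) := by
  classical
  obtain ⟨ι, E, hint, hE⟩ := Groth.Agent.S0307.result A J inferInstance
  choose N hNmono hNex hNgood using fun i => exists_filtration (↥(E i)) (hE i).1 (hE i).2
  let M' : ι → ℕ → Submodule A J := fun i n => (N i n).map (E i).subtype
  have hM'le : ∀ i n, M' i n ≤ E i := fun i n => Submodule.map_subtype_le _ _
  have hM'good : ∀ i n, Good A (M' i n) := fun i n =>
    Good.of_linearEquiv (Submodule.equivMapOfInjective (E i).subtype
      (Submodule.injective_subtype _) (N i n)) (hNgood i n)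
  have hM'mono : ∀ i, Monotone (M' i) := fun i n n' h => Submodule.map_mono (hNmono i h)
  let S : Finset ι × ℕ → Submodule A J := fun k => ⨆ i ∈ k.1, M' i k.2
  have hSmono : Monotone S := fun k l h =>
    iSup₂_le fun i hi => le_iSup₂_of_le i (h.1 hi) (hM'mono i h.2)
  have hSgood : ∀ k, Good A (S k) := fun k =>
    good_finset_sup E hint.submodule_iSupIndep (fun i => M' i k.2) (fun i => hM'le i k.2)
      (fun i => hM'good i k.2) k.1
  have hScover : ∀ x : J, ∃ k, x ∈ S k := by
    intro x
    have hx : x ∈ iSup E := by rw [hint.submodule_iSup_eq_top]; trivial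
    obtain ⟨f, hf, rfl⟩ := (Submodule.mem_iSup_iff_exists_finsupp E x).mp hx
    let nn : ι → ℕ := fun i => (hNex i ⟨f i, hf i⟩).choose
    have hnn : ∀ i, (⟨f i, hf i⟩ : E i) ∈ N i (nn i) := fun i => (hNex i ⟨f i, hf i⟩).choose_spec
    refine ⟨(f.support, f.support.sup nn), ?_⟩
    refine Submodule.sum_mem _ fun i hi => ?_
    have h1 : f i ∈ M' i (nn i) := ⟨⟨f i, hf i⟩, hnn i, rfl⟩
    have h2 : f i ∈ M' i (f.support.sup nn) := hM'mono i (Finset.le_sup hi) h1
    exact (le_iSup₂_of_le (f := fun i _ => M' i (f.support.sup nn)) i hi le_rfl) h2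
  obtain ⟨D, c, hc, hiso, hobj⟩ := exists_colimit_of_directed S hSmono hScover
  refine ⟨Finset ι × ℕ, Preorder.smallCategory _, inferInstance, D, c, hc, hiso, fun k => ?_⟩
  rw [hobj k]
  exact hSgood k

end Main

end Groth.Agent.Lib.Helper8.ArtCol
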