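import Mathlib

set_option autoImplicit false
open Filter

/-! Attached primes of Artinian modules (light version of Macdonald's secondary representation). -/

namespace Groth.Agent.Lib.Helper8.Att

variable {R : Type*} [CommRing R]

/-- `q` is attached to `A`: it is the annihilator of a quotient of `A`. -/
def IsAtt (q : Ideal R) (A : Type*) [AddCommGroup A] [Module R A] : Prop :=
  ∃ B : Submodule R A, Module.annihilator R (A ⧸ B) = q

theorem mem_annihilator_quotient_iff {A : Type*} [AddCommGroup A] [Module R A]
    (B : Submodule R A) (r : R) : r ∈ Module.annihilator R (A ⧸ B) ↔ ∀ a : A, r • a ∈ B := by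
  rw [Module.mem_annihilator]
  constructor
  · intro h a
    have := h (Submodule.Quotient.mk a)
    rwa [← Submodule.Quotient.mk_smul, Submodule.Quotient.mk_eq_zero] at this
  · intro h x
    obtain ⟨a, rfl⟩ := Submodule.Quotient.mk_surjective B x
    rw [← Submodule.Quotient.mk_smul, Submodule.Quotient.mk_eq_zero]
    exact h a

theorem isAtt_of_surjective {A A' : Type*} [AddCommGroup A] [Module R A] [AddCommGroup A']
    [Module R A'] (f : A →ₗ[R] A') (hf : Function.Surjective f) {q : Ideal R} (h : IsAtt q A') :
    IsAtt q A := by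
  obtain ⟨B', hB'⟩ := h
  refine ⟨B'.comap f, ?_⟩
  rw [← hB']
  ext r
  rw [mem_annihilator_quotient_iff, mem_annihilator_quotient_iff]
  constructor
  · intro h a'
    obtain ⟨a, rfl⟩ := hf a'
    have := h a
    rwa [Submodule.mem_comap, map_smul] at this
  · intro h a
    rw [Submodule.mem_comap, map_smul]
    exact h (f a)

/-- If `R` acts on `A` through a semilinear additive bijection, attached primes correspond. -/
theorem isAtt_of_addEquiv {A A' : Type*} [AddCommGroup A] [Module R A] [AddCommGroup A']
    [Module R A'] (e : A ≃+ A') (he : ∀ (r : R) (a : A), e (r • a) = r • e a) {q : Ideal R}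
    (h : IsAtt q A') : IsAtt q A :=
  isAtt_of_surjective { toFun := e, map_add' := e.map_add, map_smul' := he } e.surjective h

theorem not_isAtt_of_subsingleton {A : Type*} [AddCommGroup A] [Module R A] [Subsingleton A]
    (q : Ideal R) [hq : q.IsPrime] : ¬ IsAtt q A := by
  rintro ⟨B, hB⟩
  apply hq.ne_top
  rw [← hB, eq_top_iff]
  intro r _
  rw [Module.mem_annihilator]
  intro x
  exact Subsingleton.elim _ _

/-- Secondary modules. -/
def IsSec (S : Type*) [AddCommGroup S] [Module R S] : Prop :=
  Nontrivial S ∧ ∀ r : R, Function.Surjective (fun s : S => r • s) ∨ ∃ k : ℕ, ∀ s : S, r ^ k • s = 0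

/-- A sum-irreducible Artinian module is secondary. -/
theorem isSec_of_sumIrred (S : Type*) [AddCommGroup S] [Module R S] [IsArtinian R S]
    [Nontrivial S] (h : ∀ B C : Submodule R S, B ⊔ C = ⊤ → B = ⊤ ∨ C = ⊤) : IsSec (R := R) S := by
  refine ⟨inferInstance, fun r => ?_⟩
  let f : Module.End R S := algebraMap R (Module.End R S) r
  obtain ⟨n, hn, hn1⟩ := ((LinearMap.eventually_codisjoint_ker_pow_range_pow f).and
    (eventually_ge_atTop 1)).exists
  have hfn : ∀ s : S, (f ^ n) s = r ^ n • s := by
    intro s
    have : f ^ n = algebraMap R (Module.End R S) (r ^ n) := (map_pow _ r n).symm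
    rw [this]
    rfl
  rcases h _ _ (codisjoint_iff.mp hn) with hker | hrange
  · right
    refine ⟨n, fun s => ?_⟩
    have : s ∈ LinearMap.ker (f ^ n) := by rw [hker]; trivial
    rw [← hfn]
    exact this
  · left
    intro s
    have : s ∈ LinearMap.range (f ^ n) := by rw [hrange]; trivial
    obtain ⟨t, ht⟩ := this
    rw [hfn] at ht
    obtain ⟨n', rfl⟩ : ∃ n', n = n' + 1 := ⟨n - 1, by omega⟩
    refine ⟨r ^ n' • t, ?_⟩
    change r • r ^ n' • t = s
    rw [smul_smul, ← pow_succ', ht]

/-- Every submodule of an Artinian module is a finite sum of secondary submodules. -/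
theorem exists_secondary_rep (A : Type*) [AddCommGroup A] [Module R A] [IsArtinian R A]
    (N : Submodule R A) :
    ∃ F : Finset (Submodule R A), (∀ S ∈ F, IsSec (R := R) S) ∧ F.sup id = N := by
  classical
  induction N using IsArtinian.induction with
  | _ N ih =>
    by_cases hbot : N = ⊥
    · exact ⟨∅, by simp, by simp [hbot]⟩
    by_cases hirr : ∀ B C : Submodule R A, B ⊔ C = N → B = N ∨ C = N
    · refine ⟨{N}, ?_, by simp⟩
      intro S hS
      rw [Finset.mem_singleton] at hS
      subst hS
      have hnt : Nontrivial S := by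
        rw [Submodule.nontrivial_iff_ne_bot]
        exact hbot
      apply isSec_of_sumIrred
      intro B' C' hBC
      have h1 : B'.map S.subtype ⊔ C'.map S.subtype = S := by
        rw [← Submodule.map_sup, hBC, Submodule.map_subtype_top]
      rcases hirr _ _ h1 with h2 | h2
      · left
        apply Submodule.map_injective_of_injective S.injective_subtype
        rw [h2, Submodule.map_subtype_top]
      · right
        apply Submodule.map_injective_of_injective S.injective_subtype
        rw [h2, Submodule.map_subtype_top]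
    · push Not at hirr
      obtain ⟨B, C, hBC, hB, hC⟩ := hirr
      have hBlt : B < N := lt_of_le_of_ne (hBC ▸ le_sup_left) hB
      have hClt : C < N := lt_of_le_of_ne (hBC ▸ le_sup_right) hC
      obtain ⟨FB, hFB, hsB⟩ := ih B hBlt
      obtain ⟨FC, hFC, hsC⟩ := ih C hClt
      refine ⟨FB ∪ FC, ?_, ?_⟩
      · intro S hS
        rcases Finset.mem_union.mp hS with h | h
        · exact hFB S h
        · exact hFC S h
      · rw [Finset.sup_union, hsB, hsC, hBC]

/-- An Artinian module has only finitely many attached primes. -/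
theorem exists_finset_isAtt (A : Type*) [AddCommGroup A] [Module R A] [IsArtinian R A] :
    ∃ F : Finset (Ideal R), ∀ q : Ideal R, q.IsPrime → IsAtt q A → q ∈ F := by
  classical
  obtain ⟨F, hF, hsup⟩ := exists_secondary_rep (R := R) A ⊤
  refine ⟨F.image (fun S => (Module.annihilator R S).radical), ?_⟩
  rintro q hq ⟨B, hB⟩
  have hqB : ∀ r : R, r ∈ q ↔ ∀ a : A, r • a ∈ B := by
    intro r
    rw [← hB]
    exact mem_annihilator_quotient_iff B r
  let T := F.filter (fun S => ¬ S ≤ B)
  have h1 : ∀ S ∈ T, q ≤ (Module.annihilator R S).radical := by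
    intro S hS r hr
    obtain ⟨hSF, hSB⟩ := Finset.mem_filter.mp hS
    rcases (hF S hSF).2 r with hsurj | ⟨k, hk⟩
    · exfalso
      apply hSB
      intro s hs
      obtain ⟨s', hs'⟩ := hsurj ⟨s, hs⟩
      have h2 : r • (s' : A) = s := congrArg Subtype.val hs'
      rw [← h2]
      exact (hqB r).mp hr _
    · refine ⟨k, ?_⟩
      rw [Module.mem_annihilator]
      exact hk
  have h2 : ∃ S ∈ T, (Module.annihilator R S).radical ≤ q := by
    by_contra hcon
    push Not at hcon
    have h3 : ∀ S : Submodule R A, S ∈ T → ∃ r : R, (∃ k : ℕ, r ^ k ∈ Module.annihilator R S) ∧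
        r ∉ q := by
      intro S hS
      obtain ⟨r, hr, hrq⟩ := SetLike.not_le_iff_exists.mp (hcon S hS)
      exact ⟨r, hr, hrq⟩
    choose! r hr hrq using h3
    choose! k hk using hr
    let ρ : R := ∏ S ∈ T, r S ^ k S
    have hρ : ρ ∈ q := by
      rw [hqB]
      have hle : F.sup id ≤ B.comap (LinearMap.lsmul R A ρ) := by
        apply Finset.sup_le
        intro S hSF s hs
        rw [Submodule.mem_comap, LinearMap.lsmul_apply]
        by_cases hSB : S ≤ B
        · exact B.smul_mem _ (hSB hs)
        · have hST : S ∈ T := Finset.mem_filter.mpr ⟨hSF, hSB⟩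
          have h4 : ρ = (∏ S' ∈ T.erase S, r S' ^ k S') * r S ^ k S :=
            (Finset.prod_erase_mul T _ hST).symm
          have h5 : r S ^ k S • s = 0 := by
            have h6 := Module.mem_annihilator.mp (hk S hST) ⟨s, hs⟩
            exact congrArg Subtype.val h6
          rw [h4, mul_smul, h5, smul_zero]
          exact B.zero_mem
      rw [hsup] at hle
      intro a
      exact hle (Submodule.mem_top : a ∈ ⊤)
    obtain ⟨S, hST, hS⟩ := (Ideal.IsPrime.prod_mem_iff (hp := hq)).mp hρ
    exact hrq S hST (hq.mem_of_pow_mem _ hS)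
  obtain ⟨S, hST, hS⟩ := h2
  rw [Finset.mem_image]
  exact ⟨S, (Finset.mem_filter.mp hST).1, le_antisymm hS (h1 S hST)⟩

end Groth.Agent.Lib.Helper8.Att
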