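import Mathlib
import Groth.Prelude.Def_Wider
import Groth.Agent.Lib.Helper5LocalFlat

/-!
# Helper8AutoEq

`A`-linear additive autoequivalences of the category of finite length modules over a Noetherian
local ring are isomorphic to the identity.
-/

set_option autoImplicit false

namespace Groth.Agent.Lib.Helper8AutoEq

open CategoryTheory CategoryTheory.Limits IsLocalRing

universe u

variable {A : Type u} [CommRing A]

/-- morphisms in `FinLen` as linear maps -/
abbrev lin {X Y : Dual.FinLen A} (f : X ⟶ Y) : X.obj →ₗ[A] Y.obj := f.hom.hom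

/-- build a morphism from a linear map -/
abbrev mkHom {X Y : Dual.FinLen A} (f : X.obj →ₗ[A] Y.obj) : X ⟶ Y :=
  ObjectProperty.homMk (ModuleCat.ofHom f)

lemma lin_mkHom {X Y : Dual.FinLen A} (f : X.obj →ₗ[A] Y.obj) : lin (mkHom f) = f := rfl

lemma hom_ext' {X Y : Dual.FinLen A} {f g : X ⟶ Y} (h : ∀ x, lin f x = lin g x) : f = g := by
  apply ObjectProperty.hom_ext
  ext x
  exact h x

lemma lin_comp {X Y Z : Dual.FinLen A} (f : X ⟶ Y) (g : Y ⟶ Z) (x : X.obj) :
    lin (f ≫ g) x = lin g (lin f x) := rfl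

lemma lin_id (X : Dual.FinLen A) (x : X.obj) : lin (𝟙 X) x = x := rfl

lemma lin_add {X Y : Dual.FinLen A} (f g : X ⟶ Y) (x : X.obj) :
    lin (f + g) x = lin f x + lin g x := rfl

lemma lin_smul {X Y : Dual.FinLen A} (a : A) (f : X ⟶ Y) (x : X.obj) :
    lin (a • f) x = a • lin f x := rfl

lemma lin_zero {X Y : Dual.FinLen A} (x : X.obj) : lin (0 : X ⟶ Y) x = 0 := rfl

/-- monomorphisms in `FinLen` are injective -/
lemma injective_of_mono {X Y : Dual.FinLen A} (f : X ⟶ Y) [Mono f] :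
    Function.Injective (lin f) := by
  rw [← LinearMap.ker_eq_bot, eq_bot_iff]
  intro x hx
  let K : Dual.FinLen A := ⟨ModuleCat.of A (LinearMap.ker (lin f)),
    X.property.of_injective (f := (LinearMap.ker (lin f)).subtype) (Submodule.subtype_injective _)⟩
  let ι : K ⟶ X := mkHom (LinearMap.ker (lin f)).subtype
  have h : ι ≫ f = 0 ≫ f := by
    apply hom_ext'
    intro y
    rw [lin_comp, zero_comp, lin_zero]
    exact y.2
  have h2 := (cancel_mono f).mp h
  have h3 := congrArg (fun g => lin g (⟨x, hx⟩ : LinearMap.ker (lin f))) h2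
  exact h3

/-- epimorphisms in `FinLen` are surjective -/
lemma surjective_of_epi {X Y : Dual.FinLen A} (f : X ⟶ Y) [Epi f] :
    Function.Surjective (lin f) := by
  rw [← LinearMap.range_eq_top, ← Submodule.Quotient.subsingleton_iff]
  let Q : Dual.FinLen A := ⟨ModuleCat.of A (Y.obj ⧸ LinearMap.range (lin f)),
    Y.property.of_surjective (f := (LinearMap.range (lin f)).mkQ) (Submodule.mkQ_surjective _)⟩
  let p : Y ⟶ Q := mkHom (LinearMap.range (lin f)).mkQ
  have h : f ≫ p = f ≫ 0 := by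
    apply hom_ext'
    intro y
    rw [lin_comp, comp_zero, lin_zero]
    exact (Submodule.Quotient.mk_eq_zero _).mpr ⟨y, rfl⟩
  have h2 := (cancel_epi f).mp h
  refine ⟨fun a b => ?_⟩
  obtain ⟨a', rfl⟩ := Submodule.mkQ_surjective _ a
  obtain ⟨b', rfl⟩ := Submodule.mkQ_surjective _ b
  have ha := congrArg (fun g => lin g a') h2
  have hb := congrArg (fun g => lin g b') h2
  exact ha.trans hb.symm

lemma mono_of_injective {X Y : Dual.FinLen A} (f : X ⟶ Y) (h : Function.Injective (lin f)) :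
    Mono f := by
  refine ⟨fun g g' hgg' => ?_⟩
  apply hom_ext'
  intro x
  apply h
  rw [← lin_comp, ← lin_comp, hgg']

lemma epi_of_surjective {X Y : Dual.FinLen A} (f : X ⟶ Y) (h : Function.Surjective (lin f)) :
    Epi f := by
  refine ⟨fun g g' hgg' => ?_⟩
  apply hom_ext'
  intro y
  obtain ⟨x, rfl⟩ := h y
  rw [← lin_comp, ← lin_comp, hgg']

variable [IsLocalRing A]

/-- a finite length module is killed by a power of the maximal ideal -/
lemma exists_kill (N : Type u) [AddCommGroup N] [Module A N] (hN : IsFiniteLength A N) :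
    ∃ n : ℕ, ∀ a ∈ maximalIdeal A ^ n, ∀ y : N, a • y = 0 := by
  induction hN with
  | of_subsingleton => exact ⟨0, fun a _ y => Subsingleton.elim _ _⟩
  | @of_simple_quotient L _ _ L₀ hsimple _ ih =>
    obtain ⟨n, hn⟩ := ih
    obtain ⟨I, hI, ⟨e⟩⟩ := isSimpleModule_iff_quot_maximal.mp hsimple
    have hIm : I = maximalIdeal A := IsLocalRing.eq_maximalIdeal hI
    subst hIm
    have hm : ∀ b ∈ maximalIdeal A, ∀ y : L, b • y ∈ L₀ := by
      intro b hb y
      rw [← Submodule.Quotient.mk_eq_zero, Submodule.Quotient.mk_smul]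
      apply e.injective
      rw [map_smul, map_zero]
      obtain ⟨c, hc⟩ := Ideal.Quotient.mk_surjective (e (Submodule.Quotient.mk y))
      rw [← hc, ← Ideal.Quotient.mk_eq_mk, ← Submodule.Quotient.mk_smul,
        Submodule.Quotient.mk_eq_zero, smul_eq_mul]
      exact Ideal.mul_mem_right _ _ hb
    refine ⟨n + 1, fun a ha y => ?_⟩
    rw [pow_succ] at ha
    refine Submodule.mul_induction_on ha ?_ ?_
    · intro c hc b hb
      rw [mul_smul]
      have := hn c hc ⟨b • y, hm b hb y⟩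
      exact congrArg Subtype.val this
    · intro c c' hc hc'
      rw [add_smul, hc, hc', add_zero]

variable [IsNoetherianRing A]

/-- the objects `A / m^(k+1)` -/
noncomputable abbrev P (A : Type u) [CommRing A] [IsLocalRing A] [IsNoetherianRing A] (k : ℕ) :
    Dual.FinLen A :=
  ⟨ModuleCat.of A (A ⧸ maximalIdeal A ^ (k + 1)),
    Groth.Agent.Lib.Helper5.isFiniteLength_quotient_of_pow_le _ (k + 1) le_rfl⟩

/-- the class of `1` -/
noncomputable def one (k : ℕ) : (P A k).obj := Ideal.Quotient.mk (maximalIdeal A ^ (k + 1)) 1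

/-- the morphism `A / m^(k+1) → N`, `1 ↦ y` -/
noncomputable def fy (N : Dual.FinLen A) (k : ℕ) (y : N.obj)
    (hy : ∀ a ∈ maximalIdeal A ^ (k + 1), a • y = 0) : P A k ⟶ N :=
  mkHom (Submodule.liftQ (maximalIdeal A ^ (k + 1)) (LinearMap.toSpanSingleton A N.obj y) (by
    intro a ha
    rw [LinearMap.mem_ker, LinearMap.toSpanSingleton_apply]
    exact hy a ha))

lemma fy_mk (N : Dual.FinLen A) (k : ℕ) (y : N.obj)
    (hy : ∀ a ∈ maximalIdeal A ^ (k + 1), a • y = 0) (a : A) :
    lin (fy N k y hy) (Ideal.Quotient.mk (maximalIdeal A ^ (k + 1)) a) = a • y := by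
  show Submodule.liftQ _ _ _ (Submodule.Quotient.mk a) = _
  rw [Submodule.liftQ_apply, LinearMap.toSpanSingleton_apply]

lemma fy_one (N : Dual.FinLen A) (k : ℕ) (y : N.obj)
    (hy : ∀ a ∈ maximalIdeal A ^ (k + 1), a • y = 0) : lin (fy N k y hy) (one k) = y := by
  unfold one
  rw [fy_mk, one_smul]

lemma kill_P (k : ℕ) (z : (P A k).obj) : ∀ a ∈ maximalIdeal A ^ (k + 1), a • z = 0 := by
  intro a ha
  obtain ⟨b, rfl⟩ := Ideal.Quotient.mk_surjective z
  rw [← Ideal.Quotient.mk_eq_mk, ← Submodule.Quotient.mk_smul, Submodule.Quotient.mk_eq_zero,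
    smul_eq_mul]
  exact Ideal.mul_mem_right _ _ ha

/-- morphisms out of `P k` are determined by the image of `1` -/
lemma hom_ext_P {N : Dual.FinLen A} {k : ℕ} {f g : P A k ⟶ N} (h : lin f (one k) = lin g (one k)) :
    f = g := by
  apply hom_ext'
  intro z
  obtain ⟨b, rfl⟩ := Ideal.Quotient.mk_surjective z
  have hb : Ideal.Quotient.mk (maximalIdeal A ^ (k + 1)) b = b • one k := by
    unfold one
    rw [← Ideal.Quotient.mk_eq_mk, ← Ideal.Quotient.mk_eq_mk, ← Submodule.Quotient.mk_smul,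
      smul_eq_mul, mul_one]
  rw [hb, map_smul, map_smul, h]

omit [IsNoetherianRing A] in
lemma kill_succ_of_kill {N : Type*} [AddCommGroup N] [Module A N] (k : ℕ) (y : N)
    (hy : ∀ a ∈ maximalIdeal A ^ (k + 1), a • y = 0) :
    ∀ a ∈ maximalIdeal A ^ (k + 1 + 1), a • y = 0 :=
  fun a ha => hy a (Ideal.pow_le_pow_right (Nat.le_succ _) ha)

/-- the projections `P (k+1) → P k` -/
noncomputable def π (A : Type u) [CommRing A] [IsLocalRing A] [IsNoetherianRing A] (k : ℕ) :
    P A (k + 1) ⟶ P A k :=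
  fy (P A k) (k + 1) (one k) (kill_succ_of_kill k _ (kill_P k _))

lemma fy_succ (N : Dual.FinLen A) (k : ℕ) (y : N.obj)
    (hy : ∀ a ∈ maximalIdeal A ^ (k + 1), a • y = 0) :
    fy N (k + 1) y (kill_succ_of_kill k y hy) = π A k ≫ fy N k y hy := by
  apply hom_ext_P
  rw [fy_one, lin_comp]
  unfold π
  rw [fy_one, fy_one]

lemma π_surjective (k : ℕ) : Function.Surjective (lin (π A k)) := by
  intro z
  obtain ⟨b, rfl⟩ := Ideal.Quotient.mk_surjective z
  refine ⟨Ideal.Quotient.mk _ b, ?_⟩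
  unfold π
  rw [fy_mk]
  unfold one
  rw [← Ideal.Quotient.mk_eq_mk, ← Submodule.Quotient.mk_smul, smul_eq_mul, mul_one]
  rfl

section Theta

variable (Φ : Dual.FinLen A ⥤ Dual.FinLen A) [Φ.Additive] [Φ.Linear A]
  (x : ∀ k : ℕ, (Φ.obj (P A k)).obj)
  (hx : ∀ k : ℕ, lin (Φ.map (π A k)) (x (k + 1)) = x k)

/-- the value at level `k` -/
noncomputable def E (N : Dual.FinLen A) (k : ℕ) (y : N.obj)
    (hy : ∀ a ∈ maximalIdeal A ^ (k + 1), a • y = 0) : (Φ.obj N).obj :=
  lin (Φ.map (fy N k y hy)) (x k)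

include hx in
lemma E_succ (N : Dual.FinLen A) (k : ℕ) (y : N.obj)
    (hy : ∀ a ∈ maximalIdeal A ^ (k + 1), a • y = 0) :
    E Φ x N (k + 1) y (kill_succ_of_kill k y hy) = E Φ x N k y hy := by
  unfold E
  rw [fy_succ, Φ.map_comp, lin_comp, hx]

include hx in
lemma E_le (N : Dual.FinLen A) (k k' : ℕ) (hkk' : k ≤ k') (y : N.obj)
    (hy : ∀ a ∈ maximalIdeal A ^ (k + 1), a • y = 0)
    (hy' : ∀ a ∈ maximalIdeal A ^ (k' + 1), a • y = 0) :
    E Φ x N k' y hy' = E Φ x N k y hy := by
  induction k', hkk' using Nat.le_induction with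
  | base => rfl
  | succ k' hk' ih =>
    have h1 : ∀ a ∈ maximalIdeal A ^ (k' + 1), a • y = 0 :=
      fun a ha => hy a (Ideal.pow_le_pow_right (Nat.succ_le_succ hk') ha)
    rw [← ih h1]
    exact E_succ Φ x hx N k' y h1

lemma E_add (N : Dual.FinLen A) (k : ℕ) (y y' : N.obj)
    (hy : ∀ a ∈ maximalIdeal A ^ (k + 1), a • y = 0)
    (hy' : ∀ a ∈ maximalIdeal A ^ (k + 1), a • y' = 0)
    (hyy' : ∀ a ∈ maximalIdeal A ^ (k + 1), a • (y + y') = 0) :
    E Φ x N k (y + y') hyy' = E Φ x N k y hy + E Φ x N k y' hy' := by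
  unfold E
  have : fy N k (y + y') hyy' = fy N k y hy + fy N k y' hy' := by
    apply hom_ext_P
    rw [lin_add, fy_one, fy_one, fy_one]
  rw [this, Φ.map_add, lin_add]

lemma E_smul (N : Dual.FinLen A) (k : ℕ) (c : A) (y : N.obj)
    (hy : ∀ a ∈ maximalIdeal A ^ (k + 1), a • y = 0)
    (hy' : ∀ a ∈ maximalIdeal A ^ (k + 1), a • (c • y) = 0) :
    E Φ x N k (c • y) hy' = c • E Φ x N k y hy := by
  unfold E
  have : fy N k (c • y) hy' = c • fy N k y hy := by
    apply hom_ext_P
    rw [lin_smul, fy_one, fy_one]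
  rw [this, Φ.map_smul, lin_smul]

lemma E_nat {N N' : Dual.FinLen A} (g : N ⟶ N') (k : ℕ) (y : N.obj)
    (hy : ∀ a ∈ maximalIdeal A ^ (k + 1), a • y = 0)
    (hy' : ∀ a ∈ maximalIdeal A ^ (k + 1), a • (lin g y) = 0) :
    lin (Φ.map g) (E Φ x N k y hy) = E Φ x N' k (lin g y) hy' := by
  unfold E
  have : fy N' k (lin g y) hy' = fy N k y hy ≫ g := by
    apply hom_ext_P
    rw [lin_comp, fy_one, fy_one]
  rw [this, Φ.map_comp, lin_comp]

/-- a killing exponent for `N` -/
noncomputable def nN (N : Dual.FinLen A) : ℕ := Classical.choose (exists_kill N.obj N.property)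

omit [IsNoetherianRing A] in
lemma nN_spec (N : Dual.FinLen A) (k : ℕ) (hk : nN N ≤ k) (y : N.obj) :
    ∀ a ∈ maximalIdeal A ^ (k + 1), a • y = 0 := by
  intro a ha
  exact Classical.choose_spec (exists_kill N.obj N.property) a
    (Ideal.pow_le_pow_right (hk.trans (Nat.le_succ k)) ha) y

/-- the natural map `N → Φ N` -/
noncomputable def θlin (N : Dual.FinLen A) : N.obj →ₗ[A] (Φ.obj N).obj where
  toFun y := E Φ x N (nN N) y (nN_spec N _ le_rfl y)
  map_add' y y' := E_add Φ x N _ y y' _ _ _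
  map_smul' c y := E_smul Φ x N _ c y _ _

include hx in
lemma θlin_apply (N : Dual.FinLen A) (k : ℕ) (hk : nN N ≤ k) (y : N.obj) :
    θlin Φ x N y = E Φ x N k y (nN_spec N k hk y) :=
  (E_le Φ x hx N (nN N) k hk y _ _).symm

include hx in
/-- the natural transformation `𝟭 ⟶ Φ` -/
noncomputable def θ : 𝟭 (Dual.FinLen A) ⟶ Φ where
  app N := mkHom (θlin Φ x N)
  naturality N N' g := by
    apply hom_ext'
    intro y
    show θlin Φ x N' (lin g y) = lin (Φ.map g) (θlin Φ x N y)
    rw [θlin_apply Φ x hx N (max (nN N) (nN N')) (le_max_left _ _),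
      θlin_apply Φ x hx N' (max (nN N) (nN N')) (le_max_right _ _), E_nat]

lemma θ_app (N : Dual.FinLen A) (y : N.obj) : lin ((θ Φ x hx).app N) y = θlin Φ x N y := rfl

include hx in
lemma θ_one_zero : θlin Φ x (P A 0) (one 0) = x 0 := by
  rw [θlin_apply Φ x hx (P A 0) (nN (P A 0)) le_rfl,
    E_le Φ x hx (P A 0) 0 (nN (P A 0)) (Nat.zero_le _) (one 0) (kill_P 0 _)]
  unfold E
  have : fy (P A 0) 0 (one 0) (kill_P 0 _) = 𝟙 _ := by
    apply hom_ext_P
    rw [fy_one, lin_id]
  rw [this, Φ.map_id, lin_id]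

end Theta

/-- existence of a compatible system -/
lemma exists_system (Φ : Dual.FinLen A ⥤ Dual.FinLen A)
    (h0 : ∃ z : (Φ.obj (P A 0)).obj, z ≠ 0)
    (hs : ∀ k : ℕ, Function.Surjective (lin (Φ.map (π A k)))) :
    ∃ x : ∀ k : ℕ, (Φ.obj (P A k)).obj,
      (∀ k : ℕ, lin (Φ.map (π A k)) (x (k + 1)) = x k) ∧ x 0 ≠ 0 := by
  obtain ⟨z, hz⟩ := h0
  let x : ∀ k : ℕ, (Φ.obj (P A k)).obj :=
    fun k => Nat.rec (motive := fun k => (Φ.obj (P A k)).obj) z
      (fun k xk => Classical.choose (hs k xk)) k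
  refine ⟨x, fun k => ?_, hz⟩
  exact Classical.choose_spec (hs k (x k))

section Main

lemma one_zero_ne : (one 0 : (P A 0).obj) ≠ 0 := by
  intro h
  unfold one at h
  rw [Ideal.Quotient.eq_zero_iff_mem, zero_add, pow_one] at h
  exact (Ideal.ne_top_iff_one _).mp (IsLocalRing.maximalIdeal.isMaximal A).ne_top h

lemma inj_P0 {X : Type*} [AddCommGroup X] [Module A X] (g : (P A 0).obj →ₗ[A] X)
    (h : g (one 0) ≠ 0) : Function.Injective g := by
  rw [injective_iff_map_eq_zero]
  intro z hz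
  obtain ⟨b, rfl⟩ := Ideal.Quotient.mk_surjective z
  have hb : Ideal.Quotient.mk (maximalIdeal A ^ (0 + 1)) b = b • one 0 := by
    unfold one
    rw [← Ideal.Quotient.mk_eq_mk, ← Ideal.Quotient.mk_eq_mk, ← Submodule.Quotient.mk_smul,
      smul_eq_mul, mul_one]
  rw [hb, map_smul] at hz
  by_cases hbm : b ∈ maximalIdeal A
  · rw [Ideal.Quotient.eq_zero_iff_mem, zero_add, pow_one]
    exact hbm
  · exfalso
    have hu : IsUnit b := IsLocalRing.notMem_maximalIdeal.mp hbm
    obtain ⟨u, rfl⟩ := hu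
    apply h
    have := congrArg (fun w => (↑u⁻¹ : A) • w) hz
    simpa [smul_smul] using this

/-- natural endomorphisms of the identity which are nonzero on the residue field are invertible -/
lemma scalar (l : 𝟭 (Dual.FinLen A) ⟶ 𝟭 (Dual.FinLen A))
    (h0 : lin (l.app (P A 0)) (one 0) ≠ 0) (N : Dual.FinLen A) :
    Function.Bijective (lin (l.app N)) := by
  have hnat : ∀ {X Y : Dual.FinLen A} (f : X ⟶ Y) (t : X.obj),
      lin (l.app Y) (lin f t) = lin f (lin (l.app X) t) := by
    intro X Y f t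
    exact congrArg (fun g => lin g t) (l.naturality f)
  set k := nN N with hk
  obtain ⟨u, hu⟩ := Ideal.Quotient.mk_surjective (lin (l.app (P A k)) (one k))
  -- `u` is a unit
  have hq : ∀ a ∈ maximalIdeal A ^ (k + 1), a • (one 0 : (P A 0).obj) = 0 := by
    intro a ha
    exact kill_P 0 _ a (Ideal.pow_le_pow_right (Nat.succ_le_succ (Nat.zero_le k)) ha)
  have h1 := hnat (fy (P A 0) k (one 0) hq) (one k)
  rw [fy_one, ← hu, fy_mk] at h1
  have hunit : IsUnit u := by
    apply IsLocalRing.notMem_maximalIdeal.mp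
    intro hum
    apply h0
    rw [h1]
    exact kill_P 0 _ u (by rw [zero_add, pow_one]; exact hum)
  have key : ∀ y : N.obj, lin (l.app N) y = u • y := by
    intro y
    have h2 := hnat (fy N k y (nN_spec N k le_rfl y)) (one k)
    rw [fy_one, ← hu, fy_mk] at h2
    exact h2
  obtain ⟨v, rfl⟩ := hunit
  constructor
  · intro y y' hyy'
    rw [key, key] at hyy'
    have := congrArg (fun w => (↑v⁻¹ : A) • w) hyy'
    simpa [smul_smul] using this
  · intro y
    refine ⟨(↑v⁻¹ : A) • y, ?_⟩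
    rw [key, smul_smul, Units.mul_inv, one_smul]

lemma exists_θ (Φ : Dual.FinLen A ⥤ Dual.FinLen A) [Φ.Additive] [Φ.Linear A] [Φ.Faithful]
    [Φ.PreservesEpimorphisms] :
    ∃ t : 𝟭 (Dual.FinLen A) ⟶ Φ, lin (t.app (P A 0)) (one 0) ≠ 0 := by
  have h0 : ∃ z : (Φ.obj (P A 0)).obj, z ≠ 0 := by
    by_contra hcon
    simp only [not_exists, not_not] at hcon
    have h1 : Φ.map (𝟙 (P A 0)) = Φ.map 0 := by
      apply hom_ext'
      intro z
      rw [hcon (lin (Φ.map (𝟙 (P A 0))) z), hcon (lin (Φ.map 0) z)]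
    have h2 := Φ.map_injective h1
    have h3 := congrArg (fun g => lin g (one 0)) h2
    exact one_zero_ne h3
  have hs : ∀ k : ℕ, Function.Surjective (lin (Φ.map (π A k))) := by
    intro k
    have : Epi (π A k) := epi_of_surjective _ (π_surjective k)
    have : Epi (Φ.map (π A k)) := Φ.map_epi _
    exact surjective_of_epi _
  obtain ⟨x, hx, hx0⟩ := exists_system Φ h0 hs
  refine ⟨θ Φ x hx, ?_⟩
  rw [θ_app, θ_one_zero Φ x hx]
  exact hx0

variable (F : Dual.FinLen A ≌ Dual.FinLen A) [F.functor.Additive] [F.functor.Linear A]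

theorem main : Nonempty (F.functor ≅ 𝟭 (Dual.FinLen A)) := by
  obtain ⟨t, ht⟩ := exists_θ F.functor
  obtain ⟨t', ht'⟩ := exists_θ F.inverse
  -- injectivity of the components after applying the functors
  have hmono : ∀ (N : Dual.FinLen A), Function.Injective (lin (t'.app N)) →
      Function.Injective (lin (F.functor.map (t'.app N))) := by
    intro N h
    have : Mono (t'.app N) := mono_of_injective _ h
    have : Mono (F.functor.map (t'.app N)) := F.functor.map_mono _
    exact injective_of_mono _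
  have hmono' : ∀ (N : Dual.FinLen A), Function.Injective (lin (t.app N)) →
      Function.Injective (lin (F.inverse.map (t.app N))) := by
    intro N h
    have : Mono (t.app N) := mono_of_injective _ h
    have : Mono (F.inverse.map (t.app N)) := F.inverse.map_mono _
    exact injective_of_mono _
  let l : 𝟭 (Dual.FinLen A) ⟶ 𝟭 (Dual.FinLen A) :=
    t ≫ (Functor.leftUnitor F.functor).inv ≫ Functor.whiskerRight t' F.functor ≫ F.counitIso.hom
  let l' : 𝟭 (Dual.FinLen A) ⟶ 𝟭 (Dual.FinLen A) :=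
    t' ≫ (Functor.leftUnitor F.inverse).inv ≫ Functor.whiskerRight t F.inverse ≫ F.unitIso.inv
  have hl : ∀ (N : Dual.FinLen A) (y : N.obj), lin (l.app N) y =
      lin (F.counitIso.hom.app N) (lin (F.functor.map (t'.app N)) (lin (t.app N) y)) :=
    fun N y => rfl
  have hl' : ∀ (N : Dual.FinLen A) (y : N.obj), lin (l'.app N) y =
      lin (F.unitIso.inv.app N) (lin (F.inverse.map (t.app N)) (lin (t'.app N) y)) :=
    fun N y => rfl
  have hε : ∀ N : Dual.FinLen A, Function.Injective (lin (F.counitIso.hom.app N)) :=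
    fun N => injective_of_mono _
  have hη : ∀ N : Dual.FinLen A, Function.Injective (lin (F.unitIso.inv.app N)) :=
    fun N => injective_of_mono _
  have hl0 : lin (l.app (P A 0)) (one 0) ≠ 0 := by
    rw [hl]
    intro h
    have h1 := hε _ (h.trans (map_zero _).symm)
    have h2 := hmono _ (inj_P0 _ ht') (h1.trans (map_zero _).symm)
    exact ht h2
  have hl0' : lin (l'.app (P A 0)) (one 0) ≠ 0 := by
    rw [hl']
    intro h
    have h1 := hη _ (h.trans (map_zero _).symm)
    have h2 := hmono' _ (inj_P0 _ ht) (h1.trans (map_zero _).symm)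
    exact ht' h2
  have hb := scalar l hl0
  have hb' := scalar l' hl0'
  have hinj' : ∀ N : Dual.FinLen A, Function.Injective (lin (t'.app N)) := by
    intro N y y' hyy'
    apply (hb' N).1
    rw [hl', hl', hyy']
  have hbij : ∀ N : Dual.FinLen A, Function.Bijective (lin (t.app N)) := by
    intro N
    constructor
    · intro y y' hyy'
      apply (hb N).1
      rw [hl, hl, hyy']
    · intro w
      obtain ⟨y, hy⟩ := (hb N).2 (lin (F.counitIso.hom.app N) (lin (F.functor.map (t'.app N)) w))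
      refine ⟨y, ?_⟩
      rw [hl] at hy
      exact hmono N (hinj' N) (hε N hy)
  have hiso : ∀ N : Dual.FinLen A, IsIso (t.app N) := by
    intro N
    rw [← ObjectProperty.isIso_hom_iff]
    exact (ConcreteCategory.isIso_iff_bijective _).mpr (hbij N)
  have : IsIso t := NatIso.isIso_of_isIso_app t
  exact ⟨(asIso t).symm⟩

end Main

end Groth.Agent.Lib.Helper8AutoEq
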