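import Groth.Agent.Lib.Helper8BridgeT4

/-!
# Glue lemmas for Bass numbers (helper8)
-/

set_option autoImplicit false
set_option linter.style.haveILetI false
set_option linter.unusedSectionVars false
universe u
open CategoryTheory CategoryTheory.Limits Opposite CategoryTheory.Abelian IsLocalRing
open scoped TensorProduct

namespace Groth.Agent.Lib.Helper8.BassGlue
open Groth.Agent.Lib.Helper8.ExtLES Groth.Agent.Lib.Helper8.Bridge

/-- `Ext` lengths only depend on the second variable up to isomorphism. -/
theorem length_ext_congr {A : Type u} [CommRing A] (X : ModuleCat.{u} A) (Y Y' : Type u)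
    [AddCommGroup Y] [Module A Y] [AddCommGroup Y'] [Module A Y'] (g : Y ≃ₗ[A] Y') (n : ℕ) :
    Module.length A (Ext.{u} X (ModuleCat.of A Y) n) =
      Module.length A (Ext.{u} X (ModuleCat.of A Y') n) := by
  let e : E n X (ModuleCat.of A Y) ≃ₗ[A] E n X (ModuleCat.of A Y') :=
    (((_root_.Ext A (ModuleCat.{u} A) n).obj (op X)).mapIso g.toModuleIso).toLinearEquiv
  exact ((Ψ n X (ModuleCat.of A Y)).symm.trans (e.trans (Ψ n X (ModuleCat.of A Y')))).length_eq

/-- `R_p` as a localized module of `R`. -/
noncomputable def selfEquiv (R : Type u) [CommRing R] (p : Ideal R) [p.IsPrime] :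
    LocalizedModule p.primeCompl R ≃ₗ[Localization.AtPrime p] Localization.AtPrime p :=
  (IsLocalizedModule.linearEquiv p.primeCompl (LocalizedModule.mkLinearMap p.primeCompl R)
    (Algebra.linearMap R (Localization.AtPrime p))).extendScalarsOfIsLocalization p.primeCompl
      (Localization.AtPrime p)

theorem finrank_residue_tensor (R : Type u) [CommRing R] (p : Ideal R) [hp : p.IsMaximal]
    (C : Type u) [AddCommGroup C] [Module R C] :
    Module.finrank (ResidueField (Localization.AtPrime p))
      (ResidueField (Localization.AtPrime p) ⊗[Localization.AtPrime p]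
        LocalizedModule p.primeCompl C) =
      Module.finrank (R ⧸ p) ((R ⧸ p) ⊗[R] C) := by
  letI := Ideal.Quotient.field p
  let e1 : ResidueField (Localization.AtPrime p) ⊗[Localization.AtPrime p]
        LocalizedModule p.primeCompl C ≃ₗ[ResidueField (Localization.AtPrime p)]
      ResidueField (Localization.AtPrime p) ⊗[Localization.AtPrime p]
        (Localization.AtPrime p ⊗[R] C) :=
    TensorProduct.AlgebraTensorModule.congr (LinearEquiv.refl _ _)
      (LocalizedModule.equivTensorProduct p.primeCompl C)
  let e2 : ResidueField (Localization.AtPrime p) ⊗[Localization.AtPrime p]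
        (Localization.AtPrime p ⊗[R] C) ≃ₗ[ResidueField (Localization.AtPrime p)]
      ResidueField (Localization.AtPrime p) ⊗[R] C :=
    TensorProduct.AlgebraTensorModule.cancelBaseChange R (Localization.AtPrime p)
      (ResidueField (Localization.AtPrime p)) (ResidueField (Localization.AtPrime p)) C
  let e3 : ResidueField (Localization.AtPrime p) ⊗[R ⧸ p] ((R ⧸ p) ⊗[R] C)
        ≃ₗ[ResidueField (Localization.AtPrime p)]
      ResidueField (Localization.AtPrime p) ⊗[R] C :=
    TensorProduct.AlgebraTensorModule.cancelBaseChange R (R ⧸ p)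
      (ResidueField (Localization.AtPrime p)) (ResidueField (Localization.AtPrime p)) C
  rw [(e1.trans (e2.trans e3.symm)).finrank_eq, Module.finrank_baseChange]

end Groth.Agent.Lib.Helper8.BassGlue
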