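import Mathlib

set_option autoImplicit false
universe u
open CategoryTheory CategoryTheory.Limits Opposite

namespace Groth.Agent.Lib.Helper8.ExtLES

variable {R : Type u} [CommRing R]

lemma exact_fun_of_op_exact {A B C : (ModuleCat.{u} R)ᵒᵖ} (f : A ⟶ B) (g : B ⟶ C)
    (w : f ≫ g = 0) (h : (ShortComplex.mk f g w).Exact) (y : (unop B : ModuleCat.{u} R)) (hy : f.unop y = 0) :
    ∃ x : (unop C : ModuleCat.{u} R), g.unop x = y := by
  have h' := h.unop
  rw [ShortComplex.moduleCat_exact_iff] at h'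
  exact h' y hy

lemma exact_conj {D : Type*} [Category D] [Abelian D] {A B C A' B' C' : D}
    (f : A ⟶ B) (g : B ⟶ C) (w : f ≫ g = 0) (h : (ShortComplex.mk f g w).Exact)
    (a : A' ≅ A) (b : B' ≅ B) (c : C' ≅ C) (f' : A' ⟶ B') (g' : B' ⟶ C')
    (hf : f' = a.hom ≫ f ≫ b.inv) (hg : g' = b.hom ≫ g ≫ c.inv) :
    ∃ w' : f' ≫ g' = 0, (ShortComplex.mk f' g' w').Exact := by
  have w' : f' ≫ g' = 0 := by
    rw [hf, hg]
    simp [reassoc_of% w]
  refine ⟨w', ShortComplex.exact_of_iso (ShortComplex.isoMk a b c ?_ ?_).symm h⟩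
  · simp [hf]
  · simp [hg]



/-- `F_Y = Hom(-, Y)ᵒᵖ`. -/
noncomputable abbrev FY (Y : ModuleCat.{u} R) : ModuleCat.{u} R ⥤ (ModuleCat.{u} R)ᵒᵖ :=
  ((linearYoneda R (ModuleCat.{u} R)).obj Y).rightOp

/-- `α_g : F_{Y'} ⟶ F_Y` for `g : Y ⟶ Y'`. -/
noncomputable abbrev αg {Y Y' : ModuleCat.{u} R} (g : Y ⟶ Y') : FY Y' ⟶ FY Y :=
  NatTrans.rightOp ((linearYoneda R (ModuleCat.{u} R)).map g)

lemma αg_comp {Y Y' Y'' : ModuleCat.{u} R} (g : Y ⟶ Y') (g' : Y' ⟶ Y'') :
    αg (g ≫ g') = αg g' ≫ αg g := by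
  ext X
  apply Quiver.Hom.unop_inj
  simp [αg]

lemma αg_zero {Y Y' : ModuleCat.{u} R} : αg (0 : Y ⟶ Y') = 0 := by
  ext X
  apply Quiver.Hom.unop_inj
  apply ModuleCat.hom_ext
  ext (h : X ⟶ Y)
  change h ≫ (0 : Y ⟶ Y') = 0
  simp

/-- The short complex of chain complexes in `Modᵒᵖ` attached to a short complex in `Mod`. -/
noncomputable def cxSC (S : ShortComplex (ModuleCat.{u} R)) (K : ChainComplex (ModuleCat.{u} R) ℕ) :
    ShortComplex (ChainComplex (ModuleCat.{u} R)ᵒᵖ ℕ) where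
  X₁ := ((FY S.X₃).mapHomologicalComplex _).obj K
  X₂ := ((FY S.X₂).mapHomologicalComplex _).obj K
  X₃ := ((FY S.X₁).mapHomologicalComplex _).obj K
  f := (NatTrans.mapHomologicalComplex (αg S.g) _).app K
  g := (NatTrans.mapHomologicalComplex (αg S.f) _).app K
  zero := by
    rw [← NatTrans.comp_app, ← NatTrans.mapHomologicalComplex_comp, ← αg_comp, S.zero, αg_zero]
    ext i
    simp
    rfl

end Groth.Agent.Lib.Helper8.ExtLES

namespace Groth.Agent.Lib.Helper8.ExtLES

variable {R : Type u} [CommRing R]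

lemma cxSC_eval_unop_shortExact (S : ShortComplex (ModuleCat.{u} R)) (hS : S.ShortExact)
    (K : ChainComplex (ModuleCat.{u} R) ℕ) (i : ℕ) [Projective (K.X i)] :
    ((cxSC S K).map (HomologicalComplex.eval _ _ i)).unop.ShortExact := by
  have hmono : Function.Injective S.f.hom := (ModuleCat.mono_iff_injective S.f).mp hS.mono_f
  have hepi : Function.Surjective S.g.hom := (ModuleCat.epi_iff_surjective S.g).mp hS.epi_g
  have hex := (ShortComplex.moduleCat_exact_iff _).mp hS.exact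
  refine ShortComplex.ShortExact.mk' ?_ ?_ ?_
  · rw [ShortComplex.moduleCat_exact_iff]
    intro (x₂ : K.X i ⟶ S.X₂) (hx₂ : x₂ ≫ S.g = 0)
    have := hS.mono_f
    exact ⟨hS.exact.lift x₂ hx₂, hS.exact.lift_f x₂ hx₂⟩
  · rw [ModuleCat.mono_iff_injective]
    intro (a : K.X i ⟶ S.X₁) (b : K.X i ⟶ S.X₁) (hab : a ≫ S.f = b ≫ S.f)
    have := hS.mono_f
    exact (cancel_mono S.f).mp hab
  · rw [ModuleCat.epi_iff_surjective]
    intro (c : K.X i ⟶ S.X₃)
    have := hS.epi_g
    exact ⟨Projective.factorThru c S.g, Projective.factorThru_comp c S.g⟩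

end Groth.Agent.Lib.Helper8.ExtLES

namespace Groth.Agent.Lib.Helper8.ExtLES

variable {R : Type u} [CommRing R]

lemma cxSC_shortExact (S : ShortComplex (ModuleCat.{u} R)) (hS : S.ShortExact)
    (K : ChainComplex (ModuleCat.{u} R) ℕ) [∀ i, Projective (K.X i)] : (cxSC S K).ShortExact :=
  HomologicalComplex.shortExact_of_degreewise_shortExact _ fun i =>
    (ShortComplex.shortExact_iff_unop _).mpr (cxSC_eval_unop_shortExact S hS K i)

instance {X : ModuleCat.{u} R} (P : ProjectiveResolution X) (i : ℕ) : Projective (P.complex.X i) :=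
  P.projective i

lemma relSucc (n : ℕ) : (ComplexShape.down ℕ).Rel (n + 1) n := by simp

lemma conj_nat {D : Type*} [Category D] {A' A C' C HA' HA HC' HC : D}
    (a' : A' ≅ HA') (a : A ≅ HA) (c' : C' ≅ HC') (c : C ≅ HC)
    (δ' : HA' ⟶ HC') (δ : HA ⟶ HC) (u : A' ⟶ A) (hu : HA' ⟶ HA) (v : C' ⟶ C) (hv : HC' ⟶ HC)
    (h2 : u ≫ a.hom = a'.hom ≫ hu) (h1 : c'.inv ≫ v = hv ≫ c.inv) (h3 : δ' ≫ hv = hu ≫ δ) :
    (a'.hom ≫ δ' ≫ c'.inv) ≫ v = u ≫ (a.hom ≫ δ ≫ c.inv) := by
  rw [Category.assoc, Category.assoc, h1, reassoc_of% h3, reassoc_of% h2]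

/-- The connecting morphism in `Modᵒᵖ`. -/
noncomputable def δOp (S : ShortComplex (ModuleCat.{u} R)) (hS : S.ShortExact)
    {X : ModuleCat.{u} R} (P : ProjectiveResolution X) (n : ℕ) :
    ((FY S.X₁).leftDerived (n + 1)).obj X ⟶ ((FY S.X₃).leftDerived n).obj X :=
  (P.isoLeftDerivedObj (FY S.X₁) (n + 1)).hom ≫
    (cxSC_shortExact S hS P.complex).δ (n + 1) n (relSucc n) ≫ (P.isoLeftDerivedObj (FY S.X₃) n).inv

/-- The abbreviation for old-style Ext groups. -/
noncomputable abbrev E (n : ℕ) (X Y : ModuleCat.{u} R) : ModuleCat.{u} R :=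
  ((Ext R (ModuleCat.{u} R) n).obj (op X)).obj Y

noncomputable abbrev Emap (n : ℕ) (X : ModuleCat.{u} R) {Y Y' : ModuleCat.{u} R} (g : Y ⟶ Y') :
    E n X Y ⟶ E n X Y' :=
  ((Ext R (ModuleCat.{u} R) n).obj (op X)).map g

noncomputable abbrev Epre (n : ℕ) {X X' : ModuleCat.{u} R} (f : X' ⟶ X) (Y : ModuleCat.{u} R) :
    E n X Y ⟶ E n X' Y :=
  ((Ext R (ModuleCat.{u} R) n).map f.op).app Y

lemma Emap_eq (n : ℕ) (X : ModuleCat.{u} R) {Y Y' : ModuleCat.{u} R} (g : Y ⟶ Y') :
    Emap n X g = ((NatTrans.leftDerived (αg g) n).app X).unop := rfl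

lemma Epre_eq (n : ℕ) {X X' : ModuleCat.{u} R} (f : X' ⟶ X) (Y : ModuleCat.{u} R) :
    Epre n f Y = (((FY Y).leftDerived n).map f).unop := rfl

/-- The connecting homomorphism `Ext^n(X, S.X₃) ⟶ Ext^(n+1)(X, S.X₁)` computed with `P`. -/
noncomputable def extδP (S : ShortComplex (ModuleCat.{u} R)) (hS : S.ShortExact)
    {X : ModuleCat.{u} R} (P : ProjectiveResolution X) (n : ℕ) :
    E n X S.X₃ ⟶ E (n + 1) X S.X₁ :=
  (δOp S hS P n).unop

end Groth.Agent.Lib.Helper8.ExtLES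

namespace Groth.Agent.Lib.Helper8.ExtLES

variable {R : Type u} [CommRing R]

section LES

variable (S : ShortComplex (ModuleCat.{u} R)) (hS : S.ShortExact)
  {X : ModuleCat.{u} R} (P : ProjectiveResolution X) (n : ℕ)

lemma leftDerived_αg_g_eq :
    (NatTrans.leftDerived (αg S.g) n).app X =
      (P.isoLeftDerivedObj (FY S.X₃) n).hom ≫
        HomologicalComplex.homologyMap (cxSC S P.complex).f n ≫
        (P.isoLeftDerivedObj (FY S.X₂) n).inv :=
  P.leftDerived_app_eq (αg S.g) n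

lemma leftDerived_αg_f_eq :
    (NatTrans.leftDerived (αg S.f) n).app X =
      (P.isoLeftDerivedObj (FY S.X₂) n).hom ≫
        HomologicalComplex.homologyMap (cxSC S P.complex).g n ≫
        (P.isoLeftDerivedObj (FY S.X₁) n).inv :=
  P.leftDerived_app_eq (αg S.f) n

include hS in
theorem ext_exact₂ (y : E n X S.X₂) (hy : Emap n X S.g y = 0) :
    ∃ x : E n X S.X₁, Emap n X S.f x = y := by
  have P : ProjectiveResolution X := ProjectiveResolution.of X
  have hT := cxSC_shortExact S hS P.complex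
  obtain ⟨w', h'⟩ := exact_conj _ _ _ (hT.homology_exact₂ n)
    (P.isoLeftDerivedObj (FY S.X₃) n) (P.isoLeftDerivedObj (FY S.X₂) n)
    (P.isoLeftDerivedObj (FY S.X₁) n) _ _ (leftDerived_αg_g_eq S P n) (leftDerived_αg_f_eq S P n)
  exact exact_fun_of_op_exact _ _ w' h' y hy

theorem ext_exact₃ (z : E n X S.X₃) (hz : extδP S hS P n z = 0) :
    ∃ y : E n X S.X₂, Emap n X S.g y = z := by
  have hT := cxSC_shortExact S hS P.complex
  obtain ⟨w', h'⟩ := exact_conj _ _ _ (hT.homology_exact₁ (n + 1) n (relSucc n))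
    (P.isoLeftDerivedObj (FY S.X₁) (n + 1)) (P.isoLeftDerivedObj (FY S.X₃) n)
    (P.isoLeftDerivedObj (FY S.X₂) n) (δOp S hS P n) _ rfl (leftDerived_αg_g_eq S P n)
  exact exact_fun_of_op_exact _ _ w' h' z hz

theorem ext_exact₁ (x : E (n + 1) X S.X₁) (hx : Emap (n + 1) X S.f x = 0) :
    ∃ z : E n X S.X₃, extδP S hS P n z = x := by
  have hT := cxSC_shortExact S hS P.complex
  obtain ⟨w', h'⟩ := exact_conj _ _ _ (hT.homology_exact₃ (n + 1) n (relSucc n))
    (P.isoLeftDerivedObj (FY S.X₂) (n + 1)) (P.isoLeftDerivedObj (FY S.X₁) (n + 1))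
    (P.isoLeftDerivedObj (FY S.X₃) n) _ (δOp S hS P n) (leftDerived_αg_f_eq S P (n + 1)) rfl
  exact exact_fun_of_op_exact _ _ w' h' x hx

end LES

end Groth.Agent.Lib.Helper8.ExtLES

namespace Groth.Agent.Lib.Helper8.ExtLES

variable {R : Type u} [CommRing R]

section Nat

variable (S : ShortComplex (ModuleCat.{u} R)) (hS : S.ShortExact)

/-- The morphism of short complexes of complexes induced by a chain map. -/
noncomputable def cxSCMap {K K' : ChainComplex (ModuleCat.{u} R) ℕ} (φ : K' ⟶ K) :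
    cxSC S K' ⟶ cxSC S K where
  τ₁ := ((FY S.X₃).mapHomologicalComplex _).map φ
  τ₂ := ((FY S.X₂).mapHomologicalComplex _).map φ
  τ₃ := ((FY S.X₁).mapHomologicalComplex _).map φ
  comm₁₂ := ((NatTrans.mapHomologicalComplex (αg S.g) (ComplexShape.down ℕ)).naturality φ)
  comm₂₃ := ((NatTrans.mapHomologicalComplex (αg S.f) (ComplexShape.down ℕ)).naturality φ)

theorem δOp_naturality {X X' : ModuleCat.{u} R} (f : X' ⟶ X) (P' : ProjectiveResolution X')
    (P : ProjectiveResolution X) (n : ℕ) :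
    δOp S hS P' n ≫ ((FY S.X₃).leftDerived n).map f =
      ((FY S.X₁).leftDerived (n + 1)).map f ≫ δOp S hS P n := by
  have comm := ProjectiveResolution.lift_commutes_zero f P' P
  have h1 := ProjectiveResolution.isoLeftDerivedObj_inv_naturality f P' P
    (ProjectiveResolution.lift f P' P) comm (FY S.X₃) n
  have h2 := ProjectiveResolution.isoLeftDerivedObj_hom_naturality f P' P
    (ProjectiveResolution.lift f P' P) comm (FY S.X₁) (n + 1)
  have h3 := HomologicalComplex.HomologySequence.δ_naturality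
    (cxSCMap S (ProjectiveResolution.lift f P' P))
    (cxSC_shortExact S hS P'.complex) (cxSC_shortExact S hS P.complex) (n + 1) n (relSucc n)
  exact conj_nat _ _ _ _ _ _ _ _ _ _ h2 h1 h3

theorem extδP_naturality {X X' : ModuleCat.{u} R} (f : X' ⟶ X) (P' : ProjectiveResolution X')
    (P : ProjectiveResolution X) (n : ℕ) :
    extδP S hS P n ≫ Epre (n + 1) f S.X₁ = Epre n f S.X₃ ≫ extδP S hS P' n := by
  have h := δOp_naturality S hS f P' P n
  apply Quiver.Hom.op_inj
  exact h.symm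

end Nat

end Groth.Agent.Lib.Helper8.ExtLES

namespace Groth.Agent.Lib.Helper8.ExtLES

variable {R : Type u} [CommRing R]

section Zero

variable (S : ShortComplex (ModuleCat.{u} R)) (hS : S.ShortExact)
  {X : ModuleCat.{u} R} (P : ProjectiveResolution X) (n : ℕ)

lemma unop_comp_zero {A B C : (ModuleCat.{u} R)ᵒᵖ} (f : A ⟶ B) (g : B ⟶ C) (w : f ≫ g = 0)
    (x : (unop C : ModuleCat.{u} R)) : f.unop (g.unop x) = 0 := by
  have h : g.unop ≫ f.unop = 0 := by
    rw [← unop_comp, w]; rfl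
  have := congrArg (fun φ => φ.hom x) h
  simpa using this

include hS in
theorem Emap_g_Emap_f (x : E n X S.X₁) : Emap n X S.g (Emap n X S.f x) = 0 := by
  have P : ProjectiveResolution X := ProjectiveResolution.of X
  have hT := cxSC_shortExact S hS P.complex
  obtain ⟨w', -⟩ := exact_conj _ _ _ (hT.homology_exact₂ n)
    (P.isoLeftDerivedObj (FY S.X₃) n) (P.isoLeftDerivedObj (FY S.X₂) n)
    (P.isoLeftDerivedObj (FY S.X₁) n) _ _ (leftDerived_αg_g_eq S P n)
    (leftDerived_αg_f_eq S P n)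
  exact unop_comp_zero _ _ w' x

theorem extδP_Emap_g (y : E n X S.X₂) : extδP S hS P n (Emap n X S.g y) = 0 := by
  have hT := cxSC_shortExact S hS P.complex
  obtain ⟨w', -⟩ := exact_conj _ _ _ (hT.homology_exact₁ (n + 1) n (relSucc n))
    (P.isoLeftDerivedObj (FY S.X₁) (n + 1)) (P.isoLeftDerivedObj (FY S.X₃) n)
    (P.isoLeftDerivedObj (FY S.X₂) n) (δOp S hS P n) _ rfl (leftDerived_αg_g_eq S P n)
  exact unop_comp_zero _ _ w' y

theorem Emap_f_extδP (z : E n X S.X₃) : Emap (n + 1) X S.f (extδP S hS P n z) = 0 := by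
  have hT := cxSC_shortExact S hS P.complex
  obtain ⟨w', -⟩ := exact_conj _ _ _ (hT.homology_exact₃ (n + 1) n (relSucc n))
    (P.isoLeftDerivedObj (FY S.X₂) (n + 1)) (P.isoLeftDerivedObj (FY S.X₁) (n + 1))
    (P.isoLeftDerivedObj (FY S.X₃) n) _ (δOp S hS P n) (leftDerived_αg_f_eq S P (n + 1)) rfl
  exact unop_comp_zero _ _ w' z

end Zero

/-- The canonical connecting homomorphism. -/
noncomputable def extδ (S : ShortComplex (ModuleCat.{u} R)) (hS : S.ShortExact)
    (X : ModuleCat.{u} R) (n : ℕ) : E n X S.X₃ ⟶ E (n + 1) X S.X₁ :=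
  extδP S hS (ProjectiveResolution.of X) n

theorem extδ_naturality (S : ShortComplex (ModuleCat.{u} R)) (hS : S.ShortExact)
    {X X' : ModuleCat.{u} R} (f : X' ⟶ X) (n : ℕ) (z : E n X S.X₃) :
    Epre (n + 1) f S.X₁ (extδ S hS X n z) = extδ S hS X' n (Epre n f S.X₃ z) := by
  have h := extδP_naturality S hS f (ProjectiveResolution.of X') (ProjectiveResolution.of X) n
  have := congrArg (fun φ => φ.hom z) h
  exact this

theorem Epre_Emap (n : ℕ) {X X' : ModuleCat.{u} R} (f : X' ⟶ X) {Y Y' : ModuleCat.{u} R}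
    (g : Y ⟶ Y') (x : E n X Y) :
    Epre n f Y' (Emap n X g x) = Emap n X' g (Epre n f Y x) := by
  have h := ((Ext R (ModuleCat.{u} R) n).map f.op).naturality g
  have := congrArg (fun φ => φ.hom x) h
  exact this

end Groth.Agent.Lib.Helper8.ExtLES

namespace Groth.Agent.Lib.Helper8.ExtLES

variable {R : Type u} [CommRing R]

theorem isZero_E_succ_of_injective (X Y : ModuleCat.{u} R) [Injective Y] (n : ℕ) :
    IsZero (E (n + 1) X Y) := by
  have P : ProjectiveResolution X := ProjectiveResolution.of X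
  have hz : IsZero (((FY Y).leftDerived (n + 1)).obj X) := by
    refine IsZero.of_iso ?_ (P.isoLeftDerivedObj (FY Y) (n + 1))
    erw [← HomologicalComplex.exactAt_iff_isZero_homology]
    rw [HomologicalComplex.exactAt_iff' _ (n + 2) (n + 1) n (by simp only [ChainComplex.prev]; rfl)
      (by simp)]
    rw [← ShortComplex.exact_unop_iff, ShortComplex.moduleCat_exact_iff]
    intro (f : P.complex.X (n + 1) ⟶ Y) (hf : P.complex.d (n + 2) (n + 1) ≫ f = 0)
    exact ⟨(P.exact_succ n).descToInjective f hf, (P.exact_succ n).comp_descToInjective f hf⟩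
  exact hz.unop

end Groth.Agent.Lib.Helper8.ExtLES

namespace Groth.Agent.Lib.Helper8.ExtLES

variable {R : Type u} [CommRing R]

instance preservesFiniteLimits_linearYoneda_obj (Y : ModuleCat.{u} R) :
    PreservesFiniteLimits ((linearYoneda R (ModuleCat.{u} R)).obj Y) := by
  have h : (linearYoneda R (ModuleCat.{u} R)).obj Y ⋙ forget₂ (ModuleCat.{u} R) AddCommGrpCat.{u} =
      preadditiveYoneda.obj Y := rfl
  have : PreservesFiniteLimits ((linearYoneda R (ModuleCat.{u} R)).obj Y ⋙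
      forget₂ (ModuleCat.{u} R) AddCommGrpCat.{u}) := by
    rw [h]; infer_instance
  exact preservesFiniteLimits_of_reflects_of_preserves _ (forget₂ (ModuleCat.{u} R) AddCommGrpCat.{u})

instance preservesFiniteColimits_FY (Y : ModuleCat.{u} R) : PreservesFiniteColimits (FY Y) :=
  preservesFiniteColimits_rightOp _

end Groth.Agent.Lib.Helper8.ExtLES

namespace Groth.Agent.Lib.Helper8.ExtLES

variable {R : Type u} [CommRing R]

lemma conj2 {D : Type*} [Category D] {A B HA HB OA OB FX GX : D} (a : A ≅ HA) (b : B ≅ HB)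
    (hm : HA ⟶ HB) (ιF : HA ⟶ OA) (ιG : HB ⟶ OB) (om : OA ⟶ OB) (zF : OA ⟶ FX) (zG : OB ⟶ GX)
    (αX : FX ⟶ GX) (h1 : hm ≫ ιG = ιF ≫ om) (h2 : om ≫ zG = zF ≫ αX) :
    (a.hom ≫ hm ≫ b.inv) ≫ (b.hom ≫ ιG ≫ zG) = (a.hom ≫ ιF ≫ zF) ≫ αX := by
  simp only [Category.assoc, Iso.inv_hom_id_assoc]
  rw [reassoc_of% h1, h2]

lemma leftDerived_fromLeftDerivedZero {C D : Type*} [Category C] [Category D] [Abelian C]
    [HasProjectiveResolutions C] [Abelian D] {F G : C ⥤ D} [F.Additive] [G.Additive]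
    (α : F ⟶ G) (X : C) :
    (NatTrans.leftDerived α 0).app X ≫ G.fromLeftDerivedZero.app X =
      F.fromLeftDerivedZero.app X ≫ α.app X := by
  have P : ProjectiveResolution X := projectiveResolution X
  rw [P.leftDerived_app_eq α 0, P.fromLeftDerivedZero_eq F, P.fromLeftDerivedZero_eq G]
  refine conj2 _ _ _ _ _ (HomologicalComplex.opcyclesMap
        ((NatTrans.mapHomologicalComplex α (ComplexShape.down ℕ)).app P.complex) 0) _ _ _ ?_ ?_
  · exact HomologicalComplex.homologyι_naturality _ _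
  · rw [← cancel_epi (HomologicalComplex.pOpcycles _ _)]
    simp only [HomologicalComplex.p_opcyclesMap_assoc, NatTrans.mapHomologicalComplex_app_f,
      ProjectiveResolution.pOpcycles_comp_fromLeftDerivedZero',
      ProjectiveResolution.pOpcycles_comp_fromLeftDerivedZero'_assoc]
    exact (α.naturality _).symm

end Groth.Agent.Lib.Helper8.ExtLES

namespace Groth.Agent.Lib.Helper8.ExtLES

variable {R : Type u} [CommRing R]

/-- The comparison `Hom(X, Y) ⟶ Ext^0(X, Y)`. -/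
noncomputable def θ (X Y : ModuleCat.{u} R) : ModuleCat.of R (X ⟶ Y) ⟶ E 0 X Y :=
  ((FY Y).fromLeftDerivedZero.app X).unop

instance (X Y : ModuleCat.{u} R) : IsIso (θ X Y) := by
  have h : IsIso ((FY Y).fromLeftDerivedZero.app X) := inferInstance
  exact (isIso_unop_iff _).2 h

theorem θ_bijective (X Y : ModuleCat.{u} R) : Function.Bijective (θ X Y) :=
  ConcreteCategory.bijective_of_isIso (θ X Y)

theorem Epre_θ {X X' : ModuleCat.{u} R} (f : X' ⟶ X) (Y : ModuleCat.{u} R) (h : X ⟶ Y) :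
    Epre 0 f Y (θ X Y h) = θ X' Y (f ≫ h) := by
  have h1 := (FY Y).fromLeftDerivedZero.naturality f
  have h2 := congrArg Quiver.Hom.unop h1
  have h3 := congrArg (fun φ => φ.hom h) h2
  exact h3

theorem Emap_θ (X : ModuleCat.{u} R) {Y Y' : ModuleCat.{u} R} (g : Y ⟶ Y') (h : X ⟶ Y) :
    Emap 0 X g (θ X Y h) = θ X Y' (h ≫ g) := by
  have h1 := leftDerived_fromLeftDerivedZero (αg g) X
  have h2 := congrArg Quiver.Hom.unop h1
  have h3 := congrArg (fun φ => φ.hom h) h2
  exact h3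

end Groth.Agent.Lib.Helper8.ExtLES
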