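import Mathlib
import Groth.Agent.Lib.Helper8ExtLES

set_option autoImplicit false
universe u
open CategoryTheory CategoryTheory.Limits Opposite

namespace Groth.Agent.Lib.Helper8.Bridge
open Groth.Agent.Lib.Helper8.ExtLES

variable {R : Type u} [CommRing R]

noncomputable abbrev KP {X : ModuleCat.{u} R} (P : ProjectiveResolution X) (Y : ModuleCat.{u} R) :
    CochainComplex (ModuleCat.{u} R) ℕ := P.complex.linearYonedaObj R Y

/-- The morphism `R ⟶ M` picking out an element. -/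
noncomputable def pt {M : ModuleCat.{u} R} (x : M) : ModuleCat.of R R ⟶ M :=
  ModuleCat.ofHom (LinearMap.toSpanSingleton R M x)

@[simp] lemma pt_one {M : ModuleCat.{u} R} (x : M) : (pt x).hom (1 : R) = x := by
  simp [pt]

lemma pt_zero {M : ModuleCat.{u} R} : pt (0 : M) = 0 := by
  ext
  simp [pt]

lemma pt_comp {M N : ModuleCat.{u} R} (x : M) (φ : M ⟶ N) : pt x ≫ φ = pt (φ.hom x) := by
  ext
  simp [pt]

variable {X : ModuleCat.{u} R} (P : ProjectiveResolution X) (Y : ModuleCat.{u} R) (n : ℕ)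

example (f : P.complex.X n ⟶ Y) : (KP P Y).X n := f

lemma KP_d_apply (f : P.complex.X n ⟶ Y) :
    ((KP P Y).d n (n + 1)).hom f = P.complex.d (n + 1) n ≫ f := by
  rfl

/-- The cycle attached to a cocycle `f`. -/
noncomputable def cyc (f : P.complex.X n ⟶ Y) (hf : P.complex.d (n + 1) n ≫ f = 0) :
    (KP P Y).cycles n :=
  ((KP P Y).liftCycles (pt (M := (KP P Y).X n) f) (n + 1) (by simp) (by
    rw [pt_comp]
    have : ((KP P Y).d n (n + 1)).hom f = 0 := by rw [KP_d_apply, hf]; rfl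
    rw [this, pt_zero])).hom (1 : R)

lemma iCycles_cyc (f : P.complex.X n ⟶ Y) (hf : P.complex.d (n + 1) n ≫ f = 0) :
    ((KP P Y).iCycles n).hom (cyc P Y n f hf) = f := by
  unfold cyc
  rw [← ModuleCat.comp_apply, HomologicalComplex.liftCycles_i]
  exact pt_one _

end Groth.Agent.Lib.Helper8.Bridge

namespace Groth.Agent.Lib.Helper8.Bridge
open Groth.Agent.Lib.Helper8.ExtLES
open CategoryTheory.Abelian CochainComplex HomComplex

variable {R : Type u} [CommRing R]
variable {X : ModuleCat.{u} R} (P : ProjectiveResolution X) (Y : ModuleCat.{u} R) (n : ℕ)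

lemma extMk_zero_deg_eq_zero_iff (f : P.complex.X 0 ⟶ Y) (hf : P.complex.d 1 0 ≫ f = 0) :
    P.extMk f 1 rfl hf = (0 : Ext.{u} X Y 0) ↔ f = 0 := by
  constructor
  · intro h
    rw [← P.extEquivCohomologyClass.apply_eq_iff_eq,
      ProjectiveResolution.extEquivCohomologyClass_extMk,
      ProjectiveResolution.extEquivCohomologyClass_zero,
      CohomologyClass.mk_eq_zero_iff,
      Cocycle.toSingleMk_mem_coboundaries_iff _ _ _ _ _ 1 (by lia)] at h
    obtain ⟨g, hg⟩ := h
    have hz : IsZero (P.cochainComplex.X 1) :=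
      CochainComplex.isZero_of_isStrictlyLE _ 0 1 (by lia)
    have hg0 : g = 0 := hz.eq_of_src _ _
    rw [hg0, comp_zero] at hg
    have h2 := hg.symm.trans (comp_zero (f := (P.cochainComplexXIso (-(0 : ℕ)) 0 rfl).hom)).symm
    exact (cancel_epi _).mp h2
  · rintro rfl
    exact P.extMk_zero 1 rfl

end Groth.Agent.Lib.Helper8.Bridge

namespace Groth.Agent.Lib.Helper8.Bridge
open Groth.Agent.Lib.Helper8.ExtLES
open CategoryTheory.Abelian CochainComplex HomComplex

variable {R : Type u} [CommRing R]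
variable {X : ModuleCat.{u} R} (P : ProjectiveResolution X) (Y : ModuleCat.{u} R) (n : ℕ)

lemma KP_d_pred_apply (p : ℕ) (g : P.complex.X p ⟶ Y) :
    ((KP P Y).d p (p + 1)).hom g = P.complex.d (p + 1) p ≫ g := rfl

/-- `f` is a coboundary in `Hom(P, Y)`. -/
def IsCob (f : P.complex.X n ⟶ Y) : Prop :=
  ∃ g : (KP P Y).X (n - 1), ((KP P Y).d (n - 1) n).hom g = f

lemma isCob_zero_iff (f : P.complex.X 0 ⟶ Y) : IsCob P Y 0 f ↔ f = 0 := by
  unfold IsCob
  have h0 : (KP P Y).d (0 - 1) 0 = 0 := (KP P Y).shape _ _ (by simp)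
  constructor
  · rintro ⟨g, rfl⟩
    rw [h0]; rfl
  · rintro rfl
    exact ⟨0, by rw [h0]; rfl⟩

lemma isCob_succ_iff (p : ℕ) (f : P.complex.X (p + 1) ⟶ Y) :
    IsCob P Y (p + 1) f ↔ ∃ g : P.complex.X p ⟶ Y, P.complex.d (p + 1) p ≫ g = f := by
  unfold IsCob
  constructor
  · rintro ⟨g, rfl⟩
    exact ⟨g, rfl⟩
  · rintro ⟨g, rfl⟩
    exact ⟨g, rfl⟩

lemma extMk_eq_zero_iff_isCob (f : P.complex.X n ⟶ Y) (hf : P.complex.d (n + 1) n ≫ f = 0) :
    P.extMk f (n + 1) rfl hf = (0 : Ext.{u} X Y n) ↔ IsCob P Y n f := by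
  cases n with
  | zero => rw [isCob_zero_iff]; exact extMk_zero_deg_eq_zero_iff P Y f hf
  | succ p => rw [isCob_succ_iff]; exact P.extMk_eq_zero_iff f (p + 1 + 1) rfl hf p rfl

lemma extMk_eq_iff (f f' : P.complex.X n ⟶ Y) (hf : P.complex.d (n + 1) n ≫ f = 0)
    (hf' : P.complex.d (n + 1) n ≫ f' = 0) :
    P.extMk f (n + 1) rfl hf = (P.extMk f' (n + 1) rfl hf' : Ext.{u} X Y n) ↔
      IsCob P Y n (f - f') := by
  rw [← extMk_eq_zero_iff_isCob P Y n (f - f') (by simp [hf, hf']), ← P.sub_extMk f f' _ rfl hf hf',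
    sub_eq_zero]

end Groth.Agent.Lib.Helper8.Bridge

namespace Groth.Agent.Lib.Helper8.Bridge
open Groth.Agent.Lib.Helper8.ExtLES
open CategoryTheory.Abelian

variable {R : Type u} [CommRing R]
variable {X : ModuleCat.{u} R} (P : ProjectiveResolution X) (Y : ModuleCat.{u} R) (n : ℕ)

lemma prev_eq : (ComplexShape.up ℕ).prev n = n - 1 := by
  cases n with
  | zero => simp
  | succ p => simp

lemma homologyπ_eq_zero_iff (z : (KP P Y).cycles n) :
    ((KP P Y).homologyπ n).hom z = 0 ↔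
      ∃ g : (KP P Y).X (n - 1), ((KP P Y).toCycles (n - 1) n).hom g = z := by
  let S : ShortComplex (ModuleCat.{u} R) :=
    ShortComplex.mk ((KP P Y).toCycles (n - 1) n) ((KP P Y).homologyπ n)
      ((KP P Y).toCycles_comp_homologyπ _ _)
  have hS : S.Exact :=
    ShortComplex.exact_of_g_is_cokernel S ((KP P Y).homologyIsCokernel (n - 1) n (prev_eq n))
  constructor
  · intro h
    exact (ShortComplex.moduleCat_exact_iff S).mp hS z h
  · rintro ⟨g, rfl⟩
    exact S.moduleCat_zero_apply g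

lemma iCycles_injective : Function.Injective ((KP P Y).iCycles n).hom :=
  (ModuleCat.mono_iff_injective _).mp inferInstance

lemma homologyπ_surjective : Function.Surjective ((KP P Y).homologyπ n).hom :=
  (ModuleCat.epi_iff_surjective _).mp inferInstance

lemma cyc_sub (f f' : P.complex.X n ⟶ Y) (hf : P.complex.d (n + 1) n ≫ f = 0)
    (hf' : P.complex.d (n + 1) n ≫ f' = 0) :
    cyc P Y n f hf - cyc P Y n f' hf' = cyc P Y n (f - f') (by simp [hf, hf']) := by
  apply iCycles_injective P Y n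
  rw [map_sub, iCycles_cyc, iCycles_cyc, iCycles_cyc]
  rfl

lemma homologyπ_cyc_eq_zero_iff (f : P.complex.X n ⟶ Y) (hf : P.complex.d (n + 1) n ≫ f = 0) :
    ((KP P Y).homologyπ n).hom (cyc P Y n f hf) = 0 ↔ IsCob P Y n f := by
  rw [homologyπ_eq_zero_iff]
  unfold IsCob
  constructor
  · rintro ⟨g, hg⟩
    refine ⟨g, ?_⟩
    have := congrArg ((KP P Y).iCycles n).hom hg
    rw [iCycles_cyc, ← ModuleCat.comp_apply, HomologicalComplex.toCycles_i] at this
    exact this
  · rintro ⟨g, hg⟩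
    refine ⟨g, iCycles_injective P Y n ?_⟩
    rw [iCycles_cyc, ← ModuleCat.comp_apply, HomologicalComplex.toCycles_i]
    exact hg

/-- The class in old `Ext` of a cocycle. -/
noncomputable def mkE (f : P.complex.X n ⟶ Y) (hf : P.complex.d (n + 1) n ≫ f = 0) : E n X Y :=
  (P.isoExt (R := R) n Y).inv.hom (((KP P Y).homologyπ n).hom (cyc P Y n f hf))

lemma mkE_eq_iff (f f' : P.complex.X n ⟶ Y) (hf : P.complex.d (n + 1) n ≫ f = 0)
    (hf' : P.complex.d (n + 1) n ≫ f' = 0) :
    mkE P Y n f hf = mkE P Y n f' hf' ↔ IsCob P Y n (f - f') := by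
  unfold mkE
  have hinj : Function.Injective (P.isoExt (R := R) n Y).inv.hom :=
    (ModuleCat.mono_iff_injective _).mp inferInstance
  rw [hinj.eq_iff, ← sub_eq_zero, ← map_sub, cyc_sub, homologyπ_cyc_eq_zero_iff]

lemma mkE_surjective (e : E n X Y) :
    ∃ (f : P.complex.X n ⟶ Y) (hf : P.complex.d (n + 1) n ≫ f = 0), mkE P Y n f hf = e := by
  obtain ⟨z, hz⟩ := homologyπ_surjective P Y n ((P.isoExt (R := R) n Y).hom.hom e)
  have hf : P.complex.d (n + 1) n ≫ (((KP P Y).iCycles n).hom z) = 0 := by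
    have h1 := congrArg (fun φ => φ.hom z) ((KP P Y).iCycles_d n (n + 1))
    exact h1
  refine ⟨((KP P Y).iCycles n).hom z, hf, ?_⟩
  have hc : cyc P Y n _ hf = z := iCycles_injective P Y n (iCycles_cyc P Y n _ hf)
  unfold mkE
  rw [hc, hz]
  exact congrArg (fun φ => φ.hom e) (P.isoExt (R := R) n Y).hom_inv_id

end Groth.Agent.Lib.Helper8.Bridge
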