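import Groth.Agent.Lib.Helper8BridgeT

set_option autoImplicit false
universe u
open CategoryTheory CategoryTheory.Limits Opposite

namespace Groth.Agent.Lib.Helper8.Bridge
open Groth.Agent.Lib.Helper8.ExtLES
open CategoryTheory.Abelian

variable {R : Type u} [CommRing R]
variable {X : ModuleCat.{u} R} (P : ProjectiveResolution X) (Y : ModuleCat.{u} R) (n : ℕ)

noncomputable abbrev AP : ChainComplex (ModuleCat.{u} R)ᵒᵖ ℕ :=
  ((FY Y).mapHomologicalComplex _).obj P.complex

example : KP P Y = (AP P Y).unop := rfl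

/-- `isoLeftDerivedObj` retyped. -/
noncomputable def isoLD : ((FY Y).leftDerived n).obj X ≅ (AP P Y).homology n :=
  P.isoLeftDerivedObj (FY Y) n

lemma isoExt_hom_eq :
    (P.isoExt (R := R) n Y).hom =
      (isoLD P Y n).inv.unop ≫ (HomologicalComplex.homologyUnop (AP P Y) n).inv := rfl

lemma isoExt_inv_eq :
    (P.isoExt (R := R) n Y).inv =
      (HomologicalComplex.homologyUnop (AP P Y) n).hom ≫ (isoLD P Y n).hom.unop := rfl

variable {Y} in
/-- postcomposition cochain map -/
noncomputable def kMap {Y' : ModuleCat.{u} R} (g : Y ⟶ Y') : KP P Y ⟶ KP P Y' :=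
  (HomologicalComplex.unopFunctor _ _).map
    ((NatTrans.mapHomologicalComplex (αg g) (ComplexShape.down ℕ)).app P.complex).op

variable {Y} in
lemma kMap_f_apply {Y' : ModuleCat.{u} R} (g : Y ⟶ Y') (f : P.complex.X n ⟶ Y) :
    ((kMap P g).f n).hom f = f ≫ g := rfl

variable {Y} in
lemma homologyUnop_naturality_g {Y' : ModuleCat.{u} R} (g : Y ⟶ Y') :
    (HomologicalComplex.homologyUnop (AP P Y) n).hom ≫
      (HomologicalComplex.homologyMap
        ((NatTrans.mapHomologicalComplex (αg g) (ComplexShape.down ℕ)).app P.complex) n).unop =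
    HomologicalComplex.homologyMap (kMap P g) n ≫
      (HomologicalComplex.homologyUnop (AP P Y') n).hom := by
  have h := HomologicalComplex.homologyOp_hom_naturality (kMap P g) n
  have h' := congrArg Quiver.Hom.unop h
  exact h'

variable {Y} in
lemma Emap_eq' {Y' : ModuleCat.{u} R} (g : Y ⟶ Y') :
    Emap n X g = (isoLD P Y n).inv.unop ≫
      (HomologicalComplex.homologyMap
        ((NatTrans.mapHomologicalComplex (αg g) (ComplexShape.down ℕ)).app P.complex) n).unop ≫
      (isoLD P Y' n).hom.unop := by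
  rw [Emap_eq, P.leftDerived_app_eq (αg g) n]
  rfl

lemma comp_lemma {C : Type*} [Category C] {A B C' D E' A' : C} (hU : A ⟶ B) (ah : B ⟶ C')
    (ai : C' ⟶ B) (hm : B ⟶ D) (bh : D ⟶ E') (k : A ⟶ A') (hU' : A' ⟶ D) (e1 : ah ≫ ai = 𝟙 B)
    (nat : hU ≫ hm = k ≫ hU') : (hU ≫ ah) ≫ (ai ≫ hm ≫ bh) = k ≫ (hU' ≫ bh) := by
  rw [Category.assoc, reassoc_of% e1, ← Category.assoc, nat, Category.assoc]

variable {Y} in
lemma isoExt_inv_Emap {Y' : ModuleCat.{u} R} (g : Y ⟶ Y') :
    (P.isoExt (R := R) n Y).inv ≫ Emap n X g =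
      HomologicalComplex.homologyMap (kMap P g) n ≫ (P.isoExt (R := R) n Y').inv := by
  rw [isoExt_inv_eq, isoExt_inv_eq, Emap_eq' P n g]
  have e1 : (isoLD P Y n).hom.unop ≫ (isoLD P Y n).inv.unop = 𝟙 _ := by
    rw [← unop_comp, Iso.inv_hom_id, unop_id]
  exact comp_lemma _ _ _ _ _ _ _ e1 (homologyUnop_naturality_g P n g)

variable {Y} in
theorem Emap_mkE {Y' : ModuleCat.{u} R} (g : Y ⟶ Y') (f : P.complex.X n ⟶ Y)
    (hf : P.complex.d (n + 1) n ≫ f = 0) :
    (Emap n X g).hom (mkE P Y n f hf) =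
      mkE P Y' n (f ≫ g) (by rw [reassoc_of% hf, zero_comp]) := by
  unfold mkE
  rw [← ModuleCat.comp_apply, isoExt_inv_Emap, ModuleCat.comp_apply, ← ModuleCat.comp_apply
    ((KP P Y).homologyπ n), HomologicalComplex.homologyπ_naturality, ModuleCat.comp_apply]
  congr 2
  apply iCycles_injective P Y' n
  rw [iCycles_cyc, ← ModuleCat.comp_apply, HomologicalComplex.cyclesMap_i, ModuleCat.comp_apply,
    iCycles_cyc, kMap_f_apply]

section Pre

variable {X' : ModuleCat.{u} R} (P' : ProjectiveResolution X') {φ : X' ⟶ X}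
  (ψ : ProjectiveResolution.Hom P' P φ)

/-- precomposition cochain map -/
noncomputable def pMap : KP P Y ⟶ KP P' Y :=
  (HomologicalComplex.unopFunctor _ _).map
    (((FY Y).mapHomologicalComplex (ComplexShape.down ℕ)).map ψ.hom).op

lemma pMap_f_apply (f : P.complex.X n ⟶ Y) :
    ((pMap P Y P' ψ).f n).hom f = ψ.hom.f n ≫ f := rfl

lemma homologyUnop_naturality_f :
    (HomologicalComplex.homologyUnop (AP P Y) n).hom ≫
      (HomologicalComplex.homologyMap
        (((FY Y).mapHomologicalComplex (ComplexShape.down ℕ)).map ψ.hom) n).unop =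
    HomologicalComplex.homologyMap (pMap P Y P' ψ) n ≫
      (HomologicalComplex.homologyUnop (AP P' Y) n).hom := by
  have h := HomologicalComplex.homologyOp_hom_naturality (pMap P Y P' ψ) n
  have h' := congrArg Quiver.Hom.unop h
  exact h'

lemma Epre_eq' :
    Epre n φ Y = (isoLD P Y n).inv.unop ≫
      (HomologicalComplex.homologyMap
        (((FY Y).mapHomologicalComplex (ComplexShape.down ℕ)).map ψ.hom) n).unop ≫
      (isoLD P' Y n).hom.unop := by
  have comm : ψ.hom.f 0 ≫ P.π.f 0 = P'.π.f 0 ≫ φ := by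
    simpa using ψ.hom_f_zero_comp_π_f_zero
  have h2 := ProjectiveResolution.isoLeftDerivedObj_hom_naturality φ P' P ψ.hom comm (FY Y) n
  have h3 : ((FY Y).leftDerived n).map φ =
      (isoLD P' Y n).hom ≫ HomologicalComplex.homologyMap
        (((FY Y).mapHomologicalComplex (ComplexShape.down ℕ)).map ψ.hom) n ≫ (isoLD P Y n).inv := by
    have h4 : ((FY Y).leftDerived n).map φ ≫ (isoLD P Y n).hom =
      (isoLD P' Y n).hom ≫ HomologicalComplex.homologyMap
        (((FY Y).mapHomologicalComplex (ComplexShape.down ℕ)).map ψ.hom) n := h2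
    rw [← Category.assoc, ← h4, Category.assoc, Iso.hom_inv_id, Category.comp_id]
  rw [Epre_eq, h3]
  rfl

lemma isoExt_inv_Epre :
    (P.isoExt (R := R) n Y).inv ≫ Epre n φ Y =
      HomologicalComplex.homologyMap (pMap P Y P' ψ) n ≫ (P'.isoExt (R := R) n Y).inv := by
  rw [isoExt_inv_eq, isoExt_inv_eq, Epre_eq' P Y n P' ψ]
  have e1 : (isoLD P Y n).hom.unop ≫ (isoLD P Y n).inv.unop = 𝟙 _ := by
    rw [← unop_comp, Iso.inv_hom_id, unop_id]
  exact comp_lemma _ _ _ _ _ _ _ e1 (homologyUnop_naturality_f P Y n P' ψ)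

theorem Epre_mkE (f : P.complex.X n ⟶ Y) (hf : P.complex.d (n + 1) n ≫ f = 0) :
    (Epre n φ Y).hom (mkE P Y n f hf) =
      mkE P' Y n (ψ.hom.f n ≫ f) (by rw [← ψ.hom.comm_assoc, hf, comp_zero]) := by
  unfold mkE
  rw [← ModuleCat.comp_apply, isoExt_inv_Epre P Y n P' ψ, ModuleCat.comp_apply,
    ← ModuleCat.comp_apply ((KP P Y).homologyπ n), HomologicalComplex.homologyπ_naturality,
    ModuleCat.comp_apply]
  congr 2
  apply iCycles_injective P' Y n
  rw [iCycles_cyc, ← ModuleCat.comp_apply, HomologicalComplex.cyclesMap_i, ModuleCat.comp_apply,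
    iCycles_cyc, pMap_f_apply]

end Pre

end Groth.Agent.Lib.Helper8.Bridge
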