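import Groth.Agent.Lib.Helper8BridgeT2

set_option autoImplicit false
universe u
open CategoryTheory CategoryTheory.Limits Opposite

namespace Groth.Agent.Lib.Helper8.Bridge
open Groth.Agent.Lib.Helper8.ExtLES
open CategoryTheory.Abelian

variable {R : Type u} [CommRing R]
variable {X : ModuleCat.{u} R} (P : ProjectiveResolution X) (Y : ModuleCat.{u} R) (n : ℕ)

lemma cyc_add (f f' : P.complex.X n ⟶ Y) (hf : P.complex.d (n + 1) n ≫ f = 0)
    (hf' : P.complex.d (n + 1) n ≫ f' = 0) :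
    cyc P Y n f hf + cyc P Y n f' hf' = cyc P Y n (f + f') (by simp [hf, hf']) := by
  apply iCycles_injective P Y n
  rw [map_add, iCycles_cyc, iCycles_cyc, iCycles_cyc]
  rfl

lemma cyc_smul (r : R) (f : P.complex.X n ⟶ Y) (hf : P.complex.d (n + 1) n ≫ f = 0) :
    r • cyc P Y n f hf = cyc P Y n (r • f) (by simp [hf]) := by
  apply iCycles_injective P Y n
  rw [map_smul, iCycles_cyc, iCycles_cyc]
  rfl

lemma mkE_add (f f' : P.complex.X n ⟶ Y) (hf : P.complex.d (n + 1) n ≫ f = 0)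
    (hf' : P.complex.d (n + 1) n ≫ f' = 0) :
    mkE P Y n f hf + mkE P Y n f' hf' = mkE P Y n (f + f') (by simp [hf, hf']) := by
  unfold mkE
  rw [← map_add, ← map_add, cyc_add]

lemma mkE_smul (r : R) (f : P.complex.X n ⟶ Y) (hf : P.complex.d (n + 1) n ≫ f = 0) :
    r • mkE P Y n f hf = mkE P Y n (r • f) (by simp [hf]) := by
  unfold mkE
  rw [← map_smul, ← map_smul, cyc_smul]

/-- The comparison map for a given resolution. -/
noncomputable def ΨP (e : E n X Y) : Ext.{u} X Y n :=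
  P.extMk (mkE_surjective P Y n e).choose (n + 1) rfl (mkE_surjective P Y n e).choose_spec.choose

lemma ΨP_mkE (f : P.complex.X n ⟶ Y) (hf : P.complex.d (n + 1) n ≫ f = 0) :
    ΨP P Y n (mkE P Y n f hf) = P.extMk f (n + 1) rfl hf := by
  unfold ΨP
  rw [extMk_eq_iff, ← mkE_eq_iff]
  exact (mkE_surjective P Y n (mkE P Y n f hf)).choose_spec.choose_spec

lemma extMk_smul (r : R) (f : P.complex.X n ⟶ Y) (hf : P.complex.d (n + 1) n ≫ f = 0) :
    r • (P.extMk f (n + 1) rfl hf : Ext.{u} X Y n) = P.extMk (r • f) (n + 1) rfl (by simp [hf]) := by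
  rw [Ext.smul_eq_comp_mk₀, P.extMk_comp_mk₀]
  congr 1

/-- The comparison as a linear equivalence. -/
noncomputable def ΨPL : E n X Y ≃ₗ[R] Ext.{u} X Y n :=
  LinearEquiv.ofBijective
    { toFun := ΨP P Y n
      map_add' := by
        intro e e'
        obtain ⟨f, hf, rfl⟩ := mkE_surjective P Y n e
        obtain ⟨f', hf', rfl⟩ := mkE_surjective P Y n e'
        rw [mkE_add, ΨP_mkE, ΨP_mkE, ΨP_mkE, P.add_extMk]
      map_smul' := by
        intro r e
        obtain ⟨f, hf, rfl⟩ := mkE_surjective P Y n e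
        rw [mkE_smul, ΨP_mkE, ΨP_mkE, RingHom.id_apply, extMk_smul] }
    (by
      constructor
      · intro e e' h
        obtain ⟨f, hf, rfl⟩ := mkE_surjective P Y n e
        obtain ⟨f', hf', rfl⟩ := mkE_surjective P Y n e'
        change ΨP P Y n _ = ΨP P Y n _ at h
        rw [ΨP_mkE, ΨP_mkE, extMk_eq_iff] at h
        rw [mkE_eq_iff]
        exact h
      · intro α
        obtain ⟨f, hf, rfl⟩ := P.extMk_surjective α (n + 1) rfl
        exact ⟨mkE P Y n f hf, ΨP_mkE P Y n f hf⟩)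

lemma ΨPL_apply (e : E n X Y) : ΨPL P Y n e = ΨP P Y n e := rfl

variable {Y} in
theorem ΨP_Emap {Y' : ModuleCat.{u} R} (g : Y ⟶ Y') (e : E n X Y) :
    ΨP P Y' n ((Emap n X g).hom e) = (ΨP P Y n e).comp (Ext.mk₀ g) (add_zero n) := by
  obtain ⟨f, hf, rfl⟩ := mkE_surjective P Y n e
  rw [Emap_mkE, ΨP_mkE, ΨP_mkE, P.extMk_comp_mk₀]

theorem ΨP_Epre {X' : ModuleCat.{u} R} (P' : ProjectiveResolution X') {φ : X' ⟶ X}
    (ψ : ProjectiveResolution.Hom P' P φ) (e : E n X Y) :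
    ΨP P' Y n ((Epre n φ Y).hom e) = (Ext.mk₀ φ).comp (ΨP P Y n e) (zero_add n) := by
  obtain ⟨f, hf, rfl⟩ := mkE_surjective P Y n e
  rw [Epre_mkE P Y n P' ψ, ΨP_mkE, ΨP_mkE, ProjectiveResolution.mk₀_comp_extMk f (n + 1) rfl hf ψ]

end Groth.Agent.Lib.Helper8.Bridge
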