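import Mathlib.Algebra.DirectSum.Decomposition
import Mathlib.Algebra.DirectSum.Internal

/-! Transport of a decomposition along an additive equivalence (helper8). -/

set_option autoImplicit false
set_option linter.unusedSectionVars false
open DirectSum

namespace Groth.Agent.Lib.Helper8.GrTransport

universe u

variable {ι : Type} [DecidableEq ι]
variable {M N : Type u} [AddCommGroup M] [AddCommGroup N] (e : M ≃+ N)
variable (𝒩 : ι → AddSubgroup N)

/-- The transported pieces. -/
def trGr : ι → AddSubgroup M := fun i => (𝒩 i).comap e.toAddMonoidHom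

theorem mem_trGr {i : ι} {x : M} : x ∈ trGr e 𝒩 i ↔ e x ∈ 𝒩 i := Iff.rfl

/-- Piece maps. -/
def pieceMap (i : ι) : ↥(𝒩 i) →+ ↥(trGr e 𝒩 i) where
  toFun y := ⟨e.symm (y : N), by
    show e (e.symm (y : N)) ∈ 𝒩 i
    rw [e.apply_symm_apply]
    exact y.2⟩
  map_zero' := Subtype.ext (map_zero e.symm)
  map_add' x y := Subtype.ext (map_add e.symm (x : N) (y : N))

theorem coe_map_pieceMap (y : ⨁ i, 𝒩 i) :
    DirectSum.coeAddMonoidHom (trGr e 𝒩) (DirectSum.map (pieceMap e 𝒩) y) =
      e.symm (DirectSum.coeAddMonoidHom 𝒩 y) := by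
  classical
  induction y using DirectSum.induction_on with
  | zero => simp
  | of g x =>
    rw [DirectSum.map_of, DirectSum.coeAddMonoidHom_of, DirectSum.coeAddMonoidHom_of]
    rfl
  | add x y hx hy =>
    rw [map_add, map_add, map_add, hx, hy, map_add]

variable [DirectSum.Decomposition 𝒩]

/-- The decomposition map. -/
noncomputable def decHom : M →+ ⨁ i, trGr e 𝒩 i :=
  (DirectSum.map (pieceMap e 𝒩)).comp
    ((DirectSum.decomposeAddEquiv 𝒩).toAddMonoidHom.comp e.toAddMonoidHom)

theorem decHom_apply (x : M) :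
    decHom e 𝒩 x = DirectSum.map (pieceMap e 𝒩) (DirectSum.decompose 𝒩 (e x)) := rfl

/-- The transported decomposition. -/
@[instance_reducible]
noncomputable def trDecomposition : DirectSum.Decomposition (trGr e 𝒩) :=
  DirectSum.Decomposition.ofAddHom (trGr e 𝒩) (decHom e 𝒩)
    (by
      ext x
      show DirectSum.coeAddMonoidHom (trGr e 𝒩) (decHom e 𝒩 x) = x
      rw [decHom_apply, coe_map_pieceMap]
      have : DirectSum.coeAddMonoidHom 𝒩 (DirectSum.decompose 𝒩 (e x)) = e x :=
        DirectSum.Decomposition.left_inv (e x)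
      rw [this, e.symm_apply_apply])
    (by
      classical
      refine DirectSum.addHom_ext (fun i y => ?_)
      show decHom e 𝒩 (DirectSum.coeAddMonoidHom (trGr e 𝒩)
        (DirectSum.of (fun i => ↥(trGr e 𝒩 i)) i y)) = DirectSum.of (fun i => ↥(trGr e 𝒩 i)) i y
      rw [DirectSum.coeAddMonoidHom_of, decHom_apply,
        DirectSum.decompose_of_mem 𝒩 (show e (y : M) ∈ 𝒩 i from y.2), DirectSum.map_of]
      congr 1
      apply Subtype.ext
      show e.symm (e (y : M)) = (y : M)
      rw [e.symm_apply_apply])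

end Groth.Agent.Lib.Helper8.GrTransport
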