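import Groth.Agent.Lib.Helper24GrDual4
import Groth.Agent.Lib.Helper8GrTransport
import Groth.Prelude.Def_GrLC

/-!
# From pairings over the degree-zero field to helper24's graded duals (helper8)

A graded ring `R` (pieces additive subgroups) whose degree-zero part `k` is a field is a graded
`k`-algebra; a perfect graded pairing `D × M → k` exhibits `D` as the graded `k`-dual of `M`, so that
`D` is Noetherian when `M` is Artinian with finite dimensional pieces.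
-/

set_option autoImplicit false
set_option linter.style.haveILetI false
set_option linter.unusedSectionVars false
universe u
open DirectSum

noncomputable section

namespace Groth.Agent.Lib.Helper8.GDualBridge

variable {R : Type u} [CommRing R] (𝒜 : ℤ → AddSubgroup R) [GradedRing 𝒜]

/-- The pieces of `R` as subspaces over the degree-zero subring. -/
def subK (n : ℤ) : Submodule ↥(GrLC.deg0 𝒜) R where
  carrier := (𝒜 n : Set R)
  add_mem' ha hb := add_mem ha hb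
  zero_mem' := zero_mem _
  smul_mem' c x hx := by
    have h := SetLike.GradedMul.mul_mem (A := 𝒜) (show (c : R) ∈ 𝒜 0 from c.2) hx
    rw [zero_add] at h
    exact h

theorem mem_subK {n : ℤ} {x : R} : x ∈ subK 𝒜 n ↔ x ∈ 𝒜 n := Iff.rfl

/-- piece maps -/
def toK (n : ℤ) : ↥(𝒜 n) →+ ↥(subK 𝒜 n) where
  toFun x := ⟨x.1, x.2⟩
  map_zero' := rfl
  map_add' _ _ := rfl

theorem coe_map_toK (y : ⨁ i, 𝒜 i) :
    DirectSum.coeAddMonoidHom (subK 𝒜) (DirectSum.map (toK 𝒜) y) =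
      DirectSum.coeAddMonoidHom 𝒜 y := by
  classical
  induction y using DirectSum.induction_on with
  | zero => simp
  | of g x =>
    rw [DirectSum.map_of, DirectSum.coeAddMonoidHom_of, DirectSum.coeAddMonoidHom_of]
    rfl
  | add x y hx hy => rw [map_add, map_add, map_add, hx, hy]

/-- The decomposition of `R` by the subspaces. -/
@[instance_reducible]
def decK : DirectSum.Decomposition (subK 𝒜) where
  decompose' x := DirectSum.map (toK 𝒜) (DirectSum.decompose 𝒜 x)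
  left_inv x := by
    show DirectSum.coeAddMonoidHom (subK 𝒜) (DirectSum.map (toK 𝒜) (DirectSum.decompose 𝒜 x)) = x
    rw [coe_map_toK]
    exact DirectSum.Decomposition.left_inv x
  right_inv := by
    classical
    intro y
    induction y using DirectSum.induction_on with
    | zero =>
      show DirectSum.map (toK 𝒜) (DirectSum.decompose 𝒜
        (DirectSum.coeAddMonoidHom (subK 𝒜) 0)) = 0
      rw [map_zero, DirectSum.decompose_zero, map_zero]
    | of g x =>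
      show DirectSum.map (toK 𝒜) (DirectSum.decompose 𝒜
        (DirectSum.coeAddMonoidHom (subK 𝒜) (DirectSum.of (fun i => ↥(subK 𝒜 i)) g x))) = _
      rw [DirectSum.coeAddMonoidHom_of,
        DirectSum.decompose_of_mem 𝒜 (show (x : R) ∈ 𝒜 g from x.2), DirectSum.map_of]
      rfl
    | add x y hx hy =>
      show DirectSum.map (toK 𝒜) (DirectSum.decompose 𝒜
        (DirectSum.coeAddMonoidHom (subK 𝒜) (x + y))) = x + y
      rw [map_add, DirectSum.decompose_add, map_add]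
      exact congrArg₂ (· + ·) hx hy

/-- `R` as a graded algebra over its degree-zero part. -/
@[instance_reducible]
def gradedAlgK : GradedAlgebra (subK 𝒜) :=
  { toDecomposition := decK 𝒜
    one_mem := SetLike.GradedOne.one_mem (A := 𝒜)
    mul_mem := fun _ _ _ _ ha hb => SetLike.GradedMul.mul_mem (A := 𝒜) ha hb }

section Main

variable (h0 : IsField (GrLC.deg0 𝒜))
  {M : Type u} [AddCommGroup M] [Module R M] (ℳ : ℤ → AddSubgroup M)
  [DirectSum.Decomposition ℳ] [SetLike.GradedSMul 𝒜 ℳ]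
  {D : Type u} [AddCommGroup D] [Module R D] (𝒟 : ℤ → AddSubgroup D)
  [DirectSum.Decomposition 𝒟] [SetLike.GradedSMul 𝒜 𝒟]
  (P : D → M → ↥(GrLC.deg0 𝒜))
  (hPal : ∀ d d' x, P (d + d') x = P d x + P d' x)
  (hPar : ∀ d x x', P d (x + x') = P d x + P d x')
  (hPs : ∀ (r : R) d x, P (r • d) x = P d (r • x))
  (hPsl : ∀ (t : ↥(GrLC.deg0 𝒜)) d x, P ((t : R) • d) x = t * P d x)
  (hvan : ∀ (n : ℤ) (d : D), d ∈ 𝒟 n → ∀ j : ℤ, j ≠ -n → ∀ x : M, x ∈ ℳ j → P d x = 0)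
  (hz : ∀ (n : ℤ) (d : D), d ∈ 𝒟 n → (∀ x : M, x ∈ ℳ (-n) → P d x = 0) → d = 0)
  (hex : ∀ (n : ℤ) (g : M →ₗ[↥(GrLC.deg0 𝒜)] ↥(GrLC.deg0 𝒜)),
    ∃ d : D, d ∈ 𝒟 n ∧ ∀ x : M, x ∈ ℳ (-n) → P d x = g x)
  (hfin : ∀ j : ℤ, Module.Finite ↥(GrLC.deg0 𝒜) ↥(GrLC.comp 𝒜 ℳ j))
  [IsArtinian R M] (B : ℤ) (hB : ∀ i : ℤ, i < B → ∀ z ∈ 𝒟 i, z = 0)

include h0 hPal hPar hPs hPsl hvan hz hex hfin hB in
/-- A graded module with a perfect pairing against an Artinian graded module with finite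
dimensional pieces, bounded below, is Noetherian. -/
theorem isNoetherian_of_pairing : IsNoetherian R D := by
  letI : Field ↥(GrLC.deg0 𝒜) := h0.toField
  letI := gradedAlgK 𝒜
  have gsM : SetLike.GradedSMul (subK 𝒜) ℳ :=
    ⟨fun {i j a b} ha hb => SetLike.GradedSMul.smul_mem (A := 𝒜) (B := ℳ) ha hb⟩
  have gsD : SetLike.GradedSMul (subK 𝒜) 𝒟 :=
    ⟨fun {i j a b} ha hb => SetLike.GradedSMul.smul_mem (A := 𝒜) (B := 𝒟) ha hb⟩
  let β : D →ₗ[↥(GrLC.deg0 𝒜)] M →ₗ[↥(GrLC.deg0 𝒜)] ↥(GrLC.deg0 𝒜) :=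
    LinearMap.mk₂ ↥(GrLC.deg0 𝒜) P hPal (fun c d x => hPsl c d x) hPar
      (fun c d x => by
        show P d ((c : R) • x) = c * P d x
        rw [← hPs, hPsl])
  have hD : GrSeg.IsGDual R ℳ 𝒟 β := ⟨hPs, hvan, hz, hex⟩
  exact Groth.Agent.Lib.Helper24GrDual4.isNoetherian_of_isArtinian (𝒜 := subK 𝒜) hD
    (fun j => hfin j) (B := B) hB

omit [IsArtinian R M] in
include h0 hPal hPar hPs hPsl hvan hz hex hfin in
/-- Reflexivity: the pairing is also perfect on the other side. -/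
theorem flip_perfect :
    (∀ (n : ℤ) (y : M), y ∈ ℳ n → (∀ d : D, d ∈ 𝒟 (-n) → P d y = 0) → y = 0) ∧
    (∀ (n : ℤ) (g : D →ₗ[↥(GrLC.deg0 𝒜)] ↥(GrLC.deg0 𝒜)),
      ∃ y : M, y ∈ ℳ n ∧ ∀ d : D, d ∈ 𝒟 (-n) → P d y = g d) := by
  letI : Field ↥(GrLC.deg0 𝒜) := h0.toField
  letI := gradedAlgK 𝒜
  have gsM : SetLike.GradedSMul (subK 𝒜) ℳ :=
    ⟨fun {i j a b} ha hb => SetLike.GradedSMul.smul_mem (A := 𝒜) (B := ℳ) ha hb⟩
  have gsD : SetLike.GradedSMul (subK 𝒜) 𝒟 :=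
    ⟨fun {i j a b} ha hb => SetLike.GradedSMul.smul_mem (A := 𝒜) (B := 𝒟) ha hb⟩
  let β : D →ₗ[↥(GrLC.deg0 𝒜)] M →ₗ[↥(GrLC.deg0 𝒜)] ↥(GrLC.deg0 𝒜) :=
    LinearMap.mk₂ ↥(GrLC.deg0 𝒜) P hPal (fun c d x => hPsl c d x) hPar
      (fun c d x => by
        show P d ((c : R) • x) = c * P d x
        rw [← hPs, hPsl])
  have hD : GrSeg.IsGDual R ℳ 𝒟 β := ⟨hPs, hvan, hz, hex⟩
  have hfl := Groth.Agent.Lib.Helper24GrDual4.isGDual_flip (subK 𝒜) ℳ 𝒟 β hD (fun j => hfin j)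
  exact ⟨fun n y hy h => hfl.eq_zero n y hy h, fun n g => hfl.exists_eq n g⟩

end Main

end Groth.Agent.Lib.Helper8.GDualBridge
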