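import Groth.Agent.Lib.Helper8GrPairing
import Groth.Agent.Lib.Helper29GrBaer

/-!
# A perfect graded pairing `C × H → k` exhibits `H` as the graded Matlis dual of `C` (helper8)

For a positively graded Noetherian ring `R` over a field `k = R_0`, `m = R_+`, with *injective hull
`e : R/m → E'`: if `C` is a finitely generated graded module and `P : C × H → k` is a balanced
graded pairing, nondegenerate on the `H` side and representing every functional on each `C_{-d}` by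
an element of `H_d`, then `Hom_R(C, E') ≅ H` by a homogeneous isomorphism.
-/

set_option autoImplicit false
set_option linter.style.haveILetI false
set_option linter.unusedSectionVars false
universe u
open DirectSum

noncomputable section

namespace Groth.Agent.Lib.Helper8.PerfCanon

open Groth.Agent.Lib.Helper29GrBaer Groth.Agent.Lib.Helper8.GrPairing
  Groth.Agent.Lib.Helper29GrEss

variable {R : Type u} [CommRing R] [IsNoetherianRing R] (𝒜 : ℤ → AddSubgroup R) [GradedRing 𝒜]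
  (hpos : ∀ n : ℤ, n < 0 → 𝒜 n = ⊥) (h0 : IsField (GrLC.deg0 𝒜))
  (m : HomogeneousIdeal 𝒜) (hmne : m.toIdeal ≠ ⊤)
  (hmsp : m.toIdeal = Ideal.span (⋃ n ∈ Set.Ioi (0 : ℤ), (𝒜 n : Set R)))
  {E' : Type u} [AddCommGroup E'] [Module R E'] (𝓔 : ℤ → AddSubgroup E')
  [DirectSum.Decomposition 𝓔] [SetLike.GradedSMul 𝒜 𝓔]
  (e : (R ⧸ m.toIdeal) →ₗ[R] E') (he : GrLC.IsStarInjHull 𝒜 (GrLC.quotGr 𝒜 m) 𝓔 e)

/-- `eps (r • x)` only sees the component of `x` of degree `j` when `r ∈ R_{-j}`. -/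
theorem eps_smul_decompose {j : ℤ} {r : R} (hr : r ∈ 𝒜 (-j)) (x : E') :
    eps 𝒜 hpos h0 m hmne hmsp 𝓔 e he (r • x) =
      eps 𝒜 hpos h0 m hmne hmsp 𝓔 e he (r • ((decompose 𝓔 x) j : E')) := by
  have h1 : proj0 𝒜 𝓔 (r • x) = proj0 𝒜 𝓔 (r • ((decompose 𝓔 x) j : E')) := by
    apply Subtype.ext
    show ((decompose 𝓔 (r • x)) 0 : E') = ((decompose 𝓔 (r • ((decompose 𝓔 x) j : E'))) 0 : E')
    rw [decompose_smul_of_mem 𝒜 𝓔 hr x 0, decompose_smul_of_mem 𝒜 𝓔 hr _ 0]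
    have e1 : (0 : ℤ) - -j = j := by ring
    rw [e1, DirectSum.decompose_coe, DirectSum.of_eq_same]
  show (tauEquiv 𝒜 hpos h0 m hmne hmsp 𝓔 e he).symm (proj0 𝒜 𝓔 (r • x)) =
    (tauEquiv 𝒜 hpos h0 m hmne hmsp 𝓔 e he).symm (proj0 𝒜 𝓔 (r • ((decompose 𝓔 x) j : E')))
  rw [h1]

/-- An element of `E'` all of whose multiples have zero coefficient is zero. -/
theorem eq_zero_of_forall_eps_smul (x : E')
    (h : ∀ r : R, eps 𝒜 hpos h0 m hmne hmsp 𝓔 e he (r • x) = 0) : x = 0 := by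
  classical
  apply (DirectSum.decompose 𝓔).injective
  rw [DirectSum.decompose_zero]
  apply DFinsupp.ext
  intro j
  apply Subtype.ext
  show ((decompose 𝓔 x) j : E') = 0
  by_contra hne
  obtain ⟨r, t, hr, hrx, hrx0⟩ := exists_smul_tau 𝒜 hpos m hmsp 𝓔 e he
    (SetLike.coe_mem ((decompose 𝓔 x) j)) hne
  have h1 := h r
  rw [eps_smul_decompose 𝒜 hpos h0 m hmne hmsp 𝓔 e he hr x] at h1
  have h2 : r • ((decompose 𝓔 x) j : E') ∈ 𝓔 0 := hrx ▸ tau_mem 𝒜 m 𝓔 e he t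
  exact hrx0 (eq_zero_of_eps_eq_zero 𝒜 hpos h0 m hmne hmsp 𝓔 e he h2 h1)

variable {C : Type u} [AddCommGroup C] [Module R C] [Module.Finite R C] (𝒞 : ℤ → AddSubgroup C)
  [DirectSum.Decomposition 𝒞] [SetLike.GradedSMul 𝒜 𝒞]

omit [Module.Finite R C] [DirectSum.Decomposition 𝒞] [SetLike.GradedSMul 𝒜 𝒞] in
/-- A linear map into `E'` with vanishing coefficient functional is zero. -/
theorem eq_zero_of_forall_eps (F : C →ₗ[R] E')
    (h : ∀ c : C, eps 𝒜 hpos h0 m hmne hmsp 𝓔 e he (F c) = 0) : F = 0 := by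
  apply LinearMap.ext
  intro c
  rw [LinearMap.zero_apply]
  apply eq_zero_of_forall_eps_smul 𝒜 hpos h0 m hmne hmsp 𝓔 e he
  intro r
  rw [← map_smul]
  exact h _

variable {H : Type u} [AddCommGroup H] [Module R H] (ℋ : ℤ → AddSubgroup H)
  [DirectSum.Decomposition ℋ]
  (P : C → H → ↥(GrLC.deg0 𝒜))
  (hPal : ∀ c c' h, P (c + c') h = P c h + P c' h)
  (hPar : ∀ c h h', P c (h + h') = P c h + P c h')
  (hPs : ∀ (r : R) c h, P (r • c) h = P c (r • h))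
  (hPsl : ∀ (t : ↥(GrLC.deg0 𝒜)) c h, P ((t : R) • c) h = t * P c h)
  (hPgr : ∀ {i d : ℤ}, i + d ≠ 0 → ∀ {c : C}, c ∈ 𝒞 i → ∀ {h : H}, h ∈ ℋ d → P c h = 0)
  (hndr : ∀ (d : ℤ) (y : H), y ∈ ℋ d → (∀ c ∈ 𝒞 (-d), P c y = 0) → y = 0)
  (hrepr : ∀ (d : ℤ) (lam : ↥(GrLC.comp 𝒜 𝒞 (-d)) →ₗ[↥(GrLC.deg0 𝒜)] ↥(GrLC.deg0 𝒜)),
    ∃ y ∈ ℋ d, ∀ (c : C) (hc : c ∈ 𝒞 (-d)), P c y = lam ⟨c, hc⟩)

include hPal in
theorem P_zero_left (h : H) : P 0 h = 0 := by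
  have := hPal 0 0 h
  rw [add_zero] at this
  exact left_eq_add.mp this

include hPar in
theorem P_zero_right (c : C) : P c 0 = 0 := by
  have := hPar c 0 0
  rw [add_zero] at this
  exact left_eq_add.mp this

include hPal hPgr in
/-- Two additive functions of `c` that agree on `C_{-d}` and vanish on other pieces agree. -/
theorem eps_eq_P_of_deg (F : C →ₗ[R] E') (d : ℤ) (hF : GrLC.IsGrHomDeg 𝒞 𝓔 F d) (y : H)
    (hy : y ∈ ℋ d)
    (h : ∀ c ∈ 𝒞 (-d), eps 𝒜 hpos h0 m hmne hmsp 𝓔 e he (F c) = P c y) (c : C) :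
    eps 𝒜 hpos h0 m hmne hmsp 𝓔 e he (F c) = P c y := by
  induction c using DirectSum.Decomposition.inductionOn 𝒞 with
  | zero => rw [map_zero, map_zero, P_zero_left 𝒜 P hPal]
  | @homogeneous i c =>
    by_cases hi : i = -d
    · subst hi
      exact h c c.2
    · have hid : i + d ≠ 0 := fun h' => hi (by omega)
      rw [eps_of_mem_ne 𝒜 hpos h0 m hmne hmsp 𝓔 e he hid (hF i c c.2), hPgr hid c.2 hy]
  | add a b ha hb => rw [map_add, map_add, ha, hb, hPal]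

include hPal hPsl hPgr in
/-- Existence of the map attached to a homogeneous element of `H`. -/
theorem exists_hom_of_mem (d : ℤ) (y : H) (hy : y ∈ ℋ d) :
    ∃ F : C →ₗ[R] E', GrLC.IsGrHomDeg 𝒞 𝓔 F d ∧
      ∀ c : C, eps 𝒜 hpos h0 m hmne hmsp 𝓔 e he (F c) = P c y := by
  let lam : ↥(GrLC.comp 𝒜 𝒞 (-d)) →ₗ[↥(GrLC.deg0 𝒜)] ↥(GrLC.deg0 𝒜) :=
    { toFun := fun c => P (c : C) y
      map_add' := fun c c' => hPal c c' y
      map_smul' := fun t c => hPsl t c y }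
  obtain ⟨F, hF, hFl⟩ := exists_hom_of_functional 𝒜 hpos h0 m hmne hmsp 𝓔 e he 𝒞 (-d) lam
  rw [neg_neg] at hF
  refine ⟨F, hF, ?_⟩
  exact eps_eq_P_of_deg 𝒜 hpos h0 m hmne hmsp 𝓔 e he 𝒞 ℋ P hPal hPgr F d hF y hy
    (fun c hc => hFl c hc)

include hPal hPar hPsl hPgr in
theorem exists_hom (y : H) :
    ∃ F : C →ₗ[R] E', ∀ c : C, eps 𝒜 hpos h0 m hmne hmsp 𝓔 e he (F c) = P c y := by
  induction y using DirectSum.Decomposition.inductionOn ℋ with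
  | zero =>
    refine ⟨0, fun c => ?_⟩
    rw [LinearMap.zero_apply, map_zero, P_zero_right 𝒜 P hPar]
  | @homogeneous d y =>
    obtain ⟨F, -, hF⟩ := exists_hom_of_mem 𝒜 hpos h0 m hmne hmsp 𝓔 e he 𝒞 ℋ P hPal hPsl hPgr
      d y y.2
    exact ⟨F, hF⟩
  | add a b ha hb =>
    obtain ⟨F, hF⟩ := ha
    obtain ⟨G, hG⟩ := hb
    refine ⟨F + G, fun c => ?_⟩
    rw [LinearMap.add_apply, map_add, hF, hG, hPar]

/-- The comparison map `H → Hom(C, E')`. -/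
def Psi : H →ₗ[R] (C →ₗ[R] E') where
  toFun y := Classical.choose
    (exists_hom 𝒜 hpos h0 m hmne hmsp 𝓔 e he 𝒞 ℋ P hPal hPar hPsl hPgr y)
  map_add' y y' := by
    rw [← sub_eq_zero]
    apply eq_zero_of_forall_eps 𝒜 hpos h0 m hmne hmsp 𝓔 e he
    intro c
    rw [LinearMap.sub_apply, LinearMap.add_apply, map_sub, map_add,
      Classical.choose_spec
        (exists_hom 𝒜 hpos h0 m hmne hmsp 𝓔 e he 𝒞 ℋ P hPal hPar hPsl hPgr (y + y')) c,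
      Classical.choose_spec
        (exists_hom 𝒜 hpos h0 m hmne hmsp 𝓔 e he 𝒞 ℋ P hPal hPar hPsl hPgr y) c,
      Classical.choose_spec
        (exists_hom 𝒜 hpos h0 m hmne hmsp 𝓔 e he 𝒞 ℋ P hPal hPar hPsl hPgr y') c,
      hPar, sub_self]
  map_smul' r y := by
    rw [← sub_eq_zero]
    apply eq_zero_of_forall_eps 𝒜 hpos h0 m hmne hmsp 𝓔 e he
    intro c
    rw [LinearMap.sub_apply, RingHom.id_apply, LinearMap.smul_apply, ← map_smul, map_sub,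
      Classical.choose_spec
        (exists_hom 𝒜 hpos h0 m hmne hmsp 𝓔 e he 𝒞 ℋ P hPal hPar hPsl hPgr (r • y)) c,
      Classical.choose_spec
        (exists_hom 𝒜 hpos h0 m hmne hmsp 𝓔 e he 𝒞 ℋ P hPal hPar hPsl hPgr y) (r • c),
      hPs, sub_self]

theorem eps_Psi (y : H) (c : C) :
    eps 𝒜 hpos h0 m hmne hmsp 𝓔 e he
      (Psi 𝒜 hpos h0 m hmne hmsp 𝓔 e he 𝒞 ℋ P hPal hPar hPs hPsl hPgr y c) = P c y :=
  Classical.choose_spec
    (exists_hom 𝒜 hpos h0 m hmne hmsp 𝓔 e he 𝒞 ℋ P hPal hPar hPsl hPgr y) c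

/-- `Psi y` is characterized by its coefficient functional. -/
theorem Psi_eq_of (y : H) (F : C →ₗ[R] E')
    (hF : ∀ c : C, eps 𝒜 hpos h0 m hmne hmsp 𝓔 e he (F c) = P c y) :
    Psi 𝒜 hpos h0 m hmne hmsp 𝓔 e he 𝒞 ℋ P hPal hPar hPs hPsl hPgr y = F := by
  rw [← sub_eq_zero]
  apply eq_zero_of_forall_eps 𝒜 hpos h0 m hmne hmsp 𝓔 e he
  intro c
  rw [LinearMap.sub_apply, map_sub, eps_Psi, hF, sub_self]

include hPar hPgr in
/-- Pairing against `c ∈ C_{-d}` only sees the component of degree `d`. -/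
theorem P_decompose (d : ℤ) {c : C} (hc : c ∈ 𝒞 (-d)) (y : H) :
    P c y = P c ((decompose ℋ y) d : H) := by
  induction y using DirectSum.Decomposition.inductionOn ℋ with
  | zero =>
    rw [DirectSum.decompose_zero]
    rfl
  | @homogeneous i y =>
    by_cases hid : i = d
    · subst hid
      rw [DirectSum.decompose_of_mem_same ℋ y.2]
    · rw [DirectSum.decompose_of_mem_ne ℋ y.2 hid, P_zero_right 𝒜 P hPar]
      exact hPgr (by omega) hc y.2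
  | add a b ha hb =>
    rw [DirectSum.decompose_add, DirectSum.add_apply, AddSubgroup.coe_add, hPar, hPar, ha, hb]

include hndr in
theorem Psi_injective :
    Function.Injective (Psi 𝒜 hpos h0 m hmne hmsp 𝓔 e he 𝒞 ℋ P hPal hPar hPs hPsl hPgr) := by
  rw [injective_iff_map_eq_zero]
  intro y hy
  have h1 : ∀ c : C, P c y = 0 := by
    intro c
    rw [← eps_Psi 𝒜 hpos h0 m hmne hmsp 𝓔 e he 𝒞 ℋ P hPal hPar hPs hPsl hPgr y c, hy,
      LinearMap.zero_apply, map_zero]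
  apply (DirectSum.decompose ℋ).injective
  rw [DirectSum.decompose_zero]
  apply DFinsupp.ext
  intro d
  apply Subtype.ext
  show ((decompose ℋ y) d : H) = 0
  apply hndr d _ (SetLike.coe_mem _)
  intro c hc
  rw [← P_decompose 𝒜 𝒞 ℋ P hPar hPgr d hc y]
  exact h1 c

include hrepr in
/-- Homogeneous maps are in the image of `Psi`, by a homogeneous element. -/
theorem exists_Psi_eq_of_deg (F : C →ₗ[R] E') (d : ℤ) (hF : GrLC.IsGrHomDeg 𝒞 𝓔 F d) :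
    ∃ y ∈ ℋ d, Psi 𝒜 hpos h0 m hmne hmsp 𝓔 e he 𝒞 ℋ P hPal hPar hPs hPsl hPgr y = F := by
  let lam : ↥(GrLC.comp 𝒜 𝒞 (-d)) →ₗ[↥(GrLC.deg0 𝒜)] ↥(GrLC.deg0 𝒜) :=
    { toFun := fun c => eps 𝒜 hpos h0 m hmne hmsp 𝓔 e he (F (c : C))
      map_add' := fun c c' => by
        show eps 𝒜 hpos h0 m hmne hmsp 𝓔 e he (F ((c : C) + (c' : C))) = _
        rw [map_add, map_add]
      map_smul' := fun t c => by
        show eps 𝒜 hpos h0 m hmne hmsp 𝓔 e he (F ((t : R) • (c : C))) = _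
        rw [map_smul]
        exact map_smul (eps 𝒜 hpos h0 m hmne hmsp 𝓔 e he) t _ }
  obtain ⟨y, hy, hyl⟩ := hrepr d lam
  refine ⟨y, hy, ?_⟩
  apply Psi_eq_of
  exact eps_eq_P_of_deg 𝒜 hpos h0 m hmne hmsp 𝓔 e he 𝒞 ℋ P hPal hPgr F d hF y hy
    (fun c hc => (hyl c hc).symm)

include hrepr in
theorem Psi_surjective :
    Function.Surjective (Psi 𝒜 hpos h0 m hmne hmsp 𝓔 e he 𝒞 ℋ P hPal hPar hPs hPsl hPgr) := by
  classical
  intro F
  obtain ⟨D, hD⟩ := exists_sum_part 𝒜 𝒞 𝓔 F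
  have hex : ∀ d : ℤ, ∃ y : H,
      Psi 𝒜 hpos h0 m hmne hmsp 𝓔 e he 𝒞 ℋ P hPal hPar hPs hPsl hPgr y = part 𝒜 𝒞 𝓔 F d := by
    intro d
    obtain ⟨y, -, hy⟩ := exists_Psi_eq_of_deg 𝒜 hpos h0 m hmne hmsp 𝓔 e he 𝒞 ℋ P hPal hPar hPs
      hPsl hPgr hrepr (part 𝒜 𝒞 𝓔 F d) d (part_isGrHomDeg 𝒜 𝒞 𝓔 F d)
    exact ⟨y, hy⟩
  choose y hy using hex
  refine ⟨∑ d ∈ D, y d, ?_⟩
  rw [map_sum, ← hD]
  exact Finset.sum_congr rfl (fun d _ => hy d)

include hpos h0 hmne hmsp he hPal hPar hPs hPsl hPgr hndr hrepr in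
/-- The main theorem: a perfect pairing gives the structure isomorphism of a *canonical module. -/
theorem exists_equiv :
    ∃ ψ : (C →ₗ[R] E') ≃ₗ[R] H,
      GrLC.IsGrHom (fun d => (GrLC.homDeg 𝒜 𝒞 𝓔 d).toAddSubgroup) ℋ ψ.toLinearMap := by
  let Ψ : H ≃ₗ[R] (C →ₗ[R] E') := LinearEquiv.ofBijective
    (Psi 𝒜 hpos h0 m hmne hmsp 𝓔 e he 𝒞 ℋ P hPal hPar hPs hPsl hPgr)
    ⟨Psi_injective 𝒜 hpos h0 m hmne hmsp 𝓔 e he 𝒞 ℋ P hPal hPar hPs hPsl hPgr hndr,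
      Psi_surjective 𝒜 hpos h0 m hmne hmsp 𝓔 e he 𝒞 ℋ P hPal hPar hPs hPsl hPgr hrepr⟩
  refine ⟨Ψ.symm, ?_⟩
  intro d F hF
  obtain ⟨y, hy, hyF⟩ := exists_Psi_eq_of_deg 𝒜 hpos h0 m hmne hmsp 𝓔 e he 𝒞 ℋ P hPal hPar hPs
    hPsl hPgr hrepr F d hF
  have h1 : Ψ.symm F = y := by
    rw [LinearEquiv.symm_apply_eq]
    exact hyF.symm
  show Ψ.symm F ∈ ℋ d
  rw [h1]
  exact hy

end Groth.Agent.Lib.Helper8.PerfCanon
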