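import Groth.Agent.Lib.Helper8StarHom
import Groth.Agent.Lib.Helper8GDualBridge
import Groth.Agent.Lib.Helper8PerfCanon
import Groth.Agent.Lib.Helper29GrHmod

/-!
# Existence of the *canonical module of a graded ring over a field (helper8)

For a positively graded Noetherian ring `R` over a field `k = R_0` with `m = R_+` and a *injective
hull `E'` of `R/m`: the graded module `*Hom(H^n_m(R), E')` is a *canonical module.
-/

set_option autoImplicit false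
set_option linter.style.haveILetI false
set_option linter.unusedSectionVars false
universe u
open DirectSum

noncomputable section

namespace Groth.Agent.Lib.Helper8.CanonExist

open Groth.Agent.Lib.Helper8.StarHom Groth.Agent.Lib.Helper8.GrPairing

variable {R : Type u} [CommRing R] [IsNoetherianRing R] (𝒜 : ℤ → AddSubgroup R) [GradedRing 𝒜]
  (hpos : ∀ n : ℤ, n < 0 → 𝒜 n = ⊥) (h0 : IsField (GrLC.deg0 𝒜))
  (m : HomogeneousIdeal 𝒜) (hm : GrLC.IsStarLocal 𝒜 m)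
  (hmsp : m.toIdeal = Ideal.span (⋃ n ∈ Set.Ioi (0 : ℤ), (𝒜 n : Set R)))
  {E' : Type u} [AddCommGroup E'] [Module R E'] (𝓔 : ℤ → AddSubgroup E')
  [DirectSum.Decomposition 𝓔] [SetLike.GradedSMul 𝒜 𝓔]
  (e : (R ⧸ m.toIdeal) →ₗ[R] E') (he : GrLC.IsStarInjHull 𝒜 (GrLC.quotGr 𝒜 m) 𝓔 e)
  (n : ℕ) (I : GrLC.StarInjRes 𝒜 𝒜)

include hpos h0 hm hmsp he in
/-- Existence of a *canonical module. -/
theorem exists_starCanonical :
    ∃ X : GrLC.GMod.{u} 𝒜, GrLC.IsStarCanonical 𝒜 X.gr 𝓔 m n I := by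
  classical
  have hmne : m.toIdeal ≠ ⊤ := Groth.Agent.Lib.Helper29GrStarLocal.toIdeal_ne_top 𝒜 m hm
  letI decH : DirectSum.Decomposition (I.Hgr m n) :=
    (Groth.Agent.S13225.result R 𝒜 m R 𝒜 I n).chooseDecomposition
  letI gsH : SetLike.GradedSMul 𝒜 (I.Hgr m n) :=
    Groth.Agent.Lib.Helper29.GrHmod.H_gradedSMul I m n
  letI decC : DirectSum.Decomposition (starGr 𝒜 (I.Hgr m n) 𝓔) :=
    starDecomposition 𝒜 (I.Hgr m n) 𝓔
  letI gsC : SetLike.GradedSMul 𝒜 (starGr 𝒜 (I.Hgr m n) 𝓔) := star_gradedSMul 𝒜 (I.Hgr m n) 𝓔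
  haveI hArt : IsArtinian R (I.H m n) :=
    Groth.Agent.Lib.Helper29.GrHmod.isArtinian_H 𝒜 hpos m hm 𝒜 I n
  -- the pairing
  obtain ⟨ε, hε⟩ : ∃ ε : E' →ₗ[↥(GrLC.deg0 𝒜)] ↥(GrLC.deg0 𝒜),
      ε = eps 𝒜 hpos h0 m hmne hmsp 𝓔 e he := ⟨_, rfl⟩
  obtain ⟨P, hP⟩ : ∃ P : ↥(starHom 𝒜 (I.Hgr m n) 𝓔) → I.H m n → ↥(GrLC.deg0 𝒜),
      ∀ c h, P c h = ε ((c : I.H m n →ₗ[R] E') h) := ⟨fun c h => ε ((c : I.H m n →ₗ[R] E') h),
        fun _ _ => rfl⟩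
  have hPal : ∀ c c' h, P (c + c') h = P c h + P c' h := by
    intro c c' h
    rw [hP, hP, hP, Submodule.coe_add, LinearMap.add_apply, map_add]
  have hPar : ∀ c h h', P c (h + h') = P c h + P c h' := by
    intro c h h'
    rw [hP, hP, hP, map_add, map_add]
  have hPs : ∀ (r : R) c h, P (r • c) h = P c (r • h) := by
    intro r c h
    rw [hP, hP, Submodule.coe_smul, LinearMap.smul_apply,
      (c : I.H m n →ₗ[R] E').map_smul]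
  have hPsl : ∀ (t : ↥(GrLC.deg0 𝒜)) c h, P ((t : R) • c) h = t * P c h := by
    intro t c h
    rw [hP, hP, Submodule.coe_smul, LinearMap.smul_apply]
    exact map_smul ε t _
  have hvan : ∀ (j : ℤ) (c : ↥(starHom 𝒜 (I.Hgr m n) 𝓔)), c ∈ starGr 𝒜 (I.Hgr m n) 𝓔 j →
      ∀ i : ℤ, i ≠ -j → ∀ x : I.H m n, x ∈ I.Hgr m n i → P c x = 0 := by
    intro j c hc i hi x hx
    rw [hP, hε]
    exact eps_of_mem_ne 𝒜 hpos h0 m hmne hmsp 𝓔 e he (by omega) (hc i x hx)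
  have hz : ∀ (j : ℤ) (c : ↥(starHom 𝒜 (I.Hgr m n) 𝓔)), c ∈ starGr 𝒜 (I.Hgr m n) 𝓔 j →
      (∀ x : I.H m n, x ∈ I.Hgr m n (-j) → P c x = 0) → c = 0 := by
    intro j c hc h
    apply Subtype.ext
    apply eq_zero_of_eps_comp 𝒜 hpos h0 m hmne hmsp 𝓔 e he (I.Hgr m n)
      (c : I.H m n →ₗ[R] E') j hc
    intro x hx
    have := h x hx
    rw [hP, hε] at this
    exact this
  have hex : ∀ (j : ℤ) (g : I.H m n →ₗ[↥(GrLC.deg0 𝒜)] ↥(GrLC.deg0 𝒜)),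
      ∃ c : ↥(starHom 𝒜 (I.Hgr m n) 𝓔), c ∈ starGr 𝒜 (I.Hgr m n) 𝓔 j ∧
        ∀ x : I.H m n, x ∈ I.Hgr m n (-j) → P c x = g x := by
    intro j g
    obtain ⟨f, hf, hfl⟩ := exists_hom_of_functional 𝒜 hpos h0 m hmne hmsp 𝓔 e he (I.Hgr m n) (-j)
      (g.comp (GrLC.comp 𝒜 (I.Hgr m n) (-j)).subtype)
    rw [neg_neg] at hf
    refine ⟨⟨f, mem_starHom_of_isGrHomDeg 𝒜 (I.Hgr m n) 𝓔 hf⟩, hf, ?_⟩
    intro x hx
    rw [hP, hε]
    exact hfl x hx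
  have hfin : ∀ j : ℤ, Module.Finite ↥(GrLC.deg0 𝒜) ↥(GrLC.comp 𝒜 (I.Hgr m n) j) := by
    intro j
    letI : Field ↥(GrLC.deg0 𝒜) := h0.toField
    have hA : IsArtinian ↥(GrLC.deg0 𝒜) ↥(I.Hcomp m n j) :=
      Groth.Agent.Lib.Helper29.GrHmod.isArtinian_Hcomp 𝒜 hpos m hm 𝒜 I n j
    have h := IsSemisimpleModule.finite_tfae (R := ↥(GrLC.deg0 𝒜))
      (M := ↥(GrLC.comp 𝒜 (I.Hgr m n) j))
    exact (h.out 0 2).mpr hA
  obtain ⟨N, hN⟩ := Groth.Agent.Lib.Helper29.GrHmod.exists_Hcomp_eq_bot 𝒜 hpos m hm 𝒜 I n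
  have hB : ∀ i : ℤ, i < -N + 1 → ∀ z ∈ starGr 𝒜 (I.Hgr m n) 𝓔 i, z = 0 := by
    intro i hi z hz'
    apply hz i z hz'
    intro x hx
    have h1 : I.Hcomp m n (-i) = ⊥ := hN (-i) (by omega)
    have h2 : x ∈ I.Hcomp m n (-i) := hx
    rw [h1, Submodule.mem_bot] at h2
    rw [h2, hP, map_zero, map_zero]
  have hNoeth : IsNoetherian R ↥(starHom 𝒜 (I.Hgr m n) 𝓔) :=
    Groth.Agent.Lib.Helper8.GDualBridge.isNoetherian_of_pairing 𝒜 h0 (I.Hgr m n)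
      (starGr 𝒜 (I.Hgr m n) 𝓔) P hPal hPar hPs hPsl hvan hz hex hfin (-N + 1) hB
  haveI hfinC : Module.Finite R ↥(starHom 𝒜 (I.Hgr m n) 𝓔) := inferInstance
  obtain ⟨hndr, hrepr⟩ := Groth.Agent.Lib.Helper8.GDualBridge.flip_perfect 𝒜 h0 (I.Hgr m n)
      (starGr 𝒜 (I.Hgr m n) 𝓔) P hPal hPar hPs hPsl hvan hz hex hfin
  refine ⟨GrLC.GMod.of 𝒜 ↥(starHom 𝒜 (I.Hgr m n) 𝓔) (starGr 𝒜 (I.Hgr m n) 𝓔), hfinC, ?_⟩
  refine Groth.Agent.Lib.Helper8.PerfCanon.exists_equiv 𝒜 hpos h0 m hmne hmsp 𝓔 e he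
    (starGr 𝒜 (I.Hgr m n) 𝓔) (I.Hgr m n) P hPal hPar hPs hPsl ?_ ?_ ?_
  · intro i d hid c hc h hh
    exact hvan i c hc d (by omega) h hh
  · intro d y hy h
    exact hndr d y hy h
  · intro d lam
    letI : Field ↥(GrLC.deg0 𝒜) := h0.toField
    obtain ⟨g, hg⟩ := LinearMap.exists_extend lam
    obtain ⟨y, hy, hyl⟩ := hrepr d g
    refine ⟨y, hy, fun c hc => ?_⟩
    rw [hyl c hc]
    exact LinearMap.congr_fun hg ⟨c, hc⟩

end Groth.Agent.Lib.Helper8.CanonExist
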