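import Groth.Agent.Lib.Helper29GrBaer
import Groth.Agent.Lib.Helper29GrTorsBound
import Groth.Agent.Lib.Helper29EndDeg
import Groth.Agent.Lib.Helper8GrField
import Groth.Agent.S13225

/-!
# The a-invariant from a homogeneous isomorphism `R(-a) ≅ K_R` (helper8)

For a positively graded ring `R` with `m = R_+`, a *injective hull `E'` of `R/m` lives in degrees
`≤ 0`; if `f : R → C` is a bijection homogeneous of degree `a` onto a *canonical module then
the top local cohomology `H^n_m(R)` ends in degree `-a`.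
-/

set_option autoImplicit false
set_option linter.style.haveILetI false
set_option linter.unusedSectionVars false
universe u
open DirectSum

namespace Groth.Agent.Lib.Helper8.GrCanonDeg

open Groth.Agent.Lib.Helper29GrBaer Groth.Agent.Lib.Helper29GrEss Groth.Agent.Lib.Helper29GrHom
  Groth.Agent.Lib.Helper29EndDeg Groth.Agent.Lib.Helper29GrShift

variable {R : Type u} [CommRing R] [IsNoetherianRing R] (𝒜 : ℤ → AddSubgroup R) [GradedRing 𝒜]
  (hpos : ∀ n : ℤ, n < 0 → 𝒜 n = ⊥) (m : HomogeneousIdeal 𝒜) (hmne : m.toIdeal ≠ ⊤)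
  (hmsp : m.toIdeal = Ideal.span (⋃ n ∈ Set.Ioi (0 : ℤ), (𝒜 n : Set R)))
  {E' : Type u} [AddCommGroup E'] [Module R E'] (𝓔 : ℤ → AddSubgroup E')
  [DirectSum.Decomposition 𝓔] [SetLike.GradedSMul 𝒜 𝓔]
  (e : (R ⧸ m.toIdeal) →ₗ[R] E') (he : GrLC.IsStarInjHull 𝒜 (GrLC.quotGr 𝒜 m) 𝓔 e)

include hpos hmsp he in
/-- the image of `R/m` lies in degree zero. -/
theorem e_mem_zero (c : R ⧸ m.toIdeal) : e c ∈ 𝓔 0 := by
  classical
  obtain ⟨c, rfl⟩ := Ideal.Quotient.mk_surjective c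
  have h1 : c - ((decompose 𝒜 c) 0 : R) ∈ m.toIdeal := by
    apply Groth.Agent.Lib.Helper8.GrField.mem_of_component_zero 𝒜 hpos m hmsp
    rw [DirectSum.decompose_sub, DirectSum.sub_apply, AddSubgroup.coe_sub,
      DirectSum.decompose_coe, DirectSum.of_eq_same, sub_self]
  have h2 : Ideal.Quotient.mk m.toIdeal c =
      Ideal.Quotient.mk m.toIdeal ((decompose 𝒜 c) 0 : R) :=
    Ideal.Quotient.eq.mpr h1
  rw [h2]
  exact he.grHom 0 _ ⟨((decompose 𝒜 c) 0 : R), SetLike.coe_mem _, rfl⟩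

include hpos hmsp he in
/-- the *injective hull of `R/m` vanishes in positive degrees. -/
theorem E_pos (j : ℤ) (hj : 0 < j) : 𝓔 j = ⊥ := by
  classical
  rw [eq_bot_iff]
  intro x hx
  rw [AddSubgroup.mem_bot]
  by_contra hx0
  have hhom : (Submodule.span R {x}).IsHomogeneous 𝓔 := span_singleton_isHomogeneous 𝒜 𝓔 hx
  have hne : Submodule.span R {x} ≠ ⊥ := by
    intro h
    exact hx0 ((Submodule.span_singleton_eq_bot).mp h)
  have hess := he.essential _ hhom hne
  obtain ⟨y, hy, hy0⟩ := (Submodule.ne_bot_iff _).mp hess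
  obtain ⟨hy1, c, rfl⟩ := hy
  obtain ⟨r, hr⟩ := Submodule.mem_span_singleton.mp hy1
  have h0 : e c ∈ 𝓔 0 := e_mem_zero 𝒜 hpos m hmsp 𝓔 e he c
  have h1 : ((decompose 𝓔 (e c)) 0 : E') = e c := DirectSum.decompose_of_mem_same 𝓔 h0
  rw [← hr, decompose_smul_of_mem_right 𝒜 𝓔 hx r 0] at h1
  have h4 : ∀ y : R, y ∈ 𝒜 (0 - j) → y = 0 := fun y hy => by
    rw [hpos (0 - j) (by omega)] at hy
    exact (AddSubgroup.mem_bot).mp hy
  have h2 : ((decompose 𝒜 r) (0 - j) : R) = 0 := h4 _ (SetLike.coe_mem _)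
  rw [h2, zero_smul] at h1
  exact hy0 (hr ▸ h1.symm)

include hmne he in
theorem E_zero_ne : 𝓔 0 ≠ ⊥ := by
  intro hbot
  have h1 : e (Ideal.Quotient.mk m.toIdeal 1) ∈ 𝓔 0 :=
    he.grHom 0 _ ⟨1, (SetLike.GradedOne.one_mem : (1 : R) ∈ 𝒜 0), rfl⟩
  rw [hbot, AddSubgroup.mem_bot] at h1
  have h2 : Ideal.Quotient.mk m.toIdeal (1 : R) = 0 := he.injective (h1.trans (map_zero _).symm)
  rw [Ideal.Quotient.eq_zero_iff_mem] at h2
  exact hmne ((Ideal.eq_top_iff_one _).mpr h2)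

section Canon

variable {C : Type u} [AddCommGroup C] [Module R C] (𝒞 : ℤ → AddSubgroup C)
  [DirectSum.Decomposition 𝒞] [SetLike.GradedSMul 𝒜 𝒞] (n : ℕ) (I : GrLC.StarInjRes 𝒜 𝒜)
  (hC : GrLC.IsStarCanonical 𝒜 𝒞 𝓔 m n I) (f : R →ₗ[R] C) (hbij : Function.Bijective f) (a : ℤ)
  (hdeg : GrLC.IsGrHomDeg 𝒜 𝒞 f a)

include hC hbij hdeg in
theorem Hgr_ne_bot_iff (d : ℤ) : I.Hgr m n d ≠ ⊥ ↔ 𝓔 (a + d) ≠ ⊥ := by
  classical
  obtain ⟨hfin, φ, hφ⟩ := hC
  have hgen : ∀ (ψ : C →ₗ[R] E') (c : C), ψ c = (LinearEquiv.ofBijective f hbij).symm c • ψ (f 1) := by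
    intro ψ c
    rw [← map_smul, ← map_smul, smul_eq_mul, mul_one]
    exact congrArg ψ ((LinearEquiv.ofBijective f hbij).apply_symm_apply c).symm
  constructor
  · intro hne
    obtain ⟨x, hx, hx0⟩ : ∃ x ∈ I.Hgr m n d, x ≠ 0 := by
      by_contra hcon
      push Not at hcon
      exact hne ((AddSubgroup.eq_bot_iff_forall _).mpr hcon)
    obtain ⟨D, hD⟩ := exists_sum_part 𝒜 𝒞 𝓔 (φ.symm x)
    have hint := Groth.Agent.S13225.result R 𝒜 m R 𝒜 I n
    letI := hint.chooseDecomposition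
    have hz : ∀ e' : ℤ, φ (part 𝒜 𝒞 𝓔 (φ.symm x) e') ∈ I.Hgr m n e' := fun e' =>
      hφ e' _ (part_isGrHomDeg 𝒜 𝒞 𝓔 (φ.symm x) e')
    have hx1 : x = ∑ e' ∈ D, φ (part 𝒜 𝒞 𝓔 (φ.symm x) e') := by
      rw [← map_sum, hD, LinearEquiv.apply_symm_apply]
    have h1 : ((decompose (I.Hgr m n) x) d : I.H m n) = x := DirectSum.decompose_of_mem_same _ hx
    have h2 : ((decompose (I.Hgr m n) x) d : I.H m n) =
        ∑ e' ∈ D, if e' = d then φ (part 𝒜 𝒞 𝓔 (φ.symm x) e') else 0 := by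
      conv_lhs => rw [hx1]
      rw [DirectSum.decompose_sum, DFinsupp.finsetSum_apply, AddSubmonoidClass.coe_finsetSum]
      apply Finset.sum_congr rfl
      intro e' _
      by_cases h : e' = d
      · subst h
        rw [if_pos rfl, DirectSum.decompose_of_mem_same _ (hz e')]
      · rw [if_neg h, DirectSum.decompose_of_mem_ne _ (hz e') h]
    rw [h1, Finset.sum_ite_eq' D d] at h2
    by_cases hd : d ∈ D
    · rw [if_pos hd] at h2
      have h3 : φ.symm x = part 𝒜 𝒞 𝓔 (φ.symm x) d := by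
        apply φ.injective
        rw [LinearEquiv.apply_symm_apply]
        exact h2
      have hy : φ.symm x (f 1) ∈ 𝓔 (0 + a + d) := by
        rw [h3]
        exact part_isGrHomDeg 𝒜 𝒞 𝓔 (φ.symm x) d (0 + a) (f 1)
          (hdeg 0 1 SetLike.GradedOne.one_mem)
      have hy0 : φ.symm x (f 1) ≠ 0 := by
        intro h0
        apply hx0
        have : φ.symm x = 0 := by
          apply LinearMap.ext
          intro c
          rw [hgen (φ.symm x) c, h0, smul_zero, LinearMap.zero_apply]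
        rw [← φ.apply_symm_apply x, this, map_zero]
      rw [zero_add] at hy
      intro hbot
      rw [hbot, AddSubgroup.mem_bot] at hy
      exact hy0 hy
    · rw [if_neg hd] at h2
      exact absurd h2 hx0
  · intro hne
    obtain ⟨y, hy, hy0⟩ : ∃ y ∈ 𝓔 (a + d), y ≠ 0 := by
      by_contra hcon
      push Not at hcon
      exact hne ((AddSubgroup.eq_bot_iff_forall _).mpr hcon)
    let ψ : C →ₗ[R] E' :=
      (LinearMap.toSpanSingleton R E' y) ∘ₗ (LinearEquiv.ofBijective f hbij).symm.toLinearMap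
    have hψ1 : ψ (f 1) = y := by
      show (LinearEquiv.ofBijective f hbij).symm (f 1) • y = y
      have : (LinearEquiv.ofBijective f hbij).symm (f 1) = 1 :=
        (LinearEquiv.ofBijective f hbij).symm_apply_apply 1
      rw [this, one_smul]
    have hψ : GrLC.IsGrHomDeg 𝒞 𝓔 ψ d := by
      intro g c hc
      letI := shiftDecomposition 𝒞 a
      have hr : (LinearEquiv.ofBijective f hbij).symm c ∈ 𝒜 (g - a) := by
        refine Groth.Agent.Lib.Helper29GrTorsBound.mem_of_map_mem 𝒜 (shiftGr 𝒞 a) f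
          (fun g' x hx => hdeg g' x hx) hbij.1 ?_
        show f ((LinearEquiv.ofBijective f hbij).symm c) ∈ 𝒞 (g - a + a)
        rw [sub_add_cancel]
        have : f ((LinearEquiv.ofBijective f hbij).symm c) = c :=
          (LinearEquiv.ofBijective f hbij).apply_symm_apply c
        rw [this]
        exact hc
      have h1 : (LinearEquiv.ofBijective f hbij).symm c • y ∈ 𝓔 ((g - a) + (a + d)) :=
        SetLike.GradedSMul.smul_mem (A := 𝒜) (B := 𝓔) hr hy
      have h2 : (g - a) + (a + d) = g + d := by ring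
      rw [h2] at h1
      exact h1
    have hmem : φ ψ ∈ I.Hgr m n d := hφ d ψ hψ
    intro hbot
    rw [hbot, AddSubgroup.mem_bot] at hmem
    have h0 : ψ = 0 := φ.injective (hmem.trans (map_zero _).symm)
    rw [h0, LinearMap.zero_apply] at hψ1
    exact hy0 hψ1.symm

include hpos hmne hmsp he hC hbij hdeg in
/-- The top local cohomology ends in degree `-a`. -/
theorem endDeg_eq :
    GrLC.endDeg (I.Hgr m n) = (((-a : ℤ) : WithTop ℤ) : WithBot (WithTop ℤ)) := by
  apply le_antisymm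
  · rw [endDeg_le_iff]
    intro d hd
    rw [Hgr_ne_bot_iff 𝒜 m 𝓔 𝒞 n I hC f hbij a hdeg d] at hd
    rw [coe_le_coe_iff]
    by_contra hcon
    exact hd (E_pos 𝒜 hpos m hmsp 𝓔 e he (a + d) (by omega))
  · apply le_endDeg
    rw [Hgr_ne_bot_iff 𝒜 m 𝓔 𝒞 n I hC f hbij a hdeg (-a), add_neg_cancel]
    exact E_zero_ne 𝒜 m hmne 𝓔 e he

end Canon

end Groth.Agent.Lib.Helper8.GrCanonDeg
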