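import Groth.Agent.Lib.Helper8GrCanonLoc
import Groth.Agent.Lib.Helper8GrCanonDeg
import Groth.Agent.Lib.Helper8CanonCM
import Groth.Agent.Lib.Helper5CM
import Groth.Agent.Lib.Helper29GrPieceFin
import Groth.Agent.Lib.Helper25StdPoly

/-!
# Hilbert function of the *canonical module in low degrees (helper8)

For a standard graded Cohen–Macaulay ring `R` of dimension `≥ 2` over a field, no nonzero
homogeneous element `x` of the *canonical module has `R / ann x` generated by one linear form;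
consequently `dim (K_R)_j ≥ 2` for `j > -a(R)`.
-/

set_option autoImplicit false
set_option linter.style.haveILetI false
set_option linter.unusedSectionVars false
universe u
open DirectSum

namespace Groth.Agent.Lib.Helper8.CanonHilb

section Dim

variable {R : Type u} [CommRing R]

/-- `dim (R_p / P) ≤ dim (R / P ∩ R)`. -/
theorem ringKrullDim_quot_localization_le (p : Ideal R) [p.IsPrime]
    (P : Ideal (Localization.AtPrime p)) :
    ringKrullDim (Localization.AtPrime p ⧸ P) ≤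
      ringKrullDim (R ⧸ P.comap (algebraMap R (Localization.AtPrime p))) := by
  let g : (R ⧸ P.comap (algebraMap R (Localization.AtPrime p))) →+*
      (Localization.AtPrime p ⧸ P) :=
    Ideal.quotientMap P (algebraMap R (Localization.AtPrime p)) le_rfl
  have hg : g.comp (Ideal.Quotient.mk _) =
      (Ideal.Quotient.mk P).comp (algebraMap R (Localization.AtPrime p)) :=
    Ideal.quotientMap_comp_mk le_rfl
  unfold ringKrullDim
  apply Order.krullDim_le_of_strictMono (fun Q => PrimeSpectrum.comap g Q)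
  apply Monotone.strictMono_of_injective
  · intro Q₁ Q₂ h
    exact Ideal.comap_mono h
  · intro Q₁ Q₂ h
    have h1 : Q₁.asIdeal.comap g = Q₂.asIdeal.comap g := congrArg PrimeSpectrum.asIdeal h
    have h2 : (Q₁.asIdeal.comap (Ideal.Quotient.mk P)).comap
        (algebraMap R (Localization.AtPrime p)) =
        (Q₂.asIdeal.comap (Ideal.Quotient.mk P)).comap
        (algebraMap R (Localization.AtPrime p)) := by
      rw [Ideal.comap_comap, Ideal.comap_comap, ← hg, ← Ideal.comap_comap, ← Ideal.comap_comap,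
        h1]
    have h3 : Q₁.asIdeal.comap (Ideal.Quotient.mk P) = Q₂.asIdeal.comap (Ideal.Quotient.mk P) := by
      rw [← IsLocalization.map_under p.primeCompl (Localization.AtPrime p)
          (Q₁.asIdeal.comap (Ideal.Quotient.mk P)),
        ← IsLocalization.map_under p.primeCompl (Localization.AtPrime p)
          (Q₂.asIdeal.comap (Ideal.Quotient.mk P))]
      exact congrArg (Ideal.map (algebraMap R (Localization.AtPrime p))) h2
    apply PrimeSpectrum.ext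
    exact Ideal.comap_injective_of_surjective (Ideal.Quotient.mk P)
      Ideal.Quotient.mk_surjective h3

end Dim

section Line

variable {R : Type u} [CommRing R] (𝒜 : ℤ → AddSubgroup R) [GradedRing 𝒜]
  (hpos : ∀ n : ℤ, n < 0 → 𝒜 n = ⊥) (h0 : IsField (GrLC.deg0 𝒜))
  (hstd : Ideal.span (⋃ n ∈ Set.Ioi (0 : ℤ), (𝒜 n : Set R)) =
    Ideal.span ((𝒜 1 : AddSubgroup R) : Set R))

include hpos h0 hstd in
/-- A quotient of a standard graded ring in which all linear forms are multiples of one of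
them has dimension at most one. -/
theorem ringKrullDim_quot_le_one (Q : Ideal R) (y₀ : R)
    (hline : ∀ y ∈ 𝒜 1, ∃ c ∈ 𝒜 0, y - c * y₀ ∈ Q) :
    ringKrullDim (R ⧸ Q) ≤ 1 := by
  classical
  let π : R →ₐ[GrLC.deg0 𝒜] (R ⧸ Q) := Ideal.Quotient.mkₐ (GrLC.deg0 𝒜) Q
  let ev : Polynomial (GrLC.deg0 𝒜) →ₐ[GrLC.deg0 𝒜] (R ⧸ Q) := Polynomial.aeval (π y₀)
  have hsurj : Function.Surjective ev := by
    have htop : (⊤ : Subalgebra (GrLC.deg0 𝒜) (R ⧸ Q)) ≤ ev.range := by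
      have h1 : (⊤ : Subalgebra (GrLC.deg0 𝒜) (R ⧸ Q)) = (⊤ : Subalgebra (GrLC.deg0 𝒜) R).map π := by
        rw [Algebra.map_top]
        exact (AlgHom.range_eq_top π).mpr (Ideal.Quotient.mkₐ_surjective _ Q) |>.symm
      rw [h1, ← Groth.Agent.Lib.Helper25.StdPoly.adjoin_eq_top 𝒜 hpos hstd, AlgHom.map_adjoin]
      apply Algebra.adjoin_le
      rintro _ ⟨y, hy, rfl⟩
      obtain ⟨c, hc, hcy⟩ := hline y hy
      have h2 : π y = (⟨c, hc⟩ : GrLC.deg0 𝒜) • π y₀ := by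
        have h3 : π (y - c * y₀) = 0 := Ideal.Quotient.eq_zero_iff_mem.mpr hcy
        rw [map_sub, sub_eq_zero] at h3
        rw [h3, map_mul]
        rfl
      rw [h2]
      refine Subalgebra.smul_mem _ ?_ _
      exact ⟨Polynomial.X, Polynomial.aeval_X _⟩
    intro z
    exact htop Algebra.mem_top
  have h1 := ringKrullDim_le_of_surjective (ev : Polynomial (GrLC.deg0 𝒜) →+* (R ⧸ Q)) hsurj
  have h2 : ringKrullDim (Polynomial (GrLC.deg0 𝒜)) ≤ 2 * ringKrullDim (GrLC.deg0 𝒜) + 1 :=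
    Polynomial.ringKrullDim_le
  rw [ringKrullDim_eq_zero_of_isField h0, mul_zero, zero_add] at h2
  exact h1.trans h2

end Line

section Canon

open Groth.Agent.Lib.Helper29GrBaer Groth.Agent.Lib.Helper29GrEss Groth.Agent.Lib.Helper29GrHom
  Groth.Agent.Lib.Helper29EndDeg

variable {R : Type u} [CommRing R] [hR : LocCoh.IsCohenMacaulayRing R]
  (𝒜 : ℤ → AddSubgroup R) [GradedRing 𝒜]
  (hpos : ∀ n : ℤ, n < 0 → 𝒜 n = ⊥) (h0 : IsField (GrLC.deg0 𝒜))
  (m : HomogeneousIdeal 𝒜) (hm : GrLC.IsStarLocal 𝒜 m)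
  (hmsp : m.toIdeal = Ideal.span (⋃ n ∈ Set.Ioi (0 : ℤ), (𝒜 n : Set R)))
  (hstd : Ideal.span (⋃ n ∈ Set.Ioi (0 : ℤ), (𝒜 n : Set R)) =
    Ideal.span ((𝒜 1 : AddSubgroup R) : Set R))
  (n : ℕ) (hn : ringKrullDim R = n) (h2 : 2 ≤ n) (I : GrLC.StarInjRes 𝒜 𝒜)
  {E' : Type u} [AddCommGroup E'] [Module R E'] (𝓔 : ℤ → AddSubgroup E')
  [DirectSum.Decomposition 𝓔] [SetLike.GradedSMul 𝒜 𝓔]
  (e : (R ⧸ m.toIdeal) →ₗ[R] E') (he : GrLC.IsStarInjHull 𝒜 (GrLC.quotGr 𝒜 m) 𝓔 e)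
  {C : Type u} [AddCommGroup C] [Module R C] (𝒞 : ℤ → AddSubgroup C)
  [DirectSum.Decomposition 𝒞] [SetLike.GradedSMul 𝒜 𝒞]
  (hC : GrLC.IsStarCanonical 𝒜 𝒞 𝓔 m n I)

include hpos h0 hm hmsp hstd hn h2 he hC in
/-- No nonzero element `x` of the *canonical module has all linear forms acting on it as
multiples of a single one. -/
theorem no_line (x : C) (hx0 : x ≠ 0) (y₀ : R)
    (hline : ∀ y ∈ 𝒜 1, ∃ c ∈ 𝒜 0, (y - c * y₀) • x = 0) : False := by
  classical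
  haveI hp : m.toIdeal.IsPrime := Groth.Agent.Lib.Helper29GrStarLocal.isPrime 𝒜 m hm
  obtain ⟨hdim, hfin, E₀, i1, i2, f, hf, ⟨eK⟩⟩ :=
    Groth.Agent.Lib.Helper8.GrCanonLoc.exists_local_data R 𝒜 hpos h0 m hm hmsp n hn I E' 𝓔 e he
      C 𝒞 hC
  haveI := hfin
  haveI : LocCoh.IsCohenMacaulayLocalRing (Localization.AtPrime m.toIdeal) :=
    LocCoh.IsCohenMacaulayRing.isCohenMacaulayLocalRing_localization m.toIdeal
  have hdepth := Groth.Agent.Lib.Helper8.CanonCM.depth_K n hdim E₀ f hf _ eK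
  have hξ0 : LocalizedModule.mkLinearMap m.toIdeal.primeCompl C x ≠ 0 := by
    intro h
    obtain ⟨s, hs⟩ := (IsLocalizedModule.eq_zero_iff m.toIdeal.primeCompl
      (LocalizedModule.mkLinearMap m.toIdeal.primeCompl C)).mp h
    exact hx0 (Groth.Agent.Lib.Helper29GrStarLocal.eq_zero_of_smul_eq_zero 𝒜 m hm 𝒞 s.1 s.2 x hs)
  obtain ⟨P, hP, hle⟩ := exists_le_isAssociatedPrime_of_isNoetherianRing
    (Localization.AtPrime m.toIdeal) (LocalizedModule.mkLinearMap m.toIdeal.primeCompl C x) hξ0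
  have h1 := Groth.Agent.Lib.Helper5.depth_le_ringKrullDim_quotient
    (A := Localization.AtPrime m.toIdeal)
    (M := LocalizedModule m.toIdeal.primeCompl C) (p := P) hP
  have h3 := ringKrullDim_quot_localization_le m.toIdeal P
  have h4 : ringKrullDim (R ⧸ P.comap (algebraMap R (Localization.AtPrime m.toIdeal))) ≤ 1 := by
    apply ringKrullDim_quot_le_one 𝒜 hpos h0 hstd _ y₀
    intro y hy
    obtain ⟨c, hc, hcy⟩ := hline y hy
    refine ⟨c, hc, ?_⟩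
    rw [Ideal.mem_comap]
    apply hle
    rw [Submodule.mem_colon_singleton, Submodule.mem_bot, algebraMap_smul, ← map_smul, hcy,
      map_zero]
  rw [hdepth] at h1
  have h5 : ((n : ℕ∞) : WithBot ℕ∞) ≤ 1 := h1.trans (h3.trans h4)
  have h6 : (n : ℕ∞) ≤ 1 := by exact_mod_cast h5
  have h7 : n ≤ 1 := by exact_mod_cast h6
  omega

include hC in
/-- The inverse of the structure isomorphism of a *canonical module is homogeneous. -/
theorem symm_isGrHomDeg (φ : (C →ₗ[R] E') ≃ₗ[R] I.H m n)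
    (hφ : GrLC.IsGrHom (fun d => (GrLC.homDeg 𝒜 𝒞 𝓔 d).toAddSubgroup) (I.Hgr m n) φ.toLinearMap)
    (d : ℤ) (x : I.H m n) (hx : x ∈ I.Hgr m n d) : GrLC.IsGrHomDeg 𝒞 𝓔 (φ.symm x) d := by
  classical
  haveI hfin : Module.Finite R C := hC.1
  obtain ⟨D, hD⟩ := exists_sum_part 𝒜 𝒞 𝓔 (φ.symm x)
  have hint := Groth.Agent.S13225.result R 𝒜 m R 𝒜 I n
  letI := hint.chooseDecomposition
  have hz : ∀ e' : ℤ, φ (part 𝒜 𝒞 𝓔 (φ.symm x) e') ∈ I.Hgr m n e' := fun e' =>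
    hφ e' _ (part_isGrHomDeg 𝒜 𝒞 𝓔 (φ.symm x) e')
  have hx1 : x = ∑ e' ∈ D, φ (part 𝒜 𝒞 𝓔 (φ.symm x) e') := by
    rw [← map_sum, hD, LinearEquiv.apply_symm_apply]
  have h1 : ((decompose (I.Hgr m n) x) d : I.H m n) = x := DirectSum.decompose_of_mem_same _ hx
  have h2 : ((decompose (I.Hgr m n) x) d : I.H m n) =
      ∑ e' ∈ D, if e' = d then φ (part 𝒜 𝒞 𝓔 (φ.symm x) e') else 0 := by
    conv_lhs => rw [hx1]
    rw [DirectSum.decompose_sum, DFinsupp.finsetSum_apply, AddSubmonoidClass.coe_finsetSum]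
    apply Finset.sum_congr rfl
    intro e' _
    by_cases h : e' = d
    · subst h
      rw [if_pos rfl, DirectSum.decompose_of_mem_same _ (hz e')]
    · rw [if_neg h, DirectSum.decompose_of_mem_ne _ (hz e') h]
  rw [h1, Finset.sum_ite_eq' D d] at h2
  by_cases hd : d ∈ D
  · rw [if_pos hd] at h2
    have h3 : φ.symm x = part 𝒜 𝒞 𝓔 (φ.symm x) d := by
      apply φ.injective
      rw [LinearEquiv.apply_symm_apply]
      exact h2
    rw [h3]
    exact part_isGrHomDeg 𝒜 𝒞 𝓔 (φ.symm x) d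
  · rw [if_neg hd] at h2
    rw [h2, map_zero]
    intro g c _
    exact zero_mem _

include hpos h0 hm hmsp hstd hn h2 he hC in
/-- Nonzero pieces propagate upwards. -/
theorem exists_ne_zero_succ (i : ℤ) (x : C) (_hx : x ∈ 𝒞 i) (hx0 : x ≠ 0) :
    ∃ y ∈ 𝒜 1, y • x ≠ 0 := by
  by_contra hcon
  push Not at hcon
  refine no_line 𝒜 hpos h0 m hm hmsp hstd n hn h2 I 𝓔 e he 𝒞 hC x hx0 0 ?_
  intro y hy
  refine ⟨0, zero_mem _, ?_⟩
  rw [mul_zero, sub_zero]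
  exact hcon y hy

include hpos h0 hm hmsp hstd hn h2 he hC in
theorem exists_ne_zero_add (i : ℤ) (x : C) (hx : x ∈ 𝒞 i) (hx0 : x ≠ 0) :
    ∀ d : ℕ, ∃ z ∈ 𝒞 (i + d), z ≠ 0 := by
  intro d
  induction d with
  | zero =>
    refine ⟨x, ?_, hx0⟩
    rw [Nat.cast_zero, add_zero]
    exact hx
  | succ d ih =>
    obtain ⟨z, hz, hz0⟩ := ih
    obtain ⟨y, hy, hyz⟩ := exists_ne_zero_succ 𝒜 hpos h0 m hm hmsp hstd n hn h2 I 𝓔 e he 𝒞 hC
      _ z hz hz0
    refine ⟨y • z, ?_, hyz⟩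
    have h := SetLike.GradedSMul.smul_mem (A := 𝒜) (B := 𝒞) hy hz
    rw [vadd_eq_add] at h
    have h3 : (1 : ℤ) + (i + (d : ℤ)) = i + ((d + 1 : ℕ) : ℤ) := by push_cast; ring
    rw [h3] at h
    exact h

include hpos h0 hm hmsp hstd hn h2 he hC in
/-- `dim_k (K_R)_j ≥ 2` for `j > -a(R)`. -/
theorem two_le_finrank (a : ℤ)
    (ha : GrLC.endDeg (I.Hgr m n) = ((a : WithTop ℤ) : WithBot (WithTop ℤ))) (j : ℤ)
    (hj : -a < j) : 2 ≤ Module.finrank (GrLC.deg0 𝒜) (GrLC.comp 𝒜 𝒞 j) := by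
  classical
  have hne : I.Hgr m n a ≠ ⊥ := ne_bot_of_endDeg_eq (I.Hgr m n) a ha
  obtain ⟨ξ, hξ, hξ0⟩ : ∃ ξ ∈ I.Hgr m n a, ξ ≠ 0 := by
    by_contra hcon
    push Not at hcon
    exact hne ((AddSubgroup.eq_bot_iff_forall _).mpr hcon)
  obtain ⟨hfin, φ, hφ⟩ := id hC
  haveI := hfin
  have hψ := symm_isGrHomDeg 𝒜 m n I 𝓔 𝒞 hC φ hφ a ξ hξ
  have hψ0 : φ.symm ξ ≠ 0 := by
    intro h
    apply hξ0
    rw [← φ.apply_symm_apply ξ, h, map_zero]
  -- a nonzero piece in degree `≤ -a`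
  obtain ⟨i₀, hi₀, x₀, hx₀, hx₀0⟩ : ∃ i₀ : ℤ, i₀ ≤ -a ∧ ∃ x₀ ∈ 𝒞 i₀, x₀ ≠ 0 := by
    obtain ⟨c, hc⟩ : ∃ c, φ.symm ξ c ≠ 0 := by
      by_contra hcon
      push Not at hcon
      exact hψ0 (LinearMap.ext hcon)
    obtain ⟨i, hi⟩ : ∃ i : ℤ, φ.symm ξ ((decompose 𝒞 c) i : C) ≠ 0 := by
      by_contra hcon
      push Not at hcon
      apply hc
      rw [← DirectSum.sum_support_decompose 𝒞 c, map_sum]
      exact Finset.sum_eq_zero fun i _ => hcon i
    refine ⟨i, ?_, ((decompose 𝒞 c) i : C), SetLike.coe_mem _, ?_⟩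
    · by_contra hlt
      have hE := Groth.Agent.Lib.Helper8.GrCanonDeg.E_pos 𝒜 hpos m hmsp 𝓔 e he (i + a) (by omega)
      have hmem := hψ i _ (SetLike.coe_mem ((decompose 𝒞 c) i))
      rw [hE, AddSubgroup.mem_bot] at hmem
      exact hi hmem
    · intro h
      rw [h, map_zero] at hi
      exact hi rfl
  -- a nonzero element in degree `j - 1`
  obtain ⟨u, hu, hu0⟩ : ∃ u ∈ 𝒞 (j - 1), u ≠ 0 := by
    obtain ⟨z, hz, hz0⟩ := exists_ne_zero_add 𝒜 hpos h0 m hm hmsp hstd n hn h2 I 𝓔 e he 𝒞 hC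
      i₀ x₀ hx₀ hx₀0 (j - 1 - i₀).toNat
    refine ⟨z, ?_, hz0⟩
    have h3 : i₀ + ((j - 1 - i₀).toNat : ℤ) = j - 1 := by
      rw [Int.toNat_of_nonneg (by omega)]
      ring
    rw [h3] at hz
    exact hz
  obtain ⟨y₀, hy₀, hy₀u⟩ := exists_ne_zero_succ 𝒜 hpos h0 m hm hmsp hstd n hn h2 I 𝓔 e he 𝒞 hC
    _ u hu hu0
  have hmemj : ∀ y ∈ 𝒜 1, y • u ∈ 𝒞 j := by
    intro y hy
    have h := SetLike.GradedSMul.smul_mem (A := 𝒜) (B := 𝒞) hy hu
    rw [vadd_eq_add] at h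
    have h3 : (1 : ℤ) + (j - 1) = j := by ring
    rw [h3] at h
    exact h
  by_contra hlt
  push Not at hlt
  have hle1 : Module.finrank (GrLC.deg0 𝒜) (GrLC.comp 𝒜 𝒞 j) ≤ 1 := by omega
  letI : Field (GrLC.deg0 𝒜) := h0.toField
  haveI : IsNoetherian R C := isNoetherian_of_isNoetherianRing_of_finite R C
  haveI : Module.Finite (GrLC.deg0 𝒜) (GrLC.comp 𝒜 𝒞 j) :=
    Groth.Agent.Lib.Helper29GrPieceFin.finite_comp 𝒜 𝒞 j
  obtain ⟨v, hv⟩ := finrank_le_one_iff.mp hle1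
  obtain ⟨c₀, hc₀⟩ := hv ⟨y₀ • u, hmemj y₀ hy₀⟩
  have hc₀0 : c₀ ≠ 0 := by
    intro h
    rw [h, zero_smul] at hc₀
    exact hy₀u (congrArg Subtype.val hc₀).symm
  refine no_line 𝒜 hpos h0 m hm hmsp hstd n hn h2 I 𝓔 e he 𝒞 hC u hu0 y₀ ?_
  intro y hy
  obtain ⟨c, hc⟩ := hv ⟨y • u, hmemj y hy⟩
  refine ⟨((c * c₀⁻¹ : GrLC.deg0 𝒜) : R), (c * c₀⁻¹ : GrLC.deg0 𝒜).2, ?_⟩
  have h4 : (c * c₀⁻¹) • (c₀ • v) = c • v := by
    rw [smul_smul, mul_assoc, inv_mul_cancel₀ hc₀0, mul_one]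
  rw [hc₀, hc] at h4
  have h5 : ((c * c₀⁻¹ : GrLC.deg0 𝒜) : R) • (y₀ • u) = y • u := congrArg Subtype.val h4
  rw [sub_smul, mul_smul, h5, sub_self]

end Canon

end Groth.Agent.Lib.Helper8.CanonHilb
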