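import Groth.Agent.Lib.Helper8GrPairing
import Groth.Agent.Lib.Helper29GrBaer
import Groth.Agent.Lib.Helper29GrPieceFin
import Groth.Agent.S13225

/-!
# The perfect pairing between a *canonical module and top local cohomology (helper8)

For a positively graded Noetherian ring over a field with a *canonical module `C`: the pairing
`C × H^n_m(R) → k`, `(c, h) ↦ eps ((ψ⁻¹ h) c)`, is `R`-balanced, graded, and perfect in each
degree: `H_{-i} ≅ (C_i)^*` and every functional on `H_{-i}` is represented by an element of `C_i`.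
-/

set_option autoImplicit false
set_option linter.style.haveILetI false
set_option linter.unusedSectionVars false
universe u
open DirectSum

noncomputable section

namespace Groth.Agent.Lib.Helper8.CanonPairing

open Groth.Agent.Lib.Helper29GrBaer Groth.Agent.Lib.Helper8.GrPairing

variable {R : Type u} [CommRing R] [IsNoetherianRing R] (𝒜 : ℤ → AddSubgroup R) [GradedRing 𝒜]
  (hpos : ∀ n : ℤ, n < 0 → 𝒜 n = ⊥) (h0 : IsField (GrLC.deg0 𝒜))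
  (m : HomogeneousIdeal 𝒜) (hmne : m.toIdeal ≠ ⊤)
  (hmsp : m.toIdeal = Ideal.span (⋃ n ∈ Set.Ioi (0 : ℤ), (𝒜 n : Set R)))
  {E' : Type u} [AddCommGroup E'] [Module R E'] (𝓔 : ℤ → AddSubgroup E')
  [DirectSum.Decomposition 𝓔] [SetLike.GradedSMul 𝒜 𝓔]
  (e : (R ⧸ m.toIdeal) →ₗ[R] E') (he : GrLC.IsStarInjHull 𝒜 (GrLC.quotGr 𝒜 m) 𝓔 e)
  {C : Type u} [AddCommGroup C] [Module R C] [Module.Finite R C] (𝒞 : ℤ → AddSubgroup C)
  [DirectSum.Decomposition 𝒞] [SetLike.GradedSMul 𝒜 𝒞]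
  (n : ℕ) (I : GrLC.StarInjRes 𝒜 𝒜)
  (ψ : (C →ₗ[R] E') ≃ₗ[R] I.H m n)
  (hψ : GrLC.IsGrHom (fun d => (GrLC.homDeg 𝒜 𝒞 𝓔 d).toAddSubgroup) (I.Hgr m n) ψ.toLinearMap)

include hψ in
/-- The inverse of the structure isomorphism of a *canonical module is homogeneous. -/
theorem symm_isGrHomDeg (d : ℤ) (x : I.H m n) (hx : x ∈ I.Hgr m n d) :
    GrLC.IsGrHomDeg 𝒞 𝓔 (ψ.symm x) d := by
  classical
  obtain ⟨D, hD⟩ := exists_sum_part 𝒜 𝒞 𝓔 (ψ.symm x)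
  have hint := Groth.Agent.S13225.result R 𝒜 m R 𝒜 I n
  letI := hint.chooseDecomposition
  have hz : ∀ e' : ℤ, ψ (part 𝒜 𝒞 𝓔 (ψ.symm x) e') ∈ I.Hgr m n e' := fun e' =>
    hψ e' _ (part_isGrHomDeg 𝒜 𝒞 𝓔 (ψ.symm x) e')
  have hx1 : x = ∑ e' ∈ D, ψ (part 𝒜 𝒞 𝓔 (ψ.symm x) e') := by
    rw [← map_sum, hD, LinearEquiv.apply_symm_apply]
  have h1 : ((decompose (I.Hgr m n) x) d : I.H m n) = x := DirectSum.decompose_of_mem_same _ hx
  have h2 : ((decompose (I.Hgr m n) x) d : I.H m n) =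
      ∑ e' ∈ D, if e' = d then ψ (part 𝒜 𝒞 𝓔 (ψ.symm x) e') else 0 := by
    conv_lhs => rw [hx1]
    rw [DirectSum.decompose_sum, DFinsupp.finsetSum_apply, AddSubmonoidClass.coe_finsetSum]
    apply Finset.sum_congr rfl
    intro e' _
    by_cases h : e' = d
    · subst h
      rw [if_pos rfl, DirectSum.decompose_of_mem_same _ (hz e')]
    · rw [if_neg h, DirectSum.decompose_of_mem_ne _ (hz e') h]
  rw [h1, Finset.sum_ite_eq' D d] at h2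
  by_cases hd : d ∈ D
  · rw [if_pos hd] at h2
    have h3 : ψ.symm x = part 𝒜 𝒞 𝓔 (ψ.symm x) d := by
      apply ψ.injective
      rw [LinearEquiv.apply_symm_apply]
      exact h2
    rw [h3]
    exact part_isGrHomDeg 𝒜 𝒞 𝓔 (ψ.symm x) d
  · rw [if_neg hd] at h2
    rw [h2, map_zero]
    intro g c _
    exact zero_mem _

/-- The pairing `C × H^n_m(R) → k`. -/
def pair (c : C) (h : I.H m n) : ↥(GrLC.deg0 𝒜) :=
  eps 𝒜 hpos h0 m hmne hmsp 𝓔 e he ((ψ.symm h) c)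

theorem pair_add_left (c c' : C) (h : I.H m n) :
    pair 𝒜 hpos h0 m hmne hmsp 𝓔 e he n I ψ (c + c') h =
      pair 𝒜 hpos h0 m hmne hmsp 𝓔 e he n I ψ c h + pair 𝒜 hpos h0 m hmne hmsp 𝓔 e he n I ψ c' h := by
  unfold pair
  rw [map_add, map_add]

theorem pair_add_right (c : C) (h h' : I.H m n) :
    pair 𝒜 hpos h0 m hmne hmsp 𝓔 e he n I ψ c (h + h') =
      pair 𝒜 hpos h0 m hmne hmsp 𝓔 e he n I ψ c h + pair 𝒜 hpos h0 m hmne hmsp 𝓔 e he n I ψ c h' := by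
  unfold pair
  rw [map_add, LinearMap.add_apply, map_add]

theorem pair_zero_left (h : I.H m n) : pair 𝒜 hpos h0 m hmne hmsp 𝓔 e he n I ψ 0 h = 0 := by
  unfold pair
  rw [map_zero, map_zero]

theorem pair_zero_right (c : C) : pair 𝒜 hpos h0 m hmne hmsp 𝓔 e he n I ψ c 0 = 0 := by
  unfold pair
  rw [map_zero, LinearMap.zero_apply, map_zero]

/-- The pairing is `R`-balanced. -/
theorem pair_smul (r : R) (c : C) (h : I.H m n) :
    pair 𝒜 hpos h0 m hmne hmsp 𝓔 e he n I ψ (r • c) h =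
      pair 𝒜 hpos h0 m hmne hmsp 𝓔 e he n I ψ c (r • h) := by
  unfold pair
  have h1 : ψ.symm (r • h) = r • ψ.symm h := map_smul _ _ _
  rw [h1, LinearMap.smul_apply, LinearMap.map_smul]

theorem pair_smul_left (t : ↥(GrLC.deg0 𝒜)) (c : C) (h : I.H m n) :
    pair 𝒜 hpos h0 m hmne hmsp 𝓔 e he n I ψ ((t : R) • c) h =
      t * pair 𝒜 hpos h0 m hmne hmsp 𝓔 e he n I ψ c h := by
  unfold pair
  rw [map_smul]
  exact map_smul (eps 𝒜 hpos h0 m hmne hmsp 𝓔 e he) t _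

theorem pair_smul_right (t : ↥(GrLC.deg0 𝒜)) (c : C) (h : I.H m n) :
    pair 𝒜 hpos h0 m hmne hmsp 𝓔 e he n I ψ c ((t : R) • h) =
      t * pair 𝒜 hpos h0 m hmne hmsp 𝓔 e he n I ψ c h := by
  rw [← pair_smul, pair_smul_left]

include hψ in
/-- The pairing is graded. -/
theorem pair_eq_zero_of_ne {i d : ℤ} (hid : i + d ≠ 0) {c : C} (hc : c ∈ 𝒞 i) {h : I.H m n}
    (hh : h ∈ I.Hgr m n d) : pair 𝒜 hpos h0 m hmne hmsp 𝓔 e he n I ψ c h = 0 := by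
  unfold pair
  exact eps_of_mem_ne 𝒜 hpos h0 m hmne hmsp 𝓔 e he hid
    (symm_isGrHomDeg 𝒜 m 𝓔 𝒞 n I ψ hψ d h hh i c hc)

/-- The map `H_{-i} → (C_i)^*`. -/
def rho (i : ℤ) : ↥(I.Hcomp m n (-i)) →ₗ[↥(GrLC.deg0 𝒜)]
    Module.Dual ↥(GrLC.deg0 𝒜) ↥(GrLC.comp 𝒜 𝒞 i) where
  toFun h :=
    { toFun := fun v => pair 𝒜 hpos h0 m hmne hmsp 𝓔 e he n I ψ (v : C) (h : I.H m n)
      map_add' := fun v w => pair_add_left 𝒜 hpos h0 m hmne hmsp 𝓔 e he n I ψ v w h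
      map_smul' := fun t v => pair_smul_left 𝒜 hpos h0 m hmne hmsp 𝓔 e he n I ψ t v h }
  map_add' h h' := by
    apply LinearMap.ext
    intro v
    exact pair_add_right 𝒜 hpos h0 m hmne hmsp 𝓔 e he n I ψ v h h'
  map_smul' t h := by
    apply LinearMap.ext
    intro v
    exact pair_smul_right 𝒜 hpos h0 m hmne hmsp 𝓔 e he n I ψ t v h

theorem rho_apply (i : ℤ) (h : ↥(I.Hcomp m n (-i))) (v : ↥(GrLC.comp 𝒜 𝒞 i)) :
    rho 𝒜 hpos h0 m hmne hmsp 𝓔 e he 𝒞 n I ψ i h v =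
      pair 𝒜 hpos h0 m hmne hmsp 𝓔 e he n I ψ (v : C) (h : I.H m n) := rfl

include hψ in
theorem rho_injective (i : ℤ) :
    Function.Injective (rho 𝒜 hpos h0 m hmne hmsp 𝓔 e he 𝒞 n I ψ i) := by
  rw [injective_iff_map_eq_zero]
  intro h hh
  have hdeg := symm_isGrHomDeg 𝒜 m 𝓔 𝒞 n I ψ hψ (-i) h h.2
  have hz : ψ.symm (h : I.H m n) = 0 := by
    apply eq_zero_of_eps_comp 𝒜 hpos h0 m hmne hmsp 𝓔 e he 𝒞 _ (-i) hdeg
    intro c hc
    rw [neg_neg] at hc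
    exact LinearMap.congr_fun hh ⟨c, hc⟩
  apply Subtype.ext
  have := congrArg ψ hz
  rw [LinearEquiv.apply_symm_apply, map_zero] at this
  exact this

include hψ in
theorem rho_surjective (i : ℤ) :
    Function.Surjective (rho 𝒜 hpos h0 m hmne hmsp 𝓔 e he 𝒞 n I ψ i) := by
  intro lam
  obtain ⟨f, hf, hflam⟩ := exists_hom_of_functional 𝒜 hpos h0 m hmne hmsp 𝓔 e he 𝒞 i lam
  refine ⟨⟨ψ f, hψ (-i) f hf⟩, ?_⟩
  apply LinearMap.ext
  intro v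
  rw [rho_apply]
  unfold pair
  rw [LinearEquiv.symm_apply_apply]
  exact hflam v v.2

include hψ in
/-- Nondegeneracy on the left. -/
theorem eq_zero_of_pair_eq_zero {i : ℤ} {v : C} (hv : v ∈ 𝒞 i)
    (h : ∀ x ∈ I.Hgr m n (-i), pair 𝒜 hpos h0 m hmne hmsp 𝓔 e he n I ψ v x = 0) : v = 0 := by
  letI : Field (GrLC.deg0 𝒜) := h0.toField
  have hv' : (⟨v, hv⟩ : ↥(GrLC.comp 𝒜 𝒞 i)) = 0 := by
    rw [← Module.forall_dual_apply_eq_zero_iff (GrLC.deg0 𝒜)]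
    intro lam
    obtain ⟨x, rfl⟩ := rho_surjective 𝒜 hpos h0 m hmne hmsp 𝓔 e he 𝒞 n I ψ hψ i lam
    exact h x x.2
  exact congrArg Subtype.val hv'

include hψ in
/-- Representability: every functional on `H_{-i}` is pairing with an element of `C_i`. -/
theorem exists_representative (i : ℤ)
    (mu : Module.Dual ↥(GrLC.deg0 𝒜) ↥(I.Hcomp m n (-i))) :
    ∃ v ∈ 𝒞 i, ∀ (x : I.H m n) (hx : x ∈ I.Hcomp m n (-i)),
      pair 𝒜 hpos h0 m hmne hmsp 𝓔 e he n I ψ v x = mu ⟨x, hx⟩ := by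
  letI : Field (GrLC.deg0 𝒜) := h0.toField
  haveI : IsNoetherian R C := isNoetherian_of_isNoetherianRing_of_finite R C
  haveI : Module.Finite (GrLC.deg0 𝒜) (GrLC.comp 𝒜 𝒞 i) :=
    Groth.Agent.Lib.Helper29GrPieceFin.finite_comp 𝒜 𝒞 i
  let ρe := LinearEquiv.ofBijective (rho 𝒜 hpos h0 m hmne hmsp 𝓔 e he 𝒞 n I ψ i)
    ⟨rho_injective 𝒜 hpos h0 m hmne hmsp 𝓔 e he 𝒞 n I ψ hψ i,
      rho_surjective 𝒜 hpos h0 m hmne hmsp 𝓔 e he 𝒞 n I ψ hψ i⟩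
  let v := (Module.evalEquiv (GrLC.deg0 𝒜) ↥(GrLC.comp 𝒜 𝒞 i)).symm
    (mu ∘ₗ ρe.symm.toLinearMap)
  refine ⟨(v : C), v.2, fun x hx => ?_⟩
  have h1 : ρe ⟨x, hx⟩ v = (mu ∘ₗ ρe.symm.toLinearMap) (ρe ⟨x, hx⟩) :=
    Module.apply_evalEquiv_symm_apply _ _ (ρe ⟨x, hx⟩) (mu ∘ₗ ρe.symm.toLinearMap)
  rw [LinearMap.comp_apply, LinearEquiv.coe_coe, LinearEquiv.symm_apply_apply] at h1
  exact h1

end Groth.Agent.Lib.Helper8.CanonPairing
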