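import Groth.Agent.Lib.Helper8CanonPairing
import Groth.Agent.Lib.Helper8VerDual

/-! The perfect pairing of a *canonical module, packaged (helper8). -/

set_option autoImplicit false
set_option linter.style.haveILetI false
set_option linter.unusedSectionVars false
universe u
open DirectSum

noncomputable section

namespace Groth.Agent.Lib.Helper8.CanonPairing

open Groth.Agent.Lib.Helper8.VerDual

variable {R : Type u} [CommRing R] [IsNoetherianRing R] (𝒜 : ℤ → AddSubgroup R) [GradedRing 𝒜]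
  (hpos : ∀ n : ℤ, n < 0 → 𝒜 n = ⊥) (h0 : IsField (GrLC.deg0 𝒜))
  (m : HomogeneousIdeal 𝒜) (hmne : m.toIdeal ≠ ⊤)
  (hmsp : m.toIdeal = Ideal.span (⋃ n ∈ Set.Ioi (0 : ℤ), (𝒜 n : Set R)))
  {E' : Type u} [AddCommGroup E'] [Module R E'] (𝓔 : ℤ → AddSubgroup E')
  [DirectSum.Decomposition 𝓔] [SetLike.GradedSMul 𝒜 𝓔]
  (e : (R ⧸ m.toIdeal) →ₗ[R] E') (he : GrLC.IsStarInjHull 𝒜 (GrLC.quotGr 𝒜 m) 𝓔 e)
  {C : Type u} [AddCommGroup C] [Module R C] [Module.Finite R C] (𝒞 : ℤ → AddSubgroup C)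
  [DirectSum.Decomposition 𝒞] [SetLike.GradedSMul 𝒜 𝒞]
  (n : ℕ) (I : GrLC.StarInjRes 𝒜 𝒜)
  (ψ : (C →ₗ[R] E') ≃ₗ[R] I.H m n)
  (hψ : GrLC.IsGrHom (fun d => (GrLC.homDeg 𝒜 𝒞 𝓔 d).toAddSubgroup) (I.Hgr m n) ψ.toLinearMap)

/-- The perfect pairing between a *canonical module and the top local cohomology. -/
def perfPairing : PerfPairing 𝒜 𝒞 (I.Hgr m n) where
  P := pair 𝒜 hpos h0 m hmne hmsp 𝓔 e he n I ψ
  add_left := pair_add_left 𝒜 hpos h0 m hmne hmsp 𝓔 e he n I ψ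
  add_right := pair_add_right 𝒜 hpos h0 m hmne hmsp 𝓔 e he n I ψ
  smul := pair_smul 𝒜 hpos h0 m hmne hmsp 𝓔 e he n I ψ
  smul_right := pair_smul_right 𝒜 hpos h0 m hmne hmsp 𝓔 e he n I ψ
  graded := fun hid _ hc _ hh => pair_eq_zero_of_ne 𝒜 hpos h0 m hmne hmsp 𝓔 e he 𝒞 n I ψ hψ hid hc hh
  ndl := fun hv h => eq_zero_of_pair_eq_zero 𝒜 hpos h0 m hmne hmsp 𝓔 e he 𝒞 n I ψ hψ hv h
  rep := fun i mu hadd hsmul => by
    obtain ⟨v, hv, hvm⟩ := exists_representative 𝒜 hpos h0 m hmne hmsp 𝓔 e he 𝒞 n I ψ hψ i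
      { toFun := fun x => mu x.1
        map_add' := fun x y => hadd x.1 x.2 y.1 y.2
        map_smul' := fun t x => hsmul t x.1 x.2 }
    exact ⟨v, hv, fun x hx => hvm x hx⟩

end Groth.Agent.Lib.Helper8.CanonPairing
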