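import Groth.Agent.Lib.Helper8ExtSoc
import Groth.Agent.Lib.Helper8CanonCM
import Groth.Agent.S7703
import Groth.Agent.S5170

/-!
# Type of the canonical module and of the ring (helper8)

For a Cohen–Macaulay local ring `R` of dimension `n` with canonical module `K`:
`length Ext^n(k, K) = 1` and `length Ext^n(k, R) = dim_k (k ⊗ K)`.
-/

set_option autoImplicit false
set_option linter.style.haveILetI false
set_option linter.unusedSectionVars false
universe u
open CategoryTheory CategoryTheory.Limits Opposite CategoryTheory.Abelian IsLocalRing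
open scoped TensorProduct

namespace Groth.Agent.Lib.Helper8.CanonType
open Groth.Agent.Lib.Helper8.ExtLES Groth.Agent.Lib.Helper8.Bridge Groth.Agent.Lib.Helper8.LC
  Groth.Agent.Lib.Helper8.CanonCM

section Basic

variable {R : Type u} [CommRing R] [IsLocalRing R]

theorem kill (a : R) (ha : a ∈ maximalIdeal R) (x : ResidueField R) : a • x = 0 := by
  rw [Algebra.smul_def]
  have h : algebraMap R (ResidueField R) a = 0 := (IsLocalRing.residue_eq_zero_iff a).mpr ha
  rw [h, zero_mul]

theorem length_residueField : Module.length R (ResidueField R) = 1 := by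
  rw [Module.length_eq_of_surjective (S := R) (R := ResidueField R) (M := ResidueField R)
    IsLocalRing.residue_surjective, Module.length_eq_finrank, Module.finrank_self]
  rfl

theorem isFiniteLength_residueField : IsFiniteLength R (ResidueField R) := by
  rw [← Module.length_ne_top_iff, length_residueField]
  exact ENat.one_ne_top

theorem length_tensor (K : Type u) [AddCommGroup K] [Module R K] [Module.Finite R K] :
    Module.length R (ResidueField R ⊗[R] K) =
      (Module.finrank (ResidueField R) (ResidueField R ⊗[R] K) : ℕ∞) := by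
  rw [Module.length_eq_of_surjective (S := R) (R := ResidueField R)
    (M := ResidueField R ⊗[R] K) IsLocalRing.residue_surjective, Module.length_eq_finrank]

theorem isFiniteLength_tensor (K : Type u) [AddCommGroup K] [Module R K] [Module.Finite R K] :
    IsFiniteLength R (ResidueField R ⊗[R] K) := by
  rw [← Module.length_ne_top_iff, length_tensor]
  exact ENat.natCast_ne_top _

end Basic

variable {R : Type u} [CommRing R] [LocCoh.IsCohenMacaulayLocalRing R] (n : ℕ)
  (hn : ringKrullDim R = n)
  (E : Type u) [AddCommGroup E] [Module R E] (f : ResidueField R →ₗ[R] E)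
  (hf : InjHull.IsInjectiveHull f) (K : Type u) [AddCommGroup K] [Module R K] [Module.Finite R K]
  (eK : (K →ₗ[R] E) ≃ₗ[R] LocCoh.H (maximalIdeal R) n R)

include hn hf eK in
/-- `H^n_m(K) ≃ E`. -/
theorem nonempty_H_K_equiv : Nonempty (LocCoh.H (maximalIdeal R) n K ≃ₗ[R] E) := by
  obtain ⟨e2⟩ := dualExt n hn E f hf K eK K 0 (Nat.zero_le n)
  rw [Nat.sub_zero] at e2
  let e3 : Ext.{u} (ModuleCat.of R K) (ModuleCat.of R K) 0 ≃ₗ[R]
      (ModuleCat.of R K ⟶ ModuleCat.of R K) := Ext.linearEquiv₀
  let e4 : (ModuleCat.of R K ⟶ ModuleCat.of R K) ≃ₗ[R] (K →ₗ[R] K) := ModuleCat.homLinearEquiv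
  have hbij := Groth.Agent.S7703.result R n hn E f hf K eK
  let h : R →ₗ[R] (K →ₗ[R] K) := LinearMap.toSpanSingleton R (K →ₗ[R] K) LinearMap.id
  have hh : Function.Bijective h := by
    convert hbij using 1
    funext r
    rfl
  let e5 : R ≃ₗ[R] (K →ₗ[R] K) := LinearEquiv.ofBijective h hh
  let e6 : Ext.{u} (ModuleCat.of R K) (ModuleCat.of R K) 0 ≃ₗ[R] R :=
    e3.trans (e4.trans e5.symm)
  exact ⟨e2.trans ((LinearEquiv.congrLeft E R e6).trans (LinearMap.ringLmapEquivSelf R R E))⟩

include hn hf eK in
/-- The type of the canonical module is one. -/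
theorem length_ext_K :
    Module.length R (Ext.{u} (ModuleCat.of R (ResidueField R)) (ModuleCat.of R K) n) = 1 := by
  have hK := nontrivial_K n hn E K eK
  have hIK : maximalIdeal R • (⊤ : Submodule R K) ≠ ⊤ := by
    intro h
    have h1 := Submodule.eq_bot_of_le_smul_of_le_jacobson_bot (maximalIdeal R)
      (⊤ : Submodule R K) Module.Finite.fg_top (le_of_eq h.symm)
      (IsLocalRing.maximalIdeal_le_jacobson ⊥)
    exact top_ne_bot h1
  have hdepth : (n : ℕ∞) ≤ LocCoh.idealDepth (maximalIdeal R) K :=
    le_of_eq (depth_K n hn E f hf K eK).symm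
  obtain ⟨e1⟩ := Groth.Agent.Lib.Helper8.ExtSoc.nonempty_equiv (maximalIdeal R)
    (ModuleCat.of R (ResidueField R)) (fun a ha x => kill a ha x) n K hIK hdepth
  obtain ⟨e2⟩ := nonempty_H_K_equiv n hn E f hf K eK
  have e3 : (ResidueField R →ₗ[R] LocCoh.H (maximalIdeal R) n K) ≃ₗ[R]
      (ResidueField R →ₗ[R] E) := LinearEquiv.arrowCongr (LinearEquiv.refl R _) e2
  have h5 := Groth.Agent.S5170.result R E f hf (ResidueField R) isFiniteLength_residueField
  rw [← ((Ψ n (ModuleCat.of R (ResidueField R)) (ModuleCat.of R K)).symm.trans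
    (e1.trans e3)).length_eq.symm, h5, length_residueField]

include hn hf eK in
/-- The type of the ring is the minimal number of generators of the canonical module. -/
theorem length_ext_self :
    Module.length R (Ext.{u} (ModuleCat.of R (ResidueField R)) (ModuleCat.of R R) n) =
      (Module.finrank (ResidueField R) (ResidueField R ⊗[R] K) : ℕ∞) := by
  obtain ⟨e1⟩ := Groth.Agent.Lib.Helper8.ExtSoc.nonempty_equiv (maximalIdeal R)
    (ModuleCat.of R (ResidueField R)) (fun a ha x => kill a ha x) n R
    smul_top_ne_top (depth_R n hn)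
  have e2 : (ResidueField R →ₗ[R] LocCoh.H (maximalIdeal R) n R) ≃ₗ[R]
      (ResidueField R →ₗ[R] (K →ₗ[R] E)) :=
    LinearEquiv.arrowCongr (LinearEquiv.refl R _) eK.symm
  have e3 : (ResidueField R →ₗ[R] (K →ₗ[R] E)) ≃ₗ[R] (ResidueField R ⊗[R] K →ₗ[R] E) :=
    TensorProduct.lift.equiv (RingHom.id R) (ResidueField R) K E
  have h5 := Groth.Agent.S5170.result R E f hf (ResidueField R ⊗[R] K) (isFiniteLength_tensor K)
  rw [← length_tensor, ← h5]
  exact ((Ψ n (ModuleCat.of R (ResidueField R)) (ModuleCat.of R R)).symm.trans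
    (e1.trans (e2.trans e3))).length_eq

end Groth.Agent.Lib.Helper8.CanonType
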