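import Groth.Agent.Lib.Helper8LCAdd
import Groth.Agent.Lib.Helper8LC2

/-!
# Helper8CdOne

If `H^0_I(B) = H^1_I(B) = 0` and `H^2_I` vanishes on all modules, then `I B = B`
(for `I` generated by a finite list).
-/

set_option autoImplicit false
universe u
open CategoryTheory CategoryTheory.Limits Opposite

namespace Groth.Agent.Lib.Helper8.CdOne

open Groth.Agent.Lib.Helper8.ExtLES Groth.Agent.Lib.Helper8.LC

variable {R : Type u} [CommRing R]

/-- `H^i_I(B^r) = 0` if `H^i_I(B) = 0`. -/
theorem H_pi_eq_zero' (I : Ideal R) (i : ℕ) (B : Type u) [AddCommGroup B] [Module R B] (r : ℕ)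
    (h : ∀ x : (localCohomology I i).obj (ModuleCat.of R B), x = 0)
    (x : (localCohomology I i).obj (ModuleCat.of R (Fin r → B))) : x = 0 := by
  have hid : 𝟙 (ModuleCat.of R (Fin r → B)) =
      ∑ j ∈ (Finset.univ : Finset (Fin r)),
        (ModuleCat.ofHom (LinearMap.proj (R := R) (φ := fun _ : Fin r => B) j) ≫
          ModuleCat.ofHom (LinearMap.single R (fun _ : Fin r => B) j)) := by
    apply ModuleCat.hom_ext
    apply LinearMap.ext
    intro c
    rw [ModuleCat.hom_sum, LinearMap.sum_apply]
    funext l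
    rw [Finset.sum_apply]
    simp [Pi.single_apply]
  have h1 : x = (localCohomology I i).map (𝟙 (ModuleCat.of R (Fin r → B))) x := by
    rw [CategoryTheory.Functor.map_id]
    rfl
  rw [h1, hid, H_map_sum]
  apply Finset.sum_eq_zero
  intro j _
  rw [Functor.map_comp]
  change (localCohomology I i).map (ModuleCat.ofHom (LinearMap.single R (fun _ : Fin r => B) j))
    ((localCohomology I i).map
      (ModuleCat.ofHom (LinearMap.proj (R := R) (φ := fun _ : Fin r => B) j)) x) = 0
  rw [h ((localCohomology I i).map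
      (ModuleCat.ofHom (LinearMap.proj (R := R) (φ := fun _ : Fin r => B) j)) x), map_zero]

variable (fs : List R) (B : Type u) [AddCommGroup B] [Module R B]

/-- the map `B^r → B`, `(b_i) ↦ ∑ f_i b_i` -/
noncomputable def σ : (Fin fs.length → B) →ₗ[R] B :=
  ∑ j : Fin fs.length, (fs.get j) • LinearMap.proj (R := R) (φ := fun _ : Fin fs.length => B) j

lemma σ_apply (c : Fin fs.length → B) : σ fs B c = ∑ j : Fin fs.length, fs.get j • c j := by
  simp [σ, LinearMap.sum_apply]

lemma range_σ : LinearMap.range (σ fs B) =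
    (Ideal.span {a | a ∈ fs}) • (⊤ : Submodule R B) := by
  apply le_antisymm
  · rintro _ ⟨c, rfl⟩
    rw [σ_apply]
    refine Submodule.sum_mem _ fun j _ => ?_
    exact Submodule.smul_mem_smul (Ideal.subset_span (List.get_mem fs j)) Submodule.mem_top
  · rw [Submodule.smul_le]
    intro a ha b _
    have : ∀ a ∈ Ideal.span {a | a ∈ fs}, a • b ∈ LinearMap.range (σ fs B) := by
      intro a ha
      refine Submodule.span_induction (p := fun a _ => a • b ∈ LinearMap.range (σ fs B))
        ?_ ?_ ?_ ?_ ha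
      · intro f hf
        obtain ⟨j, rfl⟩ := List.mem_iff_get.mp hf
        refine ⟨Pi.single j b, ?_⟩
        rw [σ_apply, Finset.sum_eq_single j]
        · rw [Pi.single_eq_same]
        · intro k _ hk
          rw [Pi.single_eq_of_ne hk, smul_zero]
        · intro h
          exact absurd (Finset.mem_univ j) h
      · rw [zero_smul]
        exact Submodule.zero_mem _
      · intro x y _ _ hx hy
        rw [add_smul]
        exact Submodule.add_mem _ hx hy
      · intro c x _ hx
        rw [smul_eq_mul, mul_smul]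
        exact Submodule.smul_mem _ c hx
    exact this a ha

theorem smul_top_eq_top [IsNoetherianRing R]
    (h0 : ∀ x : (localCohomology (Ideal.span {a | a ∈ fs}) 0).obj (ModuleCat.of R B), x = 0)
    (h1 : ∀ x : (localCohomology (Ideal.span {a | a ∈ fs}) 1).obj (ModuleCat.of R B), x = 0)
    (h2 : ∀ (K : Type u) [AddCommGroup K] [Module R K],
      ∀ x : (localCohomology (Ideal.span {a | a ∈ fs}) 2).obj (ModuleCat.of R K), x = 0) :
    (Ideal.span {a | a ∈ fs}) • (⊤ : Submodule R B) = ⊤ := by
  set I : Ideal R := Ideal.span {a | a ∈ fs} with hI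
  set IB : Submodule R B := I • (⊤ : Submodule R B) with hIB
  -- the first sequence `0 → K → B^r → IB → 0`
  let g : (Fin fs.length → B) →ₗ[R] IB :=
    (σ fs B).codRestrict IB (fun c => by
      rw [hIB, hI, ← range_σ]
      exact ⟨c, rfl⟩)
  have hg : Function.Surjective g := by
    rintro ⟨b, hb⟩
    rw [hIB, hI, ← range_σ] at hb
    obtain ⟨c, hc⟩ := hb
    exact ⟨c, Subtype.ext hc⟩
  have hex1 : Function.Exact (LinearMap.ker g).subtype g := by
    intro c
    constructor
    · intro hc
      exact ⟨⟨c, hc⟩, rfl⟩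
    · rintro ⟨⟨c', hc'⟩, rfl⟩
      exact hc'
  have hP : ∀ x : (localCohomology I 1).obj (ModuleCat.of R (Fin fs.length → B)), x = 0 :=
    H_pi_eq_zero' I 1 B fs.length h1
  have hIB1 : ∀ z : (localCohomology I 1).obj (ModuleCat.of R IB), z = 0 := by
    intro z
    obtain ⟨y, hy⟩ := H_exact₃ I 1 (Sfg (LinearMap.ker g).subtype g hex1)
      (Sfg_shortExact _ _ (Submodule.injective_subtype _) hg hex1) z (h2 _ _)
    rw [← hy, hP y, map_zero]
  -- the second sequence `0 → IB → B → B/IB → 0`
  have hex2 : Function.Exact IB.subtype IB.mkQ := by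
    intro b
    rw [Submodule.mkQ_apply, Submodule.Quotient.mk_eq_zero]
    constructor
    · intro hb
      exact ⟨⟨b, hb⟩, rfl⟩
    · rintro ⟨⟨b', hb'⟩, rfl⟩
      exact hb'
  have hN0 : ∀ z : (localCohomology I 0).obj (ModuleCat.of R (B ⧸ IB)), z = 0 := by
    intro z
    obtain ⟨y, hy⟩ := H_exact₃ I 0 (Sfg IB.subtype IB.mkQ hex2)
      (Sfg_shortExact _ _ (Submodule.injective_subtype _) (Submodule.mkQ_surjective _) hex2) z
      (hIB1 _)
    rw [← hy, h0 y, map_zero]
  -- `B/IB` is torsion
  have htors : ∀ n : B ⧸ IB, n ∈ DRing.torsionSub I (B ⧸ IB) := by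
    intro n
    obtain ⟨b, rfl⟩ := Submodule.Quotient.mk_surjective _ n
    refine ⟨1, fun a ha => ?_⟩
    rw [pow_one] at ha
    rw [← Submodule.Quotient.mk_smul, Submodule.Quotient.mk_eq_zero]
    exact Submodule.smul_mem_smul ha Submodule.mem_top
  have hsub : Subsingleton (B ⧸ IB) := by
    refine ⟨fun a b => ?_⟩
    have key : ∀ n : B ⧸ IB, n = 0 := by
      intro n
      have h3 := hN0 ((ΦEquiv I (ModuleCat.of R (B ⧸ IB))).symm ⟨n, htors n⟩)
      have h4 := congrArg (ΦEquiv I (ModuleCat.of R (B ⧸ IB))) h3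
      rw [LinearEquiv.apply_symm_apply, map_zero] at h4
      exact congrArg Subtype.val h4
    rw [key a, key b]
  exact Submodule.Quotient.subsingleton_iff.mp hsub

end Groth.Agent.Lib.Helper8.CdOne
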