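import Groth.Agent.Lib.Helper8Cd

set_option autoImplicit false
universe u
open CategoryTheory CategoryTheory.Limits Opposite

/-! `cd(I + J) ≤ cd(I) + cd(J)`. -/

namespace Groth.Agent.Lib.Helper8.CdSup

open Groth.Agent.Lib.Helper8.ExtLES Groth.Agent.Lib.Helper8.LC Groth.Agent.Lib.Helper8.MV
  Groth.Agent.Lib.Helper8.GV Groth.Agent.Lib.Helper8.Acyc Groth.Agent.Lib.Helper8.Cd

variable {R : Type u} [CommRing R] (I J : Ideal R)

/-- `M` has no `J`-local cohomology above degree `k`. -/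
def Amp (k : ℕ) (M : Type u) [AddCommGroup M] [Module R M] : Prop :=
  ∀ q : ℕ, k < q → ∀ x : LocCoh.H J q M, x = 0

section SES

variable (S : ShortComplex (ModuleCat.{u} R)) (hS : S.ShortExact)

/-- The restriction of `f` to the torsion submodules. -/
noncomputable def fΓ : DRing.torsionSub J S.X₁ →ₗ[R] DRing.torsionSub J S.X₂ :=
  S.f.hom.restrict (fun _ hm => DRing.map_mem_torsionSub J S.f.hom hm)

/-- The restriction of `g` to the torsion submodules. -/
noncomputable def gΓ : DRing.torsionSub J S.X₂ →ₗ[R] DRing.torsionSub J S.X₃ :=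
  S.g.hom.restrict (fun _ hm => DRing.map_mem_torsionSub J S.g.hom hm)

include hS in
theorem fΓ_injective : Function.Injective (fΓ J S) := by
  have hf : Function.Injective S.f.hom := (ModuleCat.mono_iff_injective S.f).mp hS.mono_f
  intro a b hab
  apply Subtype.ext
  apply hf
  exact congrArg Subtype.val hab

include hS in
theorem exact_fΓ_gΓ : Function.Exact (fΓ J S) (gΓ J S) := by
  have hf : Function.Injective S.f.hom := (ModuleCat.mono_iff_injective S.f).mp hS.mono_f
  have hex : Function.Exact S.f.hom S.g.hom :=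
    (ShortComplex.ShortExact.moduleCat_exact_iff_function_exact S).mp hS.exact
  intro e
  constructor
  · intro he
    have h1 : S.g.hom e.1 = 0 := congrArg Subtype.val he
    obtain ⟨m, hm⟩ := (hex e.1).mp h1
    refine ⟨⟨m, ?_⟩, Subtype.ext hm⟩
    obtain ⟨n, hn⟩ := e.2
    refine ⟨n, fun a ha => ?_⟩
    apply hf
    rw [map_smul, hm, hn a ha, map_zero]
  · rintro ⟨m, rfl⟩
    apply Subtype.ext
    exact (hex _).mpr ⟨m.1, rfl⟩

include hS in
theorem gΓ_surjective (h1 : ∀ x : (localCohomology J 1).obj S.X₁, x = 0) :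
    Function.Surjective (gΓ J S) := by
  rintro ⟨q, hq⟩
  obtain ⟨z, hz⟩ := exists_Φ_eq J S.X₃ q hq
  obtain ⟨w, hw⟩ := H_exact₃ J 0 S hS z (h1 _)
  refine ⟨⟨Φ J S.X₂ w, Φ_mem_torsionSub J S.X₂ w⟩, ?_⟩
  apply Subtype.ext
  change S.g.hom (Φ J S.X₂ w) = q
  rw [← hz, ← hw, Φ_naturality]

end SES

variable [IsNoetherianRing R]

/-- Comparison in positive degrees for `Γ_J`-acyclic modules. -/
theorem C (n : ℕ) : ∀ (M : Type u) [AddCommGroup M] [Module R M], Amp J 0 M →
    (∀ x : LocCoh.H I (n + 1) (DRing.torsionSub J M), x = 0) →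
    ∀ y : LocCoh.H (I ⊔ J) (n + 1) M, y = 0 := by
  induction n with
  | zero =>
    intro M _ _ hM hI y
    let S := injSES (ModuleCat.of R M)
    have hS : S.ShortExact := injSES_shortExact _
    have hEobj : Injective (ModuleCat.of R ↑S.X₂) := inferInstanceAs (Injective S.X₂)
    have hEinj : Module.Injective R S.X₂ := Module.injective_module_of_injective_object R S.X₂
    obtain ⟨z, rfl⟩ := Hδ_surjective S hS (I ⊔ J) 0 y
    have hq := Φ_mem_torsionSub (I ⊔ J) S.X₃ z
    have hqJ : Φ (I ⊔ J) S.X₃ z ∈ DRing.torsionSub J S.X₃ :=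
      torsionSub_mono (le_sup_right : J ≤ I ⊔ J) S.X₃ hq
    have hqI : Φ (I ⊔ J) S.X₃ z ∈ DRing.torsionSub I S.X₃ :=
      torsionSub_mono (le_sup_left : I ≤ I ⊔ J) S.X₃ hq
    -- the short exact sequence of torsion submodules
    have hf' := fΓ_injective J S hS
    have hg' := gΓ_surjective J S hS (hM 1 Nat.one_pos)
    have hex' := exact_fΓ_gΓ J S hS
    have hS' := Sfg_shortExact (fΓ J S) (gΓ J S) hf' hg' hex'
    have hq' : (⟨Φ (I ⊔ J) S.X₃ z, hqJ⟩ : DRing.torsionSub J S.X₃) ∈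
        DRing.torsionSub I (DRing.torsionSub J S.X₃) := by
      obtain ⟨k, hk⟩ := hqI
      exact ⟨k, fun a ha => Subtype.ext (hk a ha)⟩
    obtain ⟨z', hz'⟩ := exists_Φ_eq I (ModuleCat.of R (DRing.torsionSub J S.X₃)) _ hq'
    obtain ⟨w', hw'⟩ := H_exact₃ I 0 _ hS' z' (hI _)
    have he'I := Φ_mem_torsionSub I (ModuleCat.of R (DRing.torsionSub J S.X₂)) w'
    let e' : DRing.torsionSub J S.X₂ := Φ I (ModuleCat.of R (DRing.torsionSub J S.X₂)) w'
    have he'1 : (e' : S.X₂) ∈ DRing.torsionSub I S.X₂ := by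
      obtain ⟨k, hk⟩ := he'I
      exact ⟨k, fun a ha => congrArg Subtype.val (hk a ha)⟩
    have he' : (e' : S.X₂) ∈ DRing.torsionSub (I ⊔ J) S.X₂ :=
      mem_torsionSub_sup S.X₂ _ he'1 e'.2
    have hge' : S.g.hom (e' : S.X₂) = Φ (I ⊔ J) S.X₃ z := by
      have h1 : gΓ J S e' = ⟨Φ (I ⊔ J) S.X₃ z, hqJ⟩ := by
        rw [← hz', ← hw']
        exact (Φ_naturality I (M := ModuleCat.of R (DRing.torsionSub J S.X₂))
          (ModuleCat.ofHom (gΓ J S)) w').symm
      exact congrArg Subtype.val h1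
    obtain ⟨w, hw⟩ := exists_Φ_eq (I ⊔ J) S.X₂ _ he'
    have hzw : (localCohomology (I ⊔ J) 0).map S.g w = z := by
      apply Φ_injective (I ⊔ J) S.X₃
      rw [Φ_naturality, hw]
      exact hge'
    rw [← hzw, Hδ_map_g]
  | succ n ih =>
    intro M _ _ hM hI y
    let S := injSES (ModuleCat.of R M)
    have hS : S.ShortExact := injSES_shortExact _
    have hEobj : Injective (ModuleCat.of R ↑S.X₂) := inferInstanceAs (Injective S.X₂)
    have hEinj : Module.Injective R S.X₂ := Module.injective_module_of_injective_object R S.X₂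
    obtain ⟨z, rfl⟩ := Hδ_surjective S hS (I ⊔ J) (n + 1) y
    -- `Q` is acyclic
    have hQ : Amp J 0 S.X₃ := by
      intro q hq x
      obtain ⟨q', rfl⟩ : ∃ q', q = q' + 1 := ⟨q - 1, by omega⟩
      exact Hδ_succ_injective S hS J q' x (hM (q' + 2) (by omega) _)
    have hf' := fΓ_injective J S hS
    have hg' := gΓ_surjective J S hS (hM 1 Nat.one_pos)
    have hex' := exact_fΓ_gΓ J S hS
    have hS' := Sfg_shortExact (fΓ J S) (gΓ J S) hf' hg' hex'
    have hTinj : Module.Injective R (DRing.torsionSub J S.X₂) := injective_torsionSub J S.X₂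
    have hTobj : Injective (ModuleCat.of R (DRing.torsionSub J S.X₂)) :=
      Module.injective_object_of_injective_module R (DRing.torsionSub J S.X₂)
    have hIQ : ∀ x : LocCoh.H I (n + 1) (DRing.torsionSub J S.X₃), x = 0 := by
      intro x
      obtain ⟨v, rfl⟩ := H_exact₃ I (n + 1) _ hS' x (hI _)
      have hv : v = 0 := H_succ_eq_zero_of_injective I
        (ModuleCat.of R (DRing.torsionSub J S.X₂)) n v
      rw [hv, map_zero]
    rw [ih S.X₃ hQ hIQ z, map_zero]

theorem W (a : ℕ) (hI : Bound I a) (k : ℕ) : ∀ (M : Type u) [AddCommGroup M] [Module R M],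
    Amp J k M → ∀ n : ℕ, a + k < n → ∀ y : LocCoh.H (I ⊔ J) n M, y = 0 := by
  induction k with
  | zero =>
    intro M _ _ hM n hn y
    obtain ⟨n', rfl⟩ : ∃ n', n = n' + 1 := ⟨n - 1, by omega⟩
    exact C I J n' M hM (fun x => hI _ (n' + 1) (by omega) x) y
  | succ k ih =>
    intro M _ _ hM n hn y
    obtain ⟨n', rfl⟩ : ∃ n', n = n' + 1 := ⟨n - 1, by omega⟩
    let S := injSES (ModuleCat.of R M)
    have hS : S.ShortExact := injSES_shortExact _
    obtain ⟨z, rfl⟩ := Hδ_surjective S hS (I ⊔ J) n' y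
    have hQ : Amp J k S.X₃ := by
      intro q hq x
      obtain ⟨q', rfl⟩ : ∃ q', q = q' + 1 := ⟨q - 1, by omega⟩
      exact Hδ_succ_injective S hS J q' x (hM (q' + 2) (by omega) _)
    rw [ih S.X₃ hQ n' (by omega) z, map_zero]

theorem bound_sup (a b : ℕ) (hI : Bound I a) (hJ : Bound J b) : Bound (I ⊔ J) (a + b) := by
  intro M _ _ n hn y
  exact W I J a hI b M (fun q hq x => hJ M q hq x) n hn y

end Groth.Agent.Lib.Helper8.CdSup
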