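import Mathlib
import Groth.Agent.Lib.Helper13KzLiftB
import Groth.Agent.Lib.Helper1ExtCech4

/-!
# Helper8CechKosz

Koszul depth ⇒ vanishing of extended Čech cohomology (arbitrary commutative rings),
by dimension shifting along `M ↪ ∏ M_g`.
-/

namespace Groth.Agent.Lib.Helper8CechKosz

open CategoryTheory CategoryTheory.Limits DerCA CohIII
open Groth.Agent.Helper13Kz Groth.Agent.Helper13KzLift
open Groth.Agent.Lib.Helper1.ExtCech Groth.Agent.Lib.Helper1.ExtCech4

universe u

variable {R : Type u} [CommRing R]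

/-- a nonzero element killed by powers of all `g ∈ gs` has a nonzero multiple killed by all `g`. -/
lemma exists_common_kill {M : Type u} [AddCommGroup M] [Module R M] :
    ∀ (gs : List R) (m : M), (∀ g ∈ gs, ∃ n : ℕ, g ^ n • m = 0) → m ≠ 0 →
      ∃ y : M, y ≠ 0 ∧ (∃ c : R, y = c • m) ∧ ∀ g ∈ gs, g • y = 0
  | [], m, _, hm => ⟨m, hm, ⟨1, (one_smul _ _).symm⟩, by simp⟩
  | g :: gs, m, h, hm => by
    classical
    obtain ⟨y, hy0, ⟨c, rfl⟩, hy⟩ :=
      exists_common_kill gs m (fun g' hg' => h g' (List.mem_cons_of_mem _ hg')) hm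
    have hex : ∃ n : ℕ, g ^ n • (c • m) = 0 := by
      obtain ⟨n, hn⟩ := h g List.mem_cons_self
      exact ⟨n, by rw [smul_comm, hn, smul_zero]⟩
    have hn : g ^ (Nat.find hex) • (c • m) = 0 := Nat.find_spec hex
    have hn0 : Nat.find hex ≠ 0 := by
      intro h0
      rw [h0, pow_zero, one_smul] at hn
      exact hy0 hn
    obtain ⟨k, hk⟩ := Nat.exists_eq_succ_of_ne_zero hn0
    have hk' : ¬ g ^ k • (c • m) = 0 := Nat.find_min hex (by omega)
    rw [hk] at hn
    refine ⟨g ^ k • (c • m), hk', ⟨g ^ k * c, by rw [mul_smul]⟩, ?_⟩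
    intro g' hg'
    rcases List.mem_cons.mp hg' with rfl | hg''
    · rw [← mul_smul, ← pow_succ']
      exact hn
    · rw [smul_comm, hy g' hg'', smul_zero]

lemma torsionSub_eq_bot {M : Type u} [AddCommGroup M] [Module R M] (fs : List R)
    (h : Submodule.torsionBySet R M {x | x ∈ fs} = ⊥) :
    DRing.torsionSub (Ideal.span {x : R | x ∈ fs}) M = ⊥ := by
  rw [eq_bot_iff]
  rintro x ⟨n, hn⟩
  rw [Submodule.mem_bot]
  induction n generalizing x with
  | zero =>
    have := hn 1 (by rw [pow_zero, Ideal.one_eq_top]; exact Submodule.mem_top)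
    rwa [one_smul] at this
  | succ n ih =>
    apply ih
    intro a ha
    have hax : a • x ∈ Submodule.torsionBySet R M {x | x ∈ fs} := by
      rw [Submodule.mem_torsionBySet_iff]
      rintro ⟨g, hg⟩
      show g • a • x = 0
      rw [smul_smul]
      apply hn
      rw [pow_succ']
      exact Ideal.mul_mem_mul (Ideal.subset_span hg) ha
    rw [h, Submodule.mem_bot] at hax
    exact hax

/-- product of the localizations `M_g`, `g ∈ gs`. -/
noncomputable def E (M : Type u) [AddCommGroup M] [Module R M] : List R → ModuleCat.{u} R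
  | [] => ModuleCat.of R PUnit
  | g :: gs => ModuleCat.of R (LocalizedModule (Submonoid.powers g) M × E M gs)

/-- the canonical map `M → ∏ M_g`. -/
noncomputable def j (M : Type u) [AddCommGroup M] [Module R M] : ∀ gs : List R, M →ₗ[R] E M gs
  | [] => 0
  | g :: gs => (LocalizedModule.mkLinearMap (Submonoid.powers g) M).prod (j M gs)

lemma j_eq_zero {M : Type u} [AddCommGroup M] [Module R M] :
    ∀ (gs : List R) (m : M), j M gs m = 0 → ∀ g ∈ gs, ∃ n : ℕ, g ^ n • m = 0
  | [], _, _ => by simp
  | g :: gs, m, hm => by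
    have h1 : LocalizedModule.mkLinearMap (Submonoid.powers g) M m = 0 :=
      congrArg Prod.fst hm
    have h2 : j M gs m = 0 := congrArg Prod.snd hm
    intro g' hg'
    rcases List.mem_cons.mp hg' with rfl | hg''
    · obtain ⟨⟨_, ⟨n, rfl⟩⟩, hc⟩ :=
        (IsLocalizedModule.eq_zero_iff (Submonoid.powers g')
          (LocalizedModule.mkLinearMap (Submonoid.powers g') M)).mp h1
      exact ⟨n, hc⟩
    · exact j_eq_zero gs m h2 g' hg''

lemma j_injective {M : Type u} [AddCommGroup M] [Module R M] (fs : List R)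
    (h : Submodule.torsionBySet R M {x | x ∈ fs} = ⊥) : Function.Injective (j M fs) := by
  rw [injective_iff_map_eq_zero]
  intro m hm
  by_contra hne
  obtain ⟨y, hy0, -, hy⟩ := exists_common_kill fs m (j_eq_zero fs m hm) hne
  have : y ∈ Submodule.torsionBySet R M {x | x ∈ fs} := by
    rw [Submodule.mem_torsionBySet_iff]
    rintro ⟨g, hg⟩
    exact hy g hg
  rw [h, Submodule.mem_bot] at this
  exact hy0 this

section Cech

variable (fs : List R) {M' M M'' : ModuleCat.{u} R} (f : M' ⟶ M) (g : M ⟶ M'') (h : SE f g)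
include h

lemma cech_mid (q : ℤ) (h' : IsZero (extCechH fs M' q)) (h'' : IsZero (extCechH fs M'' q)) :
    IsZero (extCechH fs M q) := by
  have hS := (SE_iff f g h.comp_zero).1 h
  have hE := ec_shortExact (ShortComplex.mk f g h.comp_zero) hS fs
  exact (hE.homology_exact₂ q).isZero_X₂ (h'.eq_of_src _ _) (h''.eq_of_tgt _ _)

lemma cech_shift (q q' : ℤ) (hq : q + 1 = q') (h3 : IsZero (extCechH fs M'' q))
    (h2 : IsZero (extCechH fs M q')) : IsZero (extCechH fs M' q') := by
  have hS := (SE_iff f g h.comp_zero).1 h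
  have hE := ec_shortExact (ShortComplex.mk f g h.comp_zero) hS fs
  exact (hE.homology_exact₁ q q' hq).isZero_X₂ (h3.eq_of_src _ _) (h2.eq_of_tgt _ _)

end Cech

/-- Koszul cohomology vanishes if some element of the ideal acts bijectively. -/
lemma subsingleton_KH_of_bij (fs : List R) (g : R) (hg : g ∈ Ideal.span {x | x ∈ fs})
    (L : Type u) [AddCommGroup L] [Module R L] (hb : Function.Bijective (fun x : L => g • x))
    (q : ℤ) : Subsingleton (KH fs L q) := by
  let e : L ≃ₗ[R] L := LinearEquiv.ofBijective (g • (LinearMap.id : L →ₗ[R] L)) hb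
  have he : e.toLinearMap = g • (LinearMap.id : L →ₗ[R] L) := rfl
  have h1 : KHmap fs e.symm.toLinearMap q ∘ₗ KHmap fs e.toLinearMap q = LinearMap.id := by
    rw [← KHmap_comp]
    have : e.symm.toLinearMap ∘ₗ e.toLinearMap = LinearMap.id := by
      ext x; simp
    rw [this, KHmap_id]
  have key : ∀ x : KH fs L q, x = 0 := by
    intro x
    have hx : x = KHmap fs e.symm.toLinearMap q (KHmap fs e.toLinearMap q x) := by
      rw [← LinearMap.comp_apply, h1]; rfl
    rw [hx, he, KHmap_smul_id, LinearMap.smul_apply, LinearMap.id_apply,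
      smul_KH_eq_zero_of_mem L fs g hg q x, map_zero]
  exact ⟨fun a b => (key a).trans (key b).symm⟩

lemma bij_localized (g : R) (M : Type u) [AddCommGroup M] [Module R M] :
    Function.Bijective (fun x : LocalizedModule (Submonoid.powers g) M => g • x) := by
  have := IsLocalizedModule.map_units (S := Submonoid.powers g)
    (LocalizedModule.mkLinearMap (Submonoid.powers g) M) ⟨g, Submonoid.mem_powers g⟩
  rw [Module.End.isUnit_iff] at this
  exact this

/-- `∏ M_g` has no Koszul and no Čech cohomology w.r.t. `fs` if all `g` lie in the ideal. -/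
lemma vanish_E (fs : List R) (M : Type u) [AddCommGroup M] [Module R M] :
    ∀ gs : List R, (∀ g ∈ gs, g ∈ Ideal.span {x | x ∈ fs}) →
      (∀ q : ℤ, Subsingleton (KH fs (E M gs) q)) ∧
        (∀ q : ℤ, IsZero (extCechH fs (E M gs) q))
  | [], _ => by
    constructor
    · intro q
      have : Subsingleton (E M ([] : List R)) := inferInstanceAs (Subsingleton PUnit)
      exact Groth.Agent.Helper13KzLift.subsingleton_KH_of_subsingleton fs q
    · intro q
      have : Subsingleton (E M ([] : List R)) := inferInstanceAs (Subsingleton PUnit)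
      exact isZero_extCechH_of_bij fs (E M []) 0 (Submodule.zero_mem _)
        ⟨fun a b _ => Subsingleton.elim _ _, fun b => ⟨0, Subsingleton.elim _ _⟩⟩ q
  | g :: gs, hgs => by
    obtain ⟨ih1, ih2⟩ := vanish_E fs M gs (fun g' hg' => hgs g' (List.mem_cons_of_mem _ hg'))
    have hg := hgs g List.mem_cons_self
    let L := LocalizedModule (Submonoid.powers g) M
    have hb : Function.Bijective (fun x : L => g • x) := bij_localized g M
    let i1 : L →ₗ[R] (L × E M gs) := LinearMap.inl R L (E M gs)
    let p2 : (L × E M gs) →ₗ[R] E M gs := LinearMap.snd R L (E M gs)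
    have hi1 : Function.Injective i1 := LinearMap.inl_injective
    have hp2 : Function.Surjective p2 := LinearMap.snd_surjective
    have hex : Function.Exact i1 p2 := by
      intro x
      constructor
      · intro hx
        refine ⟨x.1, ?_⟩
        ext
        · rfl
        · exact (show x.2 = 0 from hx).symm
      · rintro ⟨y, rfl⟩
        rfl
    constructor
    · intro q
      exact subsingleton_KH_mid fs i1 p2 hi1 hp2 hex q
        (subsingleton_KH_of_bij fs g hg L hb q) (ih1 q)
    · intro q
      have hSE : SE (ModuleCat.ofHom i1) (ModuleCat.ofHom p2) := ⟨hi1, hex, hp2⟩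
      exact cech_mid fs (ModuleCat.ofHom i1) (ModuleCat.ofHom p2) hSE q
        (isZero_extCechH_of_bij fs (ModuleCat.of R L) g hg hb q) (ih2 q)

/-- **Koszul depth ⇒ Čech depth.** -/
theorem isZero_extCechH_of_KH (fs : List R) :
    ∀ (d : ℕ) (M : Type u) [AddCommGroup M] [Module R M],
      (∀ q : ℤ, q < (d : ℤ) - fs.length → Subsingleton (KH fs M q)) →
        ∀ q : ℤ, q < d → IsZero (extCechH fs (ModuleCat.of R M) q) := by
  intro d
  induction d with
  | zero =>
    intro M _ _ _ q hq
    exact isZero_extCechH fs _ q (Or.inl (by simpa using hq))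
  | succ d ih =>
    intro M _ _ hM q hq
    -- the bottom Koszul cohomology vanishes
    have hbot : Submodule.torsionBySet R M {x | x ∈ fs} = ⊥ := by
      obtain ⟨e⟩ := Groth.Agent.Lib.Helper21.bottom_equiv M fs (-(fs.length : ℤ)) rfl
      have : Subsingleton (KH fs M (-(fs.length : ℤ))) := hM _ (by push_cast; omega)
      rw [eq_bot_iff]
      intro x hx
      have : (⟨x, hx⟩ : Submodule.torsionBySet R M {x | x ∈ fs}) = 0 := by
        rw [← e.apply_symm_apply ⟨x, hx⟩, Subsingleton.elim (e.symm ⟨x, hx⟩) 0, map_zero]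
      rw [Submodule.mem_bot]
      exact congrArg Subtype.val this
    rcases lt_trichotomy q 0 with hq0 | hq0 | hq0
    · exact isZero_extCechH fs _ q (Or.inl hq0)
    · subst hq0
      obtain ⟨ι, hι, hr⟩ := exists_H0_embedding fs (ModuleCat.of R M)
      rw [ModuleCat.isZero_iff_subsingleton]
      have htor := torsionSub_eq_bot fs hbot
      refine ⟨fun a b => hι ?_⟩
      have ha : ι a ∈ LinearMap.range ι := ⟨a, rfl⟩
      have hb : ι b ∈ LinearMap.range ι := ⟨b, rfl⟩
      rw [hr] at ha hb
      have ha' : ι a ∈ DRing.torsionSub (Ideal.span {x : R | x ∈ fs}) M := ha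
      have hb' : ι b ∈ DRing.torsionSub (Ideal.span {x : R | x ∈ fs}) M := hb
      rw [htor, Submodule.mem_bot] at ha' hb'
      rw [ha', hb']
    · -- dimension shifting
      obtain ⟨hE1, hE2⟩ := vanish_E fs M fs (fun g hg => Ideal.subset_span hg)
      have hj := j_injective fs hbot
      let N := (E M fs) ⧸ LinearMap.range (j M fs)
      let π : E M fs →ₗ[R] N := (LinearMap.range (j M fs)).mkQ
      have hπ : Function.Surjective π := Submodule.mkQ_surjective _
      have hex : Function.Exact (j M fs) π := LinearMap.exact_map_mkQ_range (j M fs)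
      have hN : ∀ q' : ℤ, q' < (d : ℤ) - fs.length → Subsingleton (KH fs N q') := by
        intro q' hq'
        exact subsingleton_KH_shift fs (j M fs) π hj hπ hex q' (hE1 q')
          (hM (q' + 1) (by push_cast; omega))
      have hNC := ih N hN (q - 1) (by omega)
      have hSE : SE (ModuleCat.ofHom (j M fs)) (ModuleCat.ofHom π) := ⟨hj, hex, hπ⟩
      exact cech_shift fs (ModuleCat.ofHom (j M fs)) (ModuleCat.ofHom π) hSE (q - 1) q (by omega)
        hNC (hE2 q)

/-- S9267. -/
theorem main (fs : List R) (hfs : LCI.IsKoszulRegularSeq R fs) (q : ℤ)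
    (hq : q ≠ (fs.length : ℤ)) : IsZero (extCechH fs (ModuleCat.of R R) q) := by
  rcases lt_or_gt_of_ne hq with h | h
  · apply isZero_extCechH_of_KH fs fs.length R _ q h
    intro q' hq'
    exact (isKoszulRegularSeq_iff R fs).mp hfs q' (by omega)
  · exact isZero_extCechH fs _ q (Or.inr h)

end Groth.Agent.Lib.Helper8CechKosz
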