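import Mathlib
set_option backward.isDefEq.respectTransparency false
set_option backward.defeqAttrib.useBackward true

/-!
# Resolutions from an explicit covering construction (helper8)

Variant of helper1's `Helper1LRes`: instead of choosing covers from an existence statement, the
covering `cov X ⟶ X` is given as data, so that the terms of the resolution
`cov Z`, `cov (ker (cov Z ⟶ Z))`, ... are known.  This allows resolutions of objects of a
subclass `T` (closed under kernels) by objects of a class `P`, when only objects of `T` have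
`P`-covers.
-/

set_option autoImplicit false
universe v u
open CategoryTheory CategoryTheory.Limits

namespace Groth.Agent.Lib.Helper8.CovRes

variable {C : Type u} [Category.{v} C] [Abelian C] (cov : C → C) (π : ∀ X : C, cov X ⟶ X)
  [hπ : ∀ X : C, Epi (π X)]

noncomputable def syz {X Y : C} (f : X ⟶ Y) : C := cov (kernel f)

noncomputable def d {X Y : C} (f : X ⟶ Y) : syz cov f ⟶ X := π (kernel f) ≫ kernel.ι f

omit hπ in
@[reassoc (attr := simp)]
lemma d_comp {X Y : C} (f : X ⟶ Y) : d cov π f ≫ f = 0 := by simp [d]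

include hπ in
theorem exact_d_f {X Y : C} (f : X ⟶ Y) :
    (ShortComplex.mk (d cov π f) f (d_comp cov π f)).Exact := by
  let α : ShortComplex.mk (d cov π f) f (d_comp cov π f) ⟶
      ShortComplex.mk (kernel.ι f) f (by simp) :=
    { τ₁ := π _
      τ₂ := 𝟙 _
      τ₃ := 𝟙 _
      comm₁₂ := by simp [d] }
  have : Epi α.τ₁ := by dsimp [α]; infer_instance
  have : IsIso α.τ₂ := by dsimp [α]; infer_instance
  have : Mono α.τ₃ := by dsimp [α]; infer_instance
  rw [ShortComplex.exact_iff_of_epi_of_isIso_of_mono α]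
  apply ShortComplex.exact_of_f_is_kernel
  apply kernelIsKernel

noncomputable def ofComplex (Z : C) : ChainComplex C ℕ :=
  ChainComplex.mk' (cov Z) (syz cov (π Z)) (d cov π (π Z))
    (fun f => ⟨_, d cov π f, d_comp cov π f⟩)

omit hπ in
lemma ofComplex_d_1_0 (Z : C) : (ofComplex cov π Z).d 1 0 = d cov π (π Z) := by
  simp [ofComplex]

noncomputable def ofComplexXIso (Z : C) (n : ℕ) :
    (ofComplex cov π Z).X (n + 2) ≅ syz cov ((ofComplex cov π Z).d (n + 1) n) :=
  ChainComplex.mk'XIso _ _ _ _ n

omit hπ in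
lemma ofComplex_d (Z : C) (n : ℕ) :
    (ofComplex cov π Z).d (n + 2) (n + 1) =
      (ofComplexXIso cov π Z n).hom ≫ d cov π ((ofComplex cov π Z).d (n + 1) n) :=
  ChainComplex.mk'_d _ _ _ _ n

include hπ in
lemma ofComplex_exactAt_succ (Z : C) (n : ℕ) : (ofComplex cov π Z).ExactAt (n + 1) := by
  rw [HomologicalComplex.exactAt_iff' _ (n + 1 + 1) (n + 1) n (by simp) (by simp)]
  let α : (ofComplex cov π Z).sc' (n + 1 + 1) (n + 1) n ⟶
      ShortComplex.mk (d cov π ((ofComplex cov π Z).d (n + 1) n)) _ (d_comp cov π _) :=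
    { τ₁ := (ofComplexXIso cov π Z n).hom
      τ₂ := 𝟙 _
      τ₃ := 𝟙 _
      comm₁₂ := by
        dsimp
        rw [Category.comp_id]
        exact (ofComplex_d cov π Z n).symm
      comm₂₃ := by simp }
  have : Epi α.τ₁ := by dsimp [α]; infer_instance
  have : IsIso α.τ₂ := by dsimp [α]; infer_instance
  have : Mono α.τ₃ := by dsimp [α]; infer_instance
  rw [ShortComplex.exact_iff_of_epi_of_isIso_of_mono α]
  exact exact_d_f cov π _

noncomputable def toSingle (Z : C) : ofComplex cov π Z ⟶ (ChainComplex.single₀ C).obj Z :=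
  (ChainComplex.toSingle₀Equiv _ _).symm ⟨π Z, by
    rw [ofComplex_d_1_0, d_comp]⟩

include hπ in
theorem quasiIso_toSingle (Z : C) : QuasiIso (toSingle cov π Z) := ⟨fun n => by
  cases n
  · rw [ChainComplex.quasiIsoAt₀_iff, ShortComplex.quasiIso_iff_of_zeros']
    · dsimp
      refine (ShortComplex.exact_and_epi_g_iff_of_iso ?_).2
        ⟨exact_d_f cov π (π Z), by dsimp; infer_instance⟩
      exact ShortComplex.isoMk (Iso.refl _) (Iso.refl _) (Iso.refl _)
        (by simp [ofComplex]) (by simp [toSingle])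
    all_goals rfl
  · rw [quasiIsoAt_iff_exactAt']
    · apply ofComplex_exactAt_succ
    · apply ChainComplex.exactAt_succ_single_obj⟩

omit hπ in
/-- the terms of the resolution of an object of `T` satisfy `P`. -/
theorem prop_ofComplex_X (P T : ObjectProperty C) [P.IsClosedUnderIsomorphisms]
    [T.IsClosedUnderIsomorphisms] (hcov : ∀ X, T X → P (cov X) ∧ T (cov X))
    (hker : ∀ {X Y : C} (f : X ⟶ Y), T X → T (kernel f)) (Z : C) (hZ : T Z) (n : ℕ) :
    P ((ofComplex cov π Z).X n) ∧ T ((ofComplex cov π Z).X n) := by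
  induction n using Nat.strong_induction_on with
  | _ n ih =>
    obtain (_ | _ | n) := n
    · exact hcov Z hZ
    · exact hcov _ (hker _ (hcov Z hZ).2)
    · have h1 := (ih (n + 1) (by omega)).2
      have h2 := hcov _ (hker ((ofComplex cov π Z).d (n + 1) n) h1)
      exact ⟨P.prop_of_iso (ofComplexXIso cov π Z n).symm h2.1,
        T.prop_of_iso (ofComplexXIso cov π Z n).symm h2.2⟩

end Groth.Agent.Lib.Helper8.CovRes
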