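import Groth.Agent.Lib.Helper8MV

set_option autoImplicit false
universe u
open CategoryTheory CategoryTheory.Limits Opposite

/-! Abstract long exact sequences from three cohomological delta-families. -/

namespace Groth.Agent.Lib.Helper8.DF

open Groth.Agent.Lib.Helper8.ExtLES Groth.Agent.Lib.Helper8.LC Groth.Agent.Lib.Helper8.MV

/-- A family of (pre)functors with connecting maps and long exact sequences, effaceable on
injectives. -/
structure DFam (R : Type u) [CommRing R] where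
  T : ℕ → ModuleCat.{u} R → ModuleCat.{u} R
  map : ∀ (i : ℕ) {X Y : ModuleCat.{u} R}, (X ⟶ Y) → (T i X ⟶ T i Y)
  δ : ∀ (i : ℕ) (S : ShortComplex (ModuleCat.{u} R)), S.ShortExact → (T i S.X₃ ⟶ T (i + 1) S.X₁)
  exact_fg : ∀ (i : ℕ) (S : ShortComplex (ModuleCat.{u} R)), S.ShortExact →
    Function.Exact (map i S.f).hom (map i S.g).hom
  exact_gδ : ∀ (i : ℕ) (S : ShortComplex (ModuleCat.{u} R)) (hS : S.ShortExact),
    Function.Exact (map i S.g).hom (δ i S hS).hom
  exact_δf : ∀ (i : ℕ) (S : ShortComplex (ModuleCat.{u} R)) (hS : S.ShortExact),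
    Function.Exact (δ i S hS).hom (map (i + 1) S.f).hom
  inj_zero : ∀ (S : ShortComplex (ModuleCat.{u} R)), S.ShortExact →
    Function.Injective (map 0 S.f).hom
  vanish : ∀ (i : ℕ) (X : ModuleCat.{u} R) [Injective X] (x : T (i + 1) X), x = 0

variable {R : Type u} [CommRing R]

/-- A morphism of delta-families. -/
structure DHom (A B : DFam R) where
  app : ∀ (i : ℕ) (X : ModuleCat.{u} R), A.T i X ⟶ B.T i X
  nat : ∀ (i : ℕ) {X Y : ModuleCat.{u} R} (g : X ⟶ Y) (x : A.T i X),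
    (app i Y).hom ((A.map i g).hom x) = (B.map i g).hom ((app i X).hom x)
  comm : ∀ (i : ℕ) (S : ShortComplex (ModuleCat.{u} R)) (hS : S.ShortExact) (z : A.T i S.X₃),
    (app (i + 1) S.X₁).hom ((A.δ i S hS).hom z) = (B.δ i S hS).hom ((app i S.X₃).hom z)

theorem δ_surjective (A : DFam R) (S : ShortComplex (ModuleCat.{u} R)) (hS : S.ShortExact)
    [Injective S.X₂] (i : ℕ) (x : A.T (i + 1) S.X₁) : ∃ z, (A.δ i S hS).hom z = x :=
  ((A.exact_δf i S hS) x).mp (A.vanish i S.X₂ _)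

theorem δ_succ_injective (A : DFam R) (S : ShortComplex (ModuleCat.{u} R)) (hS : S.ShortExact)
    [Injective S.X₂] (i : ℕ) (z : A.T (i + 1) S.X₃) (hz : (A.δ (i + 1) S hS).hom z = 0) :
    z = 0 := by
  obtain ⟨y, rfl⟩ := ((A.exact_gδ (i + 1) S hS) z).mp hz
  rw [A.vanish i S.X₂ y, map_zero]

variable {A B C : DFam R} (p : DHom A B) (d : DHom B C)

/-- exactness in the middle. -/
def PA (i : ℕ) (X : ModuleCat.{u} R) : Prop :=
  Function.Exact (p.app i X).hom (d.app i X).hom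

/-- existence of a connecting map with exactness on both sides. -/
def PB (i : ℕ) (X : ModuleCat.{u} R) : Prop :=
  ∃ δ : C.T i X →ₗ[R] A.T (i + 1) X,
    Function.Exact (d.app i X).hom δ ∧ Function.Exact δ (p.app (i + 1) X).hom

variable (S : ShortComplex (ModuleCat.{u} R)) (hS : S.ShortExact)

include hS in
theorem PA_step [Injective S.X₂] (i : ℕ) (hsurj : Function.Surjective (d.app i S.X₂).hom)
    (h : PA p d i S.X₃) : PA p d (i + 1) S.X₁ := by
  intro x
  constructor
  · intro hx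
    obtain ⟨x', rfl⟩ := δ_surjective B S hS i x
    have h1 : (C.δ i S hS).hom ((d.app i S.X₃).hom x') = 0 := by
      rw [← d.comm]
      exact hx
    obtain ⟨e, he⟩ := ((C.exact_gδ i S hS) _).mp h1
    obtain ⟨e', rfl⟩ := hsurj e
    rw [← d.nat] at he
    have h2 : (d.app i S.X₃).hom (x' - (B.map i S.g).hom e') = 0 := by
      rw [map_sub, he, sub_self]
    obtain ⟨w', hw'⟩ := (h _).mp h2
    refine ⟨(A.δ i S hS).hom w', ?_⟩
    rw [p.comm, hw', map_sub, ((B.exact_gδ i S hS) _).mpr ⟨e', rfl⟩, sub_zero]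
  · rintro ⟨w, rfl⟩
    obtain ⟨w', rfl⟩ := δ_surjective A S hS i w
    rw [p.comm, d.comm, (h _).mpr ⟨w', rfl⟩, map_zero]

include hS in
theorem PB_step [Injective S.X₂] (i : ℕ) (hsurj : Function.Surjective (d.app i S.X₂).hom)
    (h : PB p d i S.X₃) : PB p d (i + 1) S.X₁ := by
  obtain ⟨δ', hδ1, hδ2⟩ := h
  have hker : ∀ z, (C.δ i S hS).hom z = 0 → ((A.δ (i + 1) S hS).hom ∘ₗ δ') z = 0 := by
    intro z hz
    obtain ⟨e, rfl⟩ := ((C.exact_gδ i S hS) z).mp hz
    obtain ⟨e', rfl⟩ := hsurj e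
    rw [← d.nat, LinearMap.comp_apply, (hδ1 _).mpr ⟨_, rfl⟩, map_zero]
  obtain ⟨δ, hδ⟩ := exists_factor (C.δ i S hS).hom (δ_surjective C S hS i) _ hker
  have hδ' : ∀ z', δ ((C.δ i S hS).hom z') = (A.δ (i + 1) S hS).hom (δ' z') := hδ
  refine ⟨δ, ?_, ?_⟩
  · intro z
    obtain ⟨z', rfl⟩ := δ_surjective C S hS i z
    rw [hδ']
    constructor
    · intro h0
      have h1 : δ' z' = 0 := δ_succ_injective A S hS i _ h0
      obtain ⟨w', hw'⟩ := (hδ1 z').mp h1
      exact ⟨(B.δ i S hS).hom w', by rw [d.comm, hw']⟩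
    · rintro ⟨w, hw⟩
      obtain ⟨w', rfl⟩ := δ_surjective B S hS i w
      have h1 : (C.δ i S hS).hom (z' - (d.app i S.X₃).hom w') = 0 := by
        rw [map_sub, ← d.comm, sub_eq_zero]
        exact hw.symm
      obtain ⟨e, he⟩ := ((C.exact_gδ i S hS) _).mp h1
      obtain ⟨e', rfl⟩ := hsurj e
      rw [← d.nat] at he
      have h2 : δ' z' = 0 := (hδ1 z').mpr ⟨w' + (B.map i S.g).hom e', by
        rw [map_add, he]; abel⟩
      rw [h2, map_zero]
  · intro y
    obtain ⟨y', rfl⟩ := δ_surjective A S hS (i + 1) y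
    rw [p.comm]
    constructor
    · intro h0
      have h1 : (p.app (i + 1) S.X₃).hom y' = 0 := δ_succ_injective B S hS i _ h0
      obtain ⟨z', hz'⟩ := (hδ2 y').mp h1
      exact ⟨(C.δ i S hS).hom z', by rw [hδ', hz']⟩
    · rintro ⟨z, hz⟩
      obtain ⟨z', rfl⟩ := δ_surjective C S hS i z
      rw [hδ'] at hz
      have h1 : y' = δ' z' := by
        have h2 : (A.δ (i + 1) S hS).hom (y' - δ' z') = 0 := by
          rw [map_sub, hz, sub_self]
        exact sub_eq_zero.mp (δ_succ_injective A S hS i _ h2)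
      rw [h1, (hδ2 _).mpr ⟨z', rfl⟩, map_zero]

include hS in
theorem PB_zero [Injective S.X₂] (hsurj : Function.Surjective (d.app 0 S.X₂).hom)
    (hinj : Function.Injective (p.app 0 S.X₃).hom)
    (h2 : PA p d 0 S.X₂) (h3 : PA p d 0 S.X₃) : PB p d 0 S.X₁ := by
  have h₁ : (p.app 0 S.X₃).hom.comp (A.map 0 S.g).hom = (B.map 0 S.g).hom.comp (p.app 0 S.X₂).hom := by
    apply LinearMap.ext
    intro w
    exact p.nat 0 S.g w
  have h₂ : (d.app 0 S.X₃).hom.comp (B.map 0 S.g).hom = (C.map 0 S.g).hom.comp (d.app 0 S.X₂).hom := by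
    apply LinearMap.ext
    intro z
    exact d.nat 0 S.g z
  have hF : (d.app 0 S.X₂).hom.comp (B.map 0 S.f).hom =
      (C.map 0 S.f).hom.comp (d.app 0 S.X₁).hom := by
    apply LinearMap.ext
    intro z
    exact d.nat 0 S.f z
  have hG : (p.app 1 S.X₁).hom.comp (A.δ 0 S hS).hom =
      (B.δ 0 S hS).hom.comp (p.app 0 S.X₃).hom := by
    apply LinearMap.ext
    intro w
    exact p.comm 0 S hS w
  refine ⟨SnakeLemma.δ' (A.map 0 S.g).hom (B.map 0 S.g).hom (C.map 0 S.g).hom
    (p.app 0 S.X₂).hom (d.app 0 S.X₂).hom h2 (p.app 0 S.X₃).hom (d.app 0 S.X₃).hom h3 h₁ h₂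
    (C.map 0 S.f).hom (C.exact_fg 0 S hS) (A.δ 0 S hS).hom (A.exact_gδ 0 S hS) hsurj hinj, ?_, ?_⟩
  · exact SnakeLemma.exact_δ'_right _ _ _ _ _ _ _ _ _ _ _
      (B.map 0 S.f).hom (B.exact_fg 0 S hS)
      _ _ _ _ _ _ (d.app 0 S.X₁).hom hF (C.inj_zero S hS)
  · exact SnakeLemma.exact_δ'_left _ _ _ _ _ _ _ _ _ _ _ _ _ _ _
      (B.δ 0 S hS).hom (B.exact_gδ 0 S hS)
      _ _ (p.app 1 S.X₁).hom hG (δ_surjective A S hS 0)

theorem d_surjective (hsurj : ∀ (X : ModuleCat.{u} R) [Injective X],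
    Function.Surjective (d.app 0 X).hom) (X : ModuleCat.{u} R) [Injective X] (i : ℕ) :
    Function.Surjective (d.app i X).hom := by
  cases i with
  | zero => exact hsurj X
  | succ n =>
    intro z
    exact ⟨0, by rw [map_zero]; exact (C.vanish n X z).symm⟩

/-- The long exact sequence attached to `A → B → C` which is left exact in degree `0` and right
exact in degree `0` on injectives. -/
theorem PA_PB_all (hinj : ∀ X : ModuleCat.{u} R, Function.Injective (p.app 0 X).hom)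
    (hex : ∀ X : ModuleCat.{u} R, Function.Exact (p.app 0 X).hom (d.app 0 X).hom)
    (hsurj : ∀ (X : ModuleCat.{u} R) [Injective X], Function.Surjective (d.app 0 X).hom) (i : ℕ) :
    ∀ X : ModuleCat.{u} R, PA p d i X ∧ PB p d i X := by
  induction i with
  | zero =>
    intro X
    exact ⟨hex X, PB_zero p d (injSES X) (injSES_shortExact X) (hsurj _) (hinj _) (hex _) (hex _)⟩
  | succ i ih =>
    intro X
    exact ⟨PA_step p d (injSES X) (injSES_shortExact X) i
        (d_surjective d hsurj (injSES X).X₂ i) (ih _).1,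
      PB_step p d (injSES X) (injSES_shortExact X) i
        (d_surjective d hsurj (injSES X).X₂ i) (ih _).2⟩

end Groth.Agent.Lib.Helper8.DF
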