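import Mathlib
import Groth.Agent.Lib.Helper13Delta
import Groth.Agent.Lib.Helper8NatBal

/-!
# Dimension shifting with an arbitrary class of acyclic objects (helper8)

Generalization of `Helper13Delta`: `T n : A ⥤ E` with connecting maps and partial long exact
sequences, `T (n+1)` vanishing on objects satisfying a predicate `P`, `T 0 ≅ F` right exact.  Then
for a complex `K` of `P`-objects, exact in positive degrees, with `K.opcycles 0 ≅ M`, we get
`T n M ≅ H_n (F K)`.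
-/

set_option autoImplicit false
open CategoryTheory CategoryTheory.Limits

namespace Groth.Agent.Lib.Helper8.DeltaP

open Groth.Agent.Helper13Delta Groth.Agent.Lib.Helper8.NatBal

universe v v' u u'
variable {A : Type u} [Category.{v} A] [Abelian A] {E : Type u'} [Category.{v'} E] [Abelian E]

/-- connecting maps with partial long exact sequences, vanishing on `P`-objects in positive
degrees. -/
structure IsEffDeltaP (T : ℕ → A ⥤ E) (P : A → Prop) : Prop where
  exists_δ : ∀ (S : ShortComplex A), S.ShortExact → ∀ n : ℕ,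
    ∃ (δ : (T (n + 1)).obj S.X₃ ⟶ (T n).obj S.X₁)
      (w₁ : (T (n + 1)).map S.g ≫ δ = 0) (w₂ : δ ≫ (T n).map S.f = 0),
      (ShortComplex.mk _ _ w₁).Exact ∧ (ShortComplex.mk _ _ w₂).Exact
  isZero_of_P : ∀ (X : A), P X → ∀ n : ℕ, IsZero ((T (n + 1)).obj X)

variable {T : ℕ → A ⥤ E} {P : A → Prop} (hT : IsEffDeltaP T P)

include hT in
theorem shift (S : ShortComplex A) (hS : S.ShortExact) (hP : P S.X₂) (n : ℕ) :
    Nonempty ((T (n + 2)).obj S.X₃ ≅ (T (n + 1)).obj S.X₁) := by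
  obtain ⟨δ, w₁, w₂, h₁, h₂⟩ := hT.exists_δ S hS (n + 1)
  have hm : Mono δ := h₁.mono_g ((hT.isZero_of_P S.X₂ hP (n + 1)).eq_of_src _ _)
  have he : Epi δ := h₂.epi_f ((hT.isZero_of_P S.X₂ hP n).eq_of_tgt _ _)
  have := isIso_of_mono_of_epi δ
  exact ⟨asIso δ⟩

include hT in
theorem exists_kernel (F : A ⥤ E) (e : T 0 ≅ F) (S : ShortComplex A) (hS : S.ShortExact)
    (hP : P S.X₂) :
    ∃ (ι : (T 1).obj S.X₃ ⟶ F.obj S.X₁) (w : ι ≫ F.map S.f = 0),
      Nonempty (IsLimit (KernelFork.ofι ι w)) := by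
  obtain ⟨δ, w₁, w₂, h₁, h₂⟩ := hT.exists_δ S hS 0
  have hm : Mono δ := h₁.mono_g ((hT.isZero_of_P S.X₂ hP 0).eq_of_src _ _)
  have w : (δ ≫ e.hom.app S.X₁) ≫ F.map S.f = 0 := by
    rw [Category.assoc, ← e.hom.naturality, reassoc_of% w₂, zero_comp]
  have hex : (ShortComplex.mk _ _ w).Exact := by
    have iso : ShortComplex.mk _ _ w₂ ≅ ShortComplex.mk _ _ w :=
      ShortComplex.isoMk (Iso.refl _) (e.app S.X₁) (e.app S.X₂) (by simp) (by simp)
    exact ShortComplex.exact_of_iso iso h₂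
  have : Mono (δ ≫ e.hom.app S.X₁) := mono_comp _ _
  exact ⟨_, w, ⟨hex.fIsKernel⟩⟩

include hT in
theorem shift_iter (K : ChainComplex A ℕ) (hK : ∀ j, K.ExactAt (j + 1))
    (hP : ∀ j, P (K.X j)) (n : ℕ) :
    ∀ (j k : ℕ), k = j + n →
      Nonempty ((T (n + 1)).obj (K.opcycles j) ≅ (T 1).obj (K.opcycles k)) := by
  induction n with
  | zero =>
    rintro j k rfl
    exact ⟨Iso.refl _⟩
  | succ n ih =>
    rintro j k rfl
    obtain ⟨e₁⟩ := shift hT (syz K j) (syz_shortExact K j (hK j)) (hP j) n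
    obtain ⟨e₂⟩ := ih (j + 1) (j + (n + 1)) (by omega)
    exact ⟨e₁ ≪≫ e₂⟩

include hT in
theorem nonempty_iso_succ (F : A ⥤ E) [F.Additive] [PreservesFiniteColimits F] (e : T 0 ≅ F)
    {M : A} (K : ChainComplex A ℕ) (hK : ∀ j, K.ExactAt (j + 1)) (hP : ∀ j, P (K.X j))
    (iso0 : K.opcycles 0 ≅ M) (n : ℕ) :
    Nonempty ((T (n + 1)).obj M ≅
      ((F.mapHomologicalComplex _).obj K).homology (n + 1)) := by
  obtain ⟨e₁⟩ := shift_iter hT K hK hP n 0 n (by omega)
  obtain ⟨ι, w, ⟨hι⟩⟩ := exists_kernel hT F e (syz K n) (syz_shortExact K n (hK n)) (hP n)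
  let FK := (F.mapHomologicalComplex (ComplexShape.down ℕ)).obj K
  have wp : (FK.sc' (n + 2) (n + 1) n).f ≫ F.map (K.pOpcycles (n + 1)) = 0 := by
    show F.map (K.d (n + 2) (n + 1)) ≫ F.map (K.pOpcycles (n + 1)) = 0
    rw [← F.map_comp, K.d_pOpcycles, F.map_zero]
  have hp : IsColimit (CokernelCofork.ofπ (F.map (K.pOpcycles (n + 1))) wp) :=
    CokernelCofork.mapIsColimit _ (K.opcyclesIsCokernel (n + 2) (n + 1) (by simp)) F
  obtain ⟨e₂⟩ := homology_iso_of_cokernel_kernel (FK.sc' (n + 2) (n + 1) n)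
    (F.map (K.pOpcycles (n + 1))) wp hp (F.map (K.fromOpcycles (n + 1) n))
    (by
      show F.map (K.pOpcycles (n + 1)) ≫ F.map (K.fromOpcycles (n + 1) n) =
        F.map (K.d (n + 1) n)
      rw [← F.map_comp, K.p_fromOpcycles]) ι w hι
  exact ⟨(T (n + 1)).mapIso iso0.symm ≪≫ e₁ ≪≫ e₂.symm ≪≫
    (FK.homologyIsoSc' (n + 2) (n + 1) n (by simp) (by simp)).symm⟩

theorem nonempty_iso_zero (F : A ⥤ E) [F.Additive] [PreservesFiniteColimits F]
    (e : T 0 ≅ F) {M : A} (K : ChainComplex A ℕ) (iso0 : K.opcycles 0 ≅ M) :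
    Nonempty ((T 0).obj M ≅ ((F.mapHomologicalComplex _).obj K).homology 0) :=
  ⟨e.app M ≪≫ F.mapIso iso0.symm ≪≫
    (cOp F K 0 (K.pOpcycles 0) (K.d_pOpcycles 1 0)
      (K.opcyclesIsCokernel 1 0 (by simp))).symm ≪≫
    (ChainComplex.isoHomologyι₀ (FK F K)).symm⟩

include hT in
/-- **Dimension shifting** with `P`-acyclic resolutions. -/
theorem nonempty_iso (F : A ⥤ E) [F.Additive] [PreservesFiniteColimits F] (e : T 0 ≅ F)
    {M : A} (K : ChainComplex A ℕ) (hK : ∀ j, K.ExactAt (j + 1)) (hP : ∀ j, P (K.X j))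
    (iso0 : K.opcycles 0 ≅ M) (n : ℕ) :
    Nonempty ((T n).obj M ≅ ((F.mapHomologicalComplex _).obj K).homology n) := by
  cases n with
  | zero => exact nonempty_iso_zero F e K iso0
  | succ n => exact nonempty_iso_succ hT F e K hK hP iso0 n

/-- data from a quasi-isomorphism to a complex concentrated in degree `0`. -/
theorem exactAt_succ_of_quasiIso {M : A} (K : ChainComplex A ℕ)
    (φ : K ⟶ (ChainComplex.single₀ A).obj M) [QuasiIso φ] (j : ℕ) : K.ExactAt (j + 1) := by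
  rw [← quasiIsoAt_iff_exactAt' φ (j + 1) (ChainComplex.exactAt_succ_single_obj _ _)]
  infer_instance

/-- `K.opcycles 0 ≅ M` for a quasi-isomorphism `K ⟶ M[0]`. -/
noncomputable def opcyclesZeroIso {M : A} (K : ChainComplex A ℕ)
    (φ : K ⟶ (ChainComplex.single₀ A).obj M) [QuasiIso φ] : K.opcycles 0 ≅ M :=
  K.isoHomologyι₀.symm ≪≫ isoOfQuasiIsoAt φ 0 ≪≫
    HomologicalComplex.singleObjHomologySelfIso _ _ _

end Groth.Agent.Lib.Helper8.DeltaP
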