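import Mathlib
import Groth.Agent.Lib.Helper8ExtPres

/-!
# `Ext¹` of a module with several generators inside a domain (helper8)

`R ⊆ B` a domain, `M = R·1 + Σ R·m_s`, `N ⊆ B`.  Given syzygies `κ_t` that span all syzygies
over `B` (and a conductor element `w` with `wB ⊆ R`), `Ext¹(M, N) ≃ₗ DG / PG` for explicit
submodules of `B^r`.
-/

set_option autoImplicit false
set_option linter.style.haveILetI false
set_option linter.unusedSectionVars false
open CategoryTheory

namespace Groth.Agent.Lib.Helper8.ExtPres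

universe u

section Gen

variable {R B : Type u} [CommRing R] [CommRing B] [IsDomain B] [Algebra R B]
  (hinj : Function.Injective (algebraMap R B)) {r : ℕ} (m : Fin r → B) (N : Submodule R B)
  (κ : Fin r → R × (Fin r → R))
  (hκ : ∀ t, (κ t).1 • (1 : B) + ∑ s, (κ t).2 s • m s = 0)
  (w : R) (hw : w ≠ 0) (hwB : ∀ b : B, ∃ a : R, a • (1 : B) = w • b)
  (hspan : ∀ (a : R) (y : Fin r → R), a • (1 : B) + ∑ s, y s • m s = 0 →
     ∃ b : Fin r → B, ∀ s, y s • (1 : B) = ∑ t, b t * ((κ t).2 s • (1 : B)))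
  (hindep : ∀ b : Fin r → B, (∀ s, ∑ t, b t * ((κ t).2 s • (1 : B)) = 0) → b = 0)

/-- the submodule `DG ⊆ B^r`. -/
def DG : Submodule R (Fin r → B) where
  carrier := {z | ∀ (a : R) (y : Fin r → R), a • (1 : B) + ∑ s, y s • m s = 0 →
    ∀ b : Fin r → B, (∀ s, y s • (1 : B) = ∑ t, b t * ((κ t).2 s • (1 : B))) →
      ∑ t, b t * z t ∈ N}
  zero_mem' := by
    intro a y _ b _
    simp
  add_mem' := by
    intro z z' hz hz' a y h b hb
    have : ∑ t, b t * (z + z') t = ∑ t, b t * z t + ∑ t, b t * z' t := by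
      rw [← Finset.sum_add_distrib]
      refine Finset.sum_congr rfl fun t _ => ?_
      rw [Pi.add_apply, mul_add]
    rw [this]
    exact N.add_mem (hz a y h b hb) (hz' a y h b hb)
  smul_mem' := by
    intro c z hz a y h b hb
    have : ∑ t, b t * (c • z) t = c • ∑ t, b t * z t := by
      rw [Finset.smul_sum]
      refine Finset.sum_congr rfl fun t _ => ?_
      rw [Pi.smul_apply, mul_smul_comm]
    rw [this]
    exact N.smul_mem c (hz a y h b hb)

theorem mem_DG (z : Fin r → B) : z ∈ DG m N κ ↔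
    ∀ (a : R) (y : Fin r → R), a • (1 : B) + ∑ s, y s • m s = 0 →
    ∀ b : Fin r → B, (∀ s, y s • (1 : B) = ∑ t, b t * ((κ t).2 s • (1 : B))) →
      ∑ t, b t * z t ∈ N := Iff.rfl

/-- the submodule `PG ⊆ B^r`. -/
def PG : Submodule R (Fin r → B) where
  carrier := {z | ∃ u₀ ∈ N, ∃ u : Fin r → B, (∀ s, u s ∈ N) ∧
    ∀ t, z t = (κ t).1 • u₀ + ∑ s, (κ t).2 s • u s}
  zero_mem' := ⟨0, N.zero_mem, 0, fun _ => N.zero_mem, fun t => by simp⟩
  add_mem' := by
    rintro z z' ⟨u₀, hu₀, u, hu, hz⟩ ⟨u₀', hu₀', u', hu', hz'⟩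
    refine ⟨u₀ + u₀', N.add_mem hu₀ hu₀', u + u', fun s => N.add_mem (hu s) (hu' s), fun t => ?_⟩
    rw [Pi.add_apply, hz t, hz' t, smul_add]
    have : ∑ s, (κ t).2 s • (u + u') s = ∑ s, (κ t).2 s • u s + ∑ s, (κ t).2 s • u' s := by
      rw [← Finset.sum_add_distrib]
      refine Finset.sum_congr rfl fun s _ => ?_
      rw [Pi.add_apply, smul_add]
    rw [this]
    abel
  smul_mem' := by
    rintro c z ⟨u₀, hu₀, u, hu, hz⟩
    refine ⟨c • u₀, N.smul_mem c hu₀, c • u, fun s => N.smul_mem c (hu s), fun t => ?_⟩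
    rw [Pi.smul_apply, hz t, smul_add, smul_comm c, Finset.smul_sum]
    congr 1
    refine Finset.sum_congr rfl fun s _ => ?_
    rw [Pi.smul_apply, smul_comm c]

theorem mem_PG (z : Fin r → B) : z ∈ PG N κ ↔ ∃ u₀ ∈ N, ∃ u : Fin r → B, (∀ s, u s ∈ N) ∧
    ∀ t, z t = (κ t).1 • u₀ + ∑ s, (κ t).2 s • u s := Iff.rfl

variable {M₀ : Type u} [AddCommGroup M₀] [Module R M₀] (p : (R × (Fin r → R)) →ₗ[R] M₀)
  (hp : Function.Surjective p)
  (hpker : ∀ a y, p (a, y) = 0 ↔ a • (1 : B) + ∑ s, y s • m s = 0)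

/-- the given syzygies as elements of the kernel. -/
def κK (t : Fin r) : LinearMap.ker p := ⟨κ t, (hpker _ _).mpr (hκ t)⟩

include hinj hκ in
/-- `w • κ' = Σ β_t • κ_t` when `κ' = Σ b_t κ_t` over `B` and `β_t = w b_t`. -/
theorem smul_eq_sum (a : R) (y : Fin r → R) (h : a • (1 : B) + ∑ s, y s • m s = 0)
    (b : Fin r → B) (hb : ∀ s, y s • (1 : B) = ∑ t, b t * ((κ t).2 s • (1 : B)))
    (β : Fin r → R) (hβ : ∀ t, β t • (1 : B) = w • b t) :
    w • (a, y) = ∑ t, β t • κ t := by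
  have h2 : ∀ s, w * y s = ∑ t, β t * (κ t).2 s := by
    intro s
    apply hinj
    have e1 : algebraMap R B (w * y s) = w • (y s • (1 : B)) := by
      rw [Algebra.smul_def, Algebra.smul_def, mul_one, map_mul]
    rw [e1, hb s, Finset.smul_sum, map_sum]
    refine Finset.sum_congr rfl fun t _ => ?_
    rw [← smul_mul_assoc, ← hβ t, Algebra.smul_def, Algebra.smul_def, mul_one, mul_one, map_mul]
  apply Prod.ext
  · change w * a = (∑ t, β t • κ t).1
    rw [Prod.fst_sum]
    change w * a = ∑ t, β t * (κ t).1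
    apply hinj
    have e1 : algebraMap R B (w * a) = -(∑ s, algebraMap R B (w * y s) * m s) := by
      have h1 : a • (1 : B) = -∑ s, y s • m s := eq_neg_of_add_eq_zero_left h
      rw [map_mul, ← mul_one (algebraMap R B a), ← Algebra.smul_def a, h1, mul_neg, Finset.mul_sum]
      congr 1
      refine Finset.sum_congr rfl fun s _ => ?_
      rw [Algebra.smul_def, map_mul, mul_assoc]
    have e2 : algebraMap R B (∑ t, β t * (κ t).1) =
        -(∑ t, algebraMap R B (β t) * ∑ s, algebraMap R B ((κ t).2 s) * m s) := by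
      rw [map_sum, ← Finset.sum_neg_distrib]
      refine Finset.sum_congr rfl fun t _ => ?_
      have h1 : (κ t).1 • (1 : B) = -∑ s, (κ t).2 s • m s := eq_neg_of_add_eq_zero_left (hκ t)
      rw [map_mul, ← mul_one (algebraMap R B (κ t).1), ← Algebra.smul_def (κ t).1, h1, mul_neg]
      congr 2
      refine Finset.sum_congr rfl fun s _ => ?_
      rw [Algebra.smul_def]
    rw [e1, e2]
    congr 1
    have e3 : ∀ s, algebraMap R B (w * y s) * m s =
        ∑ t, algebraMap R B (β t) * (algebraMap R B ((κ t).2 s) * m s) := by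
      intro s
      rw [h2 s, map_sum, Finset.sum_mul]
      refine Finset.sum_congr rfl fun t _ => ?_
      rw [map_mul, mul_assoc]
    rw [Finset.sum_congr rfl fun s _ => e3 s, Finset.sum_comm]
    refine Finset.sum_congr rfl fun t _ => ?_
    rw [Finset.mul_sum]
  · funext s
    change w * y s = (∑ t, β t • κ t).2 s
    rw [Prod.snd_sum, Finset.sum_apply]
    exact h2 s

end Gen

section Gen2

variable {R B : Type u} [CommRing R] [CommRing B] [IsDomain B] [Algebra R B]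
  (hinj : Function.Injective (algebraMap R B)) {r : ℕ} (m : Fin r → B) (N : Submodule R B)
  (κ : Fin r → R × (Fin r → R))
  (hκ : ∀ t, (κ t).1 • (1 : B) + ∑ s, (κ t).2 s • m s = 0)
  (w : R) (hw : w ≠ 0) (hwB : ∀ b : B, ∃ a : R, a • (1 : B) = w • b)
  (hspan : ∀ (a : R) (y : Fin r → R), a • (1 : B) + ∑ s, y s • m s = 0 →
     ∃ b : Fin r → B, ∀ s, y s • (1 : B) = ∑ t, b t * ((κ t).2 s • (1 : B)))
  (hindep : ∀ b : Fin r → B, (∀ s, ∑ t, b t * ((κ t).2 s • (1 : B)) = 0) → b = 0)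
  {M₀ : Type u} [AddCommGroup M₀] [Module R M₀] (p : (R × (Fin r → R)) →ₗ[R] M₀)
  (hp : Function.Surjective p)
  (hpker : ∀ a y, p (a, y) = 0 ↔ a • (1 : B) + ∑ s, y s • m s = 0)
  {N₀ : Type u} [AddCommGroup N₀] [Module R N₀] (j : N₀ →ₗ[R] B)
  (hj : Function.Injective j) (hN : LinearMap.range j = N)

/-- evaluation at the given syzygies. -/
noncomputable def evG : (LinearMap.ker p →ₗ[R] N₀) →ₗ[R] (Fin r → B) :=
  LinearMap.pi fun t => j ∘ₗ LinearMap.applyₗ (κK m κ hκ p hpker t)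

theorem evG_apply (φ : LinearMap.ker p →ₗ[R] N₀) (t : Fin r) :
    evG m κ hκ p hpker j φ t = j (φ (κK m κ hκ p hpker t)) := rfl

include hinj hw hwB in
/-- the value of `φ` at a syzygy in terms of its values at the given syzygies. -/
theorem apply_eq_sum (φ : LinearMap.ker p →ₗ[R] N₀) (κ' : LinearMap.ker p)
    (b : Fin r → B) (hb : ∀ s, κ'.1.2 s • (1 : B) = ∑ t, b t * ((κ t).2 s • (1 : B))) :
    j (φ κ') = ∑ t, b t * evG m κ hκ p hpker j φ t := by
  have h := (hpker κ'.1.1 κ'.1.2).mp κ'.2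
  choose β hβ using fun t => hwB (b t)
  have e1 : w • κ' = ∑ t, β t • κK m κ hκ p hpker t := by
    apply Subtype.ext
    rw [Submodule.coe_smul, Submodule.coe_sum]
    exact smul_eq_sum hinj m κ hκ w κ'.1.1 κ'.1.2 h b hb β hβ
  have hw' : algebraMap R B w ≠ 0 := fun h0 => hw (hinj (h0.trans (map_zero _).symm))
  apply mul_left_cancel₀ hw'
  rw [← Algebra.smul_def, ← map_smul, ← map_smul, e1, map_sum, map_sum, Finset.mul_sum]
  refine Finset.sum_congr rfl fun t _ => ?_
  rw [map_smul, map_smul, evG_apply, ← mul_assoc, ← Algebra.smul_def w, ← hβ t, Algebra.smul_def,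
    Algebra.smul_def, mul_one]

include hinj hw hwB hN in
theorem evG_mem_DG (φ : LinearMap.ker p →ₗ[R] N₀) : evG m κ hκ p hpker j φ ∈ DG m N κ := by
  intro a y h b hb
  have hmem : ∀ n₀ : N₀, j n₀ ∈ N := fun n₀ => hN ▸ LinearMap.mem_range_self j n₀
  rw [← apply_eq_sum hinj m κ hκ w hw hwB p hpker j φ ⟨(a, y), (hpker a y).mpr h⟩ b hb]
  exact hmem _

/-- evaluation, with values in `DG`. -/
noncomputable def evDG : (LinearMap.ker p →ₗ[R] N₀) →ₗ[R] DG m N κ :=
  LinearMap.codRestrict _ (evG m κ hκ p hpker j) (evG_mem_DG hinj m N κ hκ w hw hwB p hpker j hN)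

include hspan hj in
theorem evDG_injective : Function.Injective (evDG hinj m N κ hκ w hw hwB p hpker j hN) := by
  rw [injective_iff_map_eq_zero]
  intro φ hφ
  have h0 : evG m κ hκ p hpker j φ = 0 := congrArg Subtype.val hφ
  apply LinearMap.ext
  intro κ'
  apply hj
  obtain ⟨b, hb⟩ := hspan κ'.1.1 κ'.1.2 ((hpker κ'.1.1 κ'.1.2).mp κ'.2)
  rw [apply_eq_sum hinj m κ hκ w hw hwB p hpker j φ κ' b hb, h0]
  simp

include hspan hindep hj in
theorem evDG_surjective : Function.Surjective (evDG hinj m N κ hκ w hw hwB p hpker j hN) := by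
  rintro ⟨z, hz⟩
  -- the coefficient vector of a syzygy
  have hb : ∀ κ' : LinearMap.ker p, ∃ b : Fin r → B,
      ∀ s, κ'.1.2 s • (1 : B) = ∑ t, b t * ((κ t).2 s • (1 : B)) := fun κ' =>
    hspan κ'.1.1 κ'.1.2 ((hpker κ'.1.1 κ'.1.2).mp κ'.2)
  choose bf hbf using hb
  have hb_add : ∀ κ₁ κ₂ : LinearMap.ker p, bf (κ₁ + κ₂) = bf κ₁ + bf κ₂ := by
    intro κ₁ κ₂
    rw [← sub_eq_zero]
    apply hindep
    intro s
    have h1 := hbf (κ₁ + κ₂) s
    have h2 := hbf κ₁ s
    have h3 := hbf κ₂ s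
    have h4 : (κ₁ + κ₂).1.2 s • (1 : B) = κ₁.1.2 s • (1 : B) + κ₂.1.2 s • (1 : B) := by
      rw [← add_smul]
      rfl
    have : ∑ t, (bf (κ₁ + κ₂) - (bf κ₁ + bf κ₂)) t * ((κ t).2 s • (1 : B)) =
        ∑ t, bf (κ₁ + κ₂) t * ((κ t).2 s • (1 : B)) -
          (∑ t, bf κ₁ t * ((κ t).2 s • (1 : B)) + ∑ t, bf κ₂ t * ((κ t).2 s • (1 : B))) := by
      rw [← Finset.sum_add_distrib, ← Finset.sum_sub_distrib]
      refine Finset.sum_congr rfl fun t _ => ?_
      rw [Pi.sub_apply, Pi.add_apply]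
      ring
    rw [this, ← h1, ← h2, ← h3, h4, sub_self]
  have hb_smul : ∀ (c : R) (κ₁ : LinearMap.ker p), bf (c • κ₁) = c • bf κ₁ := by
    intro c κ₁
    rw [← sub_eq_zero]
    apply hindep
    intro s
    have h1 := hbf (c • κ₁) s
    have h2 := hbf κ₁ s
    have h4 : (c • κ₁).1.2 s • (1 : B) = c • (κ₁.1.2 s • (1 : B)) := by
      rw [← mul_smul]
      rfl
    have : ∑ t, (bf (c • κ₁) - c • bf κ₁) t * ((κ t).2 s • (1 : B)) =
        ∑ t, bf (c • κ₁) t * ((κ t).2 s • (1 : B)) -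
          c • ∑ t, bf κ₁ t * ((κ t).2 s • (1 : B)) := by
      rw [Finset.smul_sum, ← Finset.sum_sub_distrib]
      refine Finset.sum_congr rfl fun t _ => ?_
      rw [Pi.sub_apply, Pi.smul_apply, sub_mul, smul_mul_assoc]
    rw [this, ← h1, ← h2, h4, sub_self]
  have hex : ∀ κ' : LinearMap.ker p, ∃ n₀ : N₀, j n₀ = ∑ t, bf κ' t * z t := by
    intro κ'
    have h1 := hz κ'.1.1 κ'.1.2 ((hpker κ'.1.1 κ'.1.2).mp κ'.2) (bf κ') (hbf κ')
    rw [← hN] at h1
    exact h1
  choose nf hnf using hex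
  let φ : LinearMap.ker p →ₗ[R] N₀ :=
    { toFun := nf
      map_add' := by
        intro κ₁ κ₂
        apply hj
        rw [map_add, hnf, hnf, hnf, hb_add, ← Finset.sum_add_distrib]
        refine Finset.sum_congr rfl fun t _ => ?_
        rw [Pi.add_apply, add_mul]
      map_smul' := by
        intro c κ₁
        apply hj
        rw [RingHom.id_apply, map_smul, hnf, hnf, hb_smul, Finset.smul_sum]
        refine Finset.sum_congr rfl fun t _ => ?_
        rw [Pi.smul_apply, smul_mul_assoc] }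
  refine ⟨φ, Subtype.ext ?_⟩
  funext t
  change j (nf (κK m κ hκ p hpker t)) = z t
  rw [hnf]
  have hbt : bf (κK m κ hκ p hpker t) = Pi.single t 1 := by
    rw [← sub_eq_zero]
    apply hindep
    intro s
    have h1 := hbf (κK m κ hκ p hpker t) s
    have : ∑ t', ((bf (κK m κ hκ p hpker t) - Pi.single t 1 : Fin r → B) t') *
        ((κ t').2 s • (1 : B)) =
        ∑ t', bf (κK m κ hκ p hpker t) t' * ((κ t').2 s • (1 : B)) - (κ t).2 s • (1 : B) := by
      have h5 : ∑ t', (Pi.single t (1 : B) : Fin r → B) t' * ((κ t').2 s • (1 : B)) =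
          (κ t).2 s • (1 : B) := by
        rw [Finset.sum_eq_single t]
        · rw [Pi.single_eq_same, one_mul]
        · intro t' _ ht'
          rw [Pi.single_eq_of_ne ht', zero_mul]
        · intro h
          exact absurd (Finset.mem_univ t) h
      rw [← h5, ← Finset.sum_sub_distrib]
      refine Finset.sum_congr rfl fun t' _ => ?_
      rw [Pi.sub_apply, sub_mul]
    rw [this, ← h1]
    exact sub_self _
  rw [hbt, Finset.sum_eq_single t]
  · rw [Pi.single_eq_same, one_mul]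
  · intro t' _ ht'
    rw [Pi.single_eq_of_ne ht', zero_mul]
  · intro h
    exact absurd (Finset.mem_univ t) h

end Gen2

section Gen3

variable {R B : Type u} [CommRing R] [CommRing B] [IsDomain B] [Algebra R B]
  (hinj : Function.Injective (algebraMap R B)) {r : ℕ} (m : Fin r → B) (N : Submodule R B)
  (κ : Fin r → R × (Fin r → R))
  (hκ : ∀ t, (κ t).1 • (1 : B) + ∑ s, (κ t).2 s • m s = 0)
  (w : R) (hw : w ≠ 0) (hwB : ∀ b : B, ∃ a : R, a • (1 : B) = w • b)
  (hspan : ∀ (a : R) (y : Fin r → R), a • (1 : B) + ∑ s, y s • m s = 0 →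
     ∃ b : Fin r → B, ∀ s, y s • (1 : B) = ∑ t, b t * ((κ t).2 s • (1 : B)))
  (hindep : ∀ b : Fin r → B, (∀ s, ∑ t, b t * ((κ t).2 s • (1 : B)) = 0) → b = 0)
  {M₀ : Type u} [AddCommGroup M₀] [Module R M₀] (p : (R × (Fin r → R)) →ₗ[R] M₀)
  (hp : Function.Surjective p)
  (hpker : ∀ a y, p (a, y) = 0 ↔ a • (1 : B) + ∑ s, y s • m s = 0)
  {N₀ : Type u} [AddCommGroup N₀] [Module R N₀] (j : N₀ →ₗ[R] B)
  (hj : Function.Injective j) (hN : LinearMap.range j = N)

theorem apply_pair {N₁ : Type u} [AddCommGroup N₁] [Module R N₁]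
    (ψ : (R × (Fin r → R)) →ₗ[R] N₁) (a : R) (y : Fin r → R) :
    ψ (a, y) = a • ψ (1, 0) + ∑ s, y s • ψ (0, Pi.single s 1) := by
  have h1 : (a, y) = a • ((1 : R), (0 : Fin r → R)) + ∑ s, y s • ((0 : R), (Pi.single s 1 : Fin r → R)) := by
    apply Prod.ext
    · rw [Prod.fst_add, Prod.fst_sum]
      simp
    · rw [Prod.snd_add, Prod.snd_sum]
      funext s'
      simp [Finset.sum_apply, Pi.single_apply]
  conv_lhs => rw [h1]
  rw [map_add, map_smul, map_sum]
  congr 1
  refine Finset.sum_congr rfl fun s _ => ?_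
  rw [map_smul]

include hinj hκ hw hwB hspan hindep hpker hj hN in
theorem mapG_range_eq :
    (LinearMap.range (LinearMap.lcomp R N₀ (LinearMap.ker p).subtype)).map
      (LinearEquiv.ofBijective (evDG hinj m N κ hκ w hw hwB p hpker j hN)
        ⟨evDG_injective hinj m N κ hκ w hw hwB hspan p hpker j hj hN,
          evDG_surjective hinj m N κ hκ w hw hwB hspan hindep p hpker j hj hN⟩ :
        (LinearMap.ker p →ₗ[R] N₀) →ₗ[R] DG m N κ) =
      (PG N κ).submoduleOf (DG m N κ) := by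
  have hmem : ∀ n₀ : N₀, j n₀ ∈ N := fun n₀ => hN ▸ LinearMap.mem_range_self j n₀
  ext ⟨z, hzD⟩
  rw [Submodule.mem_map]
  change _ ↔ z ∈ PG N κ
  constructor
  · rintro ⟨φ, ⟨ψ, rfl⟩, hφz⟩
    have hz : evG m κ hκ p hpker j
        (LinearMap.lcomp R N₀ (LinearMap.ker p).subtype ψ) = z := congrArg Subtype.val hφz
    refine ⟨j (ψ (1, 0)), hmem _, fun s => j (ψ (0, Pi.single s 1)), fun s => hmem _, fun t => ?_⟩
    rw [← hz, evG_apply]
    change j (ψ (κ t)) = _
    rw [apply_pair ψ (κ t).1 (κ t).2, map_add, map_smul, map_sum]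
    congr 1
    refine Finset.sum_congr rfl fun s _ => ?_
    rw [map_smul]
  · rintro ⟨u₀, hu₀, u, hu, hz⟩
    rw [← hN] at hu₀
    obtain ⟨u₀₀, rfl⟩ := hu₀
    have hu' : ∀ s, ∃ n₀ : N₀, j n₀ = u s := fun s => by
      have := hu s
      rw [← hN] at this
      exact this
    choose us₀ hus₀ using hu'
    let ψ : (R × (Fin r → R)) →ₗ[R] N₀ :=
      (LinearMap.toSpanSingleton R N₀ u₀₀).coprod
        (∑ s, (LinearMap.toSpanSingleton R N₀ (us₀ s)).comp (LinearMap.proj s))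
    have hψ : ∀ a y, ψ (a, y) = a • u₀₀ + ∑ s, y s • us₀ s := by
      intro a y
      change (LinearMap.toSpanSingleton R N₀ u₀₀) a +
        (∑ s, (LinearMap.toSpanSingleton R N₀ (us₀ s)).comp (LinearMap.proj s)) y = _
      rw [LinearMap.toSpanSingleton_apply, LinearMap.sum_apply]
      rfl
    refine ⟨LinearMap.lcomp R N₀ (LinearMap.ker p).subtype ψ, ⟨ψ, rfl⟩, ?_⟩
    apply Subtype.ext
    funext t
    change j (ψ (κ t)) = z t
    rw [hz t, show κ t = ((κ t).1, (κ t).2) from rfl, hψ, map_add, map_smul, map_sum]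
    congr 1
    refine Finset.sum_congr rfl fun s _ => ?_
    rw [map_smul, hus₀]

include hinj hκ hw hwB hspan hindep hpker hj hN hp in
/-- `Ext¹(M, N) ≃ₗ DG / PG`. -/
theorem extOneGen :
    Nonempty (Abelian.Ext (ModuleCat.of R M₀) (ModuleCat.of R N₀) 1 ≃ₗ[R]
      (↥(DG m N κ) ⧸ (PG N κ).submoduleOf (DG m N κ))) := by
  have e1 := extOneEquiv p hp N₀
  have e2 := quotEquivGeneric (H := LinearMap.ker p →ₗ[R] N₀) (D₀ := ↥(DG m N κ))
    (LinearMap.range (LinearMap.lcomp R N₀ (LinearMap.ker p).subtype))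
    ((PG N κ).submoduleOf (DG m N κ))
    (LinearEquiv.ofBijective (evDG hinj m N κ hκ w hw hwB p hpker j hN)
        ⟨evDG_injective hinj m N κ hκ w hw hwB hspan p hpker j hj hN,
          evDG_surjective hinj m N κ hκ w hw hwB hspan hindep p hpker j hj hN⟩)
    (mapG_range_eq hinj m N κ hκ w hw hwB hspan hindep p hpker j hj hN)
  exact ⟨e1.symm.trans e2⟩

include hinj hκ hw hwB hspan hindep hpker hj hN in
theorem PG_le_DG : PG N κ ≤ DG m N κ := by
  intro z hz
  by_contra hzD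
  -- realise `z` as an evaluation
  obtain ⟨u₀, hu₀, u, hu, hz'⟩ := hz
  rw [← hN] at hu₀
  obtain ⟨u₀₀, rfl⟩ := hu₀
  have hu' : ∀ s, ∃ n₀ : N₀, j n₀ = u s := fun s => by
    have := hu s
    rw [← hN] at this
    exact this
  choose us₀ hus₀ using hu'
  let ψ : (R × (Fin r → R)) →ₗ[R] N₀ :=
    (LinearMap.toSpanSingleton R N₀ u₀₀).coprod
      (∑ s, (LinearMap.toSpanSingleton R N₀ (us₀ s)).comp (LinearMap.proj s))
  have hψ : ∀ a y, ψ (a, y) = a • u₀₀ + ∑ s, y s • us₀ s := by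
    intro a y
    change (LinearMap.toSpanSingleton R N₀ u₀₀) a +
      (∑ s, (LinearMap.toSpanSingleton R N₀ (us₀ s)).comp (LinearMap.proj s)) y = _
    rw [LinearMap.toSpanSingleton_apply, LinearMap.sum_apply]
    rfl
  apply hzD
  have h1 := evG_mem_DG hinj m N κ hκ w hw hwB p hpker j hN
    (LinearMap.lcomp R N₀ (LinearMap.ker p).subtype ψ)
  have h2 : evG m κ hκ p hpker j (LinearMap.lcomp R N₀ (LinearMap.ker p).subtype ψ) = z := by
    funext t
    change j (ψ (κ t)) = z t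
    rw [hz' t, show κ t = ((κ t).1, (κ t).2) from rfl, hψ, map_add, map_smul, map_sum]
    congr 1
    refine Finset.sum_congr rfl fun s _ => ?_
    rw [map_smul, hus₀]
  rw [← h2]
  exact h1

end Gen3

end Groth.Agent.Lib.Helper8.ExtPres
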