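import Mathlib
import Groth.Agent.Lib.Helper8ExtPresG
import Groth.Agent.Lib.Helper8TFDual4

/-!
# `Ext¹` of a module with several generators inside a domain: the diagonal case (helper8)

`R ⊆ B` a domain, `M = R·1 + Σ R·m_s` with `x m_s ∈ R` for a single `x`, such that every syzygy has
coefficients divisible by `x` in `B` and all `B`-multiples occur.  Then
`length Ext¹(M, N) + length (N / N') = r · length (𝔠_N / x N)`.
-/

set_option autoImplicit false
set_option linter.style.haveILetI false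
set_option linter.unusedSectionVars false
open CategoryTheory

namespace Groth.Agent.Lib.Helper8.ExtPres

universe u

section PiQuot

variable {R V : Type u} [CommRing R] [AddCommGroup V] [Module R V]

/-- the length of a quotient of coordinatewise defined submodules of `V^r`. -/
theorem length_pi_quot {r : ℕ} (D Q : Submodule R (Fin r → V)) (C Q₀ : Submodule R V)
    (hD : ∀ z, z ∈ D ↔ ∀ t, z t ∈ C) (hQ : ∀ z, z ∈ Q ↔ ∀ t, z t ∈ Q₀) :
    Module.length R (↥D ⧸ Q.submoduleOf D) =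
      (r : ℕ∞) * Module.length R (↥C ⧸ Q₀.submoduleOf C) := by
  let g : ↥D →ₗ[R] (Fin r → (↥C ⧸ Q₀.submoduleOf C)) :=
    LinearMap.pi fun t => (Q₀.submoduleOf C).mkQ ∘ₗ
      LinearMap.codRestrict C (LinearMap.proj t ∘ₗ D.subtype) (fun z => (hD z.1).mp z.2 t)
  have hg : Function.Surjective g := by
    intro y
    have : ∀ t, ∃ c : ↥C, Submodule.Quotient.mk c = y t :=
      fun t => Submodule.Quotient.mk_surjective _ (y t)
    choose c hc using this
    refine ⟨⟨fun t => (c t : V), (hD _).mpr fun t => (c t).2⟩, ?_⟩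
    funext t
    exact hc t
  have hker : LinearMap.ker g = Q.submoduleOf D := by
    ext z
    rw [LinearMap.mem_ker]
    change g z = 0 ↔ (z : Fin r → V) ∈ Q
    rw [hQ]
    constructor
    · intro h t
      have h1 := congrFun h t
      change Submodule.Quotient.mk (⟨z.1 t, (hD z.1).mp z.2 t⟩ : ↥C) = 0 at h1
      rw [Submodule.Quotient.mk_eq_zero] at h1
      exact h1
    · intro h
      funext t
      change Submodule.Quotient.mk (⟨z.1 t, (hD z.1).mp z.2 t⟩ : ↥C) = 0
      rw [Submodule.Quotient.mk_eq_zero]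
      exact h t
  have e := (Submodule.quotEquivOfEq _ _ hker.symm).trans
    (LinearMap.quotKerEquivOfSurjective g hg)
  rw [e.length_eq, Module.length_pi, ENat.card_eq_coe_fintype_card, Fintype.card_fin]

end PiQuot

section PSub

variable {R B : Type u} [CommRing R] [CommRing B] [Algebra R B] {r : ℕ} (m : Fin r → B)
  (S : Submodule R B) (h1 : (1 : B) ∈ S) (hm : ∀ s, m s ∈ S)

/-- the presentation of a submodule generated by `1` and the `m s`. -/
noncomputable def pSub : (R × (Fin r → R)) →ₗ[R] ↥S :=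
  LinearMap.codRestrict S
    ((LinearMap.toSpanSingleton R B 1).coprod
      (∑ s, (LinearMap.toSpanSingleton R B (m s)).comp (LinearMap.proj s)))
    (by
      rintro ⟨a, y⟩
      change (LinearMap.toSpanSingleton R B 1) a +
        (∑ s, (LinearMap.toSpanSingleton R B (m s)).comp (LinearMap.proj s)) y ∈ S
      rw [LinearMap.toSpanSingleton_apply, LinearMap.sum_apply]
      exact S.add_mem (S.smul_mem a h1) (S.sum_mem fun s _ => S.smul_mem (y s) (hm s)))

theorem pSub_apply (a : R) (y : Fin r → R) :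
    ((pSub m S h1 hm (a, y) : ↥S) : B) = a • (1 : B) + ∑ s, y s • m s := by
  change (LinearMap.toSpanSingleton R B 1) a +
    (∑ s, (LinearMap.toSpanSingleton R B (m s)).comp (LinearMap.proj s)) y = _
  rw [LinearMap.toSpanSingleton_apply, LinearMap.sum_apply]
  rfl

theorem pSub_ker (a : R) (y : Fin r → R) :
    pSub m S h1 hm (a, y) = 0 ↔ a • (1 : B) + ∑ s, y s • m s = 0 := by
  rw [← pSub_apply m S h1 hm a y]
  constructor
  · intro h
    rw [h]
    rfl
  · intro h
    exact Subtype.ext h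

theorem pSub_surjective (hS : S ≤ Submodule.span R (insert (1 : B) (Set.range m))) :
    Function.Surjective (pSub m S h1 hm) := by
  rintro ⟨f, hf⟩
  have h2 := hS hf
  rw [Submodule.mem_span_insert] at h2
  obtain ⟨a, z, hz, rfl⟩ := h2
  rw [Submodule.mem_span_range_iff_exists_fun] at hz
  obtain ⟨y, rfl⟩ := hz
  refine ⟨(a, y), Subtype.ext ?_⟩
  rw [pSub_apply]

end PSub

section Diag

variable {R B : Type u} [CommRing R] [CommRing B] [IsDomain B] [Algebra R B]
  (hinj : Function.Injective (algebraMap R B)) {r : ℕ} (m : Fin r → B) (N : Submodule R B)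
  (x : R) (ax : Fin r → R) (hx : x ≠ 0) (hax : ∀ t, ax t • (1 : B) + x • m t = 0)

/-- the diagonal syzygies. -/
def κD (t : Fin r) : R × (Fin r → R) := (ax t, Pi.single t x)

theorem sum_κD_left (s : Fin r) (f : Fin r → B) :
    ∑ t, f t * ((κD x ax t).2 s • (1 : B)) = f s * (x • (1 : B)) := by
  rw [Finset.sum_eq_single s]
  · change f s * ((Pi.single s x : Fin r → R) s • (1 : B)) = _
    rw [Pi.single_eq_same]
  · intro t _ hts
    change f t * ((Pi.single t x : Fin r → R) s • (1 : B)) = 0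
    rw [Pi.single_eq_of_ne (Ne.symm hts), zero_smul, mul_zero]
  · intro h
    exact absurd (Finset.mem_univ s) h

theorem sum_κD_right {V : Type*} [AddCommGroup V] [Module R V] (t : Fin r) (u : Fin r → V) :
    ∑ s, (κD x ax t).2 s • u s = x • u t := by
  rw [Finset.sum_eq_single t]
  · change (Pi.single t x : Fin r → R) t • u t = _
    rw [Pi.single_eq_same]
  · intro s _ hst
    change (Pi.single t x : Fin r → R) s • u s = 0
    rw [Pi.single_eq_of_ne hst, zero_smul]
  · intro h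
    exact absurd (Finset.mem_univ t) h

include hax in
theorem hκD : ∀ t, (κD x ax t).1 • (1 : B) + ∑ s, (κD x ax t).2 s • m s = 0 := by
  intro t
  rw [sum_κD_right]
  exact hax t

theorem hspanD (hdiv : ∀ (a : R) (y : Fin r → R), a • (1 : B) + ∑ s, y s • m s = 0 →
      ∀ s, ∃ b : B, y s • (1 : B) = b * (x • (1 : B))) :
    ∀ (a : R) (y : Fin r → R), a • (1 : B) + ∑ s, y s • m s = 0 →
     ∃ b : Fin r → B, ∀ s, y s • (1 : B) = ∑ t, b t * ((κD x ax t).2 s • (1 : B)) := by
  intro a y h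
  choose b hb using hdiv a y h
  exact ⟨b, fun s => by rw [sum_κD_left]; exact hb s⟩

include hinj hx in
theorem x_smul_one_ne : x • (1 : B) ≠ 0 := by
  rw [Algebra.smul_def, mul_one]
  exact fun h0 => hx (hinj (h0.trans (map_zero _).symm))

include hinj hx in
theorem x_smul_cancel {g g' : B} (h : x • g = x • g') : g = g' := by
  rw [Algebra.smul_def, Algebra.smul_def] at h
  have hx1 : algebraMap R B x ≠ 0 := fun h0 => hx (hinj (h0.trans (map_zero _).symm))
  exact mul_left_cancel₀ hx1 h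

include hinj hx in
theorem hindepD : ∀ b : Fin r → B,
    (∀ s, ∑ t, b t * ((κD x ax t).2 s • (1 : B)) = 0) → b = 0 := by
  intro b hb
  funext s
  have h1 := hb s
  rw [sum_κD_left] at h1
  exact (mul_eq_zero.mp h1).resolve_right (x_smul_one_ne hinj x hx)

/-- the largest `B`-submodule inside `N`. -/
def colonB : Submodule R B where
  carrier := {f | ∀ b : B, b * f ∈ N}
  zero_mem' := fun b => by rw [mul_zero]; exact N.zero_mem
  add_mem' := fun hf hg b => by rw [mul_add]; exact N.add_mem (hf b) (hg b)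
  smul_mem' := fun c f hf b => by rw [mul_smul_comm]; exact N.smul_mem c (hf b)

theorem mem_colonB (f : B) : f ∈ colonB N ↔ ∀ b : B, b * f ∈ N := Iff.rfl

/-- `x N`. -/
def xN : Submodule R B where
  carrier := {f | ∃ g ∈ N, f = x • g}
  zero_mem' := ⟨0, N.zero_mem, (smul_zero x).symm⟩
  add_mem' := by
    rintro _ _ ⟨g, hg, rfl⟩ ⟨g', hg', rfl⟩
    exact ⟨g + g', N.add_mem hg hg', (smul_add _ _ _).symm⟩
  smul_mem' := by
    rintro c _ ⟨g, hg, rfl⟩
    exact ⟨c • g, N.smul_mem c hg, smul_comm c x g⟩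

theorem mem_xN (f : B) : f ∈ xN N x ↔ ∃ g ∈ N, f = x • g := Iff.rfl

/-- the elements of `N` that `M` multiplies into `N`. -/
def Nm : Submodule R B where
  carrier := {f | f ∈ N ∧ ∀ t, m t * f ∈ N}
  zero_mem' := ⟨N.zero_mem, fun t => by rw [mul_zero]; exact N.zero_mem⟩
  add_mem' := fun hf hg => ⟨N.add_mem hf.1 hg.1,
    fun t => by rw [mul_add]; exact N.add_mem (hf.2 t) (hg.2 t)⟩
  smul_mem' := fun c f hf => ⟨N.smul_mem c hf.1,
    fun t => by rw [mul_smul_comm]; exact N.smul_mem c (hf.2 t)⟩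

theorem mem_Nm (f : B) : f ∈ Nm m N ↔ f ∈ N ∧ ∀ t, m t * f ∈ N := Iff.rfl

theorem mem_DG_diag
    (hall : ∀ b : Fin r → B, ∃ (a : R) (y : Fin r → R), a • (1 : B) + ∑ s, y s • m s = 0 ∧
      ∀ s, y s • (1 : B) = b s * (x • (1 : B))) (z : Fin r → B) :
    z ∈ DG m N (κD x ax) ↔ ∀ t, z t ∈ colonB N := by
  constructor
  · intro hz t c
    obtain ⟨a, y, hsyz, hy⟩ := hall (Pi.single t c)
    have h1 := hz a y hsyz (Pi.single t c) (fun s => by rw [sum_κD_left]; exact hy s)
    have h2 : ∑ t', (Pi.single t c : Fin r → B) t' * z t' = c * z t := by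
      rw [Finset.sum_eq_single t]
      · rw [Pi.single_eq_same]
      · intro t' _ ht'
        rw [Pi.single_eq_of_ne ht', zero_mul]
      · intro h
        exact absurd (Finset.mem_univ t) h
    rwa [h2] at h1
  · intro hz a y _ b _
    exact N.sum_mem fun t _ => hz t (b t)

theorem mem_PG_diag (z : Fin r → B) :
    z ∈ PG N (κD x ax) ↔ ∃ u₀ ∈ N, ∃ u : Fin r → B, (∀ s, u s ∈ N) ∧
      ∀ t, z t = ax t • u₀ + x • u t := by
  rw [mem_PG]
  constructor
  · rintro ⟨u₀, hu₀, u, hu, hz⟩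
    exact ⟨u₀, hu₀, u, hu, fun t => by rw [hz t, sum_κD_right]; rfl⟩
  · rintro ⟨u₀, hu₀, u, hu, hz⟩
    exact ⟨u₀, hu₀, u, hu, fun t => by rw [hz t, sum_κD_right]; rfl⟩

include hax in
theorem ax_smul (t : Fin r) (f : B) : ax t • f = x • (-(m t * f)) := by
  have h1 : ax t • (1 : B) = -(x • m t) := eq_neg_of_add_eq_zero_left (hax t)
  calc ax t • f = (ax t • (1 : B)) * f := by rw [smul_mul_assoc, one_mul]
    _ = x • (-(m t * f)) := by rw [h1, neg_mul, smul_mul_assoc, smul_neg]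

variable (w : R) (hw : w ≠ 0) (hwB : ∀ b : B, ∃ a : R, a • (1 : B) = w • b)
  (hdiv : ∀ (a : R) (y : Fin r → R), a • (1 : B) + ∑ s, y s • m s = 0 →
      ∀ s, ∃ b : B, y s • (1 : B) = b * (x • (1 : B)))
  (hall : ∀ b : Fin r → B, ∃ (a : R) (y : Fin r → R), a • (1 : B) + ∑ s, y s • m s = 0 ∧
      ∀ s, y s • (1 : B) = b s * (x • (1 : B)))
  {M₀ : Type u} [AddCommGroup M₀] [Module R M₀] (p : (R × (Fin r → R)) →ₗ[R] M₀)
  (hp : Function.Surjective p)
  (hpker : ∀ a y, p (a, y) = 0 ↔ a • (1 : B) + ∑ s, y s • m s = 0)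
  {N₀ : Type u} [AddCommGroup N₀] [Module R N₀] (j : N₀ →ₗ[R] B)
  (hj : Function.Injective j) (hN : LinearMap.range j = N)

include hinj hx hax hw hwB hdiv hall hp hpker hj hN in
/-- the length formula in the diagonal case. -/
theorem length_diag (c₁ c₂ : ℕ∞)
    (h1 : Module.length R (↥(colonB N) ⧸ (xN N x).submoduleOf (colonB N)) = c₁)
    (h2 : Module.length R (↥N ⧸ (Nm m N).submoduleOf N) = c₂) :
    Module.length R (Abelian.Ext (ModuleCat.of R M₀) (ModuleCat.of R N₀) 1) + c₂ =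
      (r : ℕ∞) * c₁ := by
  have hκ := hκD m x ax hax
  have hspan := hspanD m x ax hdiv
  have hindep := hindepD hinj (r := r) x ax hx
  obtain ⟨E⟩ := extOneGen hinj m N (κD x ax) hκ w hw hwB hspan hindep p hp hpker j hj hN
  have hPD := PG_le_DG hinj m N (κD x ax) hκ w hw hwB hspan hindep p hpker j hj hN
  let Q : Submodule R (Fin r → B) := Submodule.pi Set.univ fun _ => xN N x
  have hQ : ∀ z, z ∈ Q ↔ ∀ t, z t ∈ xN N x := fun z => by
    change z ∈ Submodule.pi Set.univ (fun _ => xN N x) ↔ _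
    rw [Submodule.mem_pi]
    exact ⟨fun h t => h t (Set.mem_univ t), fun h t _ => h t⟩
  have hQP : Q ≤ PG N (κD x ax) := by
    intro z hz
    rw [hQ] at hz
    choose u hu hzu using hz
    exact (mem_PG_diag N x ax z).mpr ⟨0, N.zero_mem, u, hu, fun t => by rw [smul_zero, zero_add, hzu t]⟩
  have htow : Module.length R (↥(DG m N (κD x ax)) ⧸ Q.submoduleOf (DG m N (κD x ax))) =
      Module.length R (↥(PG N (κD x ax)) ⧸ Q.submoduleOf (PG N (κD x ax))) +
        Module.length R (↥(DG m N (κD x ax)) ⧸ (PG N (κD x ax)).submoduleOf (DG m N (κD x ax))) :=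
    TFDual.length_tower Q (PG N (κD x ax)) (DG m N (κD x ax)) hQP hPD
  have hDQ := length_pi_quot (DG m N (κD x ax)) Q (colonB N) (xN N x)
    (mem_DG_diag m N x ax hall) hQ
  have hPQ : Module.length R (↥(PG N (κD x ax)) ⧸ Q.submoduleOf (PG N (κD x ax))) = c₂ := by
    let h0 : ↥N →ₗ[R] (Fin r → B) := LinearMap.pi fun t => ax t • N.subtype
    have h0a : ∀ (u : ↥N) (t : Fin r), h0 u t = ax t • (u : B) := fun u t => rfl
    have h0mem : ∀ u, h0 u ∈ PG N (κD x ax) := fun u =>
      (mem_PG_diag N x ax _).mpr ⟨u, u.2, 0, fun _ => N.zero_mem, fun t => by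
        rw [h0a, Pi.zero_apply, smul_zero, add_zero]⟩
    let g : ↥N →ₗ[R] (↥(PG N (κD x ax)) ⧸ Q.submoduleOf (PG N (κD x ax))) :=
      (Q.submoduleOf (PG N (κD x ax))).mkQ ∘ₗ LinearMap.codRestrict (PG N (κD x ax)) h0 h0mem
    have hg : Function.Surjective g := by
      intro y
      obtain ⟨⟨z, hz⟩, rfl⟩ := Submodule.Quotient.mk_surjective _ y
      obtain ⟨u₀, hu₀, u, hu, hzt⟩ := (mem_PG_diag N x ax z).mp hz
      refine ⟨⟨u₀, hu₀⟩, ?_⟩
      change Submodule.Quotient.mk (⟨h0 ⟨u₀, hu₀⟩, h0mem _⟩ : ↥(PG N (κD x ax))) =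
        Submodule.Quotient.mk _
      rw [Submodule.Quotient.eq]
      change h0 ⟨u₀, hu₀⟩ - z ∈ Q
      rw [hQ]
      intro t
      refine ⟨-u t, N.neg_mem (hu t), ?_⟩
      rw [Pi.sub_apply, h0a, hzt t, smul_neg]
      abel
    have hker : LinearMap.ker g = (Nm m N).submoduleOf N := by
      ext u
      rw [LinearMap.mem_ker]
      change Submodule.Quotient.mk (⟨h0 u, h0mem _⟩ : ↥(PG N (κD x ax))) = 0 ↔ (u : B) ∈ Nm m N
      rw [Submodule.Quotient.mk_eq_zero]
      change h0 u ∈ Q ↔ _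
      rw [hQ, mem_Nm]
      constructor
      · intro h
        refine ⟨u.2, fun t => ?_⟩
        obtain ⟨g', hg', hge⟩ := h t
        rw [h0a, ax_smul m x ax hax] at hge
        have h3 := x_smul_cancel hinj x hx hge
        have h4 : m t * (u : B) = -g' := by rw [← h3, neg_neg]
        rw [h4]
        exact N.neg_mem hg'
      · rintro ⟨_, h⟩ t
        exact ⟨-(m t * (u : B)), N.neg_mem (h t), by rw [h0a, ax_smul m x ax hax]⟩
    have e := (Submodule.quotEquivOfEq _ _ hker.symm).trans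
      (LinearMap.quotKerEquivOfSurjective g hg)
    rw [← e.length_eq]
    exact h2
  rw [E.length_eq]
  calc Module.length R (↥(DG m N (κD x ax)) ⧸ (PG N (κD x ax)).submoduleOf (DG m N (κD x ax)))
        + c₂ = Module.length R (↥(DG m N (κD x ax)) ⧸ Q.submoduleOf (DG m N (κD x ax))) := by
        rw [htow, hPQ, add_comm]
    _ = (r : ℕ∞) * c₁ := by rw [hDQ, h1]

end Diag

section GenPi

variable {R B : Type u} [CommRing R] [CommRing B] [IsDomain B] [Algebra R B]
  (hinj : Function.Injective (algebraMap R B)) {r : ℕ} (m : Fin r → B) (N : Submodule R B)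
  (κ : Fin r → R × (Fin r → R))
  (hκ : ∀ t, (κ t).1 • (1 : B) + ∑ s, (κ t).2 s • m s = 0)
  (w : R) (hw : w ≠ 0) (hwB : ∀ b : B, ∃ a : R, a • (1 : B) = w • b)
  (hspan : ∀ (a : R) (y : Fin r → R), a • (1 : B) + ∑ s, y s • m s = 0 →
     ∃ b : Fin r → B, ∀ s, y s • (1 : B) = ∑ t, b t * ((κ t).2 s • (1 : B)))
  (hindep : ∀ b : Fin r → B, (∀ s, ∑ t, b t * ((κ t).2 s • (1 : B)) = 0) → b = 0)
  {M₀ : Type u} [AddCommGroup M₀] [Module R M₀] (p : (R × (Fin r → R)) →ₗ[R] M₀)
  (hp : Function.Surjective p)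
  (hpker : ∀ a y, p (a, y) = 0 ↔ a • (1 : B) + ∑ s, y s • m s = 0)
  {N₀ : Type u} [AddCommGroup N₀] [Module R N₀] (j : N₀ →ₗ[R] B)
  (hj : Function.Injective j) (hN : LinearMap.range j = N)

include hinj hκ hw hwB hspan hindep hp hpker hj hN in
/-- the length formula when `DG` and `PG` are coordinatewise. -/
theorem length_ext_pi_generic (C Q₀ : Submodule R B)
    (hDG : ∀ z, z ∈ DG m N κ ↔ ∀ t, z t ∈ C) (hPG : ∀ z, z ∈ PG N κ ↔ ∀ t, z t ∈ Q₀)
    (c₁ : ℕ∞) (h1 : Module.length R (↥C ⧸ Q₀.submoduleOf C) = c₁) :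
    Module.length R (Abelian.Ext (ModuleCat.of R M₀) (ModuleCat.of R N₀) 1) = (r : ℕ∞) * c₁ := by
  obtain ⟨E⟩ := extOneGen hinj m N κ hκ w hw hwB hspan hindep p hp hpker j hj hN
  rw [E.length_eq, length_pi_quot (DG m N κ) (PG N κ) C Q₀ hDG hPG, h1]

end GenPi

end Groth.Agent.Lib.Helper8.ExtPres
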