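import Mathlib
import Groth.Agent.Lib.Helper8Mon2
import Groth.Agent.Lib.Helper8ExtPres

/-!
# `Ext¹` of a two-generated monomial module over a monomial curve (helper8)

`A ⊆ k[[t]]` the monomial subalgebra of a set `Γ`, `M = A + A t^a`, `N` a monomial module with
exponent set `SN`.  Then `length Ext¹_A(M, N) = #(SD \ SP)` for explicit sets of exponents.
-/

set_option autoImplicit false
set_option linter.style.haveILetI false
set_option linter.unusedSectionVars false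

namespace Groth.Agent.Lib.Helper8.Mon
open Groth.Agent.Lib.Helper8.ValSemi Groth.Agent.Lib.Helper8.ExtPres PowerSeries IsLocalRing
open CategoryTheory

universe u

variable {k : Type u} [Field k] (A : Subalgebra k (PowerSeries k)) (Γ : Set ℕ)
  (hA : ∀ f : PowerSeries k, f ∈ A ↔ f ∈ Mon k Γ)

theorem mem_Mon_inter {S T : Set ℕ} {f : PowerSeries k} :
    f ∈ Mon k (S ∩ T) ↔ f ∈ Mon k S ∧ f ∈ Mon k T :=
  ⟨fun h => ⟨fun n hn => (h n hn).1, fun n hn => (h n hn).2⟩,
    fun h n hn => ⟨h.1 n hn, h.2 n hn⟩⟩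

/-- exponents of `D`. -/
def SD (Γ : Set ℕ) (a e : ℕ) (SN : Set ℕ) : Set ℕ :=
  {n | n ∈ SN ∧ ∀ γ ∈ Γ, γ + a ∈ Γ → n + γ ∈ shift e SN}

/-- exponents of `P`. -/
def SP (a e : ℕ) (SN : Set ℕ) : Set ℕ := shift e (SN ∪ shift a SN)

include hA in
theorem length_ext_two_gen (a e c : ℕ) (he : e ∈ Γ) (hea : e + a ∈ Γ)
    (N : Submodule ↥A (PowerSeries k)) (SN : Set ℕ) (hN : ∀ f, f ∈ N ↔ f ∈ Mon k SN)
    (hc : ∀ n, c ≤ n → n ∈ SN) :
    Module.length ↥A (Abelian.Ext
      (ModuleCat.of ↥A ↥(Submodule.span ↥A ({1, (X : PowerSeries k) ^ a} : Set (PowerSeries k))))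
      (ModuleCat.of ↥A ↥N) 1) = ((SD Γ a e SN \ SP a e SN).ncard : ℕ∞) := by
  haveI := isLocalRing_of_mon A Γ hA
  have hinj : Function.Injective (algebraMap ↥A (PowerSeries k)) := fun x y h => Subtype.ext h
  have hxA : (X : PowerSeries k) ^ e ∈ A := (hA _).mpr (X_pow_mem_Mon he)
  have haxA : -(X : PowerSeries k) ^ (e + a) ∈ A := A.neg_mem ((hA _).mpr (X_pow_mem_Mon hea))
  set x : ↥A := ⟨X ^ e, hxA⟩ with hxdef
  set ax : ↥A := ⟨-X ^ (e + a), haxA⟩ with haxdef
  have hx : x ≠ 0 := by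
    intro h
    have h1 : (X : PowerSeries k) ^ e = 0 := congrArg Subtype.val h
    exact pow_ne_zero e PowerSeries.X_ne_zero h1
  have hax : ax • (1 : PowerSeries k) + x • (X : PowerSeries k) ^ a = 0 := by
    change -(X : PowerSeries k) ^ (e + a) * 1 + X ^ e * X ^ a = 0
    rw [pow_add]
    ring
  obtain ⟨E⟩ := extOneTwoGen (N₀ := ↥N) hinj ((X : PowerSeries k) ^ a) N x ax hx hax N.subtype
    Subtype.val_injective (Submodule.range_subtype N)
  -- identification of `D`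
  have hDm : ∀ z, z ∈ D ((X : PowerSeries k) ^ a) N x ↔ z ∈ Mon k (SD Γ a e SN) := by
    intro z
    rw [mem_D]
    constructor
    · rintro ⟨hz, hz2⟩ n hn
      refine ⟨(hN z).mp hz n hn, fun γ hγ hγa => ?_⟩
      have hyA : (X : PowerSeries k) ^ γ ∈ A := (hA _).mpr (X_pow_mem_Mon hγ)
      have hayA : -(X : PowerSeries k) ^ (γ + a) ∈ A :=
        A.neg_mem ((hA _).mpr (X_pow_mem_Mon hγa))
      obtain ⟨n', hn', e'⟩ := hz2 ⟨-X ^ (γ + a), hayA⟩ ⟨X ^ γ, hyA⟩ (by
        change -(X : PowerSeries k) ^ (γ + a) * 1 + X ^ γ * X ^ a = 0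
        rw [pow_add]
        ring)
      have e'' : (X : PowerSeries k) ^ γ * z = X ^ e * n' := e'
      have h1 : (X : PowerSeries k) ^ γ * z ∈ Mon k (shift e SN) := by
        rw [e'']
        exact (mem_Mon_shift_iff e SN _).mpr ⟨n', (hN n').mp hn', rfl⟩
      apply h1 (n + γ)
      rwa [coeff_X_pow_mul]
    · intro hz
      have hzN : z ∈ Mon k SN := Mon_mono (fun n hn => hn.1) hz
      refine ⟨(hN z).mpr hzN, fun a' y hay => ?_⟩
      have hy1 : (y : PowerSeries k) ∈ Mon k Γ := (hA _).mp y.2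
      have hy2 : (y : PowerSeries k) ∈ Mon k {n | n + a ∈ Γ} := by
        rw [← X_pow_mul_mem_Mon_iff]
        have h3 : (a' : PowerSeries k) * 1 + (y : PowerSeries k) * X ^ a = 0 := hay
        have h4 : (X : PowerSeries k) ^ a * (y : PowerSeries k) = -(a' : PowerSeries k) := by
          rw [mul_one] at h3
          rw [mul_comm]
          exact eq_neg_of_add_eq_zero_right h3
        rw [h4]
        exact (Mon k Γ).neg_mem ((hA _).mp a'.2)
      have hyz : (y : PowerSeries k) * z ∈ Mon k (shift e SN) := by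
        refine mul_mem_Mon (mem_Mon_inter.mpr ⟨hy1, hy2⟩) hz ?_
        rintro γ ⟨hγ, hγa⟩ n hn
        rw [add_comm]
        exact hn.2 γ hγ hγa
      obtain ⟨g, hg, hge⟩ := (mem_Mon_shift_iff e SN _).mp hyz
      exact ⟨g, (hN g).mpr hg, hge⟩
  have hPm : ∀ z, z ∈ P ((X : PowerSeries k) ^ a) N x ↔ z ∈ Mon k (SP a e SN) := by
    intro z
    rw [mem_P]
    unfold SP
    rw [mem_Mon_shift_iff]
    constructor
    · rintro ⟨u, hu, v, hv, rfl⟩
      refine ⟨v + X ^ a * u, ?_, rfl⟩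
      rw [← Mon_sup]
      exact Submodule.add_mem_sup ((hN v).mp hv)
        ((mem_Mon_shift_iff a SN _).mpr ⟨u, (hN u).mp hu, rfl⟩)
    · rintro ⟨g, hg, rfl⟩
      rw [← Mon_sup, Submodule.mem_sup] at hg
      obtain ⟨v, hv, w, hw, rfl⟩ := hg
      obtain ⟨u, hu, rfl⟩ := (mem_Mon_shift_iff a SN _).mp hw
      exact ⟨u, (hN u).mpr hu, v, (hN v).mpr hv, rfl⟩
  have hSPD : SP a e SN ⊆ SD Γ a e SN := by
    intro n hn
    have h1 : (X : PowerSeries k) ^ n ∈ P ((X : PowerSeries k) ^ a) N x :=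
      (hPm _).mpr (X_pow_mem_Mon hn)
    exact mem_of_X_pow_mem ((hDm _).mp (P_le_D hinj _ N x ax hax h1))
  have hcof : ∀ n, e + c ≤ n → n ∈ SP a e SN := by
    intro n hn
    refine ⟨by omega, Or.inl (hc _ (by omega))⟩
  obtain ⟨hfin, _⟩ := finrank_quot_Mon (k := k) hcof
  have hlen := length_quot_generic (k := k) (hres_of_mon A Γ hA)
    (D ((X : PowerSeries k) ^ a) N x) (P ((X : PowerSeries k) ^ a) N x)
    (Mon k (SD Γ a e SN)) (Mon k (SP a e SN)) hDm hPm (Mon_mono hSPD)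
  rw [finrank_ker_eq hcof hSPD] at hlen
  exact E.length_eq.trans hlen

end Groth.Agent.Lib.Helper8.Mon
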