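import Mathlib
import Groth.Agent.Lib.Helper8Mon3
import Groth.Agent.Lib.Helper8ExtPresD

/-!
# `Ext¹` lengths over the cubical monomial curve (helper8)

`A = k + t^n k[[t]]`, `M = A + Σ A t^{e_s}` with distinct `0 < e_s < n`, `N` monomial:
`length Ext¹(M, N) + #(S_N ∖ S_{N'}) = r · #(S_𝔠 ∖ (n + S_N))`.
-/

set_option autoImplicit false
set_option linter.style.haveILetI false
set_option linter.unusedSectionVars false
open CategoryTheory

namespace Groth.Agent.Lib.Helper8.Mon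
open Groth.Agent.Lib.Helper8.ValSemi Groth.Agent.Lib.Helper8.ExtPres PowerSeries IsLocalRing

universe u

/-- the exponents of the conductor of a monomial module. -/
def Sc (SN : Set ℕ) : Set ℕ := {m | ∀ j, m + j ∈ SN}

/-- the exponents of `N' = (N : M) ∩ N`. -/
def Sm {r : ℕ} (es : Fin r → ℕ) (SN : Set ℕ) : Set ℕ := {m | m ∈ SN ∧ ∀ s, m + es s ∈ SN}

/-- the cubical semigroup. -/
def Γc (n : ℕ) : Set ℕ := {m | m = 0 ∨ n ≤ m}

variable {k : Type u} [Field k] (A : Subalgebra k (PowerSeries k)) (n : ℕ)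
  (hA : ∀ f : PowerSeries k, f ∈ A ↔ f ∈ Mon k (Γc n))

include hA in
theorem X_pow_mul_mem_cubical (g : PowerSeries k) {e : ℕ} (he : n ≤ e) :
    (X : PowerSeries k) ^ e * g ∈ A := by
  rw [hA]
  have h1 : (X : PowerSeries k) ^ e * g ∈ Mon k (shift e Set.univ) :=
    (mem_Mon_shift_iff e Set.univ _).mpr ⟨g, fun _ _ => Set.mem_univ _, rfl⟩
  exact Mon_mono (fun m hm => Or.inr (le_trans he hm.1)) h1

include hA in
theorem length_ext_cubical {r : ℕ} (es : Fin r → ℕ) (hes : ∀ s, 0 < es s ∧ es s < n)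
    (hesinj : Function.Injective es)
    {M₀ : Type u} [AddCommGroup M₀] [Module ↥A M₀] (p : (↥A × (Fin r → ↥A)) →ₗ[↥A] M₀)
    (hp : Function.Surjective p)
    (hpker : ∀ a y, p (a, y) = 0 ↔
      a • (1 : PowerSeries k) + ∑ s, y s • (X : PowerSeries k) ^ es s = 0)
    {N₀ : Type u} [AddCommGroup N₀] [Module ↥A N₀] (j : N₀ →ₗ[↥A] PowerSeries k)
    (hj : Function.Injective j) (SN : Set ℕ)
    (hN : ∀ f, f ∈ LinearMap.range j ↔ f ∈ Mon k SN) (cN : ℕ) (hcN : ∀ m, cN ≤ m → m ∈ SN) :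
    Module.length ↥A (Abelian.Ext (ModuleCat.of ↥A M₀) (ModuleCat.of ↥A N₀) 1) +
        ((SN \ Sm es SN).ncard : ℕ∞) =
      (r : ℕ∞) * ((Sc SN \ shift n SN).ncard : ℕ∞) := by
  have hA' : ∀ f : PowerSeries k, f ∈ A ↔ f ∈ Mon k (Γc n) := hA
  haveI := isLocalRing_of_mon A (Γc n) hA
  have hinj : Function.Injective (algebraMap ↥A (PowerSeries k)) := fun x y h => Subtype.ext h
  have hxA : (X : PowerSeries k) ^ n ∈ A := by
    have := X_pow_mul_mem_cubical A n hA (1 : PowerSeries k) (le_refl n)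
    rwa [mul_one] at this
  have haxA : ∀ t, -(X : PowerSeries k) ^ (n + es t) ∈ A := fun t => by
    apply A.neg_mem
    have := X_pow_mul_mem_cubical A n hA (1 : PowerSeries k) (Nat.le_add_right n (es t))
    rwa [mul_one] at this
  set x : ↥A := ⟨X ^ n, hxA⟩ with hxdef
  set ax : Fin r → ↥A := fun t => ⟨-X ^ (n + es t), haxA t⟩ with haxdef
  have hx : x ≠ 0 := by
    intro h
    have h1 : (X : PowerSeries k) ^ n = 0 := congrArg Subtype.val h
    exact pow_ne_zero n PowerSeries.X_ne_zero h1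
  have hax : ∀ t, ax t • (1 : PowerSeries k) + x • (X : PowerSeries k) ^ es t = 0 := by
    intro t
    change -(X : PowerSeries k) ^ (n + es t) * 1 + X ^ n * X ^ es t = 0
    rw [pow_add]
    ring
  have hsmul : ∀ (a : ↥A) (f : PowerSeries k), a • f = (a : PowerSeries k) * f := fun _ _ => rfl
  have hwB : ∀ b : PowerSeries k, ∃ a : ↥A, a • (1 : PowerSeries k) = x • b := by
    intro b
    refine ⟨⟨X ^ n * b, X_pow_mul_mem_cubical A n hA b (le_refl n)⟩, ?_⟩
    rw [hsmul, hsmul, mul_one]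
  -- divisibility of syzygies
  have hdiv : ∀ (a : ↥A) (y : Fin r → ↥A),
      a • (1 : PowerSeries k) + ∑ s, y s • (X : PowerSeries k) ^ es s = 0 →
      ∀ s, ∃ b : PowerSeries k, y s • (1 : PowerSeries k) = b * (x • (1 : PowerSeries k)) := by
    intro a y h s₀
    have hy : ∀ s, ((y s : ↥A) : PowerSeries k) ∈ Mon k (Γc n) := fun s => (hA _).mp (y s).2
    have ha : (a : PowerSeries k) ∈ Mon k (Γc n) := (hA _).mp a.2
    have hnot : ∀ d, 0 < d → d < n → d ∉ Γc n := by
      rintro d hd0 hdn (h0 | h0)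
      · omega
      · omega
    have hc0 : coeff 0 ((y s₀ : ↥A) : PowerSeries k) = 0 := by
      have h1 := congrArg (coeff (es s₀)) h
      rw [map_add, map_sum, map_zero, hsmul, mul_one,
        coeff_eq_zero_of_mem ha (hnot _ (hes s₀).1 (hes s₀).2), zero_add] at h1
      rw [Finset.sum_eq_single s₀] at h1
      · rw [hsmul, coeff_mul_X_pow', if_pos (le_refl _), Nat.sub_self] at h1
        exact h1
      · intro s _ hs
        rw [hsmul, coeff_mul_X_pow']
        split_ifs with hle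
        · have hne : es s ≠ es s₀ := fun h' => hs (hesinj h')
          exact coeff_eq_zero_of_mem (hy s) (hnot _ (by omega) (by have := (hes s₀).2; omega))
        · rfl
      · intro h'
        exact absurd (Finset.mem_univ s₀) h'
    have hmem : ((y s₀ : ↥A) : PowerSeries k) ∈ Mon k (shift n Set.univ) := by
      intro d hd
      rcases hy s₀ d hd with h0 | h0
      · rw [h0] at hd
        exact absurd hc0 hd
      · exact ⟨h0, Set.mem_univ _⟩
    obtain ⟨g, _, hg⟩ := (mem_Mon_shift_iff n Set.univ _).mp hmem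
    refine ⟨g, ?_⟩
    rw [hsmul, hsmul, mul_one, mul_one, hg, mul_comm]
  have hall : ∀ b : Fin r → PowerSeries k, ∃ (a : ↥A) (y : Fin r → ↥A),
      a • (1 : PowerSeries k) + ∑ s, y s • (X : PowerSeries k) ^ es s = 0 ∧
      ∀ s, y s • (1 : PowerSeries k) = b s * (x • (1 : PowerSeries k)) := by
    intro b
    have hyA : ∀ s, (X : PowerSeries k) ^ n * b s ∈ A := fun s =>
      X_pow_mul_mem_cubical A n hA (b s) (le_refl n)
    have haA : -∑ s, (X : PowerSeries k) ^ n * b s * X ^ es s ∈ A := by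
      apply A.neg_mem
      apply A.sum_mem
      intro s _
      rw [mul_assoc]
      exact X_pow_mul_mem_cubical A n hA _ (le_refl n)
    refine ⟨⟨_, haA⟩, fun s => ⟨_, hyA s⟩, ?_, fun s => ?_⟩
    · rw [hsmul, mul_one]
      change -∑ s, (X : PowerSeries k) ^ n * b s * X ^ es s +
        ∑ s, (X : PowerSeries k) ^ n * b s * X ^ es s = 0
      exact neg_add_cancel _
    · rw [hsmul, hsmul, mul_one, mul_one]
      exact mul_comm _ _
  set N : Submodule ↥A (PowerSeries k) := LinearMap.range j with hNdef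
  -- stability of SN
  have hΓSN : ∀ γ ∈ Γc n, ∀ s ∈ SN, γ + s ∈ SN := by
    intro γ hγ s hs
    have h1 : (X : PowerSeries k) ^ s ∈ N := (hN _).mpr (X_pow_mem_Mon hs)
    have h2 : (X : PowerSeries k) ^ γ ∈ A := (hA _).mpr (X_pow_mem_Mon hγ)
    have h3 := N.smul_mem ⟨_, h2⟩ h1
    rw [hsmul] at h3
    change (X : PowerSeries k) ^ γ * X ^ s ∈ N at h3
    rw [← pow_add] at h3
    exact mem_of_X_pow_mem ((hN _).mp h3)
  have hC : ∀ f, f ∈ colonB N ↔ f ∈ Mon k (Sc SN) := by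
    intro f
    rw [mem_colonB]
    have h1 := colon_mem_iff (k := k) Set.univ SN f
    have hs1 : {n : ℕ | ∀ τ ∈ (Set.univ : Set ℕ), n + τ ∈ SN} ⊆ Sc SN :=
      fun m hm j => hm j (Set.mem_univ j)
    have hs2 : Sc SN ⊆ {n : ℕ | ∀ τ ∈ (Set.univ : Set ℕ), n + τ ∈ SN} :=
      fun m hm j _ => hm j
    constructor
    · intro h
      have h2 := h1.mp (fun y _ => (hN _).mp (h y))
      exact Mon_mono hs1 h2
    · intro h b
      apply (hN _).mpr
      exact h1.mpr (Mon_mono hs2 h) b (fun _ _ => Set.mem_univ _)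
  have hQ : ∀ f, f ∈ xN N x ↔ f ∈ Mon k (shift n SN) := by
    intro f
    rw [mem_xN, mem_Mon_shift_iff]
    constructor
    · rintro ⟨g, hg, rfl⟩
      exact ⟨g, (hN g).mp hg, rfl⟩
    · rintro ⟨g, hg, rfl⟩
      exact ⟨g, (hN g).mpr hg, rfl⟩
  have hNm : ∀ f, f ∈ Nm (fun s => (X : PowerSeries k) ^ es s) N ↔ f ∈ Mon k (Sm es SN) := by
    intro f
    rw [mem_Nm]
    constructor
    · rintro ⟨h1, h2⟩ m hm
      refine ⟨(hN f).mp h1 m hm, fun s => ?_⟩
      have h3 := (X_pow_mul_mem_Mon_iff (es s) f SN).mp ((hN _).mp (h2 s))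
      exact h3 m hm
    · intro h
      refine ⟨(hN f).mpr (Mon_mono (fun m hm => hm.1) h), fun s => ?_⟩
      apply (hN _).mpr
      rw [X_pow_mul_mem_Mon_iff]
      exact Mon_mono (fun m hm => hm.2 s) h
  have hsub1 : shift n SN ⊆ Sc SN := by
    rintro m ⟨hm1, hm2⟩ j
    have h3 : m + j = (n + j) + (m - n) := by omega
    rw [h3]
    exact hΓSN _ (Or.inr (Nat.le_add_right n j)) _ hm2
  have hsub2 : Sm es SN ⊆ SN := fun m hm => hm.1
  have hcof1 : ∀ m, n + cN ≤ m → m ∈ shift n SN := fun m hm => ⟨by omega, hcN _ (by omega)⟩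
  have hcof2 : ∀ m, cN ≤ m → m ∈ Sm es SN := fun m hm =>
    ⟨hcN m hm, fun s => hcN _ (by omega)⟩
  obtain ⟨hfin1, _⟩ := finrank_quot_Mon (k := k) hcof1
  obtain ⟨hfin2, _⟩ := finrank_quot_Mon (k := k) hcof2
  have hlen1 := length_quot_generic (k := k) (hres_of_mon A (Γc n) hA)
    (colonB N) (xN N x) (Mon k (Sc SN)) (Mon k (shift n SN)) hC hQ (Mon_mono hsub1)
  rw [finrank_ker_eq hcof1 hsub1] at hlen1
  have hlen2 := length_quot_generic (k := k) (hres_of_mon A (Γc n) hA)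
    N (Nm (fun s => (X : PowerSeries k) ^ es s) N) (Mon k SN) (Mon k (Sm es SN)) hN hNm
    (Mon_mono hsub2)
  rw [finrank_ker_eq hcof2 hsub2] at hlen2
  exact length_diag hinj (fun s => (X : PowerSeries k) ^ es s) N x ax hx hax x hx hwB hdiv hall
    p hp hpker j hj rfl _ _ hlen1 hlen2

end Groth.Agent.Lib.Helper8.Mon
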