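import Mathlib
import Groth.Agent.Lib.Helper8Mon4

/-!
# `Ext¹(k[[t]], k[[t]])` over the `E₆` curve singularity `k[[t³, t⁴]]` (helper8)
-/

set_option autoImplicit false
set_option linter.style.haveILetI false
set_option linter.unusedSectionVars false
open CategoryTheory

namespace Groth.Agent.Lib.Helper8.Mon
open Groth.Agent.Lib.Helper8.ValSemi Groth.Agent.Lib.Helper8.ExtPres PowerSeries IsLocalRing

universe u

theorem E6_closure_char (n : ℕ) :
    n ∈ AddSubmonoid.closure ({3, 4} : Set ℕ) ↔ n = 0 ∨ n = 3 ∨ n = 4 ∨ 6 ≤ n := by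
  constructor
  · intro h
    refine AddSubmonoid.closure_induction
      (motive := fun n _ => n = 0 ∨ n = 3 ∨ n = 4 ∨ 6 ≤ n) ?_ ?_ ?_ h
    · intro x hx
      rcases hx with rfl | hx
      · right; left; rfl
      · rw [Set.mem_singleton_iff] at hx
        right; right; left; exact hx
    · left; rfl
    · intro x y _ _ hx hy
      omega
  · intro h
    have h3 : (3 : ℕ) ∈ AddSubmonoid.closure ({3, 4} : Set ℕ) :=
      AddSubmonoid.subset_closure (by simp)
    have h4 : (4 : ℕ) ∈ AddSubmonoid.closure ({3, 4} : Set ℕ) :=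
      AddSubmonoid.subset_closure (by simp)
    rcases h with rfl | rfl | rfl | h
    · exact AddSubmonoid.zero_mem _
    · exact h3
    · exact h4
    · have h5 : n % 3 = 0 ∨ n % 3 = 1 ∨ n % 3 = 2 := by omega
      rcases h5 with h5 | h5 | h5
      · have : n = (n / 3) • 3 := by rw [smul_eq_mul]; omega
        rw [this]
        exact AddSubmonoid.nsmul_mem _ h3 _
      · have : n = 4 + ((n - 4) / 3) • 3 := by rw [smul_eq_mul]; omega
        rw [this]
        exact AddSubmonoid.add_mem _ h4 (AddSubmonoid.nsmul_mem _ h3 _)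
      · have : n = (4 + 4) + ((n - 8) / 3) • 3 := by rw [smul_eq_mul]; omega
        rw [this]
        exact AddSubmonoid.add_mem _ (AddSubmonoid.add_mem _ h4 h4)
          (AddSubmonoid.nsmul_mem _ h3 _)

variable {k : Type u} [Field k] (A : Subalgebra k (PowerSeries k)) (Γ : Set ℕ)
  (hA : ∀ f : PowerSeries k, f ∈ A ↔ f ∈ Mon k Γ)
  (hΓ : ∀ n, n ∈ Γ ↔ n = 0 ∨ n = 3 ∨ n = 4 ∨ 6 ≤ n)

include hA hΓ in
theorem X_pow_mul_mem_E6 (g : PowerSeries k) {e : ℕ} (he : 6 ≤ e) :
    (X : PowerSeries k) ^ e * g ∈ A := by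
  rw [hA]
  have h1 : (X : PowerSeries k) ^ e * g ∈ Mon k (shift e Set.univ) :=
    (mem_Mon_shift_iff e Set.univ _).mpr ⟨g, fun _ _ => Set.mem_univ _, rfl⟩
  refine Mon_mono (fun m hm => ?_) h1
  rw [hΓ]
  have := hm.1
  omega

include hA hΓ in
theorem length_ext_E6_norm :
    Module.length ↥A (Abelian.Ext
      (ModuleCat.of ↥A ↥(Submodule.span ↥A ({1, (X : PowerSeries k), (X : PowerSeries k) ^ 2} :
        Set (PowerSeries k))))
      (ModuleCat.of ↥A ↥(Submodule.span ↥A ({1, (X : PowerSeries k), (X : PowerSeries k) ^ 2} :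
        Set (PowerSeries k)))) 1) = 6 := by
  haveI := isLocalRing_of_mon A Γ hA
  have hinj : Function.Injective (algebraMap ↥A (PowerSeries k)) := fun x y h => Subtype.ext h
  have hsmul : ∀ (a : ↥A) (f : PowerSeries k), a • f = (a : PowerSeries k) * f := fun _ _ => rfl
  have hX3 : (X : PowerSeries k) ^ 3 ∈ A := (hA _).mpr (X_pow_mem_Mon ((hΓ 3).mpr (by omega)))
  have hX4 : (X : PowerSeries k) ^ 4 ∈ A := (hA _).mpr (X_pow_mem_Mon ((hΓ 4).mpr (by omega)))
  have hX6 : (X : PowerSeries k) ^ 6 ∈ A := (hA _).mpr (X_pow_mem_Mon ((hΓ 6).mpr (by omega)))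
  set x3 : ↥A := ⟨X ^ 3, hX3⟩ with hx3
  set x4 : ↥A := ⟨X ^ 4, hX4⟩ with hx4
  set w : ↥A := ⟨X ^ 6, hX6⟩ with hwdef
  have hw : w ≠ 0 := by
    intro h
    have h1 : (X : PowerSeries k) ^ 6 = 0 := congrArg Subtype.val h
    exact pow_ne_zero 6 PowerSeries.X_ne_zero h1
  have hX3ne : (X : PowerSeries k) ^ 3 ≠ 0 := pow_ne_zero 3 PowerSeries.X_ne_zero
  set S : Submodule ↥A (PowerSeries k) := Submodule.span ↥A
    ({1, (X : PowerSeries k), (X : PowerSeries k) ^ 2} : Set (PowerSeries k)) with hS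
  let m : Fin 2 → PowerSeries k := ![X, X ^ 2]
  let κ : Fin 2 → ↥A × (Fin 2 → ↥A) := ![(x4, ![-x3, 0]), (0, ![x4, -x3])]
  have hm0 : m 0 = X := rfl
  have hm1 : m 1 = X ^ 2 := rfl
  have hκ01 : ((κ 0).1 : PowerSeries k) = X ^ 4 := rfl
  have hκ00 : (((κ 0).2 0 : ↥A) : PowerSeries k) = -X ^ 3 := rfl
  have hκ0' : (((κ 0).2 1 : ↥A) : PowerSeries k) = 0 := rfl
  have hκ11 : ((κ 1).1 : PowerSeries k) = 0 := rfl
  have hκ10 : (((κ 1).2 0 : ↥A) : PowerSeries k) = X ^ 4 := rfl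
  have hκ1' : (((κ 1).2 1 : ↥A) : PowerSeries k) = -X ^ 3 := rfl
  have hκ : ∀ t, (κ t).1 • (1 : PowerSeries k) + ∑ s, (κ t).2 s • m s = 0 := by
    intro t
    rw [Fin.sum_univ_two, hsmul, hsmul, hsmul, hm0, hm1]
    fin_cases t
    · change ((κ 0).1 : PowerSeries k) * 1 + ((((κ 0).2 0 : ↥A) : PowerSeries k) * X +
        (((κ 0).2 1 : ↥A) : PowerSeries k) * X ^ 2) = 0
      rw [hκ01, hκ00, hκ0']
      ring
    · change ((κ 1).1 : PowerSeries k) * 1 + ((((κ 1).2 0 : ↥A) : PowerSeries k) * X +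
        (((κ 1).2 1 : ↥A) : PowerSeries k) * X ^ 2) = 0
      rw [hκ11, hκ10, hκ1']
      ring
  have hwB : ∀ b : PowerSeries k, ∃ a : ↥A, a • (1 : PowerSeries k) = w • b := by
    intro b
    refine ⟨⟨X ^ 6 * b, X_pow_mul_mem_E6 A Γ hA hΓ b (le_refl 6)⟩, ?_⟩
    rw [hsmul, hsmul, mul_one]
  have hsumκ : ∀ (b : Fin 2 → PowerSeries k) (s : Fin 2),
      ∑ t, b t * ((κ t).2 s • (1 : PowerSeries k)) =
        b 0 * (((κ 0).2 s : ↥A) : PowerSeries k) + b 1 * (((κ 1).2 s : ↥A) : PowerSeries k) := by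
    intro b s
    rw [Fin.sum_univ_two, hsmul, hsmul, mul_one, mul_one]
  have hnot : ∀ d, d = 1 ∨ d = 2 ∨ d = 5 → d ∉ Γ := by
    intro d hd h
    rw [hΓ] at h
    omega
  have hspan : ∀ (a : ↥A) (y : Fin 2 → ↥A),
      a • (1 : PowerSeries k) + ∑ s, y s • m s = 0 →
      ∃ b : Fin 2 → PowerSeries k, ∀ s, y s • (1 : PowerSeries k) =
        ∑ t, b t * ((κ t).2 s • (1 : PowerSeries k)) := by
    intro a y h
    rw [Fin.sum_univ_two, hsmul, hsmul, hsmul, hm0, hm1, mul_one] at h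
    have hy : ∀ s, ((y s : ↥A) : PowerSeries k) ∈ Mon k Γ := fun s => (hA _).mp (y s).2
    have ha : (a : PowerSeries k) ∈ Mon k Γ := (hA _).mp a.2
    have h' : (a : PowerSeries k) + (((y 0 : ↥A) : PowerSeries k) * X ^ 1 +
        ((y 1 : ↥A) : PowerSeries k) * X ^ 2) = 0 := by
      rw [pow_one]
      exact h
    have hc1 := congrArg (coeff 1) h'
    have hc2 := congrArg (coeff 2) h'
    rw [map_add, map_add, map_zero, coeff_eq_zero_of_mem ha (hnot 1 (by omega)), zero_add,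
      coeff_mul_X_pow', coeff_mul_X_pow', if_pos (le_refl 1),
      if_neg (by omega), add_zero, Nat.sub_self] at hc1
    rw [map_add, map_add, map_zero, coeff_eq_zero_of_mem ha (hnot 2 (by omega)), zero_add,
      coeff_mul_X_pow', coeff_mul_X_pow', if_pos (by omega),
      if_pos (le_refl 2), Nat.sub_self,
      coeff_eq_zero_of_mem (hy 0) (hnot (2 - 1) (by omega)), zero_add] at hc2
    have hc0 : ∀ s, coeff 0 ((y s : ↥A) : PowerSeries k) = 0 := by
      intro s
      fin_cases s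
      · exact hc1
      · exact hc2
    have hmem : ∀ s, ((y s : ↥A) : PowerSeries k) ∈ Mon k (shift 3 Set.univ) := by
      intro s d hd
      have h1 := hy s d hd
      rw [hΓ] at h1
      refine ⟨?_, Set.mem_univ _⟩
      rcases h1 with h1 | h1 | h1 | h1
      · rw [h1] at hd
        exact absurd (hc0 s) hd
      · omega
      · omega
      · omega
    have hg : ∀ s, ∃ g : PowerSeries k, ((y s : ↥A) : PowerSeries k) = X ^ 3 * g := fun s => by
      obtain ⟨g, _, hg⟩ := (mem_Mon_shift_iff 3 Set.univ _).mp (hmem s)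
      exact ⟨g, hg⟩
    choose g hg using hg
    refine ⟨![-(g 1 * X) - g 0, -g 1], fun s => ?_⟩
    rw [hsumκ, hsmul, mul_one, hg s]
    fin_cases s
    · change X ^ 3 * g 0 = (-(g 1 * X) - g 0) * (((κ 0).2 0 : ↥A) : PowerSeries k) +
        (-g 1) * (((κ 1).2 0 : ↥A) : PowerSeries k)
      rw [hκ00, hκ10]
      ring
    · change X ^ 3 * g 1 = (-(g 1 * X) - g 0) * (((κ 0).2 1 : ↥A) : PowerSeries k) +
        (-g 1) * (((κ 1).2 1 : ↥A) : PowerSeries k)
      rw [hκ0', hκ1']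
      ring
  have hindep : ∀ b : Fin 2 → PowerSeries k,
      (∀ s, ∑ t, b t * ((κ t).2 s • (1 : PowerSeries k)) = 0) → b = 0 := by
    intro b hb
    have h0 := hb 0
    have h1 := hb 1
    rw [hsumκ, hκ00, hκ10] at h0
    rw [hsumκ, hκ0', hκ1', mul_zero, zero_add, mul_neg, neg_eq_zero] at h1
    have hb1 : b 1 = 0 := (mul_eq_zero.mp h1).resolve_right hX3ne
    rw [hb1, zero_mul, add_zero, mul_neg, neg_eq_zero] at h0
    have hb0 : b 0 = 0 := (mul_eq_zero.mp h0).resolve_right hX3ne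
    funext s
    fin_cases s
    · exact hb0
    · exact hb1
  -- the module is everything
  have hStop : ∀ f : PowerSeries k, f ∈ S := by
    intro f
    have himg : ({1, (X : PowerSeries k), (X : PowerSeries k) ^ 2} : Set (PowerSeries k)) =
        (fun e : ℕ => (X : PowerSeries k) ^ e) '' ({0, 1, 2} : Set ℕ) := by
      rw [Set.image_insert_eq, Set.image_pair, pow_zero, pow_one]
    rw [hS, himg, mem_span_X_pow A Γ hA _ (Set.toFinite _) f]
    intro d _
    rw [Set.mem_iUnion₂]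
    by_cases hd : d ∈ Γ
    · exact ⟨0, by simp, Nat.zero_le _, hd⟩
    · rw [hΓ] at hd
      have h5 : d = 1 ∨ d = 2 ∨ d = 5 := by omega
      rcases h5 with rfl | rfl | rfl
      · exact ⟨1, by simp, le_refl _, (hΓ _).mpr (Or.inl rfl)⟩
      · exact ⟨2, by simp, le_refl _, (hΓ _).mpr (Or.inl rfl)⟩
      · exact ⟨1, by simp, by omega, (hΓ _).mpr (by right; right; left; rfl)⟩
  have h1S : (1 : PowerSeries k) ∈ S := hStop 1
  have hmS : ∀ s, m s ∈ S := fun s => hStop _
  have hSle : S ≤ Submodule.span ↥A (insert (1 : PowerSeries k) (Set.range m)) := by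
    rw [hS, Submodule.span_le]
    rintro f (rfl | rfl | hf)
    · exact Submodule.subset_span (Or.inl rfl)
    · exact Submodule.subset_span (Or.inr ⟨0, rfl⟩)
    · rw [Set.mem_singleton_iff] at hf
      rw [hf]
      exact Submodule.subset_span (Or.inr ⟨1, rfl⟩)
  -- the coordinatewise descriptions
  have hDG : ∀ z, z ∈ DG m S κ ↔ ∀ t, z t ∈ (⊤ : Submodule ↥A (PowerSeries k)) := by
    intro z
    constructor
    · intro _ t
      exact Submodule.mem_top
    · intro _ a y _ b _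
      exact hStop _
  have hPG : ∀ z, z ∈ PG S κ ↔ ∀ t, z t ∈ xN (⊤ : Submodule ↥A (PowerSeries k)) x3 := by
    intro z
    rw [mem_PG]
    constructor
    · rintro ⟨u₀, _, u, _, hz⟩ t
      rw [mem_xN]
      fin_cases t
      · refine ⟨X * u₀ - u 0, Submodule.mem_top, ?_⟩
        have h2 := hz 0
        rw [Fin.sum_univ_two, hsmul, hsmul, hsmul, hκ01, hκ00, hκ0'] at h2
        change z 0 = _
        rw [h2, hsmul]
        change _ = X ^ 3 * (X * u₀ - u 0)
        ring
      · refine ⟨X * u 0 - u 1, Submodule.mem_top, ?_⟩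
        have h2 := hz 1
        rw [Fin.sum_univ_two, hsmul, hsmul, hsmul, hκ11, hκ10, hκ1'] at h2
        change z 1 = _
        rw [h2, hsmul]
        change _ = X ^ 3 * (X * u 0 - u 1)
        ring
    · intro h
      obtain ⟨g0, _, hg0⟩ := (mem_xN _ _ _).mp (h 0)
      obtain ⟨g1, _, hg1⟩ := (mem_xN _ _ _).mp (h 1)
      rw [hsmul] at hg0 hg1
      change z 0 = X ^ 3 * g0 at hg0
      change z 1 = X ^ 3 * g1 at hg1
      refine ⟨0, S.zero_mem, ![-g0, -(X * g0) - g1], fun s => hStop _, fun t => ?_⟩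
      rw [Fin.sum_univ_two, hsmul, hsmul, hsmul, mul_zero, zero_add]
      fin_cases t
      · change z 0 = (((κ 0).2 0 : ↥A) : PowerSeries k) * (-g0) +
          (((κ 0).2 1 : ↥A) : PowerSeries k) * (-(X * g0) - g1)
        rw [hκ00, hκ0', hg0]
        ring
      · change z 1 = (((κ 1).2 0 : ↥A) : PowerSeries k) * (-g0) +
          (((κ 1).2 1 : ↥A) : PowerSeries k) * (-(X * g0) - g1)
        rw [hκ10, hκ1', hg1]
        ring
  -- the length of `B / X³ B`
  have hD' : ∀ f, f ∈ (⊤ : Submodule ↥A (PowerSeries k)) ↔ f ∈ Mon k Set.univ := fun f =>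
    ⟨fun _ d _ => Set.mem_univ d, fun _ => Submodule.mem_top⟩
  have hP' : ∀ f, f ∈ xN (⊤ : Submodule ↥A (PowerSeries k)) x3 ↔
      f ∈ Mon k (shift 3 Set.univ) := by
    intro f
    rw [mem_xN, mem_Mon_shift_iff]
    constructor
    · rintro ⟨g, _, rfl⟩
      exact ⟨g, fun d _ => Set.mem_univ d, rfl⟩
    · rintro ⟨g, _, rfl⟩
      exact ⟨g, Submodule.mem_top, rfl⟩
  have hsub : shift 3 (Set.univ : Set ℕ) ⊆ Set.univ := fun d _ => Set.mem_univ d
  have hcof : ∀ d, 3 ≤ d → d ∈ shift 3 (Set.univ : Set ℕ) := fun d hd => ⟨hd, Set.mem_univ _⟩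
  obtain ⟨hfin, _⟩ := finrank_quot_Mon (k := k) hcof
  have hlen := length_quot_generic (k := k) (hres_of_mon A Γ hA)
    (⊤ : Submodule ↥A (PowerSeries k)) (xN (⊤ : Submodule ↥A (PowerSeries k)) x3)
    (Mon k Set.univ) (Mon k (shift 3 Set.univ)) hD' hP' (Mon_mono hsub)
  rw [finrank_ker_eq hcof hsub] at hlen
  have hset : (Set.univ : Set ℕ) \ shift 3 Set.univ = ↑(Finset.range 3) := by
    ext d
    rw [Finset.coe_range, Set.mem_Iio, Set.mem_sdiff]
    constructor
    · rintro ⟨_, h3⟩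
      by_contra h4
      exact h3 ⟨by omega, Set.mem_univ _⟩
    · intro h2
      refine ⟨Set.mem_univ _, ?_⟩
      rintro ⟨h5, _⟩
      omega
  rw [hset, Set.ncard_coe_finset, Finset.card_range] at hlen
  have key := length_ext_pi_generic (M₀ := ↥S) (N₀ := ↥S) hinj m S κ hκ w hw hwB hspan hindep
    (pSub m S h1S hmS) (pSub_surjective m S h1S hmS hSle) (pSub_ker m S h1S hmS)
    S.subtype Subtype.val_injective (Submodule.range_subtype S) _ _ hDG hPG _ hlen
  rw [key]
  norm_num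

end Groth.Agent.Lib.Helper8.Mon
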