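import Mathlib

/-! Essential constancy of an inverse system of Artinian modules whose limit is a given Artinian
module (helper8). -/

set_option autoImplicit false
set_option linter.unusedSectionVars false
universe u

namespace Groth.Agent.Lib.Helper8.EssConst

section Seq

/-- Dependent choice along successive surjections. -/
theorem exists_seq {G : ℕ → Type u} (u : ∀ k, G (k + 1) → G k) (I : ∀ k, Set (G k))
    (hsurj : ∀ k, ∀ y ∈ I k, ∃ z ∈ I (k + 1), u k z = y) (y : G 0) (hy : y ∈ I 0) :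
    ∃ z : ∀ k, G k, z 0 = y ∧ (∀ k, z k ∈ I k) ∧ ∀ k, u k (z (k + 1)) = z k := by
  let w : ∀ k, {v : G k // v ∈ I k} := fun k =>
    Nat.rec (motive := fun k => {v : G k // v ∈ I k}) ⟨y, hy⟩
      (fun k prev => ⟨(hsurj k prev.1 prev.2).choose, (hsurj k prev.1 prev.2).choose_spec.1⟩) k
  refine ⟨fun k => (w k).1, rfl, fun k => (w k).2, fun k => ?_⟩
  exact (hsurj k (w k).1 (w k).2).choose_spec.2

end Seq

section Core

variable {A : Type u} [CommRing A] {H : Type u} [AddCommGroup H] [Module A H] [IsArtinian A H]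
  {Hn : ℕ → Type u} [∀ n, AddCommGroup (Hn n)] [∀ n, Module A (Hn n)] [∀ n, IsArtinian A (Hn n)]
  (t : ∀ n m : ℕ, n ≤ m → (Hn m →ₗ[A] Hn n))
  (ht_id : ∀ n (x : Hn n), t n n le_rfl x = x)
  (ht_comp : ∀ (n m k : ℕ) (h1 : n ≤ m) (h2 : m ≤ k) (x : Hn k),
    t n m h1 (t m k h2 x) = t n k (h1.trans h2) x)
  (c : ∀ n, H →ₗ[A] Hn n)
  (hc : ∀ (n m : ℕ) (h : n ≤ m) (x : H), t n m h (c m x) = c n x)

include hc in
/-- Eventually the maps `c n` are injective. -/
theorem exists_injective (hinj : ∀ x : H, (∀ n, c n x = 0) → x = 0) :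
    ∃ i₀, ∀ m, i₀ ≤ m → Function.Injective (c m) := by
  have hanti : ∀ n m, n ≤ m → LinearMap.ker (c m) ≤ LinearMap.ker (c n) := by
    intro n m h x hx
    rw [LinearMap.mem_ker] at hx ⊢
    rw [← hc n m h x, hx, map_zero]
  let f : ℕ →o (Submodule A H)ᵒᵈ :=
    ⟨fun n => OrderDual.toDual (LinearMap.ker (c n)), fun n m h => hanti n m h⟩
  obtain ⟨i₀, hi₀⟩ := IsArtinian.monotone_stabilizes f
  have hstab : ∀ m, i₀ ≤ m → LinearMap.ker (c i₀) = LinearMap.ker (c m) := fun m hm =>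
    congrArg OrderDual.ofDual (hi₀ m hm)
  have hbot : LinearMap.ker (c i₀) = ⊥ := by
    rw [eq_bot_iff]
    intro x hx
    rw [Submodule.mem_bot]
    apply hinj
    intro n
    rcases le_total i₀ n with h | h
    · have : x ∈ LinearMap.ker (c n) := by rw [← hstab n h]; exact hx
      exact this
    · exact hanti n i₀ h hx
  refine ⟨i₀, fun m hm => ?_⟩
  rw [← LinearMap.ker_eq_bot, ← hstab m hm, hbot]

include ht_comp in
/-- Stable images. -/
theorem exists_stable (n : ℕ) :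
    ∃ κ, n ≤ κ ∧ ∀ k (hk : n ≤ k), κ ≤ k →
      ∀ (κ' : ℕ) (hκ' : n ≤ κ'), κ ≤ κ' →
        LinearMap.range (t n k hk) = LinearMap.range (t n κ' hκ') := by
  let f : ℕ →o (Submodule A (Hn n))ᵒᵈ :=
    ⟨fun d => OrderDual.toDual (LinearMap.range (t n (n + d) (Nat.le_add_right n d))),
      fun d d' h => by
        change LinearMap.range (t n (n + d') _) ≤ LinearMap.range (t n (n + d) _)
        rintro _ ⟨z, rfl⟩
        exact ⟨t (n + d) (n + d') (Nat.add_le_add_left h n) z, ht_comp _ _ _ _ _ z⟩⟩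
  obtain ⟨d₀, hd₀⟩ := IsArtinian.monotone_stabilizes f
  have hstab : ∀ d, d₀ ≤ d → LinearMap.range (t n (n + d₀) (Nat.le_add_right n d₀)) =
      LinearMap.range (t n (n + d) (Nat.le_add_right n d)) := fun d hd =>
    congrArg OrderDual.ofDual (hd₀ d hd)
  refine ⟨n + d₀, Nat.le_add_right n d₀, ?_⟩
  intro k hk hκk κ' hκ' hκκ'
  obtain ⟨d, rfl⟩ := Nat.exists_eq_add_of_le hk
  obtain ⟨d', rfl⟩ := Nat.exists_eq_add_of_le hκ'
  rw [← hstab d (by omega), ← hstab d' (by omega)]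

include ht_id ht_comp hc in
/-- The main statement. -/
theorem main (hinj : ∀ x : H, (∀ n, c n x = 0) → x = 0)
    (hsurj : ∀ y : (∀ n, Hn n), (∀ (n m : ℕ) (h : n ≤ m), t n m h (y m) = y n) →
      ∃ x : H, ∀ n, c n x = y n) :
    ∃ (i : ℕ) (s : Hn i →ₗ[A] H), (∀ x, s (c i x) = x) ∧
      ∀ j : ℕ, ∃ (k : ℕ) (hi : i ≤ k) (hj : j ≤ k), ∀ z : Hn k,
        t j k hj z = c j (s (t i k hi z)) := by
  classical
  obtain ⟨i₀, hi₀⟩ := exists_injective t c hc hinj
  -- stable images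
  choose κ hκ_le hκ using exists_stable t ht_comp
  -- stable image is contained in the image of `H`
  have himg : ∀ (n : ℕ) (z : Hn (κ n)), ∃ x : H, c n x = t n (κ n) (hκ_le n) z := by
    intro n₀ z₀
    -- shifted system
    let G : ℕ → Type u := fun k => Hn (n₀ + k)
    let uu : ∀ k, G (k + 1) → G k := fun k => t (n₀ + k) (n₀ + k + 1) (Nat.le_succ _)
    let I : ∀ k, Set (G k) := fun k =>
      {v | ∃ z : Hn (κ (n₀ + k)), t (n₀ + k) (κ (n₀ + k)) (hκ_le _) z = v}
    have hsurjI : ∀ k, ∀ y ∈ I k, ∃ z ∈ I (k + 1), uu k z = y := by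
      intro k y hy
      obtain ⟨z, rfl⟩ := hy
      let K := max (κ (n₀ + k)) (κ (n₀ + k + 1))
      have hK1 : κ (n₀ + k) ≤ K := le_max_left _ _
      have hK2 : κ (n₀ + k + 1) ≤ K := le_max_right _ _
      have h1 : LinearMap.range (t (n₀ + k) K ((hκ_le _).trans hK1)) =
          LinearMap.range (t (n₀ + k) (κ (n₀ + k)) (hκ_le _)) :=
        hκ (n₀ + k) K ((hκ_le _).trans hK1) hK1 (κ (n₀ + k)) (hκ_le _) le_rfl
      have hz : t (n₀ + k) (κ (n₀ + k)) (hκ_le _) z ∈
          LinearMap.range (t (n₀ + k) K ((hκ_le _).trans hK1)) := by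
        rw [h1]
        exact ⟨z, rfl⟩
      obtain ⟨z', hz'⟩ := hz
      have h2 : LinearMap.range (t (n₀ + k + 1) K ((hκ_le _).trans hK2)) =
          LinearMap.range (t (n₀ + k + 1) (κ (n₀ + k + 1)) (hκ_le _)) :=
        hκ (n₀ + k + 1) K ((hκ_le _).trans hK2) hK2 (κ (n₀ + k + 1)) (hκ_le _) le_rfl
      have hz2 : t (n₀ + k + 1) K ((hκ_le _).trans hK2) z' ∈
          LinearMap.range (t (n₀ + k + 1) (κ (n₀ + k + 1)) (hκ_le _)) := by
        rw [← h2]
        exact ⟨z', rfl⟩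
      obtain ⟨z'', hz''⟩ := hz2
      refine ⟨t (n₀ + k + 1) K ((hκ_le _).trans hK2) z', ⟨z'', hz''⟩, ?_⟩
      change t (n₀ + k) (n₀ + k + 1) _ (t (n₀ + k + 1) K _ z') = _
      rw [ht_comp, hz']
    obtain ⟨w, hw0, hwI, hwu⟩ := exists_seq uu I hsurjI (t n₀ (κ n₀) (hκ_le n₀) z₀) ⟨z₀, rfl⟩
    -- compatibility of `w`
    have hwcomp : ∀ a b (h : a ≤ b), t (n₀ + a) (n₀ + b) (Nat.add_le_add_left h n₀) (w b) = w a := by
      intro a b h
      induction b, h using Nat.le_induction with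
      | base => exact ht_id _ _
      | succ b hab ih =>
        have h3 := ht_comp (n₀ + a) (n₀ + b) (n₀ + b + 1) (Nat.add_le_add_left hab n₀)
          (Nat.le_succ _) (w (b + 1))
        have h4 : t (n₀ + b) (n₀ + b + 1) (Nat.le_succ _) (w (b + 1)) = w b := hwu b
        rw [h4] at h3
        rw [← ih]
        exact h3.symm
    -- the compatible family
    let Y : ∀ m, Hn m := fun m => t m (n₀ + m) (Nat.le_add_left m n₀) (w m)
    have hY : ∀ (a b : ℕ) (h : a ≤ b), t a b h (Y b) = Y a := by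
      intro a b h
      change t a b h (t b (n₀ + b) _ (w b)) = t a (n₀ + a) _ (w a)
      rw [ht_comp, ← hwcomp a b h, ht_comp]
    obtain ⟨x, hx⟩ := hsurj Y hY
    refine ⟨x, ?_⟩
    rw [hx n₀]
    change t n₀ (n₀ + n₀) _ (w n₀) = _
    have h5 := hwcomp 0 n₀ (Nat.zero_le _)
    rw [hw0] at h5
    exact h5
  -- range of any far transition map lies in the image of `H`
  have himg' : ∀ (n k : ℕ) (hk : n ≤ k), κ n ≤ k → ∀ z : Hn k, ∃ x : H, c n x = t n k hk z := by
    intro n k hk hκk z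
    have h1 : LinearMap.range (t n k hk) = LinearMap.range (t n (κ n) (hκ_le n)) :=
      hκ n k hk hκk (κ n) (hκ_le n) le_rfl
    have hz : t n k hk z ∈ LinearMap.range (t n (κ n) (hκ_le n)) := by
      rw [← h1]
      exact ⟨z, rfl⟩
    obtain ⟨z', hz'⟩ := hz
    obtain ⟨x, hx⟩ := himg n z'
    exact ⟨x, hx.trans hz'⟩
  -- the splitting
  let i' := κ i₀
  have hinj₀ := hi₀ i₀ le_rfl
  let e := LinearEquiv.ofInjective (c i₀) hinj₀
  have hmem : ∀ z : Hn i', t i₀ i' (hκ_le i₀) z ∈ LinearMap.range (c i₀) := by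
    intro z
    obtain ⟨x, hx⟩ := himg i₀ z
    exact ⟨x, hx⟩
  let s : Hn i' →ₗ[A] H :=
    e.symm.toLinearMap ∘ₗ (LinearMap.codRestrict (LinearMap.range (c i₀)) (t i₀ i' (hκ_le i₀)) hmem)
  have hs : ∀ (z : Hn i') (x : H), c i₀ x = t i₀ i' (hκ_le i₀) z → s z = x := by
    intro z x hx
    change e.symm _ = x
    rw [LinearEquiv.symm_apply_eq]
    apply Subtype.ext
    exact hx.symm
  refine ⟨i', s, ?_, ?_⟩
  · intro x
    exact hs _ x (hc i₀ i' (hκ_le i₀) x).symm
  · intro j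
    let m := max j i₀
    let k := max (κ m) i'
    have hmk : m ≤ k := (hκ_le m).trans (le_max_left _ _)
    have hjk : j ≤ k := (le_max_left j i₀).trans hmk
    have hik : i' ≤ k := le_max_right _ _
    refine ⟨k, hik, hjk, fun z => ?_⟩
    obtain ⟨x, hx⟩ := himg' m k hmk (le_max_left _ _) z
    have h1 : t j k hjk z = c j x := by
      rw [← ht_comp j m k (le_max_left j i₀) hmk z, ← hx, hc]
    have h2 : s (t i' k hik z) = x := by
      apply hs
      rw [ht_comp]
      rw [← ht_comp i₀ m k (le_max_right j i₀) hmk z, ← hx, hc]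
    rw [h1, h2]

end Core

end Groth.Agent.Lib.Helper8.EssConst
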