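import Mathlib
import Groth.Agent.Lib.Helper13TorD1

/-! `Ext`-maps versus `Tor`-maps: for `α : M → M'` with `M` finite over a Noetherian ring,
`α` kills `Ext^{e+1}(M', -)` iff it kills `Tor_{e+1}(-, -)` (helper8). -/

set_option autoImplicit false
set_option linter.unusedSectionVars false
universe u
open CategoryTheory CategoryTheory.Limits CategoryTheory.Abelian MonoidalCategory
open scoped TensorProduct

namespace Groth.Agent.Lib.Helper8.ExtTor
open Groth.Agent.Helper13Tor

variable {R : Type u} [CommRing R]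

/-- Precomposition with `t` kills `Ext^k(X, -)`. -/
def ExtCond {X X' : ModuleCat.{u} R} (t : X' ⟶ X) (k : ℕ) : Prop :=
  ∀ (N : ModuleCat.{u} R) (x : Ext.{u} X N k), (Ext.mk₀ t).comp x (zero_add k) = 0

/-- `Tor_k(t, -) = 0`. -/
def TorCond {X X' : ModuleCat.{u} R} (t : X' ⟶ X) (k : ℕ) : Prop :=
  ∀ Y : ModuleCat.{u} R, ((Tor (ModuleCat.{u} R) k).map t).app Y = 0

/-- `ζ ⊗ Y` kills the kernel of `ι ⊗ Y` for every `Y`. -/
def TensorCond {Z F Z' : Type u} [AddCommMonoid Z] [Module R Z] [AddCommMonoid F] [Module R F]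
    [AddCommMonoid Z'] [Module R Z'] (ι : Z →ₗ[R] F) (ζ : Z →ₗ[R] Z') : Prop :=
  ∀ (Y : ModuleCat.{u} R) (w : Z ⊗[R] Y),
    LinearMap.rTensor Y ι w = 0 → LinearMap.rTensor Y ζ w = 0

section Shift

variable {S S' : ShortComplex (ModuleCat.{u} R)} (φ : S ⟶ S') (hS : S.ShortExact)
  (hS' : S'.ShortExact)

include hS hS' in
theorem extCond_aux (k : ℕ) (N : ModuleCat.{u} R) (y : Ext.{u} S'.X₁ N k) :
    (Ext.mk₀ φ.τ₃).comp (hS'.extClass.comp y (add_comm 1 k)) (zero_add (k + 1)) =
      hS.extClass.comp ((Ext.mk₀ φ.τ₁).comp y (zero_add k)) (add_comm 1 k) := by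
  rw [← Ext.comp_assoc (Ext.mk₀ φ.τ₃) hS'.extClass y (zero_add 1) (add_comm 1 k) (by omega),
    ← ShortComplex.ShortExact.extClass_naturality hS hS' φ,
    Ext.comp_assoc hS.extClass (Ext.mk₀ φ.τ₁) y (add_zero 1) (zero_add k) (by omega)]

include hS hS' in
theorem extCond_succ_iff [Projective S.X₂] [Projective S'.X₂] (k : ℕ) :
    ExtCond φ.τ₃ (k + 1 + 1) ↔ ExtCond φ.τ₁ (k + 1) := by
  constructor
  · intro h N y
    have h1 := h N (hS'.extClass.comp y (add_comm 1 (k + 1)))
    rw [extCond_aux φ hS hS'] at h1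
    obtain ⟨x₂, hx₂⟩ := Ext.contravariant_sequence_exact₁ hS N _ (add_comm 1 (k + 1)) h1
    rw [← hx₂, Ext.eq_zero_of_projective x₂, Ext.comp_zero]
  · intro h N x
    obtain ⟨y, rfl⟩ := Ext.contravariant_sequence_exact₃ hS' N x (Ext.eq_zero_of_projective _)
      (add_comm 1 (k + 1))
    rw [extCond_aux φ hS hS', h N y, Ext.comp_zero]

include hS hS' in
theorem extCond_one_iff [Projective S'.X₂] :
    ExtCond φ.τ₃ 1 ↔ ∃ ψ : S.X₂ ⟶ S'.X₁, S.f ≫ ψ = φ.τ₁ := by
  constructor
  · intro h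
    have h1 := h S'.X₁ (hS'.extClass.comp (Ext.mk₀ (𝟙 S'.X₁)) (add_comm 1 0))
    rw [extCond_aux φ hS hS'] at h1
    obtain ⟨x₂, hx₂⟩ := Ext.contravariant_sequence_exact₁ hS S'.X₁ _ (add_comm 1 0) h1
    obtain ⟨ψ, rfl⟩ := (Ext.mk₀_bijective _ _).2 x₂
    rw [Ext.mk₀_comp_mk₀, Ext.mk₀_comp_mk₀, Category.comp_id] at hx₂
    exact ⟨ψ, (Ext.mk₀_bijective _ _).1 hx₂⟩
  · rintro ⟨ψ, hψ⟩ N x
    obtain ⟨y, rfl⟩ := Ext.contravariant_sequence_exact₃ hS' N x (Ext.eq_zero_of_projective _)
      (add_comm 1 0)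
    rw [extCond_aux φ hS hS', ← hψ, ← Ext.mk₀_comp_mk₀,
      Ext.comp_assoc (Ext.mk₀ S.f) (Ext.mk₀ ψ) y (zero_add 0) (zero_add 0) (by omega)]
    exact ShortComplex.ShortExact.extClass_comp_assoc hS _

include hS hS' in
theorem torCond_succ_iff [Module.Flat R S.X₂] [Module.Flat R S'.X₂] (k : ℕ) :
    TorCond φ.τ₃ (k + 1 + 1) ↔ TorCond φ.τ₁ (k + 1) := by
  constructor
  · intro h Y
    let Q := ProjectiveResolution.of Y
    have hnat := δQ_naturality₁ φ hS hS' Q (k + 1)
    rw [h Y, zero_comp] at hnat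
    have hz : ((Tor (ModuleCat.{u} R) (k + 1)).map S.f).app Y = 0 :=
      (isZero_tor_of_flat Y S.X₂ (k + 1) (by omega)).eq_of_tgt _ _
    have hepi : Epi (δQ S hS Q (k + 1)) := (δQ_exact₁ S hS Q (k + 1)).epi_f hz
    exact (cancel_epi (δQ S hS Q (k + 1))).1 (by rw [hnat, comp_zero])
  · intro h Y
    let Q := ProjectiveResolution.of Y
    have hnat := δQ_naturality₁ φ hS hS' Q (k + 1)
    rw [h Y, comp_zero] at hnat
    have hz : ((Tor (ModuleCat.{u} R) (k + 1 + 1)).map S'.g).app Y = 0 :=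
      (isZero_tor_of_flat Y S'.X₂ (k + 1 + 1) (by omega)).eq_of_src _ _
    have hmono : Mono (δQ S' hS' Q (k + 1)) := (δQ_exact₃ S' hS' Q (k + 1)).mono_g hz
    exact (cancel_mono (δQ S' hS' Q (k + 1))).1 (by rw [← hnat, zero_comp])

end Shift

section Base

variable {S S' : ShortComplex (ModuleCat.{u} R)} (φ : S ⟶ S') (hS : S.ShortExact)
  (hS' : S'.ShortExact)

theorem torZero_nat {X X' : ModuleCat.{u} R} (f : X ⟶ X') (Y : ModuleCat.{u} R)
    (w : ((Tor (ModuleCat.{u} R) 0).obj X).obj Y) :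
    ((torZeroIso.app X').app Y).hom ((((Tor (ModuleCat.{u} R) 0).map f).app Y) w) =
      LinearMap.rTensor Y f.hom (((torZeroIso.app X).app Y).hom w) := by
  have hn : ((Tor (ModuleCat.{u} R) 0).map f).app Y ≫ ((torZeroIso.app X').app Y).hom =
      ((torZeroIso.app X).app Y).hom ≫ ((tensoringLeft (ModuleCat.{u} R)).map f).app Y := by
    have := congr_arg (fun t => t.app Y) (torZeroIso.hom.naturality f)
    exact this
  have h2 := congrArg (fun t => t.hom w) hn
  exact h2

include hS hS' in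
theorem torCond_one_iff [Module.Flat R S'.X₂] :
    TorCond φ.τ₃ 1 ↔ TensorCond S.f.hom φ.τ₁.hom := by
  constructor
  · intro h Y w hw
    let Q := ProjectiveResolution.of Y
    have hnat := δQ_naturality₁ φ hS hS' Q 0
    have h' : ((Tor (ModuleCat.{u} R) (0 + 1)).map φ.τ₃).app Y = 0 := h Y
    rw [h', zero_comp] at hnat
    let w' : ((Tor (ModuleCat.{u} R) 0).obj S.X₁).obj Y := ((torZeroIso.app S.X₁).app Y).inv w
    have hw' : ((torZeroIso.app S.X₁).app Y).hom w' = w := by
      change (((torZeroIso.app S.X₁).app Y).inv ≫ ((torZeroIso.app S.X₁).app Y).hom) w = w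
      rw [Iso.inv_hom_id]
      rfl
    have h1 : (((Tor (ModuleCat.{u} R) 0).map S.f).app Y) w' = 0 := by
      have h2 := torZero_nat S.f Y w'
      rw [hw', hw] at h2
      have hinj : Function.Injective ((torZeroIso.app S.X₂).app Y).hom :=
        (ConcreteCategory.bijective_of_isIso ((torZeroIso.app S.X₂).app Y).hom).1
      exact hinj (by rw [h2, map_zero])
    have hex := (ShortComplex.ShortExact.moduleCat_exact_iff_function_exact _).1
      (δQ_exact₁ S hS Q 0)
    obtain ⟨t, ht⟩ := (hex w').1 h1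
    have h3 := torZero_nat φ.τ₁ Y w'
    rw [hw'] at h3
    rw [← h3]
    have h4 : (((Tor (ModuleCat.{u} R) 0).map φ.τ₁).app Y) w' = 0 := by
      rw [← ht]
      have h5 := congrArg (fun r => r.hom t) hnat
      exact h5
    rw [h4, map_zero]
  · intro h Y
    let Q := ProjectiveResolution.of Y
    have hnat := δQ_naturality₁ φ hS hS' Q 0
    have hz : ((Tor (ModuleCat.{u} R) (0 + 1)).map S'.g).app Y = 0 :=
      (isZero_tor_of_flat Y S'.X₂ (0 + 1) (by omega)).eq_of_src _ _
    have hmono : Mono (δQ S' hS' Q 0) := (δQ_exact₃ S' hS' Q 0).mono_g hz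
    have h0 : δQ S hS Q 0 ≫ ((Tor (ModuleCat.{u} R) 0).map φ.τ₁).app Y = 0 := by
      apply ModuleCat.hom_ext
      apply LinearMap.ext
      intro t
      change (((Tor (ModuleCat.{u} R) 0).map φ.τ₁).app Y) ((δQ S hS Q 0) t) = 0
      have hinj : Function.Injective ((torZeroIso.app S'.X₁).app Y).hom :=
        (ConcreteCategory.bijective_of_isIso ((torZeroIso.app S'.X₁).app Y).hom).1
      apply hinj
      rw [torZero_nat, map_zero]
      apply h Y
      rw [← torZero_nat]
      have h6 := congrArg (fun r => r.hom t) (δQ_comp_map S hS Q 0)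
      have h7 : (((Tor (ModuleCat.{u} R) 0).map S.f).app Y) ((δQ S hS Q 0) t) = 0 := h6
      rw [h7, map_zero]
    rw [h0] at hnat
    exact (cancel_mono (δQ S' hS' Q 0)).1 (by rw [← hnat, zero_comp])

end Base

section Factor

variable {a b : ℕ}

theorem pi_decomp (x : Fin a → R) : x = ∑ i, x i • (Pi.single i (1 : R) : Fin a → R) := by
  ext k
  rw [Finset.sum_apply]
  simp only [Pi.smul_apply, Pi.single_apply, smul_eq_mul, mul_ite, mul_one, mul_zero]
  rw [Finset.sum_ite_eq]
  simp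

/-- The transpose map of a matrix. -/
noncomputable def dT (dm : Fin a → Fin b → R) : (Fin a → R) →ₗ[R] (Fin b → R) :=
  LinearMap.pi (fun j : Fin b => ∑ i : Fin a, (dm i j) • (LinearMap.proj i : (Fin a → R) →ₗ[R] R))

theorem dT_apply (dm : Fin a → Fin b → R) (x : Fin a → R) (j : Fin b) :
    dT dm x j = ∑ i, dm i j * x i := by
  simp [dT, LinearMap.pi_apply, LinearMap.sum_apply, LinearMap.smul_apply, LinearMap.proj_apply,
    smul_eq_mul]

theorem dT_single (dm : Fin a → Fin b → R) (i : Fin a) :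
    dT dm (Pi.single i 1) = ∑ j, dm i j • (Pi.single j (1 : R) : Fin b → R) := by
  rw [pi_decomp (dT dm (Pi.single i 1))]
  refine Finset.sum_congr rfl (fun j _ => ?_)
  rw [dT_apply]
  simp only [Pi.single_apply, mul_ite, mul_one, mul_zero]
  rw [Finset.sum_ite_eq']
  simp

theorem piScalarRight_lTensor_dT {Z' : Type u} [AddCommGroup Z'] [Module R Z']
    (dm : Fin a → Fin b → R) (s : Z' ⊗[R] (Fin a → R)) (j : Fin b) :
    TensorProduct.piScalarRight R R Z' (Fin b) ((dT dm).lTensor Z' s) j =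
      ∑ i, dm i j • (TensorProduct.piScalarRight R R Z' (Fin a) s) i := by
  induction s using TensorProduct.induction_on with
  | zero => simp
  | tmul x g =>
    rw [LinearMap.lTensor_tmul, TensorProduct.piScalarRight_apply,
      TensorProduct.piScalarRightHom_tmul, TensorProduct.piScalarRight_apply,
      TensorProduct.piScalarRightHom_tmul]
    beta_reduce
    rw [dT_apply, Finset.sum_smul]
    refine Finset.sum_congr rfl (fun i _ => ?_)
    rw [mul_smul]
  | add x y hx hy =>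
    rw [map_add, map_add, map_add, Pi.add_apply, hx, hy, ← Finset.sum_add_distrib]
    refine Finset.sum_congr rfl (fun i _ => ?_)
    rw [Pi.add_apply, smul_add]

/-- If `ζ ⊗ Y` kills the kernel of `ι ⊗ Y` for all `Y`, then `ζ` factors through `ι`
(`ι : Z → R^a`, `Z` finitely generated). -/
theorem exists_factor_of_tensor {Z Z' : Type u} [AddCommGroup Z] [Module R Z] [AddCommGroup Z']
    [Module R Z'] (ι : Z →ₗ[R] (Fin a → R)) (ζ : Z →ₗ[R] Z')
    (dbar : (Fin b → R) →ₗ[R] Z) (hd : Function.Surjective dbar)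
    (h : TensorCond ι ζ) :
    ∃ ψ : (Fin a → R) →ₗ[R] Z', ψ ∘ₗ ι = ζ := by
  let dm : Fin a → Fin b → R := fun i j => ι (dbar (Pi.single j 1)) i
  let N := (Fin b → R) ⧸ LinearMap.range (dT dm)
  let q : (Fin b → R) →ₗ[R] N := (LinearMap.range (dT dm)).mkQ
  let u : Z ⊗[R] N := ∑ j, dbar (Pi.single j 1) ⊗ₜ[R] q (Pi.single j 1)
  have hu : ι.rTensor N u = 0 := by
    have h1 : ι.rTensor N u = ∑ j, ι (dbar (Pi.single j 1)) ⊗ₜ[R] q (Pi.single j 1) := by
      rw [map_sum]
      rfl
    have h2 : ∀ j : Fin b, ι (dbar (Pi.single j 1)) ⊗ₜ[R] q (Pi.single j 1) =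
        ∑ i : Fin a, (Pi.single i (1 : R) : Fin a → R) ⊗ₜ[R] (dm i j • q (Pi.single j 1)) := by
      intro j
      conv_lhs => rw [pi_decomp (ι (dbar (Pi.single j 1)))]
      rw [TensorProduct.sum_tmul]
      refine Finset.sum_congr rfl (fun i _ => ?_)
      rw [TensorProduct.smul_tmul]
    rw [h1, Finset.sum_congr rfl (fun j _ => h2 j), Finset.sum_comm]
    refine Finset.sum_eq_zero (fun i _ => ?_)
    rw [← TensorProduct.tmul_sum]
    have h3 : ∑ j, dm i j • q (Pi.single j 1) = q (dT dm (Pi.single i 1)) := by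
      rw [dT_single, map_sum]
      refine Finset.sum_congr rfl (fun j _ => ?_)
      rw [map_smul]
    rw [h3]
    have h4 : q (dT dm (Pi.single i 1)) = 0 :=
      (Submodule.Quotient.mk_eq_zero _).mpr ⟨_, rfl⟩
    rw [h4, TensorProduct.tmul_zero]
  have hζu : ζ.rTensor N u = 0 := h (ModuleCat.of R N) u hu
  let z' : Fin b → Z' := fun j => ζ (dbar (Pi.single j 1))
  let t : Z' ⊗[R] (Fin b → R) := ∑ j, z' j ⊗ₜ[R] (Pi.single j (1 : R) : Fin b → R)
  have ht : q.lTensor Z' t = 0 := by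
    have h1 : q.lTensor Z' t = ∑ j, z' j ⊗ₜ[R] q (Pi.single j 1) := by
      rw [map_sum]
      rfl
    have h2 : ζ.rTensor N u = ∑ j, z' j ⊗ₜ[R] q (Pi.single j 1) := by
      rw [map_sum]
      rfl
    rw [h1, ← h2, hζu]
  have hex : Function.Exact (dT dm) q := by
    intro x
    rw [Submodule.mkQ_apply, Submodule.Quotient.mk_eq_zero]
    rfl
  have hexT := lTensor_exact Z' hex (Submodule.mkQ_surjective _)
  obtain ⟨s, hs⟩ := (hexT t).1 ht
  let w : Fin a → Z' := TensorProduct.piScalarRight R R Z' (Fin a) s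
  have hz' : ∀ j, z' j = ∑ i, dm i j • w i := by
    intro j
    rw [← piScalarRight_lTensor_dT dm s j, hs]
    change z' j = TensorProduct.piScalarRight R R Z' (Fin b)
      (∑ j', z' j' ⊗ₜ[R] (Pi.single j' (1 : R) : Fin b → R)) j
    rw [map_sum, Finset.sum_apply]
    have h5 : ∀ j' : Fin b, (TensorProduct.piScalarRight R R Z' (Fin b))
        (z' j' ⊗ₜ[R] (Pi.single j' (1 : R) : Fin b → R)) j = if j = j' then z' j' else 0 := by
      intro j'
      rw [TensorProduct.piScalarRight_apply, TensorProduct.piScalarRightHom_tmul]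
      beta_reduce
      rw [Pi.single_apply]
      split_ifs <;> simp
    rw [Finset.sum_congr rfl (fun j' _ => h5 j'), Finset.sum_ite_eq]
    simp
  refine ⟨Fintype.linearCombination R w, ?_⟩
  have hcomp : (Fintype.linearCombination R w ∘ₗ ι) ∘ₗ dbar = ζ ∘ₗ dbar := by
    apply LinearMap.pi_ext'
    intro j
    apply LinearMap.ext_ring
    change Fintype.linearCombination R w (ι (dbar (Pi.single j 1))) = z' j
    rw [Fintype.linearCombination_apply, hz' j]
  apply LinearMap.ext
  intro z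
  obtain ⟨g, rfl⟩ := hd z
  exact LinearMap.congr_fun hcomp g

end Factor

section Main

variable [IsNoetherianRing R]

section Step

variable {a : ℕ} {M M' P : Type u} [AddCommGroup M] [Module R M] [AddCommGroup M'] [Module R M']
  [AddCommGroup P] [Module R P] [Module.Free R P]
  (π : (Fin a → R) →ₗ[R] M) (hπ : Function.Surjective π)
  (π' : P →ₗ[R] M') (hπ' : Function.Surjective π') (α : M →ₗ[R] M')
  (α₀ : (Fin a → R) →ₗ[R] P) (hα₀ : π' ∘ₗ α₀ = α ∘ₗ π)
  (ζ : LinearMap.ker π →ₗ[R] LinearMap.ker π')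
  (hζ : ∀ x, ((ζ x : LinearMap.ker π') : P) = α₀ x)

/-- The morphism of presentations. -/
noncomputable def presHom : π.shortComplexKer ⟶ π'.shortComplexKer where
  τ₁ := ModuleCat.ofHom ζ
  τ₂ := ModuleCat.ofHom α₀
  τ₃ := ModuleCat.ofHom α
  comm₁₂ := by
    apply ModuleCat.hom_ext
    apply LinearMap.ext
    intro x
    exact hζ x
  comm₂₃ := by
    apply ModuleCat.hom_ext
    apply LinearMap.ext
    intro x
    exact LinearMap.congr_fun hα₀ x

include hπ hπ' hα₀ hζ in
theorem base_step : ExtCond (ModuleCat.ofHom α) 1 ↔ TorCond (ModuleCat.ofHom α) 1 := by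
  have hS : π.shortComplexKer.ShortExact := LinearMap.shortExact_shortComplexKer hπ
  have hS' : π'.shortComplexKer.ShortExact := LinearMap.shortExact_shortComplexKer hπ'
  have hP' : Projective π'.shortComplexKer.X₂ := (IsProjective.iff_projective P).mp inferInstance
  have hFl' : Module.Flat R π'.shortComplexKer.X₂ := inferInstanceAs (Module.Flat R P)
  have hNoeth : IsNoetherian R (Fin a → R) := inferInstance
  have hfinZ : Module.Finite R (LinearMap.ker π) := inferInstance
  obtain ⟨b, dbar, hd⟩ := Module.Finite.exists_fin' R (LinearMap.ker π)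
  have h1 : ExtCond (ModuleCat.ofHom α) 1 ↔
      ∃ ψ : π.shortComplexKer.X₂ ⟶ π'.shortComplexKer.X₁,
        π.shortComplexKer.f ≫ ψ = ModuleCat.ofHom ζ :=
    extCond_one_iff (presHom π π' α α₀ hα₀ ζ hζ) hS hS'
  have h2 : TorCond (ModuleCat.ofHom α) 1 ↔ TensorCond (LinearMap.ker π).subtype ζ :=
    torCond_one_iff (presHom π π' α α₀ hα₀ ζ hζ) hS hS'
  rw [h1, h2]
  constructor
  · rintro ⟨ψ, hψ⟩ Y w hw
    have h3 : ζ = ψ.hom ∘ₗ (LinearMap.ker π).subtype := by
      have h4 := congrArg ModuleCat.Hom.hom hψ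
      exact h4.symm
    rw [h3, LinearMap.rTensor_comp, LinearMap.comp_apply, hw, map_zero]
  · intro h
    obtain ⟨ψ, hψ⟩ := exists_factor_of_tensor (LinearMap.ker π).subtype ζ dbar hd h
    refine ⟨ModuleCat.ofHom ψ, ?_⟩
    apply ModuleCat.hom_ext
    exact hψ

include hπ hπ' hα₀ hζ in
theorem succ_step (e : ℕ) :
    (ExtCond (ModuleCat.ofHom α) (e + 1 + 1) ↔ ExtCond (ModuleCat.ofHom ζ) (e + 1)) ∧
      (TorCond (ModuleCat.ofHom α) (e + 1 + 1) ↔ TorCond (ModuleCat.ofHom ζ) (e + 1)) := by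
  have hS : π.shortComplexKer.ShortExact := LinearMap.shortExact_shortComplexKer hπ
  have hS' : π'.shortComplexKer.ShortExact := LinearMap.shortExact_shortComplexKer hπ'
  have hP : Projective π.shortComplexKer.X₂ :=
    (IsProjective.iff_projective (Fin a → R)).mp inferInstance
  have hP' : Projective π'.shortComplexKer.X₂ := (IsProjective.iff_projective P).mp inferInstance
  have hFl : Module.Flat R π.shortComplexKer.X₂ := inferInstanceAs (Module.Flat R (Fin a → R))
  have hFl' : Module.Flat R π'.shortComplexKer.X₂ := inferInstanceAs (Module.Flat R P)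
  exact ⟨extCond_succ_iff (presHom π π' α α₀ hα₀ ζ hζ) hS hS' e,
    torCond_succ_iff (presHom π π' α α₀ hα₀ ζ hζ) hS hS' e⟩

end Step

/-- Existence of the data of a morphism of presentations, for a given free cover of `M'`. -/
theorem exists_pres_aux {M M' P : Type u} [AddCommGroup M] [Module R M] [Module.Finite R M]
    [AddCommGroup M'] [Module R M'] [AddCommGroup P] [Module R P]
    (π' : P →ₗ[R] M') (hπ' : Function.Surjective π') (α : M →ₗ[R] M') :
    ∃ (a : ℕ) (π : (Fin a → R) →ₗ[R] M) (_ : Function.Surjective π)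
      (α₀ : (Fin a → R) →ₗ[R] P) (_ : π' ∘ₗ α₀ = α ∘ₗ π)
      (ζ : LinearMap.ker π →ₗ[R] LinearMap.ker π'),
      ∀ x, ((ζ x : LinearMap.ker π') : P) = α₀ x := by
  obtain ⟨a, π, hπ⟩ := Module.Finite.exists_fin' R M
  obtain ⟨α₀, hα₀⟩ := Module.projective_lifting_property π' (α ∘ₗ π) hπ'
  have hmem : ∀ x ∈ LinearMap.ker π, α₀ x ∈ LinearMap.ker π' := by
    intro x hx
    rw [LinearMap.mem_ker] at hx ⊢
    have h1 := LinearMap.congr_fun hα₀ x
    rw [LinearMap.comp_apply, LinearMap.comp_apply, hx, map_zero] at h1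
    exact h1
  exact ⟨a, π, hπ, α₀, hα₀, α₀.restrict hmem, fun x => rfl⟩

/-- A free cover, with the free module kept abstract. -/
theorem exists_free_cover (M' : Type u) [AddCommGroup M'] [Module R M'] :
    ∃ (P : Type u) (_ : AddCommGroup P) (_ : Module R P) (_ : Module.Free R P)
      (π' : P →ₗ[R] M'), Function.Surjective π' :=
  ⟨M' →₀ R, inferInstance, inferInstance, inferInstance, Finsupp.linearCombination R id,
    fun m => ⟨Finsupp.single m 1, by simp⟩⟩

/-- The equivalence at the level of `ExtCond` / `TorCond`. -/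
theorem extCond_iff_torCond (e : ℕ) : ∀ (M M' : Type u) [AddCommGroup M] [Module R M]
    [Module.Finite R M] [AddCommGroup M'] [Module R M'] (α : M →ₗ[R] M'),
    ExtCond (ModuleCat.ofHom α) (e + 1) ↔ TorCond (ModuleCat.ofHom α) (e + 1) := by
  induction e with
  | zero =>
    intro M M' _ _ _ _ _ α
    obtain ⟨P, _, _, _, π', hπ'⟩ := exists_free_cover (R := R) M'
    obtain ⟨a, π, hπ, α₀, hα₀, ζ, hζ⟩ := exists_pres_aux π' hπ' α
    exact base_step π hπ π' hπ' α α₀ hα₀ ζ hζ
  | succ e ih =>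
    intro M M' _ _ _ _ _ α
    obtain ⟨P, _, _, _, π', hπ'⟩ := exists_free_cover (R := R) M'
    obtain ⟨a, π, hπ, α₀, hα₀, ζ, hζ⟩ := exists_pres_aux π' hπ' α
    obtain ⟨h1, h2⟩ := succ_step π hπ π' hπ' α α₀ hα₀ ζ hζ e
    have hNoeth : IsNoetherian R (Fin a → R) := inferInstance
    have hfinZ : Module.Finite R (LinearMap.ker π) := inferInstance
    rw [h1, h2]
    exact ih (LinearMap.ker π) (LinearMap.ker π') ζ

end Main

end Groth.Agent.Lib.Helper8.ExtTor
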