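import Mathlib
import Groth.Agent.Lib.Helper8ExtTor
import Groth.Agent.Lib.Helper8NatBal
import Groth.Agent.Lib.Helper8TorFlip

/-!
# `Hom(Ext^n(-, W), E)` as a homological δ-functor (helper8)

For an injective module `E`, the functors `U n = Hom_A(Ext^n(-, W), E)` form a δ-functor with natural
connecting maps, vanishing on projectives in positive degrees; `U 0` is right exact.  Hence for a
projective resolution `P` of `M`, `U n M ≅ H_n(U_0(P))`.
-/

set_option autoImplicit false
universe u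
open CategoryTheory CategoryTheory.Limits CategoryTheory.Abelian

namespace Groth.Agent.Lib.Helper8.ExtDual

open Groth.Agent.Lib.Helper8.NatBal

section Dual

variable {A : Type u} [CommRing A] (E : Type u) [AddCommGroup E] [Module A E]
  [Module.Injective A E]
variable {X Y Z : Type u} [AddCommGroup X] [Module A X] [AddCommGroup Y] [Module A Y]
  [AddCommGroup Z] [Module A Z]

/-- `Hom(-, E)` is exact for injective `E`. -/
theorem exact_lcomp {f : X →ₗ[A] Y} {g : Y →ₗ[A] Z} (h : Function.Exact f g) :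
    Function.Exact (LinearMap.lcomp A E g) (LinearMap.lcomp A E f) := by
  intro χ
  simp only [LinearMap.lcomp_apply', Set.mem_range]
  constructor
  · intro hχ
    have hk : LinearMap.ker g ≤ LinearMap.ker χ := by
      intro y hy
      obtain ⟨x, rfl⟩ := (h y).mp hy
      exact LinearMap.congr_fun hχ x
    let gbar : (Y ⧸ LinearMap.ker g) →ₗ[A] Z := (LinearMap.ker g).liftQ g le_rfl
    have hgbar : Function.Injective gbar := by
      rw [← LinearMap.ker_eq_bot]
      exact Submodule.ker_liftQ_eq_bot _ _ _ le_rfl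
    obtain ⟨k, hk'⟩ := Module.Injective.extension_property A E _ _ gbar hgbar
      ((LinearMap.ker g).liftQ χ hk)
    refine ⟨k, ?_⟩
    ext y
    have := LinearMap.congr_fun hk' (Submodule.Quotient.mk y)
    simpa [gbar] using this
  · rintro ⟨k, rfl⟩
    ext x
    simp [h.apply_apply_eq_zero]

theorem lcomp_surjective {f : X →ₗ[A] Y} (hf : Function.Injective f) :
    Function.Surjective (LinearMap.lcomp A E f) := by
  intro χ
  obtain ⟨k, hk⟩ := Module.Injective.extension_property A E _ _ f hf χ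
  exact ⟨k, hk⟩

end Dual

section U

variable {A : Type u} [CommRing A] (W : ModuleCat.{u} A) (E : Type u) [AddCommGroup E] [Module A E]

/-- the functor `M ↦ Hom_A(Ext^n(M, W), E)`. -/
noncomputable def U (n : ℕ) : ModuleCat.{u} A ⥤ ModuleCat.{u} A where
  obj M := ModuleCat.of A (Ext.{u} M W n →ₗ[A] E)
  map {M M'} g := ModuleCat.ofHom
    (LinearMap.lcomp A E (Ext.precompOfLinear (Ext.mk₀ g) A W (zero_add n)))
  map_id M := by
    apply ModuleCat.hom_ext
    apply LinearMap.ext
    intro χ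
    apply LinearMap.ext
    intro y
    show χ ((Ext.mk₀ (𝟙 M)).comp y (zero_add n)) = χ y
    rw [Ext.mk₀_id_comp]
  map_comp {M M' M''} g g' := by
    apply ModuleCat.hom_ext
    apply LinearMap.ext
    intro χ
    apply LinearMap.ext
    intro y
    show χ ((Ext.mk₀ (g ≫ g')).comp y (zero_add n)) =
      χ ((Ext.mk₀ g).comp ((Ext.mk₀ g').comp y (zero_add n)) (zero_add n))
    rw [Ext.mk₀_comp_mk₀_assoc]

theorem U_map_apply (n : ℕ) {M M' : ModuleCat.{u} A} (g : M ⟶ M')
    (χ : Ext.{u} M W n →ₗ[A] E) (y : Ext.{u} M' W n) :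
    (show Ext.{u} M' W n →ₗ[A] E from ((U W E n).map g).hom χ) y =
      χ ((Ext.mk₀ g).comp y (zero_add n)) := rfl

instance (n : ℕ) : (U W E n).Additive where
  map_add {M M'} g g' := by
    apply ModuleCat.hom_ext
    apply LinearMap.ext
    intro (χ : Ext.{u} M W n →ₗ[A] E)
    apply LinearMap.ext
    intro (y : Ext.{u} M' W n)
    show χ ((Ext.mk₀ (g + g')).comp y (zero_add n)) =
      χ ((Ext.mk₀ g).comp y (zero_add n)) + χ ((Ext.mk₀ g').comp y (zero_add n))
    rw [Ext.mk₀_add, Ext.add_comp, map_add]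

/-- the connecting map. -/
noncomputable def δU (S : ShortComplex (ModuleCat.{u} A)) (hS : S.ShortExact) (n : ℕ) :
    (U W E (n + 1)).obj S.X₃ ⟶ (U W E n).obj S.X₁ :=
  ModuleCat.ofHom (LinearMap.lcomp A E (Ext.precompOfLinear hS.extClass A W (add_comm 1 n)))

theorem δU_apply (S : ShortComplex (ModuleCat.{u} A)) (hS : S.ShortExact) (n : ℕ)
    (χ : Ext.{u} S.X₃ W (n + 1) →ₗ[A] E) (y : Ext.{u} S.X₁ W n) :
    (show Ext.{u} S.X₁ W n →ₗ[A] E from (δU W E S hS n).hom χ) y =
      χ (hS.extClass.comp y (add_comm 1 n)) := rfl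

variable [Module.Injective A E]

/-- `U` with its connecting maps. -/
noncomputable def deltaU : DeltaData (fun n => U W E n) where
  δ S hS n := δU W E S hS n
  δ_naturality {S S'} φ hS hS' n := by
    apply ModuleCat.hom_ext
    apply LinearMap.ext
    intro (χ : Ext.{u} S.X₃ W (n + 1) →ₗ[A] E)
    apply LinearMap.ext
    intro (y : Ext.{u} S'.X₁ W n)
    show χ ((Ext.mk₀ φ.τ₃).comp (hS'.extClass.comp y (add_comm 1 n)) (zero_add (n + 1))) =
      χ (hS.extClass.comp ((Ext.mk₀ φ.τ₁).comp y (zero_add n)) (add_comm 1 n))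
    rw [Groth.Agent.Lib.Helper8.ExtTor.extCond_aux φ hS hS']
  w₁ S hS n := by
    apply ModuleCat.hom_ext
    apply LinearMap.ext
    intro (χ : Ext.{u} S.X₂ W (n + 1) →ₗ[A] E)
    apply LinearMap.ext
    intro (y : Ext.{u} S.X₁ W n)
    show χ ((Ext.mk₀ S.g).comp (hS.extClass.comp y (add_comm 1 n)) (zero_add (n + 1))) = 0
    rw [hS.comp_extClass_assoc, map_zero]
  w₂ S hS n := by
    apply ModuleCat.hom_ext
    apply LinearMap.ext
    intro (χ : Ext.{u} S.X₃ W (n + 1) →ₗ[A] E)
    apply LinearMap.ext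
    intro (y : Ext.{u} S.X₂ W n)
    show χ (hS.extClass.comp ((Ext.mk₀ S.f).comp y (zero_add n)) (add_comm 1 n)) = 0
    rw [hS.extClass_comp_assoc, map_zero]
  exact₁ S hS n := by
    refine (ShortComplex.ShortExact.moduleCat_exact_iff_function_exact _).mpr ?_
    refine exact_lcomp E (f := Ext.precompOfLinear hS.extClass A W (add_comm 1 n))
      (g := Ext.precompOfLinear (Ext.mk₀ S.g) A W (zero_add (n + 1))) ?_
    intro x₃
    constructor
    · intro h
      obtain ⟨x₁, hx₁⟩ := Ext.contravariant_sequence_exact₃ hS W x₃ h (add_comm 1 n)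
      exact ⟨x₁, hx₁⟩
    · rintro ⟨x₁, rfl⟩
      exact hS.comp_extClass_assoc x₁ (add_comm 1 n)
  exact₂ S hS n := by
    refine (ShortComplex.ShortExact.moduleCat_exact_iff_function_exact _).mpr ?_
    refine exact_lcomp E (f := Ext.precompOfLinear (Ext.mk₀ S.f) A W (zero_add n))
      (g := Ext.precompOfLinear hS.extClass A W (add_comm 1 n)) ?_
    intro x₁
    constructor
    · intro h
      obtain ⟨x₂, hx₂⟩ := Ext.contravariant_sequence_exact₁ hS W x₁ (add_comm 1 n) h
      exact ⟨x₂, hx₂⟩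
    · rintro ⟨x₂, rfl⟩
      exact hS.extClass_comp_assoc x₂ (h := add_comm 1 n)
  isZero_of_projective X _ n := by
    have : Subsingleton (Ext.{u} X W (n + 1) →ₗ[A] E) :=
      ⟨fun a b => LinearMap.ext fun y => by rw [Ext.eq_zero_of_projective y, map_zero, map_zero]⟩
    exact @ModuleCat.isZero_of_subsingleton _ _ (ModuleCat.of A (Ext.{u} X W (n + 1) →ₗ[A] E)) this

instance : PreservesFiniteColimits (U W E 0) := by
  refine ((U W E 0).preservesFiniteColimits_tfae.out 0 3).mp ?_
  intro S hS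
  constructor
  · refine (ShortComplex.ShortExact.moduleCat_exact_iff_function_exact _).mpr ?_
    refine exact_lcomp E (f := Ext.precompOfLinear (Ext.mk₀ S.g) A W (zero_add 0))
      (g := Ext.precompOfLinear (Ext.mk₀ S.f) A W (zero_add 0)) ?_
    intro x₂
    constructor
    · intro h
      obtain ⟨x₃, hx₃⟩ := Ext.contravariant_sequence_exact₂ hS W x₂ h
      exact ⟨x₃, hx₃⟩
    · rintro ⟨x₃, rfl⟩
      show (Ext.mk₀ S.f).comp ((Ext.mk₀ S.g).comp x₃ (zero_add 0)) (zero_add 0) = 0
      rw [Ext.mk₀_comp_mk₀_assoc, S.zero, Ext.mk₀_zero, Ext.zero_comp]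
  · rw [ModuleCat.epi_iff_surjective]
    have := hS.epi_g
    exact lcomp_surjective E (Ext.precomp_mk₀_injective_of_epi W S.g)

end U

section Eta

open scoped TensorProduct
open Groth.Agent.Helper13Tor

variable {A : Type u} [CommRing A] (E : Type u) [AddCommGroup E] [Module A E]

/-- `Ext^0(M, A) ≃ (M →ₗ A)`. -/
noncomputable def e₀ (M : ModuleCat.{u} A) :
    Ext.{u} M (ModuleCat.of A A) 0 ≃ₗ[A] (M →ₗ[A] A) :=
  (Ext.linearEquiv₀ (R := A)).trans (ModuleCat.homLinearEquiv (S := A))

theorem e₀_mk₀ {M : ModuleCat.{u} A} (h : M ⟶ ModuleCat.of A A) : e₀ M (Ext.mk₀ h) = h.hom := by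
  have : Ext.linearEquiv₀ (R := A) (Ext.mk₀ h) = h := by
    rw [← Ext.linearEquiv₀_symm_apply (R := A), LinearEquiv.apply_symm_apply]
  show ModuleCat.homLinearEquiv (S := A) (Ext.linearEquiv₀ (R := A) (Ext.mk₀ h)) = h.hom
  rw [this]
  rfl

theorem e₀_comp {M M' : ModuleCat.{u} A} (g : M ⟶ M')
    (ξ : Ext.{u} M' (ModuleCat.of A A) 0) :
    e₀ M ((Ext.mk₀ g).comp ξ (zero_add 0)) = (e₀ M' ξ).comp g.hom := by
  obtain ⟨k, rfl⟩ := (Ext.mk₀_bijective _ _).2 ξ
  rw [Ext.mk₀_comp_mk₀, e₀_mk₀, e₀_mk₀]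
  rfl

/-- evaluation `x ↦ (ξ ↦ ξ(x))`. -/
noncomputable def evL (M : ModuleCat.{u} A) :
    M →ₗ[A] (Ext.{u} M (ModuleCat.of A A) 0 →ₗ[A] A) :=
  (LinearMap.lcomp A A (e₀ M).toLinearMap) ∘ₗ (LinearMap.applyₗ (R := A))

theorem evL_apply (M : ModuleCat.{u} A) (x : M) (ξ : Ext.{u} M (ModuleCat.of A A) 0) :
    evL M x ξ = e₀ M ξ x := rfl

/-- the comparison `E ⊗ M → Hom(Ext^0(M, A), E)`. -/
noncomputable def ηlin (M : ModuleCat.{u} A) :
    (E ⊗[A] M) →ₗ[A] (Ext.{u} M (ModuleCat.of A A) 0 →ₗ[A] E) :=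
  TensorProduct.lift ((LinearMap.smulRightₗ ∘ₗ evL M).flip)

theorem ηlin_tmul (M : ModuleCat.{u} A) (e : E) (x : M)
    (ξ : Ext.{u} M (ModuleCat.of A A) 0) : ηlin E M (e ⊗ₜ x) ξ = (e₀ M ξ x) • e := rfl

/-- the comparison as a natural transformation. -/
noncomputable def η : tL (ModuleCat.of A E) ⟶ U (ModuleCat.of A A) E 0 where
  app M := ModuleCat.ofHom (ηlin E M)
  naturality M M' g := by
    apply ModuleCat.hom_ext
    apply TensorProduct.ext'
    intro (e : E) (x : M)
    apply LinearMap.ext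
    intro (ξ : Ext.{u} M' (ModuleCat.of A A) 0)
    show ηlin E M' (e ⊗ₜ g.hom x) ξ = ηlin E M (e ⊗ₜ x) ((Ext.mk₀ g).comp ξ (zero_add 0))
    rw [ηlin_tmul, ηlin_tmul, e₀_comp]
    rfl

theorem ηlin_bijective (M : ModuleCat.{u} A) [Module.Free A M] [Module.Finite A M] :
    Function.Bijective (ηlin E M) := by
  classical
  let b := Module.Free.chooseBasis A M
  have key : ∀ (t : E ⊗[A] M) (j : Module.Free.ChooseBasisIndex A M),
      TensorProduct.equivFinsuppOfBasisRight b t j = ηlin E M t ((e₀ M).symm (b.coord j)) := by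
    intro t j
    induction t using TensorProduct.induction_on with
    | zero => simp
    | tmul e x =>
      rw [TensorProduct.equivFinsuppOfBasisRight_apply_tmul_apply, ηlin_tmul,
        LinearEquiv.apply_symm_apply, Module.Basis.coord_apply]
    | add t t' ht ht' =>
      rw [map_add, map_add, Finsupp.add_apply, LinearMap.add_apply, ht, ht']
  constructor
  · rw [injective_iff_map_eq_zero]
    intro t ht
    apply (TensorProduct.equivFinsuppOfBasisRight b).injective
    rw [map_zero]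
    ext j
    rw [key, ht, LinearMap.zero_apply, Finsupp.zero_apply]
  · intro ψ
    refine ⟨∑ j, ψ ((e₀ M).symm (b.coord j)) ⊗ₜ[A] b j, ?_⟩
    apply LinearMap.ext
    intro ξ
    rw [map_sum, LinearMap.sum_apply]
    simp only [ηlin_tmul]
    have h1 : ∀ j, (e₀ M ξ (b j)) • ψ ((e₀ M).symm (b.coord j)) =
        ψ ((e₀ M).symm ((e₀ M ξ) (b j) • b.coord j)) := by
      intro j
      rw [map_smul, map_smul]
    simp only [h1]
    rw [← map_sum, ← map_sum, Module.Basis.sum_dual_apply_smul_coord, LinearEquiv.symm_apply_apply]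

end Eta

section Main

open Groth.Agent.Helper13Tor

variable {A : Type u} [CommRing A] (E : Type u) [AddCommGroup E] [Module A E]
  [Module.Injective A E]

/-- **Duality** `Tor_n(E, Y) ≅ Hom(Ext^n(Y, A), E)` for `E` injective and `Y` admitting a resolution
by finite free modules. -/
theorem nonempty_tor_iso {Y : ModuleCat.{u} A} (P : ProjectiveResolution Y)
    (hP : ∀ j, Module.Finite A (P.complex.X j) ∧ Module.Free A (P.complex.X j)) (n : ℕ) :
    Nonempty (((Tor (ModuleCat.{u} A) n).obj (ModuleCat.of A E)).obj Y ≅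
      (U (ModuleCat.of A A) E n).obj Y) := by
  let θU := θ (deltaU (ModuleCat.of A A) E) (U (ModuleCat.of A A) E 0) (Iso.refl _) n
    (Groth.Agent.Lib.Helper8.TorFlip.resOf P)
  let φ : tC (ModuleCat.of A E) P.complex ⟶ FK (U (ModuleCat.of A A) E 0) P.complex :=
    (NatTrans.mapHomologicalComplex (η E) _).app P.complex
  have hφ : ∀ j, IsIso (φ.f j) := by
    intro j
    have h1 := (hP j).1
    have h2 := (hP j).2
    exact (ConcreteCategory.isIso_iff_bijective _).mpr (ηlin_bijective E (P.complex.X j))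
  have : IsIso φ := HomologicalComplex.Hom.isIso_of_components φ
  exact ⟨torIso P (ModuleCat.of A E) n ≪≫
    (HomologicalComplex.homologyFunctor _ _ n).mapIso (asIso φ) ≪≫ θU.symm⟩

end Main

end Groth.Agent.Lib.Helper8.ExtDual
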