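import Groth.Agent.Lib.Helper8BridgeT4
import Groth.Agent.Lib.Helper8LCDepth
import Groth.Agent.Lib.Helper8LCAdd

/-!
# `Ext^n(X, M) ≃ Hom(X, H^n_I(M))` when `I X = 0` and `depth_I M ≥ n` (helper8)
-/

set_option autoImplicit false
set_option linter.style.haveILetI false
set_option linter.unusedSectionVars false
universe u
open CategoryTheory CategoryTheory.Limits Opposite Pointwise

namespace Groth.Agent.Lib.Helper8.ExtSoc

open Groth.Agent.Lib.Helper8.ExtLES Groth.Agent.Lib.Helper8.LC Groth.Agent.Lib.Helper8.Bridge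
  Groth.Agent.Lib.Helper28 CategoryTheory.Abelian

variable {R : Type u} [CommRing R]

/-- `Ext` is `R`-linear in the second variable. -/
theorem Emap_smul (n : ℕ) (X : ModuleCat.{u} R) {Y Y' : ModuleCat.{u} R} (a : R) (g : Y ⟶ Y')
    (e : E n X Y) : (Emap n X (a • g)).hom e = a • (Emap n X g).hom e := by
  apply (Ψ n X Y').injective
  rw [Ψ_Emap, map_smul, Ψ_Emap, Ext.mk₀_smul, Ext.comp_smul]

theorem Emap_id_apply (n : ℕ) (X Y : ModuleCat.{u} R) (e : E n X Y) :
    (Emap n X (𝟙 Y)).hom e = e := by
  have h : Emap n X (𝟙 Y) = 𝟙 _ := ((Ext R (ModuleCat.{u} R) n).obj (op X)).map_id Y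
  rw [h]
  rfl

theorem Emap_lsmul (n : ℕ) (X : ModuleCat.{u} R) (M : Type u) [AddCommGroup M] [Module R M]
    (a : R) (e : E n X (ModuleCat.of R M)) :
    (Emap n X (ModuleCat.ofHom (LinearMap.lsmul R M a))).hom e = a • e := by
  rw [ofHom_lsmul, Emap_smul, Emap_id_apply]

variable (I : Ideal R) (X : ModuleCat.{u} R)

theorem smul_E_eq_zero_of_kill (hX : ∀ a ∈ I, ∀ x : X, a • x = 0) (n : ℕ) (Y : ModuleCat.{u} R)
    (a : R) (ha : a ∈ I) (y : E n X Y) : a • y = 0 := by
  have h0 : a • 𝟙 X = 0 := by
    apply ModuleCat.hom_ext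
    apply LinearMap.ext
    intro x
    exact hX a ha x
  have h1 := Epre_smul n X Y a
  have h2 := Epre_smul n X Y 0
  rw [h0] at h1
  rw [zero_smul] at h2
  rw [h2] at h1
  have h3 := congrArg (fun φ => φ.hom y) h1
  have h4 : (0 : R) • y = a • y := h3
  rw [← h4, zero_smul]

section Depth

variable [IsNoetherianRing R]

/-- Vanishing of `Ext^i(X, M)` below the `I`-depth of `M` when `I X = 0`. -/
theorem E_eq_zero_of_lt_depth (hX : ∀ a ∈ I, ∀ x : X, a • x = 0) (n : ℕ) :
    ∀ (M : Type u) [AddCommGroup M] [Module R M] [Module.Finite R M],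
      I • (⊤ : Submodule R M) ≠ ⊤ → (n : ℕ∞) ≤ LocCoh.idealDepth I M →
      ∀ i < n, ∀ y : E i X (ModuleCat.of R M), y = 0 := by
  induction n with
  | zero => intro M _ _ _ _ _ i hi; omega
  | succ n ih =>
    intro M _ _ _ hIM hdepth i hi y
    have h1 : (1 : ℕ∞) ≤ LocCoh.idealDepth I M := by
      refine le_trans ?_ hdepth
      exact_mod_cast Nat.succ_le_succ (Nat.zero_le n)
    obtain ⟨x, hx, hreg⟩ := (one_le_idealDepth_iff hIM).mp h1
    have hIM' := smul_top_quotSMulTop_ne_top hx hIM
    have hd := idealDepth_quotSMulTop_add_one I M hIM x hx hreg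
    have hn' : (n : ℕ∞) ≤ LocCoh.idealDepth I (QuotSMulTop x M) := by
      rw [← hd, Nat.cast_add, Nat.cast_one] at hdepth
      exact (ENat.add_le_add_iff_right ENat.one_ne_top).mp hdepth
    have hf : Function.Injective (LinearMap.lsmul R M x) := hreg
    have hg : Function.Surjective (x • (⊤ : Submodule R M)).mkQ := Submodule.mkQ_surjective _
    have hex := LinearMap.exact_lsmul_mkQ_smul_top M x
    have hS := Sfg_shortExact _ _ hf hg hex
    have hw : (Emap i X (ModuleCat.ofHom (LinearMap.lsmul R M x))).hom y = 0 := by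
      rw [Emap_lsmul]
      exact smul_E_eq_zero_of_kill I X hX i _ x hx y
    cases i with
    | zero =>
      obtain ⟨h, rfl⟩ := (θ_bijective X (ModuleCat.of R M)).2 y
      have h2 := Emap_θ X (ModuleCat.ofHom (LinearMap.lsmul R M x)) h
      have h3 : θ X (ModuleCat.of R M) (h ≫ ModuleCat.ofHom (LinearMap.lsmul R M x)) = 0 :=
        h2.symm.trans hw
      have h4 : h ≫ ModuleCat.ofHom (LinearMap.lsmul R M x) = 0 :=
        (θ_bijective X (ModuleCat.of R M)).1 (h3.trans (map_zero _).symm)
      have h5 : h = 0 := by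
        apply ModuleCat.hom_ext
        apply LinearMap.ext
        intro t
        apply hreg
        have := congrArg (fun φ => φ.hom t) h4
        simpa using this
      rw [h5, map_zero]
    | succ j =>
      obtain ⟨z, hz⟩ := ext_exact₁ (Sfg (LinearMap.lsmul R M x) _ hex) hS
        (ProjectiveResolution.of X) j y hw
      have hz0 : z = 0 := ih (QuotSMulTop x M) hIM' hn' j (by omega) z
      rw [← hz, hz0, map_zero]

/-- `Ext^n(X, M) ≃ Hom(X, H^n_I(M))` when `I X = 0` and `depth_I M ≥ n`. -/
theorem nonempty_equiv (hX : ∀ a ∈ I, ∀ x : X, a • x = 0) (n : ℕ) :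
    ∀ (M : Type u) [AddCommGroup M] [Module R M] [Module.Finite R M],
      I • (⊤ : Submodule R M) ≠ ⊤ → (n : ℕ∞) ≤ LocCoh.idealDepth I M →
      Nonempty (E n X (ModuleCat.of R M) ≃ₗ[R]
        (X →ₗ[R] (localCohomology I n).obj (ModuleCat.of R M))) := by
  induction n with
  | zero =>
    intro M _ _ _ _ _
    let e1 : E 0 X (ModuleCat.of R M) ≃ₗ[R] (X ⟶ ModuleCat.of R M) :=
      (asIso (θ X (ModuleCat.of R M))).toLinearEquiv.symm
    let e2 : (X ⟶ ModuleCat.of R M) ≃ₗ[R] (X →ₗ[R] M) := ModuleCat.homLinearEquiv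
    let c : (X →ₗ[R] DRing.torsionSub I M) →ₗ[R] (X →ₗ[R] M) :=
      LinearMap.compRight R (DRing.torsionSub I M).subtype
    have hc : Function.Bijective c := by
      constructor
      · intro f g hfg
        apply LinearMap.ext
        intro t
        apply Subtype.ext
        exact LinearMap.congr_fun hfg t
      · intro f
        refine ⟨f.codRestrict _ (fun t => ⟨1, fun a ha => ?_⟩), ?_⟩
        · rw [pow_one] at ha
          rw [← map_smul, hX a ha t, map_zero]
        · apply LinearMap.ext
          intro t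
          rfl
    let e3 : (X →ₗ[R] M) ≃ₗ[R] (X →ₗ[R] DRing.torsionSub I M) :=
      (LinearEquiv.ofBijective c hc).symm
    let e4 : (X →ₗ[R] DRing.torsionSub I M) ≃ₗ[R]
        (X →ₗ[R] (localCohomology I 0).obj (ModuleCat.of R M)) :=
      LinearEquiv.arrowCongr (LinearEquiv.refl R X) (ΦEquiv I (ModuleCat.of R M)).symm
    exact ⟨e1.trans (e2.trans (e3.trans e4))⟩
  | succ n ih =>
    intro M _ _ _ hIM hdepth
    have h1 : (1 : ℕ∞) ≤ LocCoh.idealDepth I M := by
      refine le_trans ?_ hdepth
      exact_mod_cast Nat.succ_le_succ (Nat.zero_le n)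
    obtain ⟨x, hx, hreg⟩ := (one_le_idealDepth_iff hIM).mp h1
    have hIM' := smul_top_quotSMulTop_ne_top hx hIM
    have hd := idealDepth_quotSMulTop_add_one I M hIM x hx hreg
    have hn' : (n : ℕ∞) ≤ LocCoh.idealDepth I (QuotSMulTop x M) := by
      rw [← hd, Nat.cast_add, Nat.cast_one] at hdepth
      exact (ENat.add_le_add_iff_right ENat.one_ne_top).mp hdepth
    have hf : Function.Injective (LinearMap.lsmul R M x) := hreg
    have hg : Function.Surjective (x • (⊤ : Submodule R M)).mkQ := Submodule.mkQ_surjective _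
    have hex := LinearMap.exact_lsmul_mkQ_smul_top M x
    have hS := Sfg_shortExact _ _ hf hg hex
    obtain ⟨e'⟩ := ih (QuotSMulTop x M) hIM' hn'
    -- the Ext connecting map is bijective
    let δE : E n X (ModuleCat.of R (QuotSMulTop x M)) →ₗ[R] E (n + 1) X (ModuleCat.of R M) :=
      (extδ (Sfg (LinearMap.lsmul R M x) _ hex) hS X n).hom
    have hδE : Function.Bijective δE := by
      constructor
      · rw [← LinearMap.ker_eq_bot, LinearMap.ker_eq_bot']
        intro z hz
        obtain ⟨y, hy⟩ := ext_exact₃ (Sfg (LinearMap.lsmul R M x) _ hex) hS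
          (ProjectiveResolution.of X) n z hz
        have hy0 : y = 0 := E_eq_zero_of_lt_depth I X hX (n + 1) M hIM hdepth n
          (Nat.lt_succ_self n) y
        rw [← hy, hy0, map_zero]
      · intro w
        have hw : (Emap (n + 1) X (ModuleCat.ofHom (LinearMap.lsmul R M x))).hom w = 0 := by
          rw [Emap_lsmul]
          exact smul_E_eq_zero_of_kill I X hX (n + 1) _ x hx w
        exact ext_exact₁ (Sfg (LinearMap.lsmul R M x) _ hex) hS
          (ProjectiveResolution.of X) n w hw
    -- the local cohomology connecting map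
    let δH : (localCohomology I n).obj (ModuleCat.of R (QuotSMulTop x M)) →ₗ[R]
        (localCohomology I (n + 1)).obj (ModuleCat.of R M) :=
      (Hδ I n (Sfg (LinearMap.lsmul R M x) _ hex) hS).hom
    have hδH : Function.Injective δH := by
      rw [← LinearMap.ker_eq_bot, LinearMap.ker_eq_bot']
      intro z hz
      obtain ⟨y, hy⟩ := H_exact₃ I n (Sfg (LinearMap.lsmul R M x) _ hex) hS z hz
      have hy0 : y = 0 := H_eq_zero_of_lt_depth I (n + 1) M hIM hdepth n
        (Nat.lt_succ_self n) y
      rw [← hy, hy0, map_zero]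
    have hrange : ∀ w : (localCohomology I (n + 1)).obj (ModuleCat.of R M), x • w = 0 →
        w ∈ LinearMap.range δH := by
      intro w hw
      rw [← H_map_lsmul] at hw
      obtain ⟨z, hz⟩ := H_exact₁ I n (Sfg (LinearMap.lsmul R M x) _ hex) hS w hw
      exact ⟨z, hz⟩
    let c : (X →ₗ[R] (localCohomology I n).obj (ModuleCat.of R (QuotSMulTop x M))) →ₗ[R]
        (X →ₗ[R] (localCohomology I (n + 1)).obj (ModuleCat.of R M)) :=
      LinearMap.compRight R δH
    have hc : Function.Bijective c := by
      constructor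
      · intro f g hfg
        apply LinearMap.ext
        intro t
        apply hδH
        exact LinearMap.congr_fun hfg t
      · intro g
        have hmem : ∀ t : X, g t ∈ LinearMap.range δH := fun t => by
          apply hrange
          rw [← map_smul, hX x hx t, map_zero]
        refine ⟨(LinearEquiv.ofInjective δH hδH).symm.toLinearMap ∘ₗ
          g.codRestrict (LinearMap.range δH) hmem, ?_⟩
        apply LinearMap.ext
        intro t
        change δH ((LinearEquiv.ofInjective δH hδH).symm ⟨g t, hmem t⟩) = g t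
        have := (LinearEquiv.ofInjective δH hδH).apply_symm_apply ⟨g t, hmem t⟩
        exact congrArg Subtype.val this
    exact ⟨(LinearEquiv.ofBijective δE hδE).symm.trans
      (e'.trans (LinearEquiv.ofBijective c hc))⟩

end Depth

end Groth.Agent.Lib.Helper8.ExtSoc
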