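import Mathlib
import Groth.Prelude.Def_Formal2
import Groth.Agent.Lib.Helper21Cech5
import Groth.Agent.Lib.Helper23QCohExt
import Groth.Agent.S9498
import Groth.Agent.Lib.Helper8Tilde2

/-!
# The cohomology groups `Formal2.HV` as a δ-functor on `A`-modules (helper8)

Functoriality of `HVmap`, the long exact sequence attached to a short exact sequence of `A`-modules (with
naturality of the connecting map), and the canonical map `M → H^0(V, M~)`.
-/

set_option autoImplicit false
universe u
open CategoryTheory CategoryTheory.Limits Opposite AlgebraicGeometry TopologicalSpace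

namespace Groth.Agent.Lib.Helper8.FHV

open Groth.Agent.Lib.Helper21.Cech Groth.Agent.Lib.Helper23.QCohLocal

variable (A : Type u) [CommRing A]

/-- the underlying abelian sheaf of `M~`. -/
noncomputable abbrev sh (M : Type u) [AddCommGroup M] [Module A M] :
    CohTop.Ab (Spec (CommRingCat.of A)).toTopCat :=
  Coh.toAb (Formal2.tmod A M)

/-- the map of abelian sheaves induced by a linear map. -/
noncomputable abbrev shMap {M N : Type u} [AddCommGroup M] [Module A M] [AddCommGroup N] [Module A N]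
    (φ : M →ₗ[A] N) : sh A M ⟶ sh A N :=
  (SheafOfModules.toSheaf _).map (Formal2.tmodMap A φ)

variable {A}
variable {M N P : Type u} [AddCommGroup M] [Module A M] [AddCommGroup N] [Module A N]
  [AddCommGroup P] [Module A P]

theorem shMap_id : shMap A (LinearMap.id : M →ₗ[A] M) = 𝟙 _ := by
  have h : Formal2.tmodMap A (LinearMap.id : M →ₗ[A] M) = 𝟙 _ :=
    tilde.map_id (R := CommRingCat.of A) (M := ModuleCat.of A M)
  exact (congrArg (fun t => (toAbF (Spec (CommRingCat.of A))).map t) h).trans
    ((toAbF (Spec (CommRingCat.of A))).map_id _)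

theorem shMap_comp (φ : M →ₗ[A] N) (ψ : N →ₗ[A] P) :
    shMap A (ψ ∘ₗ φ) = shMap A φ ≫ shMap A ψ := by
  have h : Formal2.tmodMap A (ψ ∘ₗ φ) = Formal2.tmodMap A φ ≫ Formal2.tmodMap A ψ :=
    tilde.map_comp (R := CommRingCat.of A) (ModuleCat.ofHom φ) (ModuleCat.ofHom ψ)
  exact (congrArg (fun t => (toAbF (Spec (CommRingCat.of A))).map t) h).trans
    ((toAbF (Spec (CommRingCat.of A))).map_comp _ _)

theorem shMap_zero : shMap A (0 : M →ₗ[A] N) = 0 := by
  have h : Formal2.tmodMap A (0 : M →ₗ[A] N) = 0 :=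
    tilde.map_zero (R := CommRingCat.of A) (M := ModuleCat.of A M) (N := ModuleCat.of A N)
  exact (congrArg (fun t => (toAbF (Spec (CommRingCat.of A))).map t) h).trans
    ((toAbF (Spec (CommRingCat.of A))).map_zero _ _)

theorem shMap_add (φ ψ : M →ₗ[A] N) : shMap A (φ + ψ) = shMap A φ + shMap A ψ := by
  have h : Formal2.tmodMap A (φ + ψ) = Formal2.tmodMap A φ + Formal2.tmodMap A ψ :=
    tilde.map_add (R := CommRingCat.of A) (ModuleCat.ofHom φ) (ModuleCat.ofHom ψ)
  exact (congrArg (fun t => (toAbF (Spec (CommRingCat.of A))).map t) h).trans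
    ((toAbF (Spec (CommRingCat.of A))).map_add)

variable (i : ℕ) (V : (Spec (CommRingCat.of A)).Opens)

theorem HVmap_eq (φ : M →ₗ[A] N) (x : Formal2.HV A M i V) :
    Formal2.HVmap A φ i V x = CechEdge.HUmap (shMap A φ) i V x := rfl

theorem HVmap_id (x : Formal2.HV A M i V) :
    Formal2.HVmap A (LinearMap.id : M →ₗ[A] M) i V x = x := by
  rw [HVmap_eq, shMap_id]
  exact HUmap_id _ i V x

theorem HVmap_comp (φ : M →ₗ[A] N) (ψ : N →ₗ[A] P) (x : Formal2.HV A M i V) :
    Formal2.HVmap A (ψ ∘ₗ φ) i V x = Formal2.HVmap A ψ i V (Formal2.HVmap A φ i V x) := by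
  rw [HVmap_eq, shMap_comp]
  exact HUmap_comp _ _ i V x

theorem HVmap_zero (x : Formal2.HV A M i V) :
    Formal2.HVmap A (0 : M →ₗ[A] N) i V x = 0 := by
  rw [HVmap_eq, shMap_zero, HUmap_apply, Abelian.Ext.mk₀_zero, Abelian.Ext.comp_zero]
  rfl

theorem HVmap_add (φ ψ : M →ₗ[A] N) (x : Formal2.HV A M i V) :
    Formal2.HVmap A (φ + ψ) i V x = Formal2.HVmap A φ i V x + Formal2.HVmap A ψ i V x := by
  rw [HVmap_eq, shMap_add, HUmap_apply, Abelian.Ext.mk₀_add, Abelian.Ext.comp_add]
  rfl

section LES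

theorem shortExact_aux (R : CommRingCat.{u}) (S : ShortComplex (ModuleCat.{u} R)) (hS : S.ShortExact) :
    ((S.map (tilde.functor R)).map (toAbF (Spec (CommRingCat.of R)))).ShortExact := by
  have := (Groth.Agent.S9498.aux R).1
  have := (Groth.Agent.S9498.aux R).2
  exact shortExact_toAbF _ (hS.map_of_exact (tilde.functor R))

variable (f : M →ₗ[A] N) (g : N →ₗ[A] P)

/-- the short complex of abelian sheaves attached to a pair of composable linear maps with zero composite. -/
noncomputable def shS (h0 : g ∘ₗ f = 0) : ShortComplex (CohTop.Ab (Spec (CommRingCat.of A)).toTopCat) :=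
  ShortComplex.mk (shMap A f) (shMap A g) (by rw [← shMap_comp, h0, shMap_zero])

theorem comp_eq_zero_of_exact (hfg : Function.Exact f g) : g ∘ₗ f = 0 := by
  ext m
  exact hfg.apply_apply_eq_zero m

theorem shS_shortExact (hf : Function.Injective f) (hg : Function.Surjective g)
    (hfg : Function.Exact f g) : (shS f g (comp_eq_zero_of_exact f g hfg)).ShortExact := by
  have hS : (ShortComplex.mk (ModuleCat.ofHom f) (ModuleCat.ofHom g) (by
      rw [← ModuleCat.ofHom_comp, comp_eq_zero_of_exact f g hfg]; rfl)).ShortExact := by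
    refine ShortComplex.ShortExact.mk' ?_ ?_ ?_
    · rw [ShortComplex.ShortExact.moduleCat_exact_iff_function_exact]
      exact hfg
    · exact (ModuleCat.mono_iff_injective _).2 hf
    · exact (ModuleCat.epi_iff_surjective _).2 hg
  have h1 := shortExact_aux (CommRingCat.of A) _ hS
  refine ShortComplex.shortExact_of_iso (ShortComplex.isoMk (Iso.refl _) (Iso.refl _) (Iso.refl _) ?_ ?_) h1
  · change 𝟙 _ ≫ shMap A f = shMap A f ≫ 𝟙 _
    rw [Category.id_comp, Category.comp_id]
  · change 𝟙 _ ≫ shMap A g = shMap A g ≫ 𝟙 _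
    rw [Category.id_comp, Category.comp_id]

variable (hf : Function.Injective f) (hg : Function.Surjective g) (hfg : Function.Exact f g)

/-- the connecting map `H^i(V, P~) → H^{i+1}(V, M~)`. -/
noncomputable def δ : Formal2.HV A P i V →+ Formal2.HV A M (i + 1) V :=
  CechEdge.extδ (shS_shortExact f g hf hg hfg) V i

include hf hg hfg in
theorem exact₂ (x : Formal2.HV A N i V) (hx : Formal2.HVmap A g i V x = 0) :
    ∃ y : Formal2.HV A M i V, Formal2.HVmap A f i V y = x :=
  ext_exact₂ (shS_shortExact f g hf hg hfg) V i x hx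

theorem exact₃ (x : Formal2.HV A P i V) (hx : δ i V f g hf hg hfg x = 0) :
    ∃ y : Formal2.HV A N i V, Formal2.HVmap A g i V y = x :=
  ext_exact₃ (shS_shortExact f g hf hg hfg) V i x hx

theorem exact₁ (x : Formal2.HV A M (i + 1) V) (hx : Formal2.HVmap A f (i + 1) V x = 0) :
    ∃ y : Formal2.HV A P i V, δ i V f g hf hg hfg y = x :=
  ext_exact₁ (shS_shortExact f g hf hg hfg) V i x hx

theorem δ_g (y : Formal2.HV A N i V) : δ i V f g hf hg hfg (Formal2.HVmap A g i V y) = 0 :=
  extδ_HUmap_g (shS_shortExact f g hf hg hfg) V i y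

theorem f_δ (y : Formal2.HV A P i V) : Formal2.HVmap A f (i + 1) V (δ i V f g hf hg hfg y) = 0 :=
  HUmap_f_extδ (shS_shortExact f g hf hg hfg) V i y

include hfg in
theorem g_f (y : Formal2.HV A M i V) :
    Formal2.HVmap A g i V (Formal2.HVmap A f i V y) = 0 := by
  rw [← HVmap_comp, comp_eq_zero_of_exact f g hfg, HVmap_zero]

include hf in
theorem injective_f_zero : Function.Injective (Formal2.HVmap A f 0 V) := by
  rw [injective_iff_map_eq_zero]
  intro x hx
  have hmono : Mono (shMap A f) := by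
    have hS : (ShortComplex.mk (ModuleCat.ofHom f) (ModuleCat.ofHom (LinearMap.range f).mkQ) (by
        rw [← ModuleCat.ofHom_comp, LinearMap.range_mkQ_comp]; rfl)).ShortExact := by
      refine ShortComplex.ShortExact.mk' ?_ ?_ ?_
      · rw [ShortComplex.ShortExact.moduleCat_exact_iff_function_exact]
        exact LinearMap.exact_map_mkQ_range f
      · exact (ModuleCat.mono_iff_injective _).2 hf
      · exact (ModuleCat.epi_iff_surjective _).2 (Submodule.mkQ_surjective _)
    exact (shortExact_aux (CommRingCat.of A) _ hS).mono_f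
  have h1 : Abelian.Ext.addEquiv₀ (Formal2.HVmap A f 0 V x) =
      Abelian.Ext.addEquiv₀ x ≫ shMap A f := addEquiv₀_comp_mk₀ _ x
  have h3 : Abelian.Ext.addEquiv₀ x ≫ shMap A f = 0 := by
    rw [← h1, hx]
    exact map_zero Abelian.Ext.addEquiv₀
  have h2 : Abelian.Ext.addEquiv₀ x = 0 := by
    rw [← cancel_mono (shMap A f), h3, zero_comp]
  exact (AddEquiv.map_eq_zero_iff _).1 h2

end LES

section Nat

variable {M' N' P' : Type u} [AddCommGroup M'] [Module A M'] [AddCommGroup N'] [Module A N']
  [AddCommGroup P'] [Module A P']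

theorem δ_naturality (i : ℕ) (V : (Spec (CommRingCat.of A)).Opens)
    (f : M →ₗ[A] N) (g : N →ₗ[A] P) (hf : Function.Injective f) (hg : Function.Surjective g)
    (hfg : Function.Exact f g)
    (f' : M' →ₗ[A] N') (g' : N' →ₗ[A] P') (hf' : Function.Injective f') (hg' : Function.Surjective g')
    (hfg' : Function.Exact f' g')
    (α : M →ₗ[A] M') (β : N →ₗ[A] N') (γ : P →ₗ[A] P')
    (h1 : β ∘ₗ f = f' ∘ₗ α) (h2 : γ ∘ₗ g = g' ∘ₗ β) (x : Formal2.HV A P i V) :
    Formal2.HVmap A α (i + 1) V (δ i V f g hf hg hfg x) =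
      δ i V f' g' hf' hg' hfg' (Formal2.HVmap A γ i V x) :=
  extδ_naturality (shS_shortExact f g hf hg hfg) (shS_shortExact f' g' hf' hg' hfg')
    (ShortComplex.homMk (shMap A α) (shMap A β) (shMap A γ)
      (by change shMap A α ≫ shMap A f' = shMap A f ≫ shMap A β
          rw [← shMap_comp, ← shMap_comp, h1])
      (by change shMap A β ≫ shMap A g' = shMap A g ≫ shMap A γ
          rw [← shMap_comp, ← shMap_comp, h2])) V i x

end Nat

section H0
open Groth.Agent.Lib.Helper8.Tilde

/-- the map induced on sections by a linear map. -/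
noncomputable def secMap (φ : M →ₗ[A] N) : Sec A M V →ₗ[A] Sec A N V :=
  StructureSheaf.comapₗ φ V V (fun _ h => h)

theorem secMap_apply (φ : M →ₗ[A] N) (s : Sec A M V) (x : V) :
    (secMap V φ s).1 x = StructureSheaf.Localizations.comapFun φ x.1 (s.1 x) := rfl

theorem secMap_smul_id (a : A) (s : Sec A M V) :
    secMap V (a • (LinearMap.id : M →ₗ[A] M)) s = a • s := by
  apply sec_ext
  intro x
  rw [secMap_apply]
  have h : (a • s).1 x = a • s.1 x := rfl
  rw [h]
  generalize s.1 x = z
  induction z using LocalizedModule.induction_on with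
  | h m t =>
    refine (StructureSheaf.Localizations.comapFun_mk (a • (LinearMap.id : M →ₗ[A] M)) x.1 m t).trans ?_
    rw [LocalizedModule.smul'_mk]
    rfl

theorem secMap_toOpen (φ : M →ₗ[A] N) (m : M) :
    secMap V φ (StructureSheaf.toOpenₗ A M V m) = StructureSheaf.toOpenₗ A N V (φ m) := by
  apply sec_ext
  intro x
  rw [secMap_apply]
  exact StructureSheaf.Localizations.comapFun_mk φ x.1 m 1

/-- `H^0(V, M~)` is the group of sections. -/
noncomputable def σ : Formal2.HV A M 0 V ≃+ Sec A M V :=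
  (CechEdge.sectH0 (Opens.grothendieckTopology _) V (sh A M)).symm

theorem σ_HVmap (φ : M →ₗ[A] N) (x : Formal2.HV A M 0 V) :
    σ V (Formal2.HVmap A φ 0 V x) = secMap V φ (σ V x) := by
  have h := sectH0_naturality (shMap A φ) V (σ V x)
  have h1 : CechEdge.sectH0 _ V (sh A M) (σ V x) = x := AddEquiv.apply_symm_apply _ x
  have h' := (congrArg (CechEdge.HUmap (shMap A φ) 0 V) h1.symm).trans h
  exact (congrArg (σ V) h').trans (AddEquiv.symm_apply_apply _ _)

/-- the canonical map `M → H^0(V, M~)`. -/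
noncomputable def ε : M →+ Formal2.HV A M 0 V :=
  (σ V).symm.toAddMonoidHom.comp (StructureSheaf.toOpenₗ A M V).toAddMonoidHom

theorem σ_ε (m : M) : σ V (ε V m) = StructureSheaf.toOpenₗ A M V m :=
  (σ V).apply_symm_apply _

theorem HVmap_ε (φ : M →ₗ[A] N) (m : M) : Formal2.HVmap A φ 0 V (ε V m) = ε V (φ m) := by
  apply (σ V).injective
  rw [σ_HVmap, σ_ε, σ_ε, secMap_toOpen]

end H0

end Groth.Agent.Lib.Helper8.FHV
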