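import Groth.Agent.Lib.Helper8FHVa
import Groth.Agent.Lib.Helper28Deligne
import Groth.Agent.Lib.Helper21LCZ2
import Groth.Agent.S5173

/-!
# From annihilators of local cohomology to annihilators of `H^i(U, M~)` (helper8)

`U = Spec A ∖ V(𝔞)`, `A` Noetherian.
* `exists_ε_of_kills_H1`: if `a` kills `H^1_𝔞(N)` then `a • H^0(U, N~)` lies in the image of `N`.
* `subsingleton_HV_of_injective`: `H^{j+1}(U, E~) = 0` for an injective module `E`.
* `HVmap_smul_eq_zero`: if `a` kills `H^{i+2}_𝔞(N)` then multiplication by `a` is zero on `H^{i+1}(U, N~)`.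
-/

set_option autoImplicit false
universe u
open CategoryTheory CategoryTheory.Limits Opposite AlgebraicGeometry TopologicalSpace

namespace Groth.Agent.Lib.Helper8.FHV

open Groth.Agent.Lib.Helper28.Deligne Groth.Agent.Lib.Helper8.Tilde Groth.Agent.Lib.Helper8.DT
  Groth.Agent.Lib.Helper8.LC LocCoh

section IT

variable {A : Type u} [CommRing A] {J : Ideal A}
variable {M N₁ N₂ : Type u} [AddCommGroup M] [Module A M] [AddCommGroup N₁] [Module A N₁]
  [AddCommGroup N₂] [Module A N₂] {ε₁ : M →ₗ[A] N₁} {ε₂ : M →ₗ[A] N₂}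

/-- every element of one ideal transform is related to an element of the other. -/
theorem IsIT.exists_related (h₁ : IsIT J ε₁) (h₂ : IsIT J ε₂) (s : N₂) :
    ∃ (t : N₁) (k : ℕ), ∀ c ∈ J ^ k, ∃ m, ε₁ m = c • t ∧ ε₂ m = c • s := by
  have hker : LinearMap.ker ε₂ ≤ LinearMap.ker ε₁ := by
    intro m hm
    rw [LinearMap.mem_ker] at hm ⊢
    exact (h₁.ker m).mpr ((h₂.ker m).mp hm)
  obtain ⟨n, hn⟩ := h₂.cok s
  let ψ : ↥(J ^ n) →ₗ[A] LinearMap.range ε₂ :=
    LinearMap.codRestrict (LinearMap.range ε₂)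
      ((LinearMap.toSpanSingleton A N₂ s) ∘ₗ (Submodule.subtype (J ^ n)))
      (fun c => by
        simp only [LinearMap.comp_apply, Submodule.subtype_apply,
          LinearMap.toSpanSingleton_apply]
        exact hn c c.2)
  let ρ : LinearMap.range ε₂ →ₗ[A] N₁ :=
    (Submodule.liftQ (LinearMap.ker ε₂) ε₁ hker) ∘ₗ (ε₂.quotKerEquivRange).symm.toLinearMap
  have hρ : ∀ m (hm : ε₂ m ∈ LinearMap.range ε₂), ρ ⟨ε₂ m, hm⟩ = ε₁ m := by
    intro m hm
    have : (ε₂.quotKerEquivRange).symm ⟨ε₂ m, hm⟩ = Submodule.Quotient.mk m := by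
      rw [LinearEquiv.symm_apply_eq]
      exact Subtype.ext (by rw [LinearMap.quotKerEquivRange_apply_mk])
    simp only [ρ, LinearMap.comp_apply, LinearEquiv.coe_coe, this, Submodule.liftQ_apply]
  obtain ⟨t, ht⟩ := h₁.closed n (ρ ∘ₗ ψ)
  refine ⟨t, n, fun c hc => ?_⟩
  obtain ⟨m, hm⟩ := hn c hc
  refine ⟨m, ?_, hm⟩
  have h1 := ht ⟨c, hc⟩
  have h2 : ψ ⟨c, hc⟩ = ⟨ε₂ m, ⟨m, rfl⟩⟩ := by
    apply Subtype.ext
    simp only [ψ, LinearMap.codRestrict_apply, LinearMap.comp_apply, Submodule.subtype_apply,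
      LinearMap.toSpanSingleton_apply]
    exact hm.symm
  rw [LinearMap.comp_apply, h2, hρ] at h1
  exact h1

/-- annihilation of the cokernel transfers between ideal transforms. -/
theorem IsIT.smul_mem_range (h₁ : IsIT J ε₁) (h₂ : IsIT J ε₂) (a : A)
    (h : ∀ t : N₁, a • t ∈ LinearMap.range ε₁) (s : N₂) : a • s ∈ LinearMap.range ε₂ := by
  obtain ⟨t, k, hk⟩ := IsIT.exists_related h₁ h₂ s
  obtain ⟨m₀, hm₀⟩ := h t
  refine ⟨m₀, ?_⟩
  rw [← sub_eq_zero]
  apply h₂.tf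
  refine ⟨k, fun c hc => ?_⟩
  obtain ⟨m, hm1, hm2⟩ := hk c hc
  have h3 : ε₁ (c • m₀ - a • m) = 0 := by
    rw [map_sub, map_smul, map_smul, hm₀, hm1, smul_comm, sub_self]
  have h4 : ε₂ (c • m₀ - a • m) = 0 := (h₂.ker _).mpr ((h₁.ker _).mp h3)
  rw [map_sub, map_smul, map_smul, hm2] at h4
  rw [smul_sub, smul_comm c a s]
  exact h4

end IT

section Bridge

variable {A : Type u} [CommRing A] [IsNoetherianRing A] (𝔞 : Ideal A)

/-- if `a` kills `H^1_𝔞(N)` then `a • H^0(U, N~) ⊆ im(N)`. -/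
theorem exists_ε_of_kills_H1 (N : Type u) [AddCommGroup N] [Module A N] (a : A)
    (h : ∀ x : LocCoh.H 𝔞 1 N, a • x = 0)
    (x : Formal2.HV A N 0 (LocCoh.puncturedOpen A 𝔞)) :
    ∃ m : N, Formal2.HVmap A (a • (LinearMap.id : N →ₗ[A] N)) 0 (LocCoh.puncturedOpen A 𝔞) x =
      ε (LocCoh.puncturedOpen A 𝔞) m := by
  obtain ⟨e⟩ := nonempty_coker_toDT_equiv 𝔞 N
  have h1 : ∀ d : DT 𝔞 N, a • d ∈ LinearMap.range (toDT 𝔞 N) := by
    intro d
    have h2 : e (a • Submodule.Quotient.mk d) = 0 := by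
      rw [map_smul]
      exact h _
    have h3 : a • (Submodule.Quotient.mk d : DT 𝔞 N ⧸ LinearMap.range (toDT 𝔞 N)) = 0 :=
      (LinearEquiv.map_eq_zero_iff e).1 h2
    rw [← Submodule.Quotient.mk_smul, Submodule.Quotient.mk_eq_zero] at h3
    exact h3
  obtain ⟨m, hm⟩ := IsIT.smul_mem_range (isIT_toDT 𝔞 N) (isIT_toOpen (M := N) 𝔞) a h1
    (σ (LocCoh.puncturedOpen A 𝔞) x)
  refine ⟨m, ?_⟩
  apply (σ (LocCoh.puncturedOpen A 𝔞)).injective
  rw [σ_HVmap, secMap_smul_id, σ_ε]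
  exact hm.symm

/-- `H^{j+1}(U, E~) = 0` for an injective module `E`. -/
theorem subsingleton_HV_of_injective (E : Type u) [AddCommGroup E] [Module A E]
    [Injective (ModuleCat.of A E)] (j : ℕ) :
    Subsingleton (Formal2.HV A E (j + 1) (LocCoh.puncturedOpen A 𝔞)) := by
  obtain ⟨T, hT⟩ := (IsNoetherian.noetherian 𝔞 : 𝔞.FG)
  let fs : List A := T.toList
  have hfs : 𝔞 = Ideal.span {a | a ∈ fs} := by
    rw [← hT]
    congr 1
    ext a
    simp [fs]
  rw [hfs]
  obtain ⟨e1⟩ := Groth.Agent.Lib.Helper21.LCZ.nonempty_HZc_succ_succ_equiv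
    (Coh.toAb (Groth.Agent.Lib.Helper21.LCZ.FA A E))
    (LocCoh.puncturedOpen A (Ideal.span {a | a ∈ fs})) j
    (Groth.Agent.Lib.Helper21.LCZ.subsingleton_HE_top E j)
    (Groth.Agent.Lib.Helper21.LCZ.subsingleton_HE_top E (j + 1))
  obtain ⟨e2⟩ := Groth.Agent.Lib.Helper21.LCZ.nonempty_koszulHLim_equiv fs E (j + 2)
  obtain ⟨e3⟩ := Groth.Agent.S5173.result A fs E (j + 2)
  have h0 : Subsingleton (LocCoh.H (Ideal.span {a | a ∈ fs}) (j + 2) E) :=
    ⟨fun x y => (H_succ_eq_zero_of_injective _ (ModuleCat.of A E) (j + 1) x).trans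
      (H_succ_eq_zero_of_injective _ (ModuleCat.of A E) (j + 1) y).symm⟩
  have h1 : Subsingleton (CohIII.koszulHLim fs (ModuleCat.of A E) (j + 2)) :=
    e3.symm.toEquiv.subsingleton
  have h2 : Subsingleton (LocCohZ.HZM (Groth.Agent.Lib.Helper21.LCZ.XA A)
      (Groth.Agent.Lib.Helper21.LCZ.FA A E) (j + 2)
      (LocCoh.puncturedOpen A (Ideal.span {a | a ∈ fs}))) := e2.symm.toEquiv.subsingleton
  exact e1.symm.toEquiv.subsingleton

/-- dimension shifting for annihilators on the local cohomology side. -/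
theorem kills_quotient (a : A) {N E Q : Type u} [AddCommGroup N] [Module A N] [AddCommGroup E]
    [Module A E] [AddCommGroup Q] [Module A Q] (f : N →ₗ[A] E) (g : E →ₗ[A] Q)
    (hf : Function.Injective f) (hg : Function.Surjective g) (hex : Function.Exact f g)
    [Injective (ModuleCat.of A E)] (i : ℕ)
    (h : ∀ x : LocCoh.H 𝔞 (i + 2) N, a • x = 0) (z : LocCoh.H 𝔞 (i + 1) Q) : a • z = 0 := by
  have hS := Sfg_shortExact f g hf hg hex
  have h1 : (Hδ 𝔞 (i + 1) (Sfg f g hex) hS).hom (a • z) = 0 := by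
    rw [LinearMap.map_smul]
    exact h _
  obtain ⟨y, hy⟩ := H_exact₃ 𝔞 (i + 1) (Sfg f g hex) hS (a • z) h1
  have hy0 : y = 0 := H_succ_eq_zero_of_injective 𝔞 (ModuleCat.of A E) i y
  rw [hy0, map_zero] at hy
  exact hy.symm

/-- one step of dimension shifting on the sheaf side. -/
theorem shift_aux (a : A) {N E Q : Type u} [AddCommGroup N] [Module A N] [AddCommGroup E]
    [Module A E] [AddCommGroup Q] [Module A Q] (f : N →ₗ[A] E) (g : E →ₗ[A] Q)
    (hf : Function.Injective f) (hg : Function.Surjective g) (hex : Function.Exact f g) (j : ℕ)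
    (hE : Subsingleton (Formal2.HV A E (j + 1) (LocCoh.puncturedOpen A 𝔞)))
    (hy : ∀ y : Formal2.HV A Q j (LocCoh.puncturedOpen A 𝔞),
      δ j (LocCoh.puncturedOpen A 𝔞) f g hf hg hex
        (Formal2.HVmap A (a • (LinearMap.id : Q →ₗ[A] Q)) j (LocCoh.puncturedOpen A 𝔞) y) = 0)
    (x : Formal2.HV A N (j + 1) (LocCoh.puncturedOpen A 𝔞)) :
    Formal2.HVmap A (a • (LinearMap.id : N →ₗ[A] N)) (j + 1) (LocCoh.puncturedOpen A 𝔞) x = 0 := by
  obtain ⟨y, rfl⟩ := exact₁ j (LocCoh.puncturedOpen A 𝔞) f g hf hg hex x (Subsingleton.elim _ _)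
  rw [δ_naturality j (LocCoh.puncturedOpen A 𝔞) f g hf hg hex f g hf hg hex
    (a • (LinearMap.id : N →ₗ[A] N)) (a • (LinearMap.id : E →ₗ[A] E))
    (a • (LinearMap.id : Q →ₗ[A] Q))
    (by ext n; simp) (by ext n; simp) y]
  exact hy y

/-- if `a` kills `H^{i+2}_𝔞(N)` then multiplication by `a` is zero on `H^{i+1}(U, N~)`. -/
theorem HVmap_smul_eq_zero (a : A) : ∀ (i : ℕ) (N : Type u) [AddCommGroup N] [Module A N],
    (∀ x : LocCoh.H 𝔞 (i + 2) N, a • x = 0) →
    ∀ x : Formal2.HV A N (i + 1) (LocCoh.puncturedOpen A 𝔞),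
      Formal2.HVmap A (a • (LinearMap.id : N →ₗ[A] N)) (i + 1) (LocCoh.puncturedOpen A 𝔞) x = 0 := by
  intro i
  induction i with
  | zero =>
    intro N _ _ h x
    let Nc := ModuleCat.of A N
    let ι : Nc ⟶ Injective.under Nc := Injective.ι Nc
    have hf : Function.Injective ι.hom := (ModuleCat.mono_iff_injective ι).mp inferInstance
    have hg : Function.Surjective (LinearMap.range ι.hom).mkQ := Submodule.mkQ_surjective _
    have hex : Function.Exact ι.hom (LinearMap.range ι.hom).mkQ :=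
      LinearMap.exact_map_mkQ_range ι.hom
    have : Injective (ModuleCat.of A ↑(Injective.under Nc)) :=
      inferInstanceAs (Injective (Injective.under Nc))
    have hQ := kills_quotient 𝔞 a ι.hom (LinearMap.range ι.hom).mkQ hf hg hex 0 h
    refine shift_aux 𝔞 a ι.hom (LinearMap.range ι.hom).mkQ hf hg hex 0
      (subsingleton_HV_of_injective 𝔞 _ 0) ?_ x
    intro y
    obtain ⟨q, hq⟩ := exists_ε_of_kills_H1 𝔞 _ a hQ y
    rw [hq]
    obtain ⟨e, rfl⟩ := hg q
    rw [← HVmap_ε, δ_g]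
  | succ i ih =>
    intro N _ _ h x
    let Nc := ModuleCat.of A N
    let ι : Nc ⟶ Injective.under Nc := Injective.ι Nc
    have hf : Function.Injective ι.hom := (ModuleCat.mono_iff_injective ι).mp inferInstance
    have hg : Function.Surjective (LinearMap.range ι.hom).mkQ := Submodule.mkQ_surjective _
    have hex : Function.Exact ι.hom (LinearMap.range ι.hom).mkQ :=
      LinearMap.exact_map_mkQ_range ι.hom
    have : Injective (ModuleCat.of A ↑(Injective.under Nc)) :=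
      inferInstanceAs (Injective (Injective.under Nc))
    have hQ := kills_quotient 𝔞 a ι.hom (LinearMap.range ι.hom).mkQ hf hg hex (i + 1) h
    refine shift_aux 𝔞 a ι.hom (LinearMap.range ι.hom).mkQ hf hg hex (i + 1)
      (subsingleton_HV_of_injective 𝔞 _ (i + 1)) ?_ x
    intro y
    rw [ih _ hQ y, map_zero]

end Bridge

end Groth.Agent.Lib.Helper8.FHV
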