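import Groth.Agent.Lib.Helper8FHVa
import Groth.Agent.Lib.Helper14CTPFlat

/-!
# Formal cohomology along a principal ideal: the algebraic core (helper8)

`U` an open of `Spec A`, `T^i(N) = H^i(U, N~)`.  For a finite module `M` over a Noetherian ring and `f : A`:
* `exists_div`: division maps `f^(n+c'+1) M → M` (the `f`-power torsion of `M` is bounded);
* `HVmap_incl_eq_zero`: if `f^c` kills `T^j(M)` then `T^j(f^(n+c+c'+1) M) → T^j(f^(n+1) M)` is zero;
* `bijective_of_kills`: if `f^c` kills `T^i(M)` and `T^{i+1}(M)` then `T^i(M) → lim T^i(M/f^(n+1)M)` is bijective.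
-/

set_option autoImplicit false
universe u
open CategoryTheory AlgebraicGeometry TopologicalSpace

namespace Groth.Agent.Lib.Helper8.FHV

section Alg

variable {A : Type u} [CommRing A] (f : A) (M : Type u) [AddCommGroup M] [Module A M]

/-- `f^(n+1) M`, in the form used by `Formal2.quotPow`. -/
abbrev P (n : ℕ) : Submodule A M := (Ideal.span {f}) ^ (n + 1) • (⊤ : Submodule A M)

theorem mem_P_iff (n : ℕ) (m : M) : m ∈ P f M n ↔ ∃ m' : M, f ^ (n + 1) • m' = m := by
  change m ∈ (Ideal.span {f}) ^ (n + 1) • (⊤ : Submodule A M) ↔ _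
  rw [Ideal.span_singleton_pow, Submodule.ideal_span_singleton_smul,
    Submodule.mem_smul_pointwise_iff_exists]
  constructor
  · rintro ⟨m', -, rfl⟩
    exact ⟨m', rfl⟩
  · rintro ⟨m', rfl⟩
    exact ⟨m', Submodule.mem_top, rfl⟩

theorem smul_mem_P (n k : ℕ) (h : n + 1 ≤ k) (m : M) : f ^ k • m ∈ P f M n := by
  rw [mem_P_iff]
  refine ⟨f ^ (k - (n + 1)) • m, ?_⟩
  rw [smul_smul, ← pow_add, Nat.add_sub_cancel' h]

theorem P_anti {n m : ℕ} (h : n ≤ m) : P f M m ≤ P f M n :=
  Submodule.smul_mono_left (Ideal.pow_le_pow_right (Nat.succ_le_succ h))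

/-- the transition maps `M/f^(m+1)M → M/f^(n+1)M` for `n ≤ m`. -/
def tr {n m : ℕ} (h : n ≤ m) :
    Formal2.quotPow A (Ideal.span {f}) M m →ₗ[A] Formal2.quotPow A (Ideal.span {f}) M n :=
  Submodule.mapQ _ _ LinearMap.id (by rw [Submodule.comap_id]; exact P_anti f M h)

theorem tr_comp_π {n m : ℕ} (h : n ≤ m) :
    tr f M h ∘ₗ Formal2.quotPowπ A (Ideal.span {f}) M m = Formal2.quotPowπ A (Ideal.span {f}) M n := by
  ext x
  rw [LinearMap.comp_apply, Submodule.mkQ_apply, Submodule.mkQ_apply]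
  unfold tr
  rw [Submodule.mapQ_apply, LinearMap.id_apply]

theorem tr_comp {n m k : ℕ} (h1 : n ≤ m) (h2 : m ≤ k) :
    tr f M h1 ∘ₗ tr f M h2 = tr f M (h1.trans h2) := by
  apply Submodule.linearMap_qext
  ext x
  rw [LinearMap.comp_apply, LinearMap.comp_apply, LinearMap.comp_apply, Submodule.mkQ_apply]
  unfold tr
  rw [Submodule.mapQ_apply, Submodule.mapQ_apply, Submodule.mapQ_apply, LinearMap.id_apply]

theorem tr_refl (n : ℕ) : tr f M (le_refl n) = LinearMap.id := by
  apply Submodule.linearMap_qext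
  ext x
  rw [LinearMap.comp_apply, LinearMap.comp_apply, Submodule.mkQ_apply]
  unfold tr
  rw [Submodule.mapQ_apply, LinearMap.id_apply, LinearMap.id_apply]

theorem quotPowTrans_eq (n : ℕ) :
    Formal2.quotPowTrans A (Ideal.span {f}) M n = tr f M (Nat.le_succ n) := rfl

/-- the inclusions `f^(m+1) M → f^(n+1) M` for `n ≤ m`. -/
def incl {n m : ℕ} (h : n ≤ m) : P f M m →ₗ[A] P f M n := Submodule.inclusion (P_anti f M h)

theorem subtype_eq_comp_incl {n m : ℕ} (h : n ≤ m) :
    (P f M m).subtype = (P f M n).subtype ∘ₗ incl f M h := by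
  ext q
  rw [LinearMap.comp_apply, Submodule.subtype_apply, Submodule.subtype_apply]
  unfold incl
  rw [Submodule.coe_inclusion]

/-- multiplication by `f^(n+1)`, as a map `M → f^(n+1) M`. -/
def mulTo (n : ℕ) : M →ₗ[A] P f M n :=
  LinearMap.codRestrict (P f M n) (f ^ (n + 1) • (LinearMap.id : M →ₗ[A] M))
    (fun m => smul_mem_P f M n (n + 1) le_rfl m)

theorem mulTo_coe (n : ℕ) (m : M) : ((mulTo f M n m : P f M n) : M) = f ^ (n + 1) • m := rfl

/-- bounded torsion and division maps. -/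
theorem exists_div [IsNoetherianRing A] [Module.Finite A M] :
    ∃ c' : ℕ, ∀ n : ℕ, ∃ dv : P f M (n + c') →ₗ[A] M,
      ∀ p : P f M (n + c'), f ^ (n + 1) • dv p = (p : M) := by
  have hN : IsNoetherian A M := isNoetherian_of_isNoetherianRing_of_finite A M
  let K : ℕ →o Submodule A M :=
    ⟨fun k => LinearMap.ker (f ^ k • (LinearMap.id : M →ₗ[A] M)), by
      intro k l hkl m hm
      rw [LinearMap.mem_ker, LinearMap.smul_apply, LinearMap.id_apply] at hm ⊢
      rw [← Nat.sub_add_cancel hkl, pow_add, mul_smul, hm, smul_zero]⟩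
  obtain ⟨c', hc'⟩ := monotone_stabilizes_iff_noetherian.mpr hN K
  refine ⟨c', fun n => ?_⟩
  let μ : M →ₗ[A] M := f ^ (n + c' + 1) • (LinearMap.id : M →ₗ[A] M)
  let ν : M →ₗ[A] M := f ^ c' • (LinearMap.id : M →ₗ[A] M)
  have hker : LinearMap.ker μ ≤ LinearMap.ker ν := by
    intro m hm
    have h1 : m ∈ K (n + c' + 1) := hm
    have h2 : K c' = K (n + c' + 1) := hc' (n + c' + 1) (by omega)
    rw [← h2] at h1
    exact h1
  let ρ : LinearMap.range μ →ₗ[A] M :=
    (Submodule.liftQ (LinearMap.ker μ) ν hker) ∘ₗ (μ.quotKerEquivRange).symm.toLinearMap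
  have hρ : ∀ m (hm : μ m ∈ LinearMap.range μ), ρ ⟨μ m, hm⟩ = ν m := by
    intro m hm
    have : (μ.quotKerEquivRange).symm ⟨μ m, hm⟩ = Submodule.Quotient.mk m := by
      rw [LinearEquiv.symm_apply_eq]
      exact Subtype.ext (by rw [LinearMap.quotKerEquivRange_apply_mk])
    simp only [ρ, LinearMap.comp_apply, LinearEquiv.coe_coe, this, Submodule.liftQ_apply]
  have hle : P f M (n + c') ≤ LinearMap.range μ := by
    intro p hp
    obtain ⟨m', rfl⟩ := (mem_P_iff f M (n + c') p).1 hp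
    exact ⟨m', rfl⟩
  refine ⟨ρ ∘ₗ Submodule.inclusion hle, fun p => ?_⟩
  obtain ⟨m', hm'⟩ := (mem_P_iff f M (n + c') p).1 p.2
  have h1 : Submodule.inclusion hle p = ⟨μ m', ⟨m', rfl⟩⟩ := Subtype.ext hm'.symm
  rw [LinearMap.comp_apply, h1, hρ]
  change f ^ (n + 1) • (f ^ c' • m') = (p : M)
  rw [smul_smul, ← pow_add, ← hm']
  congr 2
  omega

end Alg

section Coh

variable {A : Type u} [CommRing A] (f : A) (M : Type u) [AddCommGroup M] [Module A M]
  (U : (Spec (CommRingCat.of A)).Opens) (i : ℕ)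

theorem tr_bmap {n m : ℕ} (h : n ≤ m) (x : Formal2.HV A M i U) :
    Formal2.HVmap A (tr f M h) i U (Formal2.HVmap A (Formal2.quotPowπ A (Ideal.span {f}) M m) i U x) =
      Formal2.HVmap A (Formal2.quotPowπ A (Ideal.span {f}) M n) i U x := by
  rw [← HVmap_comp, tr_comp_π]

theorem compat_add (y : ∀ n, Formal2.HV A (Formal2.quotPow A (Ideal.span {f}) M n) i U)
    (hy : ∀ n, Formal2.HVmap A (Formal2.quotPowTrans A (Ideal.span {f}) M n) i U (y (n + 1)) = y n)
    (n : ℕ) : ∀ k : ℕ, Formal2.HVmap A (tr f M (Nat.le_add_right n k)) i U (y (n + k)) = y n := by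
  intro k
  induction k with
  | zero =>
    have h : tr f M (Nat.le_add_right n 0) = LinearMap.id := tr_refl f M n
    rw [h, HVmap_id]
    rfl
  | succ k ih =>
    have h : tr f M (Nat.le_add_right n (k + 1)) =
        tr f M (Nat.le_add_right n k) ∘ₗ tr f M (Nat.le_succ (n + k)) := (tr_comp f M _ _).symm
    rw [h, HVmap_comp, ← quotPowTrans_eq]
    exact (congrArg (Formal2.HVmap A (tr f M (Nat.le_add_right n k)) i U) (hy (n + k))).trans ih

theorem compat_le (y : ∀ n, Formal2.HV A (Formal2.quotPow A (Ideal.span {f}) M n) i U)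
    (hy : ∀ n, Formal2.HVmap A (Formal2.quotPowTrans A (Ideal.span {f}) M n) i U (y (n + 1)) = y n)
    {n m : ℕ} (h : n ≤ m) : Formal2.HVmap A (tr f M h) i U (y m) = y n := by
  obtain ⟨k, rfl⟩ := Nat.exists_eq_add_of_le h
  exact compat_add f M U i y hy n k

/-- the connecting map of `0 → f^(n+1)M → M → M/f^(n+1)M → 0`. -/
noncomputable def dl (n : ℕ) : Formal2.HV A (Formal2.quotPow A (Ideal.span {f}) M n) i U →+
    Formal2.HV A (P f M n) (i + 1) U :=
  δ i U (P f M n).subtype (P f M n).mkQ (Submodule.injective_subtype _)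
    (Submodule.mkQ_surjective _) (LinearMap.exact_subtype_mkQ _)

theorem dl_nat {n m : ℕ} (h : n ≤ m)
    (x : Formal2.HV A (Formal2.quotPow A (Ideal.span {f}) M m) i U) :
    Formal2.HVmap A (incl f M h) (i + 1) U (dl f M U i m x) =
      dl f M U i n (Formal2.HVmap A (tr f M h) i U x) :=
  δ_naturality i U _ _ _ _ _ _ _ _ _ _ (incl f M h) LinearMap.id (tr f M h)
    (by ext p; rfl)
    (by rw [LinearMap.comp_id]; exact tr_comp_π f M h) x

theorem ex2 (n : ℕ) (x : Formal2.HV A M i U)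
    (hx : Formal2.HVmap A (Formal2.quotPowπ A (Ideal.span {f}) M n) i U x = 0) :
    ∃ p : Formal2.HV A (P f M n) i U, Formal2.HVmap A (P f M n).subtype i U p = x :=
  exact₂ i U (P f M n).subtype (P f M n).mkQ (Submodule.injective_subtype _)
    (Submodule.mkQ_surjective _) (LinearMap.exact_subtype_mkQ _) x hx

theorem ex3 (n : ℕ) (y : Formal2.HV A (Formal2.quotPow A (Ideal.span {f}) M n) i U)
    (hy : dl f M U i n y = 0) :
    ∃ x : Formal2.HV A M i U,
      Formal2.HVmap A (Formal2.quotPowπ A (Ideal.span {f}) M n) i U x = y :=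
  exact₃ i U (P f M n).subtype (P f M n).mkQ (Submodule.injective_subtype _)
    (Submodule.mkQ_surjective _) (LinearMap.exact_subtype_mkQ _) y hy

variable (c c' : ℕ)
  (hdiv : ∀ n : ℕ, ∃ dv : P f M (n + c') →ₗ[A] M, ∀ p : P f M (n + c'), f ^ (n + 1) • dv p = (p : M))

include hdiv in
theorem HVmap_incl_eq_zero (j : ℕ)
    (hkill : ∀ x : Formal2.HV A M j U,
      Formal2.HVmap A (f ^ c • (LinearMap.id : M →ₗ[A] M)) j U x = 0)
    (n : ℕ) (x : Formal2.HV A (P f M (n + c + c')) j U) :
    Formal2.HVmap A (incl f M (show n ≤ n + c + c' by omega)) j U x = 0 := by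
  obtain ⟨dv, hdv⟩ := hdiv (n + c)
  have hfac : incl f M (show n ≤ n + c + c' by omega) =
      mulTo f M n ∘ₗ ((f ^ c • (LinearMap.id : M →ₗ[A] M)) ∘ₗ dv) := by
    ext p
    rw [LinearMap.comp_apply, LinearMap.comp_apply, mulTo_coe, LinearMap.smul_apply,
      LinearMap.id_apply]
    unfold incl
    rw [Submodule.coe_inclusion, smul_smul, ← pow_add, ← hdv p]
    congr 2
    omega
  rw [hfac, HVmap_comp, HVmap_comp, hkill, map_zero]

include hdiv in
theorem H0_subtype
    (ha : ∀ z : Formal2.HV A M 0 U, ∃ m : M,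
      Formal2.HVmap A (f ^ c • (LinearMap.id : M →ₗ[A] M)) 0 U z = ε U m)
    (n : ℕ) (x : Formal2.HV A (P f M (n + c + c')) 0 U) :
    ∃ m : M, Formal2.HVmap A (P f M (n + c + c')).subtype 0 U x = ε U (f ^ (n + 1) • m) := by
  obtain ⟨dv, hdv⟩ := hdiv (n + c)
  have hfac : (P f M (n + c + c')).subtype =
      (f ^ (n + 1) • (LinearMap.id : M →ₗ[A] M)) ∘ₗ
        ((f ^ c • (LinearMap.id : M →ₗ[A] M)) ∘ₗ dv) := by
    ext p
    rw [LinearMap.comp_apply, LinearMap.comp_apply, LinearMap.smul_apply, LinearMap.id_apply,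
      LinearMap.smul_apply, LinearMap.id_apply, Submodule.subtype_apply, smul_smul, ← pow_add,
      ← hdv p]
    congr 2
    omega
  obtain ⟨m, hm⟩ := ha (Formal2.HVmap A dv 0 U x)
  refine ⟨m, ?_⟩
  rw [hfac, HVmap_comp, HVmap_comp, hm, HVmap_ε, LinearMap.smul_apply, LinearMap.id_apply]

end Coh

section Main

variable {A : Type u} [CommRing A] [IsNoetherianRing A] (f : A) (M : Type u) [AddCommGroup M]
  [Module A M] [Module.Finite A M] (U : (Spec (CommRingCat.of A)).Opens) (i : ℕ)

/-- lifting the members of a compatible family, when `f^c` kills `T^{i+1}(M)`. -/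
theorem exists_lift (c c' : ℕ)
    (hdiv : ∀ n : ℕ, ∃ dv : P f M (n + c') →ₗ[A] M, ∀ p : P f M (n + c'), f ^ (n + 1) • dv p = (p : M))
    (hk1 : ∀ x : Formal2.HV A M (i + 1) U,
      Formal2.HVmap A (f ^ c • (LinearMap.id : M →ₗ[A] M)) (i + 1) U x = 0)
    (y : ∀ n, Formal2.HV A (Formal2.quotPow A (Ideal.span {f}) M n) i U)
    (hy : ∀ n, Formal2.HVmap A (Formal2.quotPowTrans A (Ideal.span {f}) M n) i U (y (n + 1)) = y n)
    (n : ℕ) : ∃ x : Formal2.HV A M i U,
      Formal2.HVmap A (Formal2.quotPowπ A (Ideal.span {f}) M n) i U x = y n := by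
  apply ex3
  have h1 := compat_le f M U i y hy (show n ≤ n + c + c' by omega)
  rw [← h1, ← dl_nat, HVmap_incl_eq_zero f M U c c' hdiv (i + 1) hk1 n]

/-- if `f^c` kills `T^i(M)` and `T^{i+1}(M)`, then `T^i(M) → lim T^i(M/f^(n+1)M)` is bijective. -/
theorem bijective_of_kills (c : ℕ)
    (hk0 : ∀ x : Formal2.HV A M i U,
      Formal2.HVmap A (f ^ c • (LinearMap.id : M →ₗ[A] M)) i U x = 0)
    (hk1 : ∀ x : Formal2.HV A M (i + 1) U,
      Formal2.HVmap A (f ^ c • (LinearMap.id : M →ₗ[A] M)) (i + 1) U x = 0) :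
    Formal2.FormalCohBijective A (Ideal.span {f}) M i U := by
  obtain ⟨c', hdiv⟩ := exists_div f M
  have hinj : ∀ d : Formal2.HV A M i U,
      Formal2.HVmap A (Formal2.quotPowπ A (Ideal.span {f}) M (0 + c + c')) i U d = 0 → d = 0 := by
    intro d hd
    obtain ⟨p, hp⟩ := ex2 f M U i (0 + c + c') d hd
    have hfac : (P f M (0 + c + c')).subtype =
        (P f M 0).subtype ∘ₗ incl f M (show 0 ≤ 0 + c + c' by omega) :=
      subtype_eq_comp_incl f M _
    rw [← hp, hfac, HVmap_comp, HVmap_incl_eq_zero f M U c c' hdiv i hk0 0 p, map_zero]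
  refine ⟨fun x x' h => ?_, fun y hy => ?_⟩
  · rw [← sub_eq_zero]
    apply hinj
    rw [map_sub, h, sub_self]
  · choose x hx using exists_lift f M U i c c' hdiv hk1 y hy
    have hb : ∀ (n m : ℕ) (_ : n ≤ m),
        Formal2.HVmap A (Formal2.quotPowπ A (Ideal.span {f}) M n) i U (x m) = y n := by
      intro n m h
      rw [← tr_bmap f M U i h, hx, compat_le f M U i y hy h]
    have hconst : ∀ m : ℕ, 0 + c + c' ≤ m → x m = x (0 + c + c') := by
      intro m hm
      rw [← sub_eq_zero]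
      apply hinj
      rw [map_sub, hb _ _ hm, hx, sub_self]
    refine ⟨x (0 + c + c'), fun n => ?_⟩
    rw [← hconst (n + (0 + c + c')) (by omega)]
    exact hb n _ (by omega)

/-- the kernel of `M → T^0(M)`, as a submodule. -/
def kerε : Submodule A M where
  carrier := {m | ε U m = 0}
  add_mem' := by
    intro a b ha hb
    change ε U (a + b) = 0
    rw [map_add, ha, hb, add_zero]
  zero_mem' := map_zero (ε U)
  smul_mem' := by
    intro a m hm
    change ε U (a • m) = 0
    have h : a • m = (a • (LinearMap.id : M →ₗ[A] M)) m := rfl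
    rw [h, ← HVmap_ε, hm, map_zero]

theorem mem_kerε (m : M) : m ∈ kerε M U ↔ ε U m = 0 := Iff.rfl

/-- degree zero: if `f^c T^0(M) ⊆ im(M)` and `f^c` kills `T^1(M)`, with `A` complete along `f`, then
`T^0(M) → lim T^0(M/f^(n+1)M)` is bijective. -/
theorem bijective_zero_of_kills [IsAdicComplete (Ideal.span {f}) A] (c : ℕ)
    (ha : ∀ z : Formal2.HV A M 0 U, ∃ m : M,
      Formal2.HVmap A (f ^ c • (LinearMap.id : M →ₗ[A] M)) 0 U z = ε U m)
    (hk1 : ∀ x : Formal2.HV A M 1 U,
      Formal2.HVmap A (f ^ c • (LinearMap.id : M →ₗ[A] M)) 1 U x = 0) :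
    Formal2.FormalCohBijective A (Ideal.span {f}) M 0 U := by
  obtain ⟨c', hdiv⟩ := exists_div f M
  have hinj : ∀ d : Formal2.HV A M 0 U,
      (∀ n, Formal2.HVmap A (Formal2.quotPowπ A (Ideal.span {f}) M n) 0 U d = 0) → d = 0 := by
    intro d hd
    have h1 : ∀ n : ℕ, ∃ m : M, d = ε U (f ^ (n + 1) • m) := by
      intro n
      obtain ⟨p, hp⟩ := ex2 f M U 0 (n + c + c') d (hd (n + c + c'))
      obtain ⟨m, hm⟩ := H0_subtype f M U c c' hdiv ha n p
      exact ⟨m, hp.symm.trans hm⟩
    choose μ hμ using h1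
    have h2 : (kerε M U).mkQ (f ^ (0 + 1) • μ 0) ∈
        (⨅ k : ℕ, (Ideal.span {f}) ^ k • (⊤ : Submodule A (M ⧸ kerε M U))) := by
      rw [Submodule.mem_iInf]
      intro k
      cases k with
      | zero =>
        rw [pow_zero, Ideal.one_eq_top, Submodule.top_smul]
        exact Submodule.mem_top
      | succ k =>
        have h3 : (kerε M U).mkQ (f ^ (0 + 1) • μ 0) = (kerε M U).mkQ (f ^ (k + 1) • μ k) := by
          rw [Submodule.mkQ_apply, Submodule.mkQ_apply, Submodule.Quotient.eq, mem_kerε, map_sub,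
            ← hμ 0, ← hμ k, sub_self]
        rw [h3, map_smul]
        exact Submodule.smul_mem_smul
          (Ideal.pow_mem_pow (Ideal.mem_span_singleton_self f) _) Submodule.mem_top
    rw [Ideal.iInf_pow_smul_eq_bot_of_le_jacobson _ (IsAdicComplete.le_jacobson_bot _),
      Submodule.mem_bot, Submodule.mkQ_apply, Submodule.Quotient.mk_eq_zero, mem_kerε] at h2
    rw [hμ 0]
    exact h2
  refine ⟨fun x x' h => ?_, fun y hy => ?_⟩
  · rw [← sub_eq_zero]
    apply hinj
    intro n
    rw [map_sub, h n, sub_self]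
  · choose x hx using exists_lift f M U 0 c c' hdiv hk1 y hy
    have hb : ∀ (n m : ℕ) (_ : n ≤ m),
        Formal2.HVmap A (Formal2.quotPowπ A (Ideal.span {f}) M n) 0 U (x m) = y n := by
      intro n m h
      rw [← tr_bmap f M U 0 h, hx, compat_le f M U 0 y hy h]
    have hdiff : ∀ j : ℕ, ∃ m : M,
        x (j + 1 + c + c') - x (j + c + c') = ε U (f ^ (j + 1) • m) := by
      intro j
      have h0 : Formal2.HVmap A (Formal2.quotPowπ A (Ideal.span {f}) M (j + c + c')) 0 U
          (x (j + 1 + c + c') - x (j + c + c')) = 0 := by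
        rw [map_sub, hb _ _ (show j + c + c' ≤ j + 1 + c + c' by omega), hx, sub_self]
      obtain ⟨p, hp⟩ := ex2 f M U 0 (j + c + c') _ h0
      obtain ⟨m, hm⟩ := H0_subtype f M U c c' hdiv ha j p
      exact ⟨m, hp.symm.trans hm⟩
    choose ν hν using hdiff
    let s : ℕ → M := fun N => ∑ j ∈ Finset.range N, f ^ (j + 1) • ν j
    have hs_succ : ∀ N, s (N + 1) = s N + f ^ (N + 1) • ν N := fun N => Finset.sum_range_succ _ N
    have htel : ∀ N : ℕ, x (N + c + c') = x (0 + c + c') + ε U (s N) := by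
      intro N
      induction N with
      | zero =>
        have h0 : s 0 = 0 := Finset.sum_range_zero _
        rw [h0, map_zero, add_zero]
      | succ N ih =>
        have h1 := hν N
        rw [sub_eq_iff_eq_add] at h1
        rw [h1, ih, hs_succ, map_add]
        abel
    have hcomp : IsAdicComplete (Ideal.span {f}) M :=
      Groth.Agent.Lib.Helper14.CTPFlat.isAdicComplete_of_finite (Ideal.span {f}) M
    have hterm : ∀ (m n : ℕ), m ≤ n →
        f ^ (n + 1) • ν n ∈ ((Ideal.span {f}) ^ m • ⊤ : Submodule A M) := by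
      intro m n hmn
      exact Submodule.smul_mem_smul
        (Ideal.pow_le_pow_right (show m ≤ n + 1 by omega)
          (Ideal.pow_mem_pow (Ideal.mem_span_singleton_self f) _)) Submodule.mem_top
    have hcauchy : ∀ {m n : ℕ}, m ≤ n →
        s m ≡ s n [SMOD ((Ideal.span {f}) ^ m • ⊤ : Submodule A M)] := by
      intro m n hmn
      induction n, hmn using Nat.le_induction with
      | base => exact SModEq.refl _
      | succ n hmn ih =>
        rw [SModEq.sub_mem] at ih ⊢
        have h1 : s m - s (n + 1) = (s m - s n) - f ^ (n + 1) • ν n := by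
          rw [hs_succ]
          abel
        rw [h1]
        exact Submodule.sub_mem _ ih (hterm m n hmn)
    obtain ⟨L, hL⟩ := IsPrecomplete.prec hcomp.toIsPrecomplete hcauchy
    refine ⟨x (0 + c + c') + ε U L, fun k => ?_⟩
    have h1 : x (0 + c + c') + ε U L = x (k + 1 + c + c') + ε U (L - s (k + 1)) := by
      rw [htel (k + 1), map_sub]
      abel
    have h2 : Formal2.quotPowπ A (Ideal.span {f}) M k (L - s (k + 1)) = 0 := by
      rw [Submodule.mkQ_apply, Submodule.Quotient.mk_eq_zero]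
      have h3 := hL (k + 1)
      rw [SModEq.sub_mem] at h3
      rw [← neg_sub]
      exact Submodule.neg_mem _ h3
    rw [h1, map_add, hb k _ (by omega), HVmap_ε, h2, map_zero, add_zero]

end Main

end Groth.Agent.Lib.Helper8.FHV
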