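import Mathlib

/-!
# Nakayama and Krull at a prime, in elementwise form (helper8)
-/

set_option autoImplicit false
universe u

namespace Groth.Agent.Lib.Helper8.FHV

variable {A : Type u} [CommRing A] (𝔭 : Ideal A) [𝔭.IsPrime]

theorem locMk_eq_zero_iff {C : Type u} [AddCommGroup C] [Module A C] (c : C) (s : 𝔭.primeCompl) :
    (LocalizedModule.mk c s : LocalizedModule 𝔭.primeCompl C) = 0 ↔ ∃ u : A, u ∉ 𝔭 ∧ u • c = 0 := by
  rw [← LocalizedModule.zero_mk s, LocalizedModule.mk_eq]
  constructor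
  · rintro ⟨u, hu⟩
    refine ⟨u * s, (u * s).2, ?_⟩
    rw [smul_zero, smul_zero] at hu
    rw [mul_smul]
    exact hu
  · rintro ⟨u, hu, hum⟩
    refine ⟨⟨u, hu⟩, ?_⟩
    rw [smul_zero, smul_zero, smul_comm]
    change s • (u • c) = 0
    rw [hum, smul_zero]

/-- the class of `c/s` is `f^k` times the class of `c'/(ts)` when `t c = f^k c'`. -/
theorem locMk_eq_smul {C : Type u} [AddCommGroup C] [Module A C] (f : A) (k : ℕ) (c c' : C)
    (s : 𝔭.primeCompl) (t : A) (ht : t ∉ 𝔭) (h : t • c = f ^ k • c') :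
    (LocalizedModule.mk c s : LocalizedModule 𝔭.primeCompl C) =
      (algebraMap A (Localization.AtPrime 𝔭) f) ^ k •
        (LocalizedModule.mk c' (⟨t, ht⟩ * s) : LocalizedModule 𝔭.primeCompl C) := by
  rw [← map_pow, algebraMap_smul, LocalizedModule.smul'_mk, ← h, LocalizedModule.mk_eq]
  refine ⟨1, ?_⟩
  rw [one_smul, one_smul, Submonoid.smul_def, Submonoid.smul_def, Submonoid.coe_mul, mul_smul,
    smul_comm]

/-- **Nakayama at a prime**: if every element of the finite module `C` is, up to a unit at `𝔭`, a multiple of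
`f ∈ 𝔭`, then every element of `C` is killed by an element outside `𝔭`. -/
theorem exists_smul_eq_zero_of_nakayama (f : A) (hf : f ∈ 𝔭) (C : Type u) [AddCommGroup C]
    [Module A C] [Module.Finite A C]
    (h : ∀ c : C, ∃ t : A, t ∉ 𝔭 ∧ ∃ c' : C, t • c = f • c') (c : C) :
    ∃ t : A, t ∉ 𝔭 ∧ t • c = 0 := by
  have htop : (⊤ : Submodule (Localization.AtPrime 𝔭) (LocalizedModule 𝔭.primeCompl C)) ≤
      IsLocalRing.maximalIdeal (Localization.AtPrime 𝔭) • ⊤ := by
    intro z _
    induction z using LocalizedModule.induction_on with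
    | h c s =>
      obtain ⟨t, ht, c', hc'⟩ := h c
      have h1 := locMk_eq_smul 𝔭 f 1 c c' s t ht (by rw [pow_one]; exact hc')
      rw [h1, pow_one]
      exact Submodule.smul_mem_smul
        ((IsLocalization.AtPrime.to_map_mem_maximal_iff (Localization.AtPrime 𝔭) 𝔭 f).2 hf)
        Submodule.mem_top
  have hbot := Submodule.eq_bot_of_le_smul_of_le_jacobson_bot
    (IsLocalRing.maximalIdeal (Localization.AtPrime 𝔭))
    (⊤ : Submodule (Localization.AtPrime 𝔭) (LocalizedModule 𝔭.primeCompl C))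
    Module.Finite.fg_top htop (IsLocalRing.maximalIdeal_le_jacobson ⊥)
  have h2 : (LocalizedModule.mk c 1 : LocalizedModule 𝔭.primeCompl C) ∈
      (⊤ : Submodule (Localization.AtPrime 𝔭) (LocalizedModule 𝔭.primeCompl C)) := Submodule.mem_top
  rw [hbot, Submodule.mem_bot] at h2
  exact (locMk_eq_zero_iff 𝔭 c 1).1 h2

/-- **Krull at a prime**: an element of a finite module over a Noetherian ring which is, up to units at `𝔭`,
divisible by all powers of `f ∈ 𝔭` is killed by an element outside `𝔭`. -/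
theorem exists_smul_eq_zero_of_krull [IsNoetherianRing A] (f : A) (hf : f ∈ 𝔭) (M : Type u)
    [AddCommGroup M] [Module A M] [Module.Finite A M] (x : M)
    (h : ∀ n : ℕ, ∃ t : A, t ∉ 𝔭 ∧ ∃ m' : M, t • x = f ^ n • m') :
    ∃ t : A, t ∉ 𝔭 ∧ t • x = 0 := by
  have h1 : (LocalizedModule.mk x 1 : LocalizedModule 𝔭.primeCompl M) ∈
      (⨅ n : ℕ, IsLocalRing.maximalIdeal (Localization.AtPrime 𝔭) ^ n •
        (⊤ : Submodule (Localization.AtPrime 𝔭) (LocalizedModule 𝔭.primeCompl M))) := by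
    rw [Submodule.mem_iInf]
    intro n
    obtain ⟨t, ht, m', hm'⟩ := h n
    rw [locMk_eq_smul 𝔭 f n x m' 1 t ht hm']
    exact Submodule.smul_mem_smul (Ideal.pow_mem_pow
      ((IsLocalization.AtPrime.to_map_mem_maximal_iff (Localization.AtPrime 𝔭) 𝔭 f).2 hf) n)
      Submodule.mem_top
  rw [Ideal.iInf_pow_smul_eq_bot_of_isLocalRing _ (IsLocalRing.maximalIdeal.isMaximal _).ne_top,
    Submodule.mem_bot] at h1
  exact (locMk_eq_zero_iff 𝔭 x 1).1 h1

/-- finitely many elements: a single element outside `𝔭` killing a finite submodule. -/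
theorem exists_smul_eq_zero_forall {M : Type u} [AddCommGroup M] [Module A M] (N : Submodule A M)
    (hN : N.FG) (h : ∀ x ∈ N, ∃ t : A, t ∉ 𝔭 ∧ t • x = 0) :
    ∃ t : A, t ∉ 𝔭 ∧ ∀ x ∈ N, t • x = 0 := by
  classical
  obtain ⟨S, hS⟩ := hN
  choose! τ hτ using h
  refine ⟨∏ x ∈ S, τ x, ?_, ?_⟩
  · intro hmem
    obtain ⟨x, hx, hxp⟩ := (Ideal.IsPrime.prod_mem_iff).1 hmem
    exact (hτ x (hS ▸ Submodule.subset_span hx)).1 hxp
  · intro x hx
    rw [← hS] at hx
    refine Submodule.span_induction ?_ ?_ ?_ ?_ hx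
    · intro y hy
      rw [← Finset.mul_prod_erase S τ hy, mul_comm, mul_smul,
        (hτ y (hS ▸ Submodule.subset_span hy)).2, smul_zero]
    · exact smul_zero _
    · intro y z _ _ hy hz
      rw [smul_add, hy, hz, add_zero]
    · intro a y _ hy
      rw [smul_comm, hy, smul_zero]

end Groth.Agent.Lib.Helper8.FHV
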