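import Groth.Agent.Lib.Helper8FHVc

/-!
# The tower `M/f^(n+1)M` for an `M`-regular element `f` (helper8)

`fmap n : M/f^(n+1)M → M/f^(n+2)M` (multiplication by `f`), its injectivity and the exact sequence
`0 → M/f^(n+1)M → M/f^(n+2)M → M/fM → 0`.
-/

set_option autoImplicit false
universe u

namespace Groth.Agent.Lib.Helper8.FHV

variable {A : Type u} [CommRing A] (f : A) (M : Type u) [AddCommGroup M] [Module A M]

theorem smul_mem_P_succ (n : ℕ) (x : M) (hx : x ∈ P f M n) : f • x ∈ P f M (n + 1) := by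
  obtain ⟨m', rfl⟩ := (mem_P_iff f M n x).1 hx
  rw [mem_P_iff]
  exact ⟨m', by rw [smul_smul, ← pow_succ']⟩

/-- multiplication by `f`, as a map `M/f^(n+1)M → M/f^(n+2)M`. -/
def fmap (n : ℕ) : Formal2.quotPow A (Ideal.span {f}) M n →ₗ[A]
    Formal2.quotPow A (Ideal.span {f}) M (n + 1) :=
  Submodule.mapQ _ _ (f • (LinearMap.id : M →ₗ[A] M)) (fun x hx => smul_mem_P_succ f M n x hx)

theorem fmap_mk (n : ℕ) (x : M) :
    fmap f M n (Submodule.Quotient.mk x) = Submodule.Quotient.mk (f • x) := by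
  unfold fmap
  rw [Submodule.mapQ_apply, LinearMap.smul_apply, LinearMap.id_apply]

theorem tr_mk {n m : ℕ} (h : n ≤ m) (x : M) :
    tr f M h (Submodule.Quotient.mk x) = Submodule.Quotient.mk x := by
  unfold tr
  rw [Submodule.mapQ_apply, LinearMap.id_apply]

theorem fmap_injective (hreg : IsSMulRegular M f) (n : ℕ) : Function.Injective (fmap f M n) := by
  rw [injective_iff_map_eq_zero]
  intro z hz
  obtain ⟨x, rfl⟩ := Submodule.Quotient.mk_surjective _ z
  rw [fmap_mk, Submodule.Quotient.mk_eq_zero, mem_P_iff] at hz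
  obtain ⟨m', hm'⟩ := hz
  rw [Submodule.Quotient.mk_eq_zero, mem_P_iff]
  refine ⟨m', hreg ?_⟩
  change f • (f ^ (n + 1) • m') = f • x
  rw [smul_smul, ← pow_succ', hm']

theorem fmap_exact (n : ℕ) :
    Function.Exact (fmap f M n) (tr f M (Nat.zero_le (n + 1))) := by
  intro z
  obtain ⟨x, rfl⟩ := Submodule.Quotient.mk_surjective _ z
  rw [tr_mk, Submodule.Quotient.mk_eq_zero, mem_P_iff]
  constructor
  · rintro ⟨m', hm'⟩
    refine ⟨Submodule.Quotient.mk m', ?_⟩
    rw [fmap_mk, ← hm', zero_add, pow_one]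
  · rintro ⟨w, hw⟩
    obtain ⟨m', rfl⟩ := Submodule.Quotient.mk_surjective _ w
    rw [fmap_mk, Submodule.Quotient.eq, mem_P_iff] at hw
    obtain ⟨m'', hm''⟩ := hw
    refine ⟨m' - f ^ (n + 1) • m'', ?_⟩
    rw [zero_add, pow_one, smul_sub, smul_smul, ← pow_succ', hm'']
    abel

theorem tr_surjective {n m : ℕ} (h : n ≤ m) : Function.Surjective (tr f M h) := by
  intro z
  obtain ⟨x, rfl⟩ := Submodule.Quotient.mk_surjective _ z
  exact ⟨Submodule.Quotient.mk x, tr_mk f M h x⟩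

theorem tr_comp_fmap (n : ℕ) :
    tr f M (Nat.le_succ n) ∘ₗ fmap f M n =
      f • (LinearMap.id : Formal2.quotPow A (Ideal.span {f}) M n →ₗ[A] _) := by
  apply Submodule.linearMap_qext
  ext x
  rw [LinearMap.comp_apply, LinearMap.comp_apply, Submodule.mkQ_apply, fmap_mk, tr_mk,
    LinearMap.comp_apply, LinearMap.smul_apply, LinearMap.id_apply, Submodule.mkQ_apply,
    Submodule.Quotient.mk_smul]

theorem fmap_comp_tr (n : ℕ) :
    fmap f M n ∘ₗ tr f M (Nat.le_succ n) =
      f • (LinearMap.id : Formal2.quotPow A (Ideal.span {f}) M (n + 1) →ₗ[A] _) := by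
  apply Submodule.linearMap_qext
  ext x
  rw [LinearMap.comp_apply, LinearMap.comp_apply, Submodule.mkQ_apply, tr_mk, fmap_mk,
    LinearMap.comp_apply, LinearMap.smul_apply, LinearMap.id_apply, Submodule.mkQ_apply,
    Submodule.Quotient.mk_smul]

/-- elements of `(f)^(n+1)` kill `M/f^(n+1)M`. -/
theorem smul_quotPow_eq_zero (n : ℕ) (a : A) (ha : a ∈ (Ideal.span {f}) ^ (n + 1))
    (z : Formal2.quotPow A (Ideal.span {f}) M n) : a • z = 0 := by
  obtain ⟨x, rfl⟩ := Submodule.Quotient.mk_surjective _ z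
  rw [← Submodule.Quotient.mk_smul, Submodule.Quotient.mk_eq_zero]
  exact Submodule.smul_mem_smul ha Submodule.mem_top

end Groth.Agent.Lib.Helper8.FHV
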