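import Groth.Agent.Lib.Helper8FHVe

/-!
# Functoriality and left exactness of sections of `M~` over an open of `Spec A` (helper8)
-/

set_option autoImplicit false
universe u
open CategoryTheory AlgebraicGeometry TopologicalSpace

namespace Groth.Agent.Lib.Helper8.FHV

open Groth.Agent.Lib.Helper8.Tilde

variable {A : Type u} [CommRing A] (V : (Spec (CommRingCat.of A)).Opens)
variable {M N P : Type u} [AddCommGroup M] [Module A M] [AddCommGroup N] [Module A N]
  [AddCommGroup P] [Module A P]

theorem secMap_apply_mk (φ : M →ₗ[A] N) (s : Sec A M V) (x : V) (m : M)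
    (t : x.1.asIdeal.primeCompl) (h : s.1 x = LocalizedModule.mk m t) :
    (secMap V φ s).1 x = LocalizedModule.mk (φ m) t := by
  rw [secMap_apply, h]
  exact StructureSheaf.Localizations.comapFun_mk φ x.1 m t

theorem secMap_comp (φ : M →ₗ[A] N) (ψ : N →ₗ[A] P) :
    secMap V (ψ ∘ₗ φ) = secMap V ψ ∘ₗ secMap V φ := by
  ext s
  apply sec_ext
  intro x
  induction hz : s.1 x using LocalizedModule.induction_on with
  | h m t =>
    rw [LinearMap.comp_apply, secMap_apply_mk V (ψ ∘ₗ φ) s x m t hz,
      secMap_apply_mk V ψ (secMap V φ s) x (φ m) t (secMap_apply_mk V φ s x m t hz),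
      LinearMap.comp_apply]

theorem secMap_id : secMap V (LinearMap.id : M →ₗ[A] M) = LinearMap.id := by
  ext s
  apply sec_ext
  intro x
  induction hz : s.1 x using LocalizedModule.induction_on with
  | h m t =>
    have h1 := secMap_apply_mk V LinearMap.id s x m t hz
    rw [LinearMap.id_apply] at h1
    exact h1

theorem secMap_zero : secMap V (0 : M →ₗ[A] N) = 0 := by
  ext s
  apply sec_ext
  intro x
  induction hz : s.1 x using LocalizedModule.induction_on with
  | h m t =>
    rw [secMap_apply_mk V 0 s x m t hz, LinearMap.zero_apply, LocalizedModule.zero_mk]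
    rfl

theorem secMap_smul (a : A) (φ : M →ₗ[A] N) (s : Sec A M V) :
    secMap V (a • φ) s = a • secMap V φ s := by
  have h : a • φ = (a • (LinearMap.id : N →ₗ[A] N)) ∘ₗ φ := by
    ext m
    rfl
  rw [h, secMap_comp, LinearMap.comp_apply, secMap_smul_id]

theorem secMap_injective (φ : M →ₗ[A] N) (hφ : Function.Injective φ) :
    Function.Injective (secMap V φ) := by
  intro s s' h
  have h1 : Formal2.HVmap A φ 0 V ((σ V).symm s) = Formal2.HVmap A φ 0 V ((σ V).symm s') := by
    apply (σ V).injective
    rw [σ_HVmap, σ_HVmap, AddEquiv.apply_symm_apply, AddEquiv.apply_symm_apply, h]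
  have h2 := injective_f_zero V φ hφ h1
  exact (σ V).symm.injective h2

theorem secMap_exact (φ : M →ₗ[A] N) (ψ : N →ₗ[A] P) (hφ : Function.Injective φ)
    (hψ : Function.Surjective ψ) (hex : Function.Exact φ ψ) (s : Sec A N V)
    (hs : secMap V ψ s = 0) : ∃ s' : Sec A M V, secMap V φ s' = s := by
  have h1 : Formal2.HVmap A ψ 0 V ((σ V).symm s) = 0 := by
    apply (σ V).injective
    rw [σ_HVmap, AddEquiv.apply_symm_apply, hs, map_zero]
  obtain ⟨y, hy⟩ := exact₂ 0 V φ ψ hφ hψ hex _ h1
  refine ⟨σ V y, ?_⟩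
  rw [← σ_HVmap, hy, AddEquiv.apply_symm_apply]

end Groth.Agent.Lib.Helper8.FHV
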