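import Groth.Agent.Lib.Helper8FHVf
import Groth.Agent.Lib.Helper7ComplKaehler

/-!
# The limit of the sections of `(M/f^(n+1)M)~` over an open (helper8)

`D n = Γ(U, (M/f^(n+1)M)~)`, `limD = lim_n D n` as a submodule of the product; for an `M`-regular `f`:
`mem_smul_of_zero` (an element of the limit whose `0`-th component vanishes is divisible by `f`), `limD` is
`f`-adically separated, and `limD` is a finite module when `D 0` is (complete Nakayama).
-/

set_option autoImplicit false
universe u
open CategoryTheory AlgebraicGeometry TopologicalSpace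

namespace Groth.Agent.Lib.Helper8.FHV

open Groth.Agent.Lib.Helper8.Tilde

variable {A : Type u} [CommRing A] (f : A) (M : Type u) [AddCommGroup M] [Module A M]
  (U : (Spec (CommRingCat.of A)).Opens)

/-- sections of `(M/f^(n+1)M)~` over `U`. -/
abbrev D (n : ℕ) : Type u := Sec A (Formal2.quotPow A (Ideal.span {f}) M n) U

/-- the transition maps. -/
noncomputable def tD {n m : ℕ} (h : n ≤ m) : D f M U m →ₗ[A] D f M U n := secMap U (tr f M h)

/-- the maps induced by multiplication by `f`. -/
noncomputable def fD (n : ℕ) : D f M U n →ₗ[A] D f M U (n + 1) := secMap U (fmap f M n)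

theorem tD_comp {n m k : ℕ} (h1 : n ≤ m) (h2 : m ≤ k) (s : D f M U k) :
    tD f M U h1 (tD f M U h2 s) = tD f M U (h1.trans h2) s := by
  unfold tD
  rw [← LinearMap.comp_apply, ← secMap_comp, tr_comp]

theorem tD_refl (n : ℕ) (s : D f M U n) : tD f M U (le_refl n) s = s := by
  unfold tD
  rw [tr_refl, secMap_id, LinearMap.id_apply]

theorem tD_fD (n : ℕ) (s : D f M U n) : tD f M U (Nat.le_succ n) (fD f M U n s) = f • s := by
  unfold tD fD
  rw [← LinearMap.comp_apply, ← secMap_comp, tr_comp_fmap, secMap_smul_id]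

theorem fD_tD (n : ℕ) (s : D f M U (n + 1)) : fD f M U n (tD f M U (Nat.le_succ n) s) = f • s := by
  unfold tD fD
  rw [← LinearMap.comp_apply, ← secMap_comp, fmap_comp_tr, secMap_smul_id]

theorem fD_injective (hreg : IsSMulRegular M f) (n : ℕ) : Function.Injective (fD f M U n) :=
  secMap_injective U _ (fmap_injective f M hreg n)

theorem fD_exact (hreg : IsSMulRegular M f) (n : ℕ) (s : D f M U (n + 1))
    (hs : tD f M U (Nat.zero_le (n + 1)) s = 0) : ∃ w : D f M U n, fD f M U n w = s :=
  secMap_exact U _ _ (fmap_injective f M hreg n) (tr_surjective f M _) (fmap_exact f M n) s hs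

theorem smul_D_eq_zero (n : ℕ) (a : A) (ha : a ∈ (Ideal.span {f}) ^ (n + 1)) (s : D f M U n) :
    a • s = 0 := by
  have h : a • (LinearMap.id : Formal2.quotPow A (Ideal.span {f}) M n →ₗ[A] _) = 0 := by
    apply LinearMap.ext
    intro z
    rw [LinearMap.smul_apply, LinearMap.id_apply, LinearMap.zero_apply]
    exact smul_quotPow_eq_zero f M n a ha z
  rw [← secMap_smul_id, h, secMap_zero, LinearMap.zero_apply]

/-- the limit of the `D n`. -/
def limD : Submodule A (∀ n, D f M U n) where
  carrier := {y | ∀ n, tD f M U (Nat.le_succ n) (y (n + 1)) = y n}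
  add_mem' := by
    intro y z hy hz n
    rw [Pi.add_apply, Pi.add_apply, map_add, hy n, hz n]
  zero_mem' := by
    intro n
    rw [Pi.zero_apply, Pi.zero_apply, map_zero]
  smul_mem' := by
    intro a y hy n
    rw [Pi.smul_apply, Pi.smul_apply, map_smul, hy n]

theorem mem_limD (y : ∀ n, D f M U n) :
    y ∈ limD f M U ↔ ∀ n, tD f M U (Nat.le_succ n) (y (n + 1)) = y n := Iff.rfl

theorem limD_compat_add (y : ∀ n, D f M U n) (hy : y ∈ limD f M U) (n : ℕ) :
    ∀ k : ℕ, tD f M U (Nat.le_add_right n k) (y (n + k)) = y n := by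
  intro k
  induction k with
  | zero => exact tD_refl f M U n _
  | succ k ih =>
    rw [← tD_comp f M U (Nat.le_add_right n k) (Nat.le_succ (n + k))]
    exact (congrArg (tD f M U (Nat.le_add_right n k)) (hy (n + k))).trans ih

theorem limD_compat (y : ∀ n, D f M U n) (hy : y ∈ limD f M U) {n m : ℕ} (h : n ≤ m) :
    tD f M U h (y m) = y n := by
  obtain ⟨k, rfl⟩ := Nat.exists_eq_add_of_le h
  exact limD_compat_add f M U y hy n k

/-- evaluation at `n`. -/
noncomputable def evn (n : ℕ) : limD f M U →ₗ[A] D f M U n :=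
  (LinearMap.proj n) ∘ₗ (limD f M U).subtype

theorem evn_apply (n : ℕ) (y : limD f M U) : evn f M U n y = (y : ∀ n, D f M U n) n := rfl

/-- the canonical map `M → lim_n D n`. -/
noncomputable def φlim : M →ₗ[A] limD f M U :=
  LinearMap.codRestrict (limD f M U)
    (LinearMap.pi fun n => (StructureSheaf.toOpenₗ A _ U) ∘ₗ
      (Formal2.quotPowπ A (Ideal.span {f}) M n))
    (fun m n => by
      rw [LinearMap.pi_apply, LinearMap.pi_apply, LinearMap.comp_apply, LinearMap.comp_apply]
      unfold tD
      rw [secMap_toOpen, Submodule.mkQ_apply, Submodule.mkQ_apply, tr_mk])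

theorem evn_φlim (n : ℕ) (m : M) :
    evn f M U n (φlim f M U m) =
      StructureSheaf.toOpenₗ A _ U (Formal2.quotPowπ A (Ideal.span {f}) M n m) := rfl

/-- an element of the limit whose `0`-th component vanishes is divisible by `f`. -/
theorem mem_smul_of_zero (hreg : IsSMulRegular M f) (y : limD f M U)
    (h0 : evn f M U 0 y = 0) : ∃ w : limD f M U, f • w = y := by
  have h1 : ∀ n : ℕ, ∃ w : D f M U n, fD f M U n w = (y : ∀ n, D f M U n) (n + 1) := by
    intro n
    apply fD_exact f M U hreg n
    rw [limD_compat f M U y y.2 (Nat.zero_le (n + 1))]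
    exact h0
  choose w hw using h1
  have h2 : ∀ n, f • w (n + 1) = (y : ∀ n, D f M U n) (n + 1) := by
    intro n
    rw [← y.2 (n + 1), ← hw (n + 1), tD_fD]
  have hmem : w ∈ limD f M U := by
    intro n
    apply fD_injective f M U hreg n
    rw [fD_tD, hw, h2]
  refine ⟨⟨w, hmem⟩, ?_⟩
  apply Subtype.ext
  funext n
  change f • w n = (y : ∀ n, D f M U n) n
  rw [← y.2 n, ← hw n, tD_fD]

theorem isHausdorff_limD : IsHausdorff (Ideal.span {f}) (limD f M U) := by
  refine ⟨fun y hy => ?_⟩
  apply Subtype.ext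
  funext n
  have h1 := hy (n + 1)
  rw [SModEq.sub_mem, sub_zero] at h1
  have h2 : (Ideal.span {f}) ^ (n + 1) • (⊤ : Submodule A (limD f M U)) ≤
      LinearMap.ker (evn f M U n) := by
    rw [Submodule.smul_le]
    intro a ha z _
    rw [LinearMap.mem_ker, map_smul]
    exact smul_D_eq_zero f M U n a ha _
  exact h2 h1

theorem finite_limD [IsNoetherianRing A] [IsPrecomplete (Ideal.span {f}) A]
    (hreg : IsSMulRegular M f) (h0 : Module.Finite A (D f M U 0)) :
    Module.Finite A (limD f M U) := by
  have hN : IsNoetherian A (D f M U 0) := isNoetherian_of_isNoetherianRing_of_finite A _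
  have hfg : (LinearMap.range (evn f M U 0)).FG := IsNoetherian.noetherian _
  obtain ⟨r, s, hs⟩ := Submodule.fg_iff_exists_fin_generating_family.1 hfg
  have hl : ∀ i : Fin r, ∃ l : limD f M U, evn f M U 0 l = s i := by
    intro i
    have h1 : s i ∈ LinearMap.range (evn f M U 0) := by
      rw [← hs]
      exact Submodule.subset_span ⟨i, rfl⟩
    exact h1
  choose l hl using hl
  have hH := isHausdorff_limD f M U
  refine Groth.Agent.Lib.Helper7.ComplKaehler.finite_of_isHausdorff_of_finite_quotient
    (Ideal.span {f}) l (fun y => ?_)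
  have h1 : evn f M U 0 y ∈ Submodule.span A (Set.range s) := by
    rw [hs]
    exact ⟨y, rfl⟩
  obtain ⟨c, hc⟩ := (Submodule.mem_span_range_iff_exists_fun A).1 h1
  refine ⟨c, ?_⟩
  have h2 : evn f M U 0 (y - ∑ i, c i • l i) = 0 := by
    rw [map_sub, map_sum, ← hc, sub_eq_zero]
    refine Finset.sum_congr rfl (fun i _ => ?_)
    rw [map_smul, hl]
  obtain ⟨w, hw⟩ := mem_smul_of_zero f M U hreg _ h2
  rw [← hw]
  exact Submodule.smul_mem_smul (Ideal.mem_span_singleton_self f) Submodule.mem_top

end Groth.Agent.Lib.Helper8.FHV
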