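import Groth.Agent.Lib.Helper8FHVg
import Groth.Agent.Lib.Helper8FHVb
import Groth.Agent.Lib.Helper8FHVd

/-!
# `M → lim_n Γ(U, (M/f^(n+1)M)~)` is an isomorphism near `U ∩ V(f)` (helper8)
-/

set_option autoImplicit false
universe u
open CategoryTheory AlgebraicGeometry TopologicalSpace

namespace Groth.Agent.Lib.Helper8.FHV

open Groth.Agent.Lib.Helper8.Tilde Groth.Agent.Lib.Helper28.Deligne Groth.Agent.Lib.Helper8.DT
  Groth.Agent.Lib.Helper8.LC LocCoh

section Res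

variable {A : Type u} [CommRing A] {N : Type u} [AddCommGroup N] [Module A N]

/-- restriction of sections. -/
noncomputable def secRes {V V' : (Spec (CommRingCat.of A)).Opens} (h : V' ≤ V) (s : Sec A N V) : Sec A N V' :=
  ((structureSheafInType A N).obj.map (homOfLE h).op) s

theorem secRes_apply {V V' : (Spec (CommRingCat.of A)).Opens} (h : V' ≤ V) (s : Sec A N V)
    (y : V') : (secRes h s).1 y = s.1 ⟨y.1, h y.2⟩ := rfl

theorem secRes_smul {V V' : (Spec (CommRingCat.of A)).Opens} (h : V' ≤ V) (c : A) (s : Sec A N V) :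
    secRes h (c • s) = c • secRes h s := by
  apply sec_ext
  intro y
  rfl

theorem secRes_toOpen {V V' : (Spec (CommRingCat.of A)).Opens} (h : V' ≤ V) (m : N) :
    secRes h (StructureSheaf.toOpenₗ A N V m) = StructureSheaf.toOpenₗ A N V' m := by
  apply sec_ext
  intro y
  rfl

theorem secRes_secMap {N' : Type u} [AddCommGroup N'] [Module A N']
    {V V' : (Spec (CommRingCat.of A)).Opens} (h : V' ≤ V) (φ : N →ₗ[A] N') (s : Sec A N V) :
    secRes h (secMap V φ s) = secMap V' φ (secRes h s) := by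
  apply sec_ext
  intro y
  rfl

theorem addEquiv₀_mk₀_comp {C : Type*} [Category C] [Abelian C] [HasExt C] {X Y F : C} (g : Y ⟶ X)
    (x : Abelian.Ext X F 0) :
    Abelian.Ext.addEquiv₀ ((Abelian.Ext.mk₀ g).comp x (zero_add 0)) = g ≫ Abelian.Ext.addEquiv₀ x := by
  apply (Abelian.Ext.mk₀_bijective _ F).injective
  rw [Abelian.Ext.mk₀_addEquiv₀_apply, ← Abelian.Ext.mk₀_comp_mk₀, Abelian.Ext.mk₀_addEquiv₀_apply]

theorem σ_res {V V' : (Spec (CommRingCat.of A)).Opens} (h : V' ≤ V) (x : Formal2.HV A N 0 V) :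
    σ V' (Formal2.HVres A N 0 h x) = secRes h (σ V x) := by
  have h1 : Formal2.HVres A N 0 h x =
      (Abelian.Ext.mk₀ (CohCx.freeSheafMap (Opens.grothendieckTopology _) (homOfLE h))).comp x
        (zero_add 0) := rfl
  have h2 : σ V' (Formal2.HVres A N 0 h x) =
      CohFree.evalGen (Opens.grothendieckTopology _) V' (sh A N)
        (Abelian.Ext.addEquiv₀ (Formal2.HVres A N 0 h x)) := rfl
  rw [h2, h1, addEquiv₀_mk₀_comp, CohFree.evalGen_freeSheafMap_comp]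
  rfl

end Res

section Fin

variable {A : Type u} [CommRing A] [IsNoetherianRing A] (𝔞 : Ideal A)

/-- sections over the punctured open are finite when `N` and `H^1_𝔞(N)` are. -/
theorem finite_sec_of_finite_H1 (N : Type u) [AddCommGroup N] [Module A N] [Module.Finite A N]
    (h : Module.Finite A (LocCoh.H 𝔞 1 N)) :
    Module.Finite A (Sec A N (LocCoh.puncturedOpen A 𝔞)) := by
  rw [(isIT_toOpen (M := N) 𝔞).finite_iff (isIT_toDT 𝔞 N)]
  obtain ⟨e⟩ := nonempty_coker_toDT_equiv 𝔞 N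
  have h2 : Module.Finite A (DT 𝔞 N ⧸ LinearMap.range (toDT 𝔞 N)) := Module.Finite.equiv e.symm
  have h3 : Module.Finite A (LinearMap.range (toDT 𝔞 N)) := Module.Finite.range _
  exact Module.Finite.of_submodule_quotient (LinearMap.range (toDT 𝔞 N))

theorem finite_H1_of_linearEquiv {N N' : Type u} [AddCommGroup N] [Module A N] [AddCommGroup N']
    [Module A N'] (e : N ≃ₗ[A] N') (h : Module.Finite A (LocCoh.H 𝔞 1 N)) :
    Module.Finite A (LocCoh.H 𝔞 1 N') :=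
  Module.Finite.equiv ((localCohomology 𝔞 1).mapIso e.toModuleIso).toLinearEquiv

end Fin

section Loc

variable {A : Type u} [CommRing A] [IsNoetherianRing A] (𝔞 : Ideal A) (f : A) (M : Type u)
  [AddCommGroup M] [Module A M] [Module.Finite A M]

theorem exists_pow_notMem (𝔭 : Ideal A) [𝔭.IsPrime] (h𝔭 : ¬ 𝔞 ≤ 𝔭) (k : ℕ) :
    ∃ c : A, c ∈ 𝔞 ^ k ∧ c ∉ 𝔭 := by
  obtain ⟨a, ha, hap⟩ := Set.not_subset.1 h𝔭
  exact ⟨a ^ k, Ideal.pow_mem_pow ha k, fun h => hap (Ideal.IsPrime.mem_of_pow_mem inferInstance k h)⟩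

/-- up to a unit at `𝔭` and modulo `f`, every element of the limit comes from `M`. -/
theorem exists_smul_sub_eq (hreg : IsSMulRegular M f) (𝔭 : Ideal A) [𝔭.IsPrime] (h𝔭 : ¬ 𝔞 ≤ 𝔭)
    (y : limD f M (LocCoh.puncturedOpen A 𝔞)) :
    ∃ t : A, t ∉ 𝔭 ∧ ∃ (m : M) (w : limD f M (LocCoh.puncturedOpen A 𝔞)),
      t • y - φlim f M (LocCoh.puncturedOpen A 𝔞) m = f • w := by
  obtain ⟨k, hk⟩ := exists_pow_smul_mem_range 𝔞 (evn f M (LocCoh.puncturedOpen A 𝔞) 0 y)
  obtain ⟨c, hc, hcp⟩ := exists_pow_notMem 𝔞 𝔭 h𝔭 k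
  obtain ⟨z, hz⟩ := hk c hc
  obtain ⟨m, rfl⟩ := Submodule.Quotient.mk_surjective _ z
  have h0 : evn f M (LocCoh.puncturedOpen A 𝔞) 0 (c • y - φlim f M _ m) = 0 := by
    rw [map_sub, map_smul, evn_φlim, ← hz, Submodule.mkQ_apply, sub_self]
  obtain ⟨w, hw⟩ := mem_smul_of_zero f M _ hreg _ h0
  exact ⟨c, hcp, m, w, hw.symm⟩

/-- the cokernel of `M → lim` vanishes at the primes of `U ∩ V(f)`. -/
theorem exists_smul_mem_range_φlim (hreg : IsSMulRegular M f)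
    (hfin : Module.Finite A (limD f M (LocCoh.puncturedOpen A 𝔞)))
    (𝔭 : Ideal A) [𝔭.IsPrime] (h𝔭 : ¬ 𝔞 ≤ 𝔭) (hf : f ∈ 𝔭)
    (y : limD f M (LocCoh.puncturedOpen A 𝔞)) :
    ∃ t : A, t ∉ 𝔭 ∧ t • y ∈ LinearMap.range (φlim f M (LocCoh.puncturedOpen A 𝔞)) := by
  have hC : Module.Finite A (limD f M (LocCoh.puncturedOpen A 𝔞) ⧸
      LinearMap.range (φlim f M (LocCoh.puncturedOpen A 𝔞))) := Module.Finite.quotient A _
  obtain ⟨t, ht, hty⟩ := exists_smul_eq_zero_of_nakayama 𝔭 f hf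
    (limD f M (LocCoh.puncturedOpen A 𝔞) ⧸ LinearMap.range (φlim f M (LocCoh.puncturedOpen A 𝔞)))
    (fun c => by
      obtain ⟨y', rfl⟩ := Submodule.Quotient.mk_surjective _ c
      obtain ⟨t, ht, m, w, hw⟩ := exists_smul_sub_eq 𝔞 f M hreg 𝔭 h𝔭 y'
      refine ⟨t, ht, Submodule.Quotient.mk w, ?_⟩
      rw [← Submodule.Quotient.mk_smul, ← Submodule.Quotient.mk_smul, ← hw, Submodule.Quotient.eq,
        sub_sub_cancel]
      exact ⟨m, rfl⟩)
    (Submodule.Quotient.mk y)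
  refine ⟨t, ht, ?_⟩
  rw [← Submodule.Quotient.mk_smul, Submodule.Quotient.mk_eq_zero] at hty
  exact hty

/-- the kernel of `M → lim` vanishes at the primes of `U ∩ V(f)`. -/
theorem exists_smul_ker_φlim_eq_zero (𝔭 : Ideal A) [𝔭.IsPrime] (h𝔭 : ¬ 𝔞 ≤ 𝔭) (hf : f ∈ 𝔭) :
    ∃ t : A, t ∉ 𝔭 ∧ ∀ x ∈ LinearMap.ker (φlim f M (LocCoh.puncturedOpen A 𝔞)), t • x = 0 := by
  have hN : IsNoetherian A M := isNoetherian_of_isNoetherianRing_of_finite A M
  refine exists_smul_eq_zero_forall 𝔭 _ (IsNoetherian.noetherian _) (fun x hx => ?_)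
  refine exists_smul_eq_zero_of_krull 𝔭 f hf M x (fun n => ?_)
  cases n with
  | zero => exact ⟨1, fun h => Ideal.IsPrime.ne_top inferInstance ((Ideal.eq_top_iff_one 𝔭).2 h), x,
      by rw [one_smul, pow_zero, one_smul]⟩
  | succ n =>
    have h1 : evn f M (LocCoh.puncturedOpen A 𝔞) n (φlim f M _ x) = 0 := by
      rw [LinearMap.mem_ker] at hx
      rw [hx, map_zero]
    rw [evn_φlim, toOpenₗ_eq_zero_iff 𝔞 (IsNoetherian.noetherian 𝔞)] at h1
    obtain ⟨k, hk⟩ := h1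
    obtain ⟨c, hc, hcp⟩ := exists_pow_notMem 𝔞 𝔭 h𝔭 k
    have h2 := hk c hc
    rw [Submodule.mkQ_apply, ← Submodule.Quotient.mk_smul, Submodule.Quotient.mk_eq_zero,
      mem_P_iff] at h2
    obtain ⟨m', hm'⟩ := h2
    exact ⟨c, hcp, m', hm'.symm⟩

end Loc

end Groth.Agent.Lib.Helper8.FHV
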