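import Groth.Agent.Lib.Helper8FHVh

/-!
# Formal sections along a principal ideal, colimit form: the statements on sections (helper8)
-/

set_option autoImplicit false
universe u
open CategoryTheory AlgebraicGeometry TopologicalSpace

namespace Groth.Agent.Lib.Helper8.FHV

open Groth.Agent.Lib.Helper8.Tilde Groth.Agent.Lib.Helper28.Deligne Groth.Agent.Lib.Helper8.DT
  Groth.Agent.Lib.Helper8.LC LocCoh

variable {A : Type u} [CommRing A] [IsNoetherianRing A] (𝔞 : Ideal A) (f : A) (M : Type u)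
  [AddCommGroup M] [Module A M] [Module.Finite A M]

theorem puncturedOpen_mono {𝔟 𝔠 : Ideal A} (h : 𝔟 ≤ 𝔠) :
    LocCoh.puncturedOpen A 𝔟 ≤ LocCoh.puncturedOpen A 𝔠 := by
  intro p hp
  obtain ⟨b, hb, hbp⟩ := (mem_puncturedOpen (x := p)).1 hp
  exact (mem_puncturedOpen (x := p)).2 ⟨b, h hb, hbp⟩

/-- every compatible family of sections of the `(M/f^(n+1)M)~` over `U` comes from a section of `M~` over an
open of `U` containing `U ∩ V(f)`. -/
theorem exists_section_of_compat [IsAdicComplete (Ideal.span {f}) A] (hreg : IsSMulRegular M f)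
    (hfin : Module.Finite A (LocCoh.H 𝔞 1 (M ⧸ (Ideal.span {f} • (⊤ : Submodule A M)))))
    (y : limD f M (LocCoh.puncturedOpen A 𝔞)) :
    ∃ (V : (Spec (CommRingCat.of A)).Opens)
      (hV : Formal2.Admissible A (Ideal.span {f}) (LocCoh.puncturedOpen A 𝔞) V) (x : Sec A M V),
      ∀ n, secRes hV.1 (evn f M (LocCoh.puncturedOpen A 𝔞) n y) =
        secMap V (Formal2.quotPowπ A (Ideal.span {f}) M n) x := by
  have heq : Ideal.span {f} • (⊤ : Submodule A M) = (Ideal.span {f}) ^ (0 + 1) • ⊤ := by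
    rw [zero_add, pow_one]
  have hD0 : Module.Finite A (D f M (LocCoh.puncturedOpen A 𝔞) 0) :=
    finite_sec_of_finite_H1 𝔞 _
      (finite_H1_of_linearEquiv 𝔞 (Submodule.quotEquivOfEq _ _ heq) hfin)
  have hlim : Module.Finite A (limD f M (LocCoh.puncturedOpen A 𝔞)) :=
    finite_limD f M _ hreg hD0
  set φ := φlim f M (LocCoh.puncturedOpen A 𝔞) with hφ
  let J₁ : Ideal A := (LinearMap.ker φ).annihilator
  let J₂ : Ideal A := (LinearMap.range φ).colon {y}
  let 𝔟 : Ideal A := 𝔞 * J₁ * J₂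
  have h𝔟𝔞 : 𝔟 ≤ 𝔞 := (Ideal.mul_le_left).trans Ideal.mul_le_left
  have h𝔟1 : 𝔟 ≤ J₁ := (Ideal.mul_le_left).trans Ideal.mul_le_right
  have h𝔟2 : 𝔟 ≤ J₂ := Ideal.mul_le_right
  have hV1 : LocCoh.puncturedOpen A 𝔟 ≤ LocCoh.puncturedOpen A 𝔞 := puncturedOpen_mono h𝔟𝔞
  have hV : Formal2.Admissible A (Ideal.span {f}) (LocCoh.puncturedOpen A 𝔞)
      (LocCoh.puncturedOpen A 𝔟) := by
    refine ⟨hV1, fun p hpU hpf => ?_⟩
    have hfp : f ∈ (show PrimeSpectrum A from p).asIdeal :=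
      hpf (Ideal.mem_span_singleton_self f)
    obtain ⟨a, ha, hap⟩ := (mem_puncturedOpen (x := p)).1 hpU
    have h𝔭 : ¬ 𝔞 ≤ (show PrimeSpectrum A from p).asIdeal := fun h => hap (h ha)
    obtain ⟨t₁, ht₁, hk₁⟩ := exists_smul_ker_φlim_eq_zero 𝔞 f M
      (show PrimeSpectrum A from p).asIdeal h𝔭 hfp
    obtain ⟨t₂, ht₂, hk₂⟩ := exists_smul_mem_range_φlim 𝔞 f M hreg hlim
      (show PrimeSpectrum A from p).asIdeal h𝔭 hfp y
    refine (mem_puncturedOpen (x := p)).2 ⟨a * t₁ * t₂, ?_, ?_⟩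
    · refine Ideal.mul_mem_mul (Ideal.mul_mem_mul ha ?_) ?_
      · exact Submodule.mem_annihilator.2 hk₁
      · exact Submodule.mem_colon_singleton.2 hk₂
    · intro hmem
      rcases (Ideal.IsPrime.mem_or_mem inferInstance hmem) with h | h
      · rcases (Ideal.IsPrime.mem_or_mem inferInstance h) with h' | h'
        · exact hap h'
        · exact ht₁ h'
      · exact ht₂ h
  have hK : LinearMap.ker φ ≤
      LinearMap.ker (StructureSheaf.toOpenₗ A M (LocCoh.puncturedOpen A 𝔟)) := by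
    intro k hk
    rw [LinearMap.mem_ker, toOpenₗ_eq_zero_iff 𝔟 (IsNoetherian.noetherian 𝔟)]
    refine ⟨1, fun c hc => ?_⟩
    rw [pow_one] at hc
    exact Submodule.mem_annihilator.1 (h𝔟1 hc) k hk
  let ρ : LinearMap.range φ →ₗ[A] Sec A M (LocCoh.puncturedOpen A 𝔟) :=
    (Submodule.liftQ (LinearMap.ker φ) (StructureSheaf.toOpenₗ A M (LocCoh.puncturedOpen A 𝔟)) hK) ∘ₗ
      (φ.quotKerEquivRange).symm.toLinearMap
  have hρ : ∀ m (hm : φ m ∈ LinearMap.range φ),
      ρ ⟨φ m, hm⟩ = StructureSheaf.toOpenₗ A M (LocCoh.puncturedOpen A 𝔟) m := by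
    intro m hm
    have : (φ.quotKerEquivRange).symm ⟨φ m, hm⟩ = Submodule.Quotient.mk m := by
      rw [LinearEquiv.symm_apply_eq]
      exact Subtype.ext (by rw [LinearMap.quotKerEquivRange_apply_mk])
    simp only [ρ, LinearMap.comp_apply, LinearEquiv.coe_coe, this, Submodule.liftQ_apply]
  have hmem2 : ∀ c ∈ 𝔟, c • y ∈ LinearMap.range φ := fun c hc =>
    Submodule.mem_colon_singleton.1 (h𝔟2 hc)
  let ψ : ↥(𝔟 ^ 1) →ₗ[A] LinearMap.range φ :=
    LinearMap.codRestrict (LinearMap.range φ)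
      ((LinearMap.toSpanSingleton A _ y) ∘ₗ (Submodule.subtype (𝔟 ^ 1)))
      (fun c => by
        simp only [LinearMap.comp_apply, Submodule.subtype_apply,
          LinearMap.toSpanSingleton_apply]
        exact hmem2 c.1 (Ideal.pow_le_self one_ne_zero c.2))
  obtain ⟨x, hx⟩ := (isIT_toOpen (M := M) 𝔟).closed 1 (ρ ∘ₗ ψ)
  have key : ∀ c ∈ 𝔟, ∀ m : M, φ m = c • y →
      StructureSheaf.toOpenₗ A M (LocCoh.puncturedOpen A 𝔟) m = c • x := by
    intro c hc m hm
    have hc1 : c ∈ 𝔟 ^ 1 := by rwa [pow_one]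
    have h1 := hx ⟨c, hc1⟩
    have h2 : ψ ⟨c, hc1⟩ = ⟨φ m, ⟨m, rfl⟩⟩ := by
      apply Subtype.ext
      simp only [ψ, LinearMap.codRestrict_apply, LinearMap.comp_apply, Submodule.subtype_apply,
        LinearMap.toSpanSingleton_apply]
      exact hm.symm
    rw [LinearMap.comp_apply, h2, hρ] at h1
    exact h1
  refine ⟨LocCoh.puncturedOpen A 𝔟, hV, x, fun n => ?_⟩
  rw [← sub_eq_zero]
  apply (isIT_toOpen (M := Formal2.quotPow A (Ideal.span {f}) M n) 𝔟).tf
  refine ⟨1, fun c hc => ?_⟩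
  rw [pow_one] at hc
  obtain ⟨m, hm⟩ := hmem2 c hc
  rw [smul_sub, ← secRes_smul, ← map_smul, ← map_smul, ← key c hc m hm, ← hm, hφ, evn_φlim,
    secRes_toOpen, secMap_toOpen, sub_self]

theorem exists_eq_puncturedOpen (V : (Spec (CommRingCat.of A)).Opens) :
    ∃ 𝔠 : Ideal A, V = LocCoh.puncturedOpen A 𝔠 := by
  refine ⟨PrimeSpectrum.vanishingIdeal ((show Set (PrimeSpectrum A) from V.1)ᶜ), ?_⟩
  apply Opens.ext
  show (show Set (PrimeSpectrum A) from V.1) = (PrimeSpectrum.zeroLocus _)ᶜ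
  have hcl : IsClosed ((show Set (PrimeSpectrum A) from V.1)ᶜ) := V.2.isClosed_compl
  rw [PrimeSpectrum.zeroLocus_vanishingIdeal_eq_closure, hcl.closure_eq, compl_compl]

/-- a section of `M~` over an admissible open whose images in all `(M/f^(n+1)M)~` vanish dies on a smaller
admissible open. -/
theorem exists_res_eq_zero (V : (Spec (CommRingCat.of A)).Opens)
    (hV : Formal2.Admissible A (Ideal.span {f}) (LocCoh.puncturedOpen A 𝔞) V) (s : Sec A M V)
    (hs : ∀ n, secMap V (Formal2.quotPowπ A (Ideal.span {f}) M n) s = 0) :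
    ∃ (V' : (Spec (CommRingCat.of A)).Opens)
      (h : Formal2.Admissible A (Ideal.span {f}) (LocCoh.puncturedOpen A 𝔞) V' ∧ V' ≤ V),
      secRes h.2 s = 0 := by
  obtain ⟨𝔠, rfl⟩ := exists_eq_puncturedOpen V
  obtain ⟨k, hk⟩ := exists_pow_smul_mem_range 𝔠 s
  have hNoeth : IsNoetherian A M := isNoetherian_of_isNoetherianRing_of_finite A M
  let N : Submodule A M :=
    Submodule.comap (StructureSheaf.toOpenₗ A M (LocCoh.puncturedOpen A 𝔠)) (Submodule.span A {s})
  let J₃ : Ideal A := N.annihilator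
  let 𝔡 : Ideal A := 𝔠 * J₃
  have h𝔡𝔠 : 𝔡 ≤ 𝔠 := Ideal.mul_le_left
  have h𝔡J : 𝔡 ≤ J₃ := Ideal.mul_le_right
  have hV'V : LocCoh.puncturedOpen A 𝔡 ≤ LocCoh.puncturedOpen A 𝔠 := puncturedOpen_mono h𝔡𝔠
  have hadm : Formal2.Admissible A (Ideal.span {f}) (LocCoh.puncturedOpen A 𝔞)
      (LocCoh.puncturedOpen A 𝔡) := by
    refine ⟨hV'V.trans hV.1, fun p hpU hpf => ?_⟩
    have hfp : f ∈ (show PrimeSpectrum A from p).asIdeal :=
      hpf (Ideal.mem_span_singleton_self f)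
    obtain ⟨c, hc, hcp⟩ := (mem_puncturedOpen (x := p)).1 (hV.2 p hpU hpf)
    have h𝔭 : ¬ 𝔠 ≤ (show PrimeSpectrum A from p).asIdeal := fun h => hcp (h hc)
    obtain ⟨t, ht, hkill⟩ := exists_smul_eq_zero_forall (show PrimeSpectrum A from p).asIdeal N
      (IsNoetherian.noetherian N) (fun m hm => by
        obtain ⟨a, ha⟩ := Submodule.mem_span_singleton.1 (Submodule.mem_comap.1 hm)
        refine exists_smul_eq_zero_of_krull _ f hfp M m (fun n => ?_)
        cases n with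
        | zero => exact ⟨1, fun h => Ideal.IsPrime.ne_top inferInstance
            ((Ideal.eq_top_iff_one _).2 h), m, by rw [one_smul, pow_zero, one_smul]⟩
        | succ n =>
          have h1 : StructureSheaf.toOpenₗ A (Formal2.quotPow A (Ideal.span {f}) M n)
              (LocCoh.puncturedOpen A 𝔠) (Formal2.quotPowπ A (Ideal.span {f}) M n m) = 0 := by
            rw [← secMap_toOpen, ← ha, map_smul, hs n, smul_zero]
          rw [toOpenₗ_eq_zero_iff 𝔠 (IsNoetherian.noetherian 𝔠)] at h1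
          obtain ⟨j, hj⟩ := h1
          obtain ⟨c', hc', hcp'⟩ := exists_pow_notMem 𝔠 _ h𝔭 j
          have h2 := hj c' hc'
          rw [Submodule.mkQ_apply, ← Submodule.Quotient.mk_smul, Submodule.Quotient.mk_eq_zero,
            mem_P_iff] at h2
          obtain ⟨m', hm'⟩ := h2
          exact ⟨c', hcp', m', hm'.symm⟩)
    refine (mem_puncturedOpen (x := p)).2 ⟨c * t, Ideal.mul_mem_mul hc
      (Submodule.mem_annihilator.2 hkill), ?_⟩
    intro hmem
    rcases (Ideal.IsPrime.mem_or_mem inferInstance hmem) with h | h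
    · exact hcp h
    · exact ht h
  refine ⟨LocCoh.puncturedOpen A 𝔡, ⟨hadm, hV'V⟩, ?_⟩
  apply (isIT_toOpen (M := M) 𝔡).tf
  refine ⟨k + 1, fun c hc => ?_⟩
  have hle : 𝔡 ^ (k + 1) ≤ 𝔠 ^ k * J₃ := by
    rw [pow_succ]
    exact Ideal.mul_mono (Ideal.pow_right_mono h𝔡𝔠 k) h𝔡J
  refine Submodule.mul_induction_on (hle hc) (fun c₁ hc₁ t ht => ?_) (fun x y hx hy => ?_)
  · obtain ⟨m, hm⟩ := hk c₁ hc₁
    have hmN : m ∈ N := by
      rw [Submodule.mem_comap, hm]
      exact Submodule.smul_mem _ _ (Submodule.mem_span_singleton_self s)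
    rw [mul_comm, mul_smul, ← secRes_smul, ← secRes_smul, ← hm, ← map_smul,
      Submodule.mem_annihilator.1 ht m hmN, map_zero]
    apply sec_ext
    intro y
    rfl
  · rw [add_smul, hx, hy, add_zero]

end Groth.Agent.Lib.Helper8.FHV
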