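import Groth.Agent.Lib.Helper8FHVi

/-!
# The colimit form of formal sections in short exact sequences (helper8)

General ideal `I`: the maps induced on the quotients `M/I^(n+1)M`, Artin–Rees in elementwise form, the
statement `Formal2.FormalCohColimBijective` in degree `0` rephrased on sections, and the passage from the middle
and right terms of a short exact sequence to the left one.
-/

set_option autoImplicit false
universe u
open CategoryTheory AlgebraicGeometry TopologicalSpace

namespace Groth.Agent.Lib.Helper8.FHV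

open Groth.Agent.Lib.Helper8.Tilde

section QuotPow

variable {A : Type u} [CommRing A] (I : Ideal A)
variable (M : Type u) [AddCommGroup M] [Module A M]

/-- the transition maps `M/I^(m+1)M → M/I^(n+1)M` for `n ≤ m`. -/
def trI {n m : ℕ} (h : n ≤ m) : Formal2.quotPow A I M m →ₗ[A] Formal2.quotPow A I M n :=
  Submodule.mapQ _ _ LinearMap.id (by
    rw [Submodule.comap_id]
    exact Submodule.smul_mono_left (Ideal.pow_le_pow_right (Nat.succ_le_succ h)))

theorem trI_mk {n m : ℕ} (h : n ≤ m) (x : M) :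
    trI I M h (Submodule.Quotient.mk x) = Submodule.Quotient.mk x := by
  rw [trI, Submodule.mapQ_apply, LinearMap.id_apply]

theorem quotPowTrans_eq_trI (n : ℕ) :
    Formal2.quotPowTrans A I M n = trI I M (Nat.le_succ n) := rfl

theorem trI_comp_π {n m : ℕ} (h : n ≤ m) :
    trI I M h ∘ₗ Formal2.quotPowπ A I M m = Formal2.quotPowπ A I M n := by
  apply LinearMap.ext
  intro x
  rw [LinearMap.comp_apply, Submodule.mkQ_apply, trI_mk, Submodule.mkQ_apply]

theorem trI_comp {n m k : ℕ} (h1 : n ≤ m) (h2 : m ≤ k) :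
    trI I M h1 ∘ₗ trI I M h2 = trI I M (h1.trans h2) := by
  apply LinearMap.ext
  intro z
  obtain ⟨x, rfl⟩ := Submodule.Quotient.mk_surjective _ z
  rw [LinearMap.comp_apply, trI_mk, trI_mk, trI_mk]

theorem trI_refl (n : ℕ) : trI I M (le_refl n) = LinearMap.id := by
  apply LinearMap.ext
  intro z
  obtain ⟨x, rfl⟩ := Submodule.Quotient.mk_surjective _ z
  rw [trI_mk, LinearMap.id_apply]

variable {M} {N P : Type u} [AddCommGroup N] [Module A N] [AddCommGroup P] [Module A P]

/-- the maps induced on the quotients by the powers of `I`. -/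
def qmap (φ : M →ₗ[A] N) (n : ℕ) : Formal2.quotPow A I M n →ₗ[A] Formal2.quotPow A I N n :=
  Submodule.mapQ _ _ φ (by
    rw [← Submodule.map_le_iff_le_comap, Submodule.map_smul'']
    exact Submodule.smul_mono le_rfl le_top)

theorem qmap_mk (φ : M →ₗ[A] N) (n : ℕ) (x : M) :
    qmap I φ n (Submodule.Quotient.mk x) = Submodule.Quotient.mk (φ x) := by
  rw [qmap, Submodule.mapQ_apply]

theorem qmap_comp_π (φ : M →ₗ[A] N) (n : ℕ) :
    qmap I φ n ∘ₗ Formal2.quotPowπ A I M n = Formal2.quotPowπ A I N n ∘ₗ φ := by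
  apply LinearMap.ext
  intro x
  rw [LinearMap.comp_apply, LinearMap.comp_apply, Submodule.mkQ_apply, qmap_mk, Submodule.mkQ_apply]

theorem qmap_comp_trI (φ : M →ₗ[A] N) {n m : ℕ} (h : n ≤ m) :
    qmap I φ n ∘ₗ trI I M h = trI I N h ∘ₗ qmap I φ m := by
  apply LinearMap.ext
  intro z
  obtain ⟨x, rfl⟩ := Submodule.Quotient.mk_surjective _ z
  rw [LinearMap.comp_apply, LinearMap.comp_apply, trI_mk, qmap_mk, qmap_mk, trI_mk]

theorem qmap_comp (φ : M →ₗ[A] N) (ψ : N →ₗ[A] P) (n : ℕ) :
    qmap I (ψ ∘ₗ φ) n = qmap I ψ n ∘ₗ qmap I φ n := by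
  apply LinearMap.ext
  intro z
  obtain ⟨x, rfl⟩ := Submodule.Quotient.mk_surjective _ z
  rw [LinearMap.comp_apply, qmap_mk, qmap_mk, qmap_mk, LinearMap.comp_apply]

theorem qmap_zero (n : ℕ) : qmap I (0 : M →ₗ[A] N) n = 0 := by
  apply LinearMap.ext
  intro z
  obtain ⟨x, rfl⟩ := Submodule.Quotient.mk_surjective _ z
  rw [qmap_mk, LinearMap.zero_apply, LinearMap.zero_apply, Submodule.Quotient.mk_zero]

/-- **Artin–Rees**, elementwise, for an injective map of finite modules. -/
theorem exists_artinRees [IsNoetherianRing A] [Module.Finite A N] (φ : M →ₗ[A] N)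
    (hφ : Function.Injective φ) :
    ∃ c : ℕ, ∀ (n : ℕ) (x : M), φ x ∈ I ^ (n + c + 1) • (⊤ : Submodule A N) →
      x ∈ I ^ (n + 1) • (⊤ : Submodule A M) := by
  obtain ⟨k, hk⟩ := Ideal.exists_pow_inf_eq_pow_smul I (LinearMap.range φ)
  refine ⟨k, fun n x hx => ?_⟩
  have h1 : φ x ∈ I ^ (n + k + 1) • (⊤ : Submodule A N) ⊓ LinearMap.range φ := ⟨hx, ⟨x, rfl⟩⟩
  rw [hk (n + k + 1) (by omega)] at h1
  have h2 : n + k + 1 - k = n + 1 := by omega
  rw [h2] at h1
  have h3 : I ^ (n + 1) • (I ^ k • (⊤ : Submodule A N) ⊓ LinearMap.range φ) ≤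
      Submodule.map φ (I ^ (n + 1) • (⊤ : Submodule A M)) := by
    rw [Submodule.map_smul'', Submodule.map_top]
    exact Submodule.smul_mono le_rfl inf_le_right
  obtain ⟨x', hx', hxx'⟩ := h3 h1
  rw [← hφ hxx']
  exact hx'

end QuotPow

section Sec

variable {A : Type u} [CommRing A] {N : Type u} [AddCommGroup N] [Module A N]

theorem secRes_zero {V V' : (Spec (CommRingCat.of A)).Opens} (h : V' ≤ V) :
    secRes h (0 : Sec A N V) = 0 := by
  apply sec_ext
  intro y
  rfl

theorem secRes_sub {V V' : (Spec (CommRingCat.of A)).Opens} (h : V' ≤ V) (s t : Sec A N V) :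
    secRes h (s - t) = secRes h s - secRes h t := by
  apply sec_ext
  intro y
  rfl

theorem secRes_secRes {V V' V'' : (Spec (CommRingCat.of A)).Opens} (h : V' ≤ V) (h' : V'' ≤ V')
    (s : Sec A N V) : secRes h' (secRes h s) = secRes (h'.trans h) s := by
  apply sec_ext
  intro y
  rfl

theorem secMap_comp_apply {N' N'' : Type u} [AddCommGroup N'] [Module A N'] [AddCommGroup N'']
    [Module A N''] (V : (Spec (CommRingCat.of A)).Opens) (φ : N →ₗ[A] N') (ψ : N' →ₗ[A] N'')
    (s : Sec A N V) : secMap V ψ (secMap V φ s) = secMap V (ψ ∘ₗ φ) s := by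
  rw [secMap_comp, LinearMap.comp_apply]

end Sec

section CB

variable {A : Type u} [CommRing A] (I : Ideal A) (M : Type u) [AddCommGroup M] [Module A M]
  (U : (Spec (CommRingCat.of A)).Opens)

/-- `Formal2.FormalCohColimBijective` in degree `0`, on sections. -/
def SecCB : Prop :=
  (∀ (V : (Spec (CommRingCat.of A)).Opens) (_ : Formal2.Admissible A I U V) (s : Sec A M V),
      (∀ n, secMap V (Formal2.quotPowπ A I M n) s = 0) →
        ∃ (V' : (Spec (CommRingCat.of A)).Opens) (h : Formal2.Admissible A I U V' ∧ V' ≤ V),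
          secRes h.2 s = 0) ∧
  ∀ y : ∀ n, Sec A (Formal2.quotPow A I M n) U,
    (∀ n, secMap U (Formal2.quotPowTrans A I M n) (y (n + 1)) = y n) →
      ∃ (V : (Spec (CommRingCat.of A)).Opens) (hV : Formal2.Admissible A I U V) (x : Sec A M V),
        ∀ n, secRes hV.1 (y n) = secMap V (Formal2.quotPowπ A I M n) x

theorem secCB_iff : Formal2.FormalCohColimBijective A I M 0 U ↔ SecCB I M U := by
  constructor
  · rintro ⟨h1, h2⟩
    refine ⟨fun V hV s hs => ?_, fun y hy => ?_⟩
    · obtain ⟨V', h, hres⟩ := h1 V hV ((σ V).symm s) (fun n => by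
        apply (σ V).injective
        rw [σ_HVmap, AddEquiv.apply_symm_apply, hs n, map_zero])
      refine ⟨V', h, ?_⟩
      have h3 := congrArg (σ V') hres
      rw [σ_res, AddEquiv.apply_symm_apply, map_zero] at h3
      exact h3
    · obtain ⟨V, hV, x, hx⟩ := h2 (fun n => (σ U).symm (y n)) (fun n => by
        apply (σ U).injective
        rw [σ_HVmap, AddEquiv.apply_symm_apply, AddEquiv.apply_symm_apply, hy n])
      refine ⟨V, hV, σ V x, fun n => ?_⟩
      have h3 := congrArg (σ V) (hx n)
      rw [σ_res, AddEquiv.apply_symm_apply, σ_HVmap] at h3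
      exact h3
  · rintro ⟨h1, h2⟩
    refine ⟨fun V hV x hx => ?_, fun y hy => ?_⟩
    · obtain ⟨V', h, hres⟩ := h1 V hV (σ V x) (fun n => by
        rw [← σ_HVmap, hx n, map_zero])
      refine ⟨V', h, ?_⟩
      apply (σ V').injective
      rw [σ_res, hres, map_zero]
    · obtain ⟨V, hV, x, hx⟩ := h2 (fun n => σ U (y n)) (fun n => by
        rw [← σ_HVmap, hy n])
      refine ⟨V, hV, (σ V).symm x, fun n => ?_⟩
      apply (σ V).injective
      rw [σ_res, σ_HVmap, AddEquiv.apply_symm_apply]
      exact hx n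

end CB

section Aux

variable {A : Type u} [CommRing A]

theorem exact_ker_subtype_rangeRestrict {X Y : Type u} [AddCommGroup X] [Module A X] [AddCommGroup Y]
    [Module A Y] (φ : X →ₗ[A] Y) :
    Function.Exact (LinearMap.ker φ).subtype φ.rangeRestrict := by
  intro q
  constructor
  · intro hq
    have hq' : φ q = 0 := by
      have h1 := congrArg Subtype.val hq
      rw [LinearMap.codRestrict_apply] at h1
      exact h1
    exact ⟨⟨q, hq'⟩, rfl⟩
  · rintro ⟨q', rfl⟩
    apply Subtype.ext
    rw [LinearMap.codRestrict_apply, Submodule.subtype_apply]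
    exact q'.2

/-- a section killed by `φ` comes from the kernel of `φ`. -/
theorem exists_sec_ker_of_secMap_eq_zero {X Y : Type u} [AddCommGroup X] [Module A X]
    [AddCommGroup Y] [Module A Y] (V : (Spec (CommRingCat.of A)).Opens) (φ : X →ₗ[A] Y)
    (z : Sec A X V) (hz : secMap V φ z = 0) :
    ∃ w : Sec A (LinearMap.ker φ) V, secMap V (LinearMap.ker φ).subtype w = z := by
  have hzr : secMap V φ.rangeRestrict z = 0 := by
    apply secMap_injective V (LinearMap.range φ).subtype (Submodule.injective_subtype _)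
    rw [secMap_comp_apply, LinearMap.subtype_comp_codRestrict, hz, map_zero]
  exact secMap_exact V (LinearMap.ker φ).subtype φ.rangeRestrict
    (Submodule.injective_subtype _) (LinearMap.surjective_rangeRestrict _)
    (exact_ker_subtype_rangeRestrict φ) z hzr

theorem trI_comp_ker_subtype (I : Ideal A) {X Y : Type u} [AddCommGroup X] [Module A X]
    [AddCommGroup Y] [Module A Y] (φ : X →ₗ[A] Y) (n c : ℕ)
    (hc : ∀ x : X, φ x ∈ I ^ (n + c + 1) • (⊤ : Submodule A Y) →
      x ∈ I ^ (n + 1) • (⊤ : Submodule A X)) :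
    trI I X (Nat.le_add_right n c) ∘ₗ (LinearMap.ker (qmap I φ (n + c))).subtype = 0 := by
  apply LinearMap.ext
  intro q
  obtain ⟨q, hq⟩ := q
  obtain ⟨m, rfl⟩ := Submodule.Quotient.mk_surjective _ q
  rw [LinearMap.comp_apply, Submodule.subtype_apply, trI_mk, LinearMap.zero_apply,
    Submodule.Quotient.mk_eq_zero]
  apply hc m
  rw [LinearMap.mem_ker, qmap_mk, Submodule.Quotient.mk_eq_zero] at hq
  exact hq

theorem compat_add_trI (I : Ideal A) {X : Type u} [AddCommGroup X] [Module A X]
    (U : (Spec (CommRingCat.of A)).Opens) (y : ∀ n, Sec A (Formal2.quotPow A I X n) U)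
    (hy : ∀ n, secMap U (Formal2.quotPowTrans A I X n) (y (n + 1)) = y n) (n c : ℕ) :
    secMap U (trI I X (Nat.le_add_right n c)) (y (n + c)) = y n := by
  induction c with
  | zero =>
    have h0 : trI I X (Nat.le_add_right n 0) = LinearMap.id := trI_refl I X n
    rw [h0, secMap_id]
    rfl
  | succ c ih =>
    have h1 : trI I X (Nat.le_add_right n (c + 1)) =
        trI I X (Nat.le_add_right n c) ∘ₗ trI I X (Nat.le_succ (n + c)) :=
      (trI_comp I X _ _).symm
    have h2 := hy (n + c)
    rw [quotPowTrans_eq_trI] at h2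
    rw [h1, ← secMap_comp_apply]
    show secMap U (trI I X (Nat.le_add_right n c))
      (secMap U (trI I X (Nat.le_succ (n + c))) (y (n + c + 1))) = y n
    rw [h2, ih]

end Aux

section SES

variable {A : Type u} [CommRing A] [IsNoetherianRing A] (I : Ideal A)
  {M' M M'' : Type u} [AddCommGroup M'] [Module A M'] [AddCommGroup M] [Module A M]
  [AddCommGroup M''] [Module A M''] [Module.Finite A M]
  (U : (Spec (CommRingCat.of A)).Opens)

/-- in a short exact sequence `0 → M' → M → M'' → 0`, the colimit form of formal sections for `M` and `M''`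
gives it for `M'`. -/
theorem secCB_of_shortExact (f : M' →ₗ[A] M) (g : M →ₗ[A] M'') (hf : Function.Injective f)
    (hg : Function.Surjective g) (hfg : Function.Exact f g)
    (h : SecCB I M U) (h'' : SecCB I M'' U) : SecCB I M' U := by
  have hgf : g ∘ₗ f = 0 := by
    apply LinearMap.ext
    intro x
    rw [LinearMap.comp_apply, LinearMap.zero_apply]
    exact (hfg (f x)).2 ⟨x, rfl⟩
  refine ⟨fun V hV s hs => ?_, fun y' hy' => ?_⟩
  · have hs1 : ∀ n, secMap V (Formal2.quotPowπ A I M n) (secMap V f s) = 0 := by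
      intro n
      rw [secMap_comp_apply, ← qmap_comp_π, ← secMap_comp_apply, hs n, map_zero]
    obtain ⟨V', hV', hres⟩ := h.1 V hV (secMap V f s) hs1
    refine ⟨V', hV', ?_⟩
    apply secMap_injective V' f hf
    rw [← secRes_secMap, hres, map_zero]
  · have hy'c := compat_add_trI I U y' hy'
    have hy : ∀ n, secMap U (Formal2.quotPowTrans A I M n)
        (secMap U (qmap I f (n + 1)) (y' (n + 1))) = secMap U (qmap I f n) (y' n) := by
      intro n
      rw [quotPowTrans_eq_trI, secMap_comp_apply, ← qmap_comp_trI, ← secMap_comp_apply,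
        ← quotPowTrans_eq_trI, hy' n]
    obtain ⟨V, hV, x, hx⟩ := h.2 (fun n => secMap U (qmap I f n) (y' n)) hy
    have hgx : ∀ n, secMap V (Formal2.quotPowπ A I M'' n) (secMap V g x) = 0 := by
      intro n
      rw [secMap_comp_apply, ← qmap_comp_π, ← secMap_comp_apply, ← hx n, ← secRes_secMap,
        secMap_comp_apply, ← qmap_comp, hgf, qmap_zero, secMap_zero, LinearMap.zero_apply,
        secRes_zero]
    obtain ⟨V', hV', hres⟩ := h''.1 V hV (secMap V g x) hgx
    rw [secRes_secMap] at hres
    obtain ⟨x', hx'⟩ := secMap_exact V' f g hf hg hfg (secRes hV'.2 x) hres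
    refine ⟨V', hV'.1, x', fun n => ?_⟩
    obtain ⟨c, hc⟩ := exists_artinRees I f hf
    have hz1 : ∀ k, secMap V' (qmap I f k)
        (secMap V' (Formal2.quotPowπ A I M' k) x' - secRes hV'.1.1 (y' k)) = 0 := by
      intro k
      rw [map_sub, secMap_comp_apply, qmap_comp_π, ← secMap_comp_apply, hx', ← secRes_secMap,
        ← hx k, secRes_secRes, ← secRes_secMap, sub_self]
    have hz2 : ∀ n, secMap V' (Formal2.quotPowπ A I M' n) x' - secRes hV'.1.1 (y' n) =
        secMap V' (trI I M' (Nat.le_add_right n c))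
          (secMap V' (Formal2.quotPowπ A I M' (n + c)) x' - secRes hV'.1.1 (y' (n + c))) := by
      intro n
      rw [map_sub, secMap_comp_apply, trI_comp_π, ← secRes_secMap, hy'c n c]
    have hzero : secMap V' (Formal2.quotPowπ A I M' n) x' - secRes hV'.1.1 (y' n) = 0 := by
      rw [hz2 n]
      set z := secMap V' (Formal2.quotPowπ A I M' (n + c)) x' - secRes hV'.1.1 (y' (n + c)) with hz
      have hzk := hz1 (n + c)
      rw [← hz] at hzk
      obtain ⟨w, hw⟩ := exists_sec_ker_of_secMap_eq_zero V' (qmap I f (n + c)) z hzk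
      have hcomp := trI_comp_ker_subtype I f n c (hc n)
      rw [← hw, secMap_comp_apply, hcomp, secMap_zero, LinearMap.zero_apply]
    exact (sub_eq_zero.1 hzero).symm

end SES

end Groth.Agent.Lib.Helper8.FHV
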