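import Groth.Agent.Lib.Helper8GrField
import Groth.Agent.S13231
import Groth.Agent.S0299

/-!
# Graded rings over a field: the localisation of a *canonical module is canonical (helper8)
-/

set_option autoImplicit false
set_option linter.style.haveILetI false
set_option linter.unusedSectionVars false
universe u
open IsLocalRing

namespace Groth.Agent.Lib.Helper8.GrCanonLoc

theorem exists_local_data (R : Type u) [CommRing R] [hR : LocCoh.IsCohenMacaulayRing R]
    (𝒜 : ℤ → AddSubgroup R) [GradedRing 𝒜] (hpos : ∀ n : ℤ, n < 0 → 𝒜 n = ⊥)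
    (h0 : IsField (GrLC.deg0 𝒜)) (m : HomogeneousIdeal 𝒜) (hm : GrLC.IsStarLocal 𝒜 m)
    (hmsp : m.toIdeal = Ideal.span (⋃ n ∈ Set.Ioi (0 : ℤ), (𝒜 n : Set R)))
    [hp : m.toIdeal.IsPrime] (n : ℕ) (hn : ringKrullDim R = n) (I : GrLC.StarInjRes 𝒜 𝒜)
    (E' : Type u) [AddCommGroup E'] [Module R E'] (𝓔 : ℤ → AddSubgroup E')
    [DirectSum.Decomposition 𝓔] [SetLike.GradedSMul 𝒜 𝓔] (e : (R ⧸ m.toIdeal) →ₗ[R] E')
    (he : GrLC.IsStarInjHull 𝒜 (GrLC.quotGr 𝒜 m) 𝓔 e) (C : Type u) [AddCommGroup C] [Module R C]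
    (𝒞 : ℤ → AddSubgroup C) [DirectSum.Decomposition 𝒞] [SetLike.GradedSMul 𝒜 𝒞]
    (hC : GrLC.IsStarCanonical 𝒜 𝒞 𝓔 m n I) :
    ringKrullDim (Localization.AtPrime m.toIdeal) = n ∧
    Module.Finite (Localization.AtPrime m.toIdeal) (LocalizedModule m.toIdeal.primeCompl C) ∧
    ∃ (E₀ : Type u) (_ : AddCommGroup E₀) (_ : Module (Localization.AtPrime m.toIdeal) E₀)
      (f : ResidueField (Localization.AtPrime m.toIdeal) →ₗ[Localization.AtPrime m.toIdeal] E₀),
      InjHull.IsInjectiveHull f ∧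
      Nonempty ((LocalizedModule m.toIdeal.primeCompl C →ₗ[Localization.AtPrime m.toIdeal] E₀)
        ≃ₗ[Localization.AtPrime m.toIdeal]
        LocCoh.H (maximalIdeal (Localization.AtPrime m.toIdeal)) n
          (Localization.AtPrime m.toIdeal)) := by
  have hht : m.toIdeal.height = n :=
    Groth.Agent.Lib.Helper8.GrField.height_eq 𝒜 hpos h0 m hm hmsp n hn
  refine ⟨?_, ?_, ?_⟩
  · rw [IsLocalization.AtPrime.ringKrullDim_eq_height m.toIdeal, hht]
    rfl
  · haveI : Module.Finite R C := hC.1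
    exact Module.Finite.of_isLocalizedModule m.toIdeal.primeCompl
      (LocalizedModule.mkLinearMap m.toIdeal.primeCompl C)
  · obtain ⟨E₀, i1, i2, f, hf⟩ := Groth.Agent.S0299.result (Localization.AtPrime m.toIdeal)
      (ResidueField (Localization.AtPrime m.toIdeal))
    exact ⟨E₀, i1, i2, f, hf,
      Groth.Agent.S13231.result R 𝒜 m hm n hht I E' 𝓔 e he C 𝒞 hC E₀ f hf⟩

end Groth.Agent.Lib.Helper8.GrCanonLoc
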