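import Mathlib
import Groth.Agent.Lib.Helper29GrBaer
import Groth.Agent.Lib.Helper29GrStarLocal
import Groth.Agent.Lib.Helper29GrQuot

/-!
# Graded modules that are locally isomorphic with `End = R` at the *maximal ideal (helper8)

If `C`, `C'` are finitely generated graded modules over a Noetherian *local ring `(R, m)` with
`C_m ≃ C'_m` and `R_m → End(C_m)` bijective, then there is a homogeneous isomorphism `C ≃ C'` of some
degree.
-/

set_option autoImplicit false
set_option linter.style.haveILetI false
set_option linter.unusedSectionVars false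
open DirectSum

namespace Groth.Agent.Lib.Helper8.GrCanonUniq

universe u

section Local

variable {R : Type u} [CommRing R] [IsNoetherianRing R] (q : Ideal R) [q.IsPrime]
  {C C' : Type u} [AddCommGroup C] [Module R C] [AddCommGroup C'] [Module R C']
  [Module.Finite R C]
  (θ : LocalizedModule q.primeCompl C ≃ₗ[Localization.AtPrime q] LocalizedModule q.primeCompl C')
  (hEnd : Function.Bijective (fun ρ : Localization.AtPrime q => ρ • (LinearMap.id :
    LocalizedModule q.primeCompl C →ₗ[Localization.AtPrime q] LocalizedModule q.primeCompl C)))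

include hEnd in
/-- every map `C_q → C'_q` is a multiple of `θ`. -/
theorem hom_eq_smul (ψ' : LocalizedModule q.primeCompl C →ₗ[Localization.AtPrime q]
    LocalizedModule q.primeCompl C') :
    ∃ a : Localization.AtPrime q, ψ' = a • θ.toLinearMap := by
  obtain ⟨a, ha⟩ := hEnd.2 (θ.symm.toLinearMap ∘ₗ ψ')
  refine ⟨a, ?_⟩
  apply LinearMap.ext
  intro x
  have h1 := LinearMap.congr_fun ha x
  rw [LinearMap.smul_apply, LinearMap.id_apply, LinearMap.comp_apply] at h1
  have h2 : ψ' x = θ (a • x) := by
    rw [h1]
    exact (θ.apply_symm_apply _).symm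
  rw [h2, map_smul]
  rfl

/-- `θ` lifts, up to a unit, to a map `C → C'`. -/
theorem exists_lift : ∃ (ψ : C →ₗ[R] C') (s : q.primeCompl),
    LocalizedModule.map q.primeCompl ψ =
      (algebraMap R (Localization.AtPrime q) (s : R)) • θ.toLinearMap := by
  haveI : Module.FinitePresentation R C := Module.finitePresentation_of_finite R C
  obtain ⟨ψ, s, hψ⟩ := Module.FinitePresentation.exists_lift_of_isLocalizedModule q.primeCompl
    (LocalizedModule.mkLinearMap q.primeCompl C')
    ((θ.toLinearMap.restrictScalars R) ∘ₗ LocalizedModule.mkLinearMap q.primeCompl C)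
  refine ⟨ψ, s, ?_⟩
  apply LinearMap.restrictScalars_injective R
  apply IsLocalizedModule.linearMap_ext q.primeCompl (LocalizedModule.mkLinearMap q.primeCompl C)
    (LocalizedModule.mkLinearMap q.primeCompl C')
  apply LinearMap.ext
  intro c
  have h1 := LinearMap.congr_fun hψ c
  rw [LinearMap.comp_apply, LinearMap.smul_apply, LinearMap.comp_apply] at h1
  change (LocalizedModule.map q.primeCompl ψ) (LocalizedModule.mkLinearMap q.primeCompl C c) =
    (algebraMap R (Localization.AtPrime q) (s : R)) •
      θ (LocalizedModule.mkLinearMap q.primeCompl C c)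
  rw [LocalizedModule.mkLinearMap_apply, LocalizedModule.map_mk, algebraMap_smul]
  rw [LocalizedModule.mkLinearMap_apply, LocalizedModule.mkLinearMap_apply] at h1
  exact h1

include hEnd in
/-- one summand of a finite decomposition of a lift of `θ` is bijective after localization. -/
theorem exists_bijective_summand {ι : Type} (D : Finset ι) (ψd : ι → (C →ₗ[R] C'))
    (s : q.primeCompl)
    (hs : LocalizedModule.map q.primeCompl (∑ d ∈ D, ψd d) =
      (algebraMap R (Localization.AtPrime q) (s : R)) • θ.toLinearMap) :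
    ∃ d ∈ D, Function.Bijective (LocalizedModule.map q.primeCompl (ψd d)) := by
  classical
  choose a ha using fun d => hom_eq_smul q θ hEnd (LocalizedModule.map q.primeCompl (ψd d))
  rw [map_sum, Finset.sum_congr rfl (fun d _ => ha d), ← Finset.sum_smul] at hs
  have hsum : ∑ d ∈ D, a d = algebraMap R (Localization.AtPrime q) (s : R) := by
    apply hEnd.1
    apply LinearMap.ext
    intro x
    have h1 := LinearMap.congr_fun hs x
    rw [LinearMap.smul_apply, LinearMap.smul_apply] at h1
    change (∑ d ∈ D, a d) • x = (algebraMap R (Localization.AtPrime q) (s : R)) • x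
    apply θ.injective
    rw [map_smul, map_smul]
    exact h1
  have hunit : IsUnit (∑ d ∈ D, a d) := by
    rw [hsum]
    exact IsLocalization.map_units (Localization.AtPrime q) s
  have hex : ∃ d ∈ D, IsUnit (a d) := by
    by_contra hcon
    push Not at hcon
    have hmem : ∑ d ∈ D, a d ∈ IsLocalRing.maximalIdeal (Localization.AtPrime q) :=
      Ideal.sum_mem _ fun d hd => (IsLocalRing.mem_maximalIdeal _).mpr (hcon d hd)
    exact (IsLocalRing.mem_maximalIdeal _).mp hmem hunit
  obtain ⟨d, hd, hu⟩ := hex
  refine ⟨d, hd, ?_⟩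
  rw [ha d]
  obtain ⟨u, hu'⟩ := hu
  constructor
  · intro x y hxy
    rw [LinearMap.smul_apply, LinearMap.smul_apply, ← hu'] at hxy
    have h2 : θ x = θ y := by
      have h3 := congrArg (fun z => (↑u⁻¹ : Localization.AtPrime q) • z) hxy
      simp only [← mul_smul, Units.inv_mul, one_smul] at h3
      exact h3
    exact θ.injective h2
  · intro y
    refine ⟨θ.symm ((↑u⁻¹ : Localization.AtPrime q) • y), ?_⟩
    rw [LinearMap.smul_apply, ← hu']
    change (u : Localization.AtPrime q) • θ (θ.symm ((↑u⁻¹ : Localization.AtPrime q) • y)) = y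
    rw [θ.apply_symm_apply, ← mul_smul, Units.mul_inv, one_smul]

end Local

section Graded

variable {ι : Type} [AddCommGroup ι] [DecidableEq ι]
variable {R : Type u} [CommRing R] (𝒜 : ι → AddSubgroup R) [GradedRing 𝒜]
variable {E : Type u} [AddCommGroup E] [Module R E] (𝓔 : ι → AddSubgroup E)
  [DirectSum.Decomposition 𝓔] [SetLike.GradedSMul 𝒜 𝓔]
variable {F : Type u} [AddCommGroup F] [Module R F] (𝓕 : ι → AddSubgroup F)
  [DirectSum.Decomposition 𝓕] [SetLike.GradedSMul 𝒜 𝓕]

/-- a homogeneous map of degree `d` commutes with components up to the shift. -/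
theorem decompose_map_deg (φ : E →ₗ[R] F) (d : ι) (hφ : GrLC.IsGrHomDeg 𝓔 𝓕 φ d) (x : E) (j : ι) :
    ((decompose 𝓕 (φ x)) j : F) = φ ((decompose 𝓔 x) (j - d)) := by
  classical
  induction x using DirectSum.Decomposition.inductionOn 𝓔 with
  | zero => simp
  | homogeneous y =>
    rename_i i
    have hy : φ (y : E) ∈ 𝓕 (i + d) := hφ i y y.2
    by_cases h : i + d = j
    · subst h
      rw [DirectSum.decompose_of_mem_same _ hy, add_sub_cancel_right,
        DirectSum.decompose_of_mem_same _ y.2]
    · have h' : i ≠ j - d := fun hi => h (by rw [hi]; abel)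
      rw [DirectSum.decompose_of_mem_ne _ hy h, DirectSum.decompose_of_mem_ne _ y.2 h', map_zero]
  | add y y' hy hy' =>
    rw [map_add, DirectSum.decompose_add, DirectSum.decompose_add, DirectSum.add_apply,
      DirectSum.add_apply, AddSubgroup.coe_add, AddSubgroup.coe_add, map_add, hy, hy']

theorem range_isHomogeneous (φ : E →ₗ[R] F) (d : ι) (hφ : GrLC.IsGrHomDeg 𝓔 𝓕 φ d) :
    (LinearMap.range φ).IsHomogeneous 𝓕 := by
  rintro j _ ⟨x, rfl⟩
  rw [decompose_map_deg 𝓔 𝓕 φ d hφ x j]
  exact LinearMap.mem_range_self φ _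

variable [Module.Free ℤ ι] [Module.Finite ℤ ι] [IsNoetherianRing R]
  (m : HomogeneousIdeal 𝒜) (hm : GrLC.IsStarLocal 𝒜 m) [m.toIdeal.IsPrime]

include hm in
/-- a homogeneous map that is bijective after localizing at the *maximal ideal is bijective. -/
theorem bijective_of_localized (φ : E →ₗ[R] F) (d : ι) (hφ : GrLC.IsGrHomDeg 𝓔 𝓕 φ d)
    (hbij : Function.Bijective (LocalizedModule.map m.toIdeal.primeCompl φ)) :
    Function.Bijective φ := by
  constructor
  · rw [injective_iff_map_eq_zero]
    intro x hx
    have h1 : LocalizedModule.map m.toIdeal.primeCompl φ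
        (LocalizedModule.mk x 1) = 0 := by
      rw [LocalizedModule.map_mk, hx, LocalizedModule.zero_mk]
    have h2 : LocalizedModule.mk x (1 : m.toIdeal.primeCompl) = 0 := by
      apply hbij.1
      rw [h1, map_zero]
    have h3 : LocalizedModule.mkLinearMap m.toIdeal.primeCompl E x = 0 := by
      rw [LocalizedModule.mkLinearMap_apply]
      exact h2
    rw [IsLocalizedModule.eq_zero_iff m.toIdeal.primeCompl] at h3
    obtain ⟨t, ht⟩ := h3
    exact Groth.Agent.Lib.Helper29GrStarLocal.eq_zero_of_smul_eq_zero 𝒜 m hm 𝓔 (t : R) t.2 x ht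
  · intro y
    have hP := range_isHomogeneous 𝓔 𝓕 φ d hφ
    obtain ⟨z, hz⟩ := hbij.2 (LocalizedModule.mk y 1)
    induction z using LocalizedModule.induction_on with
    | h c t =>
      rw [LocalizedModule.map_mk, LocalizedModule.mk_eq] at hz
      obtain ⟨u, hu⟩ := hz
      rw [one_smul] at hu
      -- `(u t) y ∈ range φ`
      have h4 : ((u : R) * (t : R)) • y ∈ LinearMap.range φ := by
        refine ⟨(u : R) • c, ?_⟩
        rw [map_smul, mul_smul]
        exact hu
      letI := Groth.Agent.Lib.Helper29GrQuot.quotDecomposition 𝓕 (LinearMap.range φ) hP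
      haveI := Groth.Agent.Lib.Helper29GrQuot.quot_gradedSMul 𝓕 (LinearMap.range φ) 𝒜
      have h5 : ((u : R) * (t : R)) • (LinearMap.range φ).mkQ y = 0 := by
        rw [← map_smul, Submodule.mkQ_apply, Submodule.Quotient.mk_eq_zero]
        exact h4
      have h6 : (u : R) * (t : R) ∉ m.toIdeal := (u * t).2
      have h7 := Groth.Agent.Lib.Helper29GrStarLocal.eq_zero_of_smul_eq_zero 𝒜 m hm
        (Groth.Agent.Lib.Helper29GrQuot.quotGr 𝓕 (LinearMap.range φ)) _ h6 _ h5
      rw [Submodule.mkQ_apply, Submodule.Quotient.mk_eq_zero] at h7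
      exact h7

end Graded

end Groth.Agent.Lib.Helper8.GrCanonUniq
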