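import Groth.Agent.Lib.Helper29Cone
import Groth.Agent.Lib.Helper29GrCompare
import Groth.Agent.Lib.Helper29GrSub
import Groth.Agent.Lib.Helper29LCAcyclic
import Groth.Agent.S13217

/-! Graded local cohomology computed, degree by degree, from any homogeneous resolution by
graded modules acyclic for `Γ_a` (helper8). -/

set_option autoImplicit false
set_option linter.style.haveILetI false
set_option linter.unusedSectionVars false
open DirectSum CategoryTheory

noncomputable section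

namespace Groth.Agent.Lib.Helper8.GrCmp

open Groth.Agent.Lib.Helper29LCAcyclic Groth.Agent.Lib.Helper29Cone
  Groth.Agent.Lib.Helper29GrCompare Groth.Agent.Lib.Helper29GrHom Groth.Agent.Lib.Helper29GrGam

universe u

variable {R : Type u} [CommRing R] [IsNoetherianRing R] (𝒜 : ℤ → AddSubgroup R) [GradedRing 𝒜]
  (a : HomogeneousIdeal 𝒜)
variable {M : Type u} [AddCommGroup M] [Module R M] (ℳ : ℤ → AddSubgroup M)
  [DirectSum.Decomposition ℳ] [SetLike.GradedSMul 𝒜 ℳ]
variable (X : ℕ → GrLC.GMod.{u} 𝒜) (d : ∀ n, (X n).carrier →ₗ[R] (X (n + 1)).carrier)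
  (ε : M →ₗ[R] (X 0).carrier)
  (hd : ∀ n, GrLC.IsGrHom (X n).gr (X (n + 1)).gr (d n)) (hε : GrLC.IsGrHom ℳ (X 0).gr ε)
  (h0 : LinearMap.ker (d 0) = LinearMap.range ε)
  (hs : ∀ n, LinearMap.ker (d (n + 1)) = LinearMap.range (d n))
  (hεinj : Function.Injective ε)
  (hacyc : ∀ (n j : ℕ) (x : LC a.toIdeal (j + 1) (X n).carrier), x = 0)
  (E : GrLC.StarInjRes 𝒜 ℳ)

include hd hε h0 hs hεinj hacyc in
/-- The graded comparison theorem: a homogeneous chain map to the *injective resolution which is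
bijective on the cohomology of `Γ_a` degree by degree. -/
theorem exists_graded_comparison :
    ∃ θ : ∀ n, (X n).carrier →ₗ[R] (E.X n).carrier,
      (∀ n, GrLC.IsGrHom (X n).gr (E.X n).gr (θ n)) ∧ (∀ m : M, θ 0 (ε m) = E.ε m) ∧
      (∀ (n : ℕ) (x : (X n).carrier), θ (n + 1) (d n x) = E.d n (θ n x)) ∧
      (∀ x : (X 0).carrier, x ∈ GrLC.gam a.toIdeal (X 0).carrier → d 0 x = 0 → θ 0 x = 0 →
        x = 0) ∧
      (∀ (n : ℕ) (g : ℤ) (x : (X (n + 1)).carrier), x ∈ GrLC.gam a.toIdeal (X (n + 1)).carrier →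
        d (n + 1) x = 0 → x ∈ (X (n + 1)).gr g → θ (n + 1) x ∈ E.cobdy a (n + 1) →
        ∃ y : (X n).carrier, y ∈ GrLC.gam a.toIdeal (X n).carrier ∧ y ∈ (X n).gr g ∧ d n y = x) ∧
      (∀ (p : ℕ) (g : ℤ) (z : (E.X p).carrier), z ∈ E.cocyc a p → z ∈ (E.X p).gr g →
        ∃ x : (X p).carrier, x ∈ GrLC.gam a.toIdeal (X p).carrier ∧ d p x = 0 ∧
          x ∈ (X p).gr g ∧ z - θ p x ∈ E.cobdy a p) := by
  classical
  obtain ⟨θ, hθhom, hθ0, hθ⟩ := exists_comparison 𝒜 ℳ X d ε hd hε h0 hs E hεinj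
  have hacyc' : ∀ (n j : ℕ) (x : LC a.toIdeal (j + 1) (E.X n).carrier), x = 0 := by
    intro n j x
    haveI := Groth.Agent.S13217.result R 𝒜 a (E.X n).carrier (E.X n).gr (E.starInj n) (j + 1)
      (Nat.le_add_left 1 j)
    exact Subsingleton.elim _ _
  have hcob' : ∀ j, cobdy a.toIdeal (fun n => (E.X n).carrier) E.d j = E.cobdy a j := by
    intro j
    cases j <;> rfl
  have hcobhom : ∀ i, (E.cobdy a i).IsHomogeneous (E.X i).gr := by
    intro i
    cases i with
    | zero => exact Groth.Agent.Lib.Helper29GrSub.IsHomogeneous.bot _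
    | succ n =>
      exact Groth.Agent.Lib.Helper29GrGam.map_isHomogeneous (E.X n).gr (E.X (n + 1)).gr (E.d n)
        (E.d_grHom n) (gam_isHomogeneous 𝒜 (E.X n).gr a)
  refine ⟨θ, hθhom, hθ0, hθ, ?_, ?_, ?_⟩
  · intro x hx hdx hθx
    have h := comparison_inj a.toIdeal (fun n => (X n).carrier) d ε hs h0 hacyc
      (fun n => (E.X n).carrier) E.d E.ε E.exact_succ E.ε_injective E.exact_zero hacyc'
      θ hθ0 hθ 0 x hx hdx (by rw [hθx]; exact zero_mem _)
    exact (Submodule.mem_bot R).mp h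
  · intro n g x hx hdx hxg hθx
    have h := comparison_inj a.toIdeal (fun n => (X n).carrier) d ε hs h0 hacyc
      (fun n => (E.X n).carrier) E.d E.ε E.exact_succ E.ε_injective E.exact_zero hacyc'
      θ hθ0 hθ (n + 1) x hx hdx (by rw [hcob']; exact hθx)
    obtain ⟨y, hy, hyx⟩ := h
    refine ⟨((decompose (X n).gr y) g : (X n).carrier), gam_isHomogeneous 𝒜 (X n).gr a g hy,
      SetLike.coe_mem _, ?_⟩
    rw [← decompose_map (X (n + 1)).gr (X n).gr (d n) (hd n) y g, hyx,
      DirectSum.decompose_of_mem_same _ hxg]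
  · intro p g z hz hzg
    obtain ⟨x, hx1, hx2, hx3⟩ := comparison_surj a.toIdeal (fun n => (X n).carrier) d ε hs h0
      hacyc (fun n => (E.X n).carrier) E.d E.ε E.exact_succ E.ε_injective E.exact_zero hacyc'
      θ hθ0 hθ p z hz.1 hz.2
    rw [hcob'] at hx3
    refine ⟨((decompose (X p).gr x) g : (X p).carrier), gam_isHomogeneous 𝒜 (X p).gr a g hx1, ?_,
      SetLike.coe_mem _, ?_⟩
    · rw [← decompose_map (X (p + 1)).gr (X p).gr (d p) (hd p) x g, hx2,
        DirectSum.decompose_zero]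
      rfl
    · have h := hcobhom p g hx3
      rw [DirectSum.decompose_sub, DirectSum.sub_apply, AddSubgroup.coe_sub,
        DirectSum.decompose_of_mem_same _ hzg,
        decompose_map (E.X p).gr (X p).gr (θ p) (hθhom p) x g] at h
      exact h

end Groth.Agent.Lib.Helper8.GrCmp
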