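import Mathlib

/-!
# A rank-one free module has endomorphism ring the base ring (helper8)
-/

set_option autoImplicit false
universe u

namespace Groth.Agent.Lib.Helper8.GrGor

theorem bijective_smul_id_of_equiv {A : Type u} [CommRing A] {K : Type u} [AddCommGroup K]
    [Module A K] (σ : K ≃ₗ[A] A) :
    Function.Bijective (fun ρ : A => ρ • (LinearMap.id : K →ₗ[A] K)) := by
  have hx : ∀ x : K, x = σ x • σ.symm 1 := by
    intro x
    rw [← map_smul, smul_eq_mul, mul_one, LinearEquiv.symm_apply_apply]
  constructor
  · intro ρ ρ' h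
    have h1 := LinearMap.congr_fun h (σ.symm 1)
    simp only [LinearMap.smul_apply, LinearMap.id_apply] at h1
    rw [← map_smul, ← map_smul, smul_eq_mul, smul_eq_mul, mul_one, mul_one] at h1
    exact σ.symm.injective h1
  · intro g
    refine ⟨σ (g (σ.symm 1)), ?_⟩
    apply LinearMap.ext
    intro x
    simp only [LinearMap.smul_apply, LinearMap.id_apply]
    conv_rhs => rw [hx x, map_smul, hx (g (σ.symm 1))]
    conv_lhs => rw [hx x]
    rw [smul_smul, smul_smul, mul_comm]

end Groth.Agent.Lib.Helper8.GrGor
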