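import Groth.Agent.Lib.Helper8ExtLoc
import Groth.Agent.Lib.Helper29GrExt
import Groth.Agent.Lib.Helper29GrStarLocal
import Groth.Agent.S13211
import Groth.Agent.S13212
import Groth.Agent.S13215
import Groth.Agent.S13216
import Groth.Agent.S18634

/-!
# Injective dimension of a graded module over a *local ring is detected at the *maximal ideal
(helper8)

For a `ℤ`-graded Noetherian *local ring `(R, m)` and a graded module `C`: if `C_m` has injective
dimension `≤ n` over `R_m`, then `C` has injective dimension `≤ n + 1` over `R`.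
-/

set_option autoImplicit false
set_option linter.style.haveILetI false
set_option linter.unusedSectionVars false
universe u
open CategoryTheory CategoryTheory.Abelian DirectSum

namespace Groth.Agent.Lib.Helper8.GrInjDim

open Groth.Agent.Lib.Helper29GrHom Groth.Agent.Lib.Helper29GrEss Groth.Agent.Lib.Helper29GrSub
  Groth.Agent.Lib.Helper29GrQuot

section Tors

variable {R : Type u} [CommRing R] (T : Submonoid R)

/-- `Ext^j(X, Y)` is `T`-torsion. -/
def Tors (X Y : ModuleCat.{u} R) (j : ℕ) : Prop :=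
  ∀ x : Ext.{u} X Y j, ∃ s : T, (s : R) • x = 0

theorem tors_shift (Sh : ShortComplex (ModuleCat.{u} R)) (hSh : Sh.ShortExact)
    (X : ModuleCat.{u} R) (j : ℕ) (h1 : Tors T X Sh.X₁ (j + 1))
    (h2 : Subsingleton (Ext.{u} X Sh.X₂ j)) : Tors T X Sh.X₃ j := by
  intro x₃
  obtain ⟨s, hs⟩ := h1 (x₃.comp hSh.extClass rfl)
  have h3 : ((s : R) • x₃).comp hSh.extClass rfl = 0 := by rw [Ext.smul_comp, hs]
  obtain ⟨x₂, hx₂⟩ := Ext.covariant_sequence_exact₃ X hSh ((s : R) • x₃) rfl h3
  refine ⟨s, ?_⟩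
  rw [← hx₂, Subsingleton.elim x₂ 0, Ext.zero_comp]

theorem tors_of_iso {X Y Y' : ModuleCat.{u} R} (e : Y ≅ Y') (j : ℕ) (h : Tors T X Y j) :
    Tors T X Y' j := by
  intro x'
  obtain ⟨s, hs⟩ := h (x'.comp (Ext.mk₀ e.inv) (add_zero j))
  refine ⟨s, ?_⟩
  have h1 : x' = (x'.comp (Ext.mk₀ e.inv) (add_zero j)).comp (Ext.mk₀ e.hom) (add_zero j) := by
    rw [Ext.comp_assoc_of_third_deg_zero, Ext.mk₀_comp_mk₀, e.inv_hom_id, Ext.comp_mk₀_id]
  rw [h1, ← Ext.smul_comp, hs, Ext.zero_comp]

end Tors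

section Init

variable {R : Type u} [CommRing R] [IsNoetherianRing R] (p : Ideal R) [p.IsPrime]
  (C : Type u) [AddCommGroup C] [Module R C]

/-- If `C_p` has injective dimension `< n` then `Ext^n_R(M, C)` is `p`-locally torsion for finite
`M`. -/
theorem tors_init (n : ℕ)
    (hloc : HasInjectiveDimensionLT (ModuleCat.of (Localization.AtPrime p)
      (LocalizedModule p.primeCompl C)) n)
    (M : Type u) [AddCommGroup M] [Module R M] [Module.Finite R M] :
    Tors p.primeCompl (ModuleCat.of R M) (ModuleCat.of R C) n := by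
  have h := Groth.Agent.Lib.Helper8.ExtLoc.ext_loc p.primeCompl
    (LocalizedModule.mkLinearMap p.primeCompl C) n M (LocalizedModule p.primeCompl M)
    (LocalizedModule.mkLinearMap p.primeCompl M)
  haveI := hloc
  exact h.mpr (HasInjectiveDimensionLT.subsingleton (ModuleCat.of (Localization.AtPrime p)
      (LocalizedModule p.primeCompl C)) n n le_rfl _)

end Init

section Res

variable {R : Type u} [CommRing R] [IsNoetherianRing R] {𝒜 : ℤ → AddSubgroup R} [GradedRing 𝒜]
  {C : Type u} [AddCommGroup C] [Module R C] {𝒞 : ℤ → AddSubgroup C} [DirectSum.Decomposition 𝒞]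
  [SetLike.GradedSMul 𝒜 𝒞] (E : GrLC.StarInjRes 𝒜 𝒞)

/-- The cosyzygies. -/
def Z (i : ℕ) : Submodule R (E.X i).carrier := LinearMap.ker (E.d i)

theorem d_mem_Z (i : ℕ) (x : (E.X i).carrier) : E.d i x ∈ Z E (i + 1) := by
  show E.d i x ∈ LinearMap.ker (E.d (i + 1))
  rw [E.exact_succ i]
  exact LinearMap.mem_range_self _ _

/-- The corestricted differential. -/
def dres (i : ℕ) : (E.X i).carrier →ₗ[R] ↥(Z E (i + 1)) :=
  (E.d i).codRestrict (Z E (i + 1)) (d_mem_Z E i)

theorem dres_surjective (i : ℕ) : Function.Surjective (dres E i) := by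
  rintro ⟨z, hz⟩
  have hz' : z ∈ LinearMap.range (E.d i) := by
    rw [← E.exact_succ i]
    exact hz
  obtain ⟨x, rfl⟩ := hz'
  exact ⟨x, rfl⟩

theorem exact_subtype_dres (i : ℕ) : Function.Exact (Z E i).subtype (dres E i) := by
  intro x
  constructor
  · intro h
    have hx : x ∈ Z E i := by
      show x ∈ LinearMap.ker _
      rw [LinearMap.mem_ker]
      exact congrArg Subtype.val h
    exact ⟨⟨x, hx⟩, rfl⟩
  · rintro ⟨z, rfl⟩
    apply Subtype.ext
    exact z.2

/-- The short exact sequence `0 → Z i → X i → Z (i+1) → 0`. -/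
noncomputable def Sh (i : ℕ) : ShortComplex (ModuleCat.{u} R) :=
  ShortComplex.mk (ModuleCat.ofHom (Z E i).subtype) (ModuleCat.ofHom (dres E i)) (by
    apply ModuleCat.hom_ext
    apply LinearMap.ext
    intro x
    exact (exact_subtype_dres E i).apply_apply_eq_zero x)

theorem Sh_shortExact (i : ℕ) : (Sh E i).ShortExact :=
  ShortComplex.ShortExact.mk'
    ((ShortComplex.moduleCat_exact_iff _).mpr fun x hx => (exact_subtype_dres E i x).mp hx)
    ((ModuleCat.mono_iff_injective _).mpr (Z E i).injective_subtype)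
    ((ModuleCat.epi_iff_surjective _).mpr (dres_surjective E i))

theorem ε_mem_Z (c : C) : E.ε c ∈ Z E 0 := by
  show E.ε c ∈ LinearMap.ker (E.d 0)
  rw [E.exact_zero]
  exact LinearMap.mem_range_self _ _

/-- `C ≃ Z 0`. -/
noncomputable def εEquiv : C ≃ₗ[R] ↥(Z E 0) :=
  LinearEquiv.ofBijective (E.ε.codRestrict (Z E 0) (ε_mem_Z E)) ⟨fun a b h =>
    E.ε_injective (congrArg Subtype.val h), fun ⟨z, hz⟩ => by
      have hz' : z ∈ LinearMap.range E.ε := by
        rw [← E.exact_zero]
        exact hz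
      obtain ⟨c, rfl⟩ := hz'
      exact ⟨c, rfl⟩⟩

theorem Z_isHomogeneous (i : ℕ) : (Z E i).IsHomogeneous (E.X i).gr :=
  ker_isHomogeneous (E.X (i + 1)).gr (E.X i).gr (E.d i) (E.d_grHom i)

/-- Dimension shifting of torsion along the resolution. -/
theorem tors_chain (T : Submonoid R) (M : Type u) [AddCommGroup M] [Module R M]
    (ℳ : ℤ → AddSubgroup M) [DirectSum.Decomposition ℳ] [SetLike.GradedSMul 𝒜 ℳ]
    [Module.Finite R M] (n : ℕ)
    (h0 : Tors T (ModuleCat.of R M) (ModuleCat.of R C) (n + 1)) :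
    ∀ i j : ℕ, i + j = n + 1 → 1 ≤ j →
      Tors T (ModuleCat.of R M) (ModuleCat.of R ↥(Z E i)) j := by
  intro i
  induction i with
  | zero =>
    intro j hj _
    rw [zero_add] at hj
    subst hj
    exact tors_of_iso T (εEquiv E).toModuleIso (n + 1) h0
  | succ i ih =>
    intro j hj hj1
    have h1 := ih (j + 1) (by omega) (by omega)
    have h2 : Subsingleton (Ext.{u} (ModuleCat.of R M) (ModuleCat.of R (E.X i).carrier) j) :=
      Groth.Agent.S13216.result R 𝒜 M ℳ (E.X i).carrier (E.X i).gr (E.starInj i) j hj1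
    exact tors_shift T (Sh E i) (Sh_shortExact E i) (ModuleCat.of R M) j h1 h2

end Res

section Baer

variable {R : Type u} [CommRing R] [IsNoetherianRing R] (𝒜 : ℤ → AddSubgroup R) [GradedRing 𝒜]
  (m : HomogeneousIdeal 𝒜) (hm : GrLC.IsStarLocal 𝒜 m) [hp : m.toIdeal.IsPrime]

include hm in
/-- A graded module `Z` with `Ext^1(M, Z)` torsion at `m` for all finite graded `M` is *injective. -/
theorem isStarInj_of_tors {Z : Type u} [AddCommGroup Z] [Module R Z] (𝒵 : ℤ → AddSubgroup Z)
    [DirectSum.Decomposition 𝒵] [SetLike.GradedSMul 𝒜 𝒵]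
    (hT : ∀ (M : Type u) [AddCommGroup M] [Module R M] (ℳ : ℤ → AddSubgroup M)
      [DirectSum.Decomposition ℳ] [SetLike.GradedSMul 𝒜 ℳ] [Module.Finite R M],
      Tors m.toIdeal.primeCompl (ModuleCat.of R M) (ModuleCat.of R Z) 1) :
    GrLC.IsStarInj 𝒜 𝒵 := by
  classical
  rw [Groth.Agent.S13212.result R 𝒜 Z 𝒵]
  intro N f hf
  by_contra hsurj
  have hess := Groth.Agent.S13211.result R 𝒜 Z 𝒵 N.carrier N.gr f hf
  have hP : (LinearMap.range f).IsHomogeneous N.gr := range_isHomogeneous N.gr 𝒵 f hf.grHom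
  -- a homogeneous element outside the range
  have hex : ∃ (d : ℤ) (h : N.carrier), h ∈ N.gr d ∧ h ∉ LinearMap.range f := by
    by_contra hcon
    push Not at hcon
    apply hsurj
    intro y
    have hy : y ∈ LinearMap.range f := by
      rw [← DirectSum.sum_support_decompose N.gr y]
      exact Submodule.sum_mem _ (fun i _ => hcon i _ (SetLike.coe_mem _))
    exact hy
  obtain ⟨d, h, hhd, hhP⟩ := hex
  letI decQ : DirectSum.Decomposition (quotGr N.gr (LinearMap.range f)) :=
    quotDecomposition N.gr (LinearMap.range f) hP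
  haveI gsQ : SetLike.GradedSMul 𝒜 (quotGr N.gr (LinearMap.range f)) :=
    quot_gradedSMul N.gr (LinearMap.range f) 𝒜
  have hhb : (LinearMap.range f).mkQ h ∈ quotGr N.gr (LinearMap.range f) d := ⟨h, hhd, rfl⟩
  have hhb0 : (LinearMap.range f).mkQ h ≠ 0 := by
    intro h0
    exact hhP ((Submodule.Quotient.mk_eq_zero _).mp h0)
  have hMhom : (Submodule.span R {(LinearMap.range f).mkQ h}).IsHomogeneous
      (quotGr N.gr (LinearMap.range f)) :=
    span_singleton_isHomogeneous 𝒜 (quotGr N.gr (LinearMap.range f)) hhb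
  letI decM : DirectSum.Decomposition (subGr (quotGr N.gr (LinearMap.range f))
      (Submodule.span R {(LinearMap.range f).mkQ h})) :=
    subDecomposition _ _ hMhom
  haveI gsM : SetLike.GradedSMul 𝒜 (subGr (quotGr N.gr (LinearMap.range f))
      (Submodule.span R {(LinearMap.range f).mkQ h})) := sub_gradedSMul _ _ 𝒜
  -- the short exact sequence `0 → Z → N → N / range f → 0`
  let Sh : ShortComplex (ModuleCat.{u} R) :=
    ShortComplex.mk (ModuleCat.ofHom f) (ModuleCat.ofHom (LinearMap.range f).mkQ) (by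
      ext x
      exact (Submodule.Quotient.mk_eq_zero _).mpr ⟨x, rfl⟩)
  have hSh : Sh.ShortExact :=
    ShortComplex.ShortExact.mk'
      ((ShortComplex.moduleCat_exact_iff _).mpr fun x hx =>
        (Submodule.Quotient.mk_eq_zero _).mp hx)
      ((ModuleCat.mono_iff_injective _).mpr hf.injective)
      ((ModuleCat.epi_iff_surjective _).mpr (Submodule.mkQ_surjective _))
  let j : ModuleCat.of R ↥(Submodule.span R {(LinearMap.range f).mkQ h}) ⟶ Sh.X₃ :=
    ModuleCat.ofHom (Submodule.span R {(LinearMap.range f).mkQ h}).subtype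
  obtain ⟨s, hs⟩ := hT ↥(Submodule.span R {(LinearMap.range f).mkQ h})
    (subGr (quotGr N.gr (LinearMap.range f)) (Submodule.span R {(LinearMap.range f).mkQ h}))
    ((Ext.mk₀ j).comp hSh.extClass (zero_add 1))
  have h3 : (Ext.mk₀ ((s : R) • j)).comp hSh.extClass (zero_add 1) = 0 := by
    rw [Ext.mk₀_smul, Ext.smul_comp, hs]
  obtain ⟨x₂, hx₂⟩ := Ext.covariant_sequence_exact₃ _ hSh (Ext.mk₀ ((s : R) • j)) (zero_add 1) h3
  obtain ⟨φ, rfl⟩ := (Ext.mk₀_bijective _ _).2 x₂
  rw [Ext.mk₀_comp_mk₀] at hx₂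
  have hφ : φ ≫ Sh.g = (s : R) • j := (Ext.mk₀_bijective _ _).1 hx₂
  have hφ' : ∀ x : ↥(Submodule.span R {(LinearMap.range f).mkQ h}),
      (LinearMap.range f).mkQ (φ.hom x) = (s : R) • (x : N.carrier ⧸ LinearMap.range f) := by
    intro x
    have := congrArg (fun ψ => ψ.hom x) hφ
    exact this
  have hsm : (s : R) ∉ m.toIdeal := s.2
  -- the range of `φ` is nonzero and meets `range f` trivially
  have hK : LinearMap.range φ.hom ≠ ⊥ := by
    intro hbot
    have h0 : φ.hom ⟨(LinearMap.range f).mkQ h, Submodule.mem_span_singleton_self _⟩ = 0 := by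
      have hmem : φ.hom ⟨(LinearMap.range f).mkQ h, Submodule.mem_span_singleton_self _⟩ ∈
          LinearMap.range φ.hom := LinearMap.mem_range_self _ _
      rw [hbot] at hmem
      exact (Submodule.mem_bot R).mp hmem
    have h1 := hφ' ⟨(LinearMap.range f).mkQ h, Submodule.mem_span_singleton_self _⟩
    rw [h0, map_zero] at h1
    exact hhb0 (Groth.Agent.Lib.Helper29GrStarLocal.eq_zero_of_smul_eq_zero 𝒜 m hm
      (quotGr N.gr (LinearMap.range f)) (s : R) hsm _ h1.symm)
  apply hess.essential _ hK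
  rw [eq_bot_iff]
  rintro y ⟨⟨x, rfl⟩, hy⟩
  have h1 := hφ' x
  have h2 : (LinearMap.range f).mkQ (φ.hom x) = 0 := (Submodule.Quotient.mk_eq_zero _).mpr hy
  rw [h2] at h1
  have hx0 : (x : N.carrier ⧸ LinearMap.range f) = 0 :=
    Groth.Agent.Lib.Helper29GrStarLocal.eq_zero_of_smul_eq_zero 𝒜 m hm
      (quotGr N.gr (LinearMap.range f)) (s : R) hsm _ h1.symm
  have hx0' : x = 0 := Subtype.ext hx0
  rw [hx0', map_zero]
  exact Submodule.zero_mem _

end Baer

section Main

variable {R : Type u} [CommRing R] [IsNoetherianRing R] (𝒜 : ℤ → AddSubgroup R) [GradedRing 𝒜]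
  (m : HomogeneousIdeal 𝒜) (hm : GrLC.IsStarLocal 𝒜 m) [hp : m.toIdeal.IsPrime]
  (C : Type u) [AddCommGroup C] [Module R C] (𝒞 : ℤ → AddSubgroup C) [DirectSum.Decomposition 𝒞]
  [SetLike.GradedSMul 𝒜 𝒞]

include hm 𝒞 in
/-- If `C_m` has injective dimension `≤ n` over `R_m` then the graded module `C` has injective
dimension `≤ n + 1` over `R`. -/
theorem hasInjectiveDimensionLT_of_localization (n : ℕ)
    (hloc : HasInjectiveDimensionLT (ModuleCat.of (Localization.AtPrime m.toIdeal)
      (LocalizedModule m.toIdeal.primeCompl C)) (n + 1)) :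
    HasInjectiveDimensionLT (ModuleCat.of R C) (n + 2) := by
  obtain ⟨E⟩ := Groth.Agent.S13215.result R 𝒜 C 𝒞
  letI dec : ∀ i, DirectSum.Decomposition (subGr (E.X i).gr (Z E i)) := fun i =>
    subDecomposition (E.X i).gr (Z E i) (Z_isHomogeneous E i)
  haveI gs : ∀ i, SetLike.GradedSMul 𝒜 (subGr (E.X i).gr (Z E i)) := fun i =>
    sub_gradedSMul (E.X i).gr (Z E i) 𝒜
  have hZn : GrLC.IsStarInj 𝒜 (subGr (E.X n).gr (Z E n)) :=
    isStarInj_of_tors 𝒜 m hm (subGr (E.X n).gr (Z E n)) (fun M _ _ ℳ _ _ _ =>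
      tors_chain E m.toIdeal.primeCompl M ℳ n (tors_init m.toIdeal C (n + 1) hloc M) n 1 rfl le_rfl)
  have hX : ∀ i, HasInjectiveDimensionLT (ModuleCat.of R (E.X i).carrier) 2 := fun i =>
    Groth.Agent.S18634.result R 𝒜 (E.X i).carrier (E.X i).gr (E.starInj i)
  have hchain : ∀ k i : ℕ, i + k = n →
      HasInjectiveDimensionLT (ModuleCat.of R ↥(Z E i)) (2 + k) := by
    intro k
    induction k with
    | zero =>
      intro i hi
      rw [add_zero] at hi
      subst hi
      exact Groth.Agent.S18634.result R 𝒜 ↥(Z E i) (subGr (E.X i).gr (Z E i)) hZn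
    | succ k ih =>
      intro i hi
      have h1 : HasInjectiveDimensionLT (Sh E i).X₃ (2 + k) := ih (i + 1) (by omega)
      have h2 : HasInjectiveDimensionLT (Sh E i).X₂ (2 + k + 1) := by
        haveI := hX i
        exact hasInjectiveDimensionLT_of_ge (ModuleCat.of R (E.X i).carrier) 2 (2 + k + 1) (by omega)
      exact (Sh_shortExact E i).hasInjectiveDimensionLT_X₁ (2 + k) h1 h2
  haveI h0 : HasInjectiveDimensionLT (ModuleCat.of R ↥(Z E 0)) (2 + n) := hchain n 0 (zero_add n)
  have h3 : HasInjectiveDimensionLT (ModuleCat.of R C) (2 + n) :=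
    hasInjectiveDimensionLT_of_iso (εEquiv E).toModuleIso.symm (2 + n)
  rw [add_comm] at h3
  exact h3

end Main

end Groth.Agent.Lib.Helper8.GrInjDim
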