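import Groth.Agent.Lib.Helper8GrCM
import Groth.Agent.Lib.Helper8CdDim
import Groth.Agent.Lib.Helper29GrConv2

/-!
# Cohen–Macaulay graded algebras over a field (gradings by `k`-subspaces) and graded local
cohomology (helper8)
-/

set_option autoImplicit false
set_option linter.unusedSectionVars false
set_option linter.style.haveILetI false
universe u
open DirectSum

namespace Groth.Agent.Lib.Helper8.GrCMk

open Groth.Agent.Lib.Helper29GrConv

variable {k : Type u} [Field k] {R : Type u} [CommRing R] [Algebra k R]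
  (𝒜 : ℤ → Submodule k R) [GradedAlgebra 𝒜]
  (hpos : ∀ n : ℤ, n < 0 → 𝒜 n = ⊥) (h0 : 𝒜 0 = Submodule.span k {(1 : R)})
  (m : HomogeneousIdeal 𝒜)
  (hmsp : m.toIdeal = Ideal.span (⋃ n ∈ Set.Ioi (0 : ℤ), (𝒜 n : Set R)))

include hpos in
theorem asGr_pos : ∀ n : ℤ, n < 0 → asGr 𝒜 n = ⊥ := by
  intro n hn
  ext x
  rw [mem_asGr, hpos n hn]
  rfl

include h0 in
theorem exists_algebraMap : ∀ r ∈ 𝒜 0, ∃ c : k, algebraMap k R c = r := by
  intro r hr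
  rw [h0] at hr
  obtain ⟨c, hc⟩ := Submodule.mem_span_singleton.mp hr
  exact ⟨c, by rw [Algebra.algebraMap_eq_smul_one, hc]⟩

include h0 in
theorem isField_deg0 [Nontrivial R] : IsField (GrLC.deg0 (asGr 𝒜)) where
  exists_pair_ne := ⟨0, 1, zero_ne_one⟩
  mul_comm := mul_comm
  mul_inv_cancel := by
    intro a ha
    obtain ⟨c, hc⟩ := exists_algebraMap 𝒜 h0 a.1 a.2
    have hc0 : c ≠ 0 := by
      rintro rfl
      apply ha
      apply Subtype.ext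
      rw [← hc, map_zero]
      rfl
    refine ⟨⟨algebraMap k R c⁻¹, SetLike.algebraMap_mem_graded 𝒜 c⁻¹⟩, Subtype.ext ?_⟩
    show a.1 * algebraMap k R c⁻¹ = 1
    rw [← hc, ← map_mul, mul_inv_cancel₀ hc0, map_one]

include hpos h0 hmsp in
theorem isStarLocal_asGr [Nontrivial R] [IsNoetherianRing R] :
    GrLC.IsStarLocal (asGr 𝒜) (idealAS 𝒜 m) :=
  Groth.Agent.Lib.Helper8.GrCM.isStarLocal_of_field (asGr 𝒜) (asGr_pos 𝒜 hpos)
    (isField_deg0 𝒜 h0) (idealAS 𝒜 m) hmsp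

include hpos h0 hmsp in
/-- the Cohen–Macaulay criterion -/
theorem isCohenMacaulayRing_iff [Nontrivial R] [IsNoetherianRing R] (e : ℕ)
    (he : ringKrullDim R = e) (I : GrLC.StarInjRes 𝒜 𝒜) :
    LocCoh.IsCohenMacaulayRing R ↔ ∀ i, i < e → ∀ n, I.Hcomp m i n = ⊥ := by
  have hm := isStarLocal_asGr 𝒜 hpos h0 m hmsp
  constructor
  · intro hR i hi n
    rw [← Hcomp_resAS_eq_bot_iff]
    exact Groth.Agent.Lib.Helper8.GrCM.Hcomp_eq_bot_of_isCohenMacaulayRing (asGr 𝒜)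
      (asGr_pos 𝒜 hpos) (isField_deg0 𝒜 h0) (idealAS 𝒜 m) hm hmsp e he (resAS I) i hi n
  · intro h
    refine Groth.Agent.Lib.Helper8.GrCM.isCohenMacaulayRing_of_Hcomp_eq_bot (asGr 𝒜)
      (asGr_pos 𝒜 hpos) (isField_deg0 𝒜 h0) (idealAS 𝒜 m) hm hmsp e he (resAS I) ?_
    intro i hi n
    rw [Hcomp_resAS_eq_bot_iff]
    exact h i hi n

/-- Grothendieck vanishing -/
theorem Hcomp_eq_bot_of_dim_lt [IsNoetherianRing R] (e : ℕ) (he : ringKrullDim R = e)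
    (I : GrLC.StarInjRes 𝒜 𝒜) (i : ℕ) (hi : e < i) (n : ℤ) : I.Hcomp m i n = ⊥ := by
  rw [← Hcomp_resAS_eq_bot_iff]
  refine Groth.Agent.Lib.Helper29GrCMEnd.Hcomp_eq_bot_of_H_eq_zero (idealAS 𝒜 m) (resAS I) i
    (fun y => ?_) n
  refine Groth.Agent.Lib.Helper8.CdDim.Q_all i R ?_ _ _ y
  rw [he]
  exact_mod_cast hi

/-- the irrelevant ideal as a homogeneous ideal -/
def irr : HomogeneousIdeal 𝒜 :=
  ⟨Ideal.span (⋃ n ∈ Set.Ioi (0 : ℤ), (𝒜 n : Set R)), by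
    apply Ideal.homogeneous_span
    intro y hy
    obtain ⟨n, _, hn⟩ := Set.mem_iUnion₂.mp hy
    exact ⟨n, hn⟩⟩

theorem irr_toIdeal :
    (irr 𝒜).toIdeal = Ideal.span (⋃ n ∈ Set.Ioi (0 : ℤ), (𝒜 n : Set R)) := rfl

end Groth.Agent.Lib.Helper8.GrCMk
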