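import Groth.Agent.Lib.Helper8GrCM
import Groth.Agent.Lib.Helper8Seg22
import Groth.Agent.Lib.Helper25GrHsop
import Groth.Agent.Lib.Helper25GrNat
import Groth.Agent.Lib.Helper29GrEss
import Groth.Agent.Lib.Helper28DepthCM
import Groth.Agent.S11625
import Groth.Agent.S0318

/-!
# Graded modules over a graded algebra over a field: dimension at the irrelevant ideal,
the Cohen–Macaulay property and depth via graded local cohomology (helper8)
-/

set_option autoImplicit false
set_option linter.unusedSectionVars false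
set_option linter.style.haveILetI false
universe u
open DirectSum

namespace Groth.Agent.Lib.Helper8.GrMod

open Groth.Agent.Lib.Helper28 Groth.Agent.Lib.Helper5 Groth.Agent.Lib.Helper5.GenDepth
  Groth.Agent.Lib.Helper25.GrGlob Groth.Agent.Lib.Helper25.GrDim Groth.Agent.Lib.Helper25.GrHsop
  Groth.Agent.Lib.Helper29GrConv Groth.Agent.Lib.Helper25.GrNat

section NatGr

variable {K : Type u} [Field K] {A : Type u} [CommRing A] [Algebra K A]
  (𝒜 : ℕ → Submodule K A) [GradedAlgebra 𝒜]
  (h0 : ∀ a ∈ 𝒜 0, ∃ c : K, algebraMap K A c = a)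

theorem height_subtype_congr {X : Type*} [Preorder X] {s t : Set X} (h : s = t) (x : X)
    (hs : x ∈ s) (ht : x ∈ t) :
    Order.height (⟨x, hs⟩ : s) = Order.height (⟨x, ht⟩ : t) := by
  subst h
  rfl

include h0 in
theorem supportDim_eq_dm_irr [IsNoetherianRing A] (hprime : (irr 𝒜).IsPrime)
    (M : Type u) [AddCommGroup M] [Module A M]
    [Module.Finite A M] [Nontrivial M] (hI : (Module.annihilator A M).IsHomogeneous 𝒜) :
    Module.supportDim A M = dm (irr 𝒜) M := by
  have hne : Module.annihilator A M ≠ ⊤ := by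
    intro h
    have h1 : (1 : A) ∈ Module.annihilator A M := h ▸ Submodule.mem_top
    rw [Module.mem_annihilator] at h1
    obtain ⟨x, y, hxy⟩ := exists_pair_ne M
    exact hxy (by rw [← one_smul A x, ← one_smul A y, h1 x, h1 y])
  have hle : Module.annihilator A M ≤ irr 𝒜 := le_irr_of_isHomogeneous 𝒜 h0 _ hI hne
  have hsM : (⟨irr 𝒜, hprime⟩ : PrimeSpectrum A) ∈ Module.support A M := by
    rw [Module.support_eq_zeroLocus, PrimeSpectrum.mem_zeroLocus]
    exact hle
  have hsQ : (⟨irr 𝒜, hprime⟩ : PrimeSpectrum A) ∈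
      Module.support A (A ⧸ Module.annihilator A M) := by
    rw [Module.support_eq_zeroLocus, PrimeSpectrum.mem_zeroLocus, Ideal.annihilator_quotient]
    exact hle
  have hsupp : Module.support A (A ⧸ Module.annihilator A M) = Module.support A M := by
    rw [Module.support_eq_zeroLocus, Module.support_eq_zeroLocus, Ideal.annihilator_quotient]
  have h1 : dm (irr 𝒜) M = dm (irr 𝒜) (A ⧸ Module.annihilator A M) := by
    unfold dm
    rw [supportDim_localization_eq_height (irr 𝒜) M hsM,
      supportDim_localization_eq_height (irr 𝒜) (A ⧸ Module.annihilator A M) hsQ,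
      height_subtype_congr hsupp _ hsQ hsM]
  apply le_antisymm
  · rw [h1, dm_quotient_eq_height _ _ hle, Module.supportDim_eq_ringKrullDim_quotient_annihilator]
    exact ringKrullDim_quotient_le_height 𝒜 h0 _ hI hne
  · unfold dm
    rw [supportDim_localization_eq_height (irr 𝒜) M hsM]
    unfold Module.supportDim
    exact Order.height_le_krullDim _

end NatGr

section Bridge

variable {R : Type u} [CommRing R] [IsNoetherianRing R] (𝒜 : ℤ → AddSubgroup R) [GradedRing 𝒜]
  (a : HomogeneousIdeal 𝒜) {M : Type u} [AddCommGroup M] [Module R M] (ℳ : ℤ → AddSubgroup M)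
  [DirectSum.Decomposition ℳ] [SetLike.GradedSMul 𝒜 ℳ] (E : GrLC.StarInjRes 𝒜 ℳ)

theorem H_subsingleton_iff (i : ℕ) :
    Subsingleton (LocCoh.H a.toIdeal i M) ↔ ∀ n, E.Hcomp a i n = ⊥ := by
  classical
  constructor
  · intro h n
    exact Groth.Agent.Lib.Helper29GrCMEnd.Hcomp_eq_bot_of_H_eq_zero a E i
      (fun y => Subsingleton.elim _ _) n
  · intro h
    obtain ⟨eqv⟩ := Groth.Agent.S13224.result R 𝒜 a M ℳ E i
    have hint := Groth.Agent.S13225.result R 𝒜 a M ℳ E i
    have hz : ∀ y : E.H a i, y = 0 := by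
      intro y
      obtain ⟨x, rfl⟩ := hint.2 y
      have hx : x = 0 := by
        ext n
        have h1 : ((x n : ↥(E.Hgr a i n)) : E.H a i) ∈ E.Hcomp a i n := (x n).2
        rw [h n] at h1
        exact (Submodule.mem_bot _).mp h1
      rw [hx, map_zero]
    exact ⟨fun x y => eqv.symm.injective ((hz _).trans (hz _).symm)⟩

end Bridge

section BridgeK

variable {k : Type u} [Field k] {R : Type u} [CommRing R] [Algebra k R] [IsNoetherianRing R]
  (𝒜 : ℤ → Submodule k R) [GradedAlgebra 𝒜] (m : HomogeneousIdeal 𝒜)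
  {M : Type u} [AddCommGroup M] [Module R M] (ℳ : ℤ → AddSubgroup M)
  [DirectSum.Decomposition ℳ] [SetLike.GradedSMul 𝒜 ℳ] (E : GrLC.StarInjRes 𝒜 ℳ)

theorem H_subsingleton_iff_k (i : ℕ) :
    Subsingleton (LocCoh.H m.toIdeal i M) ↔ ∀ n, E.Hcomp m i n = ⊥ := by
  have h := H_subsingleton_iff (asGr 𝒜) (idealAS 𝒜 m) (asGr ℳ) (resAS E) i
  rw [idealAS_toIdeal] at h
  rw [h]
  constructor
  · intro h' n
    exact (Hcomp_resAS_eq_bot_iff E m i n).mp (h' n)
  · intro h' n
    exact (Hcomp_resAS_eq_bot_iff E m i n).mpr (h' n)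

end BridgeK

section LG

variable {R : Type u} [CommRing R] [IsNoetherianRing R] (𝒜 : ℤ → AddSubgroup R) [GradedRing 𝒜]

/-- graded local-to-global principle for the Cohen–Macaulay property of a graded module -/
theorem cm_of_cm_at (m : Ideal R) [m.IsPrime]
    (hm : ∀ J : Ideal R, J.IsHomogeneous 𝒜 → J ≠ ⊤ → J ≤ m)
    (M : Type u) [AddCommGroup M] [Module R M] (ℳ : ℤ → AddSubgroup M)
    [DirectSum.Decomposition ℳ] [SetLike.GradedSMul 𝒜 ℳ] [Module.Finite R M]
    (hCM : LocCoh.IsCohenMacaulayModule (Localization.AtPrime m)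
      (LocalizedModule m.primeCompl M)) (q : Ideal R) [hq : q.IsPrime] :
    Subsingleton (LocalizedModule q.primeCompl M) ∨
      LocCoh.IsCohenMacaulayModule (Localization.AtPrime q) (LocalizedModule q.primeCompl M) := by
  classical
  by_cases hsub : Subsingleton (LocalizedModule q.primeCompl M)
  · exact Or.inl hsub
  right
  have hnt : Nontrivial (LocalizedModule q.primeCompl M) := not_subsingleton_iff_nontrivial.mp hsub
  haveI hcore : (Ideal.homogeneousCore 𝒜 q).toIdeal.IsPrime := Ideal.IsPrime.homogeneousCore hq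
  have hle_m : (Ideal.homogeneousCore 𝒜 q).toIdeal ≤ m :=
    hm _ (Ideal.homogeneousCore 𝒜 q).isHomogeneous hcore.ne_top
  have hprimeq : (q.map (Ideal.Quotient.mk (Ideal.homogeneousCore 𝒜 q).toIdeal)).IsPrime :=
    Ideal.map_isPrime_of_surjective Ideal.Quotient.mk_surjective
      (by rw [Ideal.mk_ker]; exact Ideal.toIdeal_homogeneousCore_le _ q)
  obtain ⟨dd, hdd⟩ := ENat.ne_top_iff_exists.mp (Ideal.height_ne_top hprimeq.ne_top)
  obtain ⟨g1, g2⟩ := Groth.Agent.Lib.Helper5.GrLoc.main 𝒜 q M ℳ dd hdd.symm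
  have g2' := g2 hnt
  have hsuppc : Nontrivial (LocalizedModule (Ideal.homogeneousCore 𝒜 q).toIdeal.primeCompl M) := by
    have h1 : dm q M ≠ ⊥ := by
      unfold dm
      rw [Module.supportDim_ne_bot_iff_nontrivial]
      exact hnt
    rw [g2'] at h1
    have h2 : dm (Ideal.homogeneousCore 𝒜 q).toIdeal M ≠ ⊥ := by
      intro h
      rw [h, WithBot.bot_add] at h1
      exact h1 rfl
    unfold dm at h2
    rwa [Module.supportDim_ne_bot_iff_nontrivial] at h2
  have hLL := dm_eq_dep_of_le (Ideal.homogeneousCore 𝒜 q).toIdeal m hle_m M hCM hsuppc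
  show dm q M = ((dep q M : ℕ∞) : WithBot ℕ∞)
  rw [g2', hLL, g1]
  push_cast
  rfl

end LG

section Main

variable {k : Type u} [Field k] {R : Type u} [CommRing R] [Algebra k R]
  (𝒜 : ℤ → Submodule k R) [GradedAlgebra 𝒜]
  (hpos : ∀ n : ℤ, n < 0 → 𝒜 n = ⊥) (h0 : 𝒜 0 = Submodule.span k {(1 : R)})
  (m : HomogeneousIdeal 𝒜)
  (hmsp : m.toIdeal = Ideal.span (⋃ n ∈ Set.Ioi (0 : ℤ), (𝒜 n : Set R)))
  {M : Type u} [AddCommGroup M] [Module R M] (ℳ : ℤ → AddSubgroup M)
  [DirectSum.Decomposition ℳ] [SetLike.GradedSMul 𝒜 ℳ]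

theorem decompose_smul_right {g : ℤ} {x : M} (hx : x ∈ ℳ g) (r : R) (d : ℤ) :
    ((decompose ℳ (r • x)) d : M) = ((decompose 𝒜 r) (d - g) : R) • x := by
  classical
  induction r using DirectSum.Decomposition.inductionOn 𝒜 with
  | zero => simp
  | homogeneous a =>
    rename_i j
    have hm : (a : R) • x ∈ ℳ (j + g) :=
      SetLike.GradedSMul.smul_mem (A := 𝒜) (B := ℳ) (i := j) (j := g) a.2 hx
    by_cases hd : j + g = d
    · subst hd
      rw [DirectSum.decompose_of_mem_same _ hm, add_sub_cancel_right,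
        DirectSum.decompose_of_mem_same _ a.2]
    · have hd' : j ≠ d - g := fun hj => hd (by rw [hj]; abel)
      rw [DirectSum.decompose_of_mem_ne _ hm hd, DirectSum.decompose_of_mem_ne _ a.2 hd',
        zero_smul]
  | add a a' ha ha' =>
    rw [add_smul, DirectSum.decompose_add, DirectSum.decompose_add, DirectSum.add_apply,
      DirectSum.add_apply, AddSubgroup.coe_add, Submodule.coe_add, add_smul, ha, ha']

include ℳ in
theorem annihilator_isHomogeneous : (Module.annihilator R M).IsHomogeneous 𝒜 := by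
  classical
  intro i a ha
  rw [Module.mem_annihilator] at ha ⊢
  intro x
  induction x using DirectSum.Decomposition.inductionOn ℳ with
  | zero => simp
  | homogeneous x =>
    rename_i j
    have h1 := decompose_smul_right 𝒜 ℳ x.2 a (i + j)
    rw [add_sub_cancel_right, ha, DirectSum.decompose_zero] at h1
    rw [← h1]
    rfl
  | add x y hx hy => rw [smul_add, hx, hy, add_zero]

include hpos in
theorem isHomogeneous_natGrading (I : Ideal R) (hI : I.IsHomogeneous 𝒜) :
    letI := natGradedAlgebra 𝒜 hpos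
    I.IsHomogeneous (natGrading 𝒜) := by
  classical
  letI := natGradedAlgebra 𝒜 hpos
  have hspan : I = Ideal.span {x | x ∈ I ∧ ∃ n : ℕ, x ∈ natGrading 𝒜 n} := by
    apply le_antisymm
    · intro a ha
      rw [← DirectSum.sum_support_decompose 𝒜 a]
      apply Ideal.sum_mem
      intro i _
      rcases lt_or_ge i 0 with hi | hi
      · have h : ∀ y ∈ 𝒜 i, y = 0 := by
          rw [hpos i hi]
          intro y hy
          exact (Submodule.mem_bot k).mp hy
        rw [h _ (SetLike.coe_mem _)]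
        exact Ideal.zero_mem _
      · apply Ideal.subset_span
        refine ⟨hI i ha, i.toNat, ?_⟩
        rw [natGrading_apply, Int.toNat_of_nonneg hi]
        exact SetLike.coe_mem _
    · rw [Ideal.span_le]
      rintro x ⟨hx, -⟩
      exact hx
  rw [hspan]
  apply Ideal.homogeneous_span
  rintro x ⟨-, n, hn⟩
  exact ⟨n, hn⟩

include hpos hmsp in
theorem irr_natGrading_eq :
    letI := natGradedAlgebra 𝒜 hpos
    Groth.Agent.Lib.Helper25.GrDim.irr (natGrading 𝒜) = m.toIdeal := by
  classical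
  letI := natGradedAlgebra 𝒜 hpos
  apply le_antisymm
  · apply Groth.Agent.Lib.Helper25.GrDim.irr_le_of_forall_pos
    intro n hn a ha
    rw [hmsp]
    apply Ideal.subset_span
    refine Set.mem_iUnion₂.mpr ⟨(n : ℤ), ?_, ha⟩
    rw [Set.mem_Ioi]
    exact_mod_cast hn
  · rw [hmsp, Ideal.span_le]
    intro a ha
    obtain ⟨n, hn, han⟩ := Set.mem_iUnion₂.mp ha
    rw [Set.mem_Ioi] at hn
    have han' : a ∈ natGrading 𝒜 n.toNat := by
      rw [natGrading_apply, Int.toNat_of_nonneg hn.le]
      exact han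
    rw [SetLike.mem_coe, Groth.Agent.Lib.Helper25.GrDim.mem_irr_iff,
      DirectSum.decompose_of_mem_ne (natGrading 𝒜) han' (by omega)]

variable [IsNoetherianRing R] [Module.Finite R M]

include hpos h0 hmsp ℳ in
/-- the dimension of a graded module is attained at the irrelevant ideal -/
theorem supportDim_eq_dm [Nontrivial M] [hp : m.toIdeal.IsPrime] :
    Module.supportDim R M = dm m.toIdeal M := by
  letI := natGradedAlgebra 𝒜 hpos
  have h0' := h0_of_span 𝒜 h0
  have hirr := irr_natGrading_eq 𝒜 hpos m hmsp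
  have hprime : (Groth.Agent.Lib.Helper25.GrDim.irr (natGrading 𝒜)).IsPrime := by
    rw [hirr]; exact hp
  have hI := isHomogeneous_natGrading 𝒜 hpos _ (annihilator_isHomogeneous 𝒜 ℳ)
  rw [supportDim_eq_dm_irr (natGrading 𝒜) h0' hprime M hI]
  exact (dep_dm_congr_ideal' hirr M).2

include hpos h0 hmsp in
theorem isMaximal_irr [Nontrivial R] : m.toIdeal.IsMaximal := by
  letI := natGradedAlgebra 𝒜 hpos
  have h0' := h0_of_span 𝒜 h0
  rw [← irr_natGrading_eq 𝒜 hpos m hmsp]
  exact Groth.Agent.Lib.Helper25.GrDim.irr_isMaximal (natGrading 𝒜) h0'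

include hpos h0 hmsp ℳ in
theorem annihilator_le_irr [Nontrivial M] : Module.annihilator R M ≤ m.toIdeal := by
  haveI hRnt : Nontrivial R := Module.nontrivial R M
  have hne : Module.annihilator R M ≠ ⊤ := by
    intro h
    have h1 : (1 : R) ∈ Module.annihilator R M := h ▸ Submodule.mem_top
    rw [Module.mem_annihilator] at h1
    obtain ⟨x, y, hxy⟩ := exists_pair_ne M
    exact hxy (by rw [← one_smul R x, ← one_smul R y, h1 x, h1 y])
  have hst := Groth.Agent.Lib.Helper8.GrCMk.isStarLocal_asGr 𝒜 hpos h0 m hmsp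
  have hh : (Module.annihilator R M).IsHomogeneous (asGr 𝒜) := by
    intro i a ha
    rw [coe_decompose_asGr]
    exact annihilator_isHomogeneous 𝒜 ℳ i ha
  exact Groth.Agent.Lib.Helper29GrStarLocal.le_of_ne_top (asGr 𝒜) (idealAS 𝒜 m) hst _ hh hne

include hpos h0 hmsp ℳ in
theorem smul_top_ne_top [Nontrivial M] : m.toIdeal • (⊤ : Submodule R M) ≠ ⊤ := by
  haveI hRnt : Nontrivial R := Module.nontrivial R M
  intro h
  obtain ⟨r, hr, hrN⟩ := Submodule.exists_sub_one_mem_and_smul_eq_zero_of_fg_of_le_smul m.toIdeal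
    (⊤ : Submodule R M) Module.Finite.fg_top (le_of_eq h.symm)
  have hr' : r ∈ Module.annihilator R M := by
    rw [Module.mem_annihilator]
    exact fun x => hrN x trivial
  have h1 := annihilator_le_irr 𝒜 hpos h0 m hmsp ℳ hr'
  have h2 : (1 : R) ∈ m.toIdeal := by
    have := m.toIdeal.sub_mem h1 hr
    rwa [sub_sub_cancel] at this
  exact (isMaximal_irr 𝒜 hpos h0 m hmsp).ne_top ((Ideal.eq_top_iff_one _).mpr h2)

include hpos h0 hmsp in
/-- the Cohen–Macaulay criterion for graded modules -/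
theorem cm_iff [Nontrivial M] (d : ℕ) (hd : Module.supportDim R M = d)
    (E : GrLC.StarInjRes 𝒜 ℳ) :
    (∀ (q : Ideal R) [q.IsPrime], Subsingleton (LocalizedModule q.primeCompl M) ∨
      LocCoh.IsCohenMacaulayModule (Localization.AtPrime q) (LocalizedModule q.primeCompl M)) ↔
    ∀ i, i < d → ∀ n, E.Hcomp m i n = ⊥ := by
  classical
  haveI hRnt : Nontrivial R := Module.nontrivial R M
  haveI hmax : m.toIdeal.IsMaximal := isMaximal_irr 𝒜 hpos h0 m hmsp
  haveI hprime : m.toIdeal.IsPrime := hmax.isPrime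
  have hdm : dm m.toIdeal M = d := by
    rw [← supportDim_eq_dm 𝒜 hpos h0 m hmsp ℳ]; exact hd
  haveI hnt_m : Nontrivial (LocalizedModule m.toIdeal.primeCompl M) := by
    rw [← Module.supportDim_ne_bot_iff_nontrivial (Localization.AtPrime m.toIdeal)]
    show dm m.toIdeal M ≠ ⊥
    rw [hdm]
    exact WithBot.coe_ne_bot
  have key : (∀ i, i < d → Subsingleton (LocCoh.H m.toIdeal i M)) ↔
      (d : ℕ∞) ≤ dep m.toIdeal M := by
    rw [Groth.Agent.Lib.Helper21.HZB.forall_subsingleton_H_iff_depth]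
    constructor
    · intro h
      exact h ⟨m.toIdeal, hprime⟩ le_rfl
    · intro h p hp
      have hpe : m.toIdeal = p.asIdeal := hmax.eq_of_le p.2.ne_top hp
      haveI := p.2
      have := (dep_dm_congr_ideal' hpe M).1
      unfold dep at this h
      rw [← this]
      exact h
  have hle : ((dep m.toIdeal M : ℕ∞) : WithBot ℕ∞) ≤ dm m.toIdeal M :=
    Groth.Agent.Lib.Helper28.depth_le_supportDim
  constructor
  · intro hCM i hi n
    rcases hCM m.toIdeal with hsub | hcm
    · exact absurd hsub (not_subsingleton_iff_nontrivial.mpr hnt_m)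
    · have h1 : dm m.toIdeal M = ((dep m.toIdeal M : ℕ∞) : WithBot ℕ∞) := hcm
      rw [hdm] at h1
      have h2 : (d : ℕ∞) ≤ dep m.toIdeal M := by
        have : ((d : ℕ∞) : WithBot ℕ∞) = ((dep m.toIdeal M : ℕ∞) : WithBot ℕ∞) := h1
        exact le_of_eq (WithBot.coe_injective this)
      haveI := key.mpr h2 i hi
      exact (H_subsingleton_iff_k 𝒜 m ℳ E i).mp inferInstance n
  · intro h q hq
    have h1 : ∀ i, i < d → Subsingleton (LocCoh.H m.toIdeal i M) :=
      fun i hi => (H_subsingleton_iff_k 𝒜 m ℳ E i).mpr (h i hi)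
    have h2 := key.mp h1
    have hCMm : LocCoh.IsCohenMacaulayModule (Localization.AtPrime m.toIdeal)
        (LocalizedModule m.toIdeal.primeCompl M) := by
      show dm m.toIdeal M = ((dep m.toIdeal M : ℕ∞) : WithBot ℕ∞)
      apply le_antisymm _ hle
      rw [hdm]
      exact WithBot.coe_le_coe.mpr h2
    have hst := Groth.Agent.Lib.Helper8.GrCMk.isStarLocal_asGr 𝒜 hpos h0 m hmsp
    exact cm_of_cm_at (asGr 𝒜) m.toIdeal
      (fun J hJ hne => Groth.Agent.Lib.Helper29GrStarLocal.le_of_ne_top (asGr 𝒜) (idealAS 𝒜 m)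
        hst J hJ hne) M (asGr ℳ) hCMm q

/-- Grothendieck vanishing for graded modules -/
theorem Hcomp_eq_bot_of_supportDim_lt (E : GrLC.StarInjRes 𝒜 ℳ) (i : ℕ)
    (hi : Module.supportDim R M < (i : WithBot ℕ∞)) (n : ℤ) : E.Hcomp m i n = ⊥ :=
  (H_subsingleton_iff_k 𝒜 m ℳ E i).mp (Groth.Agent.S11625.result R m.toIdeal M i hi) n

include hpos h0 hmsp in
/-- depth via graded local cohomology -/
theorem idealDepth_eq_iff [Nontrivial M] (E : GrLC.StarInjRes 𝒜 ℳ) (n : ℕ) :
    LocCoh.idealDepth m.toIdeal M = n ↔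
      (∀ i, i < n → ∀ d, E.Hcomp m i d = ⊥) ∧ ∃ d, E.Hcomp m n d ≠ ⊥ := by
  rw [Groth.Agent.S0318.result R m.toIdeal M (smul_top_ne_top 𝒜 hpos h0 m hmsp ℳ) n]
  constructor
  · rintro ⟨h1, h2⟩
    refine ⟨fun i hi => (H_subsingleton_iff_k 𝒜 m ℳ E i).mp (h1 i hi), ?_⟩
    by_contra hcon
    rw [not_exists] at hcon
    have h3 : ∀ d, E.Hcomp m n d = ⊥ := fun d => not_not.mp (hcon d)
    have := (H_subsingleton_iff_k 𝒜 m ℳ E n).mpr h3
    exact not_subsingleton_iff_nontrivial.mpr h2 this
  · rintro ⟨h1, d, hd⟩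
    refine ⟨fun i hi => (H_subsingleton_iff_k 𝒜 m ℳ E i).mpr (h1 i hi), ?_⟩
    rw [← not_subsingleton_iff_nontrivial]
    intro hsub
    exact hd ((H_subsingleton_iff_k 𝒜 m ℳ E n).mp hsub d)

end Main


end Groth.Agent.Lib.Helper8.GrMod
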