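import Groth.Agent.Lib.Helper8Seg21
import Groth.Agent.Lib.Helper8Seg22
import Groth.Agent.S18647

/-!
# The Cohen–Macaulay property of Segre products (helper8)
-/

set_option autoImplicit false
set_option linter.unusedSectionVars false
set_option linter.style.haveILetI false
universe u
open TensorProduct DirectSum Cardinal

noncomputable section

namespace Groth.Agent.Lib.Helper8.Seg

open Groth.Agent.Lib.Helper29GrConv Groth.Agent.Lib.Helper8.GrCMk

section Num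

/-- the numerical heart of the Cohen–Macaulay criterion -/
theorem num_iff (r s : ℕ) (h1r : 1 ≤ r) (h1s : 1 ≤ s) (a b : ℕ) (x y : ℕ → ℕ)
    (hx : ∀ i, i ≠ r → x i = 0) (hy : ∀ j, j ≠ s → y j = 0) :
    (∀ q, q < r + s - 1 →
      a * y q + x q * b + ∑ i ∈ Finset.range (q + 2), x i * y (q + 1 - i) = 0) ↔
    (2 ≤ r → a = 0 ∨ y s = 0) ∧ (2 ≤ s → x r = 0 ∨ b = 0) := by
  constructor
  · intro h
    constructor
    · intro h2r
      have h1 := h s (by omega)
      have h2 : a * y s = 0 := by omega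
      exact Nat.mul_eq_zero.mp h2
    · intro h2s
      have h1 := h r (by omega)
      have h2 : x r * b = 0 := by omega
      exact Nat.mul_eq_zero.mp h2
  · rintro ⟨ha, hb⟩ q hq
    have e1 : a * y q = 0 := by
      by_cases hqs : q = s
      · subst hqs
        exact Nat.mul_eq_zero.mpr (ha (by omega))
      · rw [hy q hqs, mul_zero]
    have e2 : x q * b = 0 := by
      by_cases hqr : q = r
      · subst hqr
        exact Nat.mul_eq_zero.mpr (hb (by omega))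
      · rw [hx q hqr, zero_mul]
    have e3 : ∑ i ∈ Finset.range (q + 2), x i * y (q + 1 - i) = 0 := by
      apply Finset.sum_eq_zero
      intro i hi
      rw [Finset.mem_range] at hi
      by_cases hir : i = r
      · subst hir
        rw [hy (q + 1 - i) (by omega), mul_zero]
      · rw [hx i hir, zero_mul]
    rw [e1, e2, e3]

end Num

section Field

variable {A : Type u} [CommRing A] (hA : IsField A) {V : Type u} [AddCommGroup V] [Module A V]

include hA in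
theorem eq_bot_iff_finrank_eq_zero (W : Submodule A V) (h : Module.rank A W < ℵ₀) :
    W = ⊥ ↔ Module.finrank A W = 0 := by
  letI := hA.toField
  haveI : Module.Finite A W := Module.rank_lt_aleph0_iff.mp h
  exact Submodule.finrank_eq_zero.symm

end Field

section Pieces

variable {k : Type u} [Field k] {R : Type u} [CommRing R] [Algebra k R]
  (𝒜 : ℤ → Submodule k R) [GradedAlgebra 𝒜]
  (hpos : ∀ n : ℤ, n < 0 → 𝒜 n = ⊥) (h0 : 𝒜 0 = Submodule.span k {(1 : R)})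
  (m : HomogeneousIdeal 𝒜)
  (hmsp : m.toIdeal = Ideal.span (⋃ n ∈ Set.Ioi (0 : ℤ), (𝒜 n : Set R)))

include h0 in
theorem isField_deg0_submodule [Nontrivial R] : IsField (GrLC.deg0 𝒜) where
  exists_pair_ne := ⟨0, 1, zero_ne_one⟩
  mul_comm := mul_comm
  mul_inv_cancel := by
    intro a ha
    obtain ⟨c, hc⟩ := exists_algebraMap_of_span h0 a.1 a.2
    have hc0 : c ≠ 0 := by
      rintro rfl
      apply ha
      apply Subtype.ext
      rw [← hc, map_zero]
      rfl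
    refine ⟨⟨algebraMap k R c⁻¹, SetLike.algebraMap_mem_graded 𝒜 c⁻¹⟩, Subtype.ext ?_⟩
    show a.1 * algebraMap k R c⁻¹ = 1
    rw [← hc, ← map_mul, mul_inv_cancel₀ hc0, map_one]

include h0 in
/-- the pieces of a Noetherian graded ring over a field are finite dimensional -/
theorem finite_piece [Nontrivial R] [IsNoetherianRing R] (d : ℤ) : Module.Finite k (𝒜 d) := by
  let i₀ : k → ↥(GrLC.deg0 𝒜) := fun c =>
    ⟨algebraMap k R c, SetLike.algebraMap_mem_graded 𝒜 c⟩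
  have hi₀ : Function.Bijective i₀ :=
    ⟨fun c c' h => (algebraMap k R).injective (congrArg Subtype.val h), fun t => by
      obtain ⟨c, hc⟩ := exists_algebraMap_of_span h0 t.1 t.2
      exact ⟨c, Subtype.ext hc⟩⟩
  let j : ↥(𝒜 d) ≃+ ↥(GrLC.comp 𝒜 (asGr 𝒜) d) :=
    { toFun := fun x => ⟨x.1, x.2⟩
      invFun := fun x => ⟨x.1, x.2⟩
      left_inv := fun _ => rfl
      right_inv := fun _ => rfl
      map_add' := fun _ _ => rfl }
  have hc : ∀ (c : k) (x : ↥(𝒜 d)), j (c • x) = i₀ c • j x := by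
    intro c x
    apply Subtype.ext
    show c • (x : R) = algebraMap k R c * (x : R)
    rw [Algebra.smul_def]
  have h1 := rank_eq_of_equiv_equiv i₀ j hi₀ hc
  apply Module.rank_lt_aleph0_iff.mp
  rw [h1]
  exact rank_comp_lt_aleph0 (asGr 𝒜) d

theorem piece_eq_bot_iff [Nontrivial R] [IsNoetherianRing R]
    (h0 : 𝒜 0 = Submodule.span k {(1 : R)}) (d : ℤ) :
    𝒜 d = ⊥ ↔ Module.finrank k (𝒜 d) = 0 := by
  haveI := finite_piece 𝒜 h0 d
  exact Submodule.finrank_eq_zero.symm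

include hpos h0 hmsp in
theorem Hcomp_eq_bot_iff_finrank [Nontrivial R] [IsNoetherianRing R] (I : GrLC.StarInjRes 𝒜 𝒜)
    (i : ℕ) (d : ℤ) :
    I.Hcomp m i d = ⊥ ↔ Module.finrank (GrLC.deg0 𝒜) (I.Hcomp m i d) = 0 :=
  eq_bot_iff_finrank_eq_zero (isField_deg0_submodule 𝒜 h0) (I.Hcomp m i d)
    (rank_Hcomp_lt_aleph0 (asGr 𝒜) (selfRes I) m hpos hmsp i d)

end Pieces

section Main

variable {k : Type u} [Field k] {R S T : Type u} [CommRing R] [CommRing S] [CommRing T]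
  [Algebra k R] [Algebra k S] [Algebra k T]
variable {𝒜 : ℤ → Submodule k R} [GradedAlgebra 𝒜] {ℬ : ℤ → Submodule k S} [GradedAlgebra ℬ]
  (𝒯 : ℤ → Submodule k T) [GradedAlgebra 𝒯] (ψ : T →ₐ[k] R ⊗[k] S)
  (hT : GrSeg.IsSegreRing 𝒜 ℬ 𝒯 ψ)

include hT in
theorem segre_pos (hposR : ∀ n : ℤ, n < 0 → 𝒜 n = ⊥) : ∀ n : ℤ, n < 0 → 𝒯 n = ⊥ := by
  intro n hn
  rw [eq_bot_iff]
  intro t ht
  have h1 : ψ t ∈ GrSeg.segrePiece k 𝒜 ℬ n := by
    rw [← hT.2 n]; exact ⟨t, ht, rfl⟩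
  have h2 : GrSeg.segrePiece k 𝒜 ℬ n ≤ ⊥ := by
    unfold GrSeg.segrePiece
    rw [Submodule.span_le]
    rintro _ ⟨a, ha, b, hb, rfl⟩
    rw [hposR n hn] at ha
    rw [(Submodule.mem_bot k).mp ha, TensorProduct.zero_tmul]
    exact zero_mem _
  have h3 : ψ t = 0 := (Submodule.mem_bot k).mp (h2 h1)
  exact (Submodule.mem_bot k).mpr (hT.1 (by rw [h3, map_zero]))

include hT in
theorem segre_zero (h0R : 𝒜 0 = Submodule.span k {(1 : R)})
    (h0S : ℬ 0 = Submodule.span k {(1 : S)}) : 𝒯 0 = Submodule.span k {(1 : T)} := by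
  apply le_antisymm
  · intro t ht
    obtain ⟨c, rfl⟩ := exists_algebraMap_segre 𝒯 ψ hT h0R h0S t ht
    rw [Algebra.algebraMap_eq_smul_one]
    exact Submodule.smul_mem _ c (Submodule.mem_span_singleton_self 1)
  · rw [Submodule.span_le, Set.singleton_subset_iff]
    exact SetLike.one_mem_graded 𝒯

include hT in
/-- The Cohen–Macaulay criterion for Segre products of Cohen–Macaulay graded rings. -/
theorem isCohenMacaulayRing_segre_iff [LocCoh.IsCohenMacaulayRing R]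
    [LocCoh.IsCohenMacaulayRing S]
    (hposR : ∀ n : ℤ, n < 0 → 𝒜 n = ⊥) (h0R : 𝒜 0 = Submodule.span k {(1 : R)})
    [Algebra.FiniteType k R]
    (hposS : ∀ n : ℤ, n < 0 → ℬ n = ⊥) (h0S : ℬ 0 = Submodule.span k {(1 : S)})
    [Algebra.FiniteType k S]
    (mR : HomogeneousIdeal 𝒜)
    (hmR : mR.toIdeal = Ideal.span (⋃ n ∈ Set.Ioi (0 : ℤ), (𝒜 n : Set R)))
    (I : GrLC.StarInjRes 𝒜 𝒜)
    (mS : HomogeneousIdeal ℬ)
    (hmS : mS.toIdeal = Ideal.span (⋃ n ∈ Set.Ioi (0 : ℤ), (ℬ n : Set S)))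
    (J : GrLC.StarInjRes ℬ ℬ)
    (r s : ℕ) (hr : ringKrullDim R = r) (hs : ringKrullDim S = s) (h1r : 1 ≤ r) (h1s : 1 ≤ s) :
    LocCoh.IsCohenMacaulayRing T ↔
      (2 ≤ r → ∀ n : ℤ, 𝒜 n = ⊥ ∨ J.Hcomp mS s n = ⊥) ∧
      (2 ≤ s → ∀ n : ℤ, I.Hcomp mR r n = ⊥ ∨ ℬ n = ⊥) := by
  classical
  haveI : Nontrivial R := by
    by_contra hnt
    rw [not_nontrivial_iff_subsingleton] at hnt
    rw [ringKrullDim_eq_bot_of_subsingleton] at hr
    exact WithBot.bot_ne_coe hr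
  haveI : Nontrivial S := by
    by_contra hnt
    rw [not_nontrivial_iff_subsingleton] at hnt
    rw [ringKrullDim_eq_bot_of_subsingleton] at hs
    exact WithBot.bot_ne_coe hs
  haveI : IsNoetherianRing R := Algebra.FiniteType.isNoetherianRing k R
  haveI : IsNoetherianRing S := Algebra.FiniteType.isNoetherianRing k S
  haveI : IsNoetherianRing T :=
    Groth.Agent.S18646.result k R 𝒜 hposR h0R S ℬ hposS h0S T 𝒯 ψ hT.1 hT.2
  haveI : Nontrivial (R ⊗[k] S) :=
    Algebra.TensorProduct.nontrivial_of_algebraMap_injective_of_flat_left k R S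
      (algebraMap k S).injective
  haveI : Nontrivial T := ψ.toRingHom.domain_nontrivial
  have hposT := segre_pos 𝒯 ψ hT hposR
  have h0T := segre_zero 𝒯 ψ hT h0R h0S
  obtain ⟨IT⟩ : Nonempty (GrLC.StarInjRes 𝒯 𝒯) := Groth.Agent.Lib.Helper29GrConv2.exists_res 𝒯
  have hdimT : ringKrullDim T = ((r + s - 1 : ℕ) : WithBot ℕ∞) :=
    Groth.Agent.S18647.result k R 𝒜 hposR h0R S ℬ hposS h0S T 𝒯 ψ hT.1 hT.2 r s hr hs h1r h1s
  have crit := isCohenMacaulayRing_iff 𝒯 hposT h0T (irr 𝒯) (irr_toIdeal 𝒯) (r + s - 1) hdimT IT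
  have hxR : ∀ i, i ≠ r → ∀ d, I.Hcomp mR i d = ⊥ := by
    intro i hi d
    rcases lt_or_gt_of_ne hi with h | h
    · exact (isCohenMacaulayRing_iff 𝒜 hposR h0R mR hmR r hr I).mp inferInstance i h d
    · exact Hcomp_eq_bot_of_dim_lt 𝒜 mR r hr I i h d
  have hyS : ∀ j, j ≠ s → ∀ d, J.Hcomp mS j d = ⊥ := by
    intro j hj d
    rcases lt_or_gt_of_ne hj with h | h
    · exact (isCohenMacaulayRing_iff ℬ hposS h0S mS hmS s hs J).mp inferInstance j h d
    · exact Hcomp_eq_bot_of_dim_lt ℬ mS s hs J j h d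
  have formula := fun (q : ℕ) (d : ℤ) => finrank_Hcomp_segre_ring 𝒯 ψ hT hposR h0R hposS h0S
    mR hmR I mS hmS J (irr 𝒯) (irr_toIdeal 𝒯) IT d (hxR 0 (by omega) d) (hyS 0 (by omega) d) q
  have hx : ∀ d i, i ≠ r → Module.finrank (GrLC.deg0 𝒜) (I.Hcomp mR i d) = 0 := by
    intro d i hi
    rw [hxR i hi d]
    exact finrank_bot _ _
  have hy : ∀ d j, j ≠ s → Module.finrank (GrLC.deg0 ℬ) (J.Hcomp mS j d) = 0 := by
    intro d j hj
    rw [hyS j hj d]
    exact finrank_bot _ _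
  have hnum := fun (d : ℤ) => num_iff r s h1r h1s (Module.finrank k (𝒜 d))
    (Module.finrank k (ℬ d)) (fun i => Module.finrank (GrLC.deg0 𝒜) (I.Hcomp mR i d))
    (fun j => Module.finrank (GrLC.deg0 ℬ) (J.Hcomp mS j d)) (hx d) (hy d)
  rw [crit]
  constructor
  · intro h
    have hd := fun (d : ℤ) => (hnum d).mp (fun q hq => by
      rw [← formula q d]
      exact (Hcomp_eq_bot_iff_finrank 𝒯 hposT h0T (irr 𝒯) (irr_toIdeal 𝒯) IT q d).mp (h q hq d))
    refine ⟨fun h2r n => ?_, fun h2s n => ?_⟩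
    · rcases (hd n).1 h2r with h' | h'
      · exact Or.inl ((piece_eq_bot_iff 𝒜 h0R n).mpr h')
      · exact Or.inr ((Hcomp_eq_bot_iff_finrank ℬ hposS h0S mS hmS J s n).mpr h')
    · rcases (hd n).2 h2s with h' | h'
      · exact Or.inl ((Hcomp_eq_bot_iff_finrank 𝒜 hposR h0R mR hmR I r n).mpr h')
      · exact Or.inr ((piece_eq_bot_iff ℬ h0S n).mpr h')
  · rintro ⟨h1, h2⟩ q hq d
    rw [Hcomp_eq_bot_iff_finrank 𝒯 hposT h0T (irr 𝒯) (irr_toIdeal 𝒯) IT q d, formula q d]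
    refine (hnum d).mpr ⟨fun h2r => ?_, fun h2s => ?_⟩ q hq
    · exact (h1 h2r d).imp (piece_eq_bot_iff 𝒜 h0R d).mp
        (Hcomp_eq_bot_iff_finrank ℬ hposS h0S mS hmS J s d).mp
    · exact (h2 h2s d).imp (Hcomp_eq_bot_iff_finrank 𝒜 hposR h0R mR hmR I r d).mp
        (piece_eq_bot_iff ℬ h0S d).mp

end Main

end Groth.Agent.Lib.Helper8.Seg
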