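import Groth.Agent.Lib.Helper8GrModA
import Groth.Agent.Lib.Helper8Seg23
import Groth.Agent.Lib.Helper24SegreFin3

/-!
# Segre products of graded modules: the grading is compatible with the action, and the
vanishing form of the Künneth formula (helper8)
-/

set_option autoImplicit false
set_option linter.unusedSectionVars false
set_option linter.style.haveILetI false
universe u
open TensorProduct DirectSum Cardinal

noncomputable section

namespace Groth.Agent.Lib.Helper8.GrMod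

open Groth.Agent.Lib.Helper29GrConv Groth.Agent.Lib.Helper8.Seg

section Segre

variable {k : Type u} [Field k] {R S T : Type u} [CommRing R] [CommRing S] [CommRing T]
  [Algebra k R] [Algebra k S] [Algebra k T]
variable {𝒜 : ℤ → Submodule k R} [GradedAlgebra 𝒜] {ℬ : ℤ → Submodule k S} [GradedAlgebra ℬ]
  (𝒯 : ℤ → Submodule k T) [GradedAlgebra 𝒯] (ψ : T →ₐ[k] R ⊗[k] S)
  (hT : GrSeg.IsSegreRing 𝒜 ℬ 𝒯 ψ)
variable {M : Type u} [AddCommGroup M] [Module R M] [Module k M] [IsScalarTower k R M]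
  (ℳ : ℤ → AddSubgroup M) [DirectSum.Decomposition ℳ] [SetLike.GradedSMul 𝒜 ℳ]
  {N : Type u} [AddCommGroup N] [Module S N] [Module k N] [IsScalarTower k S N]
  (𝒩 : ℤ → AddSubgroup N) [DirectSum.Decomposition 𝒩] [SetLike.GradedSMul ℬ 𝒩]
  {P : Type u} [AddCommGroup P] [Module T P] [Module k P] [IsScalarTower k T P]
  (𝒬 : ℤ → AddSubgroup P) [DirectSum.Decomposition 𝒬]
  (φ : P →ₗ[k] M ⊗[k] N) (hP : GrSeg.IsSegreMod ψ ℳ 𝒩 𝒬 φ)

include hT hP in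
/-- the grading of a Segre product of modules is compatible with the action of the Segre
product of the rings -/
theorem gradedSMul_of_isSegreMod : SetLike.GradedSMul 𝒯 𝒬 where
  smul_mem := by
    intro i j t p ht hp
    have hb : ψ t ∈ GrSeg.segrePiece k 𝒜 ℬ i := by
      rw [← hT.2 i]
      exact ⟨t, ht, rfl⟩
    have hz : φ p ∈ GrSeg.segrePiece k ℳ 𝒩 j := by
      have : φ p ∈ φ '' (𝒬 j : Set P) := ⟨p, hp, rfl⟩
      rw [hP.image_piece j] at this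
      exact this
    have h1 := act_mem_segrePiece 𝒜 ℬ ℳ 𝒩 hb hz
    rw [← hP.map_smul] at h1
    have h2 : φ (t • p) ∈ φ '' (𝒬 (i + j) : Set P) := by
      rw [hP.image_piece (i + j)]
      exact h1
    obtain ⟨p', hp', hpp⟩ := h2
    rw [vadd_eq_add, ← hP.injective hpp]
    exact hp'

theorem comp_eq_bot_iff (d : ℤ) : GrLC.comp 𝒜 ℳ d = ⊥ ↔ ℳ d = ⊥ := by
  constructor
  · intro h
    rw [eq_bot_iff]
    intro x hx
    have : x ∈ GrLC.comp 𝒜 ℳ d := hx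
    rw [h] at this
    exact (AddSubgroup.mem_bot).mpr ((Submodule.mem_bot _).mp this)
  · intro h
    rw [eq_bot_iff]
    intro x hx
    have : x ∈ ℳ d := hx
    rw [h] at this
    exact (Submodule.mem_bot _).mpr ((AddSubgroup.mem_bot).mp this)

include hT hP in
/-- the vanishing form of the Künneth formula for Segre products of modules -/
theorem Hcomp_segre_eq_bot_iff [Nontrivial R] [Nontrivial S]
    (hposR : ∀ n : ℤ, n < 0 → 𝒜 n = ⊥) (h0R : 𝒜 0 = Submodule.span k {(1 : R)})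
    [Algebra.FiniteType k R]
    (hposS : ∀ n : ℤ, n < 0 → ℬ n = ⊥) (h0S : ℬ 0 = Submodule.span k {(1 : S)})
    [Algebra.FiniteType k S]
    (mR : HomogeneousIdeal 𝒜)
    (hmR : mR.toIdeal = Ideal.span (⋃ n ∈ Set.Ioi (0 : ℤ), (𝒜 n : Set R)))
    (mS : HomogeneousIdeal ℬ)
    (hmS : mS.toIdeal = Ideal.span (⋃ n ∈ Set.Ioi (0 : ℤ), (ℬ n : Set S)))
    (mT : HomogeneousIdeal 𝒯)
    (hmT : mT.toIdeal = Ideal.span (⋃ n ∈ Set.Ioi (0 : ℤ), (𝒯 n : Set T)))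
    [Module.Finite R M] (EM : GrLC.StarInjRes 𝒜 ℳ)
    [Module.Finite S N] (EN : GrLC.StarInjRes ℬ 𝒩)
    [SetLike.GradedSMul 𝒯 𝒬] (EP : GrLC.StarInjRes 𝒯 𝒬)
    (d : ℤ) (hM : EM.Hcomp mR 0 d = ⊥) (hN : EN.Hcomp mS 0 d = ⊥) (q : ℕ) :
    EP.Hcomp mT q d = ⊥ ↔
      (ℳ d = ⊥ ∨ EN.Hcomp mS q d = ⊥) ∧ (EM.Hcomp mR q d = ⊥ ∨ 𝒩 d = ⊥) ∧
        ∀ i ∈ Finset.range (q + 2), EM.Hcomp mR i d = ⊥ ∨ EN.Hcomp mS (q + 1 - i) d = ⊥ := by
  classical
  haveI hRn : IsNoetherianRing R := Algebra.FiniteType.isNoetherianRing k R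
  haveI hSn : IsNoetherianRing S := Algebra.FiniteType.isNoetherianRing k S
  haveI hTn : IsNoetherianRing T :=
    Groth.Agent.S18646.result k R 𝒜 hposR h0R S ℬ hposS h0S T 𝒯 ψ hT.1 hT.2
  haveI hTnt : Nontrivial T := by
    have : Function.Injective ψ := hT.1
    exact ⟨⟨0, 1, fun h => by
      have h1 : ψ 0 = ψ 1 := by rw [h]
      rw [map_zero, map_one] at h1
      exact zero_ne_one h1⟩⟩
  haveI hPfin : Module.Finite T P :=
    Groth.Agent.Lib.Helper24SegreFin3.s19747 k R 𝒜 hposR h0R S ℬ hposS h0S T 𝒯 ψ hT M ℳ N 𝒩 P 𝒬 φ hP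
  have hposT := segre_pos 𝒯 ψ hT hposR
  have h0T := segre_zero 𝒯 ψ hT h0R h0S
  have hFR := isField_deg0_submodule 𝒜 h0R
  have hFS := isField_deg0_submodule ℬ h0S
  have hFT := isField_deg0_submodule 𝒯 h0T
  have eP : EP.Hcomp mT q d = ⊥ ↔ Module.finrank (GrLC.deg0 𝒯) (EP.Hcomp mT q d) = 0 :=
    eq_bot_iff_finrank_eq_zero hFT _ (rank_Hcomp_lt_aleph0 𝒬 EP mT hposT hmT q d)
  have eM : ∀ i, EM.Hcomp mR i d = ⊥ ↔ Module.finrank (GrLC.deg0 𝒜) (EM.Hcomp mR i d) = 0 :=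
    fun i => eq_bot_iff_finrank_eq_zero hFR _ (rank_Hcomp_lt_aleph0 ℳ EM mR hposR hmR i d)
  have eN : ∀ i, EN.Hcomp mS i d = ⊥ ↔ Module.finrank (GrLC.deg0 ℬ) (EN.Hcomp mS i d) = 0 :=
    fun i => eq_bot_iff_finrank_eq_zero hFS _ (rank_Hcomp_lt_aleph0 𝒩 EN mS hposS hmS i d)
  have cM : ℳ d = ⊥ ↔ Module.finrank (GrLC.deg0 𝒜) (GrLC.comp 𝒜 ℳ d) = 0 := by
    rw [← comp_eq_bot_iff (𝒜 := 𝒜) ℳ d]
    exact eq_bot_iff_finrank_eq_zero hFR _ (rank_comp_lt_aleph0 ℳ d)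
  have cN : 𝒩 d = ⊥ ↔ Module.finrank (GrLC.deg0 ℬ) (GrLC.comp ℬ 𝒩 d) = 0 := by
    rw [← comp_eq_bot_iff (𝒜 := ℬ) 𝒩 d]
    exact eq_bot_iff_finrank_eq_zero hFS _ (rank_comp_lt_aleph0 𝒩 d)
  rw [eP, finrank_Hcomp_segre 𝒯 ψ hT hposR h0R hposS h0S mR hmR mS hmS mT hmT ℳ EM 𝒩 EN 𝒬 φ hP EP d
    hM hN q, Nat.add_eq_zero_iff, Nat.add_eq_zero_iff, Nat.mul_eq_zero, Nat.mul_eq_zero,
    Finset.sum_eq_zero_iff, ← cM, ← cN, ← eM, ← eN, and_assoc]
  refine and_congr_right (fun _ => and_congr_right (fun _ => ?_))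
  refine forall₂_congr (fun i _ => ?_)
  rw [Nat.mul_eq_zero, ← eM, ← eN]

end Segre

end Groth.Agent.Lib.Helper8.GrMod
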