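import Groth.Agent.Lib.Helper8Seg38
import Groth.Agent.Lib.Helper8CanonExist
import Groth.Agent.S17771
import Groth.Agent.S18656
import Groth.Agent.S18657

/-!
# Numerics of the canonical module of a standard graded Cohen–Macaulay algebra (helper8)
-/

set_option autoImplicit false
set_option linter.unusedSectionVars false
set_option linter.style.haveILetI false
universe u
open TensorProduct DirectSum Cardinal

noncomputable section

namespace Groth.Agent.Lib.Helper8.Seg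

open Groth.Agent.Lib.Helper29GrConv Groth.Agent.Lib.Helper29GrConv2
  Groth.Agent.Lib.Helper29GrShift Groth.Agent.Lib.Helper8.GrCMk

section LA

variable {k : Type u} [Field k]

/-- over a field a pure tensor vanishes only if one of its factors does -/
theorem tmul_eq_zero_field {V W : Type u} [AddCommGroup V] [Module k V] [AddCommGroup W]
    [Module k W] {v : V} {w : W} (h : v ⊗ₜ[k] w = 0) : v = 0 ∨ w = 0 := by
  by_contra hcon
  push Not at hcon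
  obtain ⟨hv, hw⟩ := hcon
  obtain ⟨μ, hμ⟩ : ∃ μ : Module.Dual k V, μ v ≠ 0 := by
    by_contra hc
    push Not at hc
    exact hv ((Module.forall_dual_apply_eq_zero_iff k v).1 hc)
  obtain ⟨ν, hν⟩ : ∃ ν : Module.Dual k W, ν w ≠ 0 := by
    by_contra hc
    push Not at hc
    exact hw ((Module.forall_dual_apply_eq_zero_iff k w).1 hc)
  have h1 : TensorProduct.dualDistrib k V W (μ ⊗ₜ[k] ν) (v ⊗ₜ[k] w) = μ v * ν w := rfl
  rw [h, map_zero] at h1
  exact mul_ne_zero hμ hν h1.symm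

/-- an element of `WithBot (WithTop ℤ)` between two integers is an integer -/
theorem exists_int_eq (x : WithBot (WithTop ℤ)) (l : ℤ)
    (h1 : ((l : WithTop ℤ) : WithBot (WithTop ℤ)) ≤ x) (h2 : x < 0) :
    ∃ a : ℤ, x = ((a : WithTop ℤ) : WithBot (WithTop ℤ)) := by
  induction x using WithBot.recBotCoe with
  | bot => exact absurd h1 (by simp)
  | coe y =>
    induction y using WithTop.recTopCoe with
    | top =>
      exfalso
      have h00 : (0 : WithBot (WithTop ℤ)) = (((0 : ℤ) : WithTop ℤ) : WithBot (WithTop ℤ)) := rfl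
      rw [h00, WithBot.coe_lt_coe] at h2
      exact absurd h2 (by simp)
    | coe a => exact ⟨a, rfl⟩

end LA

section Swap

variable {k : Type u} [Field k] {R S T : Type u} [CommRing R] [CommRing S] [CommRing T]
  [Algebra k R] [Algebra k S] [Algebra k T]
variable {𝒜 : ℤ → Submodule k R} [GradedAlgebra 𝒜] {ℬ : ℤ → Submodule k S} [GradedAlgebra ℬ]
  (𝒯 : ℤ → Submodule k T) [GradedAlgebra 𝒯] (ψ : T →ₐ[k] R ⊗[k] S)
  (hT : GrSeg.IsSegreRing 𝒜 ℬ 𝒯 ψ)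

/-- the swapped presentation `T → S ⊗ R` -/
def swapPsi : T →ₐ[k] S ⊗[k] R := ((Algebra.TensorProduct.comm k R S) : R ⊗[k] S →ₐ[k] S ⊗[k] R).comp ψ

include hT in
theorem isSegreRing_swap : GrSeg.IsSegreRing ℬ 𝒜 𝒯 (swapPsi ψ) := by
  refine ⟨fun x y h => hT.1 ((Algebra.TensorProduct.comm k R S).injective h), fun n => ?_⟩
  have h1 : (swapPsi ψ).toLinearMap =
      ((Algebra.TensorProduct.comm k R S).toLinearEquiv.toLinearMap).comp ψ.toLinearMap := rfl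
  rw [h1, Submodule.map_comp, hT.2 n]
  unfold GrSeg.segrePiece
  rw [Submodule.map_span]
  congr 1
  ext z
  constructor
  · rintro ⟨_, ⟨a, ha, b, hb, rfl⟩, rfl⟩
    exact ⟨b, hb, a, ha, rfl⟩
  · rintro ⟨b, hb, a, ha, rfl⟩
    exact ⟨a ⊗ₜ[k] b, ⟨a, ha, b, hb, rfl⟩, rfl⟩

end Swap

section Numerics

variable {k : Type u} [Field k] {R : Type u} [CommRing R] [Algebra k R]
  (𝒜 : ℤ → Submodule k R) [GradedAlgebra 𝒜]
  {C : Type u} [AddCommGroup C] [Module R C] [Module k C] [IsScalarTower k R C]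
  (𝒞 : ℤ → AddSubgroup C) [DirectSum.Decomposition 𝒞] [SetLike.GradedSMul 𝒜 𝒞]

/-- the pieces of a graded module over the degree zero subring and over the base field -/
theorem finrank_comp_eq_degK [Nontrivial R] (hk : ∀ r ∈ 𝒜 0, ∃ c : k, algebraMap k R c = r)
    (d : ℤ) :
    Module.finrank (GrLC.deg0 𝒜) (GrLC.comp 𝒜 𝒞 d) = Module.finrank k (degK 𝒜 𝒞 d) := by
  let i₀ : k → ↥(GrLC.deg0 𝒜) := fun c =>
    ⟨algebraMap k R c, SetLike.algebraMap_mem_graded 𝒜 c⟩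
  have hi₀ : Function.Bijective i₀ :=
    ⟨fun c c' h => (algebraMap k R).injective (congrArg Subtype.val h), fun t => by
      obtain ⟨c, hc⟩ := hk t.1 t.2
      exact ⟨c, Subtype.ext hc⟩⟩
  let j : ↥(degK 𝒜 𝒞 d) ≃+ ↥(GrLC.comp 𝒜 𝒞 d) :=
    { toFun := fun x => ⟨x.1, x.2⟩
      invFun := fun x => ⟨x.1, x.2⟩
      left_inv := fun _ => rfl
      right_inv := fun _ => rfl
      map_add' := fun _ _ => rfl }
  have hc : ∀ (c : k) (x : ↥(degK 𝒜 𝒞 d)), j (c • x) = i₀ c • j x := by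
    intro c x
    apply Subtype.ext
    show c • (x : C) = algebraMap k R c • (x : C)
    rw [algebraMap_smul]
  exact (congrArg Cardinal.toNat (rank_eq_of_equiv_equiv i₀ j hi₀ hc)).symm

variable (hpos : ∀ n : ℤ, n < 0 → 𝒜 n = ⊥) (h0 : 𝒜 0 = Submodule.span k {(1 : R)})
  (hstd : Ideal.span (⋃ n ∈ Set.Ioi (0 : ℤ), (𝒜 n : Set R)) =
    Ideal.span ((𝒜 1 : Submodule k R) : Set R))
  (m : HomogeneousIdeal 𝒜)
  (hmsp : m.toIdeal = Ideal.span (⋃ n ∈ Set.Ioi (0 : ℤ), (𝒜 n : Set R)))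
  {E' : Type u} [AddCommGroup E'] [Module R E'] (𝓔 : ℤ → AddSubgroup E')
  [DirectSum.Decomposition 𝓔] [SetLike.GradedSMul 𝒜 𝓔]

include hpos h0 hstd hmsp in
/-- the pieces of the canonical module of a standard graded Cohen–Macaulay algebra of dimension
`≥ 2` with negative a-invariant `a`: zero below `-a`, nonzero from `-a` on, of dimension `≥ 2`
above `-a` -/
theorem canon_numerics [Nontrivial R] [Algebra.FiniteType k R] [LocCoh.IsCohenMacaulayRing R]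
    (n : ℕ) (hn : ringKrullDim R = ((n + 1 : ℕ) : WithBot ℕ∞)) (h1 : 1 ≤ n)
    (I : GrLC.StarInjRes 𝒜 𝒜) (e : (R ⧸ m.toIdeal) →ₗ[R] E')
    (he : GrLC.IsStarInjHull 𝒜 (GrLC.quotGr 𝒜 m) 𝓔 e)
    (hC : GrLC.IsStarCanonical 𝒜 𝒞 𝓔 m (n + 1) I)
    (hneg : GrLC.endDeg (I.Hgr m (n + 1)) < 0) :
    ∃ a : ℤ, GrLC.endDeg (I.Hgr m (n + 1)) = ((a : WithTop ℤ) : WithBot (WithTop ℤ)) ∧
      (∀ i : ℤ, i < -a → 𝒞 i = ⊥) ∧
      (∀ i : ℤ, -a ≤ i → 1 ≤ Module.finrank k (degK 𝒜 𝒞 i)) ∧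
      (∀ i : ℤ, -a < i → 2 ≤ Module.finrank k (degK 𝒜 𝒞 i)) := by
  classical
  haveI hNR : IsNoetherianRing R := Algebra.FiniteType.isNoetherianRing k R
  have hposA := asGr_pos 𝒜 hpos
  have hF := isField_deg0 𝒜 h0
  have hm := isStarLocal_asGr 𝒜 hpos h0 m hmsp
  have hkR := exists_algebraMap_of_span (𝒜 := 𝒜) h0
  have hstdA : Ideal.span (⋃ n ∈ Set.Ioi (0 : ℤ), (asGr 𝒜 n : Set R)) =
      Ideal.span ((asGr 𝒜 1 : AddSubgroup R) : Set R) := hstd
  have hmspA : (idealAS 𝒜 m).toIdeal =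
      Ideal.span (⋃ n ∈ Set.Ioi (0 : ℤ), (asGr 𝒜 n : Set R)) := hmsp
  have he' := isStarInjHull_asGr 𝒜 𝓔 m e he
  have hC' := isStarCanonical_asGr 𝒜 𝓔 𝒞 m n I hC
  haveI hfinC : Module.Finite R C := hC.1
  have hend : GrLC.endDeg (I.Hgr m (n + 1)) =
      GrLC.endDeg ((resAS I).Hgr (idealAS 𝒜 m) (n + 1)) := by
    apply endDeg_congr
    intro d
    constructor
    · intro h
      have h1 : I.Hcomp m (n + 1) d = ⊥ := Submodule.toAddSubgroup_injective (h.trans rfl)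
      exact congrArg Submodule.toAddSubgroup ((Hcomp_resAS_eq_bot_iff I m (n + 1) d).mpr h1)
    · intro h
      have h1 : (resAS I).Hcomp (idealAS 𝒜 m) (n + 1) d = ⊥ :=
        Submodule.toAddSubgroup_injective (h.trans rfl)
      exact congrArg Submodule.toAddSubgroup ((Hcomp_resAS_eq_bot_iff I m (n + 1) d).mp h1)
  haveI hArt : IsArtinianRing (GrLC.deg0 (asGr 𝒜)) := (deg0Equiv 𝒜 h0).isArtinianRing
  have hge := Groth.Agent.S17771.result R (asGr 𝒜) hposA hstdA (idealAS 𝒜 m) hm (n + 1) hn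
    (resAS I)
  rw [← hend] at hge
  obtain ⟨a, ha⟩ := exists_int_eq _ _ hge hneg
  have haA : GrLC.endDeg ((resAS I).Hgr (idealAS 𝒜 m) (n + 1)) =
      ((a : WithTop ℤ) : WithBot (WithTop ℤ)) := hend ▸ ha
  -- finiteness
  have hF' : IsField (GrLC.deg0 𝒜) := hF
  letI : Field (GrLC.deg0 𝒜) := hF'.toField
  haveI hfinH : ∀ d : ℤ, Module.Finite (GrLC.deg0 𝒜) ↥(I.Hcomp m (n + 1) d) := fun d =>
    Module.rank_lt_aleph0_iff.mp
      (rank_Hcomp_lt_aleph0 (asGr 𝒜) (selfRes I) m hpos hmsp (n + 1) d)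
  haveI hfinK : ∀ d : ℤ, Module.Finite (GrLC.deg0 𝒜) ↥(GrLC.comp 𝒜 𝒞 d) := fun d =>
    Module.rank_lt_aleph0_iff.mp (rank_comp_lt_aleph0 𝒞 d)
  have hdual : ∀ i : ℤ, Module.finrank k (degK 𝒜 𝒞 i) =
      Module.finrank (GrLC.deg0 𝒜) (I.Hcomp m (n + 1) (-i)) := fun i => by
    rw [← finrank_comp_eq_degK 𝒜 𝒞 hkR i]
    exact finrank_comp_canonical 𝒜 hpos h0 𝓔 𝒞 m hmsp n I e he hC i
  refine ⟨a, ha, ?_, ?_, ?_⟩
  · intro i hi
    have hbot : I.Hcomp m (n + 1) (-i) = ⊥ := by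
      by_contra hne
      have hne' : I.Hgr m (n + 1) (-i) ≠ ⊥ := fun h =>
        hne (Submodule.toAddSubgroup_injective (h.trans rfl))
      have hle := Groth.Agent.Lib.Helper29EndDeg.le_endDeg (I.Hgr m (n + 1)) hne'
      rw [ha, Groth.Agent.Lib.Helper29EndDeg.coe_le_coe_iff] at hle
      omega
    have h2 : Module.finrank k (degK 𝒜 𝒞 i) = 0 := by
      rw [hdual i, hbot]
      exact finrank_bot _ _
    have h3 : Module.finrank (GrLC.deg0 𝒜) (GrLC.comp 𝒜 𝒞 i) = 0 := by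
      rw [finrank_comp_eq_degK 𝒜 𝒞 hkR i]
      exact h2
    rw [eq_bot_iff]
    intro x hx
    have h4 : Module.rank (GrLC.deg0 𝒜) (GrLC.comp 𝒜 𝒞 i) = 0 := by
      have := Module.finrank_eq_rank (R := GrLC.deg0 𝒜) (M := GrLC.comp 𝒜 𝒞 i)
      rw [← this, h3]
      rfl
    have h5 := rank_zero_iff_forall_zero.mp h4 ⟨x, hx⟩
    exact (AddSubgroup.mem_bot).mpr (congrArg Subtype.val h5)
  · intro i hi
    rw [hdual i]
    have hne := Groth.Agent.S18656.result R (asGr 𝒜) hposA hF (idealAS 𝒜 m) hm hmspA hstdA (n + 1)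
      hn (by omega) (resAS I) a haA (-i) (by omega)
    have hne' : I.Hcomp m (n + 1) (-i) ≠ ⊥ := fun h =>
      hne ((Hcomp_resAS_eq_bot_iff I m (n + 1) (-i)).mpr h)
    rw [Nat.one_le_iff_ne_zero]
    intro h0'
    exact hne' (Submodule.finrank_eq_zero.mp h0')
  · intro i hi
    have h2 := Groth.Agent.S18657.result R (asGr 𝒜) hposA hF (idealAS 𝒜 m) hm hmspA hstdA (n + 1)
      hn (by omega) (resAS I) a haA E' 𝓔 e he' C 𝒞 hC' i hi
    rw [← finrank_comp_eq_degK 𝒜 𝒞 hkR i]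
    have h3 : Module.finrank (GrLC.deg0 (asGr 𝒜)) (GrLC.comp (asGr 𝒜) 𝒞 i) =
        Module.finrank (GrLC.deg0 𝒜) (GrLC.comp 𝒜 𝒞 i) :=
      congrArg Cardinal.toNat (rank_comp_asGr' 𝒜 𝒞 i)
    rw [← h3]
    exact h2

end Numerics

section Exist

variable {k : Type u} [Field k] {R : Type u} [CommRing R] [Algebra k R]
  (𝒜 : ℤ → Submodule k R) [GradedAlgebra 𝒜]
  (hpos : ∀ n : ℤ, n < 0 → 𝒜 n = ⊥) (h0 : 𝒜 0 = Submodule.span k {(1 : R)})
  (m : HomogeneousIdeal 𝒜)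
  (hmsp : m.toIdeal = Ideal.span (⋃ n ∈ Set.Ioi (0 : ℤ), (𝒜 n : Set R)))
  {E' : Type u} [AddCommGroup E'] [Module R E'] (𝓔 : ℤ → AddSubgroup E')
  [DirectSum.Decomposition 𝓔] [SetLike.GradedSMul 𝒜 𝓔]

include hpos h0 hmsp in
/-- existence of a *canonical module (gradings by `k`-subspaces) -/
theorem exists_starCanonical_k [Nontrivial R] [IsNoetherianRing R] (n : ℕ)
    (I : GrLC.StarInjRes 𝒜 𝒜) (e : (R ⧸ m.toIdeal) →ₗ[R] E')
    (he : GrLC.IsStarInjHull 𝒜 (GrLC.quotGr 𝒜 m) 𝓔 e) :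
    ∃ X : GrLC.GMod.{u} 𝒜, GrLC.IsStarCanonical 𝒜 X.gr 𝓔 m (n + 1) I := by
  have hposA := asGr_pos 𝒜 hpos
  have hF := isField_deg0 𝒜 h0
  have hm := isStarLocal_asGr 𝒜 hpos h0 m hmsp
  have hmspA : (idealAS 𝒜 m).toIdeal =
      Ideal.span (⋃ n ∈ Set.Ioi (0 : ℤ), (asGr 𝒜 n : Set R)) := hmsp
  have he' := isStarInjHull_asGr 𝒜 𝓔 m e he
  obtain ⟨X, hfin, φ, hφ⟩ := Groth.Agent.Lib.Helper8.CanonExist.exists_starCanonical (asGr 𝒜) hposA
    hF (idealAS 𝒜 m) hm hmspA 𝓔 e he' (n + 1) (resAS I)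
  exact ⟨ofAS 𝒜 X, hfin, φ, fun d f hf => hφ d f hf⟩

end Exist

end Groth.Agent.Lib.Helper8.Seg
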