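import Mathlib

/-!
# Weighted polynomial rings with positive weights (helper8)
-/

set_option autoImplicit false
set_option linter.style.haveILetI false
set_option linter.unusedSectionVars false
universe u
open MvPolynomial

namespace Groth.Agent.Lib.Helper8.WPoly

variable {k : Type u} [Field k] {N : ℕ} (w : Fin N → ℤ) (hw : ∀ i, 0 < w i)

include hw in
theorem weight_nonneg (d : Fin N →₀ ℕ) : 0 ≤ Finsupp.weight w d := by
  rw [Finsupp.weight_apply]
  exact Finset.sum_nonneg (fun i _ => smul_nonneg (Nat.zero_le _) (hw i).le)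

include hw in
theorem weight_eq_zero_iff (d : Fin N →₀ ℕ) : Finsupp.weight w d = 0 ↔ d = 0 := by
  constructor
  · intro h
    by_contra hd
    obtain ⟨i, hi⟩ := Finsupp.ne_iff.mp hd
    have hi' : d i ≠ 0 := hi
    have hpos : 0 < Finsupp.weight w d := by
      rw [Finsupp.weight_apply]
      refine Finset.sum_pos' (fun j _ => smul_nonneg (Nat.zero_le _) (hw j).le)
        ⟨i, Finsupp.mem_support_iff.mpr hi', ?_⟩
      exact smul_pos (Nat.pos_of_ne_zero hi') (hw i)
    omega
  · rintro rfl
    exact map_zero _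

include hw in
theorem eq_zero_of_neg {n : ℤ} (hn : n < 0) {p : MvPolynomial (Fin N) k}
    (hp : IsWeightedHomogeneous w p n) : p = 0 := by
  ext d
  rw [coeff_zero]
  by_contra hd
  have := hp hd
  have h2 := weight_nonneg w hw d
  omega

include hw in
theorem eq_C_of_zero {p : MvPolynomial (Fin N) k} (hp : IsWeightedHomogeneous w p 0) :
    p = C (coeff 0 p) := by
  ext d
  rw [coeff_C]
  by_cases hd : d = 0
  · subst hd
    rw [if_pos rfl]
  · rw [if_neg (Ne.symm hd)]
    by_contra hc
    exact hd ((weight_eq_zero_iff w hw d).mp (hp hc))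

include hw in
theorem mem_span_X {γ : ℤ} (hγ : γ ≠ 0) {p : MvPolynomial (Fin N) k}
    (hp : IsWeightedHomogeneous w p γ) :
    p ∈ Ideal.span (Set.range (X : Fin N → MvPolynomial (Fin N) k)) := by
  rw [← Set.image_univ, mem_ideal_span_X_image]
  intro d hd
  have h1 : Finsupp.weight w d = γ := hp (mem_support_iff.mp hd)
  have h2 : d ≠ 0 := by
    rintro rfl
    rw [map_zero] at h1
    exact hγ h1.symm
  obtain ⟨i, hi⟩ := Finsupp.ne_iff.mp h2
  exact ⟨i, Set.mem_univ i, hi⟩

theorem one_notMem_span_X :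
    (1 : MvPolynomial (Fin N) k) ∉ Ideal.span (Set.range (X : Fin N → MvPolynomial (Fin N) k)) := by
  rw [← Set.image_univ, mem_ideal_span_X_image]
  intro h
  have h0 : (0 : Fin N →₀ ℕ) ∈ (1 : MvPolynomial (Fin N) k).support := by
    rw [mem_support_iff, coeff_one, if_pos rfl]
    exact one_ne_zero
  obtain ⟨i, -, hi⟩ := h 0 h0
  exact hi rfl

theorem ofList_take_ofFn (i : ℕ) :
    Ideal.ofList ((List.ofFn (X : Fin N → MvPolynomial (Fin N) k)).take i) =
      Ideal.span ((X : Fin N → MvPolynomial (Fin N) k) '' {j : Fin N | j.val < i}) := by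
  unfold Ideal.ofList
  congr 1
  ext r
  simp only [Set.mem_ofPred_eq, Set.mem_image]
  rw [List.mem_take_iff_getElem]
  constructor
  · rintro ⟨j, hj, rfl⟩
    rw [List.length_ofFn] at hj
    refine ⟨⟨j, (lt_min_iff.mp hj).2⟩, (lt_min_iff.mp hj).1, ?_⟩
    rw [List.getElem_ofFn]
  · rintro ⟨j, hj, rfl⟩
    refine ⟨j.val, ?_, ?_⟩
    · rw [List.length_ofFn]
      exact lt_min hj j.2
    · rw [List.getElem_ofFn]

theorem isRegular_X :
    RingTheory.Sequence.IsRegular (MvPolynomial (Fin N) k)
      (List.ofFn (X : Fin N → MvPolynomial (Fin N) k)) := by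
  classical
  refine ⟨⟨fun i hi => ?_⟩, ?_⟩
  · rw [isSMulRegular_quotient_iff_mem_of_smul_mem]
    intro q hq
    rw [smul_eq_mul, Ideal.mul_top, ofList_take_ofFn] at hq ⊢
    rw [mem_ideal_span_X_image] at hq ⊢
    intro d hd
    rw [List.getElem_ofFn, smul_eq_mul] at hq
    rw [List.length_ofFn] at hi
    have hmem : Finsupp.single (⟨i, hi⟩ : Fin N) 1 + d ∈
        (X (⟨i, hi⟩ : Fin N) * q).support := by
      rw [support_X_mul]
      exact Finset.mem_map.mpr ⟨d, hd, rfl⟩
    obtain ⟨j, hj, hjd⟩ := hq _ hmem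
    refine ⟨j, hj, ?_⟩
    have hji : (⟨i, hi⟩ : Fin N) ≠ j := by
      intro h
      have hj' : j.val < i := hj
      rw [← h] at hj'
      exact lt_irrefl _ hj'
    rw [Finsupp.add_apply, Finsupp.single_eq_of_ne hji.symm, zero_add] at hjd
    exact hjd
  · intro h
    have h1 : (1 : MvPolynomial (Fin N) k) ∈
        (Ideal.ofList (List.ofFn (X : Fin N → MvPolynomial (Fin N) k)) • ⊤ :
          Submodule (MvPolynomial (Fin N) k) (MvPolynomial (Fin N) k)) := by
      rw [← h]
      exact Submodule.mem_top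
    rw [smul_eq_mul, Ideal.mul_top] at h1
    have h2 : Ideal.ofList (List.ofFn (X : Fin N → MvPolynomial (Fin N) k)) =
        Ideal.span (Set.range (X : Fin N → MvPolynomial (Fin N) k)) := by
      unfold Ideal.ofList
      congr 1
      ext r
      simp only [Set.mem_ofPred_eq, List.mem_ofFn, Set.mem_range]
    rw [h2] at h1
    exact one_notMem_span_X h1

end Groth.Agent.Lib.Helper8.WPoly
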