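import Groth.Agent.Lib.Helper8GrCanonDeg
import Groth.Agent.Lib.Helper8WPoly
import Groth.Agent.Lib.Helper8AInvReg
import Groth.Agent.Lib.Helper29GrConv
import Groth.Agent.Lib.Helper25AInvPoly
import Groth.Agent.Lib.Helper8LocDualK
import Groth.Agent.S18638
import Groth.Agent.S0342

/-!
# The *canonical module of a weighted polynomial ring (helper8)

`K_P ≅ P(-Σ w)` for `P = k[X_1..X_N]` with `deg X_i = w_i > 0`.
-/

set_option autoImplicit false
set_option linter.style.haveILetI false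
set_option linter.unusedSectionVars false
universe u
attribute [local instance] MvPolynomial.weightedGradedAlgebra
open DirectSum

namespace Groth.Agent.Lib.Helper8.WPolyCanon

open Groth.Agent.Lib.Helper29GrConv

section Iso

variable {ι : Type} [AddCommGroup ι] [DecidableEq ι]
variable {R : Type u} [CommRing R] {σ : Type u} [SetLike σ R] [AddSubgroupClass σ R]
variable (𝒜 : ι → σ) [GradedRing 𝒜]

/-- Converting a homogeneous ideal back. -/
def backI (a : HomogeneousIdeal (asGr 𝒜)) : HomogeneousIdeal 𝒜 :=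
  ⟨a.toIdeal, fun i r hr => by
    rw [← coe_decompose_asGr]
    exact a.isHomogeneous i hr⟩

/-- The order isomorphism between the lattices of homogeneous ideals. -/
def idealIso : HomogeneousIdeal 𝒜 ≃o HomogeneousIdeal (asGr 𝒜) where
  toFun := idealAS 𝒜
  invFun := backI 𝒜
  left_inv _ := HomogeneousIdeal.toIdeal_injective rfl
  right_inv _ := HomogeneousIdeal.toIdeal_injective rfl
  map_rel_iff' := Iff.rfl

theorem isStarLocal_idealAS (m : HomogeneousIdeal 𝒜) (hm : GrLC.IsStarLocal 𝒜 m) :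
    GrLC.IsStarLocal (asGr 𝒜) (idealAS 𝒜 m) := by
  refine ⟨((idealIso 𝒜).isCoatom_iff m).mpr hm.1, fun n hn => ?_⟩
  have h1 : IsCoatom ((idealIso 𝒜).symm n) := ((idealIso 𝒜).symm.isCoatom_iff n).mpr hn
  have h2 := hm.2 _ h1
  have h3 : n = (idealIso 𝒜) ((idealIso 𝒜).symm n) := ((idealIso 𝒜).apply_symm_apply n).symm
  rw [h3, h2]
  rfl

end Iso

section Main

open MvPolynomial

theorem main (k : Type u) [Field k] (N : ℕ) (w : Fin N → ℤ) (hw : ∀ i, 0 < w i)
    (m : HomogeneousIdeal (MvPolynomial.weightedHomogeneousSubmodule k w))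
    (hm : GrLC.IsStarLocal (MvPolynomial.weightedHomogeneousSubmodule k w) m)
    (hmsp : m.toIdeal = Ideal.span (⋃ n ∈ Set.Ioi (0 : ℤ),
      (MvPolynomial.weightedHomogeneousSubmodule k w n : Set (MvPolynomial (Fin N) k))))
    (I : GrLC.StarInjRes (MvPolynomial.weightedHomogeneousSubmodule k w)
      (MvPolynomial.weightedHomogeneousSubmodule k w))
    (E' : Type u) [AddCommGroup E'] [Module (MvPolynomial (Fin N) k) E']
    (𝓔 : ℤ → AddSubgroup E') [DirectSum.Decomposition 𝓔]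
    [SetLike.GradedSMul (MvPolynomial.weightedHomogeneousSubmodule k w) 𝓔]
    (e : (MvPolynomial (Fin N) k ⧸ m.toIdeal) →ₗ[MvPolynomial (Fin N) k] E')
    (he : GrLC.IsStarInjHull (MvPolynomial.weightedHomogeneousSubmodule k w)
      (GrLC.quotGr (MvPolynomial.weightedHomogeneousSubmodule k w) m) 𝓔 e)
    (C : Type u) [AddCommGroup C] [Module (MvPolynomial (Fin N) k) C]
    (𝒞 : ℤ → AddSubgroup C) [DirectSum.Decomposition 𝒞]
    [SetLike.GradedSMul (MvPolynomial.weightedHomogeneousSubmodule k w) 𝒞]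
    (hC : GrLC.IsStarCanonical (MvPolynomial.weightedHomogeneousSubmodule k w) 𝒞 𝓔 m N I) :
    ∃ f : MvPolynomial (Fin N) k →ₗ[MvPolynomial (Fin N) k] C, Function.Bijective f ∧
      GrLC.IsGrHomDeg (MvPolynomial.weightedHomogeneousSubmodule k w) 𝒞 f
        ((Finset.univ : Finset (Fin N)).sum w) := by
  classical
  set 𝒲 := MvPolynomial.weightedHomogeneousSubmodule k w with h𝒲
  let 𝒜 : ℤ → AddSubgroup (MvPolynomial (Fin N) k) := asGr 𝒲
  have hmem : ∀ (g : ℤ) (x : MvPolynomial (Fin N) k), x ∈ 𝒜 g ↔ IsWeightedHomogeneous w x g :=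
    fun g x => Iff.rfl
  haveI g1 : SetLike.GradedSMul 𝒜 𝓔 :=
    ⟨fun {_ _ _ _} ha hb => SetLike.GradedSMul.smul_mem (A := 𝒲) (B := 𝓔) ha hb⟩
  haveI g2 : SetLike.GradedSMul 𝒜 𝒞 :=
    ⟨fun {_ _ _ _} ha hb => SetLike.GradedSMul.smul_mem (A := 𝒲) (B := 𝒞) ha hb⟩
  have hpos' : ∀ n : ℤ, n < 0 → 𝒜 n = ⊥ := by
    intro n hn
    rw [eq_bot_iff]
    intro x hx
    rw [AddSubgroup.mem_bot]
    exact Groth.Agent.Lib.Helper8.WPoly.eq_zero_of_neg w hw hn ((hmem n x).mp hx)
  have h0' : IsField (GrLC.deg0 𝒜) := by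
    refine ⟨⟨0, 1, fun h => ?_⟩, mul_comm, fun {a} ha => ?_⟩
    · have := congrArg Subtype.val h
      exact zero_ne_one this
    · obtain ⟨c, hCa⟩ : ∃ c : k, a.1 = MvPolynomial.C c :=
        ⟨_, Groth.Agent.Lib.Helper8.WPoly.eq_C_of_zero w hw ((hmem 0 a.1).mp a.2)⟩
      have hc : c ≠ 0 := by
        intro h0
        rw [h0, map_zero] at hCa
        exact ha (Subtype.ext hCa)
      refine ⟨⟨MvPolynomial.C c⁻¹, (hmem 0 _).mpr (isWeightedHomogeneous_C w _)⟩, ?_⟩
      apply Subtype.ext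
      show a.1 * MvPolynomial.C c⁻¹ = 1
      rw [hCa, ← map_mul, mul_inv_cancel₀ hc, map_one]
  let m' : HomogeneousIdeal 𝒜 := idealAS 𝒲 m
  have hm' : GrLC.IsStarLocal 𝒜 m' := isStarLocal_idealAS 𝒲 m hm
  have hmsp' : m'.toIdeal = Ideal.span (⋃ n ∈ Set.Ioi (0 : ℤ),
      (𝒜 n : Set (MvPolynomial (Fin N) k))) := hmsp
  let I' : GrLC.StarInjRes 𝒜 𝒜 := resAS I
  have he' : GrLC.IsStarInjHull 𝒜 (GrLC.quotGr 𝒜 m') 𝓔 e :=
    { injective := he.injective
      grHom := he.grHom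
      essential := he.essential
      starInj := isStarInj_toAS 𝒲 (GrLC.GMod.of 𝒲 E' 𝓔) he.starInj }
  have hC' : GrLC.IsStarCanonical 𝒜 𝒞 𝓔 m' N I' := hC
  haveI hCM : LocCoh.IsCohenMacaulayRing (MvPolynomial (Fin N) k) :=
    Groth.Agent.Lib.Helper8.LocDualK.isCohenMacaulayRing_of_isRegularRing
  have hn : ringKrullDim (MvPolynomial (Fin N) k) = N := by
    rw [MvPolynomial.ringKrullDim_of_isNoetherianRing, ringKrullDim_eq_zero_of_field, zero_add,
      Nat.card_fin]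
  have hGor : LocCoh.IsGorensteinRing (MvPolynomial (Fin N) k) :=
    { isGorensteinLocalRing_localization := fun p _ => Groth.Agent.S0342.result _ }
  obtain ⟨a, f, hbij, hdeg⟩ :=
    (Groth.Agent.S18638.result (MvPolynomial (Fin N) k) 𝒜 hpos' h0' m' hm' hmsp' N hn I' E' 𝓔 e he'
      C 𝒞 hC').mp hGor
  have hmne' : m'.toIdeal ≠ ⊤ := by
    intro h
    exact hm'.1.1 ((HomogeneousIdeal.eq_top_iff m').mpr h)
  have hend1 := Groth.Agent.Lib.Helper8.GrCanonDeg.endDeg_eq 𝒜 hpos' m' hmne' hmsp' 𝓔 e he' 𝒞 N I'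
    hC' f hbij a hdeg
  have hy : ∀ i, (X i : MvPolynomial (Fin N) k) ∈ 𝒜 (w i) := fun i =>
    (hmem _ _).mpr (isWeightedHomogeneous_X k w i)
  have hJle : m'.toIdeal ≤ Ideal.span (Set.range (X : Fin N → MvPolynomial (Fin N) k)) := by
    rw [hmsp']
    apply Ideal.span_le.mpr
    intro x hx
    obtain ⟨γ, hγ, hxγ⟩ := Set.mem_iUnion₂.mp hx
    exact Groth.Agent.Lib.Helper8.WPoly.mem_span_X w hw (ne_of_gt hγ) ((hmem γ x).mp hxγ)
  have hrad : m'.toIdeal ≤
      (Ideal.span (Set.range (X : Fin N → MvPolynomial (Fin N) k))).radical :=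
    hJle.trans Ideal.le_radical
  have hend2 := Groth.Agent.Lib.Helper8.AInvReg.endDeg_add_eq 𝒜 hpos' h0' m' hm' hmsp' N hn I'
    (X : Fin N → MvPolynomial (Fin N) k) w hy hw
    (Groth.Agent.Lib.Helper8.WPoly.isRegular_X (k := k) (N := N)) hrad
  have hend3 : GrLC.endDeg (Groth.Agent.Lib.Helper29GrQuot.quotGr 𝒜
      (Ideal.span (Set.range (X : Fin N → MvPolynomial (Fin N) k)))) =
      (((0 : ℤ) : WithTop ℤ) : WithBot (WithTop ℤ)) := by
    apply le_antisymm
    · rw [Groth.Agent.Lib.Helper29EndDeg.endDeg_le_iff]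
      intro d hd
      rw [Groth.Agent.Lib.Helper29EndDeg.coe_le_coe_iff]
      by_contra hcon
      apply hd
      rw [Groth.Agent.Lib.Helper25.AInvTop.quotGr_eq_bot_iff]
      intro x hx
      exact Groth.Agent.Lib.Helper8.WPoly.mem_span_X w hw (by omega) ((hmem d x).mp hx)
    · apply Groth.Agent.Lib.Helper29EndDeg.le_endDeg
      intro hbot
      rw [Groth.Agent.Lib.Helper25.AInvTop.quotGr_eq_bot_iff] at hbot
      exact Groth.Agent.Lib.Helper8.WPoly.one_notMem_span_X (k := k) (N := N)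
        (hbot 1 (SetLike.GradedOne.one_mem))
  rw [hend3] at hend2
  have h4 := Groth.Agent.Lib.Helper25.AInvPoly.eq_neg_of_add_eq_zero _ _ hend2.symm
  rw [hend1, WithBot.coe_inj, WithTop.coe_inj] at h4
  have ha : a = (Finset.univ : Finset (Fin N)).sum w := by omega
  subst ha
  exact ⟨f, hbij, fun g x hx => hdeg g x hx⟩

end Main

end Groth.Agent.Lib.Helper8.WPolyCanon
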