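import Groth.Agent.Lib.Helper8GrModB
import Groth.Agent.Lib.Helper8WPolyCanon
import Groth.Agent.Lib.Helper8Seg40
import Groth.Agent.Lib.Helper29GrMulLES
import Groth.Agent.S18644
import Groth.Agent.S18656

/-!
# Graded local cohomology of the standard graded polynomial ring (helper8)
-/

set_option autoImplicit false
set_option linter.unusedSectionVars false
set_option linter.style.haveILetI false
universe u
open TensorProduct DirectSum Cardinal

noncomputable section

namespace Groth.Agent.Lib.Helper8.GrMod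

open Groth.Agent.Lib.Helper29GrConv Groth.Agent.Lib.Helper8.Seg Groth.Agent.Lib.Helper8.GrCMk
open MvPolynomial

attribute [local instance] MvPolynomial.weightedGradedAlgebra

section Poly

variable (k : Type u) [Field k] (N : ℕ)

/-- the standard grading of the polynomial ring, indexed by `ℤ` -/
abbrev W : ℤ → Submodule k (MvPolynomial (Fin N) k) :=
  MvPolynomial.weightedHomogeneousSubmodule k (fun _ : Fin N => (1 : ℤ))

theorem W_pos : ∀ n : ℤ, n < 0 → W k N n = ⊥ := by
  intro n hn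
  rw [eq_bot_iff]
  intro p hp
  rw [Submodule.mem_bot]
  exact Groth.Agent.Lib.Helper8.WPoly.eq_zero_of_neg (fun _ : Fin N => (1 : ℤ))
    (fun _ => one_pos) hn ((mem_weightedHomogeneousSubmodule k _ n p).mp hp)

theorem W_zero : W k N 0 = Submodule.span k {(1 : MvPolynomial (Fin N) k)} := by
  apply le_antisymm
  · intro p hp
    have h := Groth.Agent.Lib.Helper8.WPoly.eq_C_of_zero (fun _ : Fin N => (1 : ℤ))
      (fun _ => one_pos) ((mem_weightedHomogeneousSubmodule k _ 0 p).mp hp)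
    rw [h, Submodule.mem_span_singleton]
    exact ⟨coeff 0 p, by rw [← algebraMap_eq, Algebra.algebraMap_eq_smul_one]⟩
  · rw [Submodule.span_le, Set.singleton_subset_iff]
    exact SetLike.one_mem_graded (W k N)

theorem X_mem_W (i : Fin N) : (X i : MvPolynomial (Fin N) k) ∈ W k N 1 :=
  (mem_weightedHomogeneousSubmodule k _ 1 _).mpr (isWeightedHomogeneous_X k _ i)

theorem W_std : Ideal.span (⋃ n ∈ Set.Ioi (0 : ℤ), (W k N n : Set (MvPolynomial (Fin N) k))) =
    Ideal.span ((W k N 1 : Submodule k (MvPolynomial (Fin N) k)) : Set (MvPolynomial (Fin N) k)) := by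
  apply le_antisymm
  · rw [Ideal.span_le]
    intro p hp
    obtain ⟨n, hn, hpn⟩ := Set.mem_iUnion₂.mp hp
    rw [Set.mem_Ioi] at hn
    have h := Groth.Agent.Lib.Helper8.WPoly.mem_span_X (fun _ : Fin N => (1 : ℤ))
      (fun _ => one_pos) hn.ne' ((mem_weightedHomogeneousSubmodule k _ n p).mp hpn)
    refine Ideal.span_mono ?_ h
    rintro _ ⟨i, rfl⟩
    exact X_mem_W k N i
  · apply Ideal.span_mono
    intro p hp
    exact Set.mem_iUnion₂.mpr ⟨1, by rw [Set.mem_Ioi]; exact one_pos, hp⟩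

theorem ringKrullDim_mvPolynomial :
    ringKrullDim (MvPolynomial (Fin N) k) = (N : WithBot ℕ∞) := by
  rw [MvPolynomial.ringKrullDim_of_isNoetherianRing, ringKrullDim_eq_zero_of_field, zero_add,
    Nat.card_fin]

theorem W_ne_bot (hN : 1 ≤ N) (n : ℤ) (hn : 0 ≤ n) : W k N n ≠ ⊥ := by
  intro h
  have h1 : (X (⟨0, hN⟩ : Fin N) : MvPolynomial (Fin N) k) ^ n.toNat ∈ W k N n := by
    have h2 := SetLike.pow_mem_graded n.toNat (X_mem_W k N ⟨0, hN⟩)
    have h3 : (n.toNat • (1 : ℤ)) = n := by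
      rw [nsmul_eq_mul, mul_one, Int.toNat_of_nonneg hn]
    rw [h3] at h2
    exact h2
  rw [h, Submodule.mem_bot] at h1
  exact (pow_ne_zero _ (X_ne_zero _)) h1

theorem W_eq_bot_iff (hN : 1 ≤ N) (n : ℤ) : W k N n = ⊥ ↔ n < 0 := by
  constructor
  · intro h
    by_contra hn
    exact W_ne_bot k N hN n (not_lt.mp hn) h
  · exact W_pos k N n

end Poly

section PolyLC

variable (k : Type u) [Field k] (N : ℕ) (m : HomogeneousIdeal (W k N))
  (hmsp : m.toIdeal = Ideal.span (⋃ n ∈ Set.Ioi (0 : ℤ),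
    (W k N n : Set (MvPolynomial (Fin N) k))))
  (I : GrLC.StarInjRes (W k N) (W k N))

include hmsp in
theorem poly_Hcomp_eq_bot_of_ne (i : ℕ) (hi : i ≠ N) (n : ℤ) : I.Hcomp m i n = ⊥ := by
  haveI hCM : LocCoh.IsCohenMacaulayRing (MvPolynomial (Fin N) k) :=
    Groth.Agent.Lib.Helper8.LocDualK.isCohenMacaulayRing_of_isRegularRing
  rcases lt_or_gt_of_ne hi with h | h
  · exact (isCohenMacaulayRing_iff (W k N) (W_pos k N) (W_zero k N) m hmsp N
      (ringKrullDim_mvPolynomial k N) I).mp hCM i h n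
  · exact Hcomp_eq_bot_of_dim_lt (W k N) m N (ringKrullDim_mvPolynomial k N) I i h n

/-- the field of constants -/
def constEquiv : k ≃+* ↥(GrLC.deg0 (asGr (W k N))) :=
  RingEquiv.ofBijective
    ((algebraMap k (MvPolynomial (Fin N) k)).codRestrict (GrLC.deg0 (asGr (W k N)))
      (fun c => SetLike.algebraMap_mem_graded (W k N) c))
    ⟨fun c c' h => (algebraMap k (MvPolynomial (Fin N) k)).injective (congrArg Subtype.val h),
      fun t => by
        obtain ⟨c, hc⟩ := exists_algebraMap (W k N) (W_zero k N) t.1 t.2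
        exact ⟨c, Subtype.ext hc⟩⟩

include hmsp in
theorem poly_Hcomp_top_eq_bot_iff (hN : 1 ≤ N) (n : ℤ) :
    I.Hcomp m N n = ⊥ ↔ -(N : ℤ) < n := by
  haveI hCM : LocCoh.IsCohenMacaulayRing (MvPolynomial (Fin N) k) :=
    Groth.Agent.Lib.Helper8.LocDualK.isCohenMacaulayRing_of_isRegularRing
  have hpos' := asGr_pos (W k N) (W_pos k N)
  have h0' := isField_deg0 (W k N) (W_zero k N)
  have hm' := isStarLocal_asGr (W k N) (W_pos k N) (W_zero k N) m hmsp
  have hmsp' : (idealAS (W k N) m).toIdeal = Ideal.span (⋃ n ∈ Set.Ioi (0 : ℤ),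
      (asGr (W k N) n : Set (MvPolynomial (Fin N) k))) := hmsp
  have hstd' : Ideal.span (⋃ n ∈ Set.Ioi (0 : ℤ),
      (asGr (W k N) n : Set (MvPolynomial (Fin N) k))) =
      Ideal.span ((asGr (W k N) 1 : AddSubgroup (MvPolynomial (Fin N) k)) :
        Set (MvPolynomial (Fin N) k)) := W_std k N
  have hdim := ringKrullDim_mvPolynomial k N
  have hend := (Groth.Agent.S18644.result (MvPolynomial (Fin N) k) (asGr (W k N)) hpos' h0'
    (idealAS (W k N) m) hm' hmsp' hstd' N hdim (resAS I)).mpr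
    ⟨(MvPolynomial.mapEquiv (Fin N) (constEquiv k N))⟩
  rw [← Hcomp_resAS_eq_bot_iff I m N n]
  constructor
  · intro h
    by_contra hn
    rw [not_lt] at hn
    exact Groth.Agent.S18656.result (MvPolynomial (Fin N) k) (asGr (W k N)) hpos' h0'
      (idealAS (W k N) m) hm' hmsp' hstd' N hdim hN (resAS I) (-(N : ℤ)) hend n hn h
  · intro hn
    by_contra h
    have h1 : (resAS I).Hgr (idealAS (W k N) m) N n ≠ ⊥ := by
      rw [Ne, Groth.Agent.Lib.Helper29GrQuotEnd.Hgr_eq_bot_iff]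
      exact h
    have h2 := Groth.Agent.Lib.Helper29EndDeg.le_endDeg _ h1
    rw [hend, Groth.Agent.Lib.Helper29EndDeg.coe_le_coe_iff] at h2
    omega

end PolyLC

section Shift

open Groth.Agent.Lib.Helper29GrShift Groth.Agent.Lib.Helper29GrShiftInj
  Groth.Agent.Lib.Helper29GrConv2

variable {k : Type u} [Field k] {R : Type u} [CommRing R] [Algebra k R]
  {𝒜 : ℤ → Submodule k R} [GradedAlgebra 𝒜]

/-- the shifted resolution `I(a)` of `R(a)` -/
def shiftResK (I : GrLC.StarInjRes 𝒜 𝒜) (a : ℤ) : GrLC.StarInjRes 𝒜 (shiftK 𝒜 a) where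
  X := fun n => ofAS 𝒜 (shiftGMod (asGr 𝒜) (toAS 𝒜 (I.X n)) a)
  d := I.d
  ε := I.ε
  d_grHom := fun n j x hx => I.d_grHom n (j + a) x hx
  ε_grHom := fun j x hx => I.ε_grHom (j + a) x hx
  ε_injective := I.ε_injective
  exact_zero := I.exact_zero
  exact_succ := I.exact_succ
  starInj := fun n => isStarInj_ofAS 𝒜 _
    (isStarInj_shift (asGr 𝒜) (toAS 𝒜 (I.X n)) a (isStarInj_toAS 𝒜 (I.X n) (I.starInj n)))

theorem Hcomp_shiftResK_eq_bot_iff (I : GrLC.StarInjRes 𝒜 𝒜) (a : ℤ) (m : HomogeneousIdeal 𝒜)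
    (i : ℕ) (d : ℤ) :
    (shiftResK I a).Hcomp m i d = ⊥ ↔ I.Hcomp m i (d + a) = ⊥ := by
  rw [Hcomp_eq_bot_iff_forall, Hcomp_eq_bot_iff_forall]
  have hc : (shiftResK I a).cobdy m i = I.cobdy m i := by
    cases i <;> rfl
  rw [hc]
  exact Iff.rfl

end Shift

end Groth.Agent.Lib.Helper8.GrMod
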