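import Groth.Agent.Lib.Helper8GrModC
import Groth.Agent.S18647

/-!
# Cohen–Macaulayness and depth of `R(a) # S(b)` for polynomial rings in at least two variables
(helper8)
-/

set_option autoImplicit false
set_option linter.unusedSectionVars false
set_option linter.style.haveILetI false
universe u
open TensorProduct DirectSum Cardinal

noncomputable section

namespace Groth.Agent.Lib.Helper8.GrMod

open Groth.Agent.Lib.Helper29GrConv Groth.Agent.Lib.Helper8.Seg Groth.Agent.Lib.Helper8.GrCMk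
open MvPolynomial

attribute [local instance] MvPolynomial.weightedGradedAlgebra

section Arith

variable (r s : ℕ) (a b : ℤ)

/-- the arithmetic form of the vanishing of `H^q(P)_d` -/
def V (q : ℕ) (d : ℤ) : Prop :=
  (d + a < 0 ∨ (q ≠ s ∨ -(s : ℤ) < d + b)) ∧ ((q ≠ r ∨ -(r : ℤ) < d + a) ∨ d + b < 0) ∧
    ∀ i ∈ Finset.range (q + 2), (i ≠ r ∨ -(r : ℤ) < d + a) ∨ (q + 1 - i ≠ s ∨ -(s : ℤ) < d + b)

theorem arith_cm (h2r : 2 ≤ r) (h2s : 2 ≤ s) :
    (∀ q, q < r + s - 1 → ∀ d, V r s a b q d) ↔ (a - b < (s : ℤ) ∧ -(r : ℤ) < a - b) := by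
  constructor
  · intro h
    constructor
    · have h1 := (h s (by omega) (-a)).1
      omega
    · have h1 := (h r (by omega) (-b)).2.1
      omega
  · rintro ⟨h1, h2⟩ q hq d
    refine ⟨?_, ?_, ?_⟩
    · by_cases hqs : q = s
      · by_cases hd : d + a < 0
        · exact Or.inl hd
        · right; right; omega
      · exact Or.inr (Or.inl hqs)
    · by_cases hqr : q = r
      · by_cases hd : d + b < 0
        · exact Or.inr hd
        · left; right; omega
      · exact Or.inl (Or.inl hqr)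
    · intro i hi
      rw [Finset.mem_range] at hi
      by_cases hir : i = r
      · right; left; omega
      · exact Or.inl (Or.inl hir)

theorem arith_depth_s (h2r : 2 ≤ r) (h2s : 2 ≤ s) (h : (s : ℤ) ≤ a - b) :
    (∀ q, q < s → ∀ d, V r s a b q d) ∧ ∃ d, ¬ V r s a b s d := by
  constructor
  · intro q hq d
    refine ⟨Or.inr (Or.inl (by omega)), ?_, ?_⟩
    · by_cases hqr : q = r
      · by_cases hd : d + b < 0
        · exact Or.inr hd
        · left; right; omega
      · exact Or.inl (Or.inl hqr)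
    · intro i hi
      rw [Finset.mem_range] at hi
      by_cases hir : i = r
      · right; left; omega
      · exact Or.inl (Or.inl hir)
  · refine ⟨-a, fun hV => ?_⟩
    have h1 := hV.1
    omega

theorem arith_depth_r (h2r : 2 ≤ r) (h2s : 2 ≤ s) (h : a - b ≤ -(r : ℤ)) :
    (∀ q, q < r → ∀ d, V r s a b q d) ∧ ∃ d, ¬ V r s a b r d := by
  constructor
  · intro q hq d
    refine ⟨?_, Or.inl (Or.inl (by omega)), ?_⟩
    · by_cases hqs : q = s
      · by_cases hd : d + a < 0
        · exact Or.inl hd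
        · right; right; omega
      · exact Or.inr (Or.inl hqs)
    · intro i hi
      rw [Finset.mem_range] at hi
      by_cases hir : i = r
      · right; left; omega
      · exact Or.inl (Or.inl hir)
  · refine ⟨-b, fun hV => ?_⟩
    have h1 := hV.2.1
    omega

end Arith

section Main

variable (k : Type u) [Field k] (r s : ℕ)

instance noZeroDivisors_tensor :
    NoZeroDivisors (MvPolynomial (Fin r) k ⊗[k] MvPolynomial (Fin s) k) :=
  (MvPolynomial.tensorEquivSum k (Fin r) (Fin s) k).injective.noZeroDivisors _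
    (map_zero _) (map_mul _)

theorem shiftK_eq_bot_iff {N : ℕ} (hN : 1 ≤ N) (a d : ℤ) :
    shiftK (W k N) a d = ⊥ ↔ d + a < 0 := by
  rw [← W_eq_bot_iff k N hN (d + a)]
  constructor
  · intro h
    rw [eq_bot_iff]
    intro x hx
    have : x ∈ shiftK (W k N) a d := hx
    rw [h] at this
    exact (Submodule.mem_bot k).mpr (AddSubgroup.mem_bot.mp this)
  · intro h
    rw [eq_bot_iff]
    intro x hx
    have : x ∈ W k N (d + a) := hx
    rw [h] at this
    exact AddSubgroup.mem_bot.mpr ((Submodule.mem_bot k).mp this)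

theorem main (h2r : 2 ≤ r) (h2s : 2 ≤ s) (T : Type u) [CommRing T] [Algebra k T]
    (𝒯 : ℤ → Submodule k T) [GradedAlgebra 𝒯]
    (ψ : T →ₐ[k] MvPolynomial (Fin r) k ⊗[k] MvPolynomial (Fin s) k)
    (hT : GrSeg.IsSegreRing (W k r) (W k s) 𝒯 ψ)
    (mT : HomogeneousIdeal 𝒯)
    (hmT : mT.toIdeal = Ideal.span (⋃ n ∈ Set.Ioi (0 : ℤ), (𝒯 n : Set T))) (a b : ℤ)
    (P : Type u) [AddCommGroup P] [Module T P] [Module k P] [IsScalarTower k T P]
    (𝒬 : ℤ → AddSubgroup P) [DirectSum.Decomposition 𝒬]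
    (φ : P →ₗ[k] MvPolynomial (Fin r) k ⊗[k] MvPolynomial (Fin s) k)
    (hP : GrSeg.IsSegreMod ψ (fun n : ℤ => W k r (n + a)) (fun n : ℤ => W k s (n + b)) 𝒬 φ) :
    ((∀ (q : Ideal T) [q.IsPrime], Subsingleton (LocalizedModule q.primeCompl P) ∨
        LocCoh.IsCohenMacaulayModule (Localization.AtPrime q) (LocalizedModule q.primeCompl P)) ↔
      (a - b < (s : ℤ) ∧ -(r : ℤ) < a - b)) ∧
    ((s : ℤ) ≤ a - b → LocCoh.idealDepth mT.toIdeal P = (s : ℕ∞)) ∧
    (a - b ≤ -(r : ℤ) → LocCoh.idealDepth mT.toIdeal P = (r : ℕ∞)) := by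
  classical
  have h1r : 1 ≤ r := by omega
  have h1s : 1 ≤ s := by omega
  have hposR := W_pos k r
  have h0R := W_zero k r
  have hposS := W_pos k s
  have h0S := W_zero k s
  have hP' : GrSeg.IsSegreMod ψ (shiftK (W k r) a) (shiftK (W k s) b) 𝒬 φ :=
    ⟨hP.injective, fun n => hP.image_piece n, hP.map_smul⟩
  haveI hTn : IsNoetherianRing T :=
    Groth.Agent.S18646.result k _ (W k r) hposR h0R _ (W k s) hposS h0S T 𝒯 ψ hT.1 hT.2
  haveI gs : SetLike.GradedSMul 𝒯 𝒬 :=
    gradedSMul_of_isSegreMod 𝒯 ψ hT (shiftK (W k r) a) (shiftK (W k s) b) 𝒬 φ hP'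
  haveI hPfin : Module.Finite T P :=
    Groth.Agent.Lib.Helper24SegreFin3.s19747 k _ (W k r) hposR h0R _ (W k s) hposS h0S T 𝒯 ψ hT
      _ (shiftK (W k r) a) _ (shiftK (W k s) b) P 𝒬 φ hP'
  obtain ⟨IR⟩ := Groth.Agent.Lib.Helper29GrConv2.exists_res (W k r) (ℳ := W k r)
  obtain ⟨IS⟩ := Groth.Agent.Lib.Helper29GrConv2.exists_res (W k s) (ℳ := W k s)
  obtain ⟨EP⟩ := Groth.Agent.Lib.Helper29GrConv2.exists_res 𝒯 (ℳ := 𝒬)
  set mR := irr (W k r) with hmRdef
  set mS := irr (W k s) with hmSdef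
  have hmR := irr_toIdeal (W k r)
  have hmS := irr_toIdeal (W k s)
  have hposT := segre_pos 𝒯 ψ hT hposR
  have h0T := segre_zero 𝒯 ψ hT h0R h0S
  -- `P` is nonzero
  haveI hPnt : Nontrivial P := by
    obtain ⟨x, hx, hx0⟩ := Submodule.exists_mem_ne_zero_of_ne_bot
      (W_ne_bot k r h1r (max (-a) (-b) + a) (by have := le_max_left (-a) (-b); omega))
    obtain ⟨y, hy, hy0⟩ := Submodule.exists_mem_ne_zero_of_ne_bot
      (W_ne_bot k s h1s (max (-a) (-b) + b) (by have := le_max_right (-a) (-b); omega))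
    have hxy : x ⊗ₜ[k] y ∈ (GrSeg.segrePiece k (shiftK (W k r) a) (shiftK (W k s) b)
        (max (-a) (-b)) : Set _) := Submodule.subset_span ⟨x, hx, y, hy, rfl⟩
    rw [← hP'.image_piece] at hxy
    obtain ⟨p, -, hp⟩ := hxy
    refine ⟨⟨p, 0, fun h => ?_⟩⟩
    rw [h, map_zero] at hp
    rcases tmul_eq_zero_field hp.symm with h' | h'
    · exact hx0 h'
    · exact hy0 h'
  -- the dimension of `P`
  have hann : Module.annihilator T P = ⊥ := by
    rw [eq_bot_iff]
    intro t ht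
    rw [Module.mem_annihilator] at ht
    obtain ⟨p, hp⟩ := exists_ne (0 : P)
    have h1 := hP'.map_smul t p
    rw [ht p, map_zero, act_self] at h1
    have h2 : φ p ≠ 0 := fun h => hp (hP'.injective (by rw [h, map_zero]))
    have h3 : ψ t = 0 := (mul_eq_zero.mp h1.symm).resolve_right h2
    exact (Submodule.mem_bot T).mpr (hT.1 (by rw [h3, map_zero]))
  have hdimP : Module.supportDim T P = ((r + s - 1 : ℕ) : WithBot ℕ∞) := by
    rw [Module.supportDim_eq_ringKrullDim_quotient_annihilator, hann,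
      ringKrullDim_eq_of_ringEquiv (RingEquiv.quotientBot T)]
    exact Groth.Agent.S18647.result k _ (W k r) hposR h0R _ (W k s) hposS h0S T 𝒯 ψ hT.1 hT.2 r s
      (ringKrullDim_mvPolynomial k r) (ringKrullDim_mvPolynomial k s) h1r h1s
  -- the Künneth formula in arithmetic form
  have hKun : ∀ q d, EP.Hcomp mT q d = ⊥ ↔ V r s a b q d := by
    intro q d
    have hM0 : (shiftResK IR a).Hcomp mR 0 d = ⊥ :=
      (Hcomp_shiftResK_eq_bot_iff IR a mR 0 d).mpr
        (poly_Hcomp_eq_bot_of_ne k r mR hmR IR 0 (by omega) _)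
    have hN0 : (shiftResK IS b).Hcomp mS 0 d = ⊥ :=
      (Hcomp_shiftResK_eq_bot_iff IS b mS 0 d).mpr
        (poly_Hcomp_eq_bot_of_ne k s mS hmS IS 0 (by omega) _)
    have eM : ∀ i, (shiftResK IR a).Hcomp mR i d = ⊥ ↔ (i ≠ r ∨ -(r : ℤ) < d + a) := by
      intro i
      rw [Hcomp_shiftResK_eq_bot_iff]
      by_cases hi : i = r
      · subst hi
        rw [poly_Hcomp_top_eq_bot_iff k i mR hmR IR h1r]
        constructor
        · exact fun h => Or.inr h
        · rintro (h | h)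
          · exact absurd rfl h
          · exact h
      · exact ⟨fun _ => Or.inl hi, fun _ => poly_Hcomp_eq_bot_of_ne k r mR hmR IR i hi _⟩
    have eN : ∀ i, (shiftResK IS b).Hcomp mS i d = ⊥ ↔ (i ≠ s ∨ -(s : ℤ) < d + b) := by
      intro i
      rw [Hcomp_shiftResK_eq_bot_iff]
      by_cases hi : i = s
      · subst hi
        rw [poly_Hcomp_top_eq_bot_iff k i mS hmS IS h1s]
        constructor
        · exact fun h => Or.inr h
        · rintro (h | h)
          · exact absurd rfl h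
          · exact h
      · exact ⟨fun _ => Or.inl hi, fun _ => poly_Hcomp_eq_bot_of_ne k s mS hmS IS i hi _⟩
    rw [Hcomp_segre_eq_bot_iff 𝒯 ψ hT (shiftK (W k r) a) (shiftK (W k s) b) 𝒬 φ hP' hposR h0R
      hposS h0S mR hmR mS hmS mT hmT (shiftResK IR a) (shiftResK IS b) EP d hM0 hN0 q,
      shiftK_eq_bot_iff k h1r a d, shiftK_eq_bot_iff k h1s b d, eM q, eN q]
    unfold V
    refine and_congr_right (fun _ => and_congr_right (fun _ => ?_))
    refine forall₂_congr (fun i _ => ?_)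
    rw [eM i, eN (q + 1 - i)]
  refine ⟨?_, ?_, ?_⟩
  · rw [cm_iff 𝒯 hposT h0T mT hmT 𝒬 (r + s - 1) hdimP EP, ← arith_cm r s a b h2r h2s]
    exact forall₂_congr (fun q _ => forall_congr' (fun d => hKun q d))
  · intro h
    obtain ⟨h1, d, h2⟩ := arith_depth_s r s a b h2r h2s h
    rw [idealDepth_eq_iff 𝒯 hposT h0T mT hmT 𝒬 EP s]
    exact ⟨fun q hq d => (hKun q d).mpr (h1 q hq d), d, fun h' => h2 ((hKun s d).mp h')⟩
  · intro h
    obtain ⟨h1, d, h2⟩ := arith_depth_r r s a b h2r h2s h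
    rw [idealDepth_eq_iff 𝒯 hposT h0T mT hmT 𝒬 EP r]
    exact ⟨fun q hq d => (hKun q d).mpr (h1 q hq d), d, fun h' => h2 ((hKun r d).mp h')⟩

end Main

end Groth.Agent.Lib.Helper8.GrMod
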