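import Groth.Agent.Lib.Helper8GrModB
import Groth.Agent.S18647

/-!
# Quotients of graded algebras by homogeneous ideals, and the Segre product of two quotients as a
quotient of the Segre product (helper8)
-/

set_option autoImplicit false
set_option linter.unusedSectionVars false
set_option linter.style.haveILetI false
universe u
open TensorProduct DirectSum

noncomputable section

namespace Groth.Agent.Lib.Helper8.GrMod

section GQ

variable {ι : Type} [DecidableEq ι] [AddMonoid ι] {k A : Type u} [CommRing k] [CommRing A]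
  [Algebra k A] (𝒜 : ι → Submodule k A) [GradedAlgebra 𝒜] (J : Ideal A)

/-- the quotient grading -/
def qgr (n : ι) : Submodule k (A ⧸ J) := (𝒜 n).map (Ideal.Quotient.mkₐ k J).toLinearMap

theorem mem_qgr (n : ι) (b : A ⧸ J) : b ∈ qgr 𝒜 J n ↔ ∃ a ∈ 𝒜 n, Ideal.Quotient.mk J a = b :=
  Iff.rfl

theorem mk_mem_qgr {n : ι} {a : A} (ha : a ∈ 𝒜 n) : Ideal.Quotient.mk J a ∈ qgr 𝒜 J n :=
  ⟨a, ha, rfl⟩

instance qgr_gradedMonoid : SetLike.GradedMonoid (qgr 𝒜 J) where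
  one_mem := ⟨1, SetLike.GradedOne.one_mem, map_one (Ideal.Quotient.mk J)⟩
  mul_mem := by
    rintro i j _ _ ⟨a, ha, rfl⟩ ⟨b, hb, rfl⟩
    exact ⟨a * b, SetLike.mul_mem_graded ha hb, map_mul (Ideal.Quotient.mk J) a b⟩

theorem isInternal_qgr (hJ : J.IsHomogeneous 𝒜) : DirectSum.IsInternal (qgr 𝒜 J) := by
  classical
  constructor
  · rw [injective_iff_map_eq_zero]
    intro z hz
    have hch : ∀ n, ∃ a ∈ 𝒜 n, Ideal.Quotient.mk J a = (z n : A ⧸ J) := fun n => (z n).2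
    choose a ha hza using hch
    have h1 : z = ∑ n ∈ z.support, DirectSum.of (fun n => qgr 𝒜 J n) n (z n) :=
      (DirectSum.sum_support_of z).symm
    have h2 : Ideal.Quotient.mk J (∑ n ∈ z.support, a n) = 0 := by
      rw [map_sum, ← hz]
      conv_rhs => rw [h1]
      rw [map_sum]
      refine Finset.sum_congr rfl fun n _ => ?_
      rw [DirectSum.coeAddMonoidHom_of, hza]
    rw [Ideal.Quotient.eq_zero_iff_mem] at h2
    have h3 : ∀ n ∈ z.support, a n ∈ J := by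
      intro n hn
      have := hJ n h2
      rw [DirectSum.decompose_sum, DFinsupp.finsetSum_apply, AddSubmonoidClass.coe_finsetSum,
        Finset.sum_eq_single n] at this
      · rwa [DirectSum.decompose_of_mem_same 𝒜 (ha n)] at this
      · intro m _ hmn
        rw [DirectSum.decompose_of_mem_ne 𝒜 (ha m) hmn]
      · intro h; exact absurd hn h
    rw [h1]
    refine Finset.sum_eq_zero fun n hn => ?_
    have : z n = 0 := by
      apply Subtype.ext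
      rw [← hza, Ideal.Quotient.eq_zero_iff_mem.2 (h3 n hn)]
      rfl
    rw [this, map_zero]
  · intro b
    obtain ⟨a, rfl⟩ := Ideal.Quotient.mk_surjective b
    refine ⟨∑ n ∈ (DirectSum.decompose 𝒜 a).support,
      DirectSum.of (fun n => qgr 𝒜 J n) n
        ⟨Ideal.Quotient.mk J (DirectSum.decompose 𝒜 a n : A),
          mk_mem_qgr 𝒜 J (DirectSum.decompose 𝒜 a n).2⟩, ?_⟩
    rw [map_sum]
    simp only [DirectSum.coeAddMonoidHom_of]
    rw [← map_sum, DirectSum.sum_support_decompose 𝒜 a]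

/-- the graded algebra structure on the quotient by a homogeneous ideal -/
@[instance_reducible]
def gradedAlgebraQuot (hJ : J.IsHomogeneous 𝒜) : GradedAlgebra (qgr 𝒜 J) :=
  { (inferInstance : SetLike.GradedMonoid (qgr 𝒜 J)) with
    toDecomposition := (isInternal_qgr 𝒜 J hJ).chooseDecomposition }

end GQ

section GQZ

variable {k A : Type u} [Field k] [CommRing A] [Algebra k A] (𝒜 : ℤ → Submodule k A)
  [GradedAlgebra 𝒜] (J : Ideal A)

theorem qgr_pos (hpos : ∀ n : ℤ, n < 0 → 𝒜 n = ⊥) : ∀ n : ℤ, n < 0 → qgr 𝒜 J n = ⊥ := by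
  intro n hn
  unfold qgr
  rw [hpos n hn, Submodule.map_bot]

theorem qgr_zero (h0 : 𝒜 0 = Submodule.span k {(1 : A)}) :
    qgr 𝒜 J 0 = Submodule.span k {(1 : A ⧸ J)} := by
  unfold qgr
  rw [h0, Submodule.map_span, Set.image_singleton]
  rfl

end GQZ

section Proj2

variable {k : Type u} [Field k] {A B : Type u} [CommRing A] [CommRing B] [Algebra k A] [Algebra k B]
  (𝒜 : ℤ → Submodule k A) [GradedAlgebra 𝒜] (ℬ : ℤ → Submodule k B) [GradedAlgebra ℬ]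

/-- the projection of `A ⊗ B` onto the bidegree `(n, n)` part -/
def proj2 (n : ℤ) : A ⊗[k] B →ₗ[k] A ⊗[k] B :=
  TensorProduct.map (GradedAlgebra.proj 𝒜 n) (GradedAlgebra.proj ℬ n)

theorem proj2_of_mem {m n : ℤ} {z : A ⊗[k] B} (hz : z ∈ GrSeg.segrePiece k 𝒜 ℬ m) :
    proj2 𝒜 ℬ n z = if m = n then z else 0 := by
  have hz' : z ∈ Submodule.span k {x : A ⊗[k] B | ∃ a ∈ 𝒜 m, ∃ b ∈ ℬ m, x = a ⊗ₜ[k] b} := hz
  refine Submodule.span_induction (p := fun z _ => proj2 𝒜 ℬ n z = if m = n then z else 0)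
    ?_ ?_ ?_ ?_ hz'
  · rintro _ ⟨a, ha, b, hb, rfl⟩
    unfold proj2
    rw [TensorProduct.map_tmul, GradedAlgebra.proj_apply, GradedAlgebra.proj_apply]
    by_cases h : m = n
    · subst h
      rw [if_pos rfl, DirectSum.decompose_of_mem_same 𝒜 ha, DirectSum.decompose_of_mem_same ℬ hb]
    · rw [if_neg h, DirectSum.decompose_of_mem_ne 𝒜 ha h, TensorProduct.zero_tmul]
  · rw [map_zero]; split_ifs <;> rfl
  · intro x y _ _ hx hy
    rw [map_add, hx, hy]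
    split_ifs <;> simp
  · intro c x _ hx
    rw [map_smul, hx]
    split_ifs <;> simp

end Proj2

section SegQuot

variable {k : Type u} [Field k] {R S T : Type u} [CommRing R] [CommRing S] [CommRing T]
  [Algebra k R] [Algebra k S] [Algebra k T]
variable {𝒜 : ℤ → Submodule k R} [GradedAlgebra 𝒜] {ℬ : ℤ → Submodule k S} [GradedAlgebra ℬ]
  (𝒯 : ℤ → Submodule k T) [GradedAlgebra 𝒯] (ψ : T →ₐ[k] R ⊗[k] S)
  (hT : GrSeg.IsSegreRing 𝒜 ℬ 𝒯 ψ) (I : Ideal R) (J : Ideal S)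

/-- the quotient map `R ⊗ S → R/I ⊗ S/J` -/
def piQ : R ⊗[k] S →ₐ[k] (R ⧸ I) ⊗[k] (S ⧸ J) :=
  Algebra.TensorProduct.map (Ideal.Quotient.mkₐ k I) (Ideal.Quotient.mkₐ k J)

theorem piQ_tmul (a : R) (b : S) :
    piQ (k := k) I J (a ⊗ₜ[k] b) = Ideal.Quotient.mk I a ⊗ₜ[k] Ideal.Quotient.mk J b := by
  unfold piQ
  rw [Algebra.TensorProduct.map_tmul]
  rfl

/-- the kernel of `T → R/I ⊗ S/J` -/
def segKer : Ideal T :=
  RingHom.ker (((piQ (k := k) I J).comp ψ : T →ₐ[k] (R ⧸ I) ⊗[k] (S ⧸ J)).toRingHom)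

theorem mem_segKer {t : T} : t ∈ segKer ψ I J ↔ piQ (k := k) I J (ψ t) = 0 := Iff.rfl

theorem segrePiece_map (n : ℤ) :
    (GrSeg.segrePiece k 𝒜 ℬ n).map (piQ (k := k) I J).toLinearMap =
      GrSeg.segrePiece k (qgr 𝒜 I) (qgr ℬ J) n := by
  unfold GrSeg.segrePiece
  rw [Submodule.map_span]
  congr 1
  ext z
  constructor
  · rintro ⟨_, ⟨a, ha, b, hb, rfl⟩, rfl⟩
    exact ⟨Ideal.Quotient.mk I a, mk_mem_qgr 𝒜 I ha, Ideal.Quotient.mk J b, mk_mem_qgr ℬ J hb,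
      piQ_tmul I J a b⟩
  · rintro ⟨_, ⟨a, ha, rfl⟩, _, ⟨b, hb, rfl⟩, rfl⟩
    exact ⟨a ⊗ₜ[k] b, ⟨a, ha, b, hb, rfl⟩, piQ_tmul I J a b⟩

include hT in
theorem piQ_psi_mem {n : ℤ} {t : T} (ht : t ∈ 𝒯 n) :
    piQ (k := k) I J (ψ t) ∈ GrSeg.segrePiece k (qgr 𝒜 I) (qgr ℬ J) n := by
  rw [← segrePiece_map]
  refine ⟨ψ t, ?_, rfl⟩
  rw [SetLike.mem_coe, ← hT.2 n]
  exact ⟨t, ht, rfl⟩

include hT in
theorem segKer_isHomogeneous (hI : I.IsHomogeneous 𝒜) (hJ : J.IsHomogeneous ℬ) :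
    (segKer ψ I J).IsHomogeneous 𝒯 := by
  classical
  letI := gradedAlgebraQuot 𝒜 I hI
  letI := gradedAlgebraQuot ℬ J hJ
  intro i t ht
  rw [mem_segKer] at ht ⊢
  have h1 : piQ (k := k) I J (ψ t) =
      ∑ j ∈ (DirectSum.decompose 𝒯 t).support, piQ (k := k) I J (ψ (DirectSum.decompose 𝒯 t j : T)) := by
    conv_lhs => rw [← DirectSum.sum_support_decompose 𝒯 t]
    rw [map_sum, map_sum]
  have h2 := congrArg (proj2 (qgr 𝒜 I) (qgr ℬ J) i) h1
  rw [ht, map_zero, map_sum] at h2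
  have h3 : ∀ j ∈ (DirectSum.decompose 𝒯 t).support,
      proj2 (qgr 𝒜 I) (qgr ℬ J) i (piQ (k := k) I J (ψ (DirectSum.decompose 𝒯 t j : T))) =
        if j = i then piQ (k := k) I J (ψ (DirectSum.decompose 𝒯 t j : T)) else 0 :=
    fun j _ => proj2_of_mem (qgr 𝒜 I) (qgr ℬ J) (piQ_psi_mem 𝒯 ψ hT I J (SetLike.coe_mem _))
  rw [Finset.sum_congr rfl h3, Finset.sum_ite_eq'] at h2
  by_cases hi : i ∈ (DirectSum.decompose 𝒯 t).support
  · rw [if_pos hi] at h2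
    exact h2.symm
  · rw [DFinsupp.notMem_support_iff] at hi
    rw [hi]
    simp

/-- the induced map `T/K → R/I ⊗ S/J` -/
def psiQ : (T ⧸ segKer ψ I J) →ₐ[k] (R ⧸ I) ⊗[k] (S ⧸ J) :=
  Ideal.Quotient.liftₐ (segKer ψ I J) ((piQ (k := k) I J).comp ψ) (fun _ ha => ha)

theorem psiQ_mk (t : T) :
    psiQ ψ I J (Ideal.Quotient.mk (segKer ψ I J) t) = piQ (k := k) I J (ψ t) := rfl

theorem psiQ_injective : Function.Injective (psiQ ψ I J) := by
  rw [injective_iff_map_eq_zero]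
  intro x hx
  obtain ⟨t, rfl⟩ := Ideal.Quotient.mk_surjective x
  rw [psiQ_mk] at hx
  exact Ideal.Quotient.eq_zero_iff_mem.mpr ((mem_segKer ψ I J).mpr hx)

include hT in
theorem isSegreRing_quot (hI : I.IsHomogeneous 𝒜) (hJ : J.IsHomogeneous ℬ) :
    letI := gradedAlgebraQuot 𝒜 I hI
    letI := gradedAlgebraQuot ℬ J hJ
    letI := gradedAlgebraQuot 𝒯 (segKer ψ I J) (segKer_isHomogeneous 𝒯 ψ hT I J hI hJ)
    GrSeg.IsSegreRing (qgr 𝒜 I) (qgr ℬ J) (qgr 𝒯 (segKer ψ I J)) (psiQ ψ I J) := by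
  letI := gradedAlgebraQuot 𝒜 I hI
  letI := gradedAlgebraQuot ℬ J hJ
  letI := gradedAlgebraQuot 𝒯 (segKer ψ I J) (segKer_isHomogeneous 𝒯 ψ hT I J hI hJ)
  refine ⟨psiQ_injective ψ I J, fun n => ?_⟩
  rw [← segrePiece_map (𝒜 := 𝒜) (ℬ := ℬ) I J n, ← hT.2 n]
  ext z
  constructor
  · rintro ⟨_, ⟨t, ht, rfl⟩, rfl⟩
    exact ⟨ψ t, ⟨t, ht, rfl⟩, rfl⟩
  · rintro ⟨_, ⟨t, ht, rfl⟩, rfl⟩
    exact ⟨Ideal.Quotient.mk (segKer ψ I J) t, ⟨t, ht, rfl⟩, rfl⟩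

include hT in
/-- the dimension of the quotient of the Segre product corresponding to `R/I # S/J` -/
theorem ringKrullDim_segQuot
    (hposR : ∀ n : ℤ, n < 0 → 𝒜 n = ⊥) (h0R : 𝒜 0 = Submodule.span k {(1 : R)})
    [Algebra.FiniteType k R]
    (hposS : ∀ n : ℤ, n < 0 → ℬ n = ⊥) (h0S : ℬ 0 = Submodule.span k {(1 : S)})
    [Algebra.FiniteType k S]
    (hI : I.IsHomogeneous 𝒜) (hJ : J.IsHomogeneous ℬ) (r s : ℕ)
    (hr : ringKrullDim (R ⧸ I) = r) (hs : ringKrullDim (S ⧸ J) = s) (h1r : 1 ≤ r) (h1s : 1 ≤ s) :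
    ringKrullDim (T ⧸ segKer ψ I J) = ((r + s - 1 : ℕ) : WithBot ℕ∞) := by
  letI := gradedAlgebraQuot 𝒜 I hI
  letI := gradedAlgebraQuot ℬ J hJ
  letI := gradedAlgebraQuot 𝒯 (segKer ψ I J) (segKer_isHomogeneous 𝒯 ψ hT I J hI hJ)
  have hseg := isSegreRing_quot 𝒯 ψ hT I J hI hJ
  exact Groth.Agent.S18647.result k (R ⧸ I) (qgr 𝒜 I) (qgr_pos 𝒜 I hposR) (qgr_zero 𝒜 I h0R)
    (S ⧸ J) (qgr ℬ J) (qgr_pos ℬ J hposS) (qgr_zero ℬ J h0S) (T ⧸ segKer ψ I J)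
    (qgr 𝒯 (segKer ψ I J)) (psiQ ψ I J) hseg.1 hseg.2 r s hr hs h1r h1s

end SegQuot

end Groth.Agent.Lib.Helper8.GrMod
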