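import Groth.Agent.Lib.Helper8GrModE

/-!
# Bounds for the dimension of a Segre product of graded modules (helper8)
-/

set_option autoImplicit false
set_option linter.unusedSectionVars false
set_option linter.style.haveILetI false
universe u
open TensorProduct DirectSum

noncomputable section

namespace Groth.Agent.Lib.Helper8.GrMod

open Groth.Agent.Lib.Helper8.Seg

section Bounds

variable {k : Type u} [Field k] {R S T : Type u} [CommRing R] [CommRing S] [CommRing T]
  [Algebra k R] [Algebra k S] [Algebra k T]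
variable {𝒜 : ℤ → Submodule k R} [GradedAlgebra 𝒜] {ℬ : ℤ → Submodule k S} [GradedAlgebra ℬ]
  (𝒯 : ℤ → Submodule k T) [GradedAlgebra 𝒯] (ψ : T →ₐ[k] R ⊗[k] S)
  (hT : GrSeg.IsSegreRing 𝒜 ℬ 𝒯 ψ)
variable {M : Type u} [AddCommGroup M] [Module R M] [Module k M] [IsScalarTower k R M]
  (ℳ : ℤ → AddSubgroup M) [DirectSum.Decomposition ℳ] [SetLike.GradedSMul 𝒜 ℳ]
  {N : Type u} [AddCommGroup N] [Module S N] [Module k N] [IsScalarTower k S N]
  (𝒩 : ℤ → AddSubgroup N) [DirectSum.Decomposition 𝒩] [SetLike.GradedSMul ℬ 𝒩]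
  {P : Type u} [AddCommGroup P] [Module T P] [Module k P] [IsScalarTower k T P]
  (𝒬 : ℤ → AddSubgroup P) [DirectSum.Decomposition 𝒬]
  (φ : P →ₗ[k] M ⊗[k] N) (hP : GrSeg.IsSegreMod ψ ℳ 𝒩 𝒬 φ)

/-- elements of the kernel of `R ⊗ S → R/I ⊗ S/J` act as zero on `M ⊗ N` when `I M = 0` and
`J N = 0` -/
theorem act_eq_zero_of_piQ_eq_zero (I : Ideal R) (J : Ideal S)
    (hI : I ≤ Module.annihilator R M) (hJ : J ≤ Module.annihilator S N) (b : R ⊗[k] S)
    (hb : piQ (k := k) I J b = 0) (z : M ⊗[k] N) : GrSeg.act k R S M N b z = 0 := by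
  have hker : RingHom.ker (piQ (k := k) I J) ≤ RingHom.ker (actHom (k := k) (R := R) (S := S) M N) := by
    unfold piQ
    rw [Algebra.TensorProduct.map_ker _ _ (Ideal.Quotient.mkₐ_surjective k I)
      (Ideal.Quotient.mkₐ_surjective k J), sup_le_iff, Ideal.map_le_iff_le_comap,
      Ideal.map_le_iff_le_comap]
    constructor
    · intro a ha
      have ha' : a ∈ I := by
        have : Ideal.Quotient.mkₐ k I a = 0 := ha
        rwa [Ideal.Quotient.mkₐ_eq_mk, Ideal.Quotient.eq_zero_iff_mem] at this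
      have h1 := Module.mem_annihilator.mp (hI ha')
      rw [Ideal.mem_comap, RingHom.mem_ker]
      apply LinearMap.ext
      intro q
      show actHom M N (a ⊗ₜ[k] (1 : S)) q = 0
      rw [actHom_apply]
      induction q using TensorProduct.induction_on with
      | zero => rw [map_zero]
      | add x y hx hy => rw [map_add, hx, hy, add_zero]
      | tmul x y => rw [GrSeg.act_tmul, h1 x, TensorProduct.zero_tmul]
    · intro a ha
      have ha' : a ∈ J := by
        have : Ideal.Quotient.mkₐ k J a = 0 := ha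
        rwa [Ideal.Quotient.mkₐ_eq_mk, Ideal.Quotient.eq_zero_iff_mem] at this
      have h1 := Module.mem_annihilator.mp (hJ ha')
      rw [Ideal.mem_comap, RingHom.mem_ker]
      apply LinearMap.ext
      intro q
      show actHom M N ((1 : R) ⊗ₜ[k] a) q = 0
      rw [actHom_apply]
      induction q using TensorProduct.induction_on with
      | zero => rw [map_zero]
      | add x y hx hy => rw [map_add, hx, hy, add_zero]
      | tmul x y => rw [GrSeg.act_tmul, h1 y, TensorProduct.tmul_zero]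
  have h2 : actHom (k := k) (R := R) (S := S) M N b = 0 := hker hb
  rw [← actHom_apply, h2]
  rfl

include hT hP in
/-- the upper bound -/
theorem supportDim_segre_le
    (hposR : ∀ n : ℤ, n < 0 → 𝒜 n = ⊥) (h0R : 𝒜 0 = Submodule.span k {(1 : R)})
    [Algebra.FiniteType k R]
    (hposS : ∀ n : ℤ, n < 0 → ℬ n = ⊥) (h0S : ℬ 0 = Submodule.span k {(1 : S)})
    [Algebra.FiniteType k S] [Module.Finite R M] [Module.Finite S N]
    (I : Ideal R) (J : Ideal S) (hIh : I.IsHomogeneous 𝒜) (hJh : J.IsHomogeneous ℬ)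
    (hI : I ≤ Module.annihilator R M) (hJ : J ≤ Module.annihilator S N) (r s : ℕ)
    (hr : ringKrullDim (R ⧸ I) = r) (hs : ringKrullDim (S ⧸ J) = s) (h1r : 1 ≤ r) (h1s : 1 ≤ s) :
    Module.supportDim T P ≤ ((r + s - 1 : ℕ) : WithBot ℕ∞) := by
  haveI hPfin : Module.Finite T P :=
    Groth.Agent.Lib.Helper24SegreFin3.s19747 k R 𝒜 hposR h0R S ℬ hposS h0S T 𝒯 ψ hT M ℳ N 𝒩 P 𝒬 φ hP
  have hK : segKer ψ I J ≤ Module.annihilator T P := by
    intro t ht
    rw [Module.mem_annihilator]
    intro p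
    apply hP.injective
    rw [hP.map_smul, map_zero]
    exact act_eq_zero_of_piQ_eq_zero I J hI hJ (ψ t) ((mem_segKer ψ I J).mp ht) (φ p)
  rw [Module.supportDim_eq_ringKrullDim_quotient_annihilator,
    ← ringKrullDim_segQuot 𝒯 ψ hT I J hposR h0R hposS h0S hIh hJh r s hr hs h1r h1s]
  exact ringKrullDim_le_of_surjective (Ideal.Quotient.factor hK) (Ideal.Quotient.factor_surjective hK)

/-- the annihilator of an element, as an ideal -/
def annElt (u : M) : Ideal R := LinearMap.ker (LinearMap.toSpanSingleton R M u)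

theorem mem_annElt {u : M} {a : R} : a ∈ annElt (R := R) u ↔ a • u = 0 := by
  unfold annElt
  rw [LinearMap.mem_ker, LinearMap.toSpanSingleton_apply]

include ℳ in
theorem annElt_isHomogeneous {d : ℤ} {u : M} (hu : u ∈ ℳ d) :
    (annElt (R := R) u).IsHomogeneous 𝒜 := by
  intro i a ha
  rw [mem_annElt] at ha ⊢
  have h1 := decompose_smul_right 𝒜 ℳ hu a (i + d)
  rw [add_sub_cancel_right, ha, DirectSum.decompose_zero] at h1
  rw [← h1]
  rfl

/-- the `k`-linear embedding `R / ann u → M` -/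
def embElt (u : M) : (R ⧸ annElt (R := R) u) →ₗ[k] M :=
  ((annElt (R := R) u).liftQ (LinearMap.toSpanSingleton R M u) le_rfl).restrictScalars k

theorem embElt_mk (u : M) (a : R) : embElt (k := k) u (Ideal.Quotient.mk _ a) = a • u := by
  show (annElt (R := R) u).liftQ (LinearMap.toSpanSingleton R M u) le_rfl
    (Submodule.Quotient.mk a) = _
  rw [Submodule.liftQ_apply, LinearMap.toSpanSingleton_apply]

theorem embElt_injective (u : M) : Function.Injective (embElt (k := k) (R := R) u) := by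
  intro x y hxy
  have : Function.Injective ((annElt (R := R) u).liftQ (LinearMap.toSpanSingleton R M u) le_rfl) := by
    rw [← LinearMap.ker_eq_bot]
    exact Submodule.ker_liftQ_eq_bot _ _ _ le_rfl
  exact this hxy

theorem act_tmul_eq (u : M) (v : N) (b : R ⊗[k] S) :
    GrSeg.act k R S M N b (u ⊗ₜ[k] v) =
      TensorProduct.map (embElt (k := k) u) (embElt (k := k) v)
        (piQ (k := k) (annElt (R := R) u) (annElt (R := S) v) b) := by
  induction b using TensorProduct.induction_on with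
  | zero => simp
  | add x y hx hy => rw [map_add, LinearMap.add_apply, hx, hy, map_add, map_add]
  | tmul a c =>
    rw [GrSeg.act_tmul, piQ_tmul, TensorProduct.map_tmul, embElt_mk, embElt_mk]

include hT hP in
/-- the lower bound -/
theorem le_supportDim_segre
    (hposR : ∀ n : ℤ, n < 0 → 𝒜 n = ⊥) (h0R : 𝒜 0 = Submodule.span k {(1 : R)})
    [Algebra.FiniteType k R]
    (hposS : ∀ n : ℤ, n < 0 → ℬ n = ⊥) (h0S : ℬ 0 = Submodule.span k {(1 : S)})
    [Algebra.FiniteType k S]
    (d : ℤ) (u : M) (hu : u ∈ ℳ d) (v : N) (hv : v ∈ 𝒩 d) (r s : ℕ)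
    (hr : ringKrullDim (R ⧸ annElt (R := R) u) = r) (hs : ringKrullDim (S ⧸ annElt (R := S) v) = s)
    (h1r : 1 ≤ r) (h1s : 1 ≤ s) :
    ((r + s - 1 : ℕ) : WithBot ℕ∞) ≤ Module.supportDim T P := by
  have huv : u ⊗ₜ[k] v ∈ (GrSeg.segrePiece k ℳ 𝒩 d : Set (M ⊗[k] N)) :=
    Submodule.subset_span ⟨u, hu, v, hv, rfl⟩
  rw [← hP.image_piece] at huv
  obtain ⟨w, -, hw⟩ := huv
  have hinj : Function.Injective
      (TensorProduct.map (embElt (k := k) (R := R) u) (embElt (k := k) (R := S) v)) :=
    TensorProduct.map_injective_of_flat_flat _ _ (embElt_injective u) (embElt_injective v)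
  have hK : annElt (R := T) w ≤ segKer ψ (annElt (R := R) u) (annElt (R := S) v) := by
    intro t ht
    rw [mem_annElt] at ht
    rw [mem_segKer]
    apply hinj
    rw [map_zero, ← act_tmul_eq, ← hw, ← hP.map_smul, ht, map_zero]
  rw [← ringKrullDim_segQuot 𝒯 ψ hT (annElt (R := R) u) (annElt (R := S) v) hposR h0R hposS h0S
    (annElt_isHomogeneous ℳ hu) (annElt_isHomogeneous 𝒩 hv) r s hr hs h1r h1s]
  refine (ringKrullDim_le_of_surjective (Ideal.Quotient.factor hK)
    (Ideal.Quotient.factor_surjective hK)).trans ?_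
  rw [← Module.supportDim_quotient_eq_ringKrullDim]
  refine Module.supportDim_le_of_injective
    ((annElt (R := T) w).liftQ (LinearMap.toSpanSingleton T P w) le_rfl) ?_
  rw [← LinearMap.ker_eq_bot]
  exact Submodule.ker_liftQ_eq_bot _ _ _ le_rfl

end Bounds

end Groth.Agent.Lib.Helper8.GrMod
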