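import Groth.Agent.Lib.Helper8GrModF

/-!
# Unmixedness of graded Cohen–Macaulay modules and the dimension of a Segre product of
Cohen–Macaulay modules (helper8)
-/

set_option autoImplicit false
set_option linter.unusedSectionVars false
set_option linter.style.haveILetI false
universe u
open TensorProduct DirectSum

noncomputable section

namespace Groth.Agent.Lib.Helper8.GrMod

open Groth.Agent.Lib.Helper28 Groth.Agent.Lib.Helper5 Groth.Agent.Lib.Helper5.GenDepth
  Groth.Agent.Lib.Helper25.GrGlob Groth.Agent.Lib.Helper29GrConv Groth.Agent.Lib.Helper8.Seg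

section LocalUnmixed

variable {A : Type u} [CommRing A] [IsNoetherianRing A] [IsLocalRing A]
  {X Y : Type u} [AddCommGroup X] [Module A X] [AddCommGroup Y] [Module A Y]
  [Module.Finite A Y]

/-- a nonzero submodule of a Cohen–Macaulay module over a local ring has the same dimension -/
theorem supportDim_eq_of_injective_of_cm [Nontrivial X] (f : X →ₗ[A] Y)
    (hf : Function.Injective f) (hY : LocCoh.IsCohenMacaulayModule A Y) :
    Module.supportDim A X = Module.supportDim A Y := by
  apply le_antisymm (Module.supportDim_le_of_injective f hf)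
  obtain ⟨p, hp⟩ := associatedPrimes.nonempty A X
  have hpY : p ∈ associatedPrimes A Y := associatedPrimes.subset_of_injective hf hp
  rw [← Groth.Agent.Lib.Helper28.ringKrullDim_quotient_eq_supportDim_of_isCohenMacaulayModule hY hpY]
  exact Groth.Agent.Lib.Helper28.ringKrullDim_quotient_le_supportDim (p := ⟨p, hp.isPrime⟩)
    (Groth.Agent.Lib.Helper28.mem_support_of_mem_associatedPrimes hp)

end LocalUnmixed

section DmLe

variable {R : Type u} [CommRing R] [IsNoetherianRing R]

theorem dm_le_supportDim (p : Ideal R) [hp : p.IsPrime] (M : Type u) [AddCommGroup M]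
    [Module R M] (hpM : (⟨p, hp⟩ : PrimeSpectrum R) ∈ Module.support R M) :
    dm p M ≤ Module.supportDim R M := by
  unfold dm
  rw [supportDim_localization_eq_height p M hpM]
  unfold Module.supportDim
  exact Order.height_le_krullDim _

end DmLe

section Unmixed

variable {k : Type u} [Field k] {R : Type u} [CommRing R] [Algebra k R]
  (𝒜 : ℤ → Submodule k R) [GradedAlgebra 𝒜]
  (hpos : ∀ n : ℤ, n < 0 → 𝒜 n = ⊥) (h0 : 𝒜 0 = Submodule.span k {(1 : R)})
  (m : HomogeneousIdeal 𝒜)
  (hmsp : m.toIdeal = Ideal.span (⋃ n ∈ Set.Ioi (0 : ℤ), (𝒜 n : Set R)))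
  {M : Type u} [AddCommGroup M] [Module R M] [Module k M] [IsScalarTower k R M]
  (ℳ : ℤ → AddSubgroup M)
  [DirectSum.Decomposition ℳ] [SetLike.GradedSMul 𝒜 ℳ] [IsNoetherianRing R] [Module.Finite R M]

include hpos h0 hmsp in
theorem le_irr_of_isHomogeneous [Nontrivial R] (I : Ideal R) (hI : I.IsHomogeneous 𝒜)
    (hne : I ≠ ⊤) : I ≤ m.toIdeal := by
  have hst := Groth.Agent.Lib.Helper8.GrCMk.isStarLocal_asGr 𝒜 hpos h0 m hmsp
  have hh : I.IsHomogeneous (asGr 𝒜) := by
    intro i a ha
    rw [coe_decompose_asGr]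
    exact hI i ha
  exact Groth.Agent.Lib.Helper29GrStarLocal.le_of_ne_top (asGr 𝒜) (idealAS 𝒜 m) hst _ hh hne

include hpos h0 hmsp in
/-- unmixedness of graded Cohen–Macaulay modules: the cyclic submodule generated by a nonzero
homogeneous element has full dimension -/
theorem ringKrullDim_quot_annElt
    (hMcm : ∀ (q : Ideal R) [q.IsPrime], Subsingleton (LocalizedModule q.primeCompl M) ∨
      LocCoh.IsCohenMacaulayModule (Localization.AtPrime q) (LocalizedModule q.primeCompl M))
    (r : ℕ) (hd : Module.supportDim R M = r) (d : ℤ) (u : M) (hu : u ∈ ℳ d) (hu0 : u ≠ 0) :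
    ringKrullDim (R ⧸ annElt (R := R) u) = r := by
  classical
  haveI hMnt : Nontrivial M := ⟨u, 0, hu0⟩
  haveI hRnt : Nontrivial R := Module.nontrivial R M
  haveI hmax : m.toIdeal.IsMaximal := isMaximal_irr 𝒜 hpos h0 m hmsp
  haveI hprime : m.toIdeal.IsPrime := hmax.isPrime
  have hIh : (annElt (R := R) u).IsHomogeneous 𝒜 := annElt_isHomogeneous ℳ hu
  have hIne : annElt (R := R) u ≠ ⊤ := by
    intro h
    have h1 : (1 : R) ∈ annElt (R := R) u := h ▸ Submodule.mem_top
    rw [mem_annElt, one_smul] at h1
    exact hu0 h1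
  have hIm : annElt (R := R) u ≤ m.toIdeal := le_irr_of_isHomogeneous 𝒜 hpos h0 m hmsp _ hIh hIne
  set emb : (R ⧸ annElt (R := R) u) →ₗ[R] M :=
    (annElt (R := R) u).liftQ (LinearMap.toSpanSingleton R M u) le_rfl with hemb
  have hinj : Function.Injective emb := by
    rw [← LinearMap.ker_eq_bot]
    exact Submodule.ker_liftQ_eq_bot _ _ _ le_rfl
  rw [← Module.supportDim_quotient_eq_ringKrullDim]
  apply le_antisymm
  · rw [← hd]
    exact Module.supportDim_le_of_injective emb hinj
  · have hdm : dm m.toIdeal M = r := by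
      rw [← supportDim_eq_dm 𝒜 hpos h0 m hmsp ℳ]; exact hd
    haveI hnt_m : Nontrivial (LocalizedModule m.toIdeal.primeCompl M) := by
      rw [← Module.supportDim_ne_bot_iff_nontrivial (Localization.AtPrime m.toIdeal)]
      show dm m.toIdeal M ≠ ⊥
      rw [hdm]
      exact WithBot.coe_ne_bot
    have hCMm : LocCoh.IsCohenMacaulayModule (Localization.AtPrime m.toIdeal)
        (LocalizedModule m.toIdeal.primeCompl M) := by
      rcases hMcm m.toIdeal with hsub | hcm
      · exact absurd hsub (not_subsingleton_iff_nontrivial.mpr hnt_m)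
      · exact hcm
    have hsQ : (⟨m.toIdeal, hprime⟩ : PrimeSpectrum R) ∈
        Module.support R (R ⧸ annElt (R := R) u) := by
      rw [Module.support_eq_zeroLocus, PrimeSpectrum.mem_zeroLocus, Ideal.annihilator_quotient]
      exact hIm
    haveI hXnt : Nontrivial (LocalizedModule m.toIdeal.primeCompl (R ⧸ annElt (R := R) u)) :=
      Module.mem_support_iff.mp hsQ
    have h1 := supportDim_eq_of_injective_of_cm
      (LocalizedModule.map m.toIdeal.primeCompl emb)
      (LocalizedModule.map_injective m.toIdeal.primeCompl emb hinj) hCMm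
    have h2 : dm m.toIdeal (R ⧸ annElt (R := R) u) = r := by
      show Module.supportDim _ _ = _
      rw [h1]
      exact hdm
    rw [← h2]
    exact dm_le_supportDim m.toIdeal _ hsQ

end Unmixed

end Groth.Agent.Lib.Helper8.GrMod
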