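import Groth.Agent.Lib.Helper8GrModG

/-!
# The dimension of a Segre product of graded Cohen–Macaulay modules (helper8)
-/

set_option autoImplicit false
set_option linter.unusedSectionVars false
set_option linter.style.haveILetI false
universe u
open TensorProduct DirectSum

noncomputable section

namespace Groth.Agent.Lib.Helper8.GrMod

open Groth.Agent.Lib.Helper28 Groth.Agent.Lib.Helper5 Groth.Agent.Lib.Helper5.GenDepth
  Groth.Agent.Lib.Helper25.GrGlob Groth.Agent.Lib.Helper29GrConv Groth.Agent.Lib.Helper8.Seg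

section SegDim

variable {k : Type u} [Field k] {R S T : Type u} [CommRing R] [CommRing S] [CommRing T]
  [Algebra k R] [Algebra k S] [Algebra k T]
variable {𝒜 : ℤ → Submodule k R} [GradedAlgebra 𝒜] {ℬ : ℤ → Submodule k S} [GradedAlgebra ℬ]
  (𝒯 : ℤ → Submodule k T) [GradedAlgebra 𝒯] (ψ : T →ₐ[k] R ⊗[k] S)
  (hT : GrSeg.IsSegreRing 𝒜 ℬ 𝒯 ψ)
variable {M : Type u} [AddCommGroup M] [Module R M] [Module k M] [IsScalarTower k R M]
  (ℳ : ℤ → AddSubgroup M) [DirectSum.Decomposition ℳ] [SetLike.GradedSMul 𝒜 ℳ]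
  {N : Type u} [AddCommGroup N] [Module S N] [Module k N] [IsScalarTower k S N]
  (𝒩 : ℤ → AddSubgroup N) [DirectSum.Decomposition 𝒩] [SetLike.GradedSMul ℬ 𝒩]
  {P : Type u} [AddCommGroup P] [Module T P] [Module k P] [IsScalarTower k T P]
  (𝒬 : ℤ → AddSubgroup P) [DirectSum.Decomposition 𝒬]
  (φ : P →ₗ[k] M ⊗[k] N) (hP : GrSeg.IsSegreMod ψ ℳ 𝒩 𝒬 φ)

include hP in
/-- a nonzero Segre product has a degree in which both factors are nonzero -/
theorem exists_ne_zero_of_nontrivial [Nontrivial P] :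
    ∃ d : ℤ, (∃ u ∈ ℳ d, u ≠ 0) ∧ ∃ v ∈ 𝒩 d, v ≠ 0 := by
  classical
  obtain ⟨p, hp⟩ := exists_ne (0 : P)
  have h1 : ∃ d : ℤ, ((DirectSum.decompose 𝒬 p) d : P) ≠ 0 := by
    by_contra hcon
    push Not at hcon
    apply hp
    rw [← DirectSum.sum_support_decompose 𝒬 p]
    exact Finset.sum_eq_zero (fun i _ => hcon i)
  obtain ⟨d, hd⟩ := h1
  refine ⟨d, ?_, ?_⟩
  · by_contra hcon
    push Not at hcon
    apply hd
    apply hP.injective
    rw [map_zero]
    have hmem : φ ((DirectSum.decompose 𝒬 p) d : P) ∈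
        (GrSeg.segrePiece k ℳ 𝒩 d : Set (M ⊗[k] N)) := by
      rw [← hP.image_piece]
      exact ⟨_, ((DirectSum.decompose 𝒬 p) d).2, rfl⟩
    have hbot : GrSeg.segrePiece k ℳ 𝒩 d = ⊥ := by
      unfold GrSeg.segrePiece
      rw [Submodule.span_eq_bot]
      rintro x ⟨a, ha, b, hb, rfl⟩
      rw [hcon a ha, TensorProduct.zero_tmul]
    rw [hbot] at hmem
    exact hmem
  · by_contra hcon
    push Not at hcon
    apply hd
    apply hP.injective
    rw [map_zero]
    have hmem : φ ((DirectSum.decompose 𝒬 p) d : P) ∈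
        (GrSeg.segrePiece k ℳ 𝒩 d : Set (M ⊗[k] N)) := by
      rw [← hP.image_piece]
      exact ⟨_, ((DirectSum.decompose 𝒬 p) d).2, rfl⟩
    have hbot : GrSeg.segrePiece k ℳ 𝒩 d = ⊥ := by
      unfold GrSeg.segrePiece
      rw [Submodule.span_eq_bot]
      rintro x ⟨a, ha, b, hb, rfl⟩
      rw [hcon b hb, TensorProduct.tmul_zero]
    rw [hbot] at hmem
    exact hmem

include hT hP in
/-- the dimension of a nonzero Segre product of graded Cohen–Macaulay modules -/
theorem supportDim_segre_eq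
    (hposR : ∀ n : ℤ, n < 0 → 𝒜 n = ⊥) (h0R : 𝒜 0 = Submodule.span k {(1 : R)})
    [Algebra.FiniteType k R]
    (hposS : ∀ n : ℤ, n < 0 → ℬ n = ⊥) (h0S : ℬ 0 = Submodule.span k {(1 : S)})
    [Algebra.FiniteType k S] [Module.Finite R M] [Module.Finite S N] [Nontrivial P]
    (r s : ℕ) (h1r : 1 ≤ r) (h1s : 1 ≤ s)
    (hdM : Module.supportDim R M = r) (hdN : Module.supportDim S N = s)
    (hMcm : ∀ (q : Ideal R) [q.IsPrime], Subsingleton (LocalizedModule q.primeCompl M) ∨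
      LocCoh.IsCohenMacaulayModule (Localization.AtPrime q) (LocalizedModule q.primeCompl M))
    (hNcm : ∀ (q : Ideal S) [q.IsPrime], Subsingleton (LocalizedModule q.primeCompl N) ∨
      LocCoh.IsCohenMacaulayModule (Localization.AtPrime q) (LocalizedModule q.primeCompl N)) :
    Module.supportDim T P = ((r + s - 1 : ℕ) : WithBot ℕ∞) := by
  classical
  haveI hRn : IsNoetherianRing R := Algebra.FiniteType.isNoetherianRing k R
  haveI hSn : IsNoetherianRing S := Algebra.FiniteType.isNoetherianRing k S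
  apply le_antisymm
  · refine supportDim_segre_le 𝒯 ψ hT ℳ 𝒩 𝒬 φ hP hposR h0R hposS h0S
      (Module.annihilator R M) (Module.annihilator S N) (annihilator_isHomogeneous 𝒜 ℳ)
      (annihilator_isHomogeneous ℬ 𝒩) le_rfl le_rfl r s ?_ ?_ h1r h1s
    · rw [← Module.supportDim_eq_ringKrullDim_quotient_annihilator]; exact hdM
    · rw [← Module.supportDim_eq_ringKrullDim_quotient_annihilator]; exact hdN
  · obtain ⟨d, ⟨u, hu, hu0⟩, v, hv, hv0⟩ := exists_ne_zero_of_nontrivial ψ ℳ 𝒩 𝒬 φ hP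
    refine le_supportDim_segre 𝒯 ψ hT ℳ 𝒩 𝒬 φ hP hposR h0R hposS h0S d u hu v hv r s ?_ ?_ h1r h1s
    · exact ringKrullDim_quot_annElt 𝒜 hposR h0R (Groth.Agent.Lib.Helper8.GrCMk.irr 𝒜)
        (Groth.Agent.Lib.Helper8.GrCMk.irr_toIdeal 𝒜) ℳ hMcm r hdM d u hu hu0
    · exact ringKrullDim_quot_annElt ℬ hposS h0S (Groth.Agent.Lib.Helper8.GrCMk.irr ℬ)
        (Groth.Agent.Lib.Helper8.GrCMk.irr_toIdeal ℬ) 𝒩 hNcm s hdN d v hv hv0

end SegDim

end Groth.Agent.Lib.Helper8.GrMod
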