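import Groth.Agent.Lib.Helper8GrModH
import Groth.Agent.Lib.Helper8GrModB

/-!
# Cohen–Macaulayness of a Segre product of graded Cohen–Macaulay modules (helper8)
-/

set_option autoImplicit false
set_option linter.unusedSectionVars false
set_option linter.style.haveILetI false
universe u
open TensorProduct DirectSum

noncomputable section

namespace Groth.Agent.Lib.Helper8.GrMod

open Groth.Agent.Lib.Helper28 Groth.Agent.Lib.Helper5 Groth.Agent.Lib.Helper5.GenDepth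
  Groth.Agent.Lib.Helper25.GrGlob Groth.Agent.Lib.Helper29GrConv Groth.Agent.Lib.Helper8.Seg
  Groth.Agent.Lib.Helper8.GrCMk

section SegCM

variable {k : Type u} [Field k] {R S T : Type u} [CommRing R] [CommRing S] [CommRing T]
  [Algebra k R] [Algebra k S] [Algebra k T]
variable {𝒜 : ℤ → Submodule k R} [GradedAlgebra 𝒜] {ℬ : ℤ → Submodule k S} [GradedAlgebra ℬ]
  (𝒯 : ℤ → Submodule k T) [GradedAlgebra 𝒯] (ψ : T →ₐ[k] R ⊗[k] S)
  (hT : GrSeg.IsSegreRing 𝒜 ℬ 𝒯 ψ)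
variable {M : Type u} [AddCommGroup M] [Module R M] [Module k M] [IsScalarTower k R M]
  (ℳ : ℤ → AddSubgroup M) [DirectSum.Decomposition ℳ] [SetLike.GradedSMul 𝒜 ℳ]
  {N : Type u} [AddCommGroup N] [Module S N] [Module k N] [IsScalarTower k S N]
  (𝒩 : ℤ → AddSubgroup N) [DirectSum.Decomposition 𝒩] [SetLike.GradedSMul ℬ 𝒩]
  {P : Type u} [AddCommGroup P] [Module T P] [Module k P] [IsScalarTower k T P]
  (𝒬 : ℤ → AddSubgroup P) [DirectSum.Decomposition 𝒬]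
  (φ : P →ₗ[k] M ⊗[k] N) (hP : GrSeg.IsSegreMod ψ ℳ 𝒩 𝒬 φ)

include hT hP in
/-- Cohen–Macaulayness of a nonzero Segre product of graded Cohen–Macaulay modules of
dimensions `r, s ≥ 1` -/
theorem cm_segre_iff
    (hposR : ∀ n : ℤ, n < 0 → 𝒜 n = ⊥) (h0R : 𝒜 0 = Submodule.span k {(1 : R)})
    [Algebra.FiniteType k R]
    (hposS : ∀ n : ℤ, n < 0 → ℬ n = ⊥) (h0S : ℬ 0 = Submodule.span k {(1 : S)})
    [Algebra.FiniteType k S]
    (mR : HomogeneousIdeal 𝒜)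
    (hmR : mR.toIdeal = Ideal.span (⋃ n ∈ Set.Ioi (0 : ℤ), (𝒜 n : Set R)))
    (mS : HomogeneousIdeal ℬ)
    (hmS : mS.toIdeal = Ideal.span (⋃ n ∈ Set.Ioi (0 : ℤ), (ℬ n : Set S)))
    [Module.Finite R M] (EM : GrLC.StarInjRes 𝒜 ℳ)
    [Module.Finite S N] (EN : GrLC.StarInjRes ℬ 𝒩) [Nontrivial P]
    (r s : ℕ) (h1r : 1 ≤ r) (h1s : 1 ≤ s)
    (hdM : Module.supportDim R M = r) (hdN : Module.supportDim S N = s)
    (hMcm : ∀ (q : Ideal R) [q.IsPrime], Subsingleton (LocalizedModule q.primeCompl M) ∨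
      LocCoh.IsCohenMacaulayModule (Localization.AtPrime q) (LocalizedModule q.primeCompl M))
    (hNcm : ∀ (q : Ideal S) [q.IsPrime], Subsingleton (LocalizedModule q.primeCompl N) ∨
      LocCoh.IsCohenMacaulayModule (Localization.AtPrime q) (LocalizedModule q.primeCompl N)) :
    (∀ (q : Ideal T) [q.IsPrime], Subsingleton (LocalizedModule q.primeCompl P) ∨
      LocCoh.IsCohenMacaulayModule (Localization.AtPrime q) (LocalizedModule q.primeCompl P)) ↔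
    (2 ≤ r → ∀ d : ℤ, ℳ d = ⊥ ∨ EN.Hcomp mS s d = ⊥) ∧
      (2 ≤ s → ∀ d : ℤ, EM.Hcomp mR r d = ⊥ ∨ 𝒩 d = ⊥) := by
  classical
  haveI hRn : IsNoetherianRing R := Algebra.FiniteType.isNoetherianRing k R
  haveI hSn : IsNoetherianRing S := Algebra.FiniteType.isNoetherianRing k S
  haveI hMnt : Nontrivial M :=
    (Module.supportDim_ne_bot_iff_nontrivial R M).mp (by rw [hdM]; exact WithBot.coe_ne_bot)
  haveI hNnt : Nontrivial N :=
    (Module.supportDim_ne_bot_iff_nontrivial S N).mp (by rw [hdN]; exact WithBot.coe_ne_bot)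
  haveI hRnt : Nontrivial R := Module.nontrivial R M
  haveI hSnt : Nontrivial S := Module.nontrivial S N
  haveI hTn : IsNoetherianRing T :=
    Groth.Agent.S18646.result k R 𝒜 hposR h0R S ℬ hposS h0S T 𝒯 ψ hT.1 hT.2
  haveI gs : SetLike.GradedSMul 𝒯 𝒬 := gradedSMul_of_isSegreMod 𝒯 ψ hT ℳ 𝒩 𝒬 φ hP
  haveI hPfin : Module.Finite T P :=
    Groth.Agent.Lib.Helper24SegreFin3.s19747 k R 𝒜 hposR h0R S ℬ hposS h0S T 𝒯 ψ hT M ℳ N 𝒩 P 𝒬 φ hP
  obtain ⟨EP⟩ := Groth.Agent.Lib.Helper29GrConv2.exists_res 𝒯 (ℳ := 𝒬)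
  have hmT := irr_toIdeal 𝒯
  have hposT := segre_pos 𝒯 ψ hT hposR
  have h0T := segre_zero 𝒯 ψ hT h0R h0S
  have hdimP := supportDim_segre_eq 𝒯 ψ hT ℳ 𝒩 𝒬 φ hP hposR h0R hposS h0S r s h1r h1s hdM hdN
    hMcm hNcm
  have hMlow : ∀ i, i < r → ∀ n, EM.Hcomp mR i n = ⊥ :=
    (cm_iff 𝒜 hposR h0R mR hmR ℳ r hdM EM).mp hMcm
  have hNlow : ∀ i, i < s → ∀ n, EN.Hcomp mS i n = ⊥ :=
    (cm_iff ℬ hposS h0S mS hmS 𝒩 s hdN EN).mp hNcm
  have hM : ∀ i, i ≠ r → ∀ n, EM.Hcomp mR i n = ⊥ := by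
    intro i hi n
    rcases lt_or_gt_of_ne hi with h | h
    · exact hMlow i h n
    · exact Hcomp_eq_bot_of_supportDim_lt 𝒜 mR ℳ EM i (by rw [hdM]; exact_mod_cast h) n
  have hN : ∀ i, i ≠ s → ∀ n, EN.Hcomp mS i n = ⊥ := by
    intro i hi n
    rcases lt_or_gt_of_ne hi with h | h
    · exact hNlow i h n
    · exact Hcomp_eq_bot_of_supportDim_lt ℬ mS 𝒩 EN i (by rw [hdN]; exact_mod_cast h) n
  have hKun : ∀ q, q < r + s - 1 → ∀ d, EP.Hcomp (irr 𝒯) q d = ⊥ ↔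
      ((q = s → ℳ d = ⊥ ∨ EN.Hcomp mS s d = ⊥) ∧ (q = r → EM.Hcomp mR r d = ⊥ ∨ 𝒩 d = ⊥)) := by
    intro q hq d
    rw [Hcomp_segre_eq_bot_iff 𝒯 ψ hT ℳ 𝒩 𝒬 φ hP hposR h0R hposS h0S mR hmR mS hmS (irr 𝒯) hmT
      EM EN EP d (hMlow 0 (by omega) d) (hNlow 0 (by omega) d) q]
    constructor
    · rintro ⟨h1, h2, -⟩
      refine ⟨fun hqs => ?_, fun hqr => ?_⟩
      · subst hqs; exact h1
      · subst hqr; exact h2
    · rintro ⟨h1, h2⟩
      refine ⟨?_, ?_, ?_⟩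
      · by_cases hqs : q = s
        · subst hqs; exact h1 rfl
        · exact Or.inr (hN q hqs d)
      · by_cases hqr : q = r
        · subst hqr; exact h2 rfl
        · exact Or.inl (hM q hqr d)
      · intro i _
        by_cases hir : i = r
        · right; exact hN _ (by omega) d
        · left; exact hM i hir d
  rw [cm_iff 𝒯 hposT h0T (irr 𝒯) hmT 𝒬 (r + s - 1) hdimP EP]
  constructor
  · intro h
    refine ⟨fun h2r d => ?_, fun h2s d => ?_⟩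
    · exact ((hKun s (by omega) d).mp (h s (by omega) d)).1 rfl
    · exact ((hKun r (by omega) d).mp (h r (by omega) d)).2 rfl
  · rintro ⟨h1, h2⟩ q hq d
    rw [hKun q hq d]
    refine ⟨fun hqs => ?_, fun hqr => ?_⟩
    · subst hqs; exact h1 (by omega) d
    · subst hqr; exact h2 (by omega) d

end SegCM

end Groth.Agent.Lib.Helper8.GrMod
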