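import Groth.Agent.Lib.Helper8GrModH
import Groth.Agent.Lib.Helper8NV
import Groth.Agent.Lib.Helper5SuppDim

/-!
# The dimension of a Segre product of non-Artinian graded modules over standard graded
algebras (helper8)
-/

set_option autoImplicit false
set_option linter.unusedSectionVars false
set_option linter.style.haveILetI false
universe u
open TensorProduct DirectSum

noncomputable section

namespace Groth.Agent.Lib.Helper8.GrMod

open Groth.Agent.Lib.Helper28 Groth.Agent.Lib.Helper5 Groth.Agent.Lib.Helper5.GenDepth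
  Groth.Agent.Lib.Helper25.GrGlob Groth.Agent.Lib.Helper29GrConv Groth.Agent.Lib.Helper8.Seg
  Groth.Agent.Lib.Helper8.GrCMk

section OneSide

variable {k : Type u} [Field k] {R : Type u} [CommRing R] [Algebra k R]
  (𝒜 : ℤ → Submodule k R) [GradedAlgebra 𝒜]
  (hpos : ∀ n : ℤ, n < 0 → 𝒜 n = ⊥) (h0 : 𝒜 0 = Submodule.span k {(1 : R)})
  {M : Type u} [AddCommGroup M] [Module R M] [Module k M] [IsScalarTower k R M]
  (ℳ : ℤ → AddSubgroup M) [DirectSum.Decomposition ℳ] [SetLike.GradedSMul 𝒜 ℳ]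

/-- if the annihilator of `x` lies in a prime, so does that of a homogeneous component -/
theorem exists_component_annElt_le (p : Ideal R) [hp : p.IsPrime] (x : M)
    (hx : annElt (R := R) x ≤ p) :
    ∃ d : ℤ, annElt (R := R) ((DirectSum.decompose ℳ x d : M)) ≤ p := by
  classical
  by_contra hcon
  push Not at hcon
  have h1 : ∀ d : ℤ, ∃ a : R, a • ((DirectSum.decompose ℳ x d : M)) = 0 ∧ a ∉ p := by
    intro d
    obtain ⟨a, ha, hap⟩ := SetLike.not_le_iff_exists.mp (hcon d)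
    exact ⟨a, mem_annElt.mp ha, hap⟩
  choose a ha hap using h1
  set b : R := ∏ d ∈ (DirectSum.decompose ℳ x).support, a d with hb
  have hbp : b ∉ p := by
    intro h
    obtain ⟨d, -, hd⟩ := Ideal.IsPrime.prod_mem_iff.mp h
    exact hap d hd
  apply hbp
  apply hx
  rw [mem_annElt]
  conv_lhs => rw [← DirectSum.sum_support_decompose ℳ x]
  rw [Finset.smul_sum]
  apply Finset.sum_eq_zero
  intro d hd
  obtain ⟨c, hc⟩ := Finset.dvd_prod_of_mem a hd
  rw [← hb] at hc
  rw [hc, mul_comm, mul_smul, ha d, smul_zero]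

/-- a prime of the support contains the annihilator of a homogeneous element -/
theorem exists_homogeneous_annElt_le (p : PrimeSpectrum R) (hp : p ∈ Module.support R M) :
    ∃ d : ℤ, ∃ u ∈ ℳ d, annElt (R := R) u ≤ p.asIdeal := by
  obtain ⟨x, hx⟩ := Module.mem_support_iff_exists_annihilator.mp hp
  have hx' : annElt (R := R) x ≤ p.asIdeal := by
    intro a ha
    apply hx
    rw [Submodule.mem_annihilator_span_singleton]
    exact mem_annElt.mp ha
  obtain ⟨d, hd⟩ := exists_component_annElt_le ℳ p.asIdeal x hx'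
  exact ⟨d, _, (DirectSum.decompose ℳ x d).2, hd⟩

theorem ringKrullDim_quot_annElt_of_le [Module.Finite R M] (p : Ideal R) (n : ℕ)
    (hdM : Module.supportDim R M = n) (hp : ringKrullDim (R ⧸ p) = n) (u : M)
    (hu : annElt (R := R) u ≤ p) : ringKrullDim (R ⧸ annElt (R := R) u) = n := by
  apply le_antisymm
  · rw [← hdM, Module.supportDim_eq_ringKrullDim_quotient_annihilator]
    have h : Module.annihilator R M ≤ annElt (R := R) u := by
      intro a ha
      rw [mem_annElt]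
      exact Module.mem_annihilator.mp ha u
    exact ringKrullDim_le_of_surjective (Ideal.Quotient.factor h)
      (Ideal.Quotient.factor_surjective h)
  · rw [← hp]
    exact ringKrullDim_le_of_surjective (Ideal.Quotient.factor hu)
      (Ideal.Quotient.factor_surjective hu)

include hpos h0 in
theorem exists_degree_one_notMem [Nontrivial R] [IsNoetherianRing R]
    (hstd : Ideal.span (⋃ n ∈ Set.Ioi (0 : ℤ), (𝒜 n : Set R)) =
      Ideal.span ((𝒜 1 : Submodule k R) : Set R))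
    (p : Ideal R) [hp : p.IsPrime] (hdim : 1 ≤ ringKrullDim (R ⧸ p)) :
    ∃ a ∈ 𝒜 1, a ∉ p := by
  by_contra hcon
  push Not at hcon
  have hmax : (irr 𝒜).toIdeal.IsMaximal := isMaximal_irr 𝒜 hpos h0 (irr 𝒜) (irr_toIdeal 𝒜)
  have hle : (irr 𝒜).toIdeal ≤ p := by
    rw [irr_toIdeal, hstd, Ideal.span_le]
    exact fun a ha => hcon a ha
  have heq : (irr 𝒜).toIdeal = p := hmax.eq_of_le hp.ne_top hle
  haveI hpm : p.IsMaximal := heq ▸ hmax
  letI := Ideal.Quotient.field p
  rw [ringKrullDim_eq_zero_of_field] at hdim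
  exact absurd hdim (by decide)

theorem pow_smul_mem {a : R} (ha : a ∈ 𝒜 1) {d : ℤ} {u : M} (hu : u ∈ ℳ d) (e : ℕ) :
    a ^ e • u ∈ ℳ (d + e) := by
  induction e with
  | zero => rw [pow_zero, one_smul, Nat.cast_zero, add_zero]; exact hu
  | succ e ih =>
    have h1 : a • (a ^ e • u) ∈ ℳ ((1 : ℤ) +ᵥ (d + (e : ℤ))) :=
      SetLike.GradedSMul.smul_mem ha ih
    have h2 : (1 : ℤ) +ᵥ (d + (e : ℤ)) = d + ((e + 1 : ℕ) : ℤ) := by
      rw [vadd_eq_add]; push_cast; ring
    rw [h2] at h1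
    rw [pow_succ', mul_smul]
    exact h1

theorem annElt_pow_smul_le (p : Ideal R) [hp : p.IsPrime] {a : R} (ha : a ∉ p) {u : M}
    (hu : annElt (R := R) u ≤ p) (e : ℕ) : annElt (R := R) (a ^ e • u) ≤ p := by
  intro b hb
  rw [mem_annElt, ← mul_smul] at hb
  have h1 : b * a ^ e ∈ p := hu (mem_annElt.mpr hb)
  exact (hp.mem_or_mem h1).resolve_right (fun h => ha (hp.mem_of_pow_mem e h))

include hpos h0 in
/-- in large degrees there are homogeneous elements whose cyclic module has full dimension -/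
theorem exists_homogeneous_of_ge [IsNoetherianRing R] [Module.Finite R M]
    (hstd : Ideal.span (⋃ n ∈ Set.Ioi (0 : ℤ), (𝒜 n : Set R)) =
      Ideal.span ((𝒜 1 : Submodule k R) : Set R))
    (n : ℕ) (h1 : 1 ≤ n) (hdM : Module.supportDim R M = n) :
    ∃ d₀ : ℤ, ∀ d, d₀ ≤ d → ∃ u ∈ ℳ d, ringKrullDim (R ⧸ annElt (R := R) u) = n := by
  haveI hMnt : Nontrivial M :=
    (Module.supportDim_ne_bot_iff_nontrivial R M).mp (by rw [hdM]; exact WithBot.coe_ne_bot)
  haveI hRnt : Nontrivial R := Module.nontrivial R M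
  obtain ⟨q, hq, hqd⟩ := Groth.Agent.Lib.Helper8.NV.exists_mem_support_dim_eq M n hdM
  obtain ⟨d₀, u, hu, hule⟩ := exists_homogeneous_annElt_le ℳ q hq
  obtain ⟨a, ha, hap⟩ := exists_degree_one_notMem 𝒜 hpos h0 hstd q.asIdeal
    (by rw [hqd]; exact_mod_cast h1)
  refine ⟨d₀, fun d hd => ⟨a ^ (d - d₀).toNat • u, ?_, ?_⟩⟩
  · have h2 := pow_smul_mem 𝒜 ℳ ha hu (d - d₀).toNat
    rw [Int.toNat_of_nonneg (sub_nonneg.mpr hd), add_sub_cancel] at h2
    exact h2
  · exact ringKrullDim_quot_annElt_of_le q.asIdeal n hdM hqd _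
      (annElt_pow_smul_le q.asIdeal hap hule _)

theorem one_le_of_not_isArtinian [IsNoetherianRing R] [Module.Finite R M] (n : ℕ)
    (hdM : Module.supportDim R M = n) (hA : ¬ IsArtinian R M) : 1 ≤ n := by
  by_contra hcon
  have hn : n = 0 := by omega
  apply hA
  have hfl : IsFiniteLength R M := by
    apply Groth.Agent.Lib.Helper5.isFiniteLength_of_supportDim_le_zero
    rw [hdM, hn]
    rfl
  exact (isFiniteLength_iff_isNoetherian_isArtinian.mp hfl).2

end OneSide

section SegDim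

variable {k : Type u} [Field k] {R S T : Type u} [CommRing R] [CommRing S] [CommRing T]
  [Algebra k R] [Algebra k S] [Algebra k T]
variable {𝒜 : ℤ → Submodule k R} [GradedAlgebra 𝒜] {ℬ : ℤ → Submodule k S} [GradedAlgebra ℬ]
  (𝒯 : ℤ → Submodule k T) [GradedAlgebra 𝒯] (ψ : T →ₐ[k] R ⊗[k] S)
  (hT : GrSeg.IsSegreRing 𝒜 ℬ 𝒯 ψ)
variable {M : Type u} [AddCommGroup M] [Module R M] [Module k M] [IsScalarTower k R M]
  (ℳ : ℤ → AddSubgroup M) [DirectSum.Decomposition ℳ] [SetLike.GradedSMul 𝒜 ℳ]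
  {N : Type u} [AddCommGroup N] [Module S N] [Module k N] [IsScalarTower k S N]
  (𝒩 : ℤ → AddSubgroup N) [DirectSum.Decomposition 𝒩] [SetLike.GradedSMul ℬ 𝒩]
  {P : Type u} [AddCommGroup P] [Module T P] [Module k P] [IsScalarTower k T P]
  (𝒬 : ℤ → AddSubgroup P) [DirectSum.Decomposition 𝒬]
  (φ : P →ₗ[k] M ⊗[k] N) (hP : GrSeg.IsSegreMod ψ ℳ 𝒩 𝒬 φ)

include hT hP in
/-- the dimension of a Segre product of non-Artinian graded modules over standard graded
algebras -/
theorem supportDim_segre_eq_std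
    (hposR : ∀ n : ℤ, n < 0 → 𝒜 n = ⊥) (h0R : 𝒜 0 = Submodule.span k {(1 : R)})
    [Algebra.FiniteType k R]
    (hposS : ∀ n : ℤ, n < 0 → ℬ n = ⊥) (h0S : ℬ 0 = Submodule.span k {(1 : S)})
    [Algebra.FiniteType k S] [Module.Finite R M] [Module.Finite S N]
    (hstdR : Ideal.span (⋃ n ∈ Set.Ioi (0 : ℤ), (𝒜 n : Set R)) =
      Ideal.span ((𝒜 1 : Submodule k R) : Set R))
    (hstdS : Ideal.span (⋃ n ∈ Set.Ioi (0 : ℤ), (ℬ n : Set S)) =
      Ideal.span ((ℬ 1 : Submodule k S) : Set S))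
    (dM dN : ℕ) (hdM : Module.supportDim R M = dM) (hdN : Module.supportDim S N = dN)
    (hMA : ¬ IsArtinian R M) (hNA : ¬ IsArtinian S N) :
    Module.supportDim T P = ((dM + dN - 1 : ℕ) : WithBot ℕ∞) := by
  classical
  haveI hRn : IsNoetherianRing R := Algebra.FiniteType.isNoetherianRing k R
  haveI hSn : IsNoetherianRing S := Algebra.FiniteType.isNoetherianRing k S
  have h1r : 1 ≤ dM := one_le_of_not_isArtinian dM hdM hMA
  have h1s : 1 ≤ dN := one_le_of_not_isArtinian dN hdN hNA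
  apply le_antisymm
  · refine supportDim_segre_le 𝒯 ψ hT ℳ 𝒩 𝒬 φ hP hposR h0R hposS h0S
      (Module.annihilator R M) (Module.annihilator S N) (annihilator_isHomogeneous 𝒜 ℳ)
      (annihilator_isHomogeneous ℬ 𝒩) le_rfl le_rfl dM dN ?_ ?_ h1r h1s
    · rw [← Module.supportDim_eq_ringKrullDim_quotient_annihilator]; exact hdM
    · rw [← Module.supportDim_eq_ringKrullDim_quotient_annihilator]; exact hdN
  · obtain ⟨d₁, h₁⟩ := exists_homogeneous_of_ge 𝒜 hposR h0R ℳ hstdR dM h1r hdM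
    obtain ⟨d₂, h₂⟩ := exists_homogeneous_of_ge ℬ hposS h0S 𝒩 hstdS dN h1s hdN
    obtain ⟨u, hu, hur⟩ := h₁ (max d₁ d₂) (le_max_left _ _)
    obtain ⟨v, hv, hvs⟩ := h₂ (max d₁ d₂) (le_max_right _ _)
    exact le_supportDim_segre 𝒯 ψ hT ℳ 𝒩 𝒬 φ hP hposR h0R hposS h0S (max d₁ d₂) u hu v hv
      dM dN hur hvs h1r h1s

end SegDim

end Groth.Agent.Lib.Helper8.GrMod
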