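import Groth.Agent.Lib.Helper8Seg24
import Groth.Agent.Lib.Helper25AInvPoly
import Groth.Agent.S17771

/-!
# One-dimensional standard graded Cohen–Macaulay algebras with negative a-invariant (helper8)
-/

set_option autoImplicit false
set_option linter.unusedSectionVars false
set_option linter.style.haveILetI false
universe u
open TensorProduct DirectSum Cardinal

noncomputable section

namespace Groth.Agent.Lib.Helper8.Seg

open Groth.Agent.Lib.Helper29GrConv Groth.Agent.Lib.Helper8.GrCMk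

section End

variable {M N : Type u} [AddCommGroup M] [AddCommGroup N] (ℳ : ℤ → AddSubgroup M)
  (𝒩 : ℤ → AddSubgroup N)

theorem endDeg_congr (h : ∀ n, ℳ n = ⊥ ↔ 𝒩 n = ⊥) : GrLC.endDeg ℳ = GrLC.endDeg 𝒩 := by
  apply le_antisymm
  · rw [Groth.Agent.Lib.Helper29EndDeg.endDeg_le_iff]
    intro n hn
    exact Groth.Agent.Lib.Helper29EndDeg.le_endDeg 𝒩 (fun h' => hn ((h n).mpr h'))
  · rw [Groth.Agent.Lib.Helper29EndDeg.endDeg_le_iff]
    intro n hn
    exact Groth.Agent.Lib.Helper29EndDeg.le_endDeg ℳ (fun h' => hn ((h n).mp h'))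

theorem endDeg_eq_neg_one_of_lt (h1 : (((-1 : ℤ) : WithTop ℤ) : WithBot (WithTop ℤ)) ≤ GrLC.endDeg ℳ)
    (h2 : GrLC.endDeg ℳ < 0) :
    GrLC.endDeg ℳ = (((-1 : ℤ) : WithTop ℤ) : WithBot (WithTop ℤ)) := by
  apply le_antisymm _ h1
  rw [Groth.Agent.Lib.Helper29EndDeg.endDeg_le_iff]
  intro n hn
  rw [Groth.Agent.Lib.Helper29EndDeg.coe_le_coe_iff]
  by_contra hlt
  exact hn ((endDeg_lt_zero_iff ℳ).mp h2 n (by omega))

end End

section Dim

/-- the Krull dimension of a nontrivial algebra of finite type over a field is a natural number -/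
theorem exists_ringKrullDim_eq_nat (k : Type u) [Field k] (A : Type u) [CommRing A] [Algebra k A]
    [Algebra.FiniteType k A] [Nontrivial A] : ∃ n : ℕ, ringKrullDim A = (n : WithBot ℕ∞) := by
  obtain ⟨n, f, hf⟩ := Algebra.FiniteType.iff_quotient_mvPolynomial''.mp
    (inferInstance : Algebra.FiniteType k A)
  have h1 : ringKrullDim A ≤ ringKrullDim (MvPolynomial (Fin n) k) :=
    ringKrullDim_le_of_surjective f.toRingHom hf
  have h2 : ringKrullDim (MvPolynomial (Fin n) k) = n := by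
    rw [MvPolynomial.ringKrullDim_of_isNoetherianRing, ringKrullDim_eq_zero_of_field, zero_add,
      Nat.card_eq_fintype_card, Fintype.card_fin]
  rw [h2] at h1
  have hne : ringKrullDim A ≠ ⊥ := fun h => by
    have h0 := ringKrullDim_nonneg_of_nontrivial (R := A)
    rw [h] at h0
    exact absurd h0 (by simp)
  obtain ⟨d, hd⟩ := WithBot.ne_bot_iff_exists.mp hne
  rw [← hd] at h1
  have h3 : d ≤ (n : ℕ∞) := WithBot.coe_le_coe.mp h1
  have hdtop : d ≠ ⊤ := fun h => by
    rw [h] at h3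
    exact absurd h3 (by simp)
  obtain ⟨j, hj⟩ := ENat.ne_top_iff_exists.mp hdtop
  exact ⟨j, by rw [← hd, ← hj]; rfl⟩

end Dim

section Std

variable {k : Type u} [Field k] {R : Type u} [CommRing R] [Algebra k R]
  (𝒜 : ℤ → Submodule k R) [GradedAlgebra 𝒜]
  (hpos : ∀ n : ℤ, n < 0 → 𝒜 n = ⊥) (h0 : 𝒜 0 = Submodule.span k {(1 : R)})
  (hstd : Ideal.span (⋃ n ∈ Set.Ioi (0 : ℤ), (𝒜 n : Set R)) =
    Ideal.span ((𝒜 1 : Submodule k R) : Set R))

include h0 in
/-- the degree zero part is `k` -/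
theorem deg0_bijective [Nontrivial R] :
    Function.Bijective (fun c : k => (⟨algebraMap k R c, SetLike.algebraMap_mem_graded 𝒜 c⟩ :
      GrLC.deg0 (asGr 𝒜))) := by
  constructor
  · intro a b hab
    exact (algebraMap k R).injective (congrArg Subtype.val hab)
  · intro a
    obtain ⟨c, hc⟩ := exists_algebraMap 𝒜 h0 a.1 a.2
    exact ⟨c, Subtype.ext hc⟩

/-- the ring isomorphism `k ≃ R_0` -/
def deg0Equiv [Nontrivial R] (h0 : 𝒜 0 = Submodule.span k {(1 : R)}) :
    k ≃+* GrLC.deg0 (asGr 𝒜) :=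
  RingEquiv.ofBijective
    ((algebraMap k R).codRestrict (GrLC.deg0 (asGr 𝒜))
      (fun c => SetLike.algebraMap_mem_graded 𝒜 c))
    (deg0_bijective 𝒜 h0)

include hpos h0 hstd in
/-- a one-dimensional standard graded Cohen–Macaulay `k`-algebra has negative a-invariant iff it
is the polynomial ring in one variable -/
theorem endDeg_lt_zero_iff_polynomial [Algebra.FiniteType k R] [LocCoh.IsCohenMacaulayRing R]
    (hr : ringKrullDim R = 1) (m : HomogeneousIdeal 𝒜)
    (hmsp : m.toIdeal = Ideal.span (⋃ n ∈ Set.Ioi (0 : ℤ), (𝒜 n : Set R)))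
    (I : GrLC.StarInjRes 𝒜 𝒜) :
    GrLC.endDeg (I.Hgr m 1) < 0 ↔ Nonempty (R ≃ₐ[k] Polynomial k) := by
  classical
  have hNR : IsNoetherianRing R := Algebra.FiniteType.isNoetherianRing k R
  have hnt : Nontrivial R := by
    by_contra hnt
    rw [not_nontrivial_iff_subsingleton] at hnt
    rw [ringKrullDim_eq_bot_of_subsingleton] at hr
    exact absurd hr (by simp)
  have hr' : ringKrullDim R = ((1 : ℕ) : WithBot ℕ∞) := by rw [hr]; rfl
  have hposA := asGr_pos 𝒜 hpos
  have hF := isField_deg0 𝒜 h0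
  have hm := isStarLocal_asGr 𝒜 hpos h0 m hmsp
  have hstdA : Ideal.span (⋃ n ∈ Set.Ioi (0 : ℤ), (asGr 𝒜 n : Set R)) =
      Ideal.span ((asGr 𝒜 1 : AddSubgroup R) : Set R) := hstd
  have hmspA : (idealAS 𝒜 m).toIdeal =
      Ideal.span (⋃ n ∈ Set.Ioi (0 : ℤ), (asGr 𝒜 n : Set R)) := hmsp
  have hend : GrLC.endDeg (I.Hgr m 1) = GrLC.endDeg ((resAS I).Hgr (idealAS 𝒜 m) 1) := by
    apply endDeg_congr
    intro n
    constructor
    · intro h
      have h1 : I.Hcomp m 1 n = ⊥ := Submodule.toAddSubgroup_injective (h.trans rfl)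
      exact congrArg Submodule.toAddSubgroup ((Hcomp_resAS_eq_bot_iff I m 1 n).mpr h1)
    · intro h
      have h1 : (resAS I).Hcomp (idealAS 𝒜 m) 1 n = ⊥ :=
        Submodule.toAddSubgroup_injective (h.trans rfl)
      exact congrArg Submodule.toAddSubgroup ((Hcomp_resAS_eq_bot_iff I m 1 n).mp h1)
  have hArt : IsArtinianRing (GrLC.deg0 (asGr 𝒜)) := (deg0Equiv 𝒜 h0).isArtinianRing
  have hge := Groth.Agent.S17771.result R (asGr 𝒜) hposA hstdA (idealAS 𝒜 m) hm 1 hr' (resAS I)
  rw [hend]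
  constructor
  · intro hlt
    have heq := endDeg_eq_neg_one_of_lt _ hge hlt
    have h1 := Groth.Agent.Lib.Helper25.AInvPoly.finrank_piece_one_eq (asGr 𝒜) hposA hF hstdA
      (idealAS 𝒜 m) hm hmspA 1 hr' (resAS I) heq
    obtain ⟨x, hx, hspan⟩ :=
      Groth.Agent.Lib.Helper25.StdPoly.exists_basis_piece_one (asGr 𝒜) hF 1 h1
    have htop := Groth.Agent.Lib.Helper25.StdPoly.adjoin_range_eq_top (asGr 𝒜) hposA hstdA x hspan
    -- the `k`-algebra map `k[X] → R`
    let φ : Polynomial k →ₐ[k] R := Polynomial.aeval (x 0)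
    have hsurj : Function.Surjective φ := by
      intro y
      have hy : y ∈ Algebra.adjoin (GrLC.deg0 (asGr 𝒜)) (Set.range x) := by
        rw [htop]; exact Algebra.mem_top
      refine Algebra.adjoin_induction (p := fun y _ => ∃ f, φ f = y) ?_ ?_ ?_ ?_ hy
      · rintro _ ⟨i, rfl⟩
        refine ⟨Polynomial.X, ?_⟩
        have hi : i = 0 := Subsingleton.elim _ _
        rw [hi]
        exact Polynomial.aeval_X _
      · intro c
        obtain ⟨d, hd⟩ := exists_algebraMap 𝒜 h0 c.1 c.2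
        refine ⟨Polynomial.C d, ?_⟩
        show Polynomial.aeval (x 0) (Polynomial.C d) = c.1
        rw [Polynomial.aeval_C, hd]
      · rintro a b _ _ ⟨f, rfl⟩ ⟨g, rfl⟩
        exact ⟨f + g, map_add _ _ _⟩
      · rintro a b _ _ ⟨f, rfl⟩ ⟨g, rfl⟩
        exact ⟨f * g, map_mul _ _ _⟩
    have hinj : Function.Injective φ := by
      rw [injective_iff_map_eq_zero]
      intro f hf
      by_contra hne
      have hfnzd : f ∈ nonZeroDivisors (Polynomial k) := mem_nonZeroDivisors_of_ne_zero hne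
      have h1 := ringKrullDim_quotient_succ_le_of_nonZeroDivisor hfnzd
      have hle : ∀ a ∈ Ideal.span {f}, φ.toRingHom a = 0 := by
        intro a ha
        obtain ⟨c, rfl⟩ := Ideal.mem_span_singleton'.mp ha
        show φ (c * f) = 0
        rw [map_mul, hf, mul_zero]
      let ψ : (Polynomial k ⧸ Ideal.span {f}) →+* R :=
        Ideal.Quotient.lift (Ideal.span {f}) φ.toRingHom hle
      have hψ : Function.Surjective ψ := by
        intro b
        obtain ⟨a, rfl⟩ := hsurj b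
        exact ⟨Ideal.Quotient.mk _ a, rfl⟩
      have h2 : ringKrullDim R ≤ ringKrullDim (Polynomial k ⧸ Ideal.span {f}) :=
        ringKrullDim_le_of_surjective ψ hψ
      have hdimS : ringKrullDim (Polynomial k) = 1 := by
        rw [Polynomial.ringKrullDim_of_isNoetherianRing, ringKrullDim_eq_zero_of_field, zero_add]
      rw [hdimS] at h1
      rw [hr] at h2
      have h3 : (1 : WithBot ℕ∞) + 1 ≤ 1 := (add_le_add_left h2 1).trans h1
      exact absurd h3 (by decide)
    exact ⟨(AlgEquiv.ofBijective φ ⟨hinj, hsurj⟩).symm⟩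
  · rintro ⟨e⟩
    have he : Nonempty (R ≃+* MvPolynomial (Fin 1) (GrLC.deg0 (asGr 𝒜))) := by
      refine ⟨e.toRingEquiv.trans ?_⟩
      refine (MvPolynomial.uniqueAlgEquiv k (Fin 1)).symm.toRingEquiv.trans ?_
      exact MvPolynomial.mapEquiv (Fin 1) (deg0Equiv 𝒜 h0)
    have heq := Groth.Agent.Lib.Helper25.AInvPoly.endDeg_eq_of_nonempty_ringEquiv (asGr 𝒜) hposA hF
      hstdA (idealAS 𝒜 m) hm hmspA 1 hr' (resAS I) he
    rw [heq]
    have h00 : (0 : WithBot (WithTop ℤ)) = (((0 : ℤ) : WithTop ℤ) : WithBot (WithTop ℤ)) := rfl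
    rw [h00, WithBot.coe_lt_coe, WithTop.coe_lt_coe]
    norm_num

end Std

end Groth.Agent.Lib.Helper8.Seg
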