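import Groth.Agent.Lib.Helper8GrModA
import Groth.Agent.Lib.Helper8Seg25
import Groth.Agent.Lib.Helper8Seg23
import Groth.Agent.Lib.Helper8LC2
import Groth.Agent.Lib.Helper29GrHmod

/-!
# One-dimensional standard graded Cohen–Macaulay algebras: linear non-zero-divisors and the
Hilbert function (helper8)
-/

set_option autoImplicit false
set_option linter.unusedSectionVars false
set_option linter.style.haveILetI false
universe u
open TensorProduct DirectSum
open scoped Pointwise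

noncomputable section

namespace Groth.Agent.Lib.Helper8.GrMod

open Groth.Agent.Lib.Helper29GrConv Groth.Agent.Lib.Helper8.Seg Groth.Agent.Lib.Helper8.GrCMk

section DimOne

variable {k : Type u} [Field k] {R : Type u} [CommRing R] [Algebra k R]
  (𝒜 : ℤ → Submodule k R) [GradedAlgebra 𝒜]
  (hpos : ∀ n : ℤ, n < 0 → 𝒜 n = ⊥) (h0 : 𝒜 0 = Submodule.span k {(1 : R)})
  (hstd : Ideal.span (⋃ n ∈ Set.Ioi (0 : ℤ), (𝒜 n : Set R)) =
    Ideal.span ((𝒜 1 : Submodule k R) : Set R))
  (m : HomogeneousIdeal 𝒜)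
  (hmsp : m.toIdeal = Ideal.span (⋃ n ∈ Set.Ioi (0 : ℤ), (𝒜 n : Set R)))

/-- vanishing of `H^0_m(R)` in all degrees kills the `m`-power torsion of `R` -/
theorem torsionSub_eq_bot_of_H0 [IsNoetherianRing R] (I : GrLC.StarInjRes 𝒜 𝒜)
    (h : ∀ n, I.Hcomp m 0 n = ⊥) : DRing.torsionSub m.toIdeal R = ⊥ := by
  have hsub : Subsingleton (LocCoh.H m.toIdeal 0 R) :=
    (H_subsingleton_iff_k 𝒜 m (asGr 𝒜) (selfRes I) 0).mpr h
  rw [eq_bot_iff]
  intro x hx
  have h1 : (⟨x, hx⟩ : DRing.torsionSub m.toIdeal (ModuleCat.of R R)) = 0 :=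
    (Groth.Agent.Lib.Helper8.LC.ΦEquiv m.toIdeal (ModuleCat.of R R)).symm.injective
      (Subsingleton.elim _ _)
  exact (Submodule.mem_bot R).mpr (congrArg Subtype.val h1)

/-- products of `n` elements of degree one have degree `n` -/
theorem pow_set_subset (n : ℕ) :
    (((𝒜 1 : Submodule k R) : Set R)) ^ n ⊆ ((𝒜 (n : ℤ) : Submodule k R) : Set R) := by
  induction n with
  | zero =>
    rw [pow_zero]
    intro x hx
    rw [Set.mem_one] at hx
    rw [hx]
    exact SetLike.one_mem_graded 𝒜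
  | succ n ih =>
    rw [pow_succ]
    intro x hx
    obtain ⟨y, hy, w, hw, rfl⟩ := Set.mem_mul.mp hx
    have h1 := SetLike.mul_mem_graded (ih hy) hw
    have h2 : ((n : ℤ) + 1) = ((n + 1 : ℕ) : ℤ) := by push_cast; ring
    rw [h2] at h1
    exact h1

include hstd hmsp in
theorem pow_le_span (n : ℕ) :
    m.toIdeal ^ n ≤ Ideal.span ((𝒜 (n : ℤ) : Submodule k R) : Set R) := by
  rw [hmsp, hstd]
  have h1 : Ideal.span (((𝒜 1 : Submodule k R) : Set R)) ^ n =
      Ideal.span ((((𝒜 1 : Submodule k R) : Set R)) ^ n) := Submodule.span_pow _ n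
  rw [h1]
  exact Ideal.span_mono (pow_set_subset 𝒜 n)

include hstd hmsp in
/-- an element killed by a whole piece of nonnegative degree is `m`-power torsion -/
theorem mem_torsionSub_of_piece (n : ℕ) (u : R) (hu : ∀ w ∈ 𝒜 (n : ℤ), w * u = 0) :
    u ∈ DRing.torsionSub m.toIdeal R := by
  refine ⟨n, fun y hy => ?_⟩
  have h1 := pow_le_span 𝒜 hstd m hmsp n hy
  have h2 : Ideal.span ((𝒜 (n : ℤ) : Submodule k R) : Set R) ≤
      LinearMap.ker (LinearMap.toSpanSingleton R R u) := by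
    rw [Ideal.span_le]
    intro w hw
    rw [SetLike.mem_coe, LinearMap.mem_ker, LinearMap.toSpanSingleton_apply, smul_eq_mul]
    exact hu w hw
  have h3 := h2 h1
  rw [LinearMap.mem_ker, LinearMap.toSpanSingleton_apply] at h3
  exact h3

include hpos h0 hstd hmsp in
/-- if some piece of positive degree is one-dimensional and `R` has no `m`-torsion, there is a
non-zero-divisor of degree one -/
theorem exists_nzd_deg_one [IsNoetherianRing R] (hdim : 1 ≤ ringKrullDim R)
    (htor : DRing.torsionSub m.toIdeal R = ⊥) (a : ℤ) (ha : 1 ≤ a)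
    (h1 : Module.finrank k (𝒜 a) = 1) :
    ∃ x ∈ 𝒜 1, ∀ u : R, x * u = 0 → u = 0 := by
  classical
  obtain ⟨⟨z, hz⟩, hz0, hzspan⟩ := finrank_eq_one_iff'.mp h1
  have hz0' : z ≠ 0 := fun h => hz0 (Subtype.ext h)
  obtain ⟨n, rfl⟩ := Int.eq_ofNat_of_zero_le (by omega : (0 : ℤ) ≤ a)
  have hn1 : 1 ≤ n := by exact_mod_cast ha
  -- `z` is a non-zero-divisor
  have hznzd : ∀ u : R, z * u = 0 → u = 0 := by
    intro u hu
    have h2 : u ∈ DRing.torsionSub m.toIdeal R := by
      apply mem_torsionSub_of_piece 𝒜 hstd m hmsp n u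
      intro w hw
      obtain ⟨c, hc⟩ := hzspan ⟨w, hw⟩
      have hc' : c • z = w := congrArg Subtype.val hc
      rw [← hc', smul_mul_assoc, hu, smul_zero]
    rw [htor] at h2
    exact (Submodule.mem_bot R).mp h2
  -- a nonzero product
  have hex : ∃ x ∈ 𝒜 1, ∃ w ∈ 𝒜 ((n : ℤ) - 1), x * w ≠ 0 := by
    by_contra hcon
    push Not at hcon
    apply piece_ne_bot_of_std 𝒜 hpos h0 hstd hdim ((n : ℤ) - 1) (by omega)
    rw [eq_bot_iff]
    intro w hw
    have h2 : w ∈ DRing.torsionSub m.toIdeal R := by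
      apply mem_torsionSub_of_piece 𝒜 hstd m hmsp 1 w
      intro x hx
      exact hcon x (by exact_mod_cast hx) w hw
    rw [htor] at h2
    exact (Submodule.mem_bot k).mpr ((Submodule.mem_bot R).mp h2)
  obtain ⟨x, hx, w, hw, hxw⟩ := hex
  refine ⟨x, hx, fun u hu => ?_⟩
  have h3 : x * w ∈ 𝒜 (n : ℤ) := by
    have := SetLike.mul_mem_graded hx hw
    rwa [add_sub_cancel] at this
  obtain ⟨c, hc⟩ := hzspan ⟨x * w, h3⟩
  have hc' : c • z = x * w := congrArg Subtype.val hc
  have hc0 : c ≠ 0 := by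
    intro h
    rw [h, zero_smul] at hc'
    exact hxw hc'.symm
  apply hznzd u
  have h4 : (c • z) * u = 0 := by
    rw [hc', mul_assoc, mul_comm w u, ← mul_assoc, hu, zero_mul]
  rw [smul_mul_assoc] at h4
  exact (smul_eq_zero.mp h4).resolve_left hc0

include h0 in
theorem finrank_le_succ_of_nzd [Nontrivial R] [IsNoetherianRing R] (x : R) (hx : x ∈ 𝒜 1)
    (hnzd : ∀ u : R, x * u = 0 → u = 0) (n : ℤ) :
    Module.finrank k (𝒜 n) ≤ Module.finrank k (𝒜 (n + 1)) := by
  haveI := finite_piece 𝒜 h0 (n + 1)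
  let f : 𝒜 n →ₗ[k] 𝒜 (n + 1) :=
    { toFun := fun y => ⟨x * y.1, by
        have := SetLike.mul_mem_graded hx y.2
        rwa [add_comm] at this⟩
      map_add' := fun y y' => Subtype.ext (mul_add x y.1 y'.1)
      map_smul' := fun c y => Subtype.ext (mul_smul_comm c x y.1) }
  refine LinearMap.finrank_le_finrank_of_injective (f := f) ?_
  intro y y' hyy
  have h1 : x * y.1 = x * y'.1 := congrArg Subtype.val hyy
  apply Subtype.ext
  have h2 : x * (y.1 - y'.1) = 0 := by rw [mul_sub, h1, sub_self]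
  exact sub_eq_zero.mp (hnzd _ h2)

include h0 in
theorem finrank_one_le_of_nzd [Nontrivial R] [IsNoetherianRing R] (x : R) (hx : x ∈ 𝒜 1)
    (hnzd : ∀ u : R, x * u = 0 → u = 0) (a : ℤ) (ha : 1 ≤ a) :
    Module.finrank k (𝒜 1) ≤ Module.finrank k (𝒜 a) := by
  induction a, ha using Int.leInduction with
  | base => exact le_rfl
  | succ n _ ih => exact ih.trans (finrank_le_succ_of_nzd 𝒜 h0 x hx hnzd n)

include hpos h0 hstd hmsp in
/-- the Hilbert function of a one-dimensional standard graded algebra without `m`-torsion: a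
one-dimensional piece in positive degree forces `dim R_1 = 1` -/
theorem finrank_one_eq_one [IsNoetherianRing R] (hdim : 1 ≤ ringKrullDim R)
    (htor : DRing.torsionSub m.toIdeal R = ⊥) (a : ℤ) (ha : 1 ≤ a)
    (h1 : Module.finrank k (𝒜 a) = 1) : Module.finrank k (𝒜 1) = 1 := by
  have hnt : Nontrivial R := by
    by_contra hnt
    rw [not_nontrivial_iff_subsingleton] at hnt
    rw [ringKrullDim_eq_bot_of_subsingleton] at hdim
    exact absurd hdim (by simp)
  obtain ⟨x, hx, hnzd⟩ := exists_nzd_deg_one 𝒜 hpos h0 hstd m hmsp hdim htor a ha h1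
  apply le_antisymm
  · rw [← h1]
    exact finrank_one_le_of_nzd 𝒜 h0 x hx hnzd a ha
  · have h2 := piece_ne_bot_of_std 𝒜 hpos h0 hstd hdim 1 (by norm_num)
    rw [Ne, piece_eq_bot_iff 𝒜 h0 1] at h2
    omega

include hpos h0 hstd in
/-- a one-dimensional standard graded algebra with `dim R_1 = 1` is the polynomial ring on a
generator of `R_1` -/
theorem exists_aeval_bijective [Algebra.FiniteType k R] (hr : ringKrullDim R = 1)
    (h1 : Module.finrank k (𝒜 1) = 1) :
    ∃ t ∈ 𝒜 1, Function.Bijective (Polynomial.aeval t : Polynomial k →ₐ[k] R) := by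
  classical
  have hNR : IsNoetherianRing R := Algebra.FiniteType.isNoetherianRing k R
  have hnt : Nontrivial R := by
    by_contra hnt
    rw [not_nontrivial_iff_subsingleton] at hnt
    rw [ringKrullDim_eq_bot_of_subsingleton] at hr
    exact absurd hr (by simp)
  obtain ⟨⟨t, ht⟩, ht0, htspan⟩ := finrank_eq_one_iff'.mp h1
  have hposA := asGr_pos 𝒜 hpos
  have hstdA : Ideal.span (⋃ n ∈ Set.Ioi (0 : ℤ), (asGr 𝒜 n : Set R)) =
      Ideal.span ((asGr 𝒜 1 : AddSubgroup R) : Set R) := hstd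
  let x : Fin 1 → R := fun _ => t
  have hspan : ∀ v ∈ asGr 𝒜 1, v ∈ Submodule.span (GrLC.deg0 (asGr 𝒜)) (Set.range x) := by
    intro v hv
    obtain ⟨c, hc⟩ := htspan ⟨v, hv⟩
    have hc' : c • t = v := congrArg Subtype.val hc
    rw [← hc']
    have h2 : c • t = (⟨algebraMap k R c, SetLike.algebraMap_mem_graded 𝒜 c⟩ :
        GrLC.deg0 (asGr 𝒜)) • t := by
      show c • t = algebraMap k R c * t
      rw [Algebra.smul_def]
    rw [h2]
    exact Submodule.smul_mem _ _ (Submodule.subset_span ⟨0, rfl⟩)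
  have htop := Groth.Agent.Lib.Helper25.StdPoly.adjoin_range_eq_top (asGr 𝒜) hposA hstdA x hspan
  refine ⟨t, ht, ?_⟩
  let φ : Polynomial k →ₐ[k] R := Polynomial.aeval t
  have hsurj : Function.Surjective φ := by
    intro y
    have hy : y ∈ Algebra.adjoin (GrLC.deg0 (asGr 𝒜)) (Set.range x) := by
      rw [htop]; exact Algebra.mem_top
    refine Algebra.adjoin_induction (p := fun y _ => ∃ f, φ f = y) ?_ ?_ ?_ ?_ hy
    · rintro _ ⟨i, rfl⟩
      exact ⟨Polynomial.X, Polynomial.aeval_X _⟩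
    · intro c
      obtain ⟨d, hd⟩ := exists_algebraMap 𝒜 h0 c.1 c.2
      refine ⟨Polynomial.C d, ?_⟩
      show Polynomial.aeval t (Polynomial.C d) = c.1
      rw [Polynomial.aeval_C, hd]
    · rintro a b _ _ ⟨f, rfl⟩ ⟨g, rfl⟩
      exact ⟨f + g, map_add _ _ _⟩
    · rintro a b _ _ ⟨f, rfl⟩ ⟨g, rfl⟩
      exact ⟨f * g, map_mul _ _ _⟩
  have hinj : Function.Injective φ := by
    rw [injective_iff_map_eq_zero]
    intro f hf
    by_contra hne
    have hfnzd : f ∈ nonZeroDivisors (Polynomial k) := mem_nonZeroDivisors_of_ne_zero hne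
    have h1 := ringKrullDim_quotient_succ_le_of_nonZeroDivisor hfnzd
    have hle : ∀ a ∈ Ideal.span {f}, φ.toRingHom a = 0 := by
      intro a ha
      obtain ⟨c, rfl⟩ := Ideal.mem_span_singleton'.mp ha
      show φ (c * f) = 0
      rw [map_mul, hf, mul_zero]
    let ψ : (Polynomial k ⧸ Ideal.span {f}) →+* R :=
      Ideal.Quotient.lift (Ideal.span {f}) φ.toRingHom hle
    have hψ : Function.Surjective ψ := by
      intro b
      obtain ⟨a, rfl⟩ := hsurj b
      exact ⟨Ideal.Quotient.mk _ a, rfl⟩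
    have h2 : ringKrullDim R ≤ ringKrullDim (Polynomial k ⧸ Ideal.span {f}) :=
      ringKrullDim_le_of_surjective ψ hψ
    have hdimS : ringKrullDim (Polynomial k) = 1 := by
      rw [Polynomial.ringKrullDim_of_isNoetherianRing, ringKrullDim_eq_zero_of_field, zero_add]
    rw [hdimS] at h1
    rw [hr] at h2
    have h3 : (1 : WithBot ℕ∞) + 1 ≤ 1 := (add_le_add_left h2 1).trans h1
    exact absurd h3 (by decide)
  exact ⟨hinj, hsurj⟩

include hpos h0 hmsp in
/-- the top nonvanishing degree of a graded local cohomology module which does not vanish in all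
nonnegative degrees -/
theorem exists_top_degree [Nontrivial R] [IsNoetherianRing R] (I : GrLC.StarInjRes 𝒜 𝒜) (i : ℕ)
    (h : ¬ GrLC.endDeg (I.Hgr m i) < 0) :
    ∃ a : ℤ, 0 ≤ a ∧ I.Hcomp m i a ≠ ⊥ ∧ ∀ n, a < n → I.Hcomp m i n = ⊥ := by
  classical
  rw [endDeg_lt_zero_iff] at h
  push Not at h
  obtain ⟨n₀, hn₀, hne⟩ := h
  have hne' : I.Hcomp m i n₀ ≠ ⊥ := fun h1 => hne (congrArg Submodule.toAddSubgroup h1)
  have hposA := asGr_pos 𝒜 hpos
  have hm := isStarLocal_asGr 𝒜 hpos h0 m hmsp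
  obtain ⟨N, hN⟩ := Groth.Agent.Lib.Helper29.GrHmod.exists_Hcomp_eq_bot (asGr 𝒜) hposA
    (idealAS 𝒜 m) hm (asGr 𝒜) (resAS I) i
  have hbdd : ∃ b : ℤ, ∀ z : ℤ, I.Hcomp m i z ≠ ⊥ → z ≤ b := by
    refine ⟨N, fun z hz => ?_⟩
    by_contra hlt
    exact hz ((Hcomp_resAS_eq_bot_iff I m i z).mp (hN z (by omega)))
  obtain ⟨a, ha, hmax⟩ := Int.exists_greatest_of_bdd hbdd ⟨n₀, hne'⟩
  refine ⟨a, le_trans hn₀ (hmax n₀ hne'), ha, fun n hn => ?_⟩
  by_contra hcon
  have := hmax n hcon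
  omega

end DimOne

end Groth.Agent.Lib.Helper8.GrMod
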