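import Groth.Agent.Lib.Helper8Seg26
import Groth.Agent.Lib.Helper8CanonPairing

/-!
# *Canonical modules over gradings by `k`-subspaces: conversion and the duality count (helper8)
-/

set_option autoImplicit false
set_option linter.unusedSectionVars false
set_option linter.style.haveILetI false
universe u
open TensorProduct DirectSum Cardinal

noncomputable section

namespace Groth.Agent.Lib.Helper8.Seg

open Groth.Agent.Lib.Helper29GrConv Groth.Agent.Lib.Helper8.GrCMk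

section Canon

variable {k : Type u} [Field k] {R : Type u} [CommRing R] [Algebra k R]
  (𝒜 : ℤ → Submodule k R) [GradedAlgebra 𝒜]
  {E' : Type u} [AddCommGroup E'] [Module R E'] (𝓔 : ℤ → AddSubgroup E')
  [DirectSum.Decomposition 𝓔] [SetLike.GradedSMul 𝒜 𝓔]
  {C : Type u} [AddCommGroup C] [Module R C] (𝒞 : ℤ → AddSubgroup C)
  [DirectSum.Decomposition 𝒞] [SetLike.GradedSMul 𝒜 𝒞]

/-- graded modules over `𝒜` are graded over `asGr 𝒜` -/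
theorem gsmul_asGr : SetLike.GradedSMul (asGr 𝒜) 𝒞 :=
  ⟨fun {_ _ _ _} ha hb => SetLike.GradedSMul.smul_mem (A := 𝒜) (B := 𝒞) ha hb⟩

scoped instance instGsmulAsGr : SetLike.GradedSMul (asGr 𝒜) 𝒞 := gsmul_asGr 𝒜 𝒞

theorem isStarInj_asGr (h : GrLC.IsStarInj 𝒜 𝓔) : GrLC.IsStarInj (asGr 𝒜) 𝓔 := by
  intro A B f hf hfi g hg
  exact h (ofAS 𝒜 A) (ofAS 𝒜 B) f hf hfi g hg

variable (m : HomogeneousIdeal 𝒜)

theorem isStarInjHull_asGr (e : (R ⧸ m.toIdeal) →ₗ[R] E')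
    (he : GrLC.IsStarInjHull 𝒜 (GrLC.quotGr 𝒜 m) 𝓔 e) :
    GrLC.IsStarInjHull (asGr 𝒜) (GrLC.quotGr (asGr 𝒜) (idealAS 𝒜 m)) 𝓔 e where
  injective := he.injective
  grHom := fun g x hx => he.grHom g x hx
  essential := he.essential
  starInj := isStarInj_asGr 𝒜 𝓔 he.starInj

theorem isStarCanonical_asGr (n : ℕ) (I : GrLC.StarInjRes 𝒜 𝒜)
    (hC : GrLC.IsStarCanonical 𝒜 𝒞 𝓔 m (n + 1) I) :
    GrLC.IsStarCanonical (asGr 𝒜) 𝒞 𝓔 (idealAS 𝒜 m) (n + 1) (resAS I) := by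
  obtain ⟨hfin, φ, hφ⟩ := hC
  exact ⟨hfin, φ, fun d f hf => hφ d f hf⟩

end Canon

section Dual

variable {k : Type u} [Field k] {R : Type u} [CommRing R] [Algebra k R]
  (𝒜 : ℤ → Submodule k R) [GradedAlgebra 𝒜]
  (hpos : ∀ n : ℤ, n < 0 → 𝒜 n = ⊥) (h0 : 𝒜 0 = Submodule.span k {(1 : R)})
  {E' : Type u} [AddCommGroup E'] [Module R E'] (𝓔 : ℤ → AddSubgroup E')
  [DirectSum.Decomposition 𝓔] [SetLike.GradedSMul 𝒜 𝓔]
  {C : Type u} [AddCommGroup C] [Module R C] (𝒞 : ℤ → AddSubgroup C)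
  [DirectSum.Decomposition 𝒞] [SetLike.GradedSMul 𝒜 𝒞]
  (m : HomogeneousIdeal 𝒜)
  (hmsp : m.toIdeal = Ideal.span (⋃ n ∈ Set.Ioi (0 : ℤ), (𝒜 n : Set R)))

theorem rank_Hcomp_resAS_self (I : GrLC.StarInjRes 𝒜 𝒜) (i : ℕ) (n : ℤ) :
    Module.rank (GrLC.deg0 (asGr 𝒜)) ↥((resAS I).Hcomp (idealAS 𝒜 m) (i + 1) n) =
      Module.rank (GrLC.deg0 𝒜) ↥(I.Hcomp m (i + 1) n) :=
  rank_eq_of_equiv_equiv (fun r => ⟨r.1, r.2⟩)
    { toFun := fun x => ⟨x.1, x.2⟩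
      invFun := fun x => ⟨x.1, x.2⟩
      left_inv := fun _ => rfl
      right_inv := fun _ => rfl
      map_add' := fun _ _ => rfl }
    ⟨fun a b h => Subtype.ext (congrArg Subtype.val h), fun r => ⟨⟨r.1, r.2⟩, rfl⟩⟩
    (fun _ _ => rfl)

theorem rank_comp_asGr' (n : ℤ) :
    Module.rank (GrLC.deg0 (asGr 𝒜)) ↥(GrLC.comp (asGr 𝒜) 𝒞 n) =
      Module.rank (GrLC.deg0 𝒜) ↥(GrLC.comp 𝒜 𝒞 n) :=
  rank_eq_of_equiv_equiv (fun r => ⟨r.1, r.2⟩)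
    { toFun := fun x => ⟨x.1, x.2⟩
      invFun := fun x => ⟨x.1, x.2⟩
      left_inv := fun _ => rfl
      right_inv := fun _ => rfl
      map_add' := fun _ _ => rfl }
    ⟨fun a b h => Subtype.ext (congrArg Subtype.val h), fun r => ⟨⟨r.1, r.2⟩, rfl⟩⟩
    (fun _ _ => rfl)

include hpos h0 hmsp in
/-- graded duality, dimension form: `dim (K_R)_i = dim H^n_m(R)_{-i}` -/
theorem finrank_comp_canonical [Nontrivial R] [IsNoetherianRing R] (n : ℕ)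
    (I : GrLC.StarInjRes 𝒜 𝒜) (e : (R ⧸ m.toIdeal) →ₗ[R] E')
    (he : GrLC.IsStarInjHull 𝒜 (GrLC.quotGr 𝒜 m) 𝓔 e)
    (hC : GrLC.IsStarCanonical 𝒜 𝒞 𝓔 m (n + 1) I) (i : ℤ) :
    Module.finrank (GrLC.deg0 𝒜) (GrLC.comp 𝒜 𝒞 i) =
      Module.finrank (GrLC.deg0 𝒜) (I.Hcomp m (n + 1) (-i)) := by
  classical
  have hposA := asGr_pos 𝒜 hpos
  have hF := isField_deg0 𝒜 h0
  have hm := isStarLocal_asGr 𝒜 hpos h0 m hmsp
  have hmne : (idealAS 𝒜 m).toIdeal ≠ ⊤ :=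
    Groth.Agent.Lib.Helper29GrStarLocal.toIdeal_ne_top (asGr 𝒜) (idealAS 𝒜 m) hm
  have he' := isStarInjHull_asGr 𝒜 𝓔 m e he
  obtain ⟨hfin, ψ, hψ⟩ := isStarCanonical_asGr 𝒜 𝓔 𝒞 m n I hC
  haveI := hfin
  have hmspA : (idealAS 𝒜 m).toIdeal =
      Ideal.span (⋃ n ∈ Set.Ioi (0 : ℤ), (asGr 𝒜 n : Set R)) := hmsp
  have h1 : Module.finrank (GrLC.deg0 (asGr 𝒜))
      ((resAS I).Hcomp (idealAS 𝒜 m) (n + 1) (-i)) =
      Module.finrank (GrLC.deg0 (asGr 𝒜)) (GrLC.comp (asGr 𝒜) 𝒞 i) := by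
    letI : Field (GrLC.deg0 (asGr 𝒜)) := hF.toField
    haveI : IsNoetherian R C := isNoetherian_of_isNoetherianRing_of_finite R C
    haveI : Module.Finite (GrLC.deg0 (asGr 𝒜)) (GrLC.comp (asGr 𝒜) 𝒞 i) :=
      Groth.Agent.Lib.Helper29GrPieceFin.finite_comp (asGr 𝒜) 𝒞 i
    let ρe := LinearEquiv.ofBijective
      (Groth.Agent.Lib.Helper8.CanonPairing.rho (asGr 𝒜) hposA hF (idealAS 𝒜 m) hmne hmspA 𝓔 e he'
        𝒞 (n + 1) (resAS I) ψ i)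
      ⟨Groth.Agent.Lib.Helper8.CanonPairing.rho_injective (asGr 𝒜) hposA hF (idealAS 𝒜 m) hmne
          hmspA 𝓔 e he' 𝒞 (n + 1) (resAS I) ψ hψ i,
        Groth.Agent.Lib.Helper8.CanonPairing.rho_surjective (asGr 𝒜) hposA hF (idealAS 𝒜 m) hmne
          hmspA 𝓔 e he' 𝒞 (n + 1) (resAS I) ψ hψ i⟩
    rw [LinearEquiv.finrank_eq ρe, Subspace.dual_finrank_eq]
  have h2 : Module.finrank (GrLC.deg0 (asGr 𝒜))
      ((resAS I).Hcomp (idealAS 𝒜 m) (n + 1) (-i)) =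
      Module.finrank (GrLC.deg0 𝒜) (I.Hcomp m (n + 1) (-i)) :=
    congrArg Cardinal.toNat (rank_Hcomp_resAS_self 𝒜 m I n (-i))
  have h3 : Module.finrank (GrLC.deg0 (asGr 𝒜)) (GrLC.comp (asGr 𝒜) 𝒞 i) =
      Module.finrank (GrLC.deg0 𝒜) (GrLC.comp 𝒜 𝒞 i) :=
    congrArg Cardinal.toNat (rank_comp_asGr' 𝒜 𝒞 i)
  rw [← h3, ← h1, h2]

end Dual

end Groth.Agent.Lib.Helper8.Seg
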