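import Groth.Agent.Lib.Helper8Seg39
import Groth.Agent.Lib.Helper8Seg40
import Groth.Agent.Lib.Helper24Segre
import Groth.Agent.S18674

/-!
# Gorenstein Segre products of standard graded Cohen–Macaulay algebras (helper8)

If `R # S` is Gorenstein (`R`, `S` standard graded Cohen–Macaulay of dimensions `≥ 2` with negative
a-invariants) then `R` is Gorenstein and `a(R) = a(R # S)`.
-/

set_option autoImplicit false
set_option linter.unusedSectionVars false
set_option linter.style.haveILetI false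
universe u
open TensorProduct DirectSum Cardinal

noncomputable section

namespace Groth.Agent.Lib.Helper8.Seg

open Groth.Agent.Lib.Helper29GrConv Groth.Agent.Lib.Helper29GrConv2
  Groth.Agent.Lib.Helper29GrShift Groth.Agent.Lib.Helper8.GrCMk

section Main

variable {k : Type u} [Field k] {R S T : Type u} [CommRing R] [CommRing S] [CommRing T]
  [Algebra k R] [Algebra k S] [Algebra k T]
variable {𝒜 : ℤ → Submodule k R} [GradedAlgebra 𝒜] {ℬ : ℤ → Submodule k S} [GradedAlgebra ℬ]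
  (𝒯 : ℤ → Submodule k T) [GradedAlgebra 𝒯] (ψ : T →ₐ[k] R ⊗[k] S)
  (hT : GrSeg.IsSegreRing 𝒜 ℬ 𝒯 ψ)

include hT in
theorem gorenstein_left_of_segre [Nontrivial R] [Nontrivial S]
    (hposR : ∀ n : ℤ, n < 0 → 𝒜 n = ⊥) (h0R : 𝒜 0 = Submodule.span k {(1 : R)})
    [Algebra.FiniteType k R]
    (hposS : ∀ n : ℤ, n < 0 → ℬ n = ⊥) (h0S : ℬ 0 = Submodule.span k {(1 : S)})
    [Algebra.FiniteType k S]
    [LocCoh.IsCohenMacaulayRing R] [LocCoh.IsCohenMacaulayRing S]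
    (mR : HomogeneousIdeal 𝒜)
    (hmR : mR.toIdeal = Ideal.span (⋃ n ∈ Set.Ioi (0 : ℤ), (𝒜 n : Set R)))
    (hstdR : Ideal.span (⋃ n ∈ Set.Ioi (0 : ℤ), (𝒜 n : Set R)) =
      Ideal.span ((𝒜 1 : Submodule k R) : Set R))
    (I : GrLC.StarInjRes 𝒜 𝒜)
    (mS : HomogeneousIdeal ℬ)
    (hmS : mS.toIdeal = Ideal.span (⋃ n ∈ Set.Ioi (0 : ℤ), (ℬ n : Set S)))
    (hstdS : Ideal.span (⋃ n ∈ Set.Ioi (0 : ℤ), (ℬ n : Set S)) =
      Ideal.span ((ℬ 1 : Submodule k S) : Set S))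
    (J : GrLC.StarInjRes ℬ ℬ)
    (mT : HomogeneousIdeal 𝒯)
    (hmT : mT.toIdeal = Ideal.span (⋃ n ∈ Set.Ioi (0 : ℤ), (𝒯 n : Set T)))
    (IT : GrLC.StarInjRes 𝒯 𝒯)
    (r' s' : ℕ) (hr : ringKrullDim R = ((r' + 1 : ℕ) : WithBot ℕ∞))
    (hs : ringKrullDim S = ((s' + 1 : ℕ) : WithBot ℕ∞)) (hr1 : 1 ≤ r') (hs1 : 1 ≤ s')
    (hnegR : GrLC.endDeg (I.Hgr mR (r' + 1)) < 0) (hnegS : GrLC.endDeg (J.Hgr mS (s' + 1)) < 0)
    [LocCoh.IsGorensteinRing T] :
    LocCoh.IsGorensteinRing R ∧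
      GrLC.endDeg (I.Hgr mR (r' + 1)) = GrLC.endDeg (IT.Hgr mT (r' + s' + 1)) := by
  classical
  haveI hNR : IsNoetherianRing R := Algebra.FiniteType.isNoetherianRing k R
  haveI hNS : IsNoetherianRing S := Algebra.FiniteType.isNoetherianRing k S
  haveI hNT : IsNoetherianRing T :=
    Groth.Agent.S18646.result k R 𝒜 hposR h0R S ℬ hposS h0S T 𝒯 ψ hT.1 hT.2
  haveI hNtRS : Nontrivial (R ⊗[k] S) :=
    Algebra.TensorProduct.nontrivial_of_algebraMap_injective_of_flat_left k R S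
      (algebraMap k S).injective
  haveI hNtT : Nontrivial T := ψ.toRingHom.domain_nontrivial
  have hposT := segre_pos 𝒯 ψ hT hposR
  have h0T := segre_zero 𝒯 ψ hT h0R h0S
  have hkR := exists_algebraMap_of_span (𝒜 := 𝒜) h0R
  have hkS := exists_algebraMap_of_span (𝒜 := ℬ) h0S
  have hkT := exists_algebraMap_of_span (𝒜 := 𝒯) h0T
  haveI hCMT : LocCoh.IsCohenMacaulayRing T :=
    Groth.Agent.Lib.Helper5.GorUnmixed.isCohenMacaulayRing_of_isGorensteinRing T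
  -- *injective hulls
  obtain ⟨ER, eR, heR⟩ := exists_starInjHull_k 𝒜 mR
  obtain ⟨ES, eS, heS⟩ := exists_starInjHull_k ℬ mS
  obtain ⟨ET, eT, heT⟩ := exists_starInjHull_k 𝒯 mT
  -- *canonical modules
  obtain ⟨CR, hCR⟩ := exists_starCanonical_k 𝒜 hposR h0R mR hmR ER.gr r' I eR heR
  obtain ⟨CS, hCS⟩ := exists_starCanonical_k ℬ hposS h0S mS hmS ES.gr s' J eS heS
  letI mkR : Module k CR.carrier := Module.compHom CR.carrier (algebraMap k R)
  haveI stR : IsScalarTower k R CR.carrier := IsScalarTower.of_algebraMap_smul (fun _ _ => rfl)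
  letI mkS : Module k CS.carrier := Module.compHom CS.carrier (algebraMap k S)
  haveI stS : IsScalarTower k S CS.carrier := IsScalarTower.of_algebraMap_smul (fun _ _ => rfl)
  haveI hfR : Module.Finite R CR.carrier := hCR.1
  haveI hfS : Module.Finite S CS.carrier := hCS.1
  -- numerics
  obtain ⟨a, haR, hR0, hR1, hR2⟩ := canon_numerics 𝒜 CR.gr hposR h0R hstdR mR hmR ER.gr r' hr hr1
    I eR heR hCR hnegR
  obtain ⟨b, hbS, hS0, hS1, hS2⟩ := canon_numerics ℬ CS.gr hposS h0S hstdS mS hmS ES.gr s' hs hs1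
    J eS heS hCS hnegS
  -- the Segre module and its canonical structure
  have hP := isSegreMod_segMod 𝒜 ℬ 𝒯 ψ hT CR.gr CS.gr
  obtain ⟨pR, hpR⟩ := exists_perfPair 𝒜 hposR h0R ER.gr CR.gr mR hmR r' I eR heR hCR
  obtain ⟨pS, hpS⟩ := exists_perfPair ℬ hposS h0S ES.gr CS.gr mS hmS s' J eS heS hCS
  have hCT : GrLC.IsStarCanonical 𝒯 (segGr 𝒜 ℬ 𝒯 ψ hT CR.gr CS.gr) ET.gr mT (r' + 1 + s') IT :=
    isStarCanonical_segre_of_perfPair 𝒯 ψ hT hposR h0R hposS h0S hposT h0T mR hmR I mS hmS J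
      mT hmT IT r' s' hr hs hr1 hs1 ET.gr eT heT CR.gr CS.gr (segGr 𝒜 ℬ 𝒯 ψ hT CR.gr CS.gr)
      (segPhi 𝒜 ℬ 𝒯 ψ hT CR.gr CS.gr) hP pR hpR pS hpS
  -- the `asGr` world for `T`
  have hposA := asGr_pos 𝒯 hposT
  have hF := isField_deg0 𝒯 h0T
  have hm := isStarLocal_asGr 𝒯 hposT h0T mT hmT
  have hmne : (idealAS 𝒯 mT).toIdeal ≠ ⊤ :=
    Groth.Agent.Lib.Helper29GrStarLocal.toIdeal_ne_top (asGr 𝒯) (idealAS 𝒯 mT) hm
  have he' := isStarInjHull_asGr 𝒯 ET.gr mT eT heT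
  have hmspA : (idealAS 𝒯 mT).toIdeal =
      Ideal.span (⋃ n ∈ Set.Ioi (0 : ℤ), (asGr 𝒯 n : Set T)) := hmT
  have hq : r' + 1 + s' = (r' + s') + 1 := by omega
  have hCT1 := hCT
  rw [hq] at hCT1
  have hCT' := isStarCanonical_asGr 𝒯 ET.gr (segGr 𝒜 ℬ 𝒯 ψ hT CR.gr CS.gr) mT (r' + s') IT hCT1
  have hdim : ringKrullDim T = ((r' + s' + 1 : ℕ) : WithBot ℕ∞) := by
    have h := Groth.Agent.S18647.result k R 𝒜 hposR h0R S ℬ hposS h0S T 𝒯 ψ hT.1 hT.2
      (r' + 1) (s' + 1) hr hs (by omega) (by omega)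
    rw [h]
    congr 1
  obtain ⟨c, f, hfbij, hfdeg⟩ := (Groth.Agent.S18638.result T (asGr 𝒯) hposA hF (idealAS 𝒯 mT) hm
    hmspA (r' + s' + 1) hdim (resAS IT) ET.carrier ET.gr eT he' (SegMod 𝒜 ℬ 𝒯 ψ hT CR.gr CS.gr)
    (segGr 𝒜 ℬ 𝒯 ψ hT CR.gr CS.gr) hCT').mp inferInstance
  -- `a(T) = -c`
  have haT : GrLC.endDeg (IT.Hgr mT (r' + s' + 1)) =
      (((-c : ℤ) : WithTop ℤ) : WithBot (WithTop ℤ)) := by
    have h1 := Groth.Agent.Lib.Helper8.GrCanonDeg.endDeg_eq (asGr 𝒯) hposA (idealAS 𝒯 mT) hmne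
      hmspA ET.gr eT he' (segGr 𝒜 ℬ 𝒯 ψ hT CR.gr CS.gr) (r' + s' + 1) (resAS IT) hCT' f hfbij c
      hfdeg
    rw [← h1]
    apply endDeg_congr
    intro d
    constructor
    · intro h
      have h1 : IT.Hcomp mT (r' + s' + 1) d = ⊥ := Submodule.toAddSubgroup_injective (h.trans rfl)
      exact congrArg Submodule.toAddSubgroup
        ((Hcomp_resAS_eq_bot_iff IT mT (r' + s' + 1) d).mpr h1)
    · intro h
      have h1 : (resAS IT).Hcomp (idealAS 𝒯 mT) (r' + s' + 1) d = ⊥ :=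
        Submodule.toAddSubgroup_injective (h.trans rfl)
      exact congrArg Submodule.toAddSubgroup
        ((Hcomp_resAS_eq_bot_iff IT mT (r' + s' + 1) d).mp h1)
  -- the generator
  have hp₀ : f 1 ∈ segGr 𝒜 ℬ 𝒯 ψ hT CR.gr CS.gr c := by
    have h := hfdeg 0 1 (SetLike.GradedOne.one_mem (A := 𝒯))
    rwa [zero_add] at h
  have hfsmul : ∀ t : T, f t = t • f 1 := fun t => by
    rw [← map_smul, smul_eq_mul, mul_one]
  -- the piece of degree `c` of the Segre module is one-dimensional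
  have hone : Module.finrank k (degK 𝒯 (segGr 𝒜 ℬ 𝒯 ψ hT CR.gr CS.gr) c) = 1 := by
    let g0 : ↥(𝒯 0) →ₗ[k] ↥(degK 𝒯 (segGr 𝒜 ℬ 𝒯 ψ hT CR.gr CS.gr) c) :=
      { toFun := fun t => ⟨f t.1, by
          have h := hfdeg 0 t.1 t.2
          rwa [zero_add] at h⟩
        map_add' := fun t t' => Subtype.ext (map_add f _ _)
        map_smul' := fun a t => Subtype.ext (LinearMap.map_smul_of_tower f a t.1) }
    have hg0 : Function.Bijective g0 := by
      constructor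
      · intro t t' h
        exact Subtype.ext (hfbij.1 (congrArg Subtype.val h))
      · intro q
        obtain ⟨t, ht⟩ := hfbij.2 q.1
        have h1 := Groth.Agent.Lib.Helper8.GrCanonUniq.decompose_map_deg (asGr 𝒯)
          (segGr 𝒜 ℬ 𝒯 ψ hT CR.gr CS.gr) f c hfdeg t c
        rw [ht, DirectSum.decompose_of_mem_same (segGr 𝒜 ℬ 𝒯 ψ hT CR.gr CS.gr)
          (show q.1 ∈ segGr 𝒜 ℬ 𝒯 ψ hT CR.gr CS.gr c from q.2), sub_self] at h1
        exact ⟨⟨((decompose (asGr 𝒯) t) 0 : T), SetLike.coe_mem _⟩, Subtype.ext h1.symm⟩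
    rw [← LinearEquiv.finrank_eq (LinearEquiv.ofBijective g0 hg0), h0T]
    exact finrank_span_singleton one_ne_zero
  -- the product formula
  have hprod : Module.finrank k (degK 𝒯 (segGr 𝒜 ℬ 𝒯 ψ hT CR.gr CS.gr) c) =
      Module.finrank k (degK 𝒜 CR.gr c) * Module.finrank k (degK ℬ CS.gr c) := by
    have hq2 : r' + 1 + (s' + 1) - 1 = r' + 1 + s' := by omega
    have hCT2 : GrLC.IsStarCanonical 𝒯 (segGr 𝒜 ℬ 𝒯 ψ hT CR.gr CS.gr) ET.gr mT
        (r' + 1 + (s' + 1) - 1) IT := by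
      rw [hq2]
      exact hCT
    have h := Groth.Agent.S18674.result k R 𝒜 hposR h0R S ℬ hposS h0S T 𝒯 ψ hT.1 hT.2 mR hmR I mS
      hmS J mT hmT IT (r' + 1) (s' + 1) hr hs (by omega) (by omega) ER.carrier ER.gr eR heR
      CR.carrier CR.gr hCR ES.carrier ES.gr eS heS CS.carrier CS.gr hCS ET.carrier ET.gr eT heT
      (SegMod 𝒜 ℬ 𝒯 ψ hT CR.gr CS.gr) (segGr 𝒜 ℬ 𝒯 ψ hT CR.gr CS.gr) hCT2 c
    rw [finrank_comp_eq_degK 𝒯 (segGr 𝒜 ℬ 𝒯 ψ hT CR.gr CS.gr) hkT c,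
      finrank_comp_eq_degK 𝒜 CR.gr hkR c, finrank_comp_eq_degK ℬ CS.gr hkS c] at h
    exact h
  rw [hone] at hprod
  have hdR : Module.finrank k (degK 𝒜 CR.gr c) = 1 := Nat.eq_one_of_mul_eq_one_right hprod.symm
  have hdS : Module.finrank k (degK ℬ CS.gr c) = 1 := Nat.eq_one_of_mul_eq_one_left hprod.symm
  have hca : c = -a := by
    have h1 : ¬ c < -a := by
      intro hlt
      have hbot := hR0 c hlt
      have h2 : Module.finrank k (degK 𝒜 CR.gr c) = 0 := by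
        have h3 : degK 𝒜 CR.gr c = ⊥ := by
          rw [eq_bot_iff]
          intro x hx
          have hx' : x ∈ CR.gr c := hx
          rw [hbot] at hx'
          exact (Submodule.mem_bot k).mpr ((AddSubgroup.mem_bot).mp hx')
        rw [h3]
        exact finrank_bot _ _
      omega
    have h2 : ¬ -a < c := by
      intro hlt
      have := hR2 c hlt
      omega
    omega
  have hcb : c = -b := by
    have h1 : ¬ c < -b := by
      intro hlt
      have hbot := hS0 c hlt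
      have h2 : Module.finrank k (degK ℬ CS.gr c) = 0 := by
        have h3 : degK ℬ CS.gr c = ⊥ := by
          rw [eq_bot_iff]
          intro x hx
          have hx' : x ∈ CS.gr c := hx
          rw [hbot] at hx'
          exact (Submodule.mem_bot k).mpr ((AddSubgroup.mem_bot).mp hx')
        rw [h3]
        exact finrank_bot _ _
      omega
    have h2 : ¬ -b < c := by
      intro hlt
      have := hS2 c hlt
      omega
    omega
  refine ⟨?_, ?_⟩
  swap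
  · rw [haR, haT, hca, neg_neg]
  -- generators of the lowest pieces
  obtain ⟨x₀, hx₀ne, hx₀⟩ := finrank_eq_one_iff'.mp hdR
  obtain ⟨y₀, hy₀ne, hy₀⟩ := finrank_eq_one_iff'.mp hdS
  -- the image of the generator is a pure tensor
  have hφp₀ : segPhi 𝒜 ℬ 𝒯 ψ hT CR.gr CS.gr (f 1) ∈
      GrSeg.segrePiece k CR.gr CS.gr c := by
    rw [← SetLike.mem_coe, ← hP.image_piece c]
    exact ⟨f 1, hp₀, rfl⟩
  have hpure : ∀ z ∈ GrSeg.segrePiece k CR.gr CS.gr c,
      ∃ l : k, z = l • ((x₀ : CR.carrier) ⊗ₜ[k] (y₀ : CS.carrier)) := by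
    intro z hz
    refine Submodule.span_induction
      (p := fun z _ => ∃ l : k, z = l • ((x₀ : CR.carrier) ⊗ₜ[k] (y₀ : CS.carrier)))
      ?_ ?_ ?_ ?_ hz
    · rintro _ ⟨x₁, hx₁, y₁, hy₁, rfl⟩
      obtain ⟨α, hα⟩ := hx₀ ⟨x₁, hx₁⟩
      obtain ⟨β, hβ⟩ := hy₀ ⟨y₁, hy₁⟩
      refine ⟨α * β, ?_⟩
      have e1 : x₁ = α • (x₀ : CR.carrier) := (congrArg Subtype.val hα).symm
      have e2 : y₁ = β • (y₀ : CS.carrier) := (congrArg Subtype.val hβ).symm
      rw [e1, e2, TensorProduct.smul_tmul_smul]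
    · exact ⟨0, (zero_smul _ _).symm⟩
    · rintro z z' _ _ ⟨l, rfl⟩ ⟨l', rfl⟩
      exact ⟨l + l', (add_smul _ _ _).symm⟩
    · rintro α z _ ⟨l, rfl⟩
      exact ⟨α * l, (mul_smul _ _ _).symm⟩
  obtain ⟨l, hl⟩ := hpure _ hφp₀
  have hx : l • (x₀ : CR.carrier) ∈ CR.gr c := (degK 𝒜 CR.gr c).smul_mem l x₀.2
  have hy : (y₀ : CS.carrier) ∈ CS.gr c := y₀.2
  have hφx : segPhi 𝒜 ℬ 𝒯 ψ hT CR.gr CS.gr (f 1) =
      (l • (x₀ : CR.carrier)) ⊗ₜ[k] (y₀ : CS.carrier) := by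
    rw [hl, TensorProduct.smul_tmul']
  have hgen : Submodule.span T {f 1} = ⊤ := by
    rw [eq_top_iff]
    intro p _
    obtain ⟨t, rfl⟩ := hfbij.2 p
    rw [hfsmul t]
    exact Submodule.smul_mem _ t (Submodule.subset_span rfl)
  have hNn : ∀ j : ℤ, c ≤ j → CS.gr j ≠ ⊥ := by
    intro j hj hbot
    have h1 := hS1 j (by omega)
    have h3 : degK ℬ CS.gr j = ⊥ := by
      rw [eq_bot_iff]
      intro x hx
      have hx' : x ∈ CS.gr j := hx
      rw [hbot] at hx'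
      exact (Submodule.mem_bot k).mpr ((AddSubgroup.mem_bot).mp hx')
    rw [h3, finrank_bot] at h1
    omega
  have hcyc := Groth.Agent.Lib.Helper24Segre.s19749 k R 𝒜 hposR h0R S ℬ hposS h0S T 𝒯 ψ hT hstdR
    hstdS (by rw [hr]; exact_mod_cast (by omega : 1 ≤ r' + 1))
    (by rw [hs]; exact_mod_cast (by omega : 1 ≤ s' + 1)) CR.carrier CR.gr CS.carrier CS.gr
    (SegMod 𝒜 ℬ 𝒯 ψ hT CR.gr CS.gr) (segGr 𝒜 ℬ 𝒯 ψ hT CR.gr CS.gr)
    (segPhi 𝒜 ℬ 𝒯 ψ hT CR.gr CS.gr) hP c hNn (l • (x₀ : CR.carrier)) hx (y₀ : CS.carrier) hy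
    (f 1) hφx hgen
  -- the map `R → K_R`
  obtain ⟨x, hxdef⟩ : ∃ x : CR.carrier, x = l • (x₀ : CR.carrier) := ⟨_, rfl⟩
  rw [← hxdef] at hx hφx hcyc
  have hgdeg : GrLC.IsGrHomDeg (asGr 𝒜) CR.gr (LinearMap.toSpanSingleton R CR.carrier x) c := by
    intro j r hr
    have h := SetLike.GradedSMul.smul_mem (A := 𝒜) (B := CR.gr) hr hx
    rw [vadd_eq_add] at h
    exact h
  have hgsurj : Function.Surjective (LinearMap.toSpanSingleton R CR.carrier x) := by
    intro z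
    induction z using DirectSum.Decomposition.inductionOn CR.gr with
    | zero => exact ⟨0, map_zero _⟩
    | @homogeneous j z =>
      by_cases hj : j < c
      · have hbot := hR0 j (by omega)
        have hz : (z : CR.carrier) ∈ (⊥ : AddSubgroup CR.carrier) := hbot ▸ z.2
        exact ⟨0, by rw [map_zero, (AddSubgroup.mem_bot).mp hz]⟩
      · have hz : (z : CR.carrier) ∈ CR.gr (c + (j - c)) := by
          rw [add_sub_cancel]
          exact z.2
        obtain ⟨r, _, hr⟩ := hcyc (j - c) (by omega) (z : CR.carrier) hz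
        exact ⟨r, hr⟩
    | add z z' hz hz' =>
      obtain ⟨r, hr⟩ := hz
      obtain ⟨r', hr'⟩ := hz'
      exact ⟨r + r', by rw [map_add, hr, hr']⟩
  have hhom : ∀ (j : ℤ) (r : R), r ∈ 𝒜 j → r • x = 0 → r = 0 := by
    intro j r hr hrx
    by_cases hj : j < 0
    · have h := hr
      rw [hposR j hj] at h
      exact (Submodule.mem_bot k).mp h
    · have hSne := piece_ne_bot_of_std ℬ hposS h0S hstdS
        (by rw [hs]; exact_mod_cast (by omega : 1 ≤ s' + 1)) j (by omega)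
      obtain ⟨s, hs', hs0⟩ : ∃ s ∈ ℬ j, s ≠ 0 := by
        by_contra hcon
        push Not at hcon
        exact hSne ((Submodule.eq_bot_iff _).mpr hcon)
      have h2 : r ⊗ₜ[k] s ∈ (𝒯 j).map ψ.toLinearMap := by
        rw [hT.2 j]
        exact Submodule.subset_span ⟨r, hr, s, hs', rfl⟩
      obtain ⟨t, _, ht⟩ := h2
      have ht' : ψ t = r ⊗ₜ[k] s := ht
      have h3 : segPhi 𝒜 ℬ 𝒯 ψ hT CR.gr CS.gr (t • f 1) = 0 := by
        rw [hP.map_smul, ht', hφx, GrSeg.act_tmul, hrx, TensorProduct.zero_tmul]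
      have h4 : t • f 1 = 0 := hP.injective (h3.trans (map_zero _).symm)
      have h5 : t = 0 := hfbij.1 ((hfsmul t).trans (h4.trans (map_zero f).symm))
      rw [h5, map_zero] at ht'
      rcases tmul_eq_zero_field ht'.symm with h6 | h6
      · exact h6
      · exact absurd h6 hs0
  have hginj : Function.Injective (LinearMap.toSpanSingleton R CR.carrier x) := by
    rw [injective_iff_map_eq_zero]
    intro r hr
    have hcomp : ∀ j : ℤ, ((decompose (asGr 𝒜) r) j : R) = 0 := by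
      intro j
      have h1 := Groth.Agent.Lib.Helper8.GrCanonUniq.decompose_map_deg (asGr 𝒜) CR.gr
        (LinearMap.toSpanSingleton R CR.carrier x) c hgdeg r (j + c)
      rw [hr, DirectSum.decompose_zero, add_sub_cancel_right] at h1
      exact hhom j _ (SetLike.coe_mem ((decompose (asGr 𝒜) r) j)) h1.symm
    apply (DirectSum.decompose (asGr 𝒜)).injective
    rw [DirectSum.decompose_zero]
    apply DFinsupp.ext
    intro j
    exact Subtype.ext (hcomp j)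
  -- conclusion
  have hposAR := asGr_pos 𝒜 hposR
  have hFR := isField_deg0 𝒜 h0R
  have hmRA := isStarLocal_asGr 𝒜 hposR h0R mR hmR
  have heR' := isStarInjHull_asGr 𝒜 ER.gr mR eR heR
  have hmspAR : (idealAS 𝒜 mR).toIdeal =
      Ideal.span (⋃ n ∈ Set.Ioi (0 : ℤ), (asGr 𝒜 n : Set R)) := hmR
  have hCR' := isStarCanonical_asGr 𝒜 ER.gr CR.gr mR r' I hCR
  exact (Groth.Agent.S18638.result R (asGr 𝒜) hposAR hFR (idealAS 𝒜 mR) hmRA hmspAR (r' + 1) hr
    (resAS I) ER.carrier ER.gr eR heR' CR.carrier CR.gr hCR').mpr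
    ⟨c, LinearMap.toSpanSingleton R CR.carrier x, ⟨hginj, hgsurj⟩, hgdeg⟩

end Main

end Groth.Agent.Lib.Helper8.Seg
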