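import Groth.Agent.Lib.Helper8GrModK
import Groth.Agent.Lib.Helper8Seg41
import Groth.Agent.S18647

/-!
# A Gorenstein Segre product of one-dimensional standard graded Cohen–Macaulay algebras has a
polynomial factor (helper8)
-/

set_option autoImplicit false
set_option linter.unusedSectionVars false
set_option linter.style.haveILetI false
universe u
open TensorProduct DirectSum

noncomputable section

namespace Groth.Agent.Lib.Helper8.GrMod

open Groth.Agent.Lib.Helper29GrConv Groth.Agent.Lib.Helper8.Seg Groth.Agent.Lib.Helper8.GrCMk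

section Count

variable {k : Type u} [Field k] {R : Type u} [CommRing R] [Algebra k R]
  (𝒜 : ℤ → Submodule k R) [GradedAlgebra 𝒜]
  (hpos : ∀ n : ℤ, n < 0 → 𝒜 n = ⊥) (h0 : 𝒜 0 = Submodule.span k {(1 : R)})
  (m : HomogeneousIdeal 𝒜)
  (hmsp : m.toIdeal = Ideal.span (⋃ n ∈ Set.Ioi (0 : ℤ), (𝒜 n : Set R)))

include hpos h0 hmsp in
/-- graded duality count for a one-dimensional Gorenstein graded algebra -/
theorem gorenstein_count [Nontrivial R] [LocCoh.IsGorensteinRing R]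
    (hdim : ringKrullDim R = ((0 + 1 : ℕ) : WithBot ℕ∞)) (I : GrLC.StarInjRes 𝒜 𝒜) :
    ∃ a : ℤ, ∀ n : ℤ, Module.finrank (GrLC.deg0 𝒜) (I.Hcomp m 1 n) =
      Module.finrank k (𝒜 (a - n)) := by
  haveI : IsNoetherianRing R := inferInstance
  obtain ⟨E, e, he⟩ := exists_starInjHull_k 𝒜 m
  obtain ⟨a, hC, -⟩ := exists_isStarCanonical_shiftK 𝒜 hpos h0 m hmsp 0 hdim I E.gr e he
  refine ⟨a, fun n => ?_⟩
  have h1 := finrank_comp_canonical 𝒜 hpos h0 E.gr (shiftK 𝒜 a) m hmsp 0 I e he hC (-n)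
  rw [neg_neg] at h1
  have h2 : Module.finrank (GrLC.deg0 𝒜) (I.Hcomp m 1 n) =
      Module.finrank (GrLC.deg0 𝒜) (I.Hcomp m (0 + 1) n) := rfl
  rw [h2, ← h1, finrank_comp_eq_degK 𝒜 (shiftK 𝒜 a) (exists_algebraMap_of_span h0) (-n)]
  have h3 : degK 𝒜 (shiftK 𝒜 a) (-n) = 𝒜 (a - n) := by
    ext x
    show x ∈ 𝒜 (-n + a) ↔ x ∈ 𝒜 (a - n)
    rw [neg_add_eq_sub]
  rw [h3]

end Count

section Pieces

variable {k : Type u} [Field k] {R S T : Type u} [CommRing R] [CommRing S] [CommRing T]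
  [Algebra k R] [Algebra k S] [Algebra k T]
variable {𝒜 : ℤ → Submodule k R} [GradedAlgebra 𝒜] {ℬ : ℤ → Submodule k S} [GradedAlgebra ℬ]
  (𝒯 : ℤ → Submodule k T) [GradedAlgebra 𝒯] (ψ : T →ₐ[k] R ⊗[k] S)
  (hT : GrSeg.IsSegreRing 𝒜 ℬ 𝒯 ψ)

include hT in
theorem segre_piece_ne_bot {n : ℤ} (hA : 𝒜 n ≠ ⊥) (hB : ℬ n ≠ ⊥) : 𝒯 n ≠ ⊥ := by
  intro hbot
  obtain ⟨x, hx, hx0⟩ := Submodule.exists_mem_ne_zero_of_ne_bot hA
  obtain ⟨y, hy, hy0⟩ := Submodule.exists_mem_ne_zero_of_ne_bot hB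
  have hxy : x ⊗ₜ[k] y ∈ (𝒯 n).map ψ.toLinearMap := by
    rw [hT.2 n]
    exact Submodule.subset_span ⟨x, hx, y, hy, rfl⟩
  rw [hbot, Submodule.map_bot, Submodule.mem_bot] at hxy
  rcases tmul_eq_zero_field hxy with h | h
  · exact hx0 h
  · exact hy0 h

end Pieces

section Main

variable {k : Type u} [Field k] {R S T : Type u} [CommRing R] [CommRing S] [CommRing T]
  [Algebra k R] [Algebra k S] [Algebra k T]
variable {𝒜 : ℤ → Submodule k R} [GradedAlgebra 𝒜] {ℬ : ℤ → Submodule k S} [GradedAlgebra ℬ]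
  (𝒯 : ℤ → Submodule k T) [GradedAlgebra 𝒯] (ψ : T →ₐ[k] R ⊗[k] S)
  (hT : GrSeg.IsSegreRing 𝒜 ℬ 𝒯 ψ)

/-- the arithmetic core -/
theorem arith_core (A B A' B' : ℕ) (hA : 1 ≤ A) (hB : 1 ≤ B)
    (h : A * B' + A' * B + A' * B' = 1) :
    (A' = 0 ∧ A = 1) ∨ (B' = 0 ∧ B = 1) := by
  rcases Nat.eq_zero_or_pos A' with hA' | hA'
  · left
    refine ⟨hA', ?_⟩
    rw [hA', zero_mul, zero_mul, add_zero, add_zero] at h
    exact Nat.eq_one_of_mul_eq_one_right h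
  · rcases Nat.eq_zero_or_pos B' with hB' | hB'
    · right
      refine ⟨hB', ?_⟩
      rw [hB', mul_zero, mul_zero, zero_add, add_zero] at h
      exact Nat.eq_one_of_mul_eq_one_left h
    · exfalso
      have h1 : 1 ≤ A * B' := Nat.mul_pos hA hB'
      have h2 : 1 ≤ A' * B := Nat.mul_pos hA' hB
      omega

include hT in
/-- if the Segre product of two one-dimensional standard graded Cohen–Macaulay algebras is
Gorenstein, one of the factors is a polynomial ring -/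
theorem polynomial_of_gorenstein_segre_dim_one
    (hposR : ∀ n : ℤ, n < 0 → 𝒜 n = ⊥) (h0R : 𝒜 0 = Submodule.span k {(1 : R)})
    [Algebra.FiniteType k R]
    (hposS : ∀ n : ℤ, n < 0 → ℬ n = ⊥) (h0S : ℬ 0 = Submodule.span k {(1 : S)})
    [Algebra.FiniteType k S]
    [LocCoh.IsCohenMacaulayRing R] [LocCoh.IsCohenMacaulayRing S]
    (hstdR : Ideal.span (⋃ n ∈ Set.Ioi (0 : ℤ), (𝒜 n : Set R)) =
      Ideal.span ((𝒜 1 : Submodule k R) : Set R))
    (hstdS : Ideal.span (⋃ n ∈ Set.Ioi (0 : ℤ), (ℬ n : Set S)) =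
      Ideal.span ((ℬ 1 : Submodule k S) : Set S))
    (hr : ringKrullDim R = 1) (hs : ringKrullDim S = 1)
    [LocCoh.IsGorensteinRing T] :
    Nonempty (R ≃ₐ[k] Polynomial k) ∨ Nonempty (S ≃ₐ[k] Polynomial k) := by
  classical
  by_contra hcon
  have hR : ¬ Nonempty (R ≃ₐ[k] Polynomial k) := fun h => hcon (Or.inl h)
  have hS : ¬ Nonempty (S ≃ₐ[k] Polynomial k) := fun h => hcon (Or.inr h)
  haveI hNR : IsNoetherianRing R := Algebra.FiniteType.isNoetherianRing k R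
  haveI hNS : IsNoetherianRing S := Algebra.FiniteType.isNoetherianRing k S
  have hntR : Nontrivial R := by
    by_contra hnt
    rw [not_nontrivial_iff_subsingleton] at hnt
    rw [ringKrullDim_eq_bot_of_subsingleton] at hr
    exact absurd hr (by simp)
  have hntS : Nontrivial S := by
    by_contra hnt
    rw [not_nontrivial_iff_subsingleton] at hnt
    rw [ringKrullDim_eq_bot_of_subsingleton] at hs
    exact absurd hs (by simp)
  haveI hNT : IsNoetherianRing T :=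
    Groth.Agent.S18646.result k R 𝒜 hposR h0R S ℬ hposS h0S T 𝒯 ψ hT.1 hT.2
  haveI hNtRS : Nontrivial (R ⊗[k] S) :=
    Algebra.TensorProduct.nontrivial_of_algebraMap_injective_of_flat_left k R S
      (algebraMap k S).injective
  haveI hNtT : Nontrivial T := ψ.toRingHom.domain_nontrivial
  have hposT := segre_pos 𝒯 ψ hT hposR
  have h0T := segre_zero 𝒯 ψ hT h0R h0S
  have hr' : ringKrullDim R = ((1 : ℕ) : WithBot ℕ∞) := by rw [hr]; rfl
  have hs' : ringKrullDim S = ((1 : ℕ) : WithBot ℕ∞) := by rw [hs]; rfl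
  have hdimT : ringKrullDim T = ((0 + 1 : ℕ) : WithBot ℕ∞) :=
    Groth.Agent.S18647.result k R 𝒜 hposR h0R S ℬ hposS h0S T 𝒯 ψ hT.1 hT.2 1 1 hr' hs'
      le_rfl le_rfl
  have h1R : (1 : WithBot ℕ∞) ≤ ringKrullDim R := by rw [hr]
  have h1S : (1 : WithBot ℕ∞) ≤ ringKrullDim S := by rw [hs]
  obtain ⟨I⟩ := Groth.Agent.Lib.Helper29GrConv2.exists_res (𝒜 := 𝒜) (ℳ := 𝒜)
  obtain ⟨J⟩ := Groth.Agent.Lib.Helper29GrConv2.exists_res (𝒜 := ℬ) (ℳ := ℬ)
  obtain ⟨IT⟩ := Groth.Agent.Lib.Helper29GrConv2.exists_res (𝒜 := 𝒯) (ℳ := 𝒯)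
  have hmR := irr_toIdeal 𝒜
  have hmS := irr_toIdeal ℬ
  have hmT := irr_toIdeal 𝒯
  -- a-invariants are nonnegative
  have haR : ¬ GrLC.endDeg (I.Hgr (irr 𝒜) 1) < 0 := fun h =>
    hR ((endDeg_lt_zero_iff_polynomial 𝒜 hposR h0R hstdR hr (irr 𝒜) hmR I).mp h)
  have haS : ¬ GrLC.endDeg (J.Hgr (irr ℬ) 1) < 0 := fun h =>
    hS ((endDeg_lt_zero_iff_polynomial ℬ hposS h0S hstdS hs (irr ℬ) hmS J).mp h)
  obtain ⟨aR, haR0, haRne, haRtop⟩ := exists_top_degree 𝒜 hposR h0R (irr 𝒜) hmR I 1 haR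
  obtain ⟨aS, haS0, haSne, haStop⟩ := exists_top_degree ℬ hposS h0S (irr ℬ) hmS J 1 haS
  -- vanishing
  have hR0 : ∀ n, I.Hcomp (irr 𝒜) 0 n = ⊥ := fun n =>
    (isCohenMacaulayRing_iff 𝒜 hposR h0R (irr 𝒜) hmR 1 hr' I).mp inferInstance 0 (by norm_num) n
  have hS0 : ∀ n, J.Hcomp (irr ℬ) 0 n = ⊥ := fun n =>
    (isCohenMacaulayRing_iff ℬ hposS h0S (irr ℬ) hmS 1 hs' J).mp inferInstance 0 (by norm_num) n
  have hR2 : ∀ n, I.Hcomp (irr 𝒜) 2 n = ⊥ := fun n =>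
    Hcomp_eq_bot_of_dim_lt 𝒜 (irr 𝒜) 1 hr' I 2 (by norm_num) n
  have hS2 : ∀ n, J.Hcomp (irr ℬ) 2 n = ⊥ := fun n =>
    Hcomp_eq_bot_of_dim_lt ℬ (irr ℬ) 1 hs' J 2 (by norm_num) n
  -- the duality count
  obtain ⟨a, hGor⟩ := gorenstein_count 𝒯 hposT h0T (irr 𝒯) hmT hdimT IT
  -- Künneth
  have hK : ∀ n : ℤ, Module.finrank (GrLC.deg0 𝒯) (IT.Hcomp (irr 𝒯) 1 n) =
      Module.finrank k (𝒜 n) * Module.finrank (GrLC.deg0 ℬ) (J.Hcomp (irr ℬ) 1 n) +
        Module.finrank (GrLC.deg0 𝒜) (I.Hcomp (irr 𝒜) 1 n) * Module.finrank k (ℬ n) +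
        Module.finrank (GrLC.deg0 𝒜) (I.Hcomp (irr 𝒜) 1 n) *
          Module.finrank (GrLC.deg0 ℬ) (J.Hcomp (irr ℬ) 1 n) := by
    intro n
    rw [finrank_Hcomp_segre_ring 𝒯 ψ hT hposR h0R hposS h0S (irr 𝒜) hmR I (irr ℬ) hmS J (irr 𝒯)
      hmT IT n (hR0 n) (hS0 n) 1]
    congr 1
    have e1 : Module.finrank (GrLC.deg0 𝒜) (I.Hcomp (irr 𝒜) 0 n) = 0 := by
      rw [hR0 n]; exact finrank_bot _ _
    have e2 : Module.finrank (GrLC.deg0 ℬ) (J.Hcomp (irr ℬ) 0 n) = 0 := by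
      rw [hS0 n]; exact finrank_bot _ _
    simp only [Nat.reduceAdd, Finset.sum_range_succ, Finset.sum_range_zero, zero_add,
      Nat.sub_zero, Nat.reduceSub, e1, e2, zero_mul, mul_zero, add_zero]
  -- positivity of the pieces
  have hA : ∀ n : ℤ, 0 ≤ n → 1 ≤ Module.finrank k (𝒜 n) := by
    intro n hn
    have h2 := piece_ne_bot_of_std 𝒜 hposR h0R hstdR h1R n hn
    rw [Ne, piece_eq_bot_iff 𝒜 h0R n] at h2
    omega
  have hB : ∀ n : ℤ, 0 ≤ n → 1 ≤ Module.finrank k (ℬ n) := by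
    intro n hn
    have h2 := piece_ne_bot_of_std ℬ hposS h0S hstdS h1S n hn
    rw [Ne, piece_eq_bot_iff ℬ h0S n] at h2
    omega
  have hA' : 1 ≤ Module.finrank (GrLC.deg0 𝒜) (I.Hcomp (irr 𝒜) 1 aR) := by
    have h2 := haRne
    rw [Ne, Hcomp_eq_bot_iff_finrank 𝒜 hposR h0R (irr 𝒜) hmR I 1 aR] at h2
    omega
  have hB' : 1 ≤ Module.finrank (GrLC.deg0 ℬ) (J.Hcomp (irr ℬ) 1 aS) := by
    have h2 := haSne
    rw [Ne, Hcomp_eq_bot_iff_finrank ℬ hposS h0S (irr ℬ) hmS J 1 aS] at h2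
    omega
  have hTneg : ∀ j : ℤ, j < 0 → Module.finrank k (𝒯 j) = 0 := by
    intro j hj
    rw [hposT j hj]
    exact finrank_bot _ _
  have hT0 : Module.finrank k (𝒯 0) = 1 := by
    rw [h0T]
    exact finrank_span_singleton one_ne_zero
  -- `a ≥ aR` and `a ≥ aS`
  have haaR : aR ≤ a := by
    by_contra hlt
    have h2 := hGor aR
    rw [hTneg (a - aR) (by omega), hK aR] at h2
    have h3 := Nat.mul_pos hA' (hB aR haR0)
    omega
  have haaS : aS ≤ a := by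
    by_contra hlt
    have h2 := hGor aS
    rw [hTneg (a - aS) (by omega), hK aS] at h2
    have h3 := Nat.mul_pos (hA aS haS0) hB'
    omega
  have ha0 : 0 ≤ a := le_trans haR0 haaR
  have hmain := hGor a
  rw [sub_self, hT0, hK a] at hmain
  have htorR := torsionSub_eq_bot_of_H0 𝒜 (irr 𝒜) I hR0
  have htorS := torsionSub_eq_bot_of_H0 ℬ (irr ℬ) J hS0
  rcases arith_core _ _ _ _ (hA a ha0) (hB a ha0) hmain with ⟨h1, h2⟩ | ⟨h1, h2⟩
  · have hne : a ≠ aR := by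
      intro h
      rw [h] at h1
      omega
    have ha1 : 1 ≤ a := by omega
    have h3 := finrank_one_eq_one 𝒜 hposR h0R hstdR (irr 𝒜) hmR h1R htorR a ha1 h2
    obtain ⟨t, -, hbij⟩ := exists_aeval_bijective 𝒜 hposR h0R hstdR hr h3
    exact hR ⟨(AlgEquiv.ofBijective _ hbij).symm⟩
  · have hne : a ≠ aS := by
      intro h
      rw [h] at h1
      omega
    have ha1 : 1 ≤ a := by omega
    have h3 := finrank_one_eq_one ℬ hposS h0S hstdS (irr ℬ) hmS h1S htorS a ha1 h2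
    obtain ⟨t, -, hbij⟩ := exists_aeval_bijective ℬ hposS h0S hstdS hs h3
    exact hS ⟨(AlgEquiv.ofBijective _ hbij).symm⟩

end Main

end Groth.Agent.Lib.Helper8.GrMod
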