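import Groth.Agent.Lib.Helper8GrModL
import Groth.Agent.Lib.Helper5GorRing
import Groth.Agent.S17771

/-!
# The Segre product with a polynomial ring in one variable (helper8)

`R # k[t] ≅ R` as rings, and the transfer of the Gorenstein property along ring isomorphisms.
-/

set_option autoImplicit false
set_option linter.unusedSectionVars false
set_option linter.style.haveILetI false
universe u
open TensorProduct DirectSum

noncomputable section

namespace Groth.Agent.Lib.Helper8.GrMod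

open Groth.Agent.Lib.Helper29GrConv Groth.Agent.Lib.Helper8.Seg Groth.Agent.Lib.Helper8.GrCMk

section GorTransfer

/-- Gorenstein rings transfer along ring isomorphisms -/
theorem isGorensteinRing_of_ringEquiv {R S : Type u} [CommRing R] [CommRing S]
    (e : R ≃+* S) [hR : LocCoh.IsGorensteinRing R] : LocCoh.IsGorensteinRing S := by
  have hN : IsNoetherianRing S := isNoetherianRing_of_ringEquiv R e
  refine { isGorensteinLocalRing_localization := ?_ }
  intro q hq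
  have hp : (q.comap (e : R →+* S)).IsPrime := Ideal.comap_isPrime _ _
  have := hR.isGorensteinLocalRing_localization (q.comap (e : R →+* S))
  exact Groth.Agent.Lib.Helper5.GorRing.gorLocal_of_ringEquiv
    (Localization.localRingEquiv (q.comap (e : R →+* S)) q e rfl)

end GorTransfer

section PolyPieces

variable {k : Type u} [Field k] {S : Type u} [CommRing S] [Algebra k S]
  (ℬ : ℤ → Submodule k S) [GradedAlgebra ℬ]

theorem pow_mem_nat {t : S} (ht : t ∈ ℬ 1) (n : ℕ) : t ^ n ∈ ℬ (n : ℤ) := by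
  have h1 := SetLike.pow_mem_graded n ht
  have h2 : (n • (1 : ℤ)) = (n : ℤ) := by simp
  rw [h2] at h1
  exact h1

/-- the components of the value of a polynomial at a degree one element -/
theorem decompose_aeval {t : S} (ht : t ∈ ℬ 1) (f : Polynomial k) (n : ℕ) :
    ((DirectSum.decompose ℬ (Polynomial.aeval t f)) (n : ℤ) : S) = f.coeff n • t ^ n := by
  classical
  induction f using Polynomial.induction_on' with
  | add p q hp hq =>
    rw [map_add, DirectSum.decompose_add, DirectSum.add_apply, Submodule.coe_add, hp, hq,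
      Polynomial.coeff_add, add_smul]
  | monomial i c =>
    have h1 : Polynomial.aeval t (Polynomial.monomial i c) = c • t ^ i := by
      rw [Polynomial.aeval_monomial, Algebra.smul_def]
    have h2 : c • t ^ i ∈ ℬ (i : ℤ) := Submodule.smul_mem _ _ (pow_mem_nat ℬ ht i)
    rw [h1, Polynomial.coeff_monomial]
    by_cases hin : i = n
    · subst hin
      rw [DirectSum.decompose_of_mem_same ℬ h2, if_pos rfl]
    · have hin' : (i : ℤ) ≠ (n : ℤ) := fun h => hin (by exact_mod_cast h)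
      rw [DirectSum.decompose_of_mem_ne ℬ h2 hin', if_neg hin, zero_smul]

/-- if `k[X] → S`, `X ↦ t` is bijective with `t` of degree one, then `S_n = k t^n`, with the
coefficient read off by the augmentation `t ↦ 1` -/
theorem exists_augmentation {t : S} (ht : t ∈ ℬ 1)
    (hbij : Function.Bijective (Polynomial.aeval t : Polynomial k →ₐ[k] S)) :
    ∃ ε : S →ₐ[k] k, ε t = 1 ∧ ∀ (n : ℕ) (b : S), b ∈ ℬ (n : ℤ) → b = ε b • t ^ n := by
  classical
  let φ : Polynomial k ≃ₐ[k] S := AlgEquiv.ofBijective _ hbij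
  let ε : S →ₐ[k] k := (Polynomial.aeval (1 : k)).comp φ.symm.toAlgHom
  have hφX : φ Polynomial.X = t := Polynomial.aeval_X t
  have hεt : ε t = 1 := by
    show Polynomial.aeval (1 : k) (φ.symm t) = 1
    rw [← hφX, AlgEquiv.symm_apply_apply, Polynomial.aeval_X]
  refine ⟨ε, hεt, fun n b hb => ?_⟩
  have h1 : b = (φ.symm b).coeff n • t ^ n := by
    have h2 := decompose_aeval ℬ ht (φ.symm b) n
    have h3 : Polynomial.aeval t (φ.symm b) = b := φ.apply_symm_apply b
    rw [h3, DirectSum.decompose_of_mem_same ℬ hb] at h2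
    exact h2
  have h4 : ε b = (φ.symm b).coeff n := by
    conv_lhs => rw [h1]
    rw [map_smul, map_pow, hεt, one_pow, smul_eq_mul, mul_one]
  rw [h4]
  exact h1

end PolyPieces

section SegrePoly

variable {k : Type u} [Field k] {R S T : Type u} [CommRing R] [CommRing S] [CommRing T]
  [Algebra k R] [Algebra k S] [Algebra k T]
variable {𝒜 : ℤ → Submodule k R} [GradedAlgebra 𝒜] {ℬ : ℤ → Submodule k S} [GradedAlgebra ℬ]
  (𝒯 : ℤ → Submodule k T) [GradedAlgebra 𝒯] (ψ : T →ₐ[k] R ⊗[k] S)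
  (hT : GrSeg.IsSegreRing 𝒜 ℬ 𝒯 ψ)
  (ε : S →ₐ[k] k)

/-- `R ⊗ S → R`, `a ⊗ b ↦ ε(b) a` -/
def rho : R ⊗[k] S →ₐ[k] R :=
  (Algebra.TensorProduct.rid k k R).toAlgHom.comp (Algebra.TensorProduct.map (AlgHom.id k R) ε)

theorem rho_tmul (a : R) (b : S) : rho (R := R) ε (a ⊗ₜ[k] b) = ε b • a := by
  unfold rho
  rw [AlgHom.comp_apply, Algebra.TensorProduct.map_tmul]
  exact Algebra.TensorProduct.rid_tmul (R := k) (S := k) (A := R) (ε b) a

/-- the comparison map `T → R` -/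
def sigma : T →ₐ[k] R := (rho (R := R) ε).comp ψ

variable {t : S} (ht : t ∈ ℬ 1) (hε1 : ε t = 1)
  (hεt : ∀ (n : ℕ) (b : S), b ∈ ℬ (n : ℤ) → b = ε b • t ^ n)

include hT in
theorem sigma_mem {n : ℤ} {x : T} (hx : x ∈ 𝒯 n) : sigma ψ ε x ∈ 𝒜 n := by
  have h1 : ψ x ∈ (𝒯 n).map ψ.toLinearMap := Submodule.mem_map_of_mem hx
  rw [hT.2 n] at h1
  show rho (R := R) ε (ψ x) ∈ 𝒜 n
  refine Submodule.span_induction (p := fun z _ => rho (R := R) ε z ∈ 𝒜 n) ?_ ?_ ?_ ?_ h1
  · rintro _ ⟨a, ha, b, hb, rfl⟩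
    rw [rho_tmul]
    exact Submodule.smul_mem _ _ ha
  · rw [map_zero]; exact zero_mem _
  · intro y z _ _ hy hz
    rw [map_add]; exact add_mem hy hz
  · intro c y _ hy
    rw [map_smul]; exact Submodule.smul_mem _ _ hy

include hT hεt in
theorem psi_eq_sigma_tmul (n : ℕ) {x : T} (hx : x ∈ 𝒯 (n : ℤ)) :
    ψ x = sigma ψ ε x ⊗ₜ[k] (t ^ n) := by
  have h1 : ψ x ∈ (𝒯 (n : ℤ)).map ψ.toLinearMap := Submodule.mem_map_of_mem hx
  rw [hT.2 (n : ℤ)] at h1
  show ψ x = rho (R := R) ε (ψ x) ⊗ₜ[k] (t ^ n)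
  refine Submodule.span_induction (p := fun z _ => z = rho (R := R) ε z ⊗ₜ[k] (t ^ n)) ?_ ?_ ?_ ?_ h1
  · rintro _ ⟨a, ha, b, hb, rfl⟩
    rw [rho_tmul]
    conv_lhs => rw [hεt n b hb]
    rw [TensorProduct.tmul_smul, TensorProduct.smul_tmul']
  · rw [map_zero, TensorProduct.zero_tmul]
  · intro y z _ _ hy hz
    rw [map_add, TensorProduct.add_tmul, ← hy, ← hz]
  · intro c y _ hy
    rw [map_smul, ← TensorProduct.smul_tmul', ← hy]

include hT in
theorem decompose_sigma (x : T) (n : ℤ) :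
    ((DirectSum.decompose 𝒜 (sigma ψ ε x)) n : R) = sigma ψ ε ((DirectSum.decompose 𝒯 x) n : T) := by
  classical
  induction x using DirectSum.Decomposition.inductionOn 𝒯 with
  | zero => simp
  | @homogeneous i y =>
    have hy := sigma_mem 𝒯 ψ hT ε y.2
    by_cases hin : i = n
    · subst hin
      rw [DirectSum.decompose_of_mem_same 𝒜 hy, DirectSum.decompose_of_mem_same 𝒯 y.2]
    · rw [DirectSum.decompose_of_mem_ne 𝒜 hy hin, DirectSum.decompose_of_mem_ne 𝒯 y.2 hin,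
        map_zero]
  | add y z hy hz =>
    rw [map_add, DirectSum.decompose_add, DirectSum.decompose_add, DirectSum.add_apply,
      DirectSum.add_apply, Submodule.coe_add, Submodule.coe_add, map_add, hy, hz]

include hT hεt in
theorem sigma_injective (hposR : ∀ n : ℤ, n < 0 → 𝒜 n = ⊥) :
    Function.Injective (sigma (R := R) ψ ε) := by
  classical
  have hposT := segre_pos 𝒯 ψ hT hposR
  rw [injective_iff_map_eq_zero]
  intro x hx
  have h1 : ∀ n : ℤ, ((DirectSum.decompose 𝒯 x) n : T) = 0 := by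
    intro n
    have h2 := decompose_sigma 𝒯 ψ hT ε x n
    rw [hx, DirectSum.decompose_zero, DirectSum.zero_apply, ZeroMemClass.coe_zero] at h2
    rcases lt_or_ge n 0 with hn | hn
    · have h4 : ∀ y ∈ 𝒯 n, y = 0 := fun y hy => by
        rw [hposT n hn] at hy
        exact (Submodule.mem_bot k).mp hy
      exact h4 _ ((DirectSum.decompose 𝒯 x) n).2
    · obtain ⟨d, rfl⟩ := Int.eq_ofNat_of_zero_le hn
      apply hT.1
      rw [psi_eq_sigma_tmul 𝒯 ψ hT ε hεt d ((DirectSum.decompose 𝒯 x) (d : ℤ)).2, ← h2,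
        TensorProduct.zero_tmul, map_zero]
  rw [← DirectSum.sum_support_decompose 𝒯 x]
  exact Finset.sum_eq_zero (fun n _ => h1 n)

include hT ht hε1 in
theorem sigma_surjective (hposR : ∀ n : ℤ, n < 0 → 𝒜 n = ⊥) :
    Function.Surjective (sigma (R := R) ψ ε) := by
  classical
  intro r
  induction r using DirectSum.Decomposition.inductionOn 𝒜 with
  | zero => exact ⟨0, map_zero _⟩
  | @homogeneous i a =>
    rcases lt_or_ge i 0 with hn | hn
    · have h4 : ∀ y ∈ 𝒜 i, y = 0 := fun y hy => by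
        rw [hposR i hn] at hy
        exact (Submodule.mem_bot k).mp hy
      exact ⟨0, by rw [map_zero, h4 _ a.2]⟩
    · obtain ⟨d, rfl⟩ := Int.eq_ofNat_of_zero_le hn
      have h1 : (a : R) ⊗ₜ[k] (t ^ d) ∈ (𝒯 (d : ℤ)).map ψ.toLinearMap := by
        rw [hT.2 (d : ℤ)]
        exact Submodule.subset_span ⟨a.1, a.2, t ^ d, pow_mem_nat ℬ ht d, rfl⟩
      obtain ⟨x, -, hx⟩ := h1
      refine ⟨x, ?_⟩
      show rho (R := R) ε (ψ x) = a
      have hx' : ψ x = (a : R) ⊗ₜ[k] (t ^ d) := hx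
      rw [hx', rho_tmul, map_pow, hε1, one_pow, one_smul]
  | add y z hy hz =>
    obtain ⟨y', hy'⟩ := hy
    obtain ⟨z', hz'⟩ := hz
    exact ⟨y' + z', by rw [map_add, hy', hz']⟩

end SegrePoly

section Final

variable {k : Type u} [Field k] {R : Type u} [CommRing R] [Algebra k R]
  (𝒜 : ℤ → Submodule k R) [GradedAlgebra 𝒜]
  (hpos : ∀ n : ℤ, n < 0 → 𝒜 n = ⊥) (h0 : 𝒜 0 = Submodule.span k {(1 : R)})
  (hstd : Ideal.span (⋃ n ∈ Set.Ioi (0 : ℤ), (𝒜 n : Set R)) =
    Ideal.span ((𝒜 1 : Submodule k R) : Set R))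

include hpos h0 hstd in
/-- a one-dimensional standard graded Cohen–Macaulay algebra with negative a-invariant has
`dim R_1 = 1` -/
theorem finrank_one_of_endDeg_lt_zero [Algebra.FiniteType k R] [LocCoh.IsCohenMacaulayRing R]
    (hr : ringKrullDim R = 1) (m : HomogeneousIdeal 𝒜)
    (hmsp : m.toIdeal = Ideal.span (⋃ n ∈ Set.Ioi (0 : ℤ), (𝒜 n : Set R)))
    (I : GrLC.StarInjRes 𝒜 𝒜) (hlt : GrLC.endDeg (I.Hgr m 1) < 0) :
    Module.finrank k (𝒜 1) = 1 := by
  classical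
  have hNR : IsNoetherianRing R := Algebra.FiniteType.isNoetherianRing k R
  have hnt : Nontrivial R := by
    by_contra hnt
    rw [not_nontrivial_iff_subsingleton] at hnt
    rw [ringKrullDim_eq_bot_of_subsingleton] at hr
    exact absurd hr (by simp)
  have hr' : ringKrullDim R = ((1 : ℕ) : WithBot ℕ∞) := by rw [hr]; rfl
  have hposA := asGr_pos 𝒜 hpos
  have hF := isField_deg0 𝒜 h0
  have hm := isStarLocal_asGr 𝒜 hpos h0 m hmsp
  have hstdA : Ideal.span (⋃ n ∈ Set.Ioi (0 : ℤ), (asGr 𝒜 n : Set R)) =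
      Ideal.span ((asGr 𝒜 1 : AddSubgroup R) : Set R) := hstd
  have hmspA : (idealAS 𝒜 m).toIdeal =
      Ideal.span (⋃ n ∈ Set.Ioi (0 : ℤ), (asGr 𝒜 n : Set R)) := hmsp
  have hend : GrLC.endDeg (I.Hgr m 1) = GrLC.endDeg ((resAS I).Hgr (idealAS 𝒜 m) 1) := by
    apply endDeg_congr
    intro n
    constructor
    · intro h
      have h1 : I.Hcomp m 1 n = ⊥ := Submodule.toAddSubgroup_injective (h.trans rfl)
      exact congrArg Submodule.toAddSubgroup ((Hcomp_resAS_eq_bot_iff I m 1 n).mpr h1)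
    · intro h
      have h1 : (resAS I).Hcomp (idealAS 𝒜 m) 1 n = ⊥ :=
        Submodule.toAddSubgroup_injective (h.trans rfl)
      exact congrArg Submodule.toAddSubgroup ((Hcomp_resAS_eq_bot_iff I m 1 n).mp h1)
  have hArt : IsArtinianRing (GrLC.deg0 (asGr 𝒜)) := (deg0Equiv 𝒜 h0).isArtinianRing
  have hge := Groth.Agent.S17771.result R (asGr 𝒜) hposA hstdA (idealAS 𝒜 m) hm 1 hr' (resAS I)
  rw [hend] at hlt
  have heq := endDeg_eq_neg_one_of_lt _ hge hlt
  have h1 := Groth.Agent.Lib.Helper25.AInvPoly.finrank_piece_one_eq (asGr 𝒜) hposA hF hstdA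
    (idealAS 𝒜 m) hm hmspA 1 hr' (resAS I) heq
  have e1 : Module.finrank (GrLC.deg0 (asGr 𝒜)) (GrLC.comp (asGr 𝒜) (asGr 𝒜) 1) =
      Module.finrank (GrLC.deg0 𝒜) (GrLC.comp 𝒜 (asGr 𝒜) 1) :=
    congrArg Cardinal.toNat (rank_comp_asGr' 𝒜 (asGr 𝒜) 1)
  rw [← finrank_comp_self 𝒜 (exists_algebraMap_of_span h0) 1, ← e1]
  exact h1

end Final

section Assembly

variable {k : Type u} [Field k] {R S T : Type u} [CommRing R] [CommRing S] [CommRing T]
  [Algebra k R] [Algebra k S] [Algebra k T]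
variable {𝒜 : ℤ → Submodule k R} [GradedAlgebra 𝒜] {ℬ : ℤ → Submodule k S} [GradedAlgebra ℬ]
  (𝒯 : ℤ → Submodule k T) [GradedAlgebra 𝒯] (ψ : T →ₐ[k] R ⊗[k] S)
  (hT : GrSeg.IsSegreRing 𝒜 ℬ 𝒯 ψ)

include hT in
/-- Gorenstein Segre products of one-dimensional standard graded Cohen–Macaulay algebras -/
theorem gorenstein_segre_dim_one
    (hposR : ∀ n : ℤ, n < 0 → 𝒜 n = ⊥) (h0R : 𝒜 0 = Submodule.span k {(1 : R)})
    [Algebra.FiniteType k R]
    (hposS : ∀ n : ℤ, n < 0 → ℬ n = ⊥) (h0S : ℬ 0 = Submodule.span k {(1 : S)})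
    [Algebra.FiniteType k S]
    [LocCoh.IsCohenMacaulayRing R] [LocCoh.IsCohenMacaulayRing S]
    (hstdR : Ideal.span (⋃ n ∈ Set.Ioi (0 : ℤ), (𝒜 n : Set R)) =
      Ideal.span ((𝒜 1 : Submodule k R) : Set R))
    (hstdS : Ideal.span (⋃ n ∈ Set.Ioi (0 : ℤ), (ℬ n : Set S)) =
      Ideal.span ((ℬ 1 : Submodule k S) : Set S))
    (hr : ringKrullDim R = 1) (hs : ringKrullDim S = 1)
    (hR : IsEmpty (R ≃ₐ[k] Polynomial k)) [LocCoh.IsGorensteinRing T] :
    Nonempty (S ≃ₐ[k] Polynomial k) ∧ LocCoh.IsGorensteinRing R := by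
  classical
  have hpoly : Nonempty (S ≃ₐ[k] Polynomial k) :=
    (polynomial_of_gorenstein_segre_dim_one 𝒯 ψ hT hposR h0R hposS h0S hstdR hstdS hr
      hs).resolve_left (fun h => hR.false h.some)
  refine ⟨hpoly, ?_⟩
  haveI hNS : IsNoetherianRing S := Algebra.FiniteType.isNoetherianRing k S
  obtain ⟨J⟩ := Groth.Agent.Lib.Helper29GrConv2.exists_res (𝒜 := ℬ) (ℳ := ℬ)
  have haS : GrLC.endDeg (J.Hgr (irr ℬ) 1) < 0 :=
    (endDeg_lt_zero_iff_polynomial ℬ hposS h0S hstdS hs (irr ℬ) (irr_toIdeal ℬ) J).mpr hpoly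
  have h1 := finrank_one_of_endDeg_lt_zero ℬ hposS h0S hstdS hs (irr ℬ) (irr_toIdeal ℬ) J haS
  obtain ⟨t, ht, hbij⟩ := exists_aeval_bijective ℬ hposS h0S hstdS hs h1
  obtain ⟨ε, hε1, hεt⟩ := exists_augmentation ℬ ht hbij
  have hinj := sigma_injective 𝒯 ψ hT ε hεt hposR
  have hsurj := sigma_surjective 𝒯 ψ hT ε ht hε1 hposR
  exact isGorensteinRing_of_ringEquiv
    (RingEquiv.ofBijective (sigma (R := R) ψ ε) ⟨hinj, hsurj⟩)

end Assembly

end Groth.Agent.Lib.Helper8.GrMod
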