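import Groth.Agent.Lib.Helper8Kun10

/-!
# The Künneth isomorphism `H^p(A') ⊗ H^0(B) ≃ H^p(A' ⊗ B + A ⊗ B')` when `B'` is acyclic (helper8)
-/

set_option autoImplicit false
set_option linter.unusedSectionVars false
set_option linter.style.haveILetI false
universe u
open TensorProduct

noncomputable section

namespace Groth.Agent.Lib.Helper8.Kun

variable {k : Type u} [Field k]

namespace Cpx

section Acyclic

variable {C D : Cpx k}

/-- if the right factor is acyclic, so is the total complex -/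
theorem totCyc_le_totBdy_of_acyclic_right (hD : ∀ q, D.cyc q ≤ D.bdy q) (n : ℕ) :
    totCyc C D n ≤ totBdy C D n := by
  obtain ⟨s⟩ := C.exists_splitting
  obtain ⟨t⟩ := D.exists_splitting
  intro f hf
  have h := sub_Φ_mem_totBdy s t hf
  have hΦ : Φ s t f = 0 := by
    funext p q
    rw [Φ_apply]
    have : t.π q = 0 := LinearMap.ext fun x => t.π_eq_zero_of_cyc_le_bdy q (hD q) x
    rw [this, TensorProduct.map_zero_right]
    rfl
  rwa [hΦ, sub_zero] at h

theorem cross_map_mkQ (p q : ℕ) (ζ : ↥(C.cyc p) ⊗[k] ↥(D.cyc q)) :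
    cross p q (TensorProduct.map (Submodule.mkQ ((C.bdy p).comap (C.cyc p).subtype))
      (Submodule.mkQ ((D.bdy q).comap (D.cyc q).subtype)) ζ) =
      Submodule.Quotient.mk (crossZ p q ζ) := by
  induction ζ using TensorProduct.induction_on with
  | zero => rw [map_zero, map_zero, map_zero, Submodule.Quotient.mk_zero]
  | tmul z w => exact cross_mk_tmul_mk p q z w
  | add x y hx hy => rw [map_add, map_add, hx, hy, map_add, Submodule.Quotient.mk_add]

/-- the cross product with `H^0` of a complex exact in positive degrees -/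
def cross0 (p : ℕ) : C.H p ⊗[k] D.H 0 →ₗ[k] Htot C D p := cross p 0

theorem cross0_injective (p : ℕ) : Function.Injective (cross0 (C := C) (D := D) p) :=
  cross_injective p 0

theorem cross0_surjective (hD : ∀ q, D.cyc (q + 1) ≤ D.bdy (q + 1)) (p : ℕ) :
    Function.Surjective (cross0 (C := C) (D := D) p) := by
  obtain ⟨s⟩ := C.exists_splitting
  obtain ⟨t⟩ := D.exists_splitting
  intro c
  obtain ⟨f, rfl⟩ := Submodule.Quotient.mk_surjective _ c
  have hf : (f : Tot C D) ∈ totCyc C D p := f.2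
  have h := sub_Φ_mem_totBdy s t hf
  have hE : Φ s t (f : Tot C D) p 0 ∈ E s t p 0 := ⟨(f : Tot C D) p 0, (Φ_apply s t _ p 0).symm⟩
  rw [E_eq] at hE
  obtain ⟨ζ', hζ'⟩ := hE
  let ζ : ↥(C.cyc p) ⊗[k] ↥(D.cyc 0) :=
    TensorProduct.map (Submodule.inclusion (s.harm_le_cyc p)) (Submodule.inclusion (t.harm_le_cyc 0)) ζ'
  have hζ : TensorProduct.map (C.cyc p).subtype (D.cyc 0).subtype ζ = Φ s t (f : Tot C D) p 0 := by
    rw [← hζ']
    show TensorProduct.map _ _ (TensorProduct.map _ _ ζ') = _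
    rw [TensorProduct.map_map]
    rfl
  have hsingle : single p 0 (Φ s t (f : Tot C D) p 0) = Φ s t (f : Tot C D) := by
    funext p' q'
    by_cases hp : p' = p
    · subst hp
      cases q' with
      | zero => rw [single_same]
      | succ q'' =>
        rw [single_of_ne_right _ _ _ _ (Nat.succ_ne_zero q''), Φ_apply]
        have : t.π (q'' + 1) = 0 := LinearMap.ext fun x =>
          t.π_eq_zero_of_cyc_le_bdy (q'' + 1) (hD q'') x
        rw [this, TensorProduct.map_zero_right]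
        rfl
    · rw [single_of_ne_left _ _ _ _ _ hp]
      by_cases hpq : p' + q' = p
      · cases q' with
        | zero => omega
        | succ q'' =>
          rw [Φ_apply]
          have : t.π (q'' + 1) = 0 := LinearMap.ext fun x =>
            t.π_eq_zero_of_cyc_le_bdy (q'' + 1) (hD q'') x
          rw [this, TensorProduct.map_zero_right]
          rfl
      · rw [Φ_apply, hf.1 p' q' hpq, map_zero]
  refine ⟨TensorProduct.map (Submodule.mkQ ((C.bdy p).comap (C.cyc p).subtype))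
      (Submodule.mkQ ((D.bdy 0).comap (D.cyc 0).subtype)) ζ, ?_⟩
  show cross p 0 _ = _
  rw [cross_map_mkQ]
  rw [Submodule.Quotient.eq]
  show (crossZ p 0 ζ : Tot C D) - (f : Tot C D) ∈ totBdy C D (p + 0)
  rw [crossZ_coe, hζ, hsingle, ← neg_sub]
  exact neg_mem h

theorem cross0_bijective (hD : ∀ q, D.cyc (q + 1) ≤ D.bdy (q + 1)) (p : ℕ) :
    Function.Bijective (cross0 (C := C) (D := D) p) :=
  ⟨cross0_injective p, cross0_surjective hD p⟩

end Acyclic

section Alpha

variable {A B : Cpx k} (a : SubCpx A) (b : SubCpx B)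

theorem α2_mk (n : ℕ) (x : ↥(totCyc a.cpx B n)) :
    α2 a b n (Submodule.Quotient.mk x) =
      Submodule.Quotient.mk ⟨j2 a x.1, j2_mem_ZW a b x.2⟩ := rfl

/-- if `B'` is acyclic then `H(A' ⊗ B) → H(W)` is bijective -/
theorem α2_bijective (hb : ∀ q, b.cpx.cyc q ≤ b.cpx.bdy q) (n : ℕ) :
    Function.Bijective (α2 a b n) := by
  have h1 : ∀ m, totCyc a.cpx b.cpx m ≤ totBdy a.cpx b.cpx m :=
    totCyc_le_totBdy_of_acyclic_right hb
  have h2 : ∀ m, totCyc A b.cpx m ≤ totBdy A b.cpx m :=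
    totCyc_le_totBdy_of_acyclic_right hb
  constructor
  · rw [injective_iff_map_eq_zero]
    intro c hc
    obtain ⟨x, rfl⟩ := Submodule.Quotient.mk_surjective _ c
    rw [α2_mk, Submodule.Quotient.mk_eq_zero] at hc
    have hc' : j2 a x.1 ∈ BW a b n := hc
    obtain ⟨x', hx', y', hy', hxy⟩ := exists_of_mem_BW a b hc'
    have hx'c := totBdy_le_totCyc n hx'
    have h0 : j2 a (x.1 - x') = j3 b y' := by
      rw [map_sub, ← hxy]
      abel
    obtain ⟨κ, hκ2, hκ3⟩ := exists_of_j2_eq_j3 a b h0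
    have hκs : κ ∈ supp a.cpx b.cpx n := by
      apply mem_supp_of_i2 a b
      rw [hκ2]
      exact sub_mem x.2.1 hx'c.1
    have hκD : Dt a.cpx b.cpx κ = 0 := by
      apply i2_injective a b
      rw [i2_Dt, hκ2, map_sub, map_zero, show Dt a.cpx B x.1 = 0 from x.2.2,
        show Dt a.cpx B x' = 0 from hx'c.2, sub_zero]
    have hκb : κ ∈ totBdy a.cpx b.cpx n := h1 n ⟨hκs, hκD⟩
    have hi2 : i2 a b κ ∈ totBdy a.cpx B n := totMap_mem_totBdy _ _ hκb
    rw [hκ2] at hi2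
    rw [Submodule.Quotient.mk_eq_zero]
    have := add_mem hi2 hx'
    rwa [sub_add_cancel] at this
  · intro c
    obtain ⟨w, rfl⟩ := Submodule.Quotient.mk_surjective _ c
    obtain ⟨x, hx, y, hy, hxy⟩ := exists_decomp a b w.2.1
    have hwD : Dt A B w.1 = 0 := w.2.2
    have h0 : j2 a (Dt a.cpx B x) = j3 b (-Dt A b.cpx y) := by
      have := congrArg (Dt A B) hxy
      rw [hwD, map_add, ← j2_Dt, ← j3_Dt] at this
      rw [map_neg]
      exact eq_neg_of_add_eq_zero_left this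
    obtain ⟨κ, hκ2, hκ3⟩ := exists_of_j2_eq_j3 a b h0
    have hκs : κ ∈ supp a.cpx b.cpx (n + 1) := by
      apply mem_supp_of_i2 a b
      rw [hκ2]
      exact Dt_mem_supp hx
    have hκD : Dt a.cpx b.cpx κ = 0 := by
      apply i2_injective a b
      rw [i2_Dt, hκ2, Dt_Dt, map_zero]
    obtain ⟨κ', hκ', hκ'κ⟩ := h1 (n + 1) ⟨hκs, hκD⟩
    have hx1 : x - i2 a b κ' ∈ totCyc a.cpx B n := by
      refine ⟨sub_mem hx (totMap_mem_supp _ _ hκ'), ?_⟩
      show Dt a.cpx B (x - i2 a b κ') = 0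
      rw [map_sub, ← i2_Dt, hκ'κ, hκ2, sub_self]
    have hy1 : y + i3 a b κ' ∈ totCyc A b.cpx n := by
      refine ⟨add_mem hy (totMap_mem_supp _ _ hκ'), ?_⟩
      show Dt A b.cpx (y + i3 a b κ') = 0
      rw [map_add, ← i3_Dt, hκ'κ, hκ3, add_neg_cancel]
    have hy1b : y + i3 a b κ' ∈ totBdy A b.cpx n := h2 n hy1
    refine ⟨Submodule.Quotient.mk ⟨_, hx1⟩, ?_⟩
    rw [α2_mk, Submodule.Quotient.eq]
    show j2 a (x - i2 a b κ') - w.1 ∈ BW a b n
    have h3 : j2 a (x - i2 a b κ') - w.1 = -j3 b (y + i3 a b κ') := by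
      rw [← hxy, map_sub, map_add, j2_i2]
      abel
    rw [h3]
    exact neg_mem (j3_mem_BW a b hy1b)

end Alpha

section Natural

variable {A B A' B' : Cpx k} (a : SubCpx A) (b : SubCpx B) (a' : SubCpx A') (b' : SubCpx B')
  (φ : Hom A A') (ψ : Hom B B')
  (hφ : ∀ (p : ℕ) (x : A.X p), x ∈ a.U p → φ.f p x ∈ a'.U p)
  (hψ : ∀ (q : ℕ) (y : B.X q), y ∈ b.U q → ψ.f q y ∈ b'.U q)

theorem α2_natural (n : ℕ) (c : Htot a.cpx B n) :
    HWmap a b a' b' φ ψ hφ hψ n (α2 a b n c) =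
      α2 a' b' n (HtotMap (resHom a a' φ hφ) ψ n c) := by
  obtain ⟨x, rfl⟩ := Submodule.Quotient.mk_surjective _ c
  rw [α2_mk, HWmap_mk, HtotMap_mk, α2_mk]
  congr 1
  apply Subtype.ext
  exact (j2_totMap a a' φ ψ hφ x.1).symm

/-- the Künneth map `H^p(A') ⊗ H^0(B) → H^p(W)` -/
def kun0 (p : ℕ) : a.cpx.H p ⊗[k] B.H 0 →ₗ[k] HW a b p :=
  (α2 a b p).comp (cross0 (C := a.cpx) (D := B) p)

theorem kun0_apply (p : ℕ) (ζ : a.cpx.H p ⊗[k] B.H 0) :
    kun0 a b p ζ = α2 a b p (cross0 p ζ) := rfl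

theorem kun0_bijective (hB : ∀ q, B.cyc (q + 1) ≤ B.bdy (q + 1))
    (hb : ∀ q, b.cpx.cyc q ≤ b.cpx.bdy q) (p : ℕ) : Function.Bijective (kun0 a b p) :=
  (α2_bijective a b hb p).comp (cross0_bijective hB p)

theorem kun0_natural (p : ℕ) (ζ : a.cpx.H p ⊗[k] B.H 0) :
    HWmap a b a' b' φ ψ hφ hψ p (kun0 a b p ζ) =
      kun0 a' b' p (TensorProduct.map (Hmap (resHom a a' φ hφ) p) (Hmap ψ 0) ζ) := by
  rw [kun0_apply, kun0_apply, α2_natural]
  congr 1
  exact cross_natural (resHom a a' φ hφ) ψ p 0 ζ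

end Natural

end Cpx

end Groth.Agent.Lib.Helper8.Kun
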