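import Groth.Agent.Lib.Helper8Seg31
import Groth.Agent.Lib.Helper8Kun11
import Groth.Agent.Lib.Helper8GrModA

/-!
# Segre products with a module on which a homogeneous element of positive degree acts bijectively:
one-variable ingredients and the Künneth cross product `H^q_m(M)_d ⊗ N_d → H^q_{T_+}(M # N)_d`
(helper8)
-/

set_option autoImplicit false
set_option linter.unusedSectionVars false
set_option linter.style.haveILetI false
universe u
open TensorProduct DirectSum Cardinal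

noncomputable section

namespace Groth.Agent.Lib.Helper8.Seg

open Groth.Agent.Lib.Helper29GrConv Groth.Agent.Lib.Helper29LCAcyclic Groth.Agent.Lib.Helper8.Kun
  Groth.Agent.Lib.Helper8.Kun.Cpx Groth.Agent.Lib.Helper24SegreFin Groth.Agent.Lib.Helper24SegreFin2

section LCvanish

variable {S : Type u} [CommRing S] (I : Ideal S) {N : Type u} [AddCommGroup N] [Module S N]

/-- local cohomology with support in `I` vanishes on a module on which an element of `I` acts
bijectively -/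
theorem subsingleton_LC_of_bijective (g : S) (hgI : g ∈ I)
    (hg : Function.Bijective (fun y : N => g • y)) (j : ℕ) : Subsingleton (LC I j N) := by
  let m : N →ₗ[S] N := LinearMap.lsmul S N g
  let e : N ≃ₗ[S] N := LinearEquiv.ofBijective m hg
  have hVm : e.symm.toLinearMap ∘ₗ m = LinearMap.id := by
    apply LinearMap.ext
    intro y
    exact e.symm_apply_apply y
  have hinj : ∀ x : LC I j N, g • x = 0 → x = 0 := by
    intro x hx
    have h := LCmap_comp I j m e.symm.toLinearMap x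
    rw [hVm, LCmap_id, LCmap_lsmul, hx, map_zero] at h
    exact h
  have hz : ∀ x : LC I j N, x = 0 := by
    intro x
    obtain ⟨n, hn⟩ := Groth.Agent.Lib.Helper8.LC.isPowerTorsion_H I j (ModuleCat.of S N) x
    have h1 : g ^ n • x = 0 := hn _ (Ideal.pow_mem_pow hgI n)
    clear hn
    induction n with
    | zero => rwa [pow_zero, one_smul] at h1
    | succ n ih =>
      apply ih
      apply hinj
      rw [← mul_smul, ← pow_succ']
      exact h1
  exact ⟨fun x y => (hz x).trans (hz y).symm⟩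

end LCvanish

section One

variable {k : Type u} [Field k] {R : Type u} [CommRing R] [Algebra k R]
variable {𝒜 : ℤ → Submodule k R} [GradedAlgebra 𝒜]
variable {M : Type u} [AddCommGroup M] [Module R M] [Module k M] [IsScalarTower k R M]
  (ℳ : ℤ → AddSubgroup M) [DirectSum.Decomposition ℳ] [SetLike.GradedSMul 𝒜 ℳ]
  (EM : GrLC.StarInjRes 𝒜 ℳ) (mR : HomogeneousIdeal 𝒜)

/-- the pieces of graded local cohomology of a module form a decomposition -/
theorem isInternal_Hgr_mod [IsNoetherianRing R] (i : ℕ) : DirectSum.IsInternal (EM.Hgr mR i) := by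
  cases i with
  | zero =>
    exact Groth.Agent.S13225.result R (asGr 𝒜) (idealAS 𝒜 mR) M (asGr ℳ) (resAS EM) 0
  | succ n =>
    exact Groth.Agent.S13225.result R (asGr 𝒜) (idealAS 𝒜 mR) M (asGr ℳ) (resAS EM) (n + 1)

/-- graded local cohomology is a graded module -/
theorem gradedSMul_Hgr (i : ℕ) : SetLike.GradedSMul 𝒜 (EM.Hgr mR i) where
  smul_mem := by
    intro j n r y hr hy
    rw [vadd_eq_add]
    obtain ⟨z, hz, rfl⟩ := hy
    refine ⟨r • z, ?_, map_smul _ _ _⟩
    have h := SetLike.GradedSMul.smul_mem (A := 𝒜) (B := (EM.X i).gr) hr hz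
    rw [vadd_eq_add] at h
    rw [Submodule.coe_smul]
    exact h

/-- all graded local cohomology vanishes when a homogeneous element of positive degree acts
bijectively -/
theorem Hcomp_eq_bot_of_bijective [IsNoetherianRing R]
    (hmR : mR.toIdeal = Ideal.span (⋃ n ∈ Set.Ioi (0 : ℤ), (𝒜 n : Set R)))
    (e : ℕ) (he : 0 < e) (g : R) (hg : g ∈ 𝒜 (e : ℤ))
    (hgM : Function.Bijective (fun y : M => g • y)) (i : ℕ) (d : ℤ) :
    EM.Hcomp mR i d = ⊥ := by
  have hgI : g ∈ mR.toIdeal := by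
    rw [hmR]
    apply Ideal.subset_span
    exact Set.mem_iUnion₂.mpr ⟨(e : ℤ), Set.mem_Ioi.mpr (by exact_mod_cast he), hg⟩
  have h1 : Subsingleton (LocCoh.H mR.toIdeal i M) :=
    subsingleton_LC_of_bijective mR.toIdeal g hgI hgM i
  exact (Groth.Agent.Lib.Helper8.GrMod.H_subsingleton_iff_k 𝒜 mR ℳ EM i).mp h1 d

/-- vanishing of a piece of graded local cohomology gives exactness of the degree part of `Γ_m`
of the resolution -/
theorem gamRes_cyc_le_bdy (i : ℕ) (d : ℤ) (h : EM.Hcomp mR i d = ⊥) :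
    (gamRes ℳ EM mR d).cpx.cyc i ≤ (gamRes ℳ EM mR d).cpx.bdy i := by
  intro z hz
  have h1 := iotaH_mem ℳ EM mR i d (Submodule.Quotient.mk ⟨z, hz⟩)
  rw [h, Submodule.mem_bot] at h1
  have h0 : (Submodule.Quotient.mk ⟨z, hz⟩ : (gamRes ℳ EM mR d).cpx.H i) = 0 :=
    iotaH_injective ℳ EM mR i d (h1.trans (map_zero _).symm)
  have h2 := (Submodule.Quotient.mk_eq_zero _).mp h0
  exact h2

/-! ### the augmentation -/

/-- the augmentation into the degree `d` cocycles -/
def augZ (d : ℤ) : ↥(subm ℳ (kstable 𝒜 ℳ) d) →ₗ[k]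
    ↥((cpxE EM.X EM.d EM.d_grHom (res_d_d ℳ EM) d).cyc 0) where
  toFun m := ⟨(⟨EM.ε m.1, EM.ε_grHom d m.1 m.2⟩ : ↥(pieceK (EM.X 0) d)), by
    show (cpxE EM.X EM.d EM.d_grHom (res_d_d ℳ EM) d).d 0 _ = 0
    apply Subtype.ext
    show EM.d 0 (EM.ε m.1) = 0
    have h : EM.ε m.1 ∈ LinearMap.ker (EM.d 0) := by rw [EM.exact_zero]; exact ⟨m.1, rfl⟩
    exact h⟩
  map_add' m m' := Subtype.ext (Subtype.ext (map_add EM.ε m.1 m'.1))
  map_smul' c m := Subtype.ext (Subtype.ext (by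
    show EM.ε (c • (m.1 : M)) = algebraMap k R c • EM.ε m.1
    rw [← algebraMap_smul R c (m.1 : M), map_smul]))

theorem augZ_coe (d : ℤ) (m : ↥(subm ℳ (kstable 𝒜 ℳ) d)) :
    ((augZ ℳ EM d m).1.1 : (EM.X 0).carrier) = EM.ε m.1 := rfl

/-- the augmentation `M_d → H^0(E_d)` -/
def augH (d : ℤ) : ↥(subm ℳ (kstable 𝒜 ℳ) d) →ₗ[k]
    (cpxE EM.X EM.d EM.d_grHom (res_d_d ℳ EM) d).H 0 :=
  (Submodule.mkQ _).comp (augZ ℳ EM d)

theorem augH_apply (d : ℤ) (m : ↥(subm ℳ (kstable 𝒜 ℳ) d)) :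
    augH ℳ EM d m = Submodule.Quotient.mk (augZ ℳ EM d m) := rfl

theorem augH_bijective (d : ℤ) : Function.Bijective (augH ℳ EM d) := by
  constructor
  · rw [injective_iff_map_eq_zero]
    intro m hm
    rw [augH_apply] at hm
    have h1 : augZ ℳ EM d m ∈
        ((cpxE EM.X EM.d EM.d_grHom (res_d_d ℳ EM) d).bdy 0).comap
          ((cpxE EM.X EM.d EM.d_grHom (res_d_d ℳ EM) d).cyc 0).subtype :=
      (Submodule.Quotient.mk_eq_zero _).mp hm
    have h2 : (augZ ℳ EM d m).1 = 0 := (Submodule.mem_bot k).mp h1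
    have h3 : EM.ε m.1 = 0 := by rw [← augZ_coe, h2]; rfl
    exact Subtype.ext (EM.ε_injective (h3.trans (map_zero EM.ε).symm))
  · intro x
    obtain ⟨w, rfl⟩ := Submodule.Quotient.mk_surjective _ x
    have hw : (cpxE EM.X EM.d EM.d_grHom (res_d_d ℳ EM) d).d 0 w.1 = 0 := w.2
    have hw0 : EM.d 0 (w.1.1 : (EM.X 0).carrier) = 0 := by
      have h := congrArg (fun z => (z.1 : (EM.X 1).carrier)) hw
      exact h
    have hw1 : (w.1.1 : (EM.X 0).carrier) ∈ LinearMap.range EM.ε := by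
      rw [← EM.exact_zero]; exact hw0
    obtain ⟨m, hm⟩ := hw1
    have hmd : m ∈ ℳ d := mem_of_map_mem ℳ (EM.X 0).gr EM.ε EM.ε_grHom EM.ε_injective
      (by rw [hm]; exact w.1.2)
    refine ⟨⟨m, hmd⟩, ?_⟩
    rw [augH_apply]
    exact congrArg _ (Subtype.ext (Subtype.ext hm))

/-- the inverse of the augmentation -/
def augInv (d : ℤ) : (cpxE EM.X EM.d EM.d_grHom (res_d_d ℳ EM) d).H 0 →ₗ[k] M :=
  (subm ℳ (kstable 𝒜 ℳ) d).subtype.comp
    (LinearEquiv.ofBijective (augH ℳ EM d) (augH_bijective ℳ EM d)).symm.toLinearMap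

theorem augInv_augH (d : ℤ) (m : ↥(subm ℳ (kstable 𝒜 ℳ) d)) :
    augInv ℳ EM d (augH ℳ EM d m) = m.1 := by
  show ((LinearEquiv.ofBijective (augH ℳ EM d) (augH_bijective ℳ EM d)).symm
    (augH ℳ EM d m) : M) = m.1
  have h : (LinearEquiv.ofBijective (augH ℳ EM d) (augH_bijective ℳ EM d)).symm
      (augH ℳ EM d m) = m :=
    (LinearEquiv.ofBijective (augH ℳ EM d) (augH_bijective ℳ EM d)).symm_apply_apply m
  rw [h]

theorem augInv_injective (d : ℤ) : Function.Injective (augInv ℳ EM d) :=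
  (Submodule.injective_subtype _).comp
    (LinearEquiv.ofBijective (augH ℳ EM d) (augH_bijective ℳ EM d)).symm.injective

theorem augInv_mem (d : ℤ) (η : (cpxE EM.X EM.d EM.d_grHom (res_d_d ℳ EM) d).H 0) :
    augInv ℳ EM d η ∈ ℳ d :=
  ((LinearEquiv.ofBijective (augH ℳ EM d) (augH_bijective ℳ EM d)).symm η).2

theorem exists_augInv (d : ℤ) (m : M) (hm : m ∈ ℳ d) : ∃ η, augInv ℳ EM d η = m :=
  ⟨augH ℳ EM d ⟨m, hm⟩, augInv_augH ℳ EM d ⟨m, hm⟩⟩

/-- compatibility of the augmentation with multiplication by homogeneous elements -/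
theorem augInv_mulE {j : ℤ} (a : R) (ha : a ∈ 𝒜 j) (d : ℤ)
    (η : (cpxE EM.X EM.d EM.d_grHom (res_d_d ℳ EM) d).H 0) :
    augInv ℳ EM (j + d) (Hmap (mulE EM.X EM.d EM.d_grHom (res_d_d ℳ EM) a ha d) 0 η) =
      a • augInv ℳ EM d η := by
  obtain ⟨m, rfl⟩ := (augH_bijective ℳ EM d).2 η
  have ham : a • (m.1 : M) ∈ ℳ (j + d) := by
    have h := SetLike.GradedSMul.smul_mem (A := 𝒜) (B := ℳ) ha m.2
    rwa [vadd_eq_add] at h
  have h1 : Hmap (mulE EM.X EM.d EM.d_grHom (res_d_d ℳ EM) a ha d) 0 (augH ℳ EM d m) =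
      augH ℳ EM (j + d) ⟨a • (m.1 : M), ham⟩ := by
    rw [augH_apply, Hmap_mk, augH_apply]
    refine congrArg _ (Subtype.ext (Subtype.ext ?_))
    show a • EM.ε m.1 = EM.ε (a • (m.1 : M))
    rw [map_smul]
  rw [h1, augInv_augH, augInv_augH]

end One

end Groth.Agent.Lib.Helper8.Seg

namespace Groth.Agent.Lib.Helper8.GrMod

open Groth.Agent.Lib.Helper8.Seg (gamRes iotaH)

section IotaK

variable {k : Type u} [Field k] {R : Type u} [CommRing R] [Algebra k R]
variable {𝒜 : ℤ → Submodule k R} [GradedAlgebra 𝒜]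
variable {M : Type u} [AddCommGroup M] [Module R M] [Module k M] [IsScalarTower k R M]
  (ℳ : ℤ → AddSubgroup M) [DirectSum.Decomposition ℳ] [SetLike.GradedSMul 𝒜 ℳ]
  (EM : GrLC.StarInjRes 𝒜 ℳ) (mR : HomogeneousIdeal 𝒜)

/-! ### the comparison `H^i(Γ_m(E)_d) → H^i_m(M)` as a `k`-linear map -/

/-- `iotaH` as a `k`-linear map, for any compatible `k`-structure on the target -/
def iotaK (i : ℕ) [Module k (EM.H mR i)] [IsScalarTower k R (EM.H mR i)] (d : ℤ) :
    (gamRes ℳ EM mR d).cpx.H i →ₗ[k] EM.H mR i where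
  toFun := iotaH ℳ EM mR i d
  map_add' := map_add _
  map_smul' c x := by
    rw [(iotaH ℳ EM mR i d).map_smulₛₗ, algebraMap_smul]
    rfl

theorem iotaK_apply (i : ℕ) [Module k (EM.H mR i)] [IsScalarTower k R (EM.H mR i)] (d : ℤ)
    (x : (gamRes ℳ EM mR d).cpx.H i) :
    iotaK ℳ EM mR i d x = iotaH ℳ EM mR i d x := rfl

end IotaK

end Groth.Agent.Lib.Helper8.GrMod
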