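import Groth.Agent.Lib.Helper8GrModN

/-!
# The Künneth cross product `H^q_m(M)_d ⊗ N_d → H^q_{T_+}(M # N)_d` when the graded local
cohomology of `N` vanishes (helper8)
-/

set_option autoImplicit false
set_option linter.unusedSectionVars false
set_option linter.style.haveILetI false
universe u
open TensorProduct DirectSum Cardinal

noncomputable section

namespace Groth.Agent.Lib.Helper8.Seg

open Groth.Agent.Lib.Helper29GrConv Groth.Agent.Lib.Helper29LCAcyclic Groth.Agent.Lib.Helper8.Kun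
  Groth.Agent.Lib.Helper8.Kun.Cpx Groth.Agent.Lib.Helper24SegreFin Groth.Agent.Lib.Helper24SegreFin2

section Main

variable {k : Type u} [Field k] {R S T : Type u} [CommRing R] [CommRing S] [CommRing T]
  [Algebra k R] [Algebra k S] [Algebra k T]
variable {𝒜 : ℤ → Submodule k R} [GradedAlgebra 𝒜] {ℬ : ℤ → Submodule k S} [GradedAlgebra ℬ]
  (𝒯 : ℤ → Submodule k T) [GradedAlgebra 𝒯] (ψ : T →ₐ[k] R ⊗[k] S)
  (hT : GrSeg.IsSegreRing 𝒜 ℬ 𝒯 ψ)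

include hT in
/-- The cross product `H^q_m(M)_d ⊗ N_d → H^q_{T_+}(M # N)_d`, an isomorphism compatible with
multiplication, when all the graded local cohomology of `N` vanishes. -/
theorem exists_cross0
    (hposR : ∀ n : ℤ, n < 0 → 𝒜 n = ⊥) (h0R : 𝒜 0 = Submodule.span k {(1 : R)})
    [Algebra.FiniteType k R]
    (hposS : ∀ n : ℤ, n < 0 → ℬ n = ⊥) (h0S : ℬ 0 = Submodule.span k {(1 : S)})
    [Algebra.FiniteType k S]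
    (mR : HomogeneousIdeal 𝒜)
    (hmR : mR.toIdeal = Ideal.span (⋃ n ∈ Set.Ioi (0 : ℤ), (𝒜 n : Set R)))
    (mS : HomogeneousIdeal ℬ)
    (hmS : mS.toIdeal = Ideal.span (⋃ n ∈ Set.Ioi (0 : ℤ), (ℬ n : Set S)))
    (mT : HomogeneousIdeal 𝒯)
    (hmT : mT.toIdeal = Ideal.span (⋃ n ∈ Set.Ioi (0 : ℤ), (𝒯 n : Set T)))
    {M : Type u} [AddCommGroup M] [Module R M] [Module k M] [IsScalarTower k R M]
    (ℳ : ℤ → AddSubgroup M) [DirectSum.Decomposition ℳ] [SetLike.GradedSMul 𝒜 ℳ]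
    (EM : GrLC.StarInjRes 𝒜 ℳ)
    {N : Type u} [AddCommGroup N] [Module S N] [Module k N] [IsScalarTower k S N]
    (𝒩 : ℤ → AddSubgroup N) [DirectSum.Decomposition 𝒩] [SetLike.GradedSMul ℬ 𝒩]
    (EN : GrLC.StarInjRes ℬ 𝒩)
    {P : Type u} [AddCommGroup P] [Module T P] [Module k P] [IsScalarTower k T P]
    (𝒬 : ℤ → AddSubgroup P) [DirectSum.Decomposition 𝒬] [SetLike.GradedSMul 𝒯 𝒬]
    (φ : P →ₗ[k] M ⊗[k] N) (hP : GrSeg.IsSegreMod ψ ℳ 𝒩 𝒬 φ) (EP : GrLC.StarInjRes 𝒯 𝒬)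
    (q : ℕ)
    (hN : ∀ (d : ℤ) (i : ℕ), EN.Hcomp mS i d = ⊥) :
    ∃ Ξ : ∀ d : ℤ, ((gamRes ℳ EM mR d).cpx.H q ⊗[k]
        (cpxE EN.X EN.d EN.d_grHom (res_d_d 𝒩 EN) d).H 0) →ₛₗ[algebraMap k T] EP.H mT q,
      (∀ d, Function.Injective (Ξ d)) ∧
      (∀ d ζ, Ξ d ζ ∈ EP.Hcomp mT q d) ∧
      (∀ d y, y ∈ EP.Hcomp mT q d → ∃ ζ, Ξ d ζ = y) ∧
      (∀ (t : T) (j : ℤ) (a : R) (b : S) (ha : a ∈ 𝒜 j) (hb : b ∈ ℬ j), ψ t = a ⊗ₜ[k] b →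
        ∀ d ζ, t • Ξ d ζ = Ξ (j + d)
          (TensorProduct.map (mulH ℳ EM mR a ha q d)
            (Hmap (mulE EN.X EN.d EN.d_grHom (res_d_d 𝒩 EN) b hb d) 0) ζ)) := by
  classical
  haveI : IsNoetherianRing R := Algebra.FiniteType.isNoetherianRing k R
  haveI : IsNoetherianRing S := Algebra.FiniteType.isNoetherianRing k S
  haveI : IsNoetherianRing T :=
    Groth.Agent.S18646.result k R 𝒜 hposR h0R S ℬ hposS h0S T 𝒯 ψ hT.1 hT.2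
  obtain ⟨C⟩ := nonempty_cmp 𝒯 ψ hT EM.X EM.d EM.d_grHom (res_d_d ℳ EM) EM.exact_succ
    EN.X EN.d EN.d_grHom (res_d_d 𝒩 EN) EN.exact_succ ℳ EM.ε EM.ε_grHom EM.ε_injective
    EM.exact_zero 𝒩 EN.ε EN.ε_grHom EN.ε_injective EN.exact_zero 𝒬 φ hP mR hmR mS hmS mT hmT EP
    EM.starInj EN.starInj
  have hb : ∀ (d : ℤ) (i : ℕ), (gamRes 𝒩 EN mS d).cpx.cyc i ≤ (gamRes 𝒩 EN mS d).cpx.bdy i :=
    fun d i => gamRes_cyc_le_bdy 𝒩 EN mS i d (hN d i)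
  have hB : ∀ (d : ℤ) (p : ℕ),
      (cpxE EN.X EN.d EN.d_grHom (res_d_d 𝒩 EN) d).cyc (p + 1) ≤
        (cpxE EN.X EN.d EN.d_grHom (res_d_d 𝒩 EN) d).bdy (p + 1) := fun d =>
    cpxE_exact EN.X EN.d EN.d_grHom (res_d_d 𝒩 EN) EN.exact_succ d
  have hkun : ∀ d : ℤ, Function.Bijective (kun0 (gamRes ℳ EM mR d) (gamRes 𝒩 EN mS d) q) :=
    fun d => kun0_bijective (gamRes ℳ EM mR d) (gamRes 𝒩 EN mS d) (hB d) (hb d) q
  let Ξ : ∀ d : ℤ, ((gamRes ℳ EM mR d).cpx.H q ⊗[k]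
      (cpxE EN.X EN.d EN.d_grHom (res_d_d 𝒩 EN) d).H 0) →ₛₗ[algebraMap k T] EP.H mT q := fun d =>
    (lamH 𝒯 ψ hT EM.X EM.d EM.d_grHom (res_d_d ℳ EM) EN.X EN.d EN.d_grHom (res_d_d 𝒩 EN) 𝒬
      mR hmR mS hmS mT hmT EP C q d).comp
      (kun0 (gamRes ℳ EM mR d) (gamRes 𝒩 EN mS d) q)
  have hΞ : ∀ d ζ, Ξ d ζ = lamH 𝒯 ψ hT EM.X EM.d EM.d_grHom (res_d_d ℳ EM) EN.X EN.d EN.d_grHom
      (res_d_d 𝒩 EN) 𝒬 mR hmR mS hmS mT hmT EP C q d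
      (kun0 (gamRes ℳ EM mR d) (gamRes 𝒩 EN mS d) q ζ) :=
    fun d ζ => rfl
  refine ⟨Ξ, ?_, ?_, ?_, ?_⟩
  · intro d ζ ζ' h
    rw [hΞ, hΞ] at h
    have h1 := lamH_injective 𝒯 ψ hT EM.X EM.d EM.d_grHom (res_d_d ℳ EM) EN.X EN.d EN.d_grHom
      (res_d_d 𝒩 EN) 𝒬 mR hmR mS hmS mT hmT EP C EM.starInj EN.starInj q d h
    exact (hkun d).1 h1
  · intro d ζ
    rw [hΞ]
    exact lamH_mem 𝒯 ψ hT EM.X EM.d EM.d_grHom (res_d_d ℳ EM) EN.X EN.d EN.d_grHom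
      (res_d_d 𝒩 EN) 𝒬 mR hmR mS hmS mT hmT EP C q d _
  · intro d y hy
    obtain ⟨x, hx⟩ := lamH_surjective 𝒯 ψ hT EM.X EM.d EM.d_grHom (res_d_d ℳ EM) EN.X EN.d
      EN.d_grHom (res_d_d 𝒩 EN) 𝒬 mR hmR mS hmS mT hmT EP C EM.starInj EN.starInj q d y hy
    obtain ⟨ζ, hζ⟩ := (hkun d).2 x
    refine ⟨ζ, ?_⟩
    rw [hΞ, hζ, hx]
  · intro t j a b ha hb' ht d ζ
    rw [hΞ, hΞ, smul_lamH 𝒯 ψ hT EM.X EM.d EM.d_grHom (res_d_d ℳ EM) EN.X EN.d EN.d_grHom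
      (res_d_d 𝒩 EN) 𝒬 mR hmR mS hmS mT hmT EP C ha hb' ht]
    congr 1
    exact kun0_natural (gamRes ℳ EM mR d) (gamRes 𝒩 EN mS d) (gamRes ℳ EM mR (j + d))
      (gamRes 𝒩 EN mS (j + d)) (mulE EM.X EM.d EM.d_grHom (res_d_d ℳ EM) a ha d)
      (mulE EN.X EN.d EN.d_grHom (res_d_d 𝒩 EN) b hb' d)
      (mulE_mem_gamSub EM.X EM.d EM.d_grHom (res_d_d ℳ EM) mR a ha d)
      (mulE_mem_gamSub EN.X EN.d EN.d_grHom (res_d_d 𝒩 EN) mS b hb' d) q ζ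

end Main

end Groth.Agent.Lib.Helper8.Seg
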