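import Groth.Agent.Lib.Helper8Seg2

/-!
# Existence of the Segre product of two graded modules (helper8)

`SegMod = ⊕_e X_e ⊗ Y_e` as a `T`-submodule of `X ⊗ Y` (with `T` acting through `ψ`), with its
grading, and the proof that it is a Segre product in the sense of `GrSeg.IsSegreMod`.
-/

set_option autoImplicit false
set_option linter.unusedSectionVars false
set_option linter.style.haveILetI false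
universe u
open TensorProduct DirectSum

noncomputable section

namespace Groth.Agent.Lib.Helper8.Seg

open Groth.Agent.Lib.Helper24SegreFin Groth.Agent.Lib.Helper24SegreFin2

variable {k : Type u} [Field k] {R S T : Type u} [CommRing R] [CommRing S] [CommRing T]
  [Algebra k R] [Algebra k S] [Algebra k T]

section SegMod

variable (𝒜 : ℤ → Submodule k R) [GradedAlgebra 𝒜] (ℬ : ℤ → Submodule k S) [GradedAlgebra ℬ]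
  (𝒯 : ℤ → Submodule k T) [GradedAlgebra 𝒯] (ψ : T →ₐ[k] R ⊗[k] S)
  (hT : GrSeg.IsSegreRing 𝒜 ℬ 𝒯 ψ)
variable {X Y : Type u} [AddCommGroup X] [Module R X] [Module k X] [IsScalarTower k R X]
  [AddCommGroup Y] [Module S Y] [Module k Y] [IsScalarTower k S Y]
  (𝒳 : ℤ → AddSubgroup X) [DirectSum.Decomposition 𝒳] [SetLike.GradedSMul 𝒜 𝒳]
  (𝒴 : ℤ → AddSubgroup Y) [DirectSum.Decomposition 𝒴] [SetLike.GradedSMul ℬ 𝒴]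

/-- the Segre product as a `T`-submodule of `X ⊗ Y` -/
def segT : Submodule T (TP ψ X Y) where
  carrier := (segK ψ 𝒳 𝒴 : Set (TP ψ X Y))
  add_mem' := fun ha hb => (segK ψ 𝒳 𝒴).add_mem ha hb
  zero_mem' := (segK ψ 𝒳 𝒴).zero_mem
  smul_mem' := fun t z hz => smul_mem_segK 𝒜 ℬ 𝒯 ψ hT 𝒳 𝒴 t z hz

theorem mem_segT {z : TP ψ X Y} : z ∈ segT 𝒜 ℬ 𝒯 ψ hT 𝒳 𝒴 ↔ z ∈ segK ψ 𝒳 𝒴 := Iff.rfl

/-- the Segre product module -/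
abbrev SegMod : Type u := ↥(segT 𝒜 ℬ 𝒯 ψ hT 𝒳 𝒴)

/-- the pieces of the Segre product module -/
def segGr (e : ℤ) : AddSubgroup (SegMod 𝒜 ℬ 𝒯 ψ hT 𝒳 𝒴) where
  carrier := {p | (p : TP ψ X Y) ∈ piece ψ 𝒳 𝒴 e}
  add_mem' := fun ha hb => (piece ψ 𝒳 𝒴 e).add_mem ha hb
  zero_mem' := (piece ψ 𝒳 𝒴 e).zero_mem
  neg_mem' := fun ha => (piece ψ 𝒳 𝒴 e).neg_mem ha

theorem mem_segGr {e : ℤ} {p : SegMod 𝒜 ℬ 𝒯 ψ hT 𝒳 𝒴} :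
    p ∈ segGr 𝒜 ℬ 𝒯 ψ hT 𝒳 𝒴 e ↔ (p : TP ψ X Y) ∈ piece ψ 𝒳 𝒴 e := Iff.rfl

/-- the projections -/
def segProj (e : ℤ) : SegMod 𝒜 ℬ 𝒯 ψ hT 𝒳 𝒴 →+ SegMod 𝒜 ℬ 𝒯 ψ hT 𝒳 𝒴 where
  toFun p := ⟨P 𝒜 ℬ ψ 𝒳 𝒴 e (p : TP ψ X Y),
    piece_le_segK ψ 𝒳 𝒴 e (P_mem_piece 𝒜 ℬ ψ 𝒳 𝒴 e _)⟩
  map_zero' := Subtype.ext (map_zero _)
  map_add' p q := Subtype.ext (map_add _ _ _)

theorem isInternal_segGr : DirectSum.IsInternal (segGr 𝒜 ℬ 𝒯 ψ hT 𝒳 𝒴) := by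
  refine isInternal_of_proj (segGr 𝒜 ℬ 𝒯 ψ hT 𝒳 𝒴) (segProj 𝒜 ℬ 𝒯 ψ hT 𝒳 𝒴) ?_ ?_ ?_
  · intro e v hv
    exact Subtype.ext (P_of_mem_same 𝒜 ℬ ψ 𝒳 𝒴 hv)
  · intro e e' v hne hv
    exact Subtype.ext (P_of_mem_ne 𝒜 ℬ ψ 𝒳 𝒴 hne hv)
  · intro v
    obtain ⟨z, hz⟩ := v
    have hz' : z ∈ segK ψ 𝒳 𝒴 := hz
    refine Submodule.iSup_induction' (fun e => piece ψ 𝒳 𝒴 e)
      (motive := fun z hz => (⟨z, hz⟩ : SegMod 𝒜 ℬ 𝒯 ψ hT 𝒳 𝒴) ∈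
        ⨆ e, segGr 𝒜 ℬ 𝒯 ψ hT 𝒳 𝒴 e) ?_ ?_ ?_ hz'
    · intro e w hw
      exact AddSubgroup.mem_iSup_of_mem e hw
    · exact zero_mem _
    · intro x y hx hy h1 h2
      exact add_mem h1 h2

instance instDecSegGr : DirectSum.Decomposition (segGr 𝒜 ℬ 𝒯 ψ hT 𝒳 𝒴) :=
  (isInternal_segGr 𝒜 ℬ 𝒯 ψ hT 𝒳 𝒴).chooseDecomposition

instance instGsmulSegGr : SetLike.GradedSMul 𝒯 (segGr 𝒜 ℬ 𝒯 ψ hT 𝒳 𝒴) where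
  smul_mem := by
    intro a e t p ht hp
    exact smul_mem_piece 𝒜 ℬ 𝒯 ψ hT 𝒳 𝒴 ht hp

/-- the structure map `SegMod → X ⊗ Y` -/
def segPhi : SegMod 𝒜 ℬ 𝒯 ψ hT 𝒳 𝒴 →ₗ[k] X ⊗[k] Y :=
  (ofTP ψ X Y).toLinearMap.comp ((segT 𝒜 ℬ 𝒯 ψ hT 𝒳 𝒴).subtype.restrictScalars k)

theorem segPhi_apply (p : SegMod 𝒜 ℬ 𝒯 ψ hT 𝒳 𝒴) :
    segPhi 𝒜 ℬ 𝒯 ψ hT 𝒳 𝒴 p = ofTP ψ X Y (p : TP ψ X Y) := rfl

/-- the Segre product module is a Segre product -/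
theorem isSegreMod_segMod :
    GrSeg.IsSegreMod ψ 𝒳 𝒴 (segGr 𝒜 ℬ 𝒯 ψ hT 𝒳 𝒴) (segPhi 𝒜 ℬ 𝒯 ψ hT 𝒳 𝒴) where
  injective := by
    intro p q h
    exact Subtype.ext (ofTP_injective ψ X Y h)
  image_piece := by
    intro e
    ext z
    constructor
    · rintro ⟨p, hp, rfl⟩
      exact hp
    · intro hz
      have h1 : toTP ψ X Y z ∈ piece ψ 𝒳 𝒴 e := hz
      exact ⟨⟨toTP ψ X Y z, piece_le_segK ψ 𝒳 𝒴 e h1⟩, h1, rfl⟩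
  map_smul := by
    intro t p
    exact ofTP_smul ψ X Y t (p : TP ψ X Y)

end SegMod

end Groth.Agent.Lib.Helper8.Seg
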