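import Groth.Agent.Lib.Helper8GrModO
import Groth.Agent.Lib.Helper8Seg39
import Groth.Agent.Lib.Helper8Seg22

/-!
# `H^q_{T_+}(M # N) ≅ H^q_m(M) # N` when a homogeneous element of positive degree acts bijectively
on `N` (helper8)
-/

set_option autoImplicit false
set_option linter.unusedSectionVars false
set_option linter.style.haveILetI false
universe u
open TensorProduct DirectSum

noncomputable section

namespace Groth.Agent.Lib.Helper8.GrMod

open Groth.Agent.Lib.Helper8.Seg (TP toTP ofTP ofTP_smul piece mem_piece tmul_mem_piece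
  piece_induction P P_of_mem_same P_of_mem_ne smul_eq_tpMap tpMap_toTP_tmul gamRes mulH mulE cpxE
  res_d_d iotaH iotaH_mem iotaH_injective iotaH_surjective smul_iotaH' augInv augInv_mem
  augInv_injective exists_augInv augInv_mulE exists_cross0 Hcomp_eq_bot_of_bijective
  isInternal_Hgr_mod gradedSMul_Hgr tpMap)
open Groth.Agent.Lib.Helper8.Kun Groth.Agent.Lib.Helper8.Kun.Cpx

section Glue

variable {k : Type u} [Field k] {R S T : Type u} [CommRing R] [CommRing S] [CommRing T]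
  [Algebra k R] [Algebra k S] [Algebra k T]
variable {𝒜 : ℤ → Submodule k R} [GradedAlgebra 𝒜] {ℬ : ℤ → Submodule k S} [GradedAlgebra ℬ]
  (𝒯 : ℤ → Submodule k T) [GradedAlgebra 𝒯] (ψ : T →ₐ[k] R ⊗[k] S)
  (hT : GrSeg.IsSegreRing 𝒜 ℬ 𝒯 ψ)
variable {H : Type u} [AddCommGroup H] [Module T H]
  (ℋ : ℤ → AddSubgroup H) [DirectSum.Decomposition ℋ]
  {W : Type u} [AddCommGroup W] [Module T W]
  (V : ℤ → Type u) [∀ d, AddCommGroup (V d)]
  (Ξ : ∀ d, V d →+ H) (F : ∀ d, V d →+ W)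
  (hΞi : ∀ d, Function.Injective (Ξ d)) (hΞm : ∀ d ζ, Ξ d ζ ∈ ℋ d)
  (hΞs : ∀ d y, y ∈ ℋ d → ∃ ζ, Ξ d ζ = y)

include hT hΞi hΞm hΞs in
/-- gluing degreewise maps into a `T`-linear map, for `T` a Segre product -/
theorem exists_glue
    (hcompat : ∀ (t : T) (j : ℤ) (a : R) (b : S), a ∈ 𝒜 j → b ∈ ℬ j → ψ t = a ⊗ₜ[k] b →
      ∀ (d : ℤ) (ζ : V d), ∃ ζ' : V (j + d), t • Ξ d ζ = Ξ (j + d) ζ' ∧ t • F d ζ = F (j + d) ζ') :
    ∃ φ : H →ₗ[T] W, ∀ d ζ, φ (Ξ d ζ) = F d ζ := by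
  classical
  let K : ∀ d, V d ≃+ ↥(ℋ d) := fun d =>
    AddEquiv.ofBijective ((Ξ d).codRestrict (ℋ d) (hΞm d))
      ⟨fun x y h => hΞi d (congrArg Subtype.val h), fun y => by
        obtain ⟨ζ, hζ⟩ := hΞs d y.1 y.2
        exact ⟨ζ, Subtype.ext hζ⟩⟩
  let φ₀ : H →+ W :=
    (DirectSum.toAddMonoid fun d => (F d).comp (K d).symm.toAddMonoidHom).comp
      (DirectSum.decomposeAddEquiv ℋ).toAddMonoidHom
  have hφ₀ : ∀ d ζ, φ₀ (Ξ d ζ) = F d ζ := by
    intro d ζ
    show DirectSum.toAddMonoid _ (DirectSum.decompose ℋ (Ξ d ζ)) = _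
    rw [DirectSum.decompose_of_mem ℋ (hΞm d ζ), DirectSum.toAddMonoid_of]
    show F d ((K d).symm ⟨Ξ d ζ, hΞm d ζ⟩) = F d ζ
    have h1 : (⟨Ξ d ζ, hΞm d ζ⟩ : ↥(ℋ d)) = K d ζ := rfl
    rw [h1, AddEquiv.symm_apply_apply]
  have hpure : ∀ (t : T) (j : ℤ) (a : R) (b : S), a ∈ 𝒜 j → b ∈ ℬ j → ψ t = a ⊗ₜ[k] b →
      ∀ h : H, φ₀ (t • h) = t • φ₀ h := by
    intro t j a b ha hb ht h
    induction h using DirectSum.Decomposition.inductionOn ℋ with
    | zero => rw [smul_zero, map_zero, smul_zero]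
    | @homogeneous d y =>
      obtain ⟨ζ, hζ⟩ := hΞs d y.1 y.2
      obtain ⟨ζ', h1, h2⟩ := hcompat t j a b ha hb ht d ζ
      rw [← hζ, h1, hφ₀, hφ₀, h2]
    | add h h' hh hh' => rw [smul_add, map_add, map_add, smul_add, hh, hh']
  have hk : ∀ (c : k) (h : H), φ₀ (algebraMap k T c • h) = algebraMap k T c • φ₀ h := by
    intro c h
    refine hpure (algebraMap k T c) 0 (algebraMap k R c) 1 (SetLike.algebraMap_mem_graded 𝒜 c)
      (SetLike.GradedOne.one_mem (A := ℬ)) ?_ h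
    rw [AlgHom.commutes, Algebra.TensorProduct.algebraMap_apply]
  let 𝔖 : Submodule k T :=
    { carrier := {t | ∀ h : H, φ₀ (t • h) = t • φ₀ h}
      zero_mem' := fun h => by rw [zero_smul, zero_smul, map_zero]
      add_mem' := fun {t t'} ht ht' h => by rw [add_smul, add_smul, map_add, ht h, ht' h]
      smul_mem' := fun c t ht h => by
        rw [Algebra.smul_def, mul_smul, mul_smul, hk, ht h] }
  have hpiece : ∀ j, 𝒯 j ≤ 𝔖 := by
    intro j
    have h1 : (𝒯 j).map ψ.toLinearMap ≤ 𝔖.map ψ.toLinearMap := by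
      rw [hT.2 j]
      apply Submodule.span_le.mpr
      rintro _ ⟨a, ha, b, hb, rfl⟩
      have h2 : a ⊗ₜ[k] b ∈ (𝒯 j).map ψ.toLinearMap := by
        rw [hT.2 j]
        exact Submodule.subset_span ⟨a, ha, b, hb, rfl⟩
      obtain ⟨t, _, ht⟩ := h2
      exact ⟨t, fun h => hpure t j a b ha hb ht h, ht⟩
    exact (Submodule.map_le_map_iff_of_injective (f := ψ.toLinearMap) hT.1 _ _).mp h1
  have hall : ∀ t : T, t ∈ 𝔖 := by
    intro t
    induction t using DirectSum.Decomposition.inductionOn 𝒯 with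
    | zero => exact 𝔖.zero_mem
    | @homogeneous j y => exact hpiece j y.2
    | add t t' ht ht' => exact 𝔖.add_mem ht ht'
  exact ⟨{ toFun := φ₀
           map_add' := map_add φ₀
           map_smul' := fun t h => hall t h }, hφ₀⟩

include hΞs in
/-- injectivity of a glued map -/
theorem glue_injective (φ : H →+ W) (hφ : ∀ d ζ, φ (Ξ d ζ) = F d ζ)
    (hFi : ∀ d, Function.Injective (F d)) (Pr : ℤ → W →+ W)
    (hP1 : ∀ d ζ, Pr d (F d ζ) = F d ζ) (hP2 : ∀ d e ζ, d ≠ e → Pr e (F d ζ) = 0) :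
    Function.Injective φ := by
  classical
  have key : ∀ (h : H) (e : ℤ),
      Pr e (φ h) = φ ((DirectSum.decompose ℋ h e : ↥(ℋ e)) : H) := by
    intro h e
    induction h using DirectSum.Decomposition.inductionOn ℋ with
    | zero =>
      rw [map_zero, map_zero, DirectSum.decompose_zero, DirectSum.zero_apply,
        ZeroMemClass.coe_zero, map_zero]
    | @homogeneous d y =>
      obtain ⟨ζ, hζ⟩ := hΞs d y.1 y.2
      by_cases hde : d = e
      · subst hde
        rw [DirectSum.decompose_of_mem_same ℋ y.2, ← hζ, hφ, hP1]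
      · rw [DirectSum.decompose_of_mem_ne ℋ y.2 hde, map_zero, ← hζ, hφ, hP2 d e ζ hde]
    | add h h' hh hh' =>
      rw [map_add, map_add, hh, hh', DirectSum.decompose_add, DirectSum.add_apply,
        AddMemClass.coe_add, map_add]
  rw [injective_iff_map_eq_zero]
  intro h hh
  have he : ∀ e, ((DirectSum.decompose ℋ h e : ↥(ℋ e)) : H) = 0 := by
    intro e
    have h1 := key h e
    rw [hh, map_zero] at h1
    obtain ⟨ζ, hζ⟩ := hΞs e _ (DirectSum.decompose ℋ h e).2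
    rw [← hζ, hφ] at h1
    have h2 : ζ = 0 := hFi e (h1.symm.trans (map_zero _).symm)
    rw [← hζ, h2, map_zero]
  have h0 : DirectSum.decompose ℋ h = 0 :=
    DFinsupp.ext fun e => Subtype.ext (by rw [he e]; rfl)
  exact (DirectSum.decompose ℋ).injective (h0.trans (DirectSum.decompose_zero ℋ).symm)

end Glue

end Groth.Agent.Lib.Helper8.GrMod
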