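import Groth.Agent.Lib.Helper8GrModP

/-!
# `H^q_{T_+}(M # N) ≅ H^q_m(M) # N` when a homogeneous element of positive degree acts bijectively
on `N`: the main statement (helper8)
-/

set_option autoImplicit false
set_option linter.unusedSectionVars false
set_option linter.style.haveILetI false
universe u
open TensorProduct DirectSum

noncomputable section

namespace Groth.Agent.Lib.Helper8.GrMod

open Groth.Agent.Lib.Helper8.Seg (TP toTP ofTP ofTP_smul piece mem_piece tmul_mem_piece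
  piece_induction P P_of_mem_same P_of_mem_ne smul_eq_tpMap tpMap_toTP_tmul gamRes mulH mulE cpxE
  res_d_d iotaH iotaH_mem iotaH_injective iotaH_surjective smul_iotaH' augInv augInv_mem
  augInv_injective exists_augInv augInv_mulE exists_cross0 Hcomp_eq_bot_of_bijective
  isInternal_Hgr_mod gradedSMul_Hgr tpMap)
open Groth.Agent.Lib.Helper8.Kun Groth.Agent.Lib.Helper8.Kun.Cpx

section Main

variable {k : Type u} [Field k] {R S T : Type u} [CommRing R] [CommRing S] [CommRing T]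
  [Algebra k R] [Algebra k S] [Algebra k T]
variable {𝒜 : ℤ → Submodule k R} [GradedAlgebra 𝒜] {ℬ : ℤ → Submodule k S} [GradedAlgebra ℬ]
  (𝒯 : ℤ → Submodule k T) [GradedAlgebra 𝒯] (ψ : T →ₐ[k] R ⊗[k] S)
  (hT : GrSeg.IsSegreRing 𝒜 ℬ 𝒯 ψ)

include hT in
theorem exists_isSegreMod_H
    (hposR : ∀ n : ℤ, n < 0 → 𝒜 n = ⊥) (h0R : 𝒜 0 = Submodule.span k {(1 : R)})
    [Algebra.FiniteType k R]
    (hposS : ∀ n : ℤ, n < 0 → ℬ n = ⊥) (h0S : ℬ 0 = Submodule.span k {(1 : S)})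
    [Algebra.FiniteType k S]
    (mR : HomogeneousIdeal 𝒜)
    (hmR : mR.toIdeal = Ideal.span (⋃ n ∈ Set.Ioi (0 : ℤ), (𝒜 n : Set R)))
    (mT : HomogeneousIdeal 𝒯)
    (hmT : mT.toIdeal = Ideal.span (⋃ n ∈ Set.Ioi (0 : ℤ), (𝒯 n : Set T)))
    {M : Type u} [AddCommGroup M] [Module R M] [Module k M] [IsScalarTower k R M]
    (ℳ : ℤ → AddSubgroup M) [DirectSum.Decomposition ℳ] [SetLike.GradedSMul 𝒜 ℳ]
    (EM : GrLC.StarInjRes 𝒜 ℳ)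
    {N : Type u} [AddCommGroup N] [Module S N] [Module k N] [IsScalarTower k S N]
    (𝒩 : ℤ → AddSubgroup N) [DirectSum.Decomposition 𝒩] [SetLike.GradedSMul ℬ 𝒩]
    (e : ℕ) (he : 0 < e) (g : S) (hg : g ∈ ℬ (e : ℤ))
    (hgN : Function.Bijective (fun y : N => g • y))
    {P : Type u} [AddCommGroup P] [Module T P] [Module k P] [IsScalarTower k T P]
    (𝒬 : ℤ → AddSubgroup P) [DirectSum.Decomposition 𝒬] [SetLike.GradedSMul 𝒯 𝒬]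
    (φ : P →ₗ[k] M ⊗[k] N) (hP : GrSeg.IsSegreMod ψ ℳ 𝒩 𝒬 φ) (EP : GrLC.StarInjRes 𝒯 𝒬)
    (q : ℕ) [Module k (EM.H mR q)] [IsScalarTower k R (EM.H mR q)] [Module k (EP.H mT q)]
    [IsScalarTower k T (EP.H mT q)] [DirectSum.Decomposition (EP.Hgr mT q)] :
    ∃ φ' : EP.H mT q →ₗ[k] (EM.H mR q) ⊗[k] N,
      GrSeg.IsSegreMod ψ (EM.Hgr mR q) 𝒩 (EP.Hgr mT q) φ' := by
  classical
  haveI : IsNoetherianRing R := Algebra.FiniteType.isNoetherianRing k R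
  haveI : IsNoetherianRing S := Algebra.FiniteType.isNoetherianRing k S
  obtain ⟨EN⟩ := Groth.Agent.Lib.Helper29GrConv2.exists_res ℬ (ℳ := 𝒩)
  have hmS := Groth.Agent.Lib.Helper8.GrCMk.irr_toIdeal ℬ
  have hN : ∀ (d : ℤ) (i : ℕ), EN.Hcomp (Groth.Agent.Lib.Helper8.GrCMk.irr ℬ) i d = ⊥ :=
    fun d i => Hcomp_eq_bot_of_bijective 𝒩 EN (Groth.Agent.Lib.Helper8.GrCMk.irr ℬ) hmS e he g hg
      hgN i d
  obtain ⟨Ξ, hΞi, hΞm, hΞs, hΞt⟩ := exists_cross0 𝒯 ψ hT hposR h0R hposS h0S mR hmR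
    (Groth.Agent.Lib.Helper8.GrCMk.irr ℬ) hmS mT hmT ℳ EM 𝒩 EN 𝒬 φ hP EP q hN
  letI decX : DirectSum.Decomposition (EM.Hgr mR q) :=
    (isInternal_Hgr_mod ℳ EM mR q).chooseDecomposition
  letI gsX : SetLike.GradedSMul 𝒜 (EM.Hgr mR q) := gradedSMul_Hgr ℳ EM mR q
  -- the maps into the tensor product
  let F : ∀ d : ℤ, ((gamRes ℳ EM mR d).cpx.H q ⊗[k]
      (cpxE EN.X EN.d EN.d_grHom (res_d_d 𝒩 EN) d).H 0) →ₗ[k] TP ψ (EM.H mR q) N := fun d =>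
    (toTP ψ (EM.H mR q) N).toLinearMap ∘ₗ
      TensorProduct.map (iotaK ℳ EM mR q d) (augInv 𝒩 EN d)
  have hF : ∀ d x η, F d (x ⊗ₜ[k] η) =
      toTP ψ (EM.H mR q) N (iotaH ℳ EM mR q d x ⊗ₜ[k] augInv 𝒩 EN d η) := fun d x η => rfl
  have hFi : ∀ d, Function.Injective (F d) := by
    intro d
    exact (toTP ψ (EM.H mR q) N).injective.comp
      (TensorProduct.map_injective_of_flat_flat _ _ (iotaH_injective ℳ EM mR q d)
        (augInv_injective 𝒩 EN d))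
  have hFm : ∀ d ζ, F d ζ ∈ piece ψ (EM.Hgr mR q) 𝒩 d := by
    intro d ζ
    induction ζ using TensorProduct.induction_on with
    | zero => rw [map_zero]; exact zero_mem _
    | tmul x η =>
      rw [hF]
      exact tmul_mem_piece ψ (EM.Hgr mR q) 𝒩 (iotaH_mem ℳ EM mR q d x) (augInv_mem 𝒩 EN d η)
    | add x y hx hy => rw [map_add]; exact add_mem hx hy
  have hFs : ∀ d z, z ∈ piece ψ (EM.Hgr mR q) 𝒩 d → ∃ ζ, F d ζ = z := by
    intro d z hz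
    refine piece_induction ψ (EM.Hgr mR q) 𝒩 (motive := fun z => ∃ ζ, F d ζ = z) hz ?_ ?_ ?_ ?_
    · intro x hx y hy
      obtain ⟨x', hx'⟩ := iotaH_surjective ℳ EM mR q d x hx
      obtain ⟨η, hη⟩ := exists_augInv 𝒩 EN d y hy
      exact ⟨x' ⊗ₜ[k] η, by rw [hF, hx', hη]⟩
    · exact ⟨0, map_zero _⟩
    · rintro z w ⟨ζ, rfl⟩ ⟨ζ', rfl⟩
      exact ⟨ζ + ζ', map_add _ _ _⟩
    · rintro c z ⟨ζ, rfl⟩
      exact ⟨c • ζ, map_smul _ _ _⟩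
  have hFt : ∀ (t : T) (j : ℤ) (a : R) (b : S) (ha : a ∈ 𝒜 j) (hb : b ∈ ℬ j),
      ψ t = a ⊗ₜ[k] b → ∀ d ζ, t • F d ζ = F (j + d)
        (TensorProduct.map (mulH ℳ EM mR a ha q d)
          (Hmap (mulE EN.X EN.d EN.d_grHom (res_d_d 𝒩 EN) b hb d) 0) ζ) := by
    intro t j a b ha hb ht d ζ
    rw [smul_eq_tpMap ψ ht]
    induction ζ using TensorProduct.induction_on with
    | zero => rw [map_zero, map_zero, map_zero, map_zero]
    | tmul x η =>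
      rw [hF, TensorProduct.map_tmul, hF, tpMap_toTP_tmul, ← smul_iotaH' ℳ EM mR ha q d x,
        augInv_mulE 𝒩 EN b hb d η]
      rfl
    | add x y hx hy => rw [map_add, map_add, map_add, map_add, hx, hy]
  -- gluing
  have hΞm' : ∀ d ζ, (Ξ d).toAddMonoidHom ζ ∈ EP.Hgr mT q d := hΞm
  have hΞs' : ∀ d y, y ∈ EP.Hgr mT q d → ∃ ζ, (Ξ d).toAddMonoidHom ζ = y := hΞs
  have hΞi' : ∀ d, Function.Injective ((Ξ d).toAddMonoidHom) := hΞi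
  obtain ⟨Φ, hΦ⟩ := exists_glue 𝒯 ψ hT (EP.Hgr mT q)
    (fun d => (gamRes ℳ EM mR d).cpx.H q ⊗[k] (cpxE EN.X EN.d EN.d_grHom (res_d_d 𝒩 EN) d).H 0)
    (fun d => (Ξ d).toAddMonoidHom) (fun d => (F d).toAddMonoidHom) hΞi' hΞm' hΞs'
    (fun t j a b ha hb ht d ζ => ⟨_, hΞt t j a b ha hb ht d ζ, hFt t j a b ha hb ht d ζ⟩)
  have hΦ' : ∀ d ζ, Φ (Ξ d ζ) = F d ζ := hΦ
  have hΦi : Function.Injective Φ :=
    glue_injective (EP.Hgr mT q)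
      (fun d => (gamRes ℳ EM mR d).cpx.H q ⊗[k] (cpxE EN.X EN.d EN.d_grHom (res_d_d 𝒩 EN) d).H 0)
      (fun d => (Ξ d).toAddMonoidHom) (fun d => (F d).toAddMonoidHom) hΞs' Φ.toAddMonoidHom hΦ
      hFi (fun e' => (Groth.Agent.Lib.Helper8.Seg.P 𝒜 ℬ ψ (EM.Hgr mR q) 𝒩 e').toAddMonoidHom)
      (fun d ζ => P_of_mem_same 𝒜 ℬ ψ (EM.Hgr mR q) 𝒩 (hFm d ζ))
      (fun d e' ζ hde => P_of_mem_ne 𝒜 ℬ ψ (EM.Hgr mR q) 𝒩 hde (hFm d ζ))
  refine ⟨(ofTP ψ (EM.H mR q) N).toLinearMap ∘ₗ (Φ.restrictScalars k), ?_, ?_, ?_⟩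
  · exact (ofTP ψ (EM.H mR q) N).injective.comp hΦi
  · intro n
    ext z
    constructor
    · rintro ⟨p, hp, rfl⟩
      obtain ⟨ζ, rfl⟩ := hΞs n p hp
      show ofTP ψ (EM.H mR q) N (Φ (Ξ n ζ)) ∈ GrSeg.segrePiece k (EM.Hgr mR q) 𝒩 n
      rw [hΦ']
      exact (mem_piece ψ (EM.Hgr mR q) 𝒩).mp (hFm n ζ)
    · intro hz
      have h1 : toTP ψ (EM.H mR q) N z ∈ piece ψ (EM.Hgr mR q) 𝒩 n := hz
      obtain ⟨ζ, hζ⟩ := hFs n _ h1
      refine ⟨Ξ n ζ, hΞm n ζ, ?_⟩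
      show ofTP ψ (EM.H mR q) N (Φ (Ξ n ζ)) = z
      rw [hΦ', hζ]
      rfl
  · intro t p
    show ofTP ψ (EM.H mR q) N (Φ (t • p)) = _
    rw [map_smul]
    exact ofTP_smul ψ (EM.H mR q) N t (Φ p)

end Main

end Groth.Agent.Lib.Helper8.GrMod
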