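import Groth.Agent.Lib.Helper8GrCanonDeg
import Groth.Agent.Lib.Helper29GrEss
import Groth.Agent.Lib.Helper29GrShift
import Groth.Agent.Lib.Helper29GrSub

/-!
# The degree-zero coefficient functional on a *injective hull of the residue field (helper8)

For a positively graded ring `R` over a field `k = R_0` with `m = R_+` and a *injective hull
`e : R/m → E'`: the piece `E'_0` is `e(k)`, giving a `k`-linear functional `eps : E' → k`, and
homogeneous maps `C → E'` of degree `d` are the same as functionals on `C_{-d}` (graded Matlis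
duality in pairing form).
-/

set_option autoImplicit false
set_option linter.style.haveILetI false
set_option linter.unusedSectionVars false
universe u
open DirectSum

noncomputable section

namespace Groth.Agent.Lib.Helper8.GrPairing

open Groth.Agent.Lib.Helper29GrEss Groth.Agent.Lib.Helper29GrHom Groth.Agent.Lib.Helper8.GrCanonDeg

variable {R : Type u} [CommRing R] [IsNoetherianRing R] (𝒜 : ℤ → AddSubgroup R) [GradedRing 𝒜]
  (hpos : ∀ n : ℤ, n < 0 → 𝒜 n = ⊥) (h0 : IsField (GrLC.deg0 𝒜))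
  (m : HomogeneousIdeal 𝒜) (hmne : m.toIdeal ≠ ⊤)
  (hmsp : m.toIdeal = Ideal.span (⋃ n ∈ Set.Ioi (0 : ℤ), (𝒜 n : Set R)))
  {E' : Type u} [AddCommGroup E'] [Module R E'] (𝓔 : ℤ → AddSubgroup E')
  [DirectSum.Decomposition 𝓔] [SetLike.GradedSMul 𝒜 𝓔]
  (e : (R ⧸ m.toIdeal) →ₗ[R] E') (he : GrLC.IsStarInjHull 𝒜 (GrLC.quotGr 𝒜 m) 𝓔 e)

include h0 hmne in
theorem eq_zero_of_mem_of_mem {t : R} (ht : t ∈ 𝒜 0) (htm : t ∈ m.toIdeal) : t = 0 := by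
  by_contra hne
  have hne' : (⟨t, ht⟩ : GrLC.deg0 𝒜) ≠ 0 := fun h => hne (congrArg Subtype.val h)
  obtain ⟨s, hs⟩ := h0.mul_inv_cancel hne'
  have h1 : t * (s : R) = 1 := congrArg Subtype.val hs
  apply hmne
  rw [Ideal.eq_top_iff_one, ← h1]
  exact m.toIdeal.mul_mem_right _ htm

/-- The embedding of `k` into `E'`. -/
def tau : ↥(GrLC.deg0 𝒜) →ₗ[↥(GrLC.deg0 𝒜)] E' where
  toFun t := e (Ideal.Quotient.mk m.toIdeal (t : R))
  map_add' s t := by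
    rw [Subring.coe_add, map_add, map_add]
  map_smul' s t := by
    show e (Ideal.Quotient.mk m.toIdeal ((s : R) * (t : R))) =
      (s : R) • e (Ideal.Quotient.mk m.toIdeal (t : R))
    rw [← map_smul]
    rfl

theorem tau_apply (t : ↥(GrLC.deg0 𝒜)) :
    tau 𝒜 m e t = e (Ideal.Quotient.mk m.toIdeal (t : R)) := rfl

include he in
theorem tau_mem (t : ↥(GrLC.deg0 𝒜)) : tau 𝒜 m e t ∈ 𝓔 0 :=
  he.grHom 0 _ ⟨(t : R), t.2, rfl⟩

include h0 hmne he in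
theorem tau_injective : Function.Injective (tau 𝒜 m e) := by
  rw [injective_iff_map_eq_zero]
  intro t ht
  have h1 : Ideal.Quotient.mk m.toIdeal (t : R) = 0 := he.injective (ht.trans (map_zero e).symm)
  rw [Ideal.Quotient.eq_zero_iff_mem] at h1
  exact Subtype.ext (eq_zero_of_mem_of_mem 𝒜 h0 m hmne t.2 h1)

theorem smul_tau_of_mem {r : R} (hr : r ∈ m.toIdeal) (t : ↥(GrLC.deg0 𝒜)) :
    r • tau 𝒜 m e t = 0 := by
  rw [tau_apply, ← map_smul]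
  have : r • Ideal.Quotient.mk m.toIdeal (t : R) = 0 := by
    show Ideal.Quotient.mk m.toIdeal (r * (t : R)) = 0
    rw [Ideal.Quotient.eq_zero_iff_mem]
    exact m.toIdeal.mul_mem_right _ hr
  rw [this, map_zero]

include hpos hmsp in
theorem exists_tau_eq (c : R ⧸ m.toIdeal) : ∃ t : ↥(GrLC.deg0 𝒜), tau 𝒜 m e t = e c := by
  classical
  obtain ⟨c, rfl⟩ := Ideal.Quotient.mk_surjective c
  have h1 : c - ((decompose 𝒜 c) 0 : R) ∈ m.toIdeal := by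
    apply Groth.Agent.Lib.Helper8.GrField.mem_of_component_zero 𝒜 hpos m hmsp
    rw [DirectSum.decompose_sub, DirectSum.sub_apply, AddSubgroup.coe_sub,
      DirectSum.decompose_coe, DirectSum.of_eq_same, sub_self]
  have h2 : Ideal.Quotient.mk m.toIdeal c =
      Ideal.Quotient.mk m.toIdeal ((decompose 𝒜 c) 0 : R) :=
    Ideal.Quotient.eq.mpr h1
  refine ⟨⟨((decompose 𝒜 c) 0 : R), SetLike.coe_mem _⟩, ?_⟩
  rw [tau_apply, h2]

include hpos hmsp he in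
theorem range_isHomogeneous : (LinearMap.range e).IsHomogeneous 𝓔 := by
  rintro i _ ⟨c, rfl⟩
  have h0' : e c ∈ 𝓔 0 := e_mem_zero 𝒜 hpos m hmsp 𝓔 e he c
  by_cases hi : (0 : ℤ) = i
  · subst hi
    rw [DirectSum.decompose_of_mem_same 𝓔 h0']
    exact LinearMap.mem_range_self e c
  · rw [DirectSum.decompose_of_mem_ne 𝓔 h0' hi]
    exact zero_mem _

include hpos hmsp he in
/-- A nonzero homogeneous element of `E'` is carried into `e(k) ∖ 0` by a homogeneous scalar of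
complementary degree. -/
theorem exists_smul_tau {j : ℤ} {x : E'} (hx : x ∈ 𝓔 j) (hx0 : x ≠ 0) :
    ∃ (r : R) (t : ↥(GrLC.deg0 𝒜)), r ∈ 𝒜 (-j) ∧ r • x = tau 𝒜 m e t ∧ r • x ≠ 0 := by
  classical
  obtain ⟨h, r, hr, hrx0, hrxN⟩ := exists_smul_mem_of_homogeneous 𝒜 𝓔 (LinearMap.range e)
    (range_isHomogeneous 𝒜 hpos m hmsp 𝓔 e he) he.essential hx hx0
  obtain ⟨c, hc⟩ := hrxN
  have h1 : r • x ∈ 𝓔 (h + j) := SetLike.GradedSMul.smul_mem (A := 𝒜) (B := 𝓔) hr hx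
  have h2 : r • x ∈ 𝓔 0 := hc ▸ e_mem_zero 𝒜 hpos m hmsp 𝓔 e he c
  have hh : h + j = 0 := by
    by_contra hne
    apply hrx0
    have := DirectSum.decompose_of_mem_ne 𝓔 h1 hne
    rw [DirectSum.decompose_of_mem_same 𝓔 h2] at this
    exact this
  obtain ⟨t, ht⟩ := exists_tau_eq 𝒜 hpos m hmsp e c
  have hh' : h = -j := by omega
  subst hh'
  exact ⟨r, t, hr, by rw [ht, hc], hrx0⟩

include hpos h0 hmsp he in
theorem tau_surjective {x : E'} (hx : x ∈ 𝓔 0) : ∃ t : ↥(GrLC.deg0 𝒜), tau 𝒜 m e t = x := by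
  by_cases hx0 : x = 0
  · exact ⟨0, by rw [map_zero, hx0]⟩
  obtain ⟨r, t, hr, hrx, hrx0⟩ := exists_smul_tau 𝒜 hpos m hmsp 𝓔 e he hx hx0
  rw [neg_zero] at hr
  have hr0 : (⟨r, hr⟩ : GrLC.deg0 𝒜) ≠ 0 := by
    intro h
    apply hrx0
    have : r = 0 := congrArg Subtype.val h
    rw [this, zero_smul]
  obtain ⟨s, hs⟩ := h0.mul_inv_cancel hr0
  refine ⟨s * t, ?_⟩
  rw [← smul_eq_mul, map_smul, ← hrx]
  show (s : R) • (r • x) = x
  have h1 : r * (s : R) = 1 := congrArg Subtype.val hs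
  rw [smul_smul, mul_comm, h1, one_smul]

/-- `E'_0 ≅ k`. -/
def tauEquiv : ↥(GrLC.deg0 𝒜) ≃ₗ[↥(GrLC.deg0 𝒜)] ↥(GrLC.comp 𝒜 𝓔 0) :=
  LinearEquiv.ofBijective
    ((tau 𝒜 m e).codRestrict (GrLC.comp 𝒜 𝓔 0) (tau_mem 𝒜 m 𝓔 e he))
    ⟨fun s t h => tau_injective 𝒜 h0 m hmne 𝓔 e he (congrArg Subtype.val h),
      fun x => by
        obtain ⟨t, ht⟩ := tau_surjective 𝒜 hpos h0 m hmsp 𝓔 e he x.2
        exact ⟨t, Subtype.ext ht⟩⟩

/-- The degree-zero component, as a `k`-linear map. -/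
def proj0 : E' →ₗ[↥(GrLC.deg0 𝒜)] ↥(GrLC.comp 𝒜 𝓔 0) where
  toFun x := ⟨((decompose 𝓔 x) 0 : E'), SetLike.coe_mem _⟩
  map_add' x y := Subtype.ext (by
    show ((decompose 𝓔 (x + y)) 0 : E') = ((decompose 𝓔 x) 0 : E') + ((decompose 𝓔 y) 0 : E')
    rw [DirectSum.decompose_add, DirectSum.add_apply, AddSubgroup.coe_add])
  map_smul' s x := Subtype.ext (by
    show ((decompose 𝓔 ((s : R) • x)) 0 : E') = (s : R) • ((decompose 𝓔 x) 0 : E')
    rw [decompose_smul_of_mem 𝒜 𝓔 s.2 x 0, sub_zero])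

/-- The degree-zero coefficient functional. -/
def eps : E' →ₗ[↥(GrLC.deg0 𝒜)] ↥(GrLC.deg0 𝒜) :=
  (tauEquiv 𝒜 hpos h0 m hmne hmsp 𝓔 e he).symm.toLinearMap ∘ₗ proj0 𝒜 𝓔

theorem eps_of_mem_ne {j : ℤ} (hj : j ≠ 0) {x : E'} (hx : x ∈ 𝓔 j) :
    eps 𝒜 hpos h0 m hmne hmsp 𝓔 e he x = 0 := by
  have : proj0 𝒜 𝓔 x = 0 := Subtype.ext (DirectSum.decompose_of_mem_ne 𝓔 hx hj)
  show (tauEquiv 𝒜 hpos h0 m hmne hmsp 𝓔 e he).symm (proj0 𝒜 𝓔 x) = 0
  rw [this, map_zero]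

theorem tau_eps {x : E'} (hx : x ∈ 𝓔 0) :
    tau 𝒜 m e (eps 𝒜 hpos h0 m hmne hmsp 𝓔 e he x) = x := by
  have h1 : proj0 𝒜 𝓔 x = ⟨x, hx⟩ := Subtype.ext (DirectSum.decompose_of_mem_same 𝓔 hx)
  have h2 := (tauEquiv 𝒜 hpos h0 m hmne hmsp 𝓔 e he).apply_symm_apply ⟨x, hx⟩
  have h3 : eps 𝒜 hpos h0 m hmne hmsp 𝓔 e he x =
      (tauEquiv 𝒜 hpos h0 m hmne hmsp 𝓔 e he).symm ⟨x, hx⟩ := by
    show (tauEquiv 𝒜 hpos h0 m hmne hmsp 𝓔 e he).symm (proj0 𝒜 𝓔 x) = _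
    rw [h1]
  rw [h3]
  exact congrArg Subtype.val h2

theorem eps_tau (t : ↥(GrLC.deg0 𝒜)) :
    eps 𝒜 hpos h0 m hmne hmsp 𝓔 e he (tau 𝒜 m e t) = t := by
  apply tau_injective 𝒜 h0 m hmne 𝓔 e he
  exact tau_eps 𝒜 hpos h0 m hmne hmsp 𝓔 e he (tau_mem 𝒜 m 𝓔 e he t)

theorem eq_zero_of_eps_eq_zero {x : E'} (hx : x ∈ 𝓔 0)
    (h : eps 𝒜 hpos h0 m hmne hmsp 𝓔 e he x = 0) : x = 0 := by
  rw [← tau_eps 𝒜 hpos h0 m hmne hmsp 𝓔 e he hx, h, map_zero]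

section Ext

open Groth.Agent.Lib.Helper29GrShift

variable {A B J : Type u} [AddCommGroup A] [Module R A] [AddCommGroup B] [Module R B]
  [AddCommGroup J] [Module R J]
  (𝓐 : ℤ → AddSubgroup A) [DirectSum.Decomposition 𝓐] [SetLike.GradedSMul 𝒜 𝓐]
  (𝓑 : ℤ → AddSubgroup B) [DirectSum.Decomposition 𝓑] [SetLike.GradedSMul 𝒜 𝓑]
  (𝓙 : ℤ → AddSubgroup J) [DirectSum.Decomposition 𝓙] [SetLike.GradedSMul 𝒜 𝓙]

omit [IsNoetherianRing R] in
/-- A *injective module has the extension property against maps homogeneous of any degree,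
with a homogeneous extension. -/
theorem exists_extension_deg (hI : GrLC.IsStarInj 𝒜 𝓙) (f : A →ₗ[R] B)
    (hf : GrLC.IsGrHom 𝓐 𝓑 f) (hinj : Function.Injective f) (φ : A →ₗ[R] J) (d : ℤ)
    (hφ : GrLC.IsGrHomDeg 𝓐 𝓙 φ d) :
    ∃ ψ : B →ₗ[R] J, GrLC.IsGrHomDeg 𝓑 𝓙 ψ d ∧ ψ ∘ₗ f = φ := by
  let decA : DirectSum.Decomposition (shiftGr 𝓐 (-d)) := shiftDecomposition 𝓐 (-d)
  have gsA : SetLike.GradedSMul 𝒜 (shiftGr 𝓐 (-d)) := shift_gradedSMul 𝒜 𝓐 (-d)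
  let decB : DirectSum.Decomposition (shiftGr 𝓑 (-d)) := shiftDecomposition 𝓑 (-d)
  have gsB : SetLike.GradedSMul 𝒜 (shiftGr 𝓑 (-d)) := shift_gradedSMul 𝒜 𝓑 (-d)
  obtain ⟨ψ, hψhom, hψ⟩ := hI (GrLC.GMod.of 𝒜 A (shiftGr 𝓐 (-d)))
    (GrLC.GMod.of 𝒜 B (shiftGr 𝓑 (-d))) f
    (fun j m hm => hf _ m hm) hinj φ
    (fun j m hm => by
      have := hφ (j + -d) m hm
      rwa [neg_add_cancel_right] at this)
  refine ⟨ψ, ?_, hψ⟩
  intro g b hb
  have hb' : b ∈ shiftGr 𝓑 (-d) (g + d) := by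
    show b ∈ 𝓑 (g + d + -d)
    rw [add_neg_cancel_right]
    exact hb
  exact hψhom (g + d) b hb'

end Ext

section Hom

variable {C : Type u} [AddCommGroup C] [Module R C] (𝒞 : ℤ → AddSubgroup C)
  [DirectSum.Decomposition 𝒞] [SetLike.GradedSMul 𝒜 𝒞]

/-- A homogeneous map into `E'` is determined by its coefficient functional. -/
theorem eq_zero_of_eps_comp (f : C →ₗ[R] E') (d : ℤ) (hf : GrLC.IsGrHomDeg 𝒞 𝓔 f d)
    (h : ∀ c ∈ 𝒞 (-d), eps 𝒜 hpos h0 m hmne hmsp 𝓔 e he (f c) = 0) : f = 0 := by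
  apply LinearMap.ext
  intro c
  rw [LinearMap.zero_apply]
  induction c using DirectSum.Decomposition.inductionOn 𝒞 with
  | zero => rw [map_zero]
  | @homogeneous i c =>
    by_contra hne
    have hy : f c ∈ 𝓔 (i + d) := hf i c c.2
    obtain ⟨r, t, hr, hrx, hrx0⟩ := exists_smul_tau 𝒜 hpos m hmsp 𝓔 e he hy hne
    have hrc : r • (c : C) ∈ 𝒞 (-d) := by
      have := SetLike.GradedSMul.smul_mem (A := 𝒜) (B := 𝒞) hr c.2
      rw [vadd_eq_add] at this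
      have e1 : -(i + d) + i = -d := by ring
      rw [e1] at this
      exact this
    have h1 := h _ hrc
    rw [map_smul] at h1
    have h2 : r • f c ∈ 𝓔 0 := hrx ▸ tau_mem 𝒜 m 𝓔 e he t
    exact hrx0 (eq_zero_of_eps_eq_zero 𝒜 hpos h0 m hmne hmsp 𝓔 e he h2 h1)
  | add a b ha hb => rw [map_add, ha, hb, add_zero]

/-- The truncation `C_{≥ i}`. -/
def trunc (i : ℤ) : Submodule R C where
  carrier := {c | ∀ j < i, ((decompose 𝒞 c) j : C) = 0}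
  zero_mem' := by
    intro j _
    rw [DirectSum.decompose_zero]
    rfl
  add_mem' := by
    intro a b ha hb j hj
    rw [DirectSum.decompose_add, DirectSum.add_apply, AddSubgroup.coe_add, ha j hj, hb j hj,
      add_zero]
  smul_mem' := by
    intro r c hc j hj
    induction r using DirectSum.Decomposition.inductionOn 𝒜 with
    | zero =>
      rw [zero_smul, DirectSum.decompose_zero]
      rfl
    | @homogeneous g r =>
      rw [decompose_smul_of_mem 𝒜 𝒞 r.2 c j]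
      by_cases hg : g < 0
      · have hr0 : (r : R) ∈ (⊥ : AddSubgroup R) := (hpos g hg) ▸ r.2
        rw [(AddSubgroup.mem_bot).mp hr0, zero_smul]
      · rw [hc (j - g) (by omega), smul_zero]
    | add a b ha hb =>
      rw [add_smul, DirectSum.decompose_add, DirectSum.add_apply, AddSubgroup.coe_add, ha, hb,
        add_zero]

theorem mem_trunc {i : ℤ} {c : C} :
    c ∈ trunc 𝒜 hpos 𝒞 i ↔ ∀ j < i, ((decompose 𝒞 c) j : C) = 0 := Iff.rfl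

theorem mem_trunc_of_mem {i g : ℤ} (hig : i ≤ g) {c : C} (hc : c ∈ 𝒞 g) :
    c ∈ trunc 𝒜 hpos 𝒞 i := by
  intro j hj
  exact DirectSum.decompose_of_mem_ne 𝒞 hc (by omega)

theorem trunc_isHomogeneous (i : ℤ) : (trunc 𝒜 hpos 𝒞 i).IsHomogeneous 𝒞 := by
  intro g c hc j hj
  by_cases hgj : g = j
  · subst hgj
    rw [DirectSum.decompose_of_mem_same 𝒞 (SetLike.coe_mem _)]
    exact hc g hj
  · exact DirectSum.decompose_of_mem_ne 𝒞 (SetLike.coe_mem _) hgj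

variable (i : ℤ) (lam : ↥(GrLC.comp 𝒜 𝒞 i) →ₗ[↥(GrLC.deg0 𝒜)] ↥(GrLC.deg0 𝒜))

/-- The underlying function of the truncated functional. -/
def gamFun (c : C) : E' :=
  tau 𝒜 m e (lam ⟨((decompose 𝒞 c) i : C), SetLike.coe_mem _⟩)

theorem gamFun_add (a b : C) :
    gamFun 𝒜 m e 𝒞 i lam (a + b) = gamFun 𝒜 m e 𝒞 i lam a + gamFun 𝒜 m e 𝒞 i lam b := by
  unfold gamFun
  rw [← map_add, ← map_add]
  congr 2
  apply Subtype.ext
  show ((decompose 𝒞 (a + b)) i : C) = ((decompose 𝒞 a) i : C) + ((decompose 𝒞 b) i : C)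
  rw [DirectSum.decompose_add, DirectSum.add_apply, AddSubgroup.coe_add]

theorem gamFun_zero_of {c : C} (hc : ((decompose 𝒞 c) i : C) = 0) :
    gamFun 𝒜 m e 𝒞 i lam c = 0 := by
  unfold gamFun
  have : (⟨((decompose 𝒞 c) i : C), SetLike.coe_mem _⟩ : ↥(GrLC.comp 𝒜 𝒞 i)) = 0 :=
    Subtype.ext hc
  rw [this, map_zero, map_zero]

include hpos hmsp in
theorem gamFun_smul (r : R) {c : C} (hc : c ∈ trunc 𝒜 hpos 𝒞 i) :
    gamFun 𝒜 m e 𝒞 i lam (r • c) = r • gamFun 𝒜 m e 𝒞 i lam c := by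
  induction r using DirectSum.Decomposition.inductionOn 𝒜 with
  | zero =>
    rw [zero_smul, zero_smul]
    apply gamFun_zero_of
    rw [DirectSum.decompose_zero]
    rfl
  | @homogeneous g r =>
    have hdec := decompose_smul_of_mem 𝒜 𝒞 r.2 c i
    rcases lt_trichotomy g 0 with hg | hg | hg
    · have hr0 : (r : R) ∈ (⊥ : AddSubgroup R) := (hpos g hg) ▸ r.2
      rw [(AddSubgroup.mem_bot).mp hr0, zero_smul, zero_smul]
      apply gamFun_zero_of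
      rw [DirectSum.decompose_zero]
      rfl
    · subst hg
      rw [sub_zero] at hdec
      unfold gamFun
      have h1 : (⟨((decompose 𝒞 ((r : R) • c)) i : C), SetLike.coe_mem _⟩ :
          ↥(GrLC.comp 𝒜 𝒞 i)) =
          (⟨(r : R), r.2⟩ : ↥(GrLC.deg0 𝒜)) •
            (⟨((decompose 𝒞 c) i : C), SetLike.coe_mem _⟩ : ↥(GrLC.comp 𝒜 𝒞 i)) :=
        Subtype.ext hdec
      rw [h1, map_smul, map_smul]
      rfl
    · rw [gamFun_zero_of 𝒜 m e 𝒞 i lam (by rw [hdec, hc (i - g) (by omega), smul_zero])]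
      unfold gamFun
      rw [smul_tau_of_mem]
      rw [hmsp]
      exact Ideal.subset_span (Set.mem_iUnion₂.mpr ⟨g, hg, r.2⟩)
  | add a b ha hb =>
    rw [add_smul, gamFun_add, ha, hb, add_smul]

/-- The truncated functional as a linear map `C_{≥ i} → E'`. -/
def gamMap : ↥(trunc 𝒜 hpos 𝒞 i) →ₗ[R] E' where
  toFun a := gamFun 𝒜 m e 𝒞 i lam (a : C)
  map_add' a b := gamFun_add 𝒜 m e 𝒞 i lam a b
  map_smul' r a := gamFun_smul 𝒜 hpos m hmsp e 𝒞 i lam r a.2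

include he in
theorem gamMap_isGrHomDeg :
    GrLC.IsGrHomDeg (Groth.Agent.Lib.Helper29GrSub.subGr 𝒞 (trunc 𝒜 hpos 𝒞 i)) 𝓔
      (gamMap 𝒜 hpos m hmsp e 𝒞 i lam) (-i) := by
  intro g a ha
  have ha' : (a : C) ∈ 𝒞 g := ha
  show gamFun 𝒜 m e 𝒞 i lam (a : C) ∈ 𝓔 (g + -i)
  by_cases hgi : g = i
  · subst hgi
    rw [add_neg_cancel]
    exact tau_mem 𝒜 m 𝓔 e he _
  · rw [gamFun_zero_of 𝒜 m e 𝒞 i lam (DirectSum.decompose_of_mem_ne 𝒞 ha' hgi)]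
    exact zero_mem _

/-- Every functional on a piece of `C` is the coefficient functional of a homogeneous map into
`E'`. -/
theorem exists_hom_of_functional :
    ∃ f : C →ₗ[R] E', GrLC.IsGrHomDeg 𝒞 𝓔 f (-i) ∧
      ∀ (c : C) (hc : c ∈ 𝒞 i), eps 𝒜 hpos h0 m hmne hmsp 𝓔 e he (f c) = lam ⟨c, hc⟩ := by
  classical
  letI dec : DirectSum.Decomposition
      (Groth.Agent.Lib.Helper29GrSub.subGr 𝒞 (trunc 𝒜 hpos 𝒞 i)) :=
    Groth.Agent.Lib.Helper29GrSub.subDecomposition 𝒞 _ (trunc_isHomogeneous 𝒜 hpos 𝒞 i)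
  haveI gs : SetLike.GradedSMul 𝒜 (Groth.Agent.Lib.Helper29GrSub.subGr 𝒞 (trunc 𝒜 hpos 𝒞 i)) :=
    Groth.Agent.Lib.Helper29GrSub.sub_gradedSMul 𝒞 _ 𝒜
  obtain ⟨f, hf, hfγ⟩ := exists_extension_deg 𝒜
    (Groth.Agent.Lib.Helper29GrSub.subGr 𝒞 (trunc 𝒜 hpos 𝒞 i)) 𝒞 𝓔 he.starInj
    (trunc 𝒜 hpos 𝒞 i).subtype (fun g a ha => ha) Subtype.val_injective
    (gamMap 𝒜 hpos m hmsp e 𝒞 i lam) (-i) (gamMap_isGrHomDeg 𝒜 hpos m hmsp 𝓔 e he 𝒞 i lam)
  refine ⟨f, hf, fun c hc => ?_⟩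
  have hct : c ∈ trunc 𝒜 hpos 𝒞 i := mem_trunc_of_mem 𝒜 hpos 𝒞 le_rfl hc
  have h1 : f c = gamFun 𝒜 m e 𝒞 i lam c := LinearMap.congr_fun hfγ ⟨c, hct⟩
  rw [h1]
  unfold gamFun
  rw [eps_tau]
  congr 1
  exact Subtype.ext (DirectSum.decompose_of_mem_same 𝒞 hc)

end Hom

end Groth.Agent.Lib.Helper8.GrPairing
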