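import Mathlib.Algebra.DirectSum.Decomposition
import Mathlib.Algebra.DirectSum.Internal

/-! Induced grading on a homogeneous additive subgroup (additive version of helper29's `GrSub`). -/

set_option autoImplicit false
set_option linter.unusedSectionVars false
open DirectSum

namespace Groth.Agent.Lib.Helper8.GrSubA

universe u

variable {ι : Type} [DecidableEq ι]
variable {L : Type u} [AddCommGroup L] (𝓛 : ι → AddSubgroup L)
variable (P : AddSubgroup L)

/-- The induced pieces on an additive subgroup. -/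
def subGr : ι → AddSubgroup ↥P := fun g => (𝓛 g).comap P.subtype

theorem mem_subGr {g : ι} {x : ↥P} : x ∈ subGr 𝓛 P g ↔ (x : L) ∈ 𝓛 g := Iff.rfl

/-- Component inclusion maps. -/
def inclPiece (g : ι) : ↥(subGr 𝓛 P g) →+ ↥(𝓛 g) where
  toFun x := ⟨((x : ↥P) : L), x.2⟩
  map_zero' := rfl
  map_add' _ _ := rfl

theorem inclPiece_injective (g : ι) : Function.Injective (inclPiece 𝓛 P g) := by
  intro x y h
  apply Subtype.ext
  apply Subtype.ext
  exact congrArg (fun z : ↥(𝓛 g) => (z : L)) h

theorem coe_map_inclPiece (y : ⨁ g, subGr 𝓛 P g) :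
    DirectSum.coeAddMonoidHom 𝓛 (DirectSum.map (inclPiece 𝓛 P) y) =
      ((DirectSum.coeAddMonoidHom (subGr 𝓛 P) y : ↥P) : L) := by
  classical
  induction y using DirectSum.induction_on with
  | zero => simp
  | of g x =>
    rw [DirectSum.map_of, DirectSum.coeAddMonoidHom_of, DirectSum.coeAddMonoidHom_of]
    rfl
  | add x y hx hy =>
    rw [map_add, map_add, map_add, hx, hy]
    rfl

variable [DirectSum.Decomposition 𝓛]

theorem isInternal_subGr (hP : ∀ (g : ι) (x : L), x ∈ P → ((decompose 𝓛 x) g : L) ∈ P) :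
    DirectSum.IsInternal (subGr 𝓛 P) := by
  classical
  constructor
  · rw [injective_iff_map_eq_zero]
    intro y hy
    have h1 := coe_map_inclPiece 𝓛 P y
    rw [hy] at h1
    have h2 : DirectSum.map (inclPiece 𝓛 P) y = 0 := by
      apply (DirectSum.Decomposition.isInternal 𝓛).injective
      rw [h1, map_zero]
      rfl
    exact (DirectSum.map_injective (inclPiece 𝓛 P)).mpr (inclPiece_injective 𝓛 P)
      (h2.trans (map_zero _).symm)
  · intro x
    let y : ⨁ g, subGr 𝓛 P g := ∑ g ∈ (decompose 𝓛 (x : L)).support,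
      DirectSum.of (fun g => subGr 𝓛 P g) g
        ⟨⟨((decompose 𝓛 (x : L)) g : L), hP g x x.2⟩,
          (SetLike.coe_mem ((decompose 𝓛 (x : L)) g) : ((decompose 𝓛 (x : L)) g : L) ∈ 𝓛 g)⟩
    refine ⟨y, ?_⟩
    apply Subtype.ext
    rw [← coe_map_inclPiece]
    have h3 : DirectSum.map (inclPiece 𝓛 P) y = decompose 𝓛 (x : L) := by
      simp only [y, map_sum, DirectSum.map_of]
      exact DirectSum.sum_support_of (decompose 𝓛 (x : L))
    rw [h3]
    exact DirectSum.Decomposition.left_inv (x : L)

/-- The induced decomposition on a homogeneous additive subgroup. -/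
@[instance_reducible]
noncomputable def subDecomposition
    (hP : ∀ (g : ι) (x : L), x ∈ P → ((decompose 𝓛 x) g : L) ∈ P) :
    DirectSum.Decomposition (subGr 𝓛 P) :=
  (isInternal_subGr 𝓛 P hP).chooseDecomposition

end Groth.Agent.Lib.Helper8.GrSubA
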