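import Groth.Agent.Lib.Helper8KoszLim3
import Groth.Agent.Lib.Helper8CechKosz

/-!
# Helper8KoszDT

Kernel and "cokernel" of a map `j : M → E` in terms of the colimit Koszul cohomology
`TL M fs (-r)`, `TL M fs (1-r)`, when `E` has no colimit Koszul cohomology and `ker j` is the
common power torsion of `M` (arbitrary commutative ring; dimension shifting).
-/

namespace Groth.Agent.Lib.Helper8KoszDT

open CategoryTheory CategoryTheory.Limits CochainComplex HomComplex CohIII
open Groth.Agent.Lib.Helper21 Groth.Agent.Lib.Helper8KoszLim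

universe u

variable {A : Type u} [CommRing A]

/-- common power torsion w.r.t. a list of elements -/
def pt (fs : List A) (P : Type*) [AddCommGroup P] [Module A P] : Submodule A P where
  carrier := {x | ∃ n : ℕ, ∀ g ∈ fs, g ^ n • x = 0}
  add_mem' := by
    rintro x y ⟨n, hn⟩ ⟨m, hm⟩
    refine ⟨max n m, fun g hg => ?_⟩
    have h1 : g ^ max n m • x = 0 := by
      rw [← Nat.sub_add_cancel (le_max_left n m), pow_add, mul_smul, hn g hg, smul_zero]
    have h2 : g ^ max n m • y = 0 := by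
      rw [← Nat.sub_add_cancel (le_max_right n m), pow_add, mul_smul, hm g hg, smul_zero]
    rw [smul_add, h1, h2, add_zero]
  zero_mem' := ⟨0, fun g _ => smul_zero _⟩
  smul_mem' := by
    rintro r x ⟨n, hn⟩
    exact ⟨n, fun g hg => by rw [smul_comm, hn g hg, smul_zero]⟩

lemma mem_pt (fs : List A) {P : Type*} [AddCommGroup P] [Module A P] (x : P) :
    x ∈ pt fs P ↔ ∃ n : ℕ, ∀ g ∈ fs, g ^ n • x = 0 := Iff.rfl

/-- eventual vanishing of the higher Koszul classes of a power-torsion module -/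
theorem evZero_tors (M : ModuleCat.{u} A) :
    ∀ (fs : List A), (∀ g ∈ fs, ∀ x : M, ∃ k : ℕ, g ^ k • x = 0) →
      ∀ (j : ℤ), -(fs.length : ℤ) < j → ∀ (n : ℕ) (c : (Kp M fs n).homology j),
      ∃ (m : ℕ) (h : n ≤ m), Tr M fs j n m h c = 0
  | [], _, j, hj, n, c => by
    simp only [List.length_nil, Nat.cast_zero, neg_zero] at hj
    have hz : IsZero ((Kp M [] n).homology j) :=
      isZero_homology_of_isZero_X _ j
        (HomologicalComplex.isZero_single_obj_X (ComplexShape.up ℤ) 0 M j hj.ne')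
    have _ := ModuleCat.subsingleton_of_isZero hz
    refine ⟨n, le_rfl, ?_⟩
    rw [Subsingleton.elim c 0, map_zero]
  | f :: fs, ht, j, hj, n, c => by
    simp only [List.length_cons, Nat.cast_add, Nat.cast_one] at hj
    have ht' : ∀ g ∈ fs, ∀ x : M, ∃ k : ℕ, g ^ k • x = 0 :=
      fun g hg => ht g (List.mem_cons_of_mem _ hg)
    obtain ⟨m, hnm, hm⟩ := evZero_tors M fs ht' (j + 1) (by omega) n
      (δc M f fs n j (j + 1) rfl c)
    rw [← δc_Tr] at hm
    obtain ⟨d, hd⟩ := exists_ic_of_δc _ f fs m j (j + 1) rfl _ hm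
    suffices H : ∃ (m' : ℕ) (h : m ≤ m'), Tr M (f :: fs) j m m' h (ic M f fs m j d) = 0 by
      obtain ⟨m', hmm', H⟩ := H
      refine ⟨m', hnm.trans hmm', ?_⟩
      rw [← Tr_comp _ _ _ n m m' hnm hmm', ← hd, H]
    by_cases hj2 : -(fs.length : ℤ) < j
    · obtain ⟨m', hmm', hd'⟩ := evZero_tors M fs ht' j hj2 m d
      refine ⟨m', hmm', ?_⟩
      rw [Tr_ic, hd', smul_zero, map_zero]
    · have hj3 : j = -((fs.length : ℕ) : ℤ) := by omega
      subst hj3
      obtain ⟨k, hk⟩ := ht f List.mem_cons_self (ιb M fs m d)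
      refine ⟨m + k, Nat.le_add_right m k, ?_⟩
      rw [Tr_ic]
      have : f ^ (m + k - m) • Tr M fs _ m (m + k) (Nat.le_add_right m k) d = 0 := by
        apply ιb_injective M fs (m + k)
        rw [map_smul, map_zero, ιb_Tr, Nat.add_sub_cancel_left, hk]
      rw [this, map_zero]

lemma TL_subsingleton_tors (M : ModuleCat.{u} A) (fs : List A)
    (ht : ∀ g ∈ fs, ∀ x : M, ∃ k : ℕ, g ^ k • x = 0) (j : ℤ)
    (hj : -((fs.length : ℕ) : ℤ) < j) : Subsingleton (TL M fs j) := by
  have key : ∀ z : TL M fs j, z = 0 := by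
    intro z
    obtain ⟨n, c, rfl⟩ := Module.DirectLimit.exists_of z
    obtain ⟨m, h, hc⟩ := evZero_tors M fs ht j hj n c
    rw [← Module.DirectLimit.of_f (hij := h)]
    have hc' : Tr M fs j n m h c = 0 := hc
    rw [hc', map_zero]
  exact ⟨fun a b => (key a).trans (key b).symm⟩

lemma TL_subsingleton_of_level (M : ModuleCat.{u} A) (fs : List A) (j : ℤ)
    (h : ∀ n : ℕ, Subsingleton ((Kp M fs n).homology j)) : Subsingleton (TL M fs j) := by
  have key : ∀ z : TL M fs j, z = 0 := by
    intro z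
    obtain ⟨n, c, rfl⟩ := Module.DirectLimit.exists_of z
    have := h n
    rw [Subsingleton.elim c 0, map_zero]
  exact ⟨fun a b => (key a).trans (key b).symm⟩

section LES

variable (S : ShortComplex (ModuleCat.{u} A)) (hS : S.ShortExact)

include hS in
/-- exactness in the middle, on colimits -/
theorem TLmap_ker_le (fs : List A) (j : ℤ) :
    LinearMap.ker (TLmap S.g fs j) ≤ LinearMap.range (TLmap S.f fs j) := by
  intro z hz
  obtain ⟨n, y, rfl⟩ := Module.DirectLimit.exists_of z
  rw [LinearMap.mem_ker, TLmap_of] at hz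
  obtain ⟨m, hnm, hm⟩ := Module.DirectLimit.of.zero_exact hz
  have hm' : Tr S.X₃ fs j n m hnm (Hk S.g fs j n y) = 0 := hm
  rw [← Hk_Tr] at hm'
  have hex := (KS_shortExact S hS fs m).homology_exact₂ j
  rw [ShortComplex.moduleCat_exact_iff] at hex
  obtain ⟨w, hw⟩ := hex _ hm'
  have hw' : Hk S.f fs j m w = Tr S.X₂ fs j n m hnm y := hw
  refine ⟨Module.DirectLimit.of A ℕ _ _ m w, ?_⟩
  rw [TLmap_of, hw', Module.DirectLimit.of_f]

include hS in
/-- exactness at the left term, on colimits -/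
theorem TLmap_f_ker_le (fs : List A) (j j' : ℤ) (h : j + 1 = j') :
    LinearMap.ker (TLmap S.f fs j') ≤ LinearMap.range (δL S hS fs j j' h) := by
  intro z hz
  obtain ⟨n, c, rfl⟩ := Module.DirectLimit.exists_of z
  rw [LinearMap.mem_ker, TLmap_of] at hz
  obtain ⟨m, hnm, hm⟩ := Module.DirectLimit.of.zero_exact hz
  have hm' : Tr S.X₂ fs j' n m hnm (Hk S.f fs j' n c) = 0 := hm
  rw [← Hk_Tr] at hm'
  obtain ⟨x, hx⟩ := exists_δK_of_Hk S hS fs m j j' h _ hm'
  refine ⟨Module.DirectLimit.of A ℕ _ _ m x, ?_⟩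
  rw [δL_of, hx, Module.DirectLimit.of_f]

include hS in
/-- the connecting map is bijective if the middle term has no cohomology -/
theorem δL_bijective (fs : List A) (j j' : ℤ) (h : j + 1 = j')
    (h2 : Subsingleton (TL S.X₂ fs j)) (h2' : Subsingleton (TL S.X₂ fs j')) :
    Function.Bijective (δL S hS fs j j' h) := by
  constructor
  · rw [← LinearMap.ker_eq_bot, δL_ker, eq_bot_iff]
    rintro _ ⟨w, rfl⟩
    rw [Subsingleton.elim w 0, map_zero]
    exact Submodule.zero_mem _
  · intro z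
    have hz : z ∈ LinearMap.ker (TLmap S.f fs j') := by
      rw [LinearMap.mem_ker]
      exact Subsingleton.elim _ _
    exact TLmap_f_ker_le S hS fs j j' h hz

include hS in
/-- the map induced by `g` is bijective if the left term has no cohomology -/
theorem TLmap_g_bijective (fs : List A) (j j' : ℤ) (h : j + 1 = j')
    (h1 : Subsingleton (TL S.X₁ fs j)) (h1' : Subsingleton (TL S.X₁ fs j')) :
    Function.Bijective (TLmap S.g fs j) := by
  constructor
  · rw [← LinearMap.ker_eq_bot, eq_bot_iff]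
    intro z hz
    obtain ⟨w, rfl⟩ := TLmap_ker_le S hS fs j hz
    rw [Subsingleton.elim w 0, map_zero]
    exact Submodule.zero_mem _
  · intro z
    have hz : z ∈ LinearMap.ker (δL S hS fs j j' h) := by
      rw [LinearMap.mem_ker]
      exact Subsingleton.elim _ _
    rw [δL_ker] at hz
    exact hz

end LES

section DT

variable (fs : List A) {M E : ModuleCat.{u} A} (φ : M ⟶ E)

/-- `0 → ker φ → M → im φ → 0` -/
noncomputable def S1 : ShortComplex (ModuleCat.{u} A) :=
  ShortComplex.mk (ModuleCat.ofHom (LinearMap.ker φ.hom).subtype)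
    (ModuleCat.ofHom φ.hom.rangeRestrict) (by
      ext x
      exact x.2)

lemma exact_ker_rangeRestrict {P Q : Type*} [AddCommGroup P] [Module A P] [AddCommGroup Q]
    [Module A Q] (f : P →ₗ[A] Q) : Function.Exact (LinearMap.ker f).subtype f.rangeRestrict := by
  intro y
  constructor
  · intro hy
    exact ⟨⟨y, congrArg Subtype.val hy⟩, rfl⟩
  · rintro ⟨x, rfl⟩
    apply Subtype.ext
    exact x.2

lemma S1_shortExact : (S1 φ).ShortExact := by
  unfold S1
  exact ModuleCat.shortComplex_shortExact _ (exact_ker_rangeRestrict φ.hom)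
    (Submodule.subtype_injective _) (LinearMap.surjective_rangeRestrict _)

/-- `0 → im φ → E → E / im φ → 0` -/
noncomputable def S2 : ShortComplex (ModuleCat.{u} A) :=
  ShortComplex.mk (ModuleCat.ofHom (LinearMap.range φ.hom).subtype)
    (ModuleCat.ofHom (LinearMap.range φ.hom).mkQ) (by
      ext x
      exact (Submodule.Quotient.mk_eq_zero _).mpr x.2)

lemma S2_shortExact : (S2 φ).ShortExact := by
  unfold S2
  exact ModuleCat.shortComplex_shortExact _ (LinearMap.exact_subtype_mkQ (LinearMap.range φ.hom))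
    (Submodule.subtype_injective _) (Submodule.mkQ_surjective _)

/-- transport along an equality of degrees -/
noncomputable def TLcongr (P : ModuleCat.{u} A) {j j' : ℤ} (h : j = j') :
    TL P fs j ≃ₗ[A] TL P fs j' := by
  subst h
  exact LinearEquiv.refl _ _

/-- the bottom colimit cohomology is the common power torsion -/
noncomputable def bottomEquiv (P : ModuleCat.{u} A) :
    TL P fs (-((fs.length : ℕ) : ℤ)) ≃ₗ[A] pt fs P :=
  (LinearEquiv.ofInjective (ΦT P fs) (ΦT_injective P fs)).trans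
    (LinearEquiv.ofEq _ _ (by
      ext x
      rw [ΦT_range, mem_pt]))

/-- **kernel**: if `ker φ` is the common power torsion, then `ker φ ≃ TL M fs (-r)`. -/
theorem nonempty_ker_equiv (H2 : ∀ x : M, φ.hom x = 0 ↔ x ∈ pt fs M) (j : ℤ)
    (hj : j = -((fs.length : ℕ) : ℤ)) :
    Nonempty (LinearMap.ker φ.hom ≃ₗ[A] TL M fs j) := by
  subst hj
  refine ⟨((bottomEquiv fs M).trans (LinearEquiv.ofEq _ _ ?_)).symm⟩
  ext x
  rw [LinearMap.mem_ker, H2]

/-- **cokernel**: the power torsion of `E / im φ` is `TL M fs (1-r)`. -/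
theorem nonempty_coker_equiv (H2 : ∀ x : M, φ.hom x = 0 → x ∈ pt fs M)
    (H1 : ∀ q : ℤ, Subsingleton (TL E fs q)) (j : ℤ)
    (hj : -((fs.length : ℕ) : ℤ) + 1 = j) :
    Nonempty (pt fs (E ⧸ LinearMap.range φ.hom) ≃ₗ[A] TL M fs j) := by
  have hK : ∀ g ∈ fs, ∀ x : (S1 φ).X₁, ∃ k : ℕ, g ^ k • x = 0 := by
    intro g hg x
    obtain ⟨n, hn⟩ := H2 x.1 x.2
    exact ⟨n, Subtype.ext (hn g hg)⟩
  have e1 := bottomEquiv fs (S2 φ).X₃
  have b2 := δL_bijective (S2 φ) (S2_shortExact φ) fs _ j hj (H1 _) (H1 _)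
  have b3 := TLmap_g_bijective (S1 φ) (S1_shortExact φ) fs j (j + 1) rfl
    (TL_subsingleton_tors _ fs hK j (by omega)) (TL_subsingleton_tors _ fs hK (j + 1) (by omega))
  exact ⟨e1.symm.trans ((LinearEquiv.ofBijective _ b2).trans (LinearEquiv.ofBijective _ b3).symm)⟩

end DT

section Additive

lemma cone_map_add {K₁ L₁ K₂ L₂ : CochainComplex (ModuleCat.{u} A) ℤ} (φ₁ : K₁ ⟶ L₁)
    (φ₂ : K₂ ⟶ L₂) (a a' : K₁ ⟶ K₂) (b b' : L₁ ⟶ L₂) (c : φ₁ ≫ b = a ≫ φ₂)
    (c' : φ₁ ≫ b' = a' ≫ φ₂) (c'' : φ₁ ≫ (b + b') = (a + a') ≫ φ₂) :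
    mappingCone.map φ₁ φ₂ (a + a') (b + b') c'' =
      mappingCone.map φ₁ φ₂ a b c + mappingCone.map φ₁ φ₂ a' b' c' := by
  refine HomologicalComplex.hom_ext _ _ (fun n => ?_)
  ext x
  apply cone_ext φ₂ n
  · simp only [cfst_map, HomologicalComplex.add_f_apply, ModuleCat.hom_add, LinearMap.add_apply,
      map_add]
  · simp only [csnd_map, HomologicalComplex.add_f_apply, ModuleCat.hom_add, LinearMap.add_apply,
      map_add]

lemma koszulMap_add {M N : ModuleCat.{u} A} (g h : M ⟶ N) :
    ∀ fs : List A, koszulMap (g + h) fs = koszulMap g fs + koszulMap h fs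
  | [] => by
    show (HomologicalComplex.single (ModuleCat.{u} A) (ComplexShape.up ℤ) 0).map (g + h) = _
    rw [Functor.map_add]
    rfl
  | f :: fs => by
    have ih := koszulMap_add g h fs
    show mappingCone.map _ _ (koszulMap (g + h) fs) (koszulMap (g + h) fs) _ = _
    simp only [ih]
    exact cone_map_add _ _ _ _ _ _ _ _ _

open Groth.Agent.Helper13Kz Groth.Agent.Helper13KzLift in
lemma KHmap_add {M N : Type u} [AddCommGroup M] [Module A M] [AddCommGroup N] [Module A N]
    (l : List A) (g h : M →ₗ[A] N) (q : ℤ) :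
    KHmap l (g + h) q = KHmap l g q + KHmap l h q := by
  unfold KHmap
  have : ModuleCat.ofHom (g + h) = ModuleCat.ofHom g + ModuleCat.ofHom h := rfl
  rw [this, koszulMap_add, HomologicalComplex.homologyMap_add]
  rfl

open Groth.Agent.Helper13Kz Groth.Agent.Helper13KzLift in
lemma KHmap_zero {M N : Type u} [AddCommGroup M] [Module A M] [AddCommGroup N] [Module A N]
    (l : List A) (q : ℤ) : KHmap l (0 : M →ₗ[A] N) q = 0 := by
  have := KHmap_add l (0 : M →ₗ[A] N) 0 q
  rw [add_zero] at this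
  exact left_eq_add.mp this

open Groth.Agent.Helper13Kz Groth.Agent.Helper13KzLift in
lemma KHmap_sum {M N : Type u} [AddCommGroup M] [Module A M] [AddCommGroup N] [Module A N]
    (l : List A) {ι : Type*} (s : Finset ι) (g : ι → (M →ₗ[A] N)) (q : ℤ) :
    KHmap l (∑ i ∈ s, g i) q = ∑ i ∈ s, KHmap l (g i) q := by
  classical
  induction s using Finset.induction_on with
  | empty => simp [KHmap_zero]
  | insert a s ha ih => rw [Finset.sum_insert ha, Finset.sum_insert ha, KHmap_add, ih]

open Groth.Agent.Helper13Kz Groth.Agent.Helper13KzLift in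
/-- Koszul cohomology of a finite product vanishes if it does so for every factor -/
theorem subsingleton_KH_pi {ι : Type} [Fintype ι] [DecidableEq ι] (P : ι → Type u)
    [∀ i, AddCommGroup (P i)] [∀ i, Module A (P i)] (l : List A) (q : ℤ)
    (h : ∀ i, Subsingleton (KH l (P i) q)) : Subsingleton (KH l (∀ i, P i) q) := by
  have hid : (LinearMap.id : (∀ i, P i) →ₗ[A] (∀ i, P i)) =
      ∑ i, (LinearMap.single A P i) ∘ₗ (LinearMap.proj i) := by
    ext x k
    simp [Finset.sum_apply]
  have key : ∀ x : KH l (∀ i, P i) q, x = 0 := by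
    intro x
    have hx : x = KHmap l (LinearMap.id : (∀ i, P i) →ₗ[A] (∀ i, P i)) q x := by
      rw [KHmap_id]; rfl
    rw [hx, hid, KHmap_sum, LinearMap.sum_apply]
    refine Finset.sum_eq_zero (fun i _ => ?_)
    rw [KHmap_comp, LinearMap.comp_apply]
    have := h i
    rw [Subsingleton.elim (KHmap l (LinearMap.proj i) q x) 0, map_zero]
  exact ⟨fun a b => (key a).trans (key b).symm⟩

end Additive

end Groth.Agent.Lib.Helper8KoszDT
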