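import Groth.Agent.Lib.Helper8KoszLim

/-!
# Koszul cohomology of the powers, part 2: functoriality, directed systems, the connecting map
(helper8)
-/

namespace Groth.Agent.Lib.Helper8KoszLim

open CategoryTheory CategoryTheory.Limits CochainComplex HomComplex HomotopyCategory CohIII
open Groth.Agent.Lib.Helper21

universe v u

section Koszul2

variable {A : Type u} [CommRing A]

lemma koszulTrans_id (M : ModuleCat.{u} A) (n : ℕ) :
    ∀ fs : List A, koszulTrans M n n le_rfl fs = 𝟙 _
  | [] => rfl
  | f :: fs => by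
    have ih := koszulTrans_id M n fs
    show mappingCone.map _ _ _ _ _ = 𝟙 _
    refine (map_congr _ _ ih (by rw [ih, Nat.sub_self, pow_zero, one_smul]) _
      (by rw [Category.id_comp, Category.comp_id])).trans (mappingCone.map_id _)

lemma koszulMap_trans {M N : ModuleCat.{u} A} (g : M ⟶ N) (n m : ℕ) (h : n ≤ m) :
    ∀ fs : List A, koszulMap g (fs.map (· ^ n)) ≫ koszulTrans N n m h fs =
      koszulTrans M n m h fs ≫ koszulMap g (fs.map (· ^ m))
  | [] => by
    show (HomologicalComplex.single (ModuleCat.{u} A) (ComplexShape.up ℤ) 0).map g ≫ 𝟙 _ =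
      𝟙 _ ≫ (HomologicalComplex.single (ModuleCat.{u} A) (ComplexShape.up ℤ) 0).map g
    rw [Category.comp_id, Category.id_comp]
  | f :: fs => by
    have ih := koszulMap_trans g n m h fs
    show mappingCone.map _ _ _ _ _ ≫ mappingCone.map _ _ _ _ _ =
      mappingCone.map _ _ _ _ _ ≫ mappingCone.map _ _ _ _ _
    rw [← mappingCone.map_comp, ← mappingCone.map_comp]
    apply map_congr
    · exact ih
    · rw [Linear.comp_smul, Linear.smul_comp, ih]

instance directedSystem_Tr (M : ModuleCat.{u} A) (fs : List A) (j : ℤ) :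
    DirectedSystem (fun n : ℕ => (Kp M fs n).homology j) (fun n m h => Tr M fs j n m h) where
  map_self n x := by
    show (HomologicalComplex.homologyMap (koszulTrans M n n le_rfl fs) j).hom x = x
    rw [koszulTrans_id, HomologicalComplex.homologyMap_id]
    rfl
  map_map k m n hnm hmk x := Tr_comp M fs j n m k hnm hmk x

/-- the colimit of the Koszul cohomology of the powers, in integer degree `j` -/
noncomputable abbrev TL (M : ModuleCat.{u} A) (fs : List A) (j : ℤ) : Type u :=
  Module.DirectLimit (fun n : ℕ => (Kp M fs n).homology j) (fun n m h => Tr M fs j n m h)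

/-- map induced on Koszul cohomology by a module map -/
noncomputable abbrev Hk {M N : ModuleCat.{u} A} (g : M ⟶ N) (fs : List A) (j : ℤ) (n : ℕ) :
    (Kp M fs n).homology j →ₗ[A] (Kp N fs n).homology j :=
  (HomologicalComplex.homologyMap (koszulMap g (fs.map (· ^ n))) j).hom

lemma Hk_Tr {M N : ModuleCat.{u} A} (g : M ⟶ N) (fs : List A) (j : ℤ) (n m : ℕ) (h : n ≤ m)
    (x : (Kp M fs n).homology j) :
    Hk g fs j m (Tr M fs j n m h x) = Tr N fs j n m h (Hk g fs j n x) := by
  have := congrArg (fun φ => HomologicalComplex.homologyMap φ j) (koszulMap_trans g n m h fs)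
  simp only [HomologicalComplex.homologyMap_comp] at this
  exact (LinearMap.congr_fun (congrArg ModuleCat.Hom.hom this) x).symm

/-- the induced map on colimits -/
noncomputable def TLmap {M N : ModuleCat.{u} A} (g : M ⟶ N) (fs : List A) (j : ℤ) :
    TL M fs j →ₗ[A] TL N fs j :=
  Module.DirectLimit.map (fun n => Hk g fs j n) (fun n m h => LinearMap.ext (Hk_Tr g fs j n m h))

lemma TLmap_of {M N : ModuleCat.{u} A} (g : M ⟶ N) (fs : List A) (j : ℤ) (n : ℕ)
    (x : (Kp M fs n).homology j) :
    TLmap g fs j (Module.DirectLimit.of A ℕ _ _ n x) =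
      Module.DirectLimit.of A ℕ _ _ n (Hk g fs j n x) := by
  unfold TLmap
  exact Module.DirectLimit.map_apply_of _ _ _

end Koszul2

section SES

variable {A : Type u} [CommRing A] (S : ShortComplex (ModuleCat.{u} A)) (hS : S.ShortExact)

include hS in
lemma fexact : Function.Exact S.f.hom S.g.hom :=
  (ShortComplex.ShortExact.moduleCat_exact_iff_function_exact S).mp hS.exact

/-- the short complex of Koszul complexes of the powers -/
noncomputable def KS (fs : List A) (n : ℕ) :
    ShortComplex (CochainComplex (ModuleCat.{u} A) ℤ) :=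
  ShortComplex.mk (koszulMap S.f (fs.map (· ^ n))) (koszulMap S.g (fs.map (· ^ n)))
    (koszulMap_comp_eq_zero S.f S.g (fexact S hS) _)

lemma KS_shortExact (fs : List A) (n : ℕ) : (KS S hS fs n).ShortExact :=
  koszul_shortExact S.f S.g ((ModuleCat.mono_iff_injective S.f).mp hS.mono_f)
    ((ModuleCat.epi_iff_surjective S.g).mp hS.epi_g) (fexact S hS) _

/-- the transition morphism of short complexes -/
noncomputable def KSmap (fs : List A) (n m : ℕ) (h : n ≤ m) : KS S hS fs n ⟶ KS S hS fs m where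
  τ₁ := koszulTrans S.X₁ n m h fs
  τ₂ := koszulTrans S.X₂ n m h fs
  τ₃ := koszulTrans S.X₃ n m h fs
  comm₁₂ := (koszulMap_trans S.f n m h fs).symm
  comm₂₃ := (koszulMap_trans S.g n m h fs).symm

/-- the connecting map on Koszul cohomology -/
noncomputable def δK (fs : List A) (n : ℕ) (j j' : ℤ) (h : j + 1 = j') :
    (Kp S.X₃ fs n).homology j →ₗ[A] (Kp S.X₁ fs n).homology j' :=
  ((KS_shortExact S hS fs n).δ j j' h).hom

lemma δK_Tr (fs : List A) (n m : ℕ) (hnm : n ≤ m) (j j' : ℤ) (h : j + 1 = j')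
    (x : (Kp S.X₃ fs n).homology j) :
    δK S hS fs m j j' h (Tr S.X₃ fs j n m hnm x) = Tr S.X₁ fs j' n m hnm (δK S hS fs n j j' h x) := by
  have := HomologicalComplex.HomologySequence.δ_naturality (KSmap S hS fs n m hnm)
    (KS_shortExact S hS fs n) (KS_shortExact S hS fs m) j j' h
  exact (LinearMap.congr_fun (congrArg ModuleCat.Hom.hom this) x).symm

lemma δK_Hk (fs : List A) (n : ℕ) (j j' : ℤ) (h : j + 1 = j') (y : (Kp S.X₂ fs n).homology j) :
    δK S hS fs n j j' h (Hk S.g fs j n y) = 0 := by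
  have := (KS_shortExact S hS fs n).comp_δ j j' h
  exact LinearMap.congr_fun (congrArg ModuleCat.Hom.hom this) y

lemma exists_Hk_of_δK (fs : List A) (n : ℕ) (j j' : ℤ) (h : j + 1 = j')
    (x : (Kp S.X₃ fs n).homology j) (hx : δK S hS fs n j j' h x = 0) :
    ∃ y, Hk S.g fs j n y = x := by
  have hex := (KS_shortExact S hS fs n).homology_exact₃ j j' h
  rw [ShortComplex.moduleCat_exact_iff] at hex
  exact hex x hx

lemma exists_δK_of_Hk (fs : List A) (n : ℕ) (j j' : ℤ) (h : j + 1 = j')
    (c : (Kp S.X₁ fs n).homology j') (hc : Hk S.f fs j' n c = 0) :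
    ∃ x, δK S hS fs n j j' h x = c := by
  have hex := (KS_shortExact S hS fs n).homology_exact₁ j j' h
  rw [ShortComplex.moduleCat_exact_iff] at hex
  exact hex c hc

/-- the connecting map on the colimits -/
noncomputable def δL (fs : List A) (j j' : ℤ) (h : j + 1 = j') : TL S.X₃ fs j →ₗ[A] TL S.X₁ fs j' :=
  Module.DirectLimit.map (fun n => δK S hS fs n j j' h)
    (fun n m hnm => LinearMap.ext (δK_Tr S hS fs n m hnm j j' h))

lemma δL_of (fs : List A) (j j' : ℤ) (h : j + 1 = j') (n : ℕ) (x : (Kp S.X₃ fs n).homology j) :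
    δL S hS fs j j' h (Module.DirectLimit.of A ℕ _ _ n x) =
      Module.DirectLimit.of A ℕ _ _ n (δK S hS fs n j j' h x) := by
  unfold δL
  exact Module.DirectLimit.map_apply_of _ _ _

/-- surjectivity of the connecting map on colimits when the middle term is injective -/
theorem δL_surjective [IsNoetherianRing A] (hE : Module.Injective A S.X₂) (fs : List A) (j j' : ℤ)
    (h : j + 1 = j') (hj' : -(fs.length : ℤ) < j') : Function.Surjective (δL S hS fs j j' h) := by
  intro z
  obtain ⟨n, c, rfl⟩ := Module.DirectLimit.exists_of z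
  obtain ⟨m, hnm, hm⟩ := evZero (A := A) S.X₂ hE fs j' hj' n (Hk S.f fs j' n c)
  have hm' : Tr S.X₂ fs j' n m hnm (Hk S.f fs j' n c) = 0 := hm
  rw [← Hk_Tr] at hm'
  obtain ⟨x, hx⟩ := exists_δK_of_Hk S hS fs m j j' h _ hm'
  refine ⟨Module.DirectLimit.of A ℕ _ _ m x, ?_⟩
  rw [δL_of, hx, Module.DirectLimit.of_f]

/-- kernel of the connecting map on colimits -/
theorem δL_ker (fs : List A) (j j' : ℤ) (h : j + 1 = j') :
    LinearMap.ker (δL S hS fs j j' h) = LinearMap.range (TLmap S.g fs j) := by
  apply le_antisymm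
  · intro z hz
    obtain ⟨n, x, rfl⟩ := Module.DirectLimit.exists_of z
    rw [LinearMap.mem_ker, δL_of] at hz
    obtain ⟨m, hnm, hm⟩ := Module.DirectLimit.of.zero_exact hz
    have hm' : Tr S.X₁ fs j' n m hnm (δK S hS fs n j j' h x) = 0 := hm
    rw [← δK_Tr] at hm'
    obtain ⟨y, hy⟩ := exists_Hk_of_δK S hS fs m j j' h _ hm'
    refine ⟨Module.DirectLimit.of A ℕ _ _ m y, ?_⟩
    rw [TLmap_of, hy, Module.DirectLimit.of_f]
  · rintro _ ⟨w, rfl⟩
    obtain ⟨n, y, rfl⟩ := Module.DirectLimit.exists_of w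
    rw [LinearMap.mem_ker, TLmap_of, δL_of, δK_Hk, map_zero]

end SES

end Groth.Agent.Lib.Helper8KoszLim
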