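import Groth.Agent.Lib.Helper8KoszLim2

/-!
# Koszul cohomology of the powers, part 3: the bottom cohomology, naturally (helper8)
-/

namespace Groth.Agent.Lib.Helper8KoszLim

open CategoryTheory CategoryTheory.Limits CochainComplex HomComplex HomotopyCategory CohIII
open Groth.Agent.Lib.Helper21

universe v u

section Bottom

variable {A : Type u} [CommRing A]

omit [CommRing A] in
lemma neg_len_cons (f : A) (fs : List A) :
    -(((f :: fs).length : ℕ) : ℤ) + 1 = -((fs.length : ℕ) : ℤ) := by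
  simp only [List.length_cons, Nat.cast_add, Nat.cast_one]
  omega

/-- the natural embedding of the bottom Koszul cohomology of the powers in the module -/
noncomputable def ιb (M : ModuleCat.{u} A) :
    ∀ (fs : List A) (n : ℕ), (Kp M fs n).homology (-((fs.length : ℕ) : ℤ)) →ₗ[A] M
  | [], _ => (HomologicalComplex.singleObjHomologySelfIso (ComplexShape.up ℤ) 0 M).hom.hom
  | f :: fs, n => ιb M fs n ∘ₗ
      δc M f fs n (-(((f :: fs).length : ℕ) : ℤ)) (-((fs.length : ℕ) : ℤ)) (neg_len_cons f fs)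

lemma ιb_cons (M : ModuleCat.{u} A) (f : A) (fs : List A) (n : ℕ)
    (x : (Kp M (f :: fs) n).homology (-(((f :: fs).length : ℕ) : ℤ))) :
    ιb M (f :: fs) n x = ιb M fs n (δc M f fs n _ _ (neg_len_cons f fs) x) := rfl

lemma ιb_injective (M : ModuleCat.{u} A) : ∀ (fs : List A) (n : ℕ), Function.Injective (ιb M fs n)
  | [], _ => (ConcreteCategory.bijective_of_isIso
      (HomologicalComplex.singleObjHomologySelfIso (ComplexShape.up ℤ) 0 M).hom).1
  | f :: fs, n => by
    show Function.Injective (ιb M fs n ∘ₗ _)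
    rw [LinearMap.coe_comp]
    refine (ιb_injective M fs n).comp (δc_injective M f fs n _ _ _ ?_)
    simp only [List.length_cons, Nat.cast_add, Nat.cast_one]
    omega

lemma ιb_Tr (M : ModuleCat.{u} A) : ∀ (fs : List A) (n m : ℕ) (h : n ≤ m)
    (x : (Kp M fs n).homology (-((fs.length : ℕ) : ℤ))),
    ιb M fs m (Tr M fs _ n m h x) = ιb M fs n x
  | [], n, m, h, x => by
    have : Tr M [] (-((([] : List A).length : ℕ) : ℤ)) n m h x = x := by
      show (HomologicalComplex.homologyMap (𝟙 (koszulCx M [])) _).hom x = x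
      rw [HomologicalComplex.homologyMap_id]
      rfl
    rw [this]
    rfl
  | f :: fs, n, m, h, x => by
    rw [ιb_cons, ιb_cons, δc_Tr, ιb_Tr M fs n m h]

lemma ιb_range (M : ModuleCat.{u} A) : ∀ (fs : List A) (n : ℕ) (x : M),
    x ∈ LinearMap.range (ιb M fs n) ↔ ∀ g ∈ fs, g ^ n • x = 0
  | [], n, x => by
    constructor
    · intro _ g hg
      simp at hg
    · intro _
      exact (ConcreteCategory.bijective_of_isIso
        (HomologicalComplex.singleObjHomologySelfIso (ComplexShape.up ℤ) 0 M).hom).2 x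
  | f :: fs, n, x => by
    constructor
    · rintro ⟨c, rfl⟩ g hg
      rw [ιb_cons]
      rcases List.mem_cons.mp hg with rfl | hg'
      · rw [← map_smul, δc_smul, map_zero]
      · exact (ιb_range M fs n _).mp ⟨_, rfl⟩ g hg'
    · intro hx
      obtain ⟨e, rfl⟩ := (ιb_range M fs n x).mpr (fun g hg => hx g (List.mem_cons_of_mem _ hg))
      have he : f ^ n • e = 0 := by
        apply ιb_injective M fs n
        rw [map_smul, map_zero]
        exact hx f List.mem_cons_self
      obtain ⟨c, hc⟩ := exists_δc_of_smul M f fs n _ _ (neg_len_cons f fs) e he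
      exact ⟨c, by rw [ιb_cons, hc]⟩

lemma δc_Hk {M N : ModuleCat.{u} A} (g : M ⟶ N) (f : A) (fs : List A) (n : ℕ) (j j' : ℤ)
    (h : j + 1 = j') (x : (Kp M (f :: fs) n).homology j) :
    δc N f fs n j j' h (Hk g (f :: fs) j n x) = Hk g fs j' n (δc M f fs n j j' h x) := by
  have := coneδ_naturality (φc M f fs n) (φc N f fs n) (koszulMap g (fs.map (· ^ n)))
    (koszulMap g (fs.map (· ^ n))) (by
      simp only [Linear.smul_comp, Linear.comp_smul, Category.id_comp, Category.comp_id]) j j' h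
  exact LinearMap.congr_fun (congrArg ModuleCat.Hom.hom this) x

lemma ιb_nat {M N : ModuleCat.{u} A} (g : M ⟶ N) : ∀ (fs : List A) (n : ℕ)
    (x : (Kp M fs n).homology (-((fs.length : ℕ) : ℤ))),
    ιb N fs n (Hk g fs _ n x) = g.hom (ιb M fs n x)
  | [], n, x => by
    have := HomologicalComplex.singleObjHomologySelfIso_hom_naturality (ComplexShape.up ℤ) 0 g
    exact LinearMap.congr_fun (congrArg ModuleCat.Hom.hom this) x
  | f :: fs, n, x => by
    rw [ιb_cons, ιb_cons, δc_Hk, ιb_nat g fs n]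

/-- the map from the colimit of the bottom cohomology to the module -/
noncomputable def ΦT (M : ModuleCat.{u} A) (fs : List A) :
    TL M fs (-((fs.length : ℕ) : ℤ)) →ₗ[A] M :=
  Module.DirectLimit.lift A ℕ _ _ (ιb M fs) (fun n m h x => ιb_Tr M fs n m h x)

lemma ΦT_of (M : ModuleCat.{u} A) (fs : List A) (n : ℕ)
    (x : (Kp M fs n).homology (-((fs.length : ℕ) : ℤ))) :
    ΦT M fs (Module.DirectLimit.of A ℕ _ _ n x) = ιb M fs n x := by
  unfold ΦT
  exact Module.DirectLimit.lift_of _ _ _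

lemma ΦT_injective (M : ModuleCat.{u} A) (fs : List A) : Function.Injective (ΦT M fs) :=
  Module.DirectLimit.lift_injective _ _ (fun n => ιb_injective M fs n)

lemma ΦT_range (M : ModuleCat.{u} A) (fs : List A) (x : M) :
    x ∈ LinearMap.range (ΦT M fs) ↔ ∃ n : ℕ, ∀ g ∈ fs, g ^ n • x = 0 := by
  constructor
  · rintro ⟨z, rfl⟩
    obtain ⟨n, c, rfl⟩ := Module.DirectLimit.exists_of z
    rw [ΦT_of]
    exact ⟨n, (ιb_range M fs n _).mp ⟨c, rfl⟩⟩
  · rintro ⟨n, hn⟩
    obtain ⟨c, rfl⟩ := (ιb_range M fs n x).mpr hn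
    exact ⟨Module.DirectLimit.of A ℕ _ _ n c, ΦT_of M fs n c⟩

lemma ΦT_nat {M N : ModuleCat.{u} A} (g : M ⟶ N) (fs : List A)
    (z : TL M fs (-((fs.length : ℕ) : ℤ))) :
    ΦT N fs (TLmap g fs _ z) = g.hom (ΦT M fs z) := by
  obtain ⟨n, c, rfl⟩ := Module.DirectLimit.exists_of z
  rw [TLmap_of, ΦT_of, ΦT_of, ιb_nat]

end Bottom

end Groth.Agent.Lib.Helper8KoszLim
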