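import Groth.Agent.Lib.Helper8KoszDT
import Groth.Agent.Lib.Helper6QCohQcqs

/-!
# Helper8KoszSheaf

Sections of a quasi-coherent module over a union of basic opens `U = ⋃ X_{f_i}` on a qcqs scheme:
kernel and cokernel of `Γ(X, F) → Γ(U, F)` in terms of the colimit Koszul cohomology.
-/

set_option autoImplicit false

namespace Groth.Agent.Lib.Helper8KoszSheaf

open CategoryTheory CategoryTheory.Limits AlgebraicGeometry TopologicalSpace Opposite CohIII
open Groth.Agent.Lib.Helper6 Groth.Agent.Lib.Helper8KoszDT Groth.Agent.Lib.Helper8KoszLim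

universe u

lemma exists_uniform {ι : Type*} [Finite ι] (P : ι → ℕ → Prop)
    (hmono : ∀ i n m, n ≤ m → P i n → P i m) (h : ∀ i, ∃ n, P i n) : ∃ n, ∀ i, P i n := by
  classical
  have := Fintype.ofFinite ι
  choose n hn using h
  exact ⟨Finset.univ.sup n, fun i => hmono i _ _ (Finset.le_sup (Finset.mem_univ i)) (hn i)⟩

variable {X : Scheme.{u}} (F : X.Modules) {R : Type u} [CommRing R] (φ : R →+* Γ(X, ⊤))

/-- the ring map `R → Γ(X, V)` -/
noncomputable def ψ (V : X.Opens) : R →+* Γ(X, V) :=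
  (X.presheaf.map (homOfLE (le_top : V ≤ ⊤)).op).hom.comp φ

lemma ψ_apply (V : X.Opens) (r : R) : ψ φ V r = resf (le_top : V ≤ ⊤) (φ r) := rfl

lemma resf_ψ {U V : X.Opens} (h : V ≤ U) (r : R) : resf h (ψ φ U r) = ψ φ V r := by
  rw [ψ_apply, ψ_apply, resf_resf]

/-- sections of `F` over `V` as an `R`-module -/
def Sec (_φ : R →+* Γ(X, ⊤)) (V : X.Opens) : Type u := Γ(F, V)

noncomputable instance (V : X.Opens) : AddCommGroup (Sec F φ V) :=
  inferInstanceAs (AddCommGroup Γ(F, V))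

noncomputable instance (V : X.Opens) : Module R (Sec F φ V) :=
  Module.compHom Γ(F, V) (ψ φ V)

/-- the underlying section -/
def Sec.val {V : X.Opens} (s : Sec F φ V) : Γ(F, V) := s

/-- the section as an element of the `R`-module -/
def Sec.of {V : X.Opens} (s : Γ(F, V)) : Sec F φ V := s

lemma smul_def {V : X.Opens} (r : R) (s : Sec F φ V) :
    r • s = Sec.of F φ (ψ φ V r • Sec.val F φ s) := rfl

/-- restriction, as an `R`-linear map -/
noncomputable def resL {U V : X.Opens} (h : V ≤ U) : Sec F φ U →ₗ[R] Sec F φ V where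
  toFun s := Sec.of F φ (res F h (Sec.val F φ s))
  map_add' s t := map_add (F.presheaf.map (homOfLE h).op).hom s t
  map_smul' r s := by
    show res F h (ψ φ U r • Sec.val F φ s) = ψ φ V r • res F h (Sec.val F φ s)
    rw [res_smul, resf_ψ]

lemma resL_apply {U V : X.Opens} (h : V ≤ U) (s : Sec F φ U) :
    resL F φ h s = Sec.of F φ (res F h (Sec.val F φ s)) := rfl

lemma resL_resL {U V W : X.Opens} (h₁ : V ≤ U) (h₂ : W ≤ V) (s : Sec F φ U) :
    resL F φ h₂ (resL F φ h₁ s) = resL F φ (h₂.trans h₁) s :=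
  res_res F h₁ h₂ s

lemma isUnit_ψ (g : R) {V : X.Opens} (hV : V ≤ X.basicOpen (φ g)) : IsUnit (ψ φ V g) := by
  have h1 := X.toRingedSpace.isUnit_res_basicOpen (φ g)
  have h2 : ψ φ V g = resf hV (resf (X.basicOpen_le (φ g)) (φ g)) := by
    rw [resf_resf]; rfl
  rw [h2]
  exact h1.map _

lemma smul_bijective (g : R) {V : X.Opens} (hV : V ≤ X.basicOpen (φ g)) (n : ℕ) :
    Function.Bijective (fun s : Sec F φ V => g ^ n • s) := by
  obtain ⟨u, hu⟩ := (isUnit_ψ φ g hV).pow n
  rw [← map_pow] at hu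
  constructor
  · intro s t hst
    have hst' : ψ φ V (g ^ n) • Sec.val F φ s = ψ φ V (g ^ n) • Sec.val F φ t := hst
    rw [← hu] at hst'
    have := congrArg (fun x => (↑u⁻¹ : Γ(X, V)) • x) hst'
    simp only [smul_smul, Units.inv_mul, one_smul] at this
    exact this
  · intro t
    refine ⟨Sec.of F φ ((↑u⁻¹ : Γ(X, V)) • Sec.val F φ t), ?_⟩
    show ψ φ V (g ^ n) • ((↑u⁻¹ : Γ(X, V)) • Sec.val F φ t) = t
    rw [← hu, smul_smul, Units.mul_inv, one_smul]
    rfl

variable (fs : List R)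

/-- the union of the basic opens -/
noncomputable def UU : X.Opens := ⨆ i : Fin fs.length, X.basicOpen (φ (fs.get i))

lemma le_UU (i : Fin fs.length) : X.basicOpen (φ (fs.get i)) ≤ UU φ fs :=
  le_iSup (fun i : Fin fs.length => X.basicOpen (φ (fs.get i))) i

/-- the product of the sections over the basic opens -/
abbrev EE : Type u := ∀ i : Fin fs.length, Sec F φ (X.basicOpen (φ (fs.get i)))

/-- restriction from `U` to the product -/
noncomputable def θ : Sec F φ (UU φ fs) →ₗ[R] EE F φ fs :=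
  LinearMap.pi (fun i => resL F φ (le_UU φ fs i))

/-- restriction from `X` to the product -/
noncomputable def jj : Sec F φ ⊤ →ₗ[R] EE F φ fs :=
  LinearMap.pi (fun _ => resL F φ le_top)

lemma θ_resL (s : Sec F φ ⊤) : θ F φ fs (resL F φ le_top s) = jj F φ fs s := by
  ext i
  exact resL_resL F φ le_top (le_UU φ fs i) s

lemma θ_injective : Function.Injective (θ F φ fs) := by
  intro s t hst
  refine (modSheaf F).eq_of_locally_eq' (fun i : Fin fs.length => X.basicOpen (φ (fs.get i)))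
    (UU φ fs) (fun i => homOfLE (le_UU φ fs i)) le_rfl s t (fun i => ?_)
  exact congrFun hst i

/-- `E` has no Koszul cohomology -/
lemma subsingleton_TL_EE (q : ℤ) : Subsingleton (TL (ModuleCat.of R (EE F φ fs)) fs q) := by
  apply TL_subsingleton_of_level
  intro n
  apply subsingleton_KH_pi (A := R)
    (fun i : Fin fs.length => Sec F φ (X.basicOpen (φ (fs.get i)))) (fs.map (· ^ n)) q
  intro i
  apply Groth.Agent.Lib.Helper8CechKosz.subsingleton_KH_of_bij (fs.map (· ^ n)) (fs.get i ^ n)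
  · apply Ideal.subset_span
    exact List.mem_map.mpr ⟨fs.get i, List.get_mem fs i, rfl⟩
  · exact smul_bijective F φ (fs.get i) le_rfl n

lemma ψ_top (r : R) : ψ φ (⊤ : X.Opens) r = φ r := by
  rw [ψ_apply]
  have : (homOfLE (le_top : (⊤ : X.Opens) ≤ ⊤)) = 𝟙 _ := Subsingleton.elim _ _
  show X.presheaf.map (homOfLE (le_top : (⊤ : X.Opens) ≤ ⊤)).op (φ r) = φ r
  rw [this, op_id, X.presheaf.map_id]
  rfl

lemma pow_smul_mono {P : Type*} [AddCommGroup P] [Module R P] (g : R) (x : P) (n m : ℕ)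
    (h : n ≤ m) (hx : g ^ n • x = 0) : g ^ m • x = 0 := by
  rw [← Nat.sub_add_cancel h, pow_add, mul_smul, hx, smul_zero]

lemma isCompact_UU [CompactSpace X] : IsCompact (UU φ fs).1 := by
  have : ((UU φ fs : X.Opens) : Set X) = ⋃ i : Fin fs.length, (X.basicOpen (φ (fs.get i)) : Set X) := by
    unfold UU
    simp
  show IsCompact ((UU φ fs : X.Opens) : Set X)
  rw [this]
  exact isCompact_iUnion (fun i => AlgebraicGeometry.isCompact_basicOpen X (U := ⊤) CompactSpace.isCompact_univ _)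

section QC

variable [CompactSpace X] [QuasiSeparatedSpace X] [F.IsQuasicoherent]

omit [QuasiSeparatedSpace X] in
/-- the kernel of the restriction to the product is the common power torsion -/
lemma jj_eq_zero_iff (s : Sec F φ ⊤) : jj F φ fs s = 0 ↔ s ∈ pt fs (Sec F φ ⊤) := by
  constructor
  · intro hs
    have h1 : ∀ i : Fin fs.length, ∃ n : ℕ, fs.get i ^ n • s = 0 := by
      intro i
      have hi : res F (le_top : X.basicOpen (φ (fs.get i)) ≤ ⊤) (Sec.val F φ s) = 0 :=
        congrFun hs i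
      obtain ⟨n, hn⟩ := exists_pow_smul_eq_zero_of_isCompact F (U := ⊤)
        CompactSpace.isCompact_univ (φ (fs.get i)) (Sec.val F φ s) hi
      refine ⟨n, ?_⟩
      show ψ φ ⊤ (fs.get i ^ n) • Sec.val F φ s = 0
      rw [ψ_top, map_pow]
      exact hn
    obtain ⟨n, hn⟩ := exists_uniform (fun i n => fs.get i ^ n • s = 0)
      (fun i n m h hx => pow_smul_mono (fs.get i) s n m h hx) h1
    refine ⟨n, fun g hg => ?_⟩
    obtain ⟨i, rfl⟩ := List.mem_iff_get.mp hg
    exact hn i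
  · rintro ⟨n, hn⟩
    funext i
    have h := hn (fs.get i) (List.get_mem fs i)
    have h2 : fs.get i ^ n • (resL F φ (le_top : X.basicOpen (φ (fs.get i)) ≤ ⊤) s) = 0 := by
      rw [← map_smul, h, map_zero]
    exact (smul_bijective F φ (fs.get i) le_rfl n).1 (h2.trans (smul_zero _).symm)

/-- sections over `U` extend to `X` after multiplication by a power of `f_k` -/
lemma raw_ext (s : Γ(F, UU φ fs)) (k : Fin fs.length) :
    ∃ (N : ℕ) (s' : Γ(F, ⊤)), res F (le_top : UU φ fs ≤ ⊤) s' =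
      (ψ φ (UU φ fs) (fs.get k)) ^ N • s := by
  set g : Γ(X, ⊤) := φ (fs.get k) with hg
  set gU : Γ(X, UU φ fs) := resf (le_top : UU φ fs ≤ ⊤) g with hgU
  have hgU' : ψ φ (UU φ fs) (fs.get k) = gU := rfl
  rw [hgU']
  obtain ⟨n, s', hs'⟩ := exists_extension_of_isCompact_of_isQuasiSeparated F (U := ⊤)
    CompactSpace.isCompact_univ isQuasiSeparated_univ g (res F (le_UU φ fs k) s)
  have hb' : X.basicOpen gU ≤ X.basicOpen g := by
    rw [hgU, Scheme.basicOpen_res]; exact inf_le_right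
  have hd : res F (X.basicOpen_le gU) (res F (le_top : UU φ fs ≤ ⊤) s' - gU ^ n • s) = 0 := by
    rw [res_sub, res_smul, res_res, resf_pow, hgU, resf_resf,
      ← res_res F (X.basicOpen_le g) hb', hs', res_smul, resf_pow, resf_resf, res_res, sub_self]
  obtain ⟨m, hm⟩ := exists_pow_smul_eq_zero_of_isCompact F (isCompact_UU φ fs) gU _ hd
  rw [smul_sub, sub_eq_zero, ← mul_smul, ← pow_add] at hm
  refine ⟨m + n, g ^ m • s', ?_⟩
  rw [res_smul, resf_pow]
  exact hm

lemma exists_pow_smul_θ_mem (s : Sec F φ (UU φ fs)) (k : Fin fs.length) :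
    ∃ N : ℕ, fs.get k ^ N • θ F φ fs s ∈ LinearMap.range (jj F φ fs) := by
  obtain ⟨N, s', hs'⟩ := raw_ext F φ fs (Sec.val F φ s) k
  refine ⟨N, Sec.of F φ s', ?_⟩
  rw [← θ_resL, ← map_smul]
  congr 1
  show res F (le_top : UU φ fs ≤ ⊤) s' = ψ φ (UU φ fs) (fs.get k ^ N) • Sec.val F φ s
  rw [map_pow]
  exact hs'

omit [CompactSpace X] [QuasiSeparatedSpace X] [F.IsQuasicoherent] in
/-- gluing: an element of the product which is power-torsion modulo global sections comes from `U` -/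
lemma exists_θ_eq (t : EE F φ fs)
    (ht : ∀ k : Fin fs.length, ∃ n : ℕ, fs.get k ^ n • t ∈ LinearMap.range (jj F φ fs)) :
    ∃ s : Sec F φ (UU φ fs), θ F φ fs s = t := by
  have hcompat : ∀ i k : Fin fs.length,
      resL F φ (inf_le_left : X.basicOpen (φ (fs.get i)) ⊓ X.basicOpen (φ (fs.get k)) ≤ _) (t i) =
        resL F φ (inf_le_right : X.basicOpen (φ (fs.get i)) ⊓ X.basicOpen (φ (fs.get k)) ≤ _)
          (t k) := by
    intro i k
    obtain ⟨n, sk, hsk⟩ := ht k
    have hi : resL F φ (le_top : X.basicOpen (φ (fs.get i)) ≤ ⊤) sk = fs.get k ^ n • t i :=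
      congrFun hsk i
    have hk : resL F φ (le_top : X.basicOpen (φ (fs.get k)) ≤ ⊤) sk = fs.get k ^ n • t k :=
      congrFun hsk k
    apply (smul_bijective F φ (fs.get k)
      (inf_le_right : X.basicOpen (φ (fs.get i)) ⊓ X.basicOpen (φ (fs.get k)) ≤ _) n).1
    show fs.get k ^ n • _ = fs.get k ^ n • _
    rw [← map_smul, ← map_smul, ← hi, ← hk, resL_resL, resL_resL]
  obtain ⟨s, hs, -⟩ := (modSheaf F).existsUnique_gluing'
    (fun i : Fin fs.length => X.basicOpen (φ (fs.get i))) (UU φ fs)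
    (fun i => homOfLE (le_UU φ fs i)) le_rfl (fun i => Sec.val F φ (t i))
    (fun i k => hcompat i k)
  refine ⟨Sec.of F φ s, ?_⟩
  funext i
  exact hs i

end QC

section Final

variable {M : Type u} [AddCommGroup M] [Module R M] (ρ : M ≃ₗ[R] Sec F φ ⊤)

/-- the composite `M → Γ(X, F) → ∏ Γ(X_{f_i}, F)` -/
noncomputable def φM : ModuleCat.of R M ⟶ ModuleCat.of R (EE F φ fs) :=
  ModuleCat.ofHom (jj F φ fs ∘ₗ ρ.toLinearMap)

/-- the composite `M → Γ(X, F) → Γ(U, F)` -/
noncomputable def rU : M →ₗ[R] Sec F φ (UU φ fs) := resL F φ le_top ∘ₗ ρ.toLinearMap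

lemma φM_apply (x : M) : (φM F φ fs ρ).hom x = jj F φ fs (ρ x) := rfl

lemma rU_apply (x : M) : rU F φ fs ρ x = resL F φ le_top (ρ x) := rfl

variable [CompactSpace X] [QuasiSeparatedSpace X] [F.IsQuasicoherent]

omit [QuasiSeparatedSpace X] in
lemma φM_eq_zero_iff (x : M) : (φM F φ fs ρ).hom x = 0 ↔ x ∈ pt fs M := by
  rw [φM_apply, jj_eq_zero_iff, mem_pt, mem_pt]
  constructor
  · rintro ⟨n, hn⟩
    refine ⟨n, fun g hg => ρ.injective ?_⟩
    rw [map_smul, map_zero]
    exact hn g hg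
  · rintro ⟨n, hn⟩
    refine ⟨n, fun g hg => ?_⟩
    rw [← map_smul, hn g hg, map_zero]

omit [QuasiSeparatedSpace X] in
theorem nonempty_ker (j : ℤ) (hj : j = -((fs.length : ℕ) : ℤ)) :
    Nonempty (LinearMap.ker (rU F φ fs ρ) ≃ₗ[R] TL (ModuleCat.of R M) fs j) := by
  have hker : LinearMap.ker (rU F φ fs ρ) = LinearMap.ker (φM F φ fs ρ).hom := by
    ext x
    rw [LinearMap.mem_ker, LinearMap.mem_ker, φM_apply, rU_apply, ← θ_resL]
    constructor
    · intro h
      rw [h, map_zero]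
    · intro h
      exact θ_injective F φ fs (h.trans (map_zero _).symm)
  obtain ⟨e⟩ := nonempty_ker_equiv fs (φM F φ fs ρ) (φM_eq_zero_iff F φ fs ρ) j hj
  exact ⟨(LinearEquiv.ofEq _ _ hker).trans e⟩

theorem nonempty_coker (j : ℤ) (hj : -((fs.length : ℕ) : ℤ) + 1 = j) :
    Nonempty ((Sec F φ (UU φ fs) ⧸ LinearMap.range (rU F φ fs ρ)) ≃ₗ[R]
      TL (ModuleCat.of R M) fs j) := by
  obtain ⟨e⟩ := nonempty_coker_equiv fs (φM F φ fs ρ)
    (fun x hx => (φM_eq_zero_iff F φ fs ρ x).mp hx) (subsingleton_TL_EE F φ fs) j hj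
  set Q : Submodule R (EE F φ fs) := LinearMap.range (φM F φ fs ρ).hom with hQ
  let Θ : Sec F φ (UU φ fs) →ₗ[R] (EE F φ fs ⧸ Q) := Q.mkQ ∘ₗ θ F φ fs
  have hΘ : ∀ s, Θ s = Submodule.Quotient.mk (θ F φ fs s) := fun s => rfl
  have hrange_eq : Q = LinearMap.range (jj F φ fs) := by
    apply le_antisymm
    · rintro _ ⟨x, rfl⟩
      exact ⟨ρ x, rfl⟩
    · rintro _ ⟨y, rfl⟩
      exact ⟨ρ.symm y, by rw [φM_apply, ρ.apply_symm_apply]⟩
  have hΘker : LinearMap.ker Θ = LinearMap.range (rU F φ fs ρ) := by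
    ext s
    rw [LinearMap.mem_ker, hΘ, Submodule.Quotient.mk_eq_zero]
    constructor
    · rintro ⟨x, hx⟩
      refine ⟨x, θ_injective F φ fs ?_⟩
      rw [rU_apply, θ_resL]
      exact hx
    · rintro ⟨x, rfl⟩
      exact ⟨x, (θ_resL F φ fs (ρ x)).symm⟩
  have hΘrange : LinearMap.range Θ = pt fs (EE F φ fs ⧸ Q) := by
    ext y
    constructor
    · rintro ⟨s, rfl⟩
      obtain ⟨N, hN⟩ := exists_uniform (fun k N => fs.get k ^ N • θ F φ fs s ∈ Q)
        (fun k n m h hx => by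
          rw [← Nat.sub_add_cancel h, pow_add, mul_smul]
          exact Q.smul_mem _ hx)
        (fun k => by
          rw [hrange_eq]
          exact exists_pow_smul_θ_mem F φ fs s k)
      refine ⟨N, fun g hg => ?_⟩
      obtain ⟨k, rfl⟩ := List.mem_iff_get.mp hg
      rw [hΘ, ← Submodule.Quotient.mk_smul, Submodule.Quotient.mk_eq_zero]
      exact hN k
    · rintro ⟨n, hn⟩
      obtain ⟨t, rfl⟩ := Submodule.mkQ_surjective Q y
      obtain ⟨s, hs⟩ := exists_θ_eq F φ fs t (fun k => ⟨n, by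
        have := hn (fs.get k) (List.get_mem fs k)
        rw [Submodule.mkQ_apply, ← Submodule.Quotient.mk_smul, Submodule.Quotient.mk_eq_zero,
          hrange_eq] at this
        exact this⟩)
      exact ⟨s, by rw [hΘ, hs]; rfl⟩
  exact ⟨((Submodule.quotEquivOfEq _ _ hΘker.symm).trans (LinearMap.quotKerEquivRange Θ)).trans
    ((LinearEquiv.ofEq _ _ hΘrange).trans e)⟩

end Final

end Groth.Agent.Lib.Helper8KoszSheaf
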