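import Groth.Agent.Lib.Helper8KoszLim2

/-!
# Koszul cohomology of the powers: the top cohomology, naturally (helper8)
-/

namespace Groth.Agent.Lib.Helper8KoszLim

open CategoryTheory CategoryTheory.Limits CochainComplex HomComplex HomotopyCategory CohIII
open Groth.Agent.Lib.Helper21

universe v u

section Top

variable {A : Type u} [CommRing A]

lemma ic_surjective (M : ModuleCat.{u} A) (f : A) (fs : List A) (n : ℕ) (j : ℤ) (hj : 0 ≤ j) :
    Function.Surjective (ic M f fs n j) := by
  intro c
  have hz : IsZero ((Kp M fs n).homology (j + 1)) :=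
    isZero_homology_of_isZero_X _ (j + 1) (isZero_koszulCx_X_pos _ _ (j + 1) (by omega))
  have _ := ModuleCat.subsingleton_of_isZero hz
  exact exists_ic_of_δc M f fs n j (j + 1) rfl c (Subsingleton.elim _ _)

lemma exists_smul_of_ic (M : ModuleCat.{u} A) (f : A) (fs : List A) (n : ℕ) (j : ℤ)
    (d : (Kp M fs n).homology j) (hd : ic M f fs n j d = 0) : ∃ e, f ^ n • e = d := by
  have hex := cone_homology_exact₂ (φc M f fs n) j
  rw [ShortComplex.moduleCat_exact_iff] at hex
  obtain ⟨e, he⟩ := hex d hd
  refine ⟨e, ?_⟩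
  rw [← hφc]
  exact he

/-- the natural surjection from the module to the top Koszul cohomology of the powers -/
noncomputable def πt (M : ModuleCat.{u} A) :
    ∀ (fs : List A) (n : ℕ), M →ₗ[A] (Kp M fs n).homology 0
  | [], _ => (HomologicalComplex.singleObjHomologySelfIso (ComplexShape.up ℤ) 0 M).inv.hom
  | f :: fs, n => ic M f fs n 0 ∘ₗ πt M fs n

lemma πt_cons (M : ModuleCat.{u} A) (f : A) (fs : List A) (n : ℕ) (x : M) :
    πt M (f :: fs) n x = ic M f fs n 0 (πt M fs n x) := rfl

lemma πt_surjective (M : ModuleCat.{u} A) : ∀ (fs : List A) (n : ℕ), Function.Surjective (πt M fs n)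
  | [], _ => (ConcreteCategory.bijective_of_isIso
      (HomologicalComplex.singleObjHomologySelfIso (ComplexShape.up ℤ) 0 M).inv).2
  | f :: fs, n => by
    show Function.Surjective (ic M f fs n 0 ∘ₗ πt M fs n)
    rw [LinearMap.coe_comp]
    exact (ic_surjective M f fs n 0 le_rfl).comp (πt_surjective M fs n)

lemma πt_Tr (M : ModuleCat.{u} A) : ∀ (fs : List A) (n m : ℕ) (h : n ≤ m) (x : M),
    Tr M fs 0 n m h (πt M fs n x) = πt M fs m (fs.prod ^ (m - n) • x)
  | [], n, m, h, x => by
    have : ∀ y, Tr M [] 0 n m h y = y := by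
      intro y
      show (HomologicalComplex.homologyMap (𝟙 (koszulCx M [])) _).hom y = y
      rw [HomologicalComplex.homologyMap_id]
      rfl
    rw [this, List.prod_nil, one_pow, one_smul]
    rfl
  | f :: fs, n, m, h, x => by
    rw [πt_cons, πt_cons, Tr_ic, πt_Tr M fs n m h, ← map_smul, smul_smul, List.prod_cons, mul_pow]

lemma πt_ker (M : ModuleCat.{u} A) : ∀ (fs : List A) (n : ℕ),
    LinearMap.ker (πt M fs n) = Ideal.ofList (fs.map (· ^ n)) • (⊤ : Submodule A M)
  | [], n => by
    have hinj : Function.Injective (πt M [] n) := (ConcreteCategory.bijective_of_isIso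
      (HomologicalComplex.singleObjHomologySelfIso (ComplexShape.up ℤ) 0 M).inv).1
    rw [LinearMap.ker_eq_bot.mpr hinj, List.map_nil, Ideal.ofList_nil, Submodule.bot_smul]
  | f :: fs, n => by
    have ih := πt_ker M fs n
    rw [List.map_cons, Ideal.ofList_cons, Submodule.sup_smul, Submodule.ideal_span_singleton_smul]
    ext x
    rw [LinearMap.mem_ker, πt_cons, Submodule.mem_sup]
    constructor
    · intro hx
      obtain ⟨e, he⟩ := exists_smul_of_ic M f fs n 0 _ hx
      obtain ⟨y, rfl⟩ := πt_surjective M fs n e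
      refine ⟨f ^ n • y, Submodule.smul_mem_pointwise_smul _ _ _ trivial, x - f ^ n • y, ?_, by abel⟩
      rw [← ih, LinearMap.mem_ker, map_sub, map_smul, he, sub_self]
    · rintro ⟨y', hy', z, hz, rfl⟩
      rw [Submodule.mem_smul_pointwise_iff_exists] at hy'
      obtain ⟨y, -, rfl⟩ := hy'
      rw [← ih, LinearMap.mem_ker] at hz
      rw [map_add, hz, add_zero, map_smul, ic_smul]

end Top

end Groth.Agent.Lib.Helper8KoszLim
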