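import Mathlib

/-!
# Cochain complexes of vector spaces: splittings and the total complex of a tensor product (helper8)

Everything is over a field `k`.  A complex is split by a family of maps `g p : X (p+1) → X p` with
`d g d = d`, `g d g = g`, `g g = 0`; then `π = 1 - d g - g d` is a projection onto a complement of the
coboundaries in the cocycles.  On the total complex of a tensor product the maps `1 ⊗ g` and `g ⊗ 1`
are homotopies between the identity and `1 ⊗ π`, `π ⊗ 1`.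
-/

set_option autoImplicit false
set_option linter.unusedSectionVars false
universe u
open TensorProduct

noncomputable section

namespace Groth.Agent.Lib.Helper8.Kun

/-- A cochain complex of vector spaces in degrees `0, 1, 2, …`. -/
structure Cpx (k : Type u) [Field k] where
  /-- the terms -/
  X : ℕ → Type u
  /-- additive structure -/
  [acg : ∀ p, AddCommGroup (X p)]
  /-- linear structure -/
  [mod : ∀ p, Module k (X p)]
  /-- the differentials -/
  d : ∀ p, X p →ₗ[k] X (p + 1)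
  /-- `d ∘ d = 0` -/
  d_d : ∀ (p : ℕ) (x : X p), d (p + 1) (d p x) = 0

attribute [instance] Cpx.acg Cpx.mod

variable {k : Type u} [Field k]

namespace Cpx

variable (C D : Cpx k)

/-- cocycles -/
def cyc (p : ℕ) : Submodule k (C.X p) := LinearMap.ker (C.d p)

/-- coboundaries -/
def bdy : (p : ℕ) → Submodule k (C.X p)
  | 0 => ⊥
  | p + 1 => LinearMap.range (C.d p)

theorem bdy_le_cyc (p : ℕ) : C.bdy p ≤ C.cyc p := by
  cases p with
  | zero => exact bot_le
  | succ p =>
    rintro _ ⟨x, rfl⟩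
    exact C.d_d p x

/-- cohomology -/
abbrev H (p : ℕ) : Type u := ↥(C.cyc p) ⧸ (C.bdy p).comap (C.cyc p).subtype

/-- A generalized inverse of a linear map of vector spaces. -/
theorem exists_ginv {V W : Type u} [AddCommGroup V] [Module k V] [AddCommGroup W] [Module k W]
    (f : V →ₗ[k] W) : ∃ g : W →ₗ[k] V, ∀ x, f (g (f x)) = f x := by
  obtain ⟨r, hr⟩ := LinearMap.exists_leftInverse_of_injective (LinearMap.range f).subtype
    (Submodule.ker_subtype _)
  obtain ⟨s, hs⟩ := LinearMap.exists_rightInverse_of_surjective f.rangeRestrict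
    (LinearMap.range_rangeRestrict f)
  refine ⟨s ∘ₗ r, fun x => ?_⟩
  have h1 : r (f x) = f.rangeRestrict x := LinearMap.congr_fun hr (f.rangeRestrict x)
  have h2 : f.rangeRestrict (s (f.rangeRestrict x)) = f.rangeRestrict x :=
    LinearMap.congr_fun hs (f.rangeRestrict x)
  rw [LinearMap.comp_apply, h1]
  exact congrArg Subtype.val h2

/-- A splitting of a complex. -/
structure Splitting where
  /-- the contracting maps -/
  g : ∀ p, C.X (p + 1) →ₗ[k] C.X p
  dgd : ∀ (p : ℕ) (x : C.X p), C.d p (g p (C.d p x)) = C.d p x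
  gdg : ∀ (p : ℕ) (y : C.X (p + 1)), g p (C.d p (g p y)) = g p y
  gg : ∀ (p : ℕ) (z : C.X (p + 1 + 1)), g p (g (p + 1) z) = 0

theorem exists_splitting : Nonempty C.Splitting := by
  choose g₀ hg₀ using fun p => exists_ginv (C.d p)
  let g₁ : ∀ p, C.X (p + 1) →ₗ[k] C.X p := fun p => g₀ p ∘ₗ C.d p ∘ₗ g₀ p
  have h1 : ∀ (p : ℕ) (x : C.X p), C.d p (g₁ p (C.d p x)) = C.d p x := by
    intro p x
    show C.d p (g₀ p (C.d p (g₀ p (C.d p x)))) = C.d p x
    rw [hg₀, hg₀]
  have h2 : ∀ (p : ℕ) (y : C.X (p + 1)), g₁ p (C.d p (g₁ p y)) = g₁ p y := by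
    intro p y
    show g₀ p (C.d p (g₀ p (C.d p (g₀ p (C.d p (g₀ p y)))))) = g₀ p (C.d p (g₀ p y))
    rw [hg₀, hg₀]
  let g : ∀ p, C.X (p + 1) →ₗ[k] C.X p := fun p =>
    g₁ p ∘ₗ (LinearMap.id - g₁ (p + 1) ∘ₗ C.d (p + 1))
  have hg : ∀ (p : ℕ) (y : C.X (p + 1)), g p y = g₁ p y - g₁ p (g₁ (p + 1) (C.d (p + 1) y)) := by
    intro p y
    show g₁ p (y - g₁ (p + 1) (C.d (p + 1) y)) = _
    rw [map_sub]
  refine ⟨⟨g, ?_, ?_, ?_⟩⟩
  · intro p x
    rw [hg, C.d_d, map_zero, map_zero, sub_zero, h1]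
  · intro p y
    have hw : g p y = g₁ p (y - g₁ (p + 1) (C.d (p + 1) y)) := rfl
    rw [hw, hg, C.d_d, map_zero, map_zero, sub_zero, h2]
  · intro p z
    show g₁ p (g (p + 1) z - g₁ (p + 1) (C.d (p + 1) (g (p + 1) z))) = 0
    have : g (p + 1) z = g₁ (p + 1) (z - g₁ (p + 1 + 1) (C.d (p + 1 + 1) z)) := rfl
    rw [this, h2, sub_self, map_zero]

variable {C}

namespace Splitting

variable (s : C.Splitting)

/-- the projection onto the coboundaries -/
def e1 : (p : ℕ) → C.X p →ₗ[k] C.X p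
  | 0 => 0
  | p + 1 => C.d p ∘ₗ s.g p

/-- the projection onto the "harmonic" part -/
def π (p : ℕ) : C.X p →ₗ[k] C.X p := LinearMap.id - s.e1 p - s.g p ∘ₗ C.d p

theorem π_apply (p : ℕ) (x : C.X p) : s.π p x = x - s.e1 p x - s.g p (C.d p x) := rfl

theorem decomp (p : ℕ) (x : C.X p) : s.π p x + s.e1 p x + s.g p (C.d p x) = x := by
  rw [π_apply]; abel

theorem d_e1 (p : ℕ) (x : C.X p) : C.d p (s.e1 p x) = 0 := by
  cases p with
  | zero => exact map_zero _
  | succ p => exact C.d_d p _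

theorem e1_mem_bdy (p : ℕ) (x : C.X p) : s.e1 p x ∈ C.bdy p := by
  cases p with
  | zero => exact zero_mem _
  | succ p => exact ⟨s.g p x, rfl⟩

theorem d_π (p : ℕ) (x : C.X p) : C.d p (s.π p x) = 0 := by
  rw [π_apply, map_sub, map_sub, d_e1, s.dgd, sub_zero, sub_self]

theorem π_d (p : ℕ) (x : C.X p) : s.π (p + 1) (C.d p x) = 0 := by
  rw [π_apply, C.d_d, map_zero, sub_zero]
  show C.d p x - C.d p (s.g p (C.d p x)) = 0
  rw [s.dgd, sub_self]

theorem π_g (p : ℕ) (y : C.X (p + 1)) : s.π p (s.g p y) = 0 := by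
  rw [π_apply, s.gdg]
  cases p with
  | zero =>
    show s.g 0 y - 0 - s.g 0 y = 0
    abel
  | succ p =>
    show s.g (p + 1) y - C.d p (s.g p (s.g (p + 1) y)) - s.g (p + 1) y = 0
    rw [s.gg, map_zero]
    abel

theorem π_e1 (p : ℕ) (x : C.X p) : s.π p (s.e1 p x) = 0 := by
  cases p with
  | zero => exact map_zero _
  | succ p => exact s.π_d p _

theorem π_π (p : ℕ) (x : C.X p) : s.π p (s.π p x) = s.π p x := by
  conv_lhs => rw [π_apply s p x, map_sub, map_sub, π_e1, π_g, sub_zero, sub_zero]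

theorem π_mem_cyc (p : ℕ) (x : C.X p) : s.π p x ∈ C.cyc p := s.d_π p x

theorem sub_π_mem_bdy (p : ℕ) (z : C.X p) (hz : z ∈ C.cyc p) : z - s.π p z ∈ C.bdy p := by
  have hz0 : C.d p z = 0 := hz
  have : z - s.π p z = s.e1 p z := by
    rw [π_apply, hz0, map_zero]; abel
  rw [this]
  exact s.e1_mem_bdy p z

theorem π_eq_zero_of_mem_bdy (p : ℕ) (b : C.X p) (hb : b ∈ C.bdy p) : s.π p b = 0 := by
  cases p with
  | zero =>
    have : b = 0 := (Submodule.mem_bot k).mp hb
    rw [this, map_zero]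
  | succ p =>
    obtain ⟨x, rfl⟩ := hb
    exact s.π_d p x

theorem mem_bdy_of_π_eq_zero (p : ℕ) (z : C.X p) (hz : z ∈ C.cyc p) (h : s.π p z = 0) :
    z ∈ C.bdy p := by
  have := s.sub_π_mem_bdy p z hz
  rwa [h, sub_zero] at this

/-- The harmonic space. -/
def harm (p : ℕ) : Submodule k (C.X p) := LinearMap.range (s.π p)

theorem harm_le_cyc (p : ℕ) : s.harm p ≤ C.cyc p := by
  rintro _ ⟨x, rfl⟩
  exact s.π_mem_cyc p x

theorem π_of_mem_harm (p : ℕ) (x : C.X p) (hx : x ∈ s.harm p) : s.π p x = x := by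
  obtain ⟨y, rfl⟩ := hx
  exact s.π_π p y

/-- cocycles onto the harmonic space -/
def toHarm (p : ℕ) : ↥(C.cyc p) →ₗ[k] ↥(s.harm p) :=
  (s.π p).rangeRestrict ∘ₗ (C.cyc p).subtype

theorem toHarm_surjective (p : ℕ) : Function.Surjective (s.toHarm p) := by
  rintro ⟨y, hy⟩
  refine ⟨⟨y, s.harm_le_cyc p hy⟩, ?_⟩
  apply Subtype.ext
  exact s.π_of_mem_harm p y hy

theorem ker_toHarm (p : ℕ) :
    LinearMap.ker (s.toHarm p) = (C.bdy p).comap (C.cyc p).subtype := by
  ext z
  rw [LinearMap.mem_ker, Submodule.mem_comap]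
  constructor
  · intro h
    have h' : s.π p (z : C.X p) = 0 := congrArg Subtype.val h
    exact s.mem_bdy_of_π_eq_zero p z z.2 h'
  · intro h
    apply Subtype.ext
    exact s.π_eq_zero_of_mem_bdy p z h

/-- cohomology is the harmonic space -/
def HEquiv (p : ℕ) : C.H p ≃ₗ[k] ↥(s.harm p) :=
  (Submodule.quotEquivOfEq _ _ (s.ker_toHarm p).symm).trans
    (LinearMap.quotKerEquivOfSurjective (s.toHarm p) (s.toHarm_surjective p))

end Splitting

end Cpx

end Groth.Agent.Lib.Helper8.Kun
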