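import Groth.Agent.Lib.Helper8Kun9

/-!
# The connecting isomorphism in the top range, with its characterisation (helper8)
-/

set_option autoImplicit false
set_option linter.unusedSectionVars false
set_option linter.style.haveILetI false
universe u
open TensorProduct

noncomputable section

namespace Groth.Agent.Lib.Helper8.Kun

variable {k : Type u} [Field k]

namespace Cpx

variable {A B : Cpx k} (a : SubCpx A) (b : SubCpx B)
  (hA : ∀ p, A.cyc (p + 1) ≤ A.bdy (p + 1)) (hB : ∀ q, B.cyc (q + 1) ≤ B.bdy (q + 1))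

include hA hB in
/-- where the cohomology of `A'` and of `B'` vanishes in degrees `≥ n`, the connecting map is an
isomorphism `H^n(W) ≃ H^{n+1}(A' ⊗ B')` -/
theorem exists_deltaEquiv_top (n : ℕ) [∀ p, Module.Finite k (a.cpx.H p)]
    [∀ q, Module.Finite k (b.cpx.H q)] [Module.Finite k (A.H 0)] [Module.Finite k (B.H 0)]
    (ha : ∀ p, n ≤ p → Subsingleton (a.cpx.H p)) (hb : ∀ q, n ≤ q → Subsingleton (b.cpx.H q)) :
    ∃ δ : HW a b n ≃ₗ[k] Htot a.cpx b.cpx (n + 1), IsDelta a b n δ := by
  haveI : ∀ p, Module.Finite k (A.H p) := finite_H_of_exact hA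
  haveI : ∀ q, Module.Finite k (B.H q) := finite_H_of_exact hB
  have hl : ∀ m, n ≤ m → Subsingleton (Htot a.cpx B m) := by
    intro m hm
    apply subsingleton_Htot
    intro i hi
    rcases Nat.lt_or_ge i m with h | h
    · right
      obtain ⟨j, hj⟩ : ∃ j, m - i = j + 1 := ⟨m - i - 1, by omega⟩
      rw [hj]
      exact subsingleton_H_of_exact (j + 1) (hB j)
    · left
      exact ha i (by omega)
  have hr : ∀ m, n ≤ m → Subsingleton (Htot A b.cpx m) := by
    intro m hm
    apply subsingleton_Htot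
    intro i hi
    rcases Nat.eq_zero_or_pos i with h | h
    · right
      subst h
      exact hb m (by omega)
    · left
      obtain ⟨j, rfl⟩ : ∃ j, i = j + 1 := ⟨i - 1, by omega⟩
      exact subsingleton_H_of_exact (j + 1) (hA j)
  haveI := hl n le_rfl
  haveI := hl (n + 1) (Nat.le_succ n)
  haveI := hr n le_rfl
  haveI := hr (n + 1) (Nat.le_succ n)
  obtain ⟨δ, hδ⟩ := exists_deltaEquiv a b n
  exact ⟨δ, hδ⟩

end Cpx

end Groth.Agent.Lib.Helper8.Kun
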