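import Groth.Agent.Lib.Helper8Kun1

/-!
# The total complex of a tensor product of complexes of vector spaces (helper8)
-/

set_option autoImplicit false
set_option linter.unusedSectionVars false
universe u
open TensorProduct

noncomputable section

namespace Groth.Agent.Lib.Helper8.Kun

variable {k : Type u} [Field k]

namespace Cpx

variable (C D : Cpx k)

/-- The ambient space of the total complex: all bidegrees at once. -/
abbrev Tot : Type u := ∀ p q, C.X p ⊗[k] D.X q

variable {C D}

/-- horizontal differential -/
def dLfun (f : Tot C D) : Tot C D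
  | 0, _ => 0
  | p + 1, q => TensorProduct.map (C.d p) LinearMap.id (f p q)

/-- vertical differential, with the usual sign -/
def dRfun (f : Tot C D) : Tot C D
  | _, 0 => 0
  | p, q + 1 => ((-1 : k) ^ p) • TensorProduct.map LinearMap.id (D.d q) (f p q)

variable (C D)

/-- horizontal differential -/
def dL : Tot C D →ₗ[k] Tot C D where
  toFun := dLfun
  map_add' f g := by
    funext p q
    cases p with
    | zero => exact (add_zero _).symm
    | succ p => exact map_add _ _ _
  map_smul' c f := by
    funext p q
    cases p with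
    | zero => exact (smul_zero c).symm
    | succ p =>
      show TensorProduct.map (C.d p) LinearMap.id (c • f p q) = c • _
      rw [map_smul]
      rfl

/-- vertical differential -/
def dR : Tot C D →ₗ[k] Tot C D where
  toFun := dRfun
  map_add' f g := by
    funext p q
    cases q with
    | zero => exact (add_zero _).symm
    | succ q =>
      show ((-1 : k) ^ p) • TensorProduct.map LinearMap.id (D.d q) (f p q + g p q) = _
      rw [map_add, smul_add]
      rfl
  map_smul' c f := by
    funext p q
    cases q with
    | zero => exact (smul_zero c).symm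
    | succ q =>
      show ((-1 : k) ^ p) • TensorProduct.map LinearMap.id (D.d q) (c • f p q) = _
      rw [map_smul, smul_comm]
      rfl

/-- total differential -/
def Dt : Tot C D →ₗ[k] Tot C D := dL C D + dR C D

variable {C D}

@[simp] theorem dL_zero (f : Tot C D) (q : ℕ) : dL C D f 0 q = 0 := rfl
@[simp] theorem dL_succ (f : Tot C D) (p q : ℕ) :
    dL C D f (p + 1) q = TensorProduct.map (C.d p) LinearMap.id (f p q) := rfl
@[simp] theorem dR_zero (f : Tot C D) (p : ℕ) : dR C D f p 0 = 0 := rfl
@[simp] theorem dR_succ (f : Tot C D) (p q : ℕ) :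
    dR C D f p (q + 1) = ((-1 : k) ^ p) • TensorProduct.map LinearMap.id (D.d q) (f p q) := rfl

theorem Dt_apply (f : Tot C D) (p q : ℕ) : Dt C D f p q = dL C D f p q + dR C D f p q := rfl

theorem dL_dL (f : Tot C D) : dL C D (dL C D f) = 0 := by
  funext p q
  cases p with
  | zero => rfl
  | succ p =>
    cases p with
    | zero =>
      show TensorProduct.map (C.d 0) LinearMap.id (0 : C.X 0 ⊗[k] D.X q) = 0
      exact map_zero _
    | succ p =>
      show TensorProduct.map (C.d (p + 1)) LinearMap.id
        (TensorProduct.map (C.d p) LinearMap.id (f p q)) = 0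
      rw [TensorProduct.map_map]
      have : C.d (p + 1) ∘ₗ C.d p = 0 := LinearMap.ext fun x => C.d_d p x
      rw [this, TensorProduct.map_zero_left]
      rfl

theorem dR_dR (f : Tot C D) : dR C D (dR C D f) = 0 := by
  funext p q
  cases q with
  | zero => rfl
  | succ q =>
    cases q with
    | zero =>
      show ((-1 : k) ^ p) • TensorProduct.map LinearMap.id (D.d 0) (0 : C.X p ⊗[k] D.X 0) = 0
      rw [map_zero, smul_zero]
    | succ q =>
      show ((-1 : k) ^ p) • TensorProduct.map LinearMap.id (D.d (q + 1))
        (((-1 : k) ^ p) • TensorProduct.map LinearMap.id (D.d q) (f p q)) = 0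
      rw [map_smul, TensorProduct.map_map]
      have : D.d (q + 1) ∘ₗ D.d q = 0 := LinearMap.ext fun x => D.d_d q x
      rw [this, TensorProduct.map_zero_right]
      simp

theorem dL_dR_add (f : Tot C D) : dL C D (dR C D f) + dR C D (dL C D f) = 0 := by
  funext p q
  cases p with
  | zero =>
    cases q with
    | zero => exact add_zero (0 : C.X 0 ⊗[k] D.X 0)
    | succ q =>
      show (0 : C.X 0 ⊗[k] D.X (q + 1)) +
        ((-1 : k) ^ 0) • TensorProduct.map LinearMap.id (D.d q) (0 : C.X 0 ⊗[k] D.X q) = 0
      rw [map_zero, smul_zero, add_zero]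
  | succ p =>
    cases q with
    | zero =>
      show TensorProduct.map (C.d p) LinearMap.id (0 : C.X p ⊗[k] D.X 0) + 0 = 0
      rw [map_zero, add_zero]
    | succ q =>
      show TensorProduct.map (C.d p) LinearMap.id
          (((-1 : k) ^ p) • TensorProduct.map LinearMap.id (D.d q) (f p q)) +
        ((-1 : k) ^ (p + 1)) • TensorProduct.map LinearMap.id (D.d q)
          (TensorProduct.map (C.d p) LinearMap.id (f p q)) = 0
      rw [map_smul, TensorProduct.map_map, TensorProduct.map_map, LinearMap.comp_id,
        LinearMap.id_comp, LinearMap.comp_id, LinearMap.id_comp, pow_succ, mul_neg, mul_one,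
        neg_smul, add_neg_cancel]

theorem Dt_Dt (f : Tot C D) : Dt C D (Dt C D f) = 0 := by
  show (dL C D + dR C D) ((dL C D + dR C D) f) = 0
  rw [LinearMap.add_apply, LinearMap.add_apply, map_add, map_add, dL_dL, dR_dR,
    zero_add, add_zero]
  exact dL_dR_add f

/-- elements of total degree `n` -/
def supp (C D : Cpx k) (n : ℕ) : Submodule k (Tot C D) where
  carrier := {f | ∀ p q, p + q ≠ n → f p q = 0}
  zero_mem' := fun _ _ _ => rfl
  add_mem' := by
    intro f g hf hg p q h
    show f p q + g p q = 0
    rw [hf p q h, hg p q h, add_zero]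
  smul_mem' := by
    intro c f hf p q h
    show c • f p q = 0
    rw [hf p q h, smul_zero]

theorem mem_supp {n : ℕ} {f : Tot C D} : f ∈ supp C D n ↔ ∀ p q, p + q ≠ n → f p q = 0 := Iff.rfl

theorem Dt_mem_supp {n : ℕ} {f : Tot C D} (hf : f ∈ supp C D n) : Dt C D f ∈ supp C D (n + 1) := by
  intro p q h
  rw [Dt_apply]
  have h1 : dL C D f p q = 0 := by
    cases p with
    | zero => rfl
    | succ p =>
      rw [dL_succ, hf p q (by omega), map_zero]
  have h2 : dR C D f p q = 0 := by
    cases q with
    | zero => rfl
    | succ q =>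
      rw [dR_succ, hf p q (by omega), map_zero, smul_zero]
  rw [h1, h2, add_zero]

section Homotopy

variable (s : C.Splitting) (t : D.Splitting)

/-- the contraction in the first variable -/
def S1 : Tot C D →ₗ[k] Tot C D where
  toFun f := fun p q => TensorProduct.map (s.g p) LinearMap.id (f (p + 1) q)
  map_add' f g := by
    funext p q
    exact map_add _ _ _
  map_smul' c f := by
    funext p q
    exact map_smul (TensorProduct.map (s.g p) LinearMap.id) c (f (p + 1) q)

/-- the contraction in the second variable -/
def S2 : Tot C D →ₗ[k] Tot C D where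
  toFun f := fun p q => ((-1 : k) ^ p) • TensorProduct.map LinearMap.id (t.g q) (f p (q + 1))
  map_add' f g := by
    funext p q
    show ((-1 : k) ^ p) • TensorProduct.map LinearMap.id (t.g q) (f p (q + 1) + g p (q + 1)) = _
    rw [map_add, smul_add]
    rfl
  map_smul' c f := by
    funext p q
    show ((-1 : k) ^ p) • TensorProduct.map LinearMap.id (t.g q) (c • f p (q + 1)) = _
    rw [map_smul, smul_comm]
    rfl

/-- the projection in the first variable -/
def P1 : Tot C D →ₗ[k] Tot C D where
  toFun f := fun p q => TensorProduct.map (s.π p) LinearMap.id (f p q)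
  map_add' f g := by
    funext p q
    exact map_add _ _ _
  map_smul' c f := by
    funext p q
    exact map_smul (TensorProduct.map (s.π p) LinearMap.id) c (f p q)

/-- the projection in the second variable -/
def P2 : Tot C D →ₗ[k] Tot C D where
  toFun f := fun p q => TensorProduct.map LinearMap.id (t.π q) (f p q)
  map_add' f g := by
    funext p q
    exact map_add _ _ _
  map_smul' c f := by
    funext p q
    exact map_smul (TensorProduct.map LinearMap.id (t.π q)) c (f p q)

@[simp] theorem S1_apply (f : Tot C D) (p q : ℕ) :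
    S1 (D := D) s f p q = TensorProduct.map (s.g p) LinearMap.id (f (p + 1) q) := rfl
@[simp] theorem S2_apply (f : Tot C D) (p q : ℕ) :
    S2 (C := C) t f p q =
      ((-1 : k) ^ p) • TensorProduct.map LinearMap.id (t.g q) (f p (q + 1)) := rfl
@[simp] theorem P1_apply (f : Tot C D) (p q : ℕ) :
    P1 (D := D) s f p q = TensorProduct.map (s.π p) LinearMap.id (f p q) := rfl
@[simp] theorem P2_apply (f : Tot C D) (p q : ℕ) :
    P2 (C := C) t f p q = TensorProduct.map LinearMap.id (t.π q) (f p q) := rfl

theorem neg_one_pow_mul_self (p : ℕ) : ((-1 : k) ^ p) * ((-1 : k) ^ p) = 1 := by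
  rw [← mul_pow, neg_mul_neg, one_mul, one_pow]

/-! ### the homotopy in the second variable -/

theorem dL_S2_add (f : Tot C D) : dL C D (S2 t f) + S2 t (dL C D f) = 0 := by
  funext p q
  cases p with
  | zero =>
    show (0 : C.X 0 ⊗[k] D.X q) +
      ((-1 : k) ^ 0) • TensorProduct.map LinearMap.id (t.g q) (0 : C.X 0 ⊗[k] D.X (q + 1)) = 0
    rw [map_zero, smul_zero, add_zero]
  | succ p =>
    show TensorProduct.map (C.d p) LinearMap.id
        (((-1 : k) ^ p) • TensorProduct.map LinearMap.id (t.g q) (f p (q + 1))) +
      ((-1 : k) ^ (p + 1)) • TensorProduct.map LinearMap.id (t.g q)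
        (TensorProduct.map (C.d p) LinearMap.id (f p (q + 1))) = 0
    rw [map_smul, TensorProduct.map_map, TensorProduct.map_map, LinearMap.comp_id,
      LinearMap.id_comp, LinearMap.comp_id, LinearMap.id_comp, pow_succ, mul_neg, mul_one,
      neg_smul, add_neg_cancel]

theorem dR_S2 (f : Tot C D) (p q : ℕ) :
    dR C D (S2 t f) p q = TensorProduct.map LinearMap.id (t.e1 q) (f p q) := by
  cases q with
  | zero =>
    show (0 : C.X p ⊗[k] D.X 0) = TensorProduct.map LinearMap.id (0 : D.X 0 →ₗ[k] D.X 0) (f p 0)
    rw [TensorProduct.map_zero_right]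
    rfl
  | succ q =>
    show ((-1 : k) ^ p) • TensorProduct.map LinearMap.id (D.d q)
        (((-1 : k) ^ p) • TensorProduct.map LinearMap.id (t.g q) (f p (q + 1))) =
      TensorProduct.map LinearMap.id (D.d q ∘ₗ t.g q) (f p (q + 1))
    rw [map_smul, smul_smul, neg_one_pow_mul_self, one_smul, TensorProduct.map_map,
      LinearMap.comp_id]

theorem S2_dR (f : Tot C D) (p q : ℕ) :
    S2 t (dR C D f) p q = TensorProduct.map LinearMap.id (t.g q ∘ₗ D.d q) (f p q) := by
  show ((-1 : k) ^ p) • TensorProduct.map LinearMap.id (t.g q)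
      (((-1 : k) ^ p) • TensorProduct.map LinearMap.id (D.d q) (f p q)) = _
  rw [map_smul, smul_smul, neg_one_pow_mul_self, one_smul, TensorProduct.map_map,
    LinearMap.comp_id]

theorem map_right_decomp {V : Type u} [AddCommGroup V] [Module k V] (q : ℕ)
    (x : V ⊗[k] D.X q) :
    TensorProduct.map LinearMap.id (t.π q) x + TensorProduct.map LinearMap.id (t.e1 q) x +
      TensorProduct.map LinearMap.id (t.g q ∘ₗ D.d q) x = x := by
  have h : t.π q + t.e1 q + t.g q ∘ₗ D.d q = LinearMap.id := LinearMap.ext fun y => t.decomp q y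
  have : TensorProduct.map (LinearMap.id : V →ₗ[k] V) (t.π q + t.e1 q + t.g q ∘ₗ D.d q) x = x := by
    rw [h, TensorProduct.map_id]
    rfl
  rw [TensorProduct.map_add_right, TensorProduct.map_add_right] at this
  exact this

theorem map_left_decomp {V : Type u} [AddCommGroup V] [Module k V] (p : ℕ)
    (x : C.X p ⊗[k] V) :
    TensorProduct.map (s.π p) LinearMap.id x + TensorProduct.map (s.e1 p) LinearMap.id x +
      TensorProduct.map (s.g p ∘ₗ C.d p) LinearMap.id x = x := by
  have h : s.π p + s.e1 p + s.g p ∘ₗ C.d p = LinearMap.id := LinearMap.ext fun y => s.decomp p y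
  have : TensorProduct.map (s.π p + s.e1 p + s.g p ∘ₗ C.d p) (LinearMap.id : V →ₗ[k] V) x = x := by
    rw [h, TensorProduct.map_id]
    rfl
  rw [TensorProduct.map_add_left, TensorProduct.map_add_left] at this
  exact this

/-- `D S₂ + S₂ D + P₂ = 1`. -/
theorem homotopy2 (f : Tot C D) : Dt C D (S2 t f) + S2 t (Dt C D f) + P2 t f = f := by
  have h1 : Dt C D (S2 t f) + S2 t (Dt C D f) =
      (dL C D (S2 t f) + S2 t (dL C D f)) + (dR C D (S2 t f) + S2 t (dR C D f)) := by
    show (dL C D + dR C D) (S2 t f) + S2 t ((dL C D + dR C D) f) = _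
    rw [LinearMap.add_apply, LinearMap.add_apply, map_add]
    abel
  rw [h1, dL_S2_add, zero_add]
  funext p q
  show dR C D (S2 t f) p q + S2 t (dR C D f) p q + P2 t f p q = f p q
  rw [dR_S2, S2_dR, P2_apply]
  have := map_right_decomp t q (f p q)
  rw [add_comm, ← add_assoc]
  exact this

/-! ### the homotopy in the first variable -/

theorem dR_S1_add (f : Tot C D) : dR C D (S1 s f) + S1 s (dR C D f) = 0 := by
  funext p q
  cases q with
  | zero =>
    show (0 : C.X p ⊗[k] D.X 0) +
      TensorProduct.map (s.g p) LinearMap.id (0 : C.X (p + 1) ⊗[k] D.X 0) = 0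
    rw [map_zero, add_zero]
  | succ q =>
    show ((-1 : k) ^ p) • TensorProduct.map LinearMap.id (D.d q)
        (TensorProduct.map (s.g p) LinearMap.id (f (p + 1) q)) +
      TensorProduct.map (s.g p) LinearMap.id
        (((-1 : k) ^ (p + 1)) • TensorProduct.map LinearMap.id (D.d q) (f (p + 1) q)) = 0
    rw [map_smul, TensorProduct.map_map, TensorProduct.map_map, LinearMap.comp_id,
      LinearMap.id_comp, LinearMap.comp_id, LinearMap.id_comp, pow_succ, mul_neg, mul_one,
      neg_smul, add_neg_cancel]

theorem dL_S1 (f : Tot C D) (p q : ℕ) :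
    dL C D (S1 s f) p q = TensorProduct.map (s.e1 p) LinearMap.id (f p q) := by
  cases p with
  | zero =>
    show (0 : C.X 0 ⊗[k] D.X q) = TensorProduct.map (0 : C.X 0 →ₗ[k] C.X 0) LinearMap.id (f 0 q)
    rw [TensorProduct.map_zero_left]
    rfl
  | succ p =>
    show TensorProduct.map (C.d p) LinearMap.id
        (TensorProduct.map (s.g p) LinearMap.id (f (p + 1) q)) =
      TensorProduct.map (C.d p ∘ₗ s.g p) LinearMap.id (f (p + 1) q)
    rw [TensorProduct.map_map, LinearMap.comp_id]

theorem S1_dL (f : Tot C D) (p q : ℕ) :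
    S1 s (dL C D f) p q = TensorProduct.map (s.g p ∘ₗ C.d p) LinearMap.id (f p q) := by
  show TensorProduct.map (s.g p) LinearMap.id
      (TensorProduct.map (C.d p) LinearMap.id (f p q)) = _
  rw [TensorProduct.map_map, LinearMap.comp_id]

/-- `D S₁ + S₁ D + P₁ = 1`. -/
theorem homotopy1 (f : Tot C D) : Dt C D (S1 s f) + S1 s (Dt C D f) + P1 s f = f := by
  have h1 : Dt C D (S1 s f) + S1 s (Dt C D f) =
      (dR C D (S1 s f) + S1 s (dR C D f)) + (dL C D (S1 s f) + S1 s (dL C D f)) := by
    show (dL C D + dR C D) (S1 s f) + S1 s ((dL C D + dR C D) f) = _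
    rw [LinearMap.add_apply, LinearMap.add_apply, map_add]
    abel
  rw [h1, dR_S1_add, zero_add]
  funext p q
  show dL C D (S1 s f) p q + S1 s (dL C D f) p q + P1 s f p q = f p q
  rw [dL_S1, S1_dL, P1_apply]
  have := map_left_decomp s p (f p q)
  rw [add_comm, ← add_assoc]
  exact this

end Homotopy

end Cpx

end Groth.Agent.Lib.Helper8.Kun
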