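import Groth.Agent.Lib.Helper8Kun2

/-!
# The Künneth formula for the total complex of a tensor product of complexes of vector spaces
(helper8)
-/

set_option autoImplicit false
set_option linter.unusedSectionVars false
set_option linter.style.haveILetI false
universe u
open TensorProduct

noncomputable section

namespace Groth.Agent.Lib.Helper8.Kun

variable {k : Type u} [Field k]

namespace Cpx

variable {C D : Cpx k}

/-- cocycles of total degree `n` -/
def totCyc (C D : Cpx k) (n : ℕ) : Submodule k (Tot C D) := supp C D n ⊓ LinearMap.ker (Dt C D)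

/-- coboundaries of total degree `n` -/
def totBdy (C D : Cpx k) : (n : ℕ) → Submodule k (Tot C D)
  | 0 => ⊥
  | n + 1 => (supp C D n).map (Dt C D)

theorem totBdy_le_totCyc (n : ℕ) : totBdy C D n ≤ totCyc C D n := by
  cases n with
  | zero => exact bot_le
  | succ n =>
    rintro _ ⟨u, hu, rfl⟩
    exact ⟨Dt_mem_supp hu, Dt_Dt u⟩

/-- cohomology of the total complex -/
abbrev Htot (C D : Cpx k) (n : ℕ) : Type u :=
  ↥(totCyc C D n) ⧸ (totBdy C D n).comap (totCyc C D n).subtype

variable (s : C.Splitting) (t : D.Splitting)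

theorem S1_mem_supp {n : ℕ} {f : Tot C D} (hf : f ∈ supp C D (n + 1)) :
    S1 s f ∈ supp C D n := by
  intro p q h
  rw [S1_apply, hf (p + 1) q (by omega), map_zero]

theorem S2_mem_supp {n : ℕ} {f : Tot C D} (hf : f ∈ supp C D (n + 1)) :
    S2 t f ∈ supp C D n := by
  intro p q h
  rw [S2_apply, hf p (q + 1) (by omega), map_zero, smul_zero]

theorem S1_eq_zero {f : Tot C D} (hf : f ∈ supp C D 0) : S1 s f = 0 := by
  funext p q
  rw [S1_apply, hf (p + 1) q (by omega), map_zero]
  rfl

theorem S2_eq_zero {f : Tot C D} (hf : f ∈ supp C D 0) : S2 t f = 0 := by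
  funext p q
  rw [S2_apply, hf p (q + 1) (by omega), map_zero, smul_zero]
  rfl

theorem P1_mem_supp {n : ℕ} {f : Tot C D} (hf : f ∈ supp C D n) : P1 s f ∈ supp C D n := by
  intro p q h
  rw [P1_apply, hf p q h, map_zero]

theorem P2_mem_supp {n : ℕ} {f : Tot C D} (hf : f ∈ supp C D n) : P2 t f ∈ supp C D n := by
  intro p q h
  rw [P2_apply, hf p q h, map_zero]

/-- the projection onto the harmonic part -/
def Φ : Tot C D →ₗ[k] Tot C D := P1 s ∘ₗ P2 t

theorem Φ_apply (f : Tot C D) (p q : ℕ) :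
    Φ s t f p q = TensorProduct.map (s.π p) (t.π q) (f p q) := by
  show TensorProduct.map (s.π p) LinearMap.id
    (TensorProduct.map LinearMap.id (t.π q) (f p q)) = _
  rw [TensorProduct.map_map, LinearMap.comp_id, LinearMap.id_comp]

theorem Φ_mem_supp {n : ℕ} {f : Tot C D} (hf : f ∈ supp C D n) : Φ s t f ∈ supp C D n :=
  P1_mem_supp s (P2_mem_supp t hf)

theorem Φ_Φ (f : Tot C D) : Φ s t (Φ s t f) = Φ s t f := by
  funext p q
  rw [Φ_apply, Φ_apply, TensorProduct.map_map]
  have h1 : s.π p ∘ₗ s.π p = s.π p := LinearMap.ext fun x => s.π_π p x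
  have h2 : t.π q ∘ₗ t.π q = t.π q := LinearMap.ext fun x => t.π_π q x
  rw [h1, h2]

theorem Φ_Dt (u : Tot C D) : Φ s t (Dt C D u) = 0 := by
  funext p q
  rw [Φ_apply, Dt_apply, map_add]
  have h1 : TensorProduct.map (s.π p) (t.π q) (dL C D u p q) = 0 := by
    cases p with
    | zero => exact map_zero _
    | succ p =>
      rw [dL_succ, TensorProduct.map_map]
      have : s.π (p + 1) ∘ₗ C.d p = 0 := LinearMap.ext fun x => s.π_d p x
      rw [this, TensorProduct.map_zero_left]
      rfl
  have h2 : TensorProduct.map (s.π p) (t.π q) (dR C D u p q) = 0 := by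
    cases q with
    | zero => exact map_zero _
    | succ q =>
      rw [dR_succ, map_smul, TensorProduct.map_map]
      have : t.π (q + 1) ∘ₗ D.d q = 0 := LinearMap.ext fun x => t.π_d q x
      rw [this, TensorProduct.map_zero_right]
      exact smul_zero _
  rw [h1, h2, add_zero]
  rfl

theorem Dt_Φ (f : Tot C D) : Dt C D (Φ s t f) = 0 := by
  funext p q
  rw [Dt_apply]
  have h1 : dL C D (Φ s t f) p q = 0 := by
    cases p with
    | zero => rfl
    | succ p =>
      rw [dL_succ, Φ_apply, TensorProduct.map_map]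
      have : C.d p ∘ₗ s.π p = 0 := LinearMap.ext fun x => s.d_π p x
      rw [this, TensorProduct.map_zero_left]
      rfl
  have h2 : dR C D (Φ s t f) p q = 0 := by
    cases q with
    | zero => rfl
    | succ q =>
      rw [dR_succ, Φ_apply, TensorProduct.map_map]
      have : D.d q ∘ₗ t.π q = 0 := LinearMap.ext fun x => t.d_π q x
      rw [this, TensorProduct.map_zero_right]
      exact smul_zero _
  rw [h1, h2, add_zero]
  rfl

/-- A cocycle differs from its harmonic projection by a coboundary. -/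
theorem sub_Φ_mem_totBdy {n : ℕ} {f : Tot C D} (hf : f ∈ totCyc C D n) :
    f - Φ s t f ∈ totBdy C D n := by
  obtain ⟨hsupp, hcyc⟩ := hf
  have hcyc' : Dt C D f = 0 := hcyc
  have e2 : Dt C D (S2 t f) + P2 t f = f := by
    have := homotopy2 t f
    rwa [hcyc', map_zero, add_zero] at this
  have hP2 : Dt C D (P2 t f) = 0 := by
    have h : P2 t f = f - Dt C D (S2 t f) := eq_sub_of_add_eq' e2
    rw [h, map_sub, hcyc', Dt_Dt, sub_zero]
  have e1 : Dt C D (S1 s (P2 t f)) + Φ s t f = P2 t f := by
    have := homotopy1 s (P2 t f)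
    rwa [hP2, map_zero, add_zero] at this
  have key : f - Φ s t f = Dt C D (S2 t f + S1 s (P2 t f)) := by
    rw [map_add, sub_eq_iff_eq_add, add_assoc, e1, e2]
  rw [key]
  cases n with
  | zero =>
    rw [S2_eq_zero t hsupp, S1_eq_zero s (P2_mem_supp t hsupp), add_zero, map_zero]
    exact zero_mem _
  | succ n =>
    exact ⟨_, add_mem (S2_mem_supp t hsupp) (S1_mem_supp s (P2_mem_supp t hsupp)), rfl⟩

/-- the harmonic elements of total degree `n` -/
def harmT (n : ℕ) : Submodule k (Tot C D) :=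
  supp C D n ⊓ LinearMap.ker (Φ s t - LinearMap.id)

theorem mem_harmT {n : ℕ} {f : Tot C D} : f ∈ harmT s t n ↔ f ∈ supp C D n ∧ Φ s t f = f := by
  unfold harmT
  rw [Submodule.mem_inf, LinearMap.mem_ker, LinearMap.sub_apply, sub_eq_zero]
  rfl

theorem harmT_le_totCyc (n : ℕ) : harmT s t n ≤ totCyc C D n := by
  intro f hf
  obtain ⟨h1, h2⟩ := (mem_harmT s t).mp hf
  refine ⟨h1, ?_⟩
  show Dt C D f = 0
  rw [← h2, Dt_Φ]

/-- cocycles onto harmonic elements -/
def toHarmT (n : ℕ) : ↥(totCyc C D n) →ₗ[k] ↥(harmT s t n) :=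
  LinearMap.codRestrict (harmT s t n) (Φ s t ∘ₗ (totCyc C D n).subtype)
    (fun f => (mem_harmT s t).mpr ⟨Φ_mem_supp s t f.2.1, Φ_Φ s t _⟩)

theorem toHarmT_surjective (n : ℕ) : Function.Surjective (toHarmT s t n) := by
  rintro ⟨f, hf⟩
  refine ⟨⟨f, harmT_le_totCyc s t n hf⟩, ?_⟩
  apply Subtype.ext
  exact ((mem_harmT s t).mp hf).2

theorem ker_toHarmT (n : ℕ) :
    LinearMap.ker (toHarmT s t n) = (totBdy C D n).comap (totCyc C D n).subtype := by
  ext f
  rw [LinearMap.mem_ker, Submodule.mem_comap]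
  constructor
  · intro h
    have h' : Φ s t (f : Tot C D) = 0 := congrArg Subtype.val h
    have := sub_Φ_mem_totBdy s t f.2
    rwa [h', sub_zero] at this
  · intro h
    apply Subtype.ext
    show Φ s t (f : Tot C D) = 0
    have hf : (f : Tot C D) ∈ totBdy C D n := h
    cases n with
    | zero =>
      have : (f : Tot C D) = 0 := (Submodule.mem_bot k).mp hf
      rw [this, map_zero]
    | succ n =>
      obtain ⟨u, -, hu⟩ := hf
      rw [← hu, Φ_Dt]

/-- cohomology of the total complex is the harmonic space -/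
def HtotEquiv (n : ℕ) : Htot C D n ≃ₗ[k] ↥(harmT s t n) :=
  (Submodule.quotEquivOfEq _ _ (ker_toHarmT s t n).symm).trans
    (LinearMap.quotKerEquivOfSurjective (toHarmT s t n) (toHarmT_surjective s t n))

/-! ### dimension count -/

/-- the harmonic part in bidegree `(p, q)` -/
def E (p q : ℕ) : Submodule k (C.X p ⊗[k] D.X q) :=
  LinearMap.range (TensorProduct.map (s.π p) (t.π q))

theorem E_eq (p q : ℕ) : E s t p q =
    LinearMap.range (TensorProduct.map (s.harm p).subtype (t.harm q).subtype) := by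
  apply le_antisymm
  · rintro _ ⟨z, rfl⟩
    induction z using TensorProduct.induction_on with
    | zero => rw [map_zero]; exact zero_mem _
    | tmul x y =>
      exact ⟨(⟨s.π p x, ⟨x, rfl⟩⟩ : ↥(s.harm p)) ⊗ₜ[k] (⟨t.π q y, ⟨y, rfl⟩⟩ : ↥(t.harm q)), rfl⟩
    | add x y hx hy => rw [map_add]; exact add_mem hx hy
  · rintro _ ⟨z, rfl⟩
    induction z using TensorProduct.induction_on with
    | zero => rw [map_zero]; exact zero_mem _
    | tmul x y =>
      refine ⟨(x : C.X p) ⊗ₜ[k] (y : D.X q), ?_⟩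
      rw [TensorProduct.map_tmul, TensorProduct.map_tmul, s.π_of_mem_harm p x x.2,
        t.π_of_mem_harm q y y.2]
      rfl
    | add x y hx hy => rw [map_add]; exact add_mem hx hy

/-- the harmonic part in bidegree `(p, q)` is the tensor product of the harmonic spaces -/
def EEquiv (p q : ℕ) : (↥(s.harm p) ⊗[k] ↥(t.harm q)) ≃ₗ[k] ↥(E s t p q) :=
  (LinearEquiv.ofInjective (TensorProduct.map (s.harm p).subtype (t.harm q).subtype)
    (TensorProduct.map_injective_of_flat_flat _ _ (Submodule.injective_subtype _)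
      (Submodule.injective_subtype _))).trans (LinearEquiv.ofEq _ _ (E_eq s t p q).symm)

theorem mem_E_of_mem_harmT {n : ℕ} {f : Tot C D} (hf : f ∈ harmT s t n) (p q : ℕ) :
    f p q ∈ E s t p q := by
  have h := ((mem_harmT s t).mp hf).2
  exact ⟨f p q, (Φ_apply s t f p q).symm.trans (congrFun (congrFun h p) q)⟩

/-- evaluation of a harmonic element on the antidiagonal -/
def evT (n : ℕ) : ↥(harmT s t n) →ₗ[k] (∀ i : Fin (n + 1), ↥(E s t i (n - i))) where
  toFun f := fun i => ⟨f.1 i (n - i), mem_E_of_mem_harmT s t f.2 i (n - i)⟩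
  map_add' _ _ := rfl
  map_smul' _ _ := rfl

theorem evT_injective (n : ℕ) : Function.Injective (evT s t n) := by
  rw [injective_iff_map_eq_zero]
  intro f hf
  apply Subtype.ext
  funext p q
  by_cases h : p + q = n
  · obtain rfl : q = n - p := by omega
    have := congrFun hf ⟨p, by omega⟩
    exact congrArg Subtype.val this
  · exact ((mem_harmT s t).mp f.2).1 p q h

theorem evT_surjective (n : ℕ) : Function.Surjective (evT s t n) := by
  classical
  intro g
  let f : Tot C D := ∑ i : Fin (n + 1),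
    Pi.single (M := fun p => ∀ q, C.X p ⊗[k] D.X q) (i : ℕ)
      (Pi.single (M := fun q => C.X (i : ℕ) ⊗[k] D.X q) (n - (i : ℕ)) (g i).1)
  have hfval : ∀ (p q : ℕ), f p q =
      ∑ i : Fin (n + 1), (Pi.single (M := fun p => ∀ q, C.X p ⊗[k] D.X q) (i : ℕ)
        (Pi.single (M := fun q => C.X (i : ℕ) ⊗[k] D.X q) (n - (i : ℕ)) (g i).1)) p q := by
    intro p q
    simp only [f, Finset.sum_apply]
  have hf1 : ∀ (j : Fin (n + 1)), f j (n - j) = (g j).1 := by
    intro j
    rw [hfval, Finset.sum_eq_single j]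
    · rw [Pi.single_eq_same, Pi.single_eq_same]
    · intro i _ hij
      have : (j : ℕ) ≠ (i : ℕ) := fun h => hij (Fin.ext h.symm)
      rw [Pi.single_eq_of_ne this]
      rfl
    · intro h
      exact absurd (Finset.mem_univ j) h
  have hf0 : ∀ p q, p + q ≠ n → f p q = 0 := by
    intro p q h
    rw [hfval]
    apply Finset.sum_eq_zero
    intro i _
    by_cases hpi : p = (i : ℕ)
    · subst hpi
      rw [Pi.single_eq_same]
      have : q ≠ n - (i : ℕ) := by omega
      rw [Pi.single_eq_of_ne this]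
    · rw [Pi.single_eq_of_ne hpi]
      rfl
  have hfE : ∀ p q, f p q ∈ E s t p q := by
    intro p q
    by_cases h : p + q = n
    · obtain rfl : q = n - p := by omega
      have := hf1 ⟨p, by omega⟩
      rw [this]
      exact (g ⟨p, by omega⟩).2
    · rw [hf0 p q h]
      exact zero_mem _
  have hfh : f ∈ harmT s t n := by
    refine (mem_harmT s t).mpr ⟨hf0, ?_⟩
    funext p q
    rw [Φ_apply]
    obtain ⟨y, hy⟩ := hfE p q
    rw [← hy, TensorProduct.map_map]
    have h1 : s.π p ∘ₗ s.π p = s.π p := LinearMap.ext fun x => s.π_π p x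
    have h2 : t.π q ∘ₗ t.π q = t.π q := LinearMap.ext fun x => t.π_π q x
    rw [h1, h2]
  refine ⟨⟨f, hfh⟩, ?_⟩
  funext j
  apply Subtype.ext
  exact hf1 j

/-- harmonic elements of total degree `n` as a finite product -/
def harmTEquiv (n : ℕ) : ↥(harmT s t n) ≃ₗ[k] (∀ i : Fin (n + 1), ↥(E s t i (n - i))) :=
  LinearEquiv.ofBijective (evT s t n) ⟨evT_injective s t n, evT_surjective s t n⟩

/-- **Künneth formula**, dimension form. -/
theorem finrank_Htot [∀ p, Module.Finite k (C.H p)] [∀ q, Module.Finite k (D.H q)] (n : ℕ) :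
    Module.finrank k (Htot C D n) =
      ∑ i ∈ Finset.range (n + 1), Module.finrank k (C.H i) * Module.finrank k (D.H (n - i)) := by
  obtain ⟨s⟩ := C.exists_splitting
  obtain ⟨t⟩ := D.exists_splitting
  haveI : ∀ p, Module.Finite k ↥(s.harm p) := fun p =>
    Module.Finite.equiv (s.HEquiv p)
  haveI : ∀ q, Module.Finite k ↥(t.harm q) := fun q =>
    Module.Finite.equiv (t.HEquiv q)
  haveI : ∀ p q, Module.Finite k ↥(E s t p q) := fun p q =>
    Module.Finite.equiv (EEquiv s t p q)
  rw [LinearEquiv.finrank_eq ((HtotEquiv s t n).trans (harmTEquiv s t n)),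
    Module.finrank_pi_fintype, Fin.sum_univ_eq_sum_range
      (fun i => Module.finrank k ↥(E s t i (n - i))) (n + 1)]
  apply Finset.sum_congr rfl
  intro i _
  rw [← LinearEquiv.finrank_eq (EEquiv s t i (n - i)), Module.finrank_tensorProduct,
    LinearEquiv.finrank_eq (s.HEquiv i), LinearEquiv.finrank_eq (t.HEquiv (n - i))]

theorem finite_Htot [∀ p, Module.Finite k (C.H p)] [∀ q, Module.Finite k (D.H q)] (n : ℕ) :
    Module.Finite k (Htot C D n) := by
  obtain ⟨s⟩ := C.exists_splitting
  obtain ⟨t⟩ := D.exists_splitting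
  haveI : ∀ p, Module.Finite k ↥(s.harm p) := fun p =>
    Module.Finite.equiv (s.HEquiv p)
  haveI : ∀ q, Module.Finite k ↥(t.harm q) := fun q =>
    Module.Finite.equiv (t.HEquiv q)
  haveI : ∀ p q, Module.Finite k ↥(E s t p q) := fun p q =>
    Module.Finite.equiv (EEquiv s t p q)
  exact Module.Finite.equiv ((HtotEquiv s t n).trans (harmTEquiv s t n)).symm

end Cpx

end Groth.Agent.Lib.Helper8.Kun
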