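import Groth.Agent.Lib.Helper8Kun3

/-!
# Maps of complexes of vector spaces, subcomplexes, and tensor products of subcomplexes (helper8)
-/

set_option autoImplicit false
set_option linter.unusedSectionVars false
set_option linter.style.haveILetI false
universe u
open TensorProduct

noncomputable section

namespace Groth.Agent.Lib.Helper8.Kun

variable {k : Type u} [Field k]

namespace Cpx

/-- A map of complexes. -/
structure Hom (C C' : Cpx k) where
  /-- the components -/
  f : ∀ p, C.X p →ₗ[k] C'.X p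
  comm : ∀ (p : ℕ) (x : C.X p), f (p + 1) (C.d p x) = C'.d p (f p x)

/-- the identity -/
def Hom.id (C : Cpx k) : Hom C C := ⟨fun _ => LinearMap.id, fun _ _ => rfl⟩

variable {C C' D D' : Cpx k}

/-- the induced map on total complexes -/
def totMap (φ : Hom C C') (ψ : Hom D D') : Tot C D →ₗ[k] Tot C' D' where
  toFun f := fun p q => TensorProduct.map (φ.f p) (ψ.f q) (f p q)
  map_add' f g := by
    funext p q
    exact map_add _ _ _
  map_smul' c f := by
    funext p q
    exact map_smul (TensorProduct.map (φ.f p) (ψ.f q)) c (f p q)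

@[simp] theorem totMap_apply (φ : Hom C C') (ψ : Hom D D') (f : Tot C D) (p q : ℕ) :
    totMap φ ψ f p q = TensorProduct.map (φ.f p) (ψ.f q) (f p q) := rfl

theorem totMap_dL (φ : Hom C C') (ψ : Hom D D') (f : Tot C D) :
    totMap φ ψ (dL C D f) = dL C' D' (totMap φ ψ f) := by
  funext p q
  cases p with
  | zero => exact map_zero (TensorProduct.map (φ.f 0) (ψ.f q))
  | succ p =>
    show TensorProduct.map (φ.f (p + 1)) (ψ.f q) (TensorProduct.map (C.d p) LinearMap.id (f p q)) =
      TensorProduct.map (C'.d p) LinearMap.id (TensorProduct.map (φ.f p) (ψ.f q) (f p q))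
    rw [TensorProduct.map_map, TensorProduct.map_map]
    have : φ.f (p + 1) ∘ₗ C.d p = C'.d p ∘ₗ φ.f p := LinearMap.ext fun x => φ.comm p x
    rw [this, LinearMap.comp_id, LinearMap.id_comp]

theorem totMap_dR (φ : Hom C C') (ψ : Hom D D') (f : Tot C D) :
    totMap φ ψ (dR C D f) = dR C' D' (totMap φ ψ f) := by
  funext p q
  cases q with
  | zero => exact map_zero (TensorProduct.map (φ.f p) (ψ.f 0))
  | succ q =>
    show TensorProduct.map (φ.f p) (ψ.f (q + 1))
        (((-1 : k) ^ p) • TensorProduct.map LinearMap.id (D.d q) (f p q)) =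
      ((-1 : k) ^ p) • TensorProduct.map LinearMap.id (D'.d q)
        (TensorProduct.map (φ.f p) (ψ.f q) (f p q))
    rw [map_smul, TensorProduct.map_map, TensorProduct.map_map]
    have : ψ.f (q + 1) ∘ₗ D.d q = D'.d q ∘ₗ ψ.f q := LinearMap.ext fun x => ψ.comm q x
    rw [this, LinearMap.comp_id, LinearMap.id_comp]

theorem totMap_Dt (φ : Hom C C') (ψ : Hom D D') (f : Tot C D) :
    totMap φ ψ (Dt C D f) = Dt C' D' (totMap φ ψ f) := by
  show totMap φ ψ ((dL C D + dR C D) f) = (dL C' D' + dR C' D') (totMap φ ψ f)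
  rw [LinearMap.add_apply, LinearMap.add_apply, map_add, totMap_dL, totMap_dR]

theorem totMap_mem_supp (φ : Hom C C') (ψ : Hom D D') {n : ℕ} {f : Tot C D}
    (hf : f ∈ supp C D n) : totMap φ ψ f ∈ supp C' D' n := by
  intro p q h
  rw [totMap_apply, hf p q h, map_zero]

theorem totMap_injective (φ : Hom C C') (ψ : Hom D D') (hφ : ∀ p, Function.Injective (φ.f p))
    (hψ : ∀ q, Function.Injective (ψ.f q)) : Function.Injective (totMap φ ψ) := by
  intro f g h
  funext p q
  exact TensorProduct.map_injective_of_flat_flat _ _ (hφ p) (hψ q) (congrFun (congrFun h p) q)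

theorem mem_supp_of_totMap (φ : Hom C C') (ψ : Hom D D') (hφ : ∀ p, Function.Injective (φ.f p))
    (hψ : ∀ q, Function.Injective (ψ.f q)) {n : ℕ} {f : Tot C D}
    (hf : totMap φ ψ f ∈ supp C' D' n) : f ∈ supp C D n := by
  intro p q h
  have := hf p q h
  rw [totMap_apply] at this
  exact TensorProduct.map_injective_of_flat_flat _ _ (hφ p) (hψ q) (this.trans (map_zero _).symm)

/-- A subcomplex. -/
def sub (C : Cpx k) (U : ∀ p, Submodule k (C.X p))
    (hU : ∀ (p : ℕ) (x : C.X p), x ∈ U p → C.d p x ∈ U (p + 1)) : Cpx k where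
  X := fun p => ↥(U p)
  d := fun p => (C.d p).restrict (hU p)
  d_d := fun p x => Subtype.ext (C.d_d p x)

/-- the inclusion of a subcomplex -/
def incl (C : Cpx k) (U : ∀ p, Submodule k (C.X p))
    (hU : ∀ (p : ℕ) (x : C.X p), x ∈ U p → C.d p x ∈ U (p + 1)) : Hom (C.sub U hU) C :=
  ⟨fun p => (U p).subtype, fun _ _ => rfl⟩

/-! ### vanishing of the harmonic projection -/

theorem Splitting.π_eq_zero_of_cyc_le_bdy (s : C.Splitting) (p : ℕ) (h : C.cyc p ≤ C.bdy p)
    (x : C.X p) : s.π p x = 0 := by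
  rw [← s.π_π p x]
  exact s.π_eq_zero_of_mem_bdy p _ (h (s.π_mem_cyc p x))

/-- If both complexes are exact in positive degrees, the total complex is exact in positive
degrees. -/
theorem totCyc_le_totBdy_of_exact (hC : ∀ p, C.cyc (p + 1) ≤ C.bdy (p + 1))
    (hD : ∀ q, D.cyc (q + 1) ≤ D.bdy (q + 1)) (n : ℕ) :
    totCyc C D (n + 1) ≤ totBdy C D (n + 1) := by
  obtain ⟨s⟩ := C.exists_splitting
  obtain ⟨t⟩ := D.exists_splitting
  intro f hf
  have h := sub_Φ_mem_totBdy s t hf
  have hΦ : Φ s t f = 0 := by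
    funext p q
    rw [Φ_apply]
    by_cases hpq : p + q = n + 1
    · cases p with
      | zero =>
        cases q with
        | zero => omega
        | succ q =>
          have : t.π (q + 1) = 0 := LinearMap.ext fun x =>
            t.π_eq_zero_of_cyc_le_bdy (q + 1) (hD q) x
          rw [this, TensorProduct.map_zero_right]
          rfl
      | succ p =>
        have : s.π (p + 1) = 0 := LinearMap.ext fun x =>
          s.π_eq_zero_of_cyc_le_bdy (p + 1) (hC p) x
        rw [this, TensorProduct.map_zero_left]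
        rfl
    · rw [hf.1 p q hpq, map_zero]
      rfl
  rwa [hΦ, sub_zero] at h

/-- A cocycle of total degree `0` lies in the tensor product of the cocycles. -/
theorem mem_range_of_mem_totCyc_zero {f : Tot C D} (hf : f ∈ totCyc C D 0) :
    f 0 0 ∈ LinearMap.range (TensorProduct.map (C.cyc 0).subtype (D.cyc 0).subtype) := by
  obtain ⟨s⟩ := C.exists_splitting
  obtain ⟨t⟩ := D.exists_splitting
  have h := sub_Φ_mem_totBdy s t hf
  have h0 : f - Φ s t f = 0 := (Submodule.mem_bot k).mp h
  have h1 : f = Φ s t f := sub_eq_zero.mp h0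
  have h2 : f 0 0 ∈ E s t 0 0 := ⟨f 0 0, (Φ_apply s t f 0 0).symm.trans (congrFun (congrFun h1 0) 0).symm⟩
  rw [E_eq] at h2
  obtain ⟨z, hz⟩ := h2
  rw [← hz]
  clear hz
  induction z using TensorProduct.induction_on with
  | zero => rw [map_zero]; exact zero_mem _
  | tmul x y =>
    exact ⟨(⟨x.1, s.harm_le_cyc 0 x.2⟩ : ↥(C.cyc 0)) ⊗ₜ[k] (⟨y.1, t.harm_le_cyc 0 y.2⟩ : ↥(D.cyc 0)),
      rfl⟩
  | add x y hx hy => rw [map_add]; exact add_mem hx hy

end Cpx

end Groth.Agent.Lib.Helper8.Kun
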