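import Groth.Agent.Lib.Helper8Kun4

/-!
# Tensor products of subcomplexes inside the total complex: Mayer–Vietoris ingredients (helper8)
-/

set_option autoImplicit false
set_option linter.unusedSectionVars false
set_option linter.style.haveILetI false
universe u
open TensorProduct

noncomputable section

namespace Groth.Agent.Lib.Helper8.Kun

variable {k : Type u} [Field k]

/-- pullback property of tensor products of subspaces -/
theorem exists_of_map_eq {V W : Type u} [AddCommGroup V] [Module k V] [AddCommGroup W] [Module k W]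
    (V' : Submodule k V) (W' : Submodule k W) (x : ↥V' ⊗[k] W) (y : V ⊗[k] ↥W')
    (h : TensorProduct.map V'.subtype LinearMap.id x = TensorProduct.map LinearMap.id W'.subtype y) :
    ∃ z : ↥V' ⊗[k] ↥W', TensorProduct.map LinearMap.id W'.subtype z = x ∧
      TensorProduct.map V'.subtype LinearMap.id z = y := by
  have h1 : TensorProduct.map (LinearMap.id : V →ₗ[k] V) W'.mkQ
      (TensorProduct.map V'.subtype LinearMap.id x) = 0 := by
    rw [h, TensorProduct.map_map]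
    have : W'.mkQ ∘ₗ W'.subtype = 0 := by
      ext w
      simp
    rw [this, TensorProduct.map_zero_right]
    rfl
  have h2 : TensorProduct.map V'.subtype (LinearMap.id : (W ⧸ W') →ₗ[k] (W ⧸ W'))
      (TensorProduct.map (LinearMap.id : ↥V' →ₗ[k] ↥V') W'.mkQ x) = 0 := by
    rw [TensorProduct.map_map, LinearMap.comp_id, LinearMap.id_comp]
    rw [TensorProduct.map_map, LinearMap.comp_id, LinearMap.id_comp] at h1
    exact h1
  have h3 : TensorProduct.map (LinearMap.id : ↥V' →ₗ[k] ↥V') W'.mkQ x = 0 :=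
    TensorProduct.map_injective_of_flat_flat V'.subtype
      (LinearMap.id : (W ⧸ W') →ₗ[k] (W ⧸ W')) (Submodule.injective_subtype _)
      (fun _ _ h => h) (h2.trans (map_zero _).symm)
  have hex := lTensor_exact (↥V') (LinearMap.exact_subtype_mkQ W') (Submodule.mkQ_surjective W')
  obtain ⟨z, hz⟩ := (hex x).mp h3
  refine ⟨z, hz, ?_⟩
  apply TensorProduct.map_injective_of_flat_flat (LinearMap.id : V →ₗ[k] V) W'.subtype
    (fun _ _ h => h) (Submodule.injective_subtype _)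
  rw [← h, TensorProduct.map_map, LinearMap.id_comp, LinearMap.comp_id]
  have hz' : TensorProduct.map (LinearMap.id : ↥V' →ₗ[k] ↥V') W'.subtype z = x := hz
  rw [← hz', TensorProduct.map_map, LinearMap.id_comp, LinearMap.comp_id]

namespace Cpx

/-- A subcomplex, as data. -/
structure SubCpx (C : Cpx k) where
  /-- the terms -/
  U : ∀ p, Submodule k (C.X p)
  stable : ∀ (p : ℕ) (x : C.X p), x ∈ U p → C.d p x ∈ U (p + 1)

namespace SubCpx

variable {C : Cpx k} (a : SubCpx C)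

/-- the subcomplex as a complex -/
def cpx : Cpx k := C.sub a.U a.stable

/-- the inclusion -/
def ι : Hom a.cpx C := C.incl a.U a.stable

theorem ι_injective (p : ℕ) : Function.Injective (a.ι.f p) := Submodule.injective_subtype _

end SubCpx

variable {A B : Cpx k} (a : SubCpx A) (b : SubCpx B)

/-- `A' ⊗ B → A ⊗ B` -/
def j2 : Tot a.cpx B →ₗ[k] Tot A B := totMap a.ι (Hom.id B)
/-- `A ⊗ B' → A ⊗ B` -/
def j3 : Tot A b.cpx →ₗ[k] Tot A B := totMap (Hom.id A) b.ι
/-- `A' ⊗ B' → A' ⊗ B` -/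
def i2 : Tot a.cpx b.cpx →ₗ[k] Tot a.cpx B := totMap (Hom.id a.cpx) b.ι
/-- `A' ⊗ B' → A ⊗ B'` -/
def i3 : Tot a.cpx b.cpx →ₗ[k] Tot A b.cpx := totMap a.ι (Hom.id b.cpx)

theorem id_injective (C : Cpx k) (p : ℕ) : Function.Injective ((Hom.id C).f p) := fun _ _ h => h

theorem j2_injective : Function.Injective (j2 (B := B) a) :=
  totMap_injective _ _ a.ι_injective (id_injective B)
theorem j3_injective : Function.Injective (j3 (A := A) b) :=
  totMap_injective _ _ (id_injective A) b.ι_injective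
theorem i2_injective : Function.Injective (i2 a b) :=
  totMap_injective _ _ (id_injective a.cpx) b.ι_injective
theorem i3_injective : Function.Injective (i3 a b) :=
  totMap_injective _ _ a.ι_injective (id_injective b.cpx)

theorem j2_i2 (κ : Tot a.cpx b.cpx) : j2 a (i2 a b κ) = j3 b (i3 a b κ) := by
  funext p q
  show TensorProduct.map (a.ι.f p) LinearMap.id (TensorProduct.map LinearMap.id (b.ι.f q) (κ p q)) =
    TensorProduct.map LinearMap.id (b.ι.f q) (TensorProduct.map (a.ι.f p) LinearMap.id (κ p q))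
  rw [TensorProduct.map_map, TensorProduct.map_map, LinearMap.comp_id, LinearMap.id_comp,
    LinearMap.comp_id, LinearMap.id_comp]

/-- pullback property -/
theorem exists_of_j2_eq_j3 {x : Tot a.cpx B} {y : Tot A b.cpx} (h : j2 a x = j3 b y) :
    ∃ κ : Tot a.cpx b.cpx, i2 a b κ = x ∧ i3 a b κ = y := by
  have : ∀ p q, ∃ z : a.cpx.X p ⊗[k] b.cpx.X q,
      TensorProduct.map LinearMap.id (b.U q).subtype z = x p q ∧
      TensorProduct.map (a.U p).subtype LinearMap.id z = y p q := fun p q =>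
    exists_of_map_eq (a.U p) (b.U q) (x p q) (y p q) (congrFun (congrFun h p) q)
  choose κ h1 h2 using this
  exact ⟨κ, funext fun p => funext fun q => h1 p q, funext fun p => funext fun q => h2 p q⟩

/-- the bidegree pieces of `A' ⊗ B + A ⊗ B'` -/
def W (p q : ℕ) : Submodule k (A.X p ⊗[k] B.X q) :=
  LinearMap.range (TensorProduct.map (a.U p).subtype (LinearMap.id : B.X q →ₗ[k] B.X q)) ⊔
    LinearMap.range (TensorProduct.map (LinearMap.id : A.X p →ₗ[k] A.X p) (b.U q).subtype)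

/-- the elements of total degree `n` of `A' ⊗ B + A ⊗ B'` -/
def Wsub (n : ℕ) : Submodule k (Tot A B) where
  carrier := {f | f ∈ supp A B n ∧ ∀ p q, f p q ∈ W a b p q}
  zero_mem' := ⟨zero_mem _, fun _ _ => zero_mem _⟩
  add_mem' := fun hf hg => ⟨add_mem hf.1 hg.1, fun p q => add_mem (hf.2 p q) (hg.2 p q)⟩
  smul_mem' := fun c _ hf => ⟨Submodule.smul_mem _ c hf.1, fun p q => Submodule.smul_mem _ c (hf.2 p q)⟩

theorem mem_Wsub {n : ℕ} {f : Tot A B} :
    f ∈ Wsub a b n ↔ f ∈ supp A B n ∧ ∀ p q, f p q ∈ W a b p q := Iff.rfl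

theorem j2_mem_Wsub {n : ℕ} {x : Tot a.cpx B} (hx : x ∈ supp a.cpx B n) : j2 a x ∈ Wsub a b n :=
  ⟨totMap_mem_supp _ _ hx, fun p q => Submodule.mem_sup_left ⟨x p q, rfl⟩⟩

theorem j3_mem_Wsub {n : ℕ} {y : Tot A b.cpx} (hy : y ∈ supp A b.cpx n) : j3 b y ∈ Wsub a b n :=
  ⟨totMap_mem_supp _ _ hy, fun p q => Submodule.mem_sup_right ⟨y p q, rfl⟩⟩

theorem exists_decomp {n : ℕ} {w : Tot A B} (hw : w ∈ Wsub a b n) :
    ∃ x ∈ supp a.cpx B n, ∃ y ∈ supp A b.cpx n, j2 a x + j3 b y = w := by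
  have : ∀ p q, ∃ (x : a.cpx.X p ⊗[k] B.X q) (y : A.X p ⊗[k] b.cpx.X q),
      (p + q ≠ n → x = 0 ∧ y = 0) ∧
      TensorProduct.map (a.ι.f p) (LinearMap.id : B.X q →ₗ[k] B.X q) x +
        TensorProduct.map (LinearMap.id : A.X p →ₗ[k] A.X p) (b.ι.f q) y = w p q := by
    intro p q
    by_cases h : p + q = n
    · obtain ⟨u, ⟨x, rfl⟩, v, ⟨y, rfl⟩, huv⟩ := Submodule.mem_sup.mp (hw.2 p q)
      exact ⟨x, y, fun h' => absurd h h', huv⟩
    · refine ⟨0, 0, fun _ => ⟨rfl, rfl⟩, ?_⟩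
      rw [map_zero, map_zero, add_zero, hw.1 p q h]
  choose x y hxy using this
  refine ⟨x, fun p q h => ((hxy p q).1 h).1, y, fun p q h => ((hxy p q).1 h).2, ?_⟩
  funext p q
  exact (hxy p q).2

theorem Dt_mem_Wsub {n : ℕ} {w : Tot A B} (hw : w ∈ Wsub a b n) : Dt A B w ∈ Wsub a b (n + 1) := by
  obtain ⟨x, hx, y, hy, rfl⟩ := exists_decomp a b hw
  rw [map_add]
  have h2 : Dt A B (j2 a x) = j2 a (Dt a.cpx B x) := (totMap_Dt _ _ x).symm
  have h3 : Dt A B (j3 b y) = j3 b (Dt A b.cpx y) := (totMap_Dt _ _ y).symm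
  rw [h2, h3]
  exact add_mem (j2_mem_Wsub a b (Dt_mem_supp hx)) (j3_mem_Wsub a b (Dt_mem_supp hy))

/-- cocycles -/
def ZW (n : ℕ) : Submodule k (Tot A B) := Wsub a b n ⊓ LinearMap.ker (Dt A B)

/-- coboundaries -/
def BW : (n : ℕ) → Submodule k (Tot A B)
  | 0 => ⊥
  | n + 1 => (Wsub a b n).map (Dt A B)

theorem BW_le_ZW (n : ℕ) : BW a b n ≤ ZW a b n := by
  cases n with
  | zero => exact bot_le
  | succ n =>
    rintro _ ⟨w, hw, rfl⟩
    exact ⟨Dt_mem_Wsub a b hw, Dt_Dt w⟩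

/-- the cohomology of `A' ⊗ B + A ⊗ B'` -/
abbrev HW (n : ℕ) : Type u := ↥(ZW a b n) ⧸ (BW a b n).comap (ZW a b n).subtype

/-! ### vanishing of the maps `H(A' ⊗ B') → H(A' ⊗ B)`, `H(A' ⊗ B') → H(A ⊗ B')` -/

theorem i2_mem_totBdy (hB : ∀ q, B.cyc (q + 1) ≤ B.bdy (q + 1)) (hb0 : b.cpx.cyc 0 = ⊥) {n : ℕ}
    {κ : Tot a.cpx b.cpx} (hκ : κ ∈ totCyc a.cpx b.cpx n) : i2 a b κ ∈ totBdy a.cpx B n := by
  obtain ⟨t'⟩ := b.cpx.exists_splitting
  obtain ⟨t⟩ := B.exists_splitting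
  have hκ0 : Dt a.cpx b.cpx κ = 0 := hκ.2
  have e := homotopy2 (C := a.cpx) t' κ
  rw [hκ0, map_zero, add_zero] at e
  have hP : Dt a.cpx b.cpx (P2 t' κ) = 0 := by
    have h : P2 t' κ = κ - Dt a.cpx b.cpx (S2 t' κ) := eq_sub_of_add_eq' e
    rw [h, map_sub, hκ0, Dt_Dt, sub_zero]
  set f : Tot a.cpx B := i2 a b (P2 t' κ) with hf
  have hfD : Dt a.cpx B f = 0 := by
    rw [hf]
    show Dt a.cpx B (totMap (Hom.id a.cpx) b.ι (P2 t' κ)) = 0
    rw [← totMap_Dt, hP, map_zero]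
  have e' := homotopy2 (C := a.cpx) t f
  rw [hfD, map_zero, add_zero] at e'
  have hP0 : P2 (C := a.cpx) t f = 0 := by
    funext p q
    show TensorProduct.map LinearMap.id (t.π q) (TensorProduct.map LinearMap.id (b.ι.f q)
      (TensorProduct.map LinearMap.id (t'.π q) (κ p q))) = 0
    rw [TensorProduct.map_map, TensorProduct.map_map]
    have : (t.π q ∘ₗ b.ι.f q) ∘ₗ t'.π q = 0 := by
      cases q with
      | zero =>
        have h0 : t'.π 0 = 0 := LinearMap.ext fun x =>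
          t'.π_eq_zero_of_cyc_le_bdy 0 (by rw [hb0]; exact bot_le) x
        rw [h0, LinearMap.comp_zero]
      | succ q =>
        have h0 : t.π (q + 1) = 0 := LinearMap.ext fun x =>
          t.π_eq_zero_of_cyc_le_bdy (q + 1) (hB q) x
        rw [h0, LinearMap.zero_comp, LinearMap.zero_comp]
    rw [this, TensorProduct.map_zero_right]
    rfl
  rw [hP0, add_zero] at e'
  have key : i2 a b κ = Dt a.cpx B (i2 a b (S2 t' κ) + S2 (C := a.cpx) t f) := by
    rw [map_add, e']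
    show _ = Dt a.cpx B (totMap (Hom.id a.cpx) b.ι (S2 t' κ)) + f
    rw [← totMap_Dt, hf]
    show _ = i2 a b (Dt a.cpx b.cpx (S2 t' κ)) + i2 a b (P2 t' κ)
    rw [← map_add, e]
  have hfs : f ∈ supp a.cpx B n := totMap_mem_supp _ _ (P2_mem_supp t' hκ.1)
  rw [key]
  cases n with
  | zero =>
    rw [S2_eq_zero t' hκ.1, S2_eq_zero t hfs, map_zero, add_zero, map_zero]
    exact zero_mem _
  | succ n =>
    exact ⟨_, add_mem (totMap_mem_supp _ _ (S2_mem_supp t' hκ.1)) (S2_mem_supp t hfs), rfl⟩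

theorem i3_mem_totBdy (hA : ∀ p, A.cyc (p + 1) ≤ A.bdy (p + 1)) (ha0 : a.cpx.cyc 0 = ⊥) {n : ℕ}
    {κ : Tot a.cpx b.cpx} (hκ : κ ∈ totCyc a.cpx b.cpx n) : i3 a b κ ∈ totBdy A b.cpx n := by
  obtain ⟨s'⟩ := a.cpx.exists_splitting
  obtain ⟨s⟩ := A.exists_splitting
  have hκ0 : Dt a.cpx b.cpx κ = 0 := hκ.2
  have e := homotopy1 (D := b.cpx) s' κ
  rw [hκ0, map_zero, add_zero] at e
  have hP : Dt a.cpx b.cpx (P1 s' κ) = 0 := by
    have h : P1 s' κ = κ - Dt a.cpx b.cpx (S1 s' κ) := eq_sub_of_add_eq' e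
    rw [h, map_sub, hκ0, Dt_Dt, sub_zero]
  set f : Tot A b.cpx := i3 a b (P1 s' κ) with hf
  have hfD : Dt A b.cpx f = 0 := by
    rw [hf]
    show Dt A b.cpx (totMap a.ι (Hom.id b.cpx) (P1 s' κ)) = 0
    rw [← totMap_Dt, hP, map_zero]
  have e' := homotopy1 (D := b.cpx) s f
  rw [hfD, map_zero, add_zero] at e'
  have hP0 : P1 (D := b.cpx) s f = 0 := by
    funext p q
    show TensorProduct.map (s.π p) LinearMap.id (TensorProduct.map (a.ι.f p) LinearMap.id
      (TensorProduct.map (s'.π p) LinearMap.id (κ p q))) = 0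
    rw [TensorProduct.map_map, TensorProduct.map_map]
    have : (s.π p ∘ₗ a.ι.f p) ∘ₗ s'.π p = 0 := by
      cases p with
      | zero =>
        have h0 : s'.π 0 = 0 := LinearMap.ext fun x =>
          s'.π_eq_zero_of_cyc_le_bdy 0 (by rw [ha0]; exact bot_le) x
        rw [h0, LinearMap.comp_zero]
      | succ p =>
        have h0 : s.π (p + 1) = 0 := LinearMap.ext fun x =>
          s.π_eq_zero_of_cyc_le_bdy (p + 1) (hA p) x
        rw [h0, LinearMap.zero_comp, LinearMap.zero_comp]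
    rw [this, TensorProduct.map_zero_left]
    rfl
  rw [hP0, add_zero] at e'
  have key : i3 a b κ = Dt A b.cpx (i3 a b (S1 s' κ) + S1 (D := b.cpx) s f) := by
    rw [map_add, e']
    show _ = Dt A b.cpx (totMap a.ι (Hom.id b.cpx) (S1 s' κ)) + f
    rw [← totMap_Dt, hf]
    show _ = i3 a b (Dt a.cpx b.cpx (S1 s' κ)) + i3 a b (P1 s' κ)
    rw [← map_add, e]
  have hfs : f ∈ supp A b.cpx n := totMap_mem_supp _ _ (P1_mem_supp s' hκ.1)
  rw [key]
  cases n with
  | zero =>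
    rw [S1_eq_zero s' hκ.1, S1_eq_zero s hfs, map_zero, add_zero, map_zero]
    exact zero_mem _
  | succ n =>
    exact ⟨_, add_mem (totMap_mem_supp _ _ (S1_mem_supp s' hκ.1)) (S1_mem_supp s hfs), rfl⟩

end Cpx

end Groth.Agent.Lib.Helper8.Kun
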