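import Groth.Agent.Lib.Helper8Kun5

/-!
# The Mayer–Vietoris count for `A' ⊗ B + A ⊗ B'` (helper8)
-/

set_option autoImplicit false
set_option linter.unusedSectionVars false
set_option linter.style.haveILetI false
universe u
open TensorProduct

noncomputable section

namespace Groth.Agent.Lib.Helper8.Kun

variable {k : Type u} [Field k]

namespace Cpx

variable {A B : Cpx k} (a : SubCpx A) (b : SubCpx B)

theorem j2_Dt (x : Tot a.cpx B) : j2 a (Dt a.cpx B x) = Dt A B (j2 a x) := totMap_Dt _ _ x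
theorem j3_Dt (y : Tot A b.cpx) : j3 b (Dt A b.cpx y) = Dt A B (j3 b y) := totMap_Dt _ _ y
theorem i2_Dt (κ : Tot a.cpx b.cpx) : i2 a b (Dt a.cpx b.cpx κ) = Dt a.cpx B (i2 a b κ) :=
  totMap_Dt _ _ κ
theorem i3_Dt (κ : Tot a.cpx b.cpx) : i3 a b (Dt a.cpx b.cpx κ) = Dt A b.cpx (i3 a b κ) :=
  totMap_Dt _ _ κ

theorem mem_supp_of_i2 {n : ℕ} {κ : Tot a.cpx b.cpx} (h : i2 a b κ ∈ supp a.cpx B n) :
    κ ∈ supp a.cpx b.cpx n :=
  mem_supp_of_totMap _ _ (id_injective a.cpx) b.ι_injective h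

theorem j2_mem_ZW {n : ℕ} {x : Tot a.cpx B} (hx : x ∈ totCyc a.cpx B n) : j2 a x ∈ ZW a b n := by
  refine ⟨j2_mem_Wsub a b hx.1, ?_⟩
  show Dt A B (j2 a x) = 0
  rw [← j2_Dt, show Dt a.cpx B x = 0 from hx.2, map_zero]

theorem j3_mem_ZW {n : ℕ} {y : Tot A b.cpx} (hy : y ∈ totCyc A b.cpx n) : j3 b y ∈ ZW a b n := by
  refine ⟨j3_mem_Wsub a b hy.1, ?_⟩
  show Dt A B (j3 b y) = 0
  rw [← j3_Dt, show Dt A b.cpx y = 0 from hy.2, map_zero]

theorem j2_mem_BW {n : ℕ} {x : Tot a.cpx B} (hx : x ∈ totBdy a.cpx B n) : j2 a x ∈ BW a b n := by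
  cases n with
  | zero =>
    have : x = 0 := (Submodule.mem_bot k).mp hx
    rw [this, map_zero]
    exact zero_mem _
  | succ n =>
    obtain ⟨u, hu, rfl⟩ := hx
    exact ⟨j2 a u, j2_mem_Wsub a b hu, (j2_Dt a u).symm⟩

theorem j3_mem_BW {n : ℕ} {y : Tot A b.cpx} (hy : y ∈ totBdy A b.cpx n) : j3 b y ∈ BW a b n := by
  cases n with
  | zero =>
    have : y = 0 := (Submodule.mem_bot k).mp hy
    rw [this, map_zero]
    exact zero_mem _
  | succ n =>
    obtain ⟨u, hu, rfl⟩ := hy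
    exact ⟨j3 b u, j3_mem_Wsub a b hu, (j3_Dt b u).symm⟩

/-- `H(A' ⊗ B) → H(W)` -/
def α2 (n : ℕ) : Htot a.cpx B n →ₗ[k] HW a b n :=
  Submodule.mapQ _ _ ((j2 a).restrict (fun _ hx => j2_mem_ZW a b hx))
    (fun _ hx => j2_mem_BW a b hx)

/-- `H(A ⊗ B') → H(W)` -/
def α3 (n : ℕ) : Htot A b.cpx n →ₗ[k] HW a b n :=
  Submodule.mapQ _ _ ((j3 b).restrict (fun _ hy => j3_mem_ZW a b hy))
    (fun _ hy => j3_mem_BW a b hy)

/-- the sum of the two maps -/
def α (n : ℕ) : Htot a.cpx B n × Htot A b.cpx n →ₗ[k] HW a b n := (α2 a b n).coprod (α3 a b n)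

theorem α_mk (n : ℕ) (x : ↥(totCyc a.cpx B n)) (y : ↥(totCyc A b.cpx n)) :
    α a b n (Submodule.Quotient.mk x, Submodule.Quotient.mk y) =
      Submodule.Quotient.mk ⟨j2 a x.1 + j3 b y.1,
        add_mem (j2_mem_ZW a b x.2) (j3_mem_ZW a b y.2)⟩ := rfl

variable (hA : ∀ p, A.cyc (p + 1) ≤ A.bdy (p + 1)) (hB : ∀ q, B.cyc (q + 1) ≤ B.bdy (q + 1))
  (ha0 : a.cpx.cyc 0 = ⊥) (hb0 : b.cpx.cyc 0 = ⊥)

include hA hB ha0 hb0 in
theorem α_injective (n : ℕ) : Function.Injective (α a b n) := by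
  rw [injective_iff_map_eq_zero]
  rintro ⟨x, y⟩ h
  obtain ⟨x, rfl⟩ := Submodule.Quotient.mk_surjective _ x
  obtain ⟨y, rfl⟩ := Submodule.Quotient.mk_surjective _ y
  rw [α_mk, Submodule.Quotient.mk_eq_zero] at h
  have h' : j2 a x.1 + j3 b y.1 ∈ BW a b n := h
  -- a correction by coboundaries
  have hcor : ∃ x' ∈ totBdy a.cpx B n, ∃ y' ∈ totBdy A b.cpx n,
      j2 a (x.1 - x') = j3 b (-(y.1 - y')) := by
    cases n with
    | zero =>
      have h0 : j2 a x.1 + j3 b y.1 = 0 := (Submodule.mem_bot k).mp h'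
      refine ⟨0, zero_mem _, 0, zero_mem _, ?_⟩
      rw [sub_zero, sub_zero, map_neg]
      exact eq_neg_of_add_eq_zero_left h0
    | succ n =>
      obtain ⟨w', hw', hw⟩ := h'
      obtain ⟨x', hx', y', hy', rfl⟩ := exists_decomp a b hw'
      refine ⟨Dt a.cpx B x', ⟨x', hx', rfl⟩, Dt A b.cpx y', ⟨y', hy', rfl⟩, ?_⟩
      rw [map_add, ← j2_Dt, ← j3_Dt] at hw
      rw [map_neg, map_sub, map_sub]
      have : j2 a x.1 - j2 a (Dt a.cpx B x') + (j3 b y.1 - j3 b (Dt A b.cpx y')) = 0 := by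
        rw [sub_add_sub_comm, hw, sub_self]
      exact eq_neg_of_add_eq_zero_left this
  obtain ⟨x', hx', y', hy', hxy⟩ := hcor
  obtain ⟨κ, hκ2, hκ3⟩ := exists_of_j2_eq_j3 a b hxy
  have hx'c := totBdy_le_totCyc n hx'
  have hy'c := totBdy_le_totCyc n hy'
  have hκs : κ ∈ supp a.cpx b.cpx n := by
    apply mem_supp_of_i2 a b
    rw [hκ2]
    exact sub_mem x.2.1 hx'c.1
  have hκD : Dt a.cpx b.cpx κ = 0 := by
    apply i2_injective a b
    rw [i2_Dt, hκ2, map_sub, map_zero, show Dt a.cpx B x.1 = 0 from x.2.2,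
      show Dt a.cpx B x' = 0 from hx'c.2, sub_zero]
  have hκc : κ ∈ totCyc a.cpx b.cpx n := ⟨hκs, hκD⟩
  have h2 := i2_mem_totBdy a b hB hb0 hκc
  have h3 := i3_mem_totBdy a b hA ha0 hκc
  rw [hκ2] at h2
  rw [hκ3] at h3
  have hx0 : x.1 ∈ totBdy a.cpx B n := by
    have := add_mem h2 hx'
    rwa [sub_add_cancel] at this
  have hy0 : y.1 ∈ totBdy A b.cpx n := by
    have := add_mem (neg_mem h3) hy'
    rwa [neg_neg, sub_add_cancel] at this
  rw [Prod.mk_eq_zero, Submodule.Quotient.mk_eq_zero, Submodule.Quotient.mk_eq_zero]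
  exact ⟨hx0, hy0⟩

theorem exists_of_mem_BW {n : ℕ} {w : Tot A B} (hw : w ∈ BW a b n) :
    ∃ x' ∈ totBdy a.cpx B n, ∃ y' ∈ totBdy A b.cpx n, j2 a x' + j3 b y' = w := by
  cases n with
  | zero =>
    have : w = 0 := (Submodule.mem_bot k).mp hw
    exact ⟨0, zero_mem _, 0, zero_mem _, by rw [map_zero, map_zero, add_zero, this]⟩
  | succ n =>
    obtain ⟨w', hw', rfl⟩ := hw
    obtain ⟨x', hx', y', hy', rfl⟩ := exists_decomp a b hw'
    exact ⟨Dt a.cpx B x', ⟨x', hx', rfl⟩, Dt A b.cpx y', ⟨y', hy', rfl⟩, by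
      rw [map_add, j2_Dt, j3_Dt]⟩

include hA hB ha0 hb0 in
theorem exists_delta (n : ℕ) : ∃ δ : HW a b n →ₗ[k] Htot a.cpx b.cpx (n + 1),
    Function.Surjective δ ∧ LinearMap.ker δ = LinearMap.range (α a b n) := by
  classical
  -- a linear section of the sum map
  let Ln : Submodule k (Tot a.cpx B × Tot A b.cpx) := (supp a.cpx B n).prod (supp A b.cpx n)
  let σ : (Tot a.cpx B × Tot A b.cpx) →ₗ[k] Tot A B := (j2 a).coprod (j3 b)
  have hσ : ∀ z ∈ Ln, σ z ∈ Wsub a b n := fun z hz =>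
    add_mem (j2_mem_Wsub a b hz.1) (j3_mem_Wsub a b hz.2)
  let σn : ↥Ln →ₗ[k] ↥(Wsub a b n) := σ.restrict hσ
  have hσn : Function.Surjective σn := by
    rintro ⟨w, hw⟩
    obtain ⟨x, hx, y, hy, hxy⟩ := exists_decomp a b hw
    exact ⟨⟨(x, y), ⟨hx, hy⟩⟩, Subtype.ext hxy⟩
  obtain ⟨τ, hτ⟩ := LinearMap.exists_rightInverse_of_surjective σn
    (LinearMap.range_eq_top.mpr hσn)
  obtain ⟨ρ, hρ⟩ := LinearMap.exists_leftInverse_of_injective (i2 a b)
    (LinearMap.ker_eq_bot.mpr (i2_injective a b))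
  have hZW : ZW a b n ≤ Wsub a b n := inf_le_left
  let X : ↥(ZW a b n) →ₗ[k] Tot a.cpx B :=
    (LinearMap.fst k _ _) ∘ₗ Ln.subtype ∘ₗ τ ∘ₗ Submodule.inclusion hZW
  let Y : ↥(ZW a b n) →ₗ[k] Tot A b.cpx :=
    (LinearMap.snd k _ _) ∘ₗ Ln.subtype ∘ₗ τ ∘ₗ Submodule.inclusion hZW
  have hXs : ∀ w, X w ∈ supp a.cpx B n := fun w => (τ (Submodule.inclusion hZW w)).2.1
  have hYs : ∀ w, Y w ∈ supp A b.cpx n := fun w => (τ (Submodule.inclusion hZW w)).2.2
  have hXY : ∀ w : ↥(ZW a b n), j2 a (X w) + j3 b (Y w) = w.1 := by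
    intro w
    have := LinearMap.congr_fun hτ (Submodule.inclusion hZW w)
    exact congrArg Subtype.val this
  let dt : ↥(ZW a b n) →ₗ[k] Tot a.cpx b.cpx := ρ ∘ₗ Dt a.cpx B ∘ₗ X
  have hwD : ∀ w : ↥(ZW a b n), Dt A B w.1 = 0 := fun w => w.2.2
  have hdt : ∀ w : ↥(ZW a b n), i2 a b (dt w) = Dt a.cpx B (X w) ∧
      i3 a b (dt w) = -Dt A b.cpx (Y w) := by
    intro w
    have h0 : j2 a (Dt a.cpx B (X w)) = j3 b (-Dt A b.cpx (Y w)) := by
      have := congrArg (Dt A B) (hXY w)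
      rw [hwD, map_add, ← j2_Dt, ← j3_Dt] at this
      rw [map_neg]
      exact eq_neg_of_add_eq_zero_left this
    obtain ⟨κ, hκ2, hκ3⟩ := exists_of_j2_eq_j3 a b h0
    have : dt w = κ := by
      show ρ (Dt a.cpx B (X w)) = κ
      rw [← hκ2]
      exact LinearMap.congr_fun hρ κ
    rw [this]
    exact ⟨hκ2, hκ3⟩
  have hgen : ∀ (w : ↥(ZW a b n)) (x : Tot a.cpx B) (y : Tot A b.cpx), x ∈ supp a.cpx B n →
      y ∈ supp A b.cpx n → j2 a x + j3 b y = w.1 →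
      ∃ κ' ∈ supp a.cpx b.cpx n, i2 a b (dt w - Dt a.cpx b.cpx κ') = Dt a.cpx B x ∧
        i3 a b (dt w - Dt a.cpx b.cpx κ') = -Dt A b.cpx y := by
    intro w x y hx hy hxy
    have h0 : j2 a (X w - x) = j3 b (-(Y w - y)) := by
      have := (hXY w).trans hxy.symm
      rw [map_neg, map_sub, map_sub]
      have h1 : j2 a (X w) - j2 a x + (j3 b (Y w) - j3 b y) = 0 := by
        rw [sub_add_sub_comm, this, sub_self]
      exact eq_neg_of_add_eq_zero_left h1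
    obtain ⟨κ', hκ2, hκ3⟩ := exists_of_j2_eq_j3 a b h0
    refine ⟨κ', ?_, ?_, ?_⟩
    · apply mem_supp_of_i2 a b
      rw [hκ2]
      exact sub_mem (hXs w) hx
    · rw [map_sub, (hdt w).1, i2_Dt, hκ2, map_sub, sub_sub_cancel]
    · rw [map_sub, (hdt w).2, i3_Dt, hκ3, map_neg, map_sub]
      abel
  have hcyc : ∀ w, dt w ∈ totCyc a.cpx b.cpx (n + 1) := by
    intro w
    constructor
    · apply mem_supp_of_i2 a b
      rw [(hdt w).1]
      exact Dt_mem_supp (hXs w)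
    · show Dt a.cpx b.cpx (dt w) = 0
      apply i2_injective a b
      rw [i2_Dt, (hdt w).1, Dt_Dt, map_zero]
  let dtc : ↥(ZW a b n) →ₗ[k] ↥(totCyc a.cpx b.cpx (n + 1)) := dt.codRestrict _ hcyc
  have hbdy : ∀ (w : ↥(ZW a b n)) (κ' : Tot a.cpx b.cpx), κ' ∈ supp a.cpx b.cpx n →
      dt w = Dt a.cpx b.cpx κ' → dt w ∈ totBdy a.cpx b.cpx (n + 1) := by
    intro w κ' hκ' h
    rw [h]
    exact ⟨κ', hκ', rfl⟩
  have hle : (BW a b n).comap (ZW a b n).subtype ≤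
      ((totBdy a.cpx b.cpx (n + 1)).comap (totCyc a.cpx b.cpx (n + 1)).subtype).comap dtc := by
    intro w hw
    obtain ⟨x', hx', y', hy', hxy⟩ := exists_of_mem_BW a b (show w.1 ∈ BW a b n from hw)
    have hx'c := totBdy_le_totCyc n hx'
    have hy'c := totBdy_le_totCyc n hy'
    obtain ⟨κ', hκ', h2, -⟩ := hgen w x' y' hx'c.1 hy'c.1 hxy
    rw [show Dt a.cpx B x' = 0 from hx'c.2] at h2
    have h3 : dt w - Dt a.cpx b.cpx κ' = 0 := i2_injective a b (h2.trans (map_zero _).symm)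
    exact hbdy w κ' hκ' (sub_eq_zero.mp h3)
  let δ : HW a b n →ₗ[k] Htot a.cpx b.cpx (n + 1) := Submodule.mapQ _ _ dtc hle
  have hδ : ∀ w : ↥(ZW a b n), δ (Submodule.Quotient.mk w) = Submodule.Quotient.mk (dtc w) :=
    fun w => rfl
  refine ⟨δ, ?_, ?_⟩
  · -- surjectivity
    intro c
    obtain ⟨κ, rfl⟩ := Submodule.Quotient.mk_surjective _ c
    obtain ⟨x, hx, hxκ⟩ := i2_mem_totBdy a b hB hb0 κ.2
    obtain ⟨y, hy, hyκ⟩ := i3_mem_totBdy a b hA ha0 κ.2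
    have hwZ : j2 a x + j3 b (-y) ∈ ZW a b n := by
      refine ⟨add_mem (j2_mem_Wsub a b hx) (j3_mem_Wsub a b (neg_mem hy)), ?_⟩
      show Dt A B (j2 a x + j3 b (-y)) = 0
      rw [map_add, ← j2_Dt, ← j3_Dt, map_neg, hxκ, hyκ, map_neg, j2_i2, add_neg_cancel]
    obtain ⟨κ', hκ', h2, -⟩ := hgen ⟨_, hwZ⟩ x (-y) hx (neg_mem hy) rfl
    rw [hxκ] at h2
    have h3 : dt ⟨_, hwZ⟩ - Dt a.cpx b.cpx κ' = κ.1 := i2_injective a b h2
    refine ⟨Submodule.Quotient.mk ⟨_, hwZ⟩, ?_⟩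
    rw [hδ, Submodule.Quotient.eq]
    show dt ⟨_, hwZ⟩ - κ.1 ∈ totBdy a.cpx b.cpx (n + 1)
    rw [← h3, sub_sub_cancel]
    exact ⟨κ', hκ', rfl⟩
  · apply le_antisymm
    · -- the kernel is in the image
      intro c hc
      obtain ⟨w, rfl⟩ := Submodule.Quotient.mk_surjective _ c
      rw [LinearMap.mem_ker, hδ, Submodule.Quotient.mk_eq_zero] at hc
      obtain ⟨κ', hκ', hκ'w⟩ := (show dt w ∈ totBdy a.cpx b.cpx (n + 1) from hc)
      have hx0 : X w - i2 a b κ' ∈ totCyc a.cpx B n := by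
        refine ⟨sub_mem (hXs w) (totMap_mem_supp _ _ hκ'), ?_⟩
        show Dt a.cpx B (X w - i2 a b κ') = 0
        rw [map_sub, ← i2_Dt, hκ'w, (hdt w).1, sub_self]
      have hy0 : Y w + i3 a b κ' ∈ totCyc A b.cpx n := by
        refine ⟨add_mem (hYs w) (totMap_mem_supp _ _ hκ'), ?_⟩
        show Dt A b.cpx (Y w + i3 a b κ') = 0
        rw [map_add, ← i3_Dt, hκ'w, (hdt w).2, add_neg_cancel]
      refine ⟨(Submodule.Quotient.mk ⟨_, hx0⟩, Submodule.Quotient.mk ⟨_, hy0⟩), ?_⟩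
      rw [α_mk]
      congr 1
      apply Subtype.ext
      show j2 a (X w - i2 a b κ') + j3 b (Y w + i3 a b κ') = w.1
      rw [map_sub, map_add, j2_i2, ← hXY w]
      abel
    · -- the image is in the kernel
      rintro _ ⟨⟨x, y⟩, rfl⟩
      obtain ⟨x, rfl⟩ := Submodule.Quotient.mk_surjective _ x
      obtain ⟨y, rfl⟩ := Submodule.Quotient.mk_surjective _ y
      rw [α_mk, LinearMap.mem_ker, hδ, Submodule.Quotient.mk_eq_zero]
      obtain ⟨κ', hκ', h2, -⟩ := hgen ⟨_, add_mem (j2_mem_ZW a b x.2) (j3_mem_ZW a b y.2)⟩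
        x.1 y.1 x.2.1 y.2.1 rfl
      rw [show Dt a.cpx B x.1 = 0 from x.2.2] at h2
      have h3 := i2_injective a b (h2.trans (map_zero _).symm)
      exact hbdy _ κ' hκ' (sub_eq_zero.mp h3)

include hA hB ha0 hb0 in
/-- The Mayer–Vietoris count. -/
theorem finrank_HW (n : ℕ) [Module.Finite k (Htot a.cpx B n)] [Module.Finite k (Htot A b.cpx n)]
    [Module.Finite k (Htot a.cpx b.cpx (n + 1))] :
    Module.Finite k (HW a b n) ∧ Module.finrank k (HW a b n) =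
      Module.finrank k (Htot a.cpx B n) + Module.finrank k (Htot A b.cpx n) +
        Module.finrank k (Htot a.cpx b.cpx (n + 1)) := by
  obtain ⟨δ, hδs, hδk⟩ := exists_delta a b hA hB ha0 hb0 n
  have hαi := α_injective a b hA hB ha0 hb0 n
  haveI : Module.Finite k ↥(LinearMap.ker δ) := by
    rw [hδk]
    exact Module.Finite.range _
  haveI : Module.Finite k (HW a b n ⧸ LinearMap.ker δ) :=
    Module.Finite.equiv (LinearMap.quotKerEquivOfSurjective δ hδs).symm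
  haveI hfin : Module.Finite k (HW a b n) := Module.Finite.of_submodule_quotient (LinearMap.ker δ)
  refine ⟨hfin, ?_⟩
  have h1 := LinearMap.finrank_range_add_finrank_ker δ
  rw [LinearMap.range_eq_top.mpr hδs, finrank_top] at h1
  have h2 : Module.finrank k ↥(LinearMap.ker δ) =
      Module.finrank k (Htot a.cpx B n × Htot A b.cpx n) := by
    rw [hδk]
    exact LinearMap.finrank_range_of_inj hαi
  rw [← h1, h2, Module.finrank_prod]
  ring

theorem subsingleton_H_of_exact {C : Cpx k} (p : ℕ) (h : C.cyc p ≤ C.bdy p) : Subsingleton (C.H p) := by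
  apply Submodule.Quotient.subsingleton_iff.mpr
  rw [eq_top_iff]
  intro z _
  exact h z.2

theorem finrank_H_of_exact {C : Cpx k} (p : ℕ) (h : C.cyc p ≤ C.bdy p) :
    Module.finrank k (C.H p) = 0 := by
  haveI := subsingleton_H_of_exact p h
  exact Module.finrank_zero_of_subsingleton

theorem finite_H_of_exact {C : Cpx k} (hC : ∀ p, C.cyc (p + 1) ≤ C.bdy (p + 1))
    [Module.Finite k (C.H 0)] (p : ℕ) : Module.Finite k (C.H p) := by
  cases p with
  | zero => infer_instance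
  | succ p =>
    haveI := subsingleton_H_of_exact (p + 1) (hC p)
    infer_instance

include hA hB ha0 hb0 in
/-- The Künneth–Mayer–Vietoris count for `A' ⊗ B + A ⊗ B'`. -/
theorem finrank_HW_eq (n : ℕ) [∀ p, Module.Finite k (a.cpx.H p)] [∀ q, Module.Finite k (b.cpx.H q)]
    [Module.Finite k (A.H 0)] [Module.Finite k (B.H 0)] :
    Module.finrank k (HW a b n) =
      Module.finrank k (a.cpx.H n) * Module.finrank k (B.H 0) +
        Module.finrank k (A.H 0) * Module.finrank k (b.cpx.H n) +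
        ∑ i ∈ Finset.range (n + 2),
          Module.finrank k (a.cpx.H i) * Module.finrank k (b.cpx.H (n + 1 - i)) := by
  haveI : ∀ p, Module.Finite k (A.H p) := finite_H_of_exact hA
  haveI : ∀ q, Module.Finite k (B.H q) := finite_H_of_exact hB
  haveI := finite_Htot (C := a.cpx) (D := B) n
  haveI := finite_Htot (C := A) (D := b.cpx) n
  haveI := finite_Htot (C := a.cpx) (D := b.cpx) (n + 1)
  rw [(finrank_HW a b hA hB ha0 hb0 n).2, finrank_Htot, finrank_Htot, finrank_Htot]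
  congr 2
  · rw [Finset.sum_eq_single n]
    · rw [Nat.sub_self]
    · intro i hi hin
      have hi' : i < n + 1 := Finset.mem_range.mp hi
      obtain ⟨j, hj⟩ : ∃ j, n - i = j + 1 := ⟨n - i - 1, by omega⟩
      rw [hj, finrank_H_of_exact (j + 1) (hB j), mul_zero]
    · intro h
      exact absurd (Finset.mem_range.mpr (Nat.lt_succ_self n)) h
  · rw [Finset.sum_eq_single 0]
    · rw [Nat.sub_zero]
    · intro i _ hi0
      obtain ⟨j, rfl⟩ : ∃ j, i = j + 1 := ⟨i - 1, by omega⟩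
      rw [finrank_H_of_exact (j + 1) (hA j), zero_mul]
    · intro h
      exact absurd (Finset.mem_range.mpr (Nat.succ_pos n)) h

end Cpx

end Groth.Agent.Lib.Helper8.Kun
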