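import Groth.Agent.Lib.Helper8Kun6

/-!
# The Mayer–Vietoris connecting map in general, and the top degree count (helper8)
-/

set_option autoImplicit false
set_option linter.unusedSectionVars false
set_option linter.style.haveILetI false
universe u
open TensorProduct

noncomputable section

namespace Groth.Agent.Lib.Helper8.Kun

variable {k : Type u} [Field k]

namespace Cpx

variable {A B : Cpx k} (a : SubCpx A) (b : SubCpx B)

/-- The Mayer–Vietoris connecting map, under the hypothesis that the maps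
`H^{n+1}(A' ⊗ B') → H^{n+1}(A' ⊗ B)` and `H^{n+1}(A' ⊗ B') → H^{n+1}(A ⊗ B')` vanish; with its
characterisation on representatives. -/
theorem exists_delta_gen (n : ℕ)
    (h2 : ∀ κ ∈ totCyc a.cpx b.cpx (n + 1), i2 a b κ ∈ totBdy a.cpx B (n + 1))
    (h3 : ∀ κ ∈ totCyc a.cpx b.cpx (n + 1), i3 a b κ ∈ totBdy A b.cpx (n + 1)) :
    ∃ δ : HW a b n →ₗ[k] Htot a.cpx b.cpx (n + 1),
    Function.Surjective δ ∧ LinearMap.ker δ = LinearMap.range (α a b n) ∧
    ∀ (w : ↥(ZW a b n)) (x : Tot a.cpx B) (y : Tot A b.cpx)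
      (κ : ↥(totCyc a.cpx b.cpx (n + 1))), x ∈ supp a.cpx B n → y ∈ supp A b.cpx n →
      j2 a x + j3 b y = w.1 → i2 a b κ.1 = Dt a.cpx B x →
      δ (Submodule.Quotient.mk w) = Submodule.Quotient.mk κ := by
  classical
  -- a linear section of the sum map
  let Ln : Submodule k (Tot a.cpx B × Tot A b.cpx) := (supp a.cpx B n).prod (supp A b.cpx n)
  let σ : (Tot a.cpx B × Tot A b.cpx) →ₗ[k] Tot A B := (j2 a).coprod (j3 b)
  have hσ : ∀ z ∈ Ln, σ z ∈ Wsub a b n := fun z hz =>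
    add_mem (j2_mem_Wsub a b hz.1) (j3_mem_Wsub a b hz.2)
  let σn : ↥Ln →ₗ[k] ↥(Wsub a b n) := σ.restrict hσ
  have hσn : Function.Surjective σn := by
    rintro ⟨w, hw⟩
    obtain ⟨x, hx, y, hy, hxy⟩ := exists_decomp a b hw
    exact ⟨⟨(x, y), ⟨hx, hy⟩⟩, Subtype.ext hxy⟩
  obtain ⟨τ, hτ⟩ := LinearMap.exists_rightInverse_of_surjective σn
    (LinearMap.range_eq_top.mpr hσn)
  obtain ⟨ρ, hρ⟩ := LinearMap.exists_leftInverse_of_injective (i2 a b)
    (LinearMap.ker_eq_bot.mpr (i2_injective a b))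
  have hZW : ZW a b n ≤ Wsub a b n := inf_le_left
  let X : ↥(ZW a b n) →ₗ[k] Tot a.cpx B :=
    (LinearMap.fst k _ _) ∘ₗ Ln.subtype ∘ₗ τ ∘ₗ Submodule.inclusion hZW
  let Y : ↥(ZW a b n) →ₗ[k] Tot A b.cpx :=
    (LinearMap.snd k _ _) ∘ₗ Ln.subtype ∘ₗ τ ∘ₗ Submodule.inclusion hZW
  have hXs : ∀ w, X w ∈ supp a.cpx B n := fun w => (τ (Submodule.inclusion hZW w)).2.1
  have hYs : ∀ w, Y w ∈ supp A b.cpx n := fun w => (τ (Submodule.inclusion hZW w)).2.2
  have hXY : ∀ w : ↥(ZW a b n), j2 a (X w) + j3 b (Y w) = w.1 := by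
    intro w
    have := LinearMap.congr_fun hτ (Submodule.inclusion hZW w)
    exact congrArg Subtype.val this
  let dt : ↥(ZW a b n) →ₗ[k] Tot a.cpx b.cpx := ρ ∘ₗ Dt a.cpx B ∘ₗ X
  have hwD : ∀ w : ↥(ZW a b n), Dt A B w.1 = 0 := fun w => w.2.2
  have hdt : ∀ w : ↥(ZW a b n), i2 a b (dt w) = Dt a.cpx B (X w) ∧
      i3 a b (dt w) = -Dt A b.cpx (Y w) := by
    intro w
    have h0 : j2 a (Dt a.cpx B (X w)) = j3 b (-Dt A b.cpx (Y w)) := by
      have := congrArg (Dt A B) (hXY w)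
      rw [hwD, map_add, ← j2_Dt, ← j3_Dt] at this
      rw [map_neg]
      exact eq_neg_of_add_eq_zero_left this
    obtain ⟨κ, hκ2, hκ3⟩ := exists_of_j2_eq_j3 a b h0
    have : dt w = κ := by
      show ρ (Dt a.cpx B (X w)) = κ
      rw [← hκ2]
      exact LinearMap.congr_fun hρ κ
    rw [this]
    exact ⟨hκ2, hκ3⟩
  have hgen : ∀ (w : ↥(ZW a b n)) (x : Tot a.cpx B) (y : Tot A b.cpx), x ∈ supp a.cpx B n →
      y ∈ supp A b.cpx n → j2 a x + j3 b y = w.1 →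
      ∃ κ' ∈ supp a.cpx b.cpx n, i2 a b (dt w - Dt a.cpx b.cpx κ') = Dt a.cpx B x ∧
        i3 a b (dt w - Dt a.cpx b.cpx κ') = -Dt A b.cpx y := by
    intro w x y hx hy hxy
    have h0 : j2 a (X w - x) = j3 b (-(Y w - y)) := by
      have := (hXY w).trans hxy.symm
      rw [map_neg, map_sub, map_sub]
      have h1 : j2 a (X w) - j2 a x + (j3 b (Y w) - j3 b y) = 0 := by
        rw [sub_add_sub_comm, this, sub_self]
      exact eq_neg_of_add_eq_zero_left h1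
    obtain ⟨κ', hκ2, hκ3⟩ := exists_of_j2_eq_j3 a b h0
    refine ⟨κ', ?_, ?_, ?_⟩
    · apply mem_supp_of_i2 a b
      rw [hκ2]
      exact sub_mem (hXs w) hx
    · rw [map_sub, (hdt w).1, i2_Dt, hκ2, map_sub, sub_sub_cancel]
    · rw [map_sub, (hdt w).2, i3_Dt, hκ3, map_neg, map_sub]
      abel
  have hcyc : ∀ w, dt w ∈ totCyc a.cpx b.cpx (n + 1) := by
    intro w
    constructor
    · apply mem_supp_of_i2 a b
      rw [(hdt w).1]
      exact Dt_mem_supp (hXs w)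
    · show Dt a.cpx b.cpx (dt w) = 0
      apply i2_injective a b
      rw [i2_Dt, (hdt w).1, Dt_Dt, map_zero]
  let dtc : ↥(ZW a b n) →ₗ[k] ↥(totCyc a.cpx b.cpx (n + 1)) := dt.codRestrict _ hcyc
  have hbdy : ∀ (w : ↥(ZW a b n)) (κ' : Tot a.cpx b.cpx), κ' ∈ supp a.cpx b.cpx n →
      dt w = Dt a.cpx b.cpx κ' → dt w ∈ totBdy a.cpx b.cpx (n + 1) := by
    intro w κ' hκ' h
    rw [h]
    exact ⟨κ', hκ', rfl⟩
  have hle : (BW a b n).comap (ZW a b n).subtype ≤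
      ((totBdy a.cpx b.cpx (n + 1)).comap (totCyc a.cpx b.cpx (n + 1)).subtype).comap dtc := by
    intro w hw
    obtain ⟨x', hx', y', hy', hxy⟩ := exists_of_mem_BW a b (show w.1 ∈ BW a b n from hw)
    have hx'c := totBdy_le_totCyc n hx'
    have hy'c := totBdy_le_totCyc n hy'
    obtain ⟨κ', hκ', h2, -⟩ := hgen w x' y' hx'c.1 hy'c.1 hxy
    rw [show Dt a.cpx B x' = 0 from hx'c.2] at h2
    have h3 : dt w - Dt a.cpx b.cpx κ' = 0 := i2_injective a b (h2.trans (map_zero _).symm)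
    exact hbdy w κ' hκ' (sub_eq_zero.mp h3)
  let δ : HW a b n →ₗ[k] Htot a.cpx b.cpx (n + 1) := Submodule.mapQ _ _ dtc hle
  have hδ : ∀ w : ↥(ZW a b n), δ (Submodule.Quotient.mk w) = Submodule.Quotient.mk (dtc w) :=
    fun w => rfl
  refine ⟨δ, ?_, ?_, ?_⟩
  · -- surjectivity
    intro c
    obtain ⟨κ, rfl⟩ := Submodule.Quotient.mk_surjective _ c
    obtain ⟨x, hx, hxκ⟩ := h2 κ.1 κ.2
    obtain ⟨y, hy, hyκ⟩ := h3 κ.1 κ.2
    have hwZ : j2 a x + j3 b (-y) ∈ ZW a b n := by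
      refine ⟨add_mem (j2_mem_Wsub a b hx) (j3_mem_Wsub a b (neg_mem hy)), ?_⟩
      show Dt A B (j2 a x + j3 b (-y)) = 0
      rw [map_add, ← j2_Dt, ← j3_Dt, map_neg, hxκ, hyκ, map_neg, j2_i2, add_neg_cancel]
    obtain ⟨κ', hκ', h2, -⟩ := hgen ⟨_, hwZ⟩ x (-y) hx (neg_mem hy) rfl
    rw [hxκ] at h2
    have h3 : dt ⟨_, hwZ⟩ - Dt a.cpx b.cpx κ' = κ.1 := i2_injective a b h2
    refine ⟨Submodule.Quotient.mk ⟨_, hwZ⟩, ?_⟩
    rw [hδ, Submodule.Quotient.eq]
    show dt ⟨_, hwZ⟩ - κ.1 ∈ totBdy a.cpx b.cpx (n + 1)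
    rw [← h3, sub_sub_cancel]
    exact ⟨κ', hκ', rfl⟩
  · apply le_antisymm
    · -- the kernel is in the image
      intro c hc
      obtain ⟨w, rfl⟩ := Submodule.Quotient.mk_surjective _ c
      rw [LinearMap.mem_ker, hδ, Submodule.Quotient.mk_eq_zero] at hc
      obtain ⟨κ', hκ', hκ'w⟩ := (show dt w ∈ totBdy a.cpx b.cpx (n + 1) from hc)
      have hx0 : X w - i2 a b κ' ∈ totCyc a.cpx B n := by
        refine ⟨sub_mem (hXs w) (totMap_mem_supp _ _ hκ'), ?_⟩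
        show Dt a.cpx B (X w - i2 a b κ') = 0
        rw [map_sub, ← i2_Dt, hκ'w, (hdt w).1, sub_self]
      have hy0 : Y w + i3 a b κ' ∈ totCyc A b.cpx n := by
        refine ⟨add_mem (hYs w) (totMap_mem_supp _ _ hκ'), ?_⟩
        show Dt A b.cpx (Y w + i3 a b κ') = 0
        rw [map_add, ← i3_Dt, hκ'w, (hdt w).2, add_neg_cancel]
      refine ⟨(Submodule.Quotient.mk ⟨_, hx0⟩, Submodule.Quotient.mk ⟨_, hy0⟩), ?_⟩
      rw [α_mk]
      congr 1
      apply Subtype.ext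
      show j2 a (X w - i2 a b κ') + j3 b (Y w + i3 a b κ') = w.1
      rw [map_sub, map_add, j2_i2, ← hXY w]
      abel
    · -- the image is in the kernel
      rintro _ ⟨⟨x, y⟩, rfl⟩
      obtain ⟨x, rfl⟩ := Submodule.Quotient.mk_surjective _ x
      obtain ⟨y, rfl⟩ := Submodule.Quotient.mk_surjective _ y
      rw [α_mk, LinearMap.mem_ker, hδ, Submodule.Quotient.mk_eq_zero]
      obtain ⟨κ', hκ', h2, -⟩ := hgen ⟨_, add_mem (j2_mem_ZW a b x.2) (j3_mem_ZW a b y.2)⟩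
        x.1 y.1 x.2.1 y.2.1 rfl
      rw [show Dt a.cpx B x.1 = 0 from x.2.2] at h2
      have h3 := i2_injective a b (h2.trans (map_zero _).symm)
      exact hbdy _ κ' hκ' (sub_eq_zero.mp h3)
  · -- the characterisation
    intro w x y κ hx hy hxy hκ
    obtain ⟨κ', hκ', h2', -⟩ := hgen w x y hx hy hxy
    rw [← hκ] at h2'
    have h3' : dt w - Dt a.cpx b.cpx κ' = κ.1 := i2_injective a b h2'
    rw [hδ, Submodule.Quotient.eq]
    show dt w - κ.1 ∈ totBdy a.cpx b.cpx (n + 1)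
    rw [← h3', sub_sub_cancel]
    exact ⟨κ', hκ', rfl⟩


theorem i2_mem_totCyc {n : ℕ} {κ : Tot a.cpx b.cpx} (hκ : κ ∈ totCyc a.cpx b.cpx n) :
    i2 a b κ ∈ totCyc a.cpx B n := by
  refine ⟨totMap_mem_supp _ _ hκ.1, ?_⟩
  show Dt a.cpx B (i2 a b κ) = 0
  rw [← i2_Dt, show Dt a.cpx b.cpx κ = 0 from hκ.2, map_zero]

theorem i3_mem_totCyc {n : ℕ} {κ : Tot a.cpx b.cpx} (hκ : κ ∈ totCyc a.cpx b.cpx n) :
    i3 a b κ ∈ totCyc A b.cpx n := by
  refine ⟨totMap_mem_supp _ _ hκ.1, ?_⟩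
  show Dt A b.cpx (i3 a b κ) = 0
  rw [← i3_Dt, show Dt a.cpx b.cpx κ = 0 from hκ.2, map_zero]

theorem totCyc_le_totBdy_of_subsingleton {C D : Cpx k} (n : ℕ) [Subsingleton (Htot C D n)] :
    totCyc C D n ≤ totBdy C D n := by
  intro z hz
  have h : (Submodule.Quotient.mk ⟨z, hz⟩ : Htot C D n) = 0 := Subsingleton.elim _ _
  rw [Submodule.Quotient.mk_eq_zero] at h
  exact h

/-- In a degree where the cohomology of `A' ⊗ B` and `A ⊗ B'` vanishes (in that degree and the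
next), the connecting map is an isomorphism `H^n(W) ≃ H^{n+1}(A' ⊗ B')`. -/
theorem exists_deltaEquiv (n : ℕ) [Subsingleton (Htot a.cpx B n)] [Subsingleton (Htot A b.cpx n)]
    [Subsingleton (Htot a.cpx B (n + 1))] [Subsingleton (Htot A b.cpx (n + 1))] :
    ∃ δ : HW a b n ≃ₗ[k] Htot a.cpx b.cpx (n + 1),
    ∀ (w : ↥(ZW a b n)) (x : Tot a.cpx B) (y : Tot A b.cpx)
      (κ : ↥(totCyc a.cpx b.cpx (n + 1))), x ∈ supp a.cpx B n → y ∈ supp A b.cpx n →
      j2 a x + j3 b y = w.1 → i2 a b κ.1 = Dt a.cpx B x →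
      δ (Submodule.Quotient.mk w) = Submodule.Quotient.mk κ := by
  obtain ⟨δ, hs, hk, hc⟩ := exists_delta_gen a b n
    (fun κ hκ => totCyc_le_totBdy_of_subsingleton (n + 1) (i2_mem_totCyc a b hκ))
    (fun κ hκ => totCyc_le_totBdy_of_subsingleton (n + 1) (i3_mem_totCyc a b hκ))
  have hinj : Function.Injective δ := by
    rw [← LinearMap.ker_eq_bot, hk, eq_bot_iff]
    rintro _ ⟨z, rfl⟩
    rw [Subsingleton.elim z 0, map_zero]
    exact zero_mem _
  exact ⟨LinearEquiv.ofBijective δ ⟨hinj, hs⟩, hc⟩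

theorem subsingleton_Htot {C D : Cpx k} [∀ p, Module.Finite k (C.H p)]
    [∀ q, Module.Finite k (D.H q)] (n : ℕ)
    (h : ∀ i, i ≤ n → Subsingleton (C.H i) ∨ Subsingleton (D.H (n - i))) :
    Subsingleton (Htot C D n) := by
  haveI := finite_Htot (C := C) (D := D) n
  rw [← Module.finrank_zero_iff (R := k), finrank_Htot]
  apply Finset.sum_eq_zero
  intro i hi
  rcases h i (Nat.lt_succ_iff.mp (Finset.mem_range.mp hi)) with h1 | h1
  · rw [Module.finrank_zero_of_subsingleton, zero_mul]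
  · rw [Module.finrank_zero_of_subsingleton (M := D.H (n - i)), mul_zero]

variable (hA : ∀ p, A.cyc (p + 1) ≤ A.bdy (p + 1)) (hB : ∀ q, B.cyc (q + 1) ≤ B.bdy (q + 1))

include hA hB in
/-- the top degree count: where the cohomology of `A'` and of `B'` vanishes in degrees `≥ n`
(`n ≥ 1`), `H^n(W) ≃ H^{n+1}(A' ⊗ B')`. -/
theorem finrank_HW_top (n : ℕ) [∀ p, Module.Finite k (a.cpx.H p)]
    [∀ q, Module.Finite k (b.cpx.H q)] [Module.Finite k (A.H 0)] [Module.Finite k (B.H 0)]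
    (ha : ∀ p, n ≤ p → Subsingleton (a.cpx.H p)) (hb : ∀ q, n ≤ q → Subsingleton (b.cpx.H q)) :
    Module.finrank k (HW a b n) =
      ∑ i ∈ Finset.range (n + 2),
        Module.finrank k (a.cpx.H i) * Module.finrank k (b.cpx.H (n + 1 - i)) := by
  haveI : ∀ p, Module.Finite k (A.H p) := finite_H_of_exact hA
  haveI : ∀ q, Module.Finite k (B.H q) := finite_H_of_exact hB
  have hl : ∀ m, n ≤ m → Subsingleton (Htot a.cpx B m) := by
    intro m hm
    apply subsingleton_Htot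
    intro i hi
    rcases Nat.lt_or_ge i m with h | h
    · right
      obtain ⟨j, hj⟩ : ∃ j, m - i = j + 1 := ⟨m - i - 1, by omega⟩
      rw [hj]
      exact subsingleton_H_of_exact (j + 1) (hB j)
    · left
      exact ha i (by omega)
  have hr : ∀ m, n ≤ m → Subsingleton (Htot A b.cpx m) := by
    intro m hm
    apply subsingleton_Htot
    intro i hi
    rcases Nat.eq_zero_or_pos i with h | h
    · right
      subst h
      exact hb m (by omega)
    · left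
      obtain ⟨j, rfl⟩ : ∃ j, i = j + 1 := ⟨i - 1, by omega⟩
      exact subsingleton_H_of_exact (j + 1) (hA j)
  haveI := hl n le_rfl
  haveI := hl (n + 1) (Nat.le_succ n)
  haveI := hr n le_rfl
  haveI := hr (n + 1) (Nat.le_succ n)
  obtain ⟨δ, -⟩ := exists_deltaEquiv a b n
  rw [LinearEquiv.finrank_eq δ, finrank_Htot]

end Cpx

end Groth.Agent.Lib.Helper8.Kun
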