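import Groth.Agent.Lib.Helper8Kun7

/-!
# Naturality of the Mayer–Vietoris connecting map (helper8)
-/

set_option autoImplicit false
set_option linter.unusedSectionVars false
set_option linter.style.haveILetI false
universe u
open TensorProduct

noncomputable section

namespace Groth.Agent.Lib.Helper8.Kun

variable {k : Type u} [Field k]

namespace Cpx

section Squares

variable {C₁ C₂ C₃ C₄ D₁ D₂ D₃ D₄ : Cpx k}

/-- commutative squares of maps of complexes give commutative squares of total maps -/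
theorem totMap_sq (φ₁ : Hom C₁ C₂) (φ₂ : Hom C₂ C₄) (φ₃ : Hom C₁ C₃) (φ₄ : Hom C₃ C₄)
    (ψ₁ : Hom D₁ D₂) (ψ₂ : Hom D₂ D₄) (ψ₃ : Hom D₁ D₃) (ψ₄ : Hom D₃ D₄)
    (hφ : ∀ p x, φ₂.f p (φ₁.f p x) = φ₄.f p (φ₃.f p x))
    (hψ : ∀ q y, ψ₂.f q (ψ₁.f q y) = ψ₄.f q (ψ₃.f q y)) (f : Tot C₁ D₁) :
    totMap φ₂ ψ₂ (totMap φ₁ ψ₁ f) = totMap φ₄ ψ₄ (totMap φ₃ ψ₃ f) := by
  funext p q
  rw [totMap_apply, totMap_apply, totMap_apply, totMap_apply, ← LinearMap.comp_apply,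
    ← LinearMap.comp_apply, ← TensorProduct.map_comp, ← TensorProduct.map_comp]
  have h1 : φ₂.f p ∘ₗ φ₁.f p = φ₄.f p ∘ₗ φ₃.f p := LinearMap.ext (hφ p)
  have h2 : ψ₂.f q ∘ₗ ψ₁.f q = ψ₄.f q ∘ₗ ψ₃.f q := LinearMap.ext (hψ q)
  rw [h1, h2]

end Squares

section Pairs

variable {A B A' B' : Cpx k} (a : SubCpx A) (b : SubCpx B) (a' : SubCpx A') (b' : SubCpx B')
  (φ : Hom A A') (ψ : Hom B B')
  (hφ : ∀ (p : ℕ) (x : A.X p), x ∈ a.U p → φ.f p x ∈ a'.U p)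
  (hψ : ∀ (q : ℕ) (y : B.X q), y ∈ b.U q → ψ.f q y ∈ b'.U q)

/-- the restriction of a map of complexes to subcomplexes -/
def resHom : Hom a.cpx a'.cpx :=
  ⟨fun p => (φ.f p).restrict (hφ p), fun p x => Subtype.ext (φ.comm p x.1)⟩

theorem j2_totMap (x : Tot a.cpx B) :
    j2 a' (totMap (resHom a a' φ hφ) ψ x) = totMap φ ψ (j2 a x) :=
  totMap_sq (resHom a a' φ hφ) a'.ι a.ι φ ψ (Hom.id B') (Hom.id B) ψ
    (fun _ _ => rfl) (fun _ _ => rfl) x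

theorem j3_totMap (y : Tot A b.cpx) :
    j3 b' (totMap φ (resHom b b' ψ hψ) y) = totMap φ ψ (j3 b y) :=
  totMap_sq φ (Hom.id A') (Hom.id A) φ (resHom b b' ψ hψ) b'.ι b.ι ψ
    (fun _ _ => rfl) (fun _ _ => rfl) y

theorem i2_totMap (κ : Tot a.cpx b.cpx) :
    i2 a' b' (totMap (resHom a a' φ hφ) (resHom b b' ψ hψ) κ) =
      totMap (resHom a a' φ hφ) ψ (i2 a b κ) :=
  totMap_sq (resHom a a' φ hφ) (Hom.id a'.cpx) (Hom.id a.cpx) (resHom a a' φ hφ)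
    (resHom b b' ψ hψ) b'.ι b.ι ψ (fun _ _ => rfl) (fun _ _ => rfl) κ

theorem i3_totMap (κ : Tot a.cpx b.cpx) :
    i3 a' b' (totMap (resHom a a' φ hφ) (resHom b b' ψ hψ) κ) =
      totMap φ (resHom b b' ψ hψ) (i3 a b κ) :=
  totMap_sq (resHom a a' φ hφ) a'.ι a.ι φ (resHom b b' ψ hψ) (Hom.id b'.cpx) (Hom.id b.cpx)
    (resHom b b' ψ hψ) (fun _ _ => rfl) (fun _ _ => rfl) κ

include hφ hψ in
theorem totMap_mem_Wsub {n : ℕ} {w : Tot A B} (hw : w ∈ Wsub a b n) :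
    totMap φ ψ w ∈ Wsub a' b' n := by
  obtain ⟨x, hx, y, hy, rfl⟩ := exists_decomp a b hw
  rw [map_add, ← j2_totMap a a' φ ψ hφ, ← j3_totMap b b' φ ψ hψ]
  exact add_mem (j2_mem_Wsub a' b' (totMap_mem_supp _ _ hx))
    (j3_mem_Wsub a' b' (totMap_mem_supp _ _ hy))

include hφ hψ in
theorem totMap_mem_ZW {n : ℕ} {w : Tot A B} (hw : w ∈ ZW a b n) :
    totMap φ ψ w ∈ ZW a' b' n := by
  refine ⟨totMap_mem_Wsub a b a' b' φ ψ hφ hψ hw.1, ?_⟩
  show Dt A' B' (totMap φ ψ w) = 0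
  rw [← totMap_Dt, show Dt A B w = 0 from hw.2, map_zero]

include hφ hψ in
theorem totMap_mem_BW {n : ℕ} {w : Tot A B} (hw : w ∈ BW a b n) :
    totMap φ ψ w ∈ BW a' b' n := by
  cases n with
  | zero =>
    have : w = 0 := (Submodule.mem_bot k).mp hw
    rw [this, map_zero]
    exact zero_mem _
  | succ n =>
    obtain ⟨w', hw', rfl⟩ := hw
    exact ⟨totMap φ ψ w', totMap_mem_Wsub a b a' b' φ ψ hφ hψ hw', (totMap_Dt φ ψ w').symm⟩

/-- the induced map on the cohomology of `W` -/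
def HWmap (n : ℕ) : HW a b n →ₗ[k] HW a' b' n :=
  Submodule.mapQ _ _ ((totMap φ ψ).restrict (fun _ hw => totMap_mem_ZW a b a' b' φ ψ hφ hψ hw))
    (fun _ hw => totMap_mem_BW a b a' b' φ ψ hφ hψ hw)

theorem HWmap_mk (n : ℕ) (w : ↥(ZW a b n)) :
    HWmap a b a' b' φ ψ hφ hψ n (Submodule.Quotient.mk w) =
      Submodule.Quotient.mk ⟨totMap φ ψ w.1, totMap_mem_ZW a b a' b' φ ψ hφ hψ w.2⟩ := rfl

end Pairs

section HtotMap

variable {C D C' D' : Cpx k} (φ : Hom C C') (ψ : Hom D D')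

theorem totMap_mem_totCyc {n : ℕ} {f : Tot C D} (hf : f ∈ totCyc C D n) :
    totMap φ ψ f ∈ totCyc C' D' n := by
  refine ⟨totMap_mem_supp _ _ hf.1, ?_⟩
  show Dt C' D' (totMap φ ψ f) = 0
  rw [← totMap_Dt, show Dt C D f = 0 from hf.2, map_zero]

theorem totMap_mem_totBdy {n : ℕ} {f : Tot C D} (hf : f ∈ totBdy C D n) :
    totMap φ ψ f ∈ totBdy C' D' n := by
  cases n with
  | zero =>
    have : f = 0 := (Submodule.mem_bot k).mp hf
    rw [this, map_zero]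
    exact zero_mem _
  | succ n =>
    obtain ⟨u, hu, rfl⟩ := hf
    exact ⟨totMap φ ψ u, totMap_mem_supp _ _ hu, (totMap_Dt φ ψ u).symm⟩

/-- the induced map on the cohomology of the total complex -/
def HtotMap (n : ℕ) : Htot C D n →ₗ[k] Htot C' D' n :=
  Submodule.mapQ _ _ ((totMap φ ψ).restrict (fun _ hf => totMap_mem_totCyc φ ψ hf))
    (fun _ hf => totMap_mem_totBdy φ ψ hf)

theorem HtotMap_mk (n : ℕ) (f : ↥(totCyc C D n)) :
    HtotMap φ ψ n (Submodule.Quotient.mk f) =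
      Submodule.Quotient.mk ⟨totMap φ ψ f.1, totMap_mem_totCyc φ ψ f.2⟩ := rfl

end HtotMap

section Natural

variable {A B A' B' : Cpx k} (a : SubCpx A) (b : SubCpx B) (a' : SubCpx A') (b' : SubCpx B')
  (φ : Hom A A') (ψ : Hom B B')
  (hφ : ∀ (p : ℕ) (x : A.X p), x ∈ a.U p → φ.f p x ∈ a'.U p)
  (hψ : ∀ (q : ℕ) (y : B.X q), y ∈ b.U q → ψ.f q y ∈ b'.U q)

/-- the characterising property of the connecting map -/
def IsDelta (n : ℕ) (δ : HW a b n → Htot a.cpx b.cpx (n + 1)) : Prop :=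
  ∀ (w : ↥(ZW a b n)) (x : Tot a.cpx B) (y : Tot A b.cpx)
    (κ : ↥(totCyc a.cpx b.cpx (n + 1))), x ∈ supp a.cpx B n → y ∈ supp A b.cpx n →
    j2 a x + j3 b y = w.1 → i2 a b κ.1 = Dt a.cpx B x →
    δ (Submodule.Quotient.mk w) = Submodule.Quotient.mk κ

/-- every cocycle of `W` has a presentation computing the connecting map -/
theorem exists_kappa {n : ℕ} (w : ↥(ZW a b n)) :
    ∃ (x : Tot a.cpx B) (y : Tot A b.cpx) (κ : ↥(totCyc a.cpx b.cpx (n + 1))),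
      x ∈ supp a.cpx B n ∧ y ∈ supp A b.cpx n ∧ j2 a x + j3 b y = w.1 ∧
      i2 a b κ.1 = Dt a.cpx B x := by
  obtain ⟨x, hx, y, hy, hxy⟩ := exists_decomp a b w.2.1
  have h0 : j2 a (Dt a.cpx B x) = j3 b (-Dt A b.cpx y) := by
    have := congrArg (Dt A B) hxy
    rw [show Dt A B w.1 = 0 from w.2.2, map_add, ← j2_Dt, ← j3_Dt] at this
    rw [map_neg]
    exact eq_neg_of_add_eq_zero_left this
  obtain ⟨κ, hκ2, hκ3⟩ := exists_of_j2_eq_j3 a b h0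
  have hκ : κ ∈ totCyc a.cpx b.cpx (n + 1) := by
    constructor
    · apply mem_supp_of_i2 a b
      rw [hκ2]
      exact Dt_mem_supp hx
    · show Dt a.cpx b.cpx κ = 0
      apply i2_injective a b
      rw [i2_Dt, hκ2, Dt_Dt, map_zero]
  exact ⟨x, y, ⟨κ, hκ⟩, hx, hy, hxy, hκ2⟩

include hφ hψ in
/-- naturality of the connecting map -/
theorem delta_natural (n : ℕ) (δ : HW a b n → Htot a.cpx b.cpx (n + 1))
    (hδ : IsDelta a b n δ) (δ' : HW a' b' n → Htot a'.cpx b'.cpx (n + 1))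
    (hδ' : IsDelta a' b' n δ') (ω : HW a b n) :
    δ' (HWmap a b a' b' φ ψ hφ hψ n ω) =
      HtotMap (resHom a a' φ hφ) (resHom b b' ψ hψ) (n + 1) (δ ω) := by
  obtain ⟨w, rfl⟩ := Submodule.Quotient.mk_surjective _ ω
  obtain ⟨x, y, κ, hx, hy, hxy, hκ⟩ := exists_kappa a b w
  rw [hδ w x y κ hx hy hxy hκ, HWmap_mk, HtotMap_mk]
  refine hδ' _ (totMap (resHom a a' φ hφ) ψ x) (totMap φ (resHom b b' ψ hψ) y) _
    (totMap_mem_supp _ _ hx) (totMap_mem_supp _ _ hy) ?_ ?_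
  · rw [j2_totMap, j3_totMap, ← map_add, hxy]
  · show i2 a' b' (totMap (resHom a a' φ hφ) (resHom b b' ψ hψ) κ.1) = _
    rw [i2_totMap, hκ, totMap_Dt]

end Natural

end Cpx

end Groth.Agent.Lib.Helper8.Kun
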