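import Groth.Agent.Lib.Helper8Kun8

/-!
# The cross product `H^p(C) ⊗ H^q(D) → H^{p+q}(C ⊗ D)` (helper8)
-/

set_option autoImplicit false
set_option linter.unusedSectionVars false
set_option linter.style.haveILetI false
universe u
open TensorProduct

noncomputable section

namespace Groth.Agent.Lib.Helper8.Kun

variable {k : Type u} [Field k]

namespace Cpx

variable {C D : Cpx k}

/-- the element of the total complex supported in one bidegree -/
def single (p q : ℕ) : C.X p ⊗[k] D.X q →ₗ[k] Tot C D :=
  (LinearMap.single k (fun p => ∀ q, C.X p ⊗[k] D.X q) p).comp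
    (LinearMap.single k (fun q => C.X p ⊗[k] D.X q) q)

theorem single_apply (p q : ℕ) (z : C.X p ⊗[k] D.X q) :
    single p q z = Pi.single (M := fun p => ∀ q, C.X p ⊗[k] D.X q) p
      (Pi.single (M := fun q => C.X p ⊗[k] D.X q) q z) := rfl

theorem single_same (p q : ℕ) (z : C.X p ⊗[k] D.X q) : single p q z p q = z := by
  rw [single_apply, Pi.single_eq_same, Pi.single_eq_same]

theorem single_of_ne_left (p q : ℕ) (z : C.X p ⊗[k] D.X q) (p' q' : ℕ) (h : p' ≠ p) :
    single p q z p' q' = 0 := by
  rw [single_apply, Pi.single_eq_of_ne h]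
  rfl

theorem single_of_ne_right (p q : ℕ) (z : C.X p ⊗[k] D.X q) (q' : ℕ) (h : q' ≠ q) :
    single p q z p q' = 0 := by
  rw [single_apply, Pi.single_eq_same, Pi.single_eq_of_ne h]

theorem single_mem_supp (p q : ℕ) (z : C.X p ⊗[k] D.X q) : single p q z ∈ supp C D (p + q) := by
  intro p' q' h
  by_cases hp : p' = p
  · subst hp
    exact single_of_ne_right p' q z q' (by omega)
  · exact single_of_ne_left p q z p' q' hp

theorem dL_single (p q : ℕ) (z : C.X p ⊗[k] D.X q) :
    dL C D (single p q z) = single (p + 1) q (TensorProduct.map (C.d p) LinearMap.id z) := by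
  funext p' q'
  cases p' with
  | zero =>
    rw [dL_zero, single_of_ne_left _ _ _ _ _ (by omega)]
  | succ p'' =>
    rw [dL_succ]
    by_cases hp : p'' = p
    · subst hp
      by_cases hq : q' = q
      · subst hq
        rw [single_same, single_same]
      · rw [single_of_ne_right _ _ _ _ hq, single_of_ne_right _ _ _ _ hq, map_zero]
    · rw [single_of_ne_left _ _ _ _ _ hp, map_zero, single_of_ne_left _ _ _ _ _ (by omega)]

theorem dR_single (p q : ℕ) (z : C.X p ⊗[k] D.X q) :
    dR C D (single p q z) =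
      ((-1 : k) ^ p) • single p (q + 1) (TensorProduct.map LinearMap.id (D.d q) z) := by
  funext p' q'
  show dR C D (single p q z) p' q' =
    ((-1 : k) ^ p) • single p (q + 1) (TensorProduct.map LinearMap.id (D.d q) z) p' q'
  cases q' with
  | zero =>
    rw [dR_zero]
    by_cases hp : p' = p
    · subst hp
      rw [single_of_ne_right _ _ _ _ (by omega), smul_zero]
    · rw [single_of_ne_left _ _ _ _ _ hp, smul_zero]
  | succ q'' =>
    rw [dR_succ]
    by_cases hp : p' = p
    · subst hp
      by_cases hq : q'' = q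
      · subst hq
        rw [single_same, single_same]
      · rw [single_of_ne_right _ _ _ _ hq, single_of_ne_right _ _ _ _ (by omega), map_zero]
    · rw [single_of_ne_left _ _ _ _ _ hp, single_of_ne_left _ _ _ _ _ hp, map_zero, smul_zero,
        smul_zero]

/-- the tensor product of two cocycle spaces consists of cocycles of the total complex -/
theorem single_mem_totCyc (p q : ℕ) (ζ : ↥(C.cyc p) ⊗[k] ↥(D.cyc q)) :
    single p q (TensorProduct.map (C.cyc p).subtype (D.cyc q).subtype ζ) ∈
      totCyc C D (p + q) := by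
  refine ⟨single_mem_supp p q _, ?_⟩
  show Dt C D (single p q _) = 0
  show (dL C D + dR C D) (single p q _) = 0
  have h1 : C.d p ∘ₗ (C.cyc p).subtype = 0 := LinearMap.ext fun x => x.2
  have h2 : D.d q ∘ₗ (D.cyc q).subtype = 0 := LinearMap.ext fun x => x.2
  have e1 : TensorProduct.map (C.d p) LinearMap.id
      (TensorProduct.map (C.cyc p).subtype (D.cyc q).subtype ζ) = 0 := by
    rw [TensorProduct.map_map, h1, TensorProduct.map_zero_left, LinearMap.zero_apply]
  have e2 : TensorProduct.map LinearMap.id (D.d q)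
      (TensorProduct.map (C.cyc p).subtype (D.cyc q).subtype ζ) = 0 := by
    rw [TensorProduct.map_map, h2, TensorProduct.map_zero_right, LinearMap.zero_apply]
  rw [LinearMap.add_apply, dL_single, dR_single, e1, e2, map_zero, map_zero, smul_zero, add_zero]

/-- the cross product on cocycles -/
def crossZ (p q : ℕ) : ↥(C.cyc p) ⊗[k] ↥(D.cyc q) →ₗ[k] ↥(totCyc C D (p + q)) :=
  LinearMap.codRestrict _ ((single p q).comp
    (TensorProduct.map (C.cyc p).subtype (D.cyc q).subtype)) (single_mem_totCyc p q)

theorem crossZ_coe (p q : ℕ) (ζ : ↥(C.cyc p) ⊗[k] ↥(D.cyc q)) :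
    (crossZ p q ζ : Tot C D) =
      single p q (TensorProduct.map (C.cyc p).subtype (D.cyc q).subtype ζ) := rfl

theorem mem_totBdy_of_eq {n m : ℕ} (hn : n = m + 1) {f u : Tot C D} (hu : u ∈ supp C D m)
    (h : Dt C D u = f) : f ∈ totBdy C D n := by
  subst hn
  exact ⟨u, hu, h⟩

/-- a cocycle tensor a coboundary is a coboundary -/
theorem single_tmul_mem_totBdy_right (p q : ℕ) (z : C.X p) (hz : z ∈ C.cyc p) (w : D.X q)
    (hw : w ∈ D.bdy q) : single p q (z ⊗ₜ[k] w) ∈ totBdy C D (p + q) := by
  cases q with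
  | zero =>
    have : w = 0 := (Submodule.mem_bot k).mp hw
    rw [this, TensorProduct.tmul_zero, map_zero]
    exact zero_mem _
  | succ q' =>
    obtain ⟨v, rfl⟩ := hw
    refine mem_totBdy_of_eq (m := p + q') rfl
      (u := ((-1 : k) ^ p) • single p q' (z ⊗ₜ[k] v))
      (Submodule.smul_mem _ _ (single_mem_supp p q' _)) ?_
    show (dL C D + dR C D) _ = _
    rw [LinearMap.add_apply, map_smul, map_smul, dL_single, dR_single, TensorProduct.map_tmul,
      TensorProduct.map_tmul, show C.d p z = 0 from hz, TensorProduct.zero_tmul, map_zero,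
      smul_zero, zero_add, smul_smul, neg_one_pow_mul_self, one_smul]
    rfl

/-- a coboundary tensor a cocycle is a coboundary -/
theorem single_tmul_mem_totBdy_left (p q : ℕ) (z : C.X p) (hz : z ∈ C.bdy p) (w : D.X q)
    (hw : w ∈ D.cyc q) : single p q (z ⊗ₜ[k] w) ∈ totBdy C D (p + q) := by
  cases p with
  | zero =>
    have : z = 0 := (Submodule.mem_bot k).mp hz
    rw [this, TensorProduct.zero_tmul, map_zero]
    exact zero_mem _
  | succ p' =>
    obtain ⟨u, rfl⟩ := hz
    refine mem_totBdy_of_eq (m := p' + q) (by omega) (u := single p' q (u ⊗ₜ[k] w))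
      (single_mem_supp p' q _) ?_
    show (dL C D + dR C D) _ = _
    rw [LinearMap.add_apply, dL_single, dR_single, TensorProduct.map_tmul,
      TensorProduct.map_tmul, show D.d q w = 0 from hw, TensorProduct.tmul_zero, map_zero,
      smul_zero, add_zero]
    rfl

/-- the class of `z ⊗ w` -/
def crossMk (p q : ℕ) (z : ↥(C.cyc p)) : ↥(D.cyc q) →ₗ[k] Htot C D (p + q) :=
  (Submodule.mkQ _).comp ((crossZ p q).comp (TensorProduct.mk k _ _ z))

theorem crossMk_apply (p q : ℕ) (z : ↥(C.cyc p)) (w : ↥(D.cyc q)) :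
    crossMk p q z w = Submodule.Quotient.mk (crossZ p q (z ⊗ₜ[k] w)) := rfl

theorem crossMk_le_ker (p q : ℕ) (z : ↥(C.cyc p)) :
    (D.bdy q).comap (D.cyc q).subtype ≤ LinearMap.ker (crossMk p q z) := by
  intro w hw
  rw [LinearMap.mem_ker, crossMk_apply, Submodule.Quotient.mk_eq_zero]
  show (crossZ p q (z ⊗ₜ[k] w) : Tot C D) ∈ totBdy C D (p + q)
  rw [crossZ_coe, TensorProduct.map_tmul]
  exact single_tmul_mem_totBdy_right p q z.1 z.2 w.1 hw

/-- the cross product with a fixed cocycle -/
def crossInner (p q : ℕ) : ↥(C.cyc p) →ₗ[k] (D.H q →ₗ[k] Htot C D (p + q)) where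
  toFun z := Submodule.liftQ _ (crossMk p q z) (crossMk_le_ker p q z)
  map_add' z z' := by
    apply Submodule.linearMap_qext
    apply LinearMap.ext
    intro w
    show crossMk p q (z + z') w = crossMk p q z w + crossMk p q z' w
    rw [crossMk_apply, crossMk_apply, crossMk_apply, TensorProduct.add_tmul, map_add]
    rfl
  map_smul' c z := by
    apply Submodule.linearMap_qext
    apply LinearMap.ext
    intro w
    show crossMk p q (c • z) w = c • crossMk p q z w
    rw [crossMk_apply, crossMk_apply, ← TensorProduct.smul_tmul', map_smul]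
    rfl

theorem crossInner_mk (p q : ℕ) (z : ↥(C.cyc p)) (w : ↥(D.cyc q)) :
    crossInner p q z (Submodule.Quotient.mk w) =
      Submodule.Quotient.mk (crossZ p q (z ⊗ₜ[k] w)) := rfl

theorem crossInner_le_ker (p q : ℕ) :
    (C.bdy p).comap (C.cyc p).subtype ≤ LinearMap.ker (crossInner (D := D) p q) := by
  intro z hz
  rw [LinearMap.mem_ker]
  apply Submodule.linearMap_qext
  apply LinearMap.ext
  intro w
  show crossInner p q z (Submodule.Quotient.mk w) = 0
  rw [crossInner_mk, Submodule.Quotient.mk_eq_zero]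
  show (crossZ p q (z ⊗ₜ[k] w) : Tot C D) ∈ totBdy C D (p + q)
  rw [crossZ_coe, TensorProduct.map_tmul]
  exact single_tmul_mem_totBdy_left p q z.1 hz w.1 w.2

/-- the cross product `H^p(C) ⊗ H^q(D) → H^{p+q}(C ⊗ D)` -/
def cross (p q : ℕ) : C.H p ⊗[k] D.H q →ₗ[k] Htot C D (p + q) :=
  TensorProduct.lift (Submodule.liftQ _ (crossInner p q) (crossInner_le_ker p q))

theorem cross_mk_tmul_mk (p q : ℕ) (z : ↥(C.cyc p)) (w : ↥(D.cyc q)) :
    cross p q ((Submodule.Quotient.mk z : C.H p) ⊗ₜ[k] (Submodule.Quotient.mk w : D.H q)) =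
      Submodule.Quotient.mk (crossZ p q (z ⊗ₜ[k] w)) := rfl

section Bijective

variable (s : C.Splitting) (t : D.Splitting)

/-- the `(p, q)` component of the harmonic projection, on cohomology -/
def evH (p q : ℕ) : Htot C D (p + q) →ₗ[k] C.X p ⊗[k] D.X q :=
  Submodule.liftQ _
    ((((LinearMap.proj q : (∀ q, C.X p ⊗[k] D.X q) →ₗ[k] C.X p ⊗[k] D.X q).comp
      (LinearMap.proj p : Tot C D →ₗ[k] ∀ q, C.X p ⊗[k] D.X q)).comp (Φ s t)).comp
      (totCyc C D (p + q)).subtype)
    (by
      intro f hf
      rw [LinearMap.mem_ker]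
      show Φ s t (f : Tot C D) p q = 0
      have hf' : (f : Tot C D) ∈ totBdy C D (p + q) := hf
      have h0 : Φ s t (f : Tot C D) = 0 := by
        have := (ker_toHarmT s t (p + q)).ge hf
        rw [LinearMap.mem_ker] at this
        exact congrArg Subtype.val this
      rw [h0]
      rfl)

theorem evH_mk (p q : ℕ) (f : ↥(totCyc C D (p + q))) :
    evH s t p q (Submodule.Quotient.mk f) = Φ s t (f : Tot C D) p q := rfl

/-- the harmonic representative of a class -/
def harmRep (p : ℕ) : C.H p →ₗ[k] C.X p := (s.harm p).subtype.comp (s.HEquiv p).toLinearMap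

theorem harmRep_mk (p : ℕ) (z : ↥(C.cyc p)) :
    harmRep s p (Submodule.Quotient.mk z) = s.π p (z : C.X p) := rfl

theorem harmRep_injective (p : ℕ) : Function.Injective (harmRep s p) :=
  (Submodule.injective_subtype _).comp (s.HEquiv p).injective

theorem evH_cross (p q : ℕ) (ζ : C.H p ⊗[k] D.H q) :
    evH s t p q (cross p q ζ) = TensorProduct.map (harmRep s p) (harmRep t q) ζ := by
  induction ζ using TensorProduct.induction_on with
  | zero => rw [map_zero, map_zero, map_zero]
  | add x y hx hy => rw [map_add, map_add, map_add, hx, hy]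
  | tmul x y =>
    obtain ⟨z, rfl⟩ := Submodule.Quotient.mk_surjective _ x
    obtain ⟨w, rfl⟩ := Submodule.Quotient.mk_surjective _ y
    rw [cross_mk_tmul_mk, evH_mk, Φ_apply, crossZ_coe, single_same, TensorProduct.map_tmul,
      TensorProduct.map_tmul, TensorProduct.map_tmul, harmRep_mk, harmRep_mk]
    rfl

end Bijective

theorem cross_injective (p q : ℕ) : Function.Injective (cross (C := C) (D := D) p q) := by
  obtain ⟨s⟩ := C.exists_splitting
  obtain ⟨t⟩ := D.exists_splitting
  have h : Function.Injective ((evH s t p q).comp (cross p q)) := by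
    have : (evH s t p q).comp (cross p q) = TensorProduct.map (harmRep s p) (harmRep t q) :=
      LinearMap.ext (evH_cross s t p q)
    rw [this]
    exact TensorProduct.map_injective_of_flat_flat _ _ (harmRep_injective s p)
      (harmRep_injective t q)
  exact Function.Injective.of_comp h

/-- the cross product is bijective when it is the only contribution -/
theorem cross_bijective [∀ p, Module.Finite k (C.H p)] [∀ q, Module.Finite k (D.H q)]
    (p q : ℕ)
    (h : ∀ i, i ≤ p + q → i ≠ p → Subsingleton (C.H i) ∨ Subsingleton (D.H (p + q - i))) :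
    Function.Bijective (cross (C := C) (D := D) p q) := by
  haveI := finite_Htot (C := C) (D := D) (p + q)
  have hinj := cross_injective (C := C) (D := D) p q
  refine ⟨hinj, ?_⟩
  have hfr : Module.finrank k (C.H p ⊗[k] D.H q) = Module.finrank k (Htot C D (p + q)) := by
    rw [Module.finrank_tensorProduct, finrank_Htot, Finset.sum_eq_single p]
    · rw [Nat.add_sub_cancel_left]
    · intro i hi hip
      rcases h i (Nat.lt_succ_iff.mp (Finset.mem_range.mp hi)) hip with h1 | h1
      · rw [Module.finrank_zero_of_subsingleton, zero_mul]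
      · rw [Module.finrank_zero_of_subsingleton (M := D.H (p + q - i)), mul_zero]
    · intro h1
      exact absurd (Finset.mem_range.mpr (by omega)) h1
  exact (LinearMap.injective_iff_surjective_of_finrank_eq_finrank hfr).mp hinj

section Natural

variable {C' D' : Cpx k} (φ : Hom C C') (ψ : Hom D D')

theorem Hom.map_mem_cyc (p : ℕ) {x : C.X p} (hx : x ∈ C.cyc p) : φ.f p x ∈ C'.cyc p := by
  show C'.d p (φ.f p x) = 0
  rw [← φ.comm, show C.d p x = 0 from hx, map_zero]

theorem Hom.map_mem_bdy (p : ℕ) {x : C.X p} (hx : x ∈ C.bdy p) : φ.f p x ∈ C'.bdy p := by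
  cases p with
  | zero =>
    have : x = 0 := (Submodule.mem_bot k).mp hx
    rw [this, map_zero]
    exact zero_mem _
  | succ p =>
    obtain ⟨u, rfl⟩ := hx
    exact ⟨φ.f p u, (φ.comm p u).symm⟩

/-- the induced map on cohomology -/
def Hmap (p : ℕ) : C.H p →ₗ[k] C'.H p :=
  Submodule.mapQ _ _ ((φ.f p).restrict (fun _ hx => Hom.map_mem_cyc φ p hx))
    (fun _ hx => Hom.map_mem_bdy φ p hx)

theorem Hmap_mk (p : ℕ) (z : ↥(C.cyc p)) :
    Hmap φ p (Submodule.Quotient.mk z) =
      Submodule.Quotient.mk ⟨φ.f p z.1, Hom.map_mem_cyc φ p z.2⟩ := rfl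

theorem totMap_single (p q : ℕ) (ξ : C.X p ⊗[k] D.X q) :
    totMap φ ψ (single p q ξ) = single p q (TensorProduct.map (φ.f p) (ψ.f q) ξ) := by
  funext p' q'
  rw [totMap_apply]
  by_cases hp : p' = p
  · subst hp
    by_cases hq : q' = q
    · subst hq
      rw [single_same, single_same]
    · rw [single_of_ne_right _ _ _ _ hq, single_of_ne_right _ _ _ _ hq, map_zero]
  · rw [single_of_ne_left _ _ _ _ _ hp, single_of_ne_left _ _ _ _ _ hp, map_zero]

/-- naturality of the cross product -/
theorem cross_natural (p q : ℕ) (ζ : C.H p ⊗[k] D.H q) :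
    HtotMap φ ψ (p + q) (cross p q ζ) =
      cross p q (TensorProduct.map (Hmap φ p) (Hmap ψ q) ζ) := by
  induction ζ using TensorProduct.induction_on with
  | zero => rw [map_zero, map_zero, map_zero, map_zero]
  | add x y hx hy => rw [map_add, map_add, map_add, map_add, hx, hy]
  | tmul x y =>
    obtain ⟨z, rfl⟩ := Submodule.Quotient.mk_surjective _ x
    obtain ⟨w, rfl⟩ := Submodule.Quotient.mk_surjective _ y
    rw [cross_mk_tmul_mk, HtotMap_mk, TensorProduct.map_tmul, Hmap_mk, Hmap_mk,
      cross_mk_tmul_mk]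
    congr 1
    apply Subtype.ext
    show totMap φ ψ (crossZ p q (z ⊗ₜ[k] w) : Tot C D) =
      ((crossZ (C := C') (D := D') p q
        ((⟨φ.f p z.1, Hom.map_mem_cyc φ p z.2⟩ : ↥(C'.cyc p)) ⊗ₜ[k]
          (⟨ψ.f q w.1, Hom.map_mem_cyc ψ q w.2⟩ : ↥(D'.cyc q))) : ↥(totCyc C' D' (p + q))) :
        Tot C' D')
    rw [crossZ_coe, crossZ_coe, totMap_single, TensorProduct.map_tmul, TensorProduct.map_tmul,
      TensorProduct.map_tmul]
    rfl

end Natural

end Cpx

end Groth.Agent.Lib.Helper8.Kun
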