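import Mathlib
import Groth.Agent.Lib.Helper29GrStarCrit

/-!
# Monomial-closed subalgebras of a polynomial ring are `ℤ`-graded (helper8)

For a subalgebra `R ⊆ F[X]` closed under taking monomial components we construct the `ℤ`-grading
by degree, show that the ideal of elements without constant term is prime and contains every
homogeneous prime (when the constants of `R` are the base field), and deduce the graded
Gorenstein criterion: `R` is Gorenstein as soon as its localization at that ideal is.
-/

set_option autoImplicit false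
set_option linter.unusedSectionVars false
set_option linter.style.haveILetI false
universe u

noncomputable section

namespace Groth.Agent.Lib.Helper8.MonoGr

open Polynomial DirectSum

variable {k F : Type u} [Field k] [Field F] [Algebra k F] (R : Subalgebra k F[X])

/-- closed under monomial components -/
def IsMonoClosed : Prop := ∀ p ∈ R, ∀ n : ℕ, monomial n (p.coeff n) ∈ R

/-- the degree-`n` piece -/
def gr (n : ℤ) : AddSubgroup R where
  carrier := {p | ∀ m : ℕ, (m : ℤ) ≠ n → p.1.coeff m = 0}
  zero_mem' := fun m _ => by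
    show (0 : F[X]).coeff m = 0
    exact coeff_zero m
  add_mem' := fun {p q} hp hq m hm => by
    show (p.1 + q.1).coeff m = 0
    rw [coeff_add, hp m hm, hq m hm, add_zero]
  neg_mem' := fun {p} hp m hm => by
    show (-p.1).coeff m = 0
    rw [coeff_neg, hp m hm, neg_zero]

theorem mem_gr {n : ℤ} {p : R} : p ∈ gr R n ↔ ∀ m : ℕ, (m : ℤ) ≠ n → p.1.coeff m = 0 := Iff.rfl

instance : SetLike.GradedMonoid (gr R) where
  one_mem := fun m hm => by
    show (1 : F[X]).coeff m = 0
    rw [coeff_one, if_neg]
    intro h
    apply hm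
    rw [h]
    rfl
  mul_mem := fun {i j p q} hp hq m hm => by
    show (p.1 * q.1).coeff m = 0
    rw [coeff_mul]
    apply Finset.sum_eq_zero
    intro x hx
    have hx' := Finset.HasAntidiagonal.mem_antidiagonal.mp hx
    by_cases h1 : (x.1 : ℤ) = i
    · by_cases h2 : (x.2 : ℤ) = j
      · exfalso
        apply hm
        rw [← hx', Nat.cast_add, h1, h2]
      · rw [hq x.2 h2, mul_zero]
    · rw [hp x.1 h1, zero_mul]

variable {R}

/-- the component of degree `n` of an element, as an element of `R` -/
def compR (hR : IsMonoClosed R) (n : ℤ) (p : R) : R :=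
  if 0 ≤ n then ⟨monomial n.toNat (p.1.coeff n.toNat), hR p.1 p.2 n.toNat⟩ else 0

theorem compR_val (hR : IsMonoClosed R) (n : ℤ) (p : R) :
    (compR hR n p).1 = if 0 ≤ n then monomial n.toNat (p.1.coeff n.toNat) else 0 := by
  unfold compR
  split_ifs <;> rfl

theorem compR_mem (hR : IsMonoClosed R) (n : ℤ) (p : R) : compR hR n p ∈ gr R n := by
  intro m hm
  rw [compR_val]
  split_ifs with h
  · rw [coeff_monomial, if_neg]
    intro h2
    apply hm
    rw [← h2, Int.toNat_of_nonneg h]
  · exact coeff_zero m

theorem compR_add (hR : IsMonoClosed R) (n : ℤ) (p q : R) :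
    compR hR n (p + q) = compR hR n p + compR hR n q := by
  apply Subtype.ext
  show (compR hR n (p + q)).1 = (compR hR n p).1 + (compR hR n q).1
  rw [compR_val, compR_val, compR_val]
  split_ifs with h
  · show monomial n.toNat ((p.1 + q.1).coeff n.toNat) = _
    rw [coeff_add, map_add]
  · rw [add_zero]

theorem compR_of_mem (hR : IsMonoClosed R) {n : ℤ} {p : R} (hp : p ∈ gr R n) :
    compR hR n p = p := by
  apply Subtype.ext
  rw [compR_val]
  split_ifs with h
  · ext m
    rw [coeff_monomial]
    split_ifs with h2
    · rw [h2]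
    · symm
      apply hp m
      intro h3
      apply h2
      rw [← h3]
      rfl
  · ext m
    rw [coeff_zero]
    symm
    apply hp m
    intro h3
    apply h
    rw [← h3]
    exact Int.natCast_nonneg m

theorem compR_of_mem_ne (hR : IsMonoClosed R) {n i : ℤ} (hni : i ≠ n) {p : R}
    (hp : p ∈ gr R i) : compR hR n p = 0 := by
  apply Subtype.ext
  rw [compR_val]
  split_ifs with h
  · rw [hp n.toNat, monomial_zero_right]
    · rfl
    · rw [Int.toNat_of_nonneg h]
      exact fun h2 => hni h2.symm
  · rfl

/-- finite set of degrees -/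
def degs (p : R) : Finset ℤ := p.1.support.image (Nat.cast : ℕ → ℤ)

theorem compR_eq_zero_of_notMem (hR : IsMonoClosed R) {n : ℤ} {p : R} (hn : n ∉ degs p) :
    compR hR n p = 0 := by
  apply Subtype.ext
  rw [compR_val]
  split_ifs with h
  · have h2 : n.toNat ∉ p.1.support := by
      intro h3
      apply hn
      unfold degs
      rw [Finset.mem_image]
      exact ⟨n.toNat, h3, Int.toNat_of_nonneg h⟩
    rw [notMem_support_iff.mp h2, monomial_zero_right]
    rfl
  · rfl

/-- the decomposition map -/
def dec (hR : IsMonoClosed R) (p : R) : ⨁ n : ℤ, gr R n :=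
  ∑ n ∈ degs p, DirectSum.of (fun n : ℤ => gr R n) n ⟨compR hR n p, compR_mem hR n p⟩

theorem dec_apply (hR : IsMonoClosed R) (p : R) (n : ℤ) :
    ((dec hR p) n : R) = compR hR n p := by
  classical
  unfold dec
  rw [DFinsupp.finsetSum_apply]
  by_cases hn : n ∈ degs p
  · rw [Finset.sum_eq_single n]
    · rw [DirectSum.of_eq_same]
    · intro i _ hi
      exact DirectSum.of_eq_of_ne _ _ _ (Ne.symm hi)
    · intro h
      exact absurd hn h
  · rw [Finset.sum_eq_zero, compR_eq_zero_of_notMem hR hn]
    · rfl
    · intro i hi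
      apply DirectSum.of_eq_of_ne
      intro h
      apply hn
      rw [h]
      exact hi

theorem sum_compR (hR : IsMonoClosed R) (p : R) :
    ∑ n ∈ degs p, compR hR n p = p := by
  apply Subtype.ext
  rw [show ((∑ n ∈ degs p, compR hR n p : R) : F[X]) = ∑ n ∈ degs p, (compR hR n p).1 from
    map_sum R.val.toRingHom _ _]
  unfold degs
  rw [Finset.sum_image (fun a _ b _ h => Nat.cast_injective h)]
  conv_rhs => rw [p.1.as_sum_support]
  apply Finset.sum_congr rfl
  intro m _
  rw [compR_val, if_pos (Int.natCast_nonneg m), Int.toNat_natCast]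

theorem coe_dec (hR : IsMonoClosed R) (p : R) :
    DirectSum.coeAddMonoidHom (gr R) (dec hR p) = p := by
  unfold dec
  rw [map_sum]
  conv_rhs => rw [← sum_compR hR p]
  apply Finset.sum_congr rfl
  intro n _
  rw [DirectSum.coeAddMonoidHom_of]

theorem dec_add (hR : IsMonoClosed R) (p q : R) : dec hR (p + q) = dec hR p + dec hR q := by
  apply DFinsupp.ext
  intro n
  apply Subtype.ext
  rw [DirectSum.add_apply]
  show ((dec hR (p + q)) n : R) = ((dec hR p) n : R) + ((dec hR q) n : R)
  rw [dec_apply, dec_apply, dec_apply, compR_add]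

theorem dec_zero (hR : IsMonoClosed R) : dec hR (0 : R) = 0 := by
  have h := dec_add hR 0 0
  rw [add_zero] at h
  exact left_eq_add.mp h

theorem dec_coe (hR : IsMonoClosed R) (y : ⨁ n : ℤ, gr R n) :
    dec hR (DirectSum.coeAddMonoidHom (gr R) y) = y := by
  classical
  induction y using DirectSum.induction_on with
  | zero => rw [map_zero, dec_zero]
  | of i x =>
    rw [DirectSum.coeAddMonoidHom_of]
    apply DFinsupp.ext
    intro n
    apply Subtype.ext
    rw [dec_apply]
    by_cases h : i = n
    · subst h
      rw [DirectSum.of_eq_same, compR_of_mem hR x.2]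
    · rw [DirectSum.of_eq_of_ne _ _ _ (Ne.symm h), compR_of_mem_ne hR h x.2]
      rfl
  | add x y hx hy => rw [map_add, dec_add, hx, hy]

@[instance_reducible]
def decomposition (hR : IsMonoClosed R) : DirectSum.Decomposition (gr R) where
  decompose' := dec hR
  left_inv := coe_dec hR
  right_inv := dec_coe hR

/-- the graded ring structure -/
@[instance_reducible]
def gradedRing (hR : IsMonoClosed R) : GradedRing (gr R) :=
  { (inferInstance : SetLike.GradedMonoid (gr R)) with
    toDecomposition := decomposition hR }

theorem decompose_apply (hR : IsMonoClosed R) (p : R) (n : ℤ) :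
    letI := gradedRing hR
    ((DirectSum.decompose (gr R) p) n : R) = compR hR n p :=
  dec_apply hR p n

/-- the irrelevant ideal -/
def irr (R : Subalgebra k F[X]) : Ideal R :=
  RingHom.ker ((Polynomial.constantCoeff : F[X] →+* F).comp R.val.toRingHom)

theorem mem_irr {p : R} : p ∈ irr R ↔ p.1.coeff 0 = 0 := by
  unfold irr
  rw [RingHom.mem_ker]
  rfl

instance irr_isPrime : (irr R).IsPrime := RingHom.ker_isPrime _

theorem le_irr_of_homogeneous (hR : IsMonoClosed R)
    (h0 : ∀ p ∈ R, ∃ c : k, p.coeff 0 = algebraMap k F c) (J : Ideal R)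
    (hJ : letI := gradedRing hR; J.IsHomogeneous (gr R)) (hJt : J ≠ ⊤) : J ≤ irr R := by
  letI := gradedRing hR
  intro p hp
  rw [mem_irr]
  by_contra hne
  apply hJt
  have h1 : compR hR 0 p ∈ J := by
    have := hJ 0 hp
    rwa [decompose_apply hR p 0] at this
  obtain ⟨c, hc⟩ := h0 p.1 p.2
  have hc0 : c ≠ 0 := by
    rintro rfl
    rw [map_zero] at hc
    exact hne hc
  have h2 : compR hR 0 p = algebraMap k R c := by
    apply Subtype.ext
    rw [compR_val, if_pos le_rfl]
    show monomial (0 : ℤ).toNat (p.1.coeff (0 : ℤ).toNat) = algebraMap k F[X] c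
    rw [Int.toNat_zero, hc, monomial_zero_left]
    rfl
  rw [h2] at h1
  rw [Ideal.eq_top_iff_one]
  have h3 : (algebraMap k R c⁻¹) * (algebraMap k R c) = 1 := by
    rw [← map_mul, inv_mul_cancel₀ hc0, map_one]
  rw [← h3]
  exact J.mul_mem_left _ h1

/-- graded Gorenstein criterion for monomial-closed subalgebras -/
theorem gorRing_of_gorLocal_irr [IsNoetherianRing R] (hR : IsMonoClosed R)
    (h0 : ∀ p ∈ R, ∃ c : k, p.coeff 0 = algebraMap k F c)
    (hG : LocCoh.IsGorensteinLocalRing (Localization.AtPrime (irr R))) :
    LocCoh.IsGorensteinRing R := by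
  letI := gradedRing hR
  exact Groth.Agent.Lib.Helper29GrStarCrit.isGorensteinRing_of_localization (gr R) (irr R)
    (fun J hJ hJp => le_irr_of_homogeneous hR h0 J hJ hJp.ne_top) hG

end Groth.Agent.Lib.Helper8.MonoGr
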