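import Mathlib
import Groth.Agent.Lib.Helper8MonoGrA

/-!
# The monomial algebra of a numerical semigroup and its Artinian reduction (helper8)
-/

set_option autoImplicit false
set_option linter.unusedSectionVars false
set_option linter.style.haveILetI false
universe u

noncomputable section

namespace Groth.Agent.Lib.Helper8.Kunz

open Polynomial IsLocalRing Groth.Agent.Lib.Helper8.MonoGr

variable (k : Type u) [Field k] (H : AddSubmonoid ℕ)

/-- the monomial subalgebra of `k[X]` of a submonoid of `ℕ` -/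
def SH : Subalgebra k k[X] where
  carrier := {p | ∀ n : ℕ, p.coeff n ≠ 0 → n ∈ H}
  mul_mem' := fun {p q} hp hq n hn => by
    rw [coeff_mul] at hn
    obtain ⟨x, hx, hx0⟩ := Finset.exists_ne_zero_of_sum_ne_zero hn
    have hx' := Finset.HasAntidiagonal.mem_antidiagonal.mp hx
    rw [← hx']
    exact H.add_mem (hp x.1 (left_ne_zero_of_mul hx0)) (hq x.2 (right_ne_zero_of_mul hx0))
  one_mem' := fun n hn => by
    rw [coeff_one] at hn
    split_ifs at hn with h
    · rw [h]; exact H.zero_mem
    · exact absurd rfl hn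
  add_mem' := fun {p q} hp hq n hn => by
    rw [coeff_add] at hn
    by_cases h : p.coeff n = 0
    · rw [h, zero_add] at hn
      exact hq n hn
    · exact hp n h
  zero_mem' := fun n hn => absurd (coeff_zero n) hn
  algebraMap_mem' := fun c n hn => by
    rw [Polynomial.algebraMap_apply, coeff_C] at hn
    split_ifs at hn with h
    · rw [h]; exact H.zero_mem
    · exact absurd rfl hn

variable {k H}

theorem mem_SH {p : k[X]} : p ∈ SH k H ↔ ∀ n : ℕ, p.coeff n ≠ 0 → n ∈ H := Iff.rfl

theorem monoClosed_SH : IsMonoClosed (SH k H) := by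
  intro p hp n m hm
  rw [coeff_monomial] at hm
  split_ifs at hm with h
  · rw [← h]
    exact hp n hm
  · exact absurd rfl hm

theorem h0_SH : ∀ p ∈ SH k H, ∃ c : k, p.coeff 0 = algebraMap k k c :=
  fun p _ => ⟨p.coeff 0, rfl⟩

theorem X_pow_mem {n : ℕ} (hn : n ∈ H) : (X : k[X]) ^ n ∈ SH k H := by
  intro m hm
  rw [coeff_X_pow] at hm
  split_ifs at hm with h
  · rw [h]; exact hn
  · exact absurd rfl hm

/-- the monomial `X^n` as an element of the monomial algebra -/
def xpow {n : ℕ} (hn : n ∈ H) : SH k H := ⟨X ^ n, X_pow_mem hn⟩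

variable {h : ℕ} (hh : h ∈ H)

/-- membership in the ideal generated by `X^h` -/
theorem mem_span_xpow (p : SH k H) :
    p ∈ Ideal.span {xpow (k := k) hh} ↔ ∀ n : ℕ, p.1.coeff n ≠ 0 → h ≤ n ∧ n - h ∈ H := by
  rw [Ideal.mem_span_singleton']
  constructor
  · rintro ⟨q, rfl⟩ n hn
    have h1 : (q * xpow (k := k) hh).1 = q.1 * X ^ h := rfl
    rw [h1, coeff_mul_X_pow'] at hn
    split_ifs at hn with h2
    · exact ⟨h2, q.2 _ hn⟩
    · exact absurd rfl hn
  · intro hp
    have hdvd : (X : k[X]) ^ h ∣ p.1 := by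
      rw [X_pow_dvd_iff]
      intro d hd
      by_contra hne
      exact absurd (hp d hne).1 (not_le.mpr hd)
    obtain ⟨q, hq⟩ := hdvd
    have hqS : q ∈ SH k H := by
      intro m hm
      have h1 : p.1.coeff (m + h) = q.coeff m := by rw [hq, coeff_X_pow_mul]
      have h2 := (hp (m + h) (by rw [h1]; exact hm)).2
      rwa [Nat.add_sub_cancel] at h2
    refine ⟨⟨q, hqS⟩, ?_⟩
    apply Subtype.ext
    show q * X ^ h = p.1
    rw [hq, mul_comm]

variable (N : ℕ) (hN : ∀ n : ℕ, N ≤ n → n ∈ H) (hpos : 0 < h)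

include hN hpos in
/-- elements without constant term are nilpotent modulo `X^h` -/
theorem pow_mem_span (p : SH k H) (hp : p.1.coeff 0 = 0) :
    p ^ (N + h) ∈ Ideal.span {xpow (k := k) hh} := by
  rw [mem_span_xpow]
  intro n hn
  have h1 : (X : k[X]) ^ (N + h) ∣ (p ^ (N + h)).1 := by
    have h2 : (X : k[X]) ∣ p.1 := X_dvd_iff.mpr hp
    exact pow_dvd_pow_of_dvd h2 _
  have h3 : N + h ≤ n := by
    by_contra hlt
    exact hn (X_pow_dvd_iff.mp h1 n (not_le.mp hlt))
  exact ⟨by omega, hN _ (by omega)⟩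

/-- the Artinian reduction -/
abbrev AH : Type u := SH k H ⧸ Ideal.span {xpow (k := k) hh}

include hpos in
theorem one_notMem_span : (1 : SH k H) ∉ Ideal.span {xpow (k := k) hh} := by
  intro h1
  rw [mem_span_xpow] at h1
  have := (h1 0 (by show (1 : k[X]).coeff 0 ≠ 0; rw [coeff_one_zero]; exact one_ne_zero)).1
  omega

include hpos in
theorem nontrivial_AH : Nontrivial (AH (k := k) hh) :=
  Ideal.Quotient.nontrivial_iff.mpr fun h1 => one_notMem_span hh hpos (h1 ▸ Submodule.mem_top)

include hN hpos in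
theorem isNilpotent_mk (p : SH k H) (hp : p.1.coeff 0 = 0) :
    IsNilpotent (Ideal.Quotient.mk (Ideal.span {xpow (k := k) hh}) p) := by
  refine ⟨N + h, ?_⟩
  rw [← map_pow, Ideal.Quotient.eq_zero_iff_mem]
  exact pow_mem_span hh N hN hpos p hp

include hN hpos in
theorem isUnit_mk (p : SH k H) (hp : p.1.coeff 0 ≠ 0) :
    IsUnit (Ideal.Quotient.mk (Ideal.span {xpow (k := k) hh}) p) := by
  set c := p.1.coeff 0 with hc
  have h1 : p = algebraMap k (SH k H) c + (p - algebraMap k (SH k H) c) := by ring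
  have h2 : (p - algebraMap k (SH k H) c).1.coeff 0 = 0 := by
    show (p.1 - algebraMap k k[X] c).coeff 0 = 0
    rw [coeff_sub, Polynomial.algebraMap_apply, coeff_C_zero]
    exact sub_self _
  rw [h1, map_add]
  have h3 : IsUnit (algebraMap k (SH k H) c) := (IsUnit.mk0 c hp).map _
  have hu : IsUnit (Ideal.Quotient.mk (Ideal.span {xpow (k := k) hh})
      (algebraMap k (SH k H) c)) := h3.map _
  have hn := isNilpotent_mk hh N hN hpos _ h2
  exact IsNilpotent.isUnit_add_left_of_commute hn hu ((commute_iff_eq _ _).mpr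
    (mul_comm (G := SH k H ⧸ Ideal.span {xpow (k := k) hh}) _ _))

include hN hpos in
theorem isLocalRing_AH : IsLocalRing (AH (k := k) hh) := by
  haveI := nontrivial_AH (k := k) hh hpos
  apply IsLocalRing.of_isUnit_or_isUnit_one_sub_self
  intro a
  obtain ⟨p, rfl⟩ := Ideal.Quotient.mk_surjective a
  by_cases hp : p.1.coeff 0 = 0
  · right
    exact (isNilpotent_mk hh N hN hpos p hp).isUnit_one_sub
  · left
    exact isUnit_mk hh N hN hpos p hp

include hN hpos in
theorem mk_mem_maximalIdeal_iff (p : SH k H) :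
    letI := isLocalRing_AH (k := k) hh N hN hpos
    Ideal.Quotient.mk (Ideal.span {xpow (k := k) hh}) p ∈ maximalIdeal (AH (k := k) hh) ↔
      p.1.coeff 0 = 0 := by
  letI := isLocalRing_AH (k := k) hh N hN hpos
  haveI := nontrivial_AH (k := k) hh hpos
  rw [mem_maximalIdeal, mem_nonunits_iff]
  constructor
  · intro h1
    by_contra h2
    exact h1 (isUnit_mk hh N hN hpos p h2)
  · intro h1 h2
    exact (isNilpotent_mk hh N hN hpos p h1).not_isUnit h2

include hN hpos in
theorem isArtinianRing_AH [IsNoetherianRing (SH k H)] :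
    IsArtinianRing (AH (k := k) hh) := by
  letI := isLocalRing_AH (k := k) hh N hN hpos
  refine (isArtinianRing_iff_isNilpotent_maximalIdeal (AH (k := k) hh)).mpr ?_
  rw [Ideal.FG.isNilpotent_iff_le_nilradical (IsNoetherian.noetherian _)]
  intro a ha
  obtain ⟨p, rfl⟩ := Ideal.Quotient.mk_surjective a
  rw [mk_mem_maximalIdeal_iff hh N hN hpos] at ha
  exact mem_nilradical.mpr (isNilpotent_mk hh N hN hpos p ha)

end Groth.Agent.Lib.Helper8.Kunz
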