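import Mathlib
import Groth.Agent.Lib.Helper8KunzA
import Groth.Agent.Lib.Helper5GorArt
import Groth.Statements.S18669

/-!
# Kunz: the Artinian reduction of a numerical semigroup algebra has type one iff the
semigroup is symmetric (helper8)
-/

set_option autoImplicit false
set_option linter.unusedSectionVars false
set_option linter.style.haveILetI false
universe u

noncomputable section

namespace Groth.Agent.Lib.Helper8.Kunz

open Polynomial IsLocalRing Groth.Agent.Lib.Helper8.MonoGr Groth.Agent.Lib.Helper5.GorArt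

variable {k : Type u} [Field k] {H : AddSubmonoid ℕ}

/-- integer membership -/
def memZ (H : AddSubmonoid ℕ) (n : ℤ) : Prop := ∃ m ∈ (H : Set ℕ), (m : ℤ) = n

theorem memZ_natCast {m : ℕ} : memZ H (m : ℤ) ↔ m ∈ H := by
  constructor
  · rintro ⟨m', hm', h⟩
    have : m' = m := by exact_mod_cast h
    rw [← this]
    exact hm'
  · intro h
    exact ⟨m, h, rfl⟩

theorem memZ_nonneg {n : ℤ} (h : memZ H n) : 0 ≤ n := by
  obtain ⟨m, _, rfl⟩ := h
  exact Int.natCast_nonneg m

theorem memZ_add {a b : ℤ} (ha : memZ H a) (hb : memZ H b) : memZ H (a + b) := by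
  obtain ⟨m, hm, rfl⟩ := ha
  obtain ⟨m', hm', rfl⟩ := hb
  exact ⟨m + m', H.add_mem hm hm', by push_cast; rfl⟩

theorem memZ_of_ge {N : ℕ} (hN : ∀ n : ℕ, N ≤ n → n ∈ H) {n : ℤ} (hn : (N : ℤ) ≤ n) :
    memZ H n := by
  obtain ⟨m, rfl⟩ := Int.eq_ofNat_of_zero_le (by omega : 0 ≤ n)
  exact memZ_natCast.mpr (hN m (by exact_mod_cast hn))

theorem memZ_sub_iff {n h : ℕ} : memZ H ((n : ℤ) - h) ↔ h ≤ n ∧ n - h ∈ H := by
  constructor
  · intro h1
    have h2 := memZ_nonneg h1
    have h3 : h ≤ n := by omega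
    refine ⟨h3, ?_⟩
    rw [← Nat.cast_sub h3] at h1
    exact memZ_natCast.mp h1
  · rintro ⟨h3, h4⟩
    rw [← Nat.cast_sub h3]
    exact memZ_natCast.mpr h4

variable {h : ℕ} (hh : h ∈ H) (N : ℕ) (hN : ∀ n : ℕ, N ≤ n → n ∈ H) (hpos : 0 < h)


theorem mk_eq_zero_iff (p : SH k H) :
    Ideal.Quotient.mk (Ideal.span {xpow (k := k) hh}) p = 0 ↔
      ∀ n : ℕ, p.1.coeff n ≠ 0 → memZ H ((n : ℤ) - h) := by
  rw [Ideal.Quotient.eq_zero_iff_mem, mem_span_xpow]
  constructor
  · intro h1 n hn
    exact memZ_sub_iff.mpr (h1 n hn)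
  · intro h1 n hn
    exact memZ_sub_iff.mp (h1 n hn)

include hN hpos in
theorem T1_of_symmetric (hsym : W4c6gradedringsgw.IsSymmetric (H : Set ℕ)) :
    letI := isLocalRing_AH (k := k) hh N hN hpos
    T1 (AH (k := k) hh) := by
  letI := isLocalRing_AH (k := k) hh N hN hpos
  obtain ⟨d, hd⟩ := hsym
  have hd' : ∀ n : ℤ, memZ H n ↔ ¬ memZ H (d - n) := hd
  have hdn : ¬ memZ H d := by
    have := (hd' 0).mp ⟨0, H.zero_mem, rfl⟩
    rwa [sub_zero] at this
  have hgt : ∀ n : ℤ, d < n → memZ H n := by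
    intro n hn
    rw [hd']
    intro h1
    have := memZ_nonneg h1
    omega
  have hd1 : -1 ≤ d := by
    by_contra hlt
    push Not at hlt
    have h1 : ¬ memZ H (-1) := fun h => absurd (memZ_nonneg h) (by omega)
    have h2 := (hd' (-1)).not.mp h1
    rw [not_not] at h2
    have := memZ_nonneg h2
    omega
  obtain ⟨w₀, hw₀⟩ : ∃ w₀ : ℕ, (w₀ : ℤ) = d + h :=
    ⟨(d + h).toNat, Int.toNat_of_nonneg (by omega)⟩
  have hw₀H : w₀ ∈ H := memZ_natCast.mp (hgt (w₀ : ℤ) (by omega))
  have hs0 : Ideal.Quotient.mk (Ideal.span {xpow (k := k) hh}) (xpow (k := k) hw₀H) ≠ 0 := by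
    intro h0
    rw [mk_eq_zero_iff] at h0
    have h1 := h0 w₀ (by
      show ((X : k[X]) ^ w₀).coeff w₀ ≠ 0
      rw [coeff_X_pow, if_pos rfl]
      exact one_ne_zero)
    apply hdn
    have h2 : (w₀ : ℤ) - h = d := by omega
    rwa [h2] at h1
  have hsoc : Ideal.Quotient.mk (Ideal.span {xpow (k := k) hh}) (xpow (k := k) hw₀H) ∈
      soc (AH (k := k) hh) := by
    rw [mem_soc]
    intro y hy
    obtain ⟨q, rfl⟩ := Ideal.Quotient.mk_surjective y
    rw [mk_mem_maximalIdeal_iff hh N hN hpos] at hy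
    rw [← map_mul, mk_eq_zero_iff]
    intro n hn
    have h1 : (q * xpow (k := k) hw₀H).1 = q.1 * X ^ w₀ := rfl
    rw [h1, coeff_mul_X_pow'] at hn
    split_ifs at hn with h2
    · have h3 : n - w₀ ≠ 0 := by
        intro h3
        rw [h3] at hn
        exact hn hy
      apply hgt
      omega
    · exact absurd rfl hn
  refine ⟨_, hs0, le_antisymm ?_ ?_⟩
  · intro a ha
    obtain ⟨p, rfl⟩ := Ideal.Quotient.mk_surjective a
    rw [Ideal.mem_span_singleton']
    set c := p.1.coeff w₀ with hc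
    refine ⟨Ideal.Quotient.mk (Ideal.span {xpow (k := k) hh}) (algebraMap k (SH k H) c), ?_⟩
    rw [← map_mul, ← sub_eq_zero, ← map_sub, mk_eq_zero_iff]
    intro n hn
    have h1 : (algebraMap k (SH k H) c * xpow (k := k) hw₀H - p).1 =
        C c * X ^ w₀ - p.1 := rfl
    rw [h1, coeff_sub, coeff_C_mul_X_pow] at hn
    have hnw : n ≠ w₀ := by
      intro h2
      rw [if_pos h2, h2, hc, sub_self] at hn
      exact hn rfl
    rw [if_neg hnw, zero_sub, neg_ne_zero] at hn
    by_contra hcon
    have h3 : memZ H (d - ((n : ℤ) - h)) := by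
      have := (hd' ((n : ℤ) - h)).not.mp hcon
      rwa [not_not] at this
    obtain ⟨s', hs'H, hs'⟩ := h3
    have hs'0 : s' ≠ 0 := by
      intro h4
      rw [h4] at hs'
      apply hnw
      have : (n : ℤ) = w₀ := by push_cast at hs'; omega
      exact_mod_cast this
    have hy : Ideal.Quotient.mk (Ideal.span {xpow (k := k) hh}) (xpow (k := k) hs'H) ∈
        maximalIdeal (AH (k := k) hh) := by
      rw [mk_mem_maximalIdeal_iff hh N hN hpos]
      show ((X : k[X]) ^ s').coeff 0 = 0
      rw [coeff_X_pow, if_neg (Ne.symm hs'0)]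
    have h5 := (mem_soc.mp ha) _ hy
    rw [← map_mul, mk_eq_zero_iff] at h5
    have h6 : (xpow (k := k) hs'H * p).1 = X ^ s' * p.1 := rfl
    have hsum : s' + n = w₀ := by
      have : (s' : ℤ) + n = w₀ := by omega
      exact_mod_cast this
    have h7 := h5 w₀ (by
      rw [h6, coeff_X_pow_mul', if_pos (by omega)]
      have : w₀ - s' = n := by omega
      rw [this]
      exact hn)
    apply hdn
    have h2 : (w₀ : ℤ) - h = d := by omega
    rwa [h2] at h7
  · rw [Ideal.span_singleton_le_iff_mem]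
    exact hsoc

/-- the Apéry-type predicate: exponents of monomials surviving modulo `X^h` -/
def InAp (H : AddSubmonoid ℕ) (h w : ℕ) : Prop := w ∈ H ∧ ¬ memZ H ((w : ℤ) - h)

include hN in
theorem InAp_lt {w : ℕ} (hw : InAp H h w) : w < N + h := by
  by_contra hge
  apply hw.2
  exact memZ_of_ge hN (by omega)

include hpos in
theorem InAp_zero : InAp H h 0 := by
  refine ⟨H.zero_mem, fun h1 => ?_⟩
  have := memZ_nonneg h1
  omega

theorem mk_xpow_ne_zero {w : ℕ} (hw : InAp H h w) :
    Ideal.Quotient.mk (Ideal.span {xpow (k := k) hh}) (xpow (k := k) hw.1) ≠ 0 := by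
  intro h0
  rw [mk_eq_zero_iff] at h0
  exact hw.2 (h0 w (by
    show ((X : k[X]) ^ w).coeff w ≠ 0
    rw [coeff_X_pow, if_pos rfl]
    exact one_ne_zero))

include hN hpos in
theorem symmetric_of_T1
    (hT : letI := isLocalRing_AH (k := k) hh N hN hpos; T1 (AH (k := k) hh)) :
    W4c6gradedringsgw.IsSymmetric (H : Set ℕ) := by
  classical
  letI := isLocalRing_AH (k := k) hh N hN hpos
  haveI := nontrivial_AH (k := k) hh hpos
  obtain ⟨s, hs0, hsoc⟩ := hT
  -- the largest Apéry element
  set w₁ := Nat.findGreatest (InAp H h) (N + h) with hw₁def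
  have hw₁ : InAp H h w₁ := Nat.findGreatest_spec (Nat.zero_le _) (InAp_zero (H := H) hpos)
  have hmax : ∀ w, InAp H h w → w ≤ w₁ := fun w hw =>
    Nat.le_findGreatest (InAp_lt N hN hw).le hw
  -- its monomial lies in the socle
  have hx1soc : Ideal.Quotient.mk (Ideal.span {xpow (k := k) hh}) (xpow (k := k) hw₁.1) ∈
      soc (AH (k := k) hh) := by
    rw [mem_soc]
    intro y hy
    obtain ⟨q, rfl⟩ := Ideal.Quotient.mk_surjective y
    rw [mk_mem_maximalIdeal_iff hh N hN hpos] at hy
    rw [← map_mul, mk_eq_zero_iff]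
    intro n hn
    have h1 : (q * xpow (k := k) hw₁.1).1 = q.1 * X ^ w₁ := rfl
    rw [h1, coeff_mul_X_pow'] at hn
    split_ifs at hn with h2
    · have h3 : n - w₁ ≠ 0 := by
        intro h3
        rw [h3] at hn
        exact hn hy
      have h4 : n - w₁ ∈ H := q.2 _ hn
      have h5 : n ∈ H := by
        have : n = (n - w₁) + w₁ := by omega
        rw [this]
        exact H.add_mem h4 hw₁.1
      by_contra hcon
      have := hmax n ⟨h5, hcon⟩
      omega
    · exact absurd rfl hn
  -- every socle element is a multiple of it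
  have hsoc' : ∀ a ∈ soc (AH (k := k) hh), ∃ q : SH k H,
      a = Ideal.Quotient.mk (Ideal.span {xpow (k := k) hh}) (q * xpow (k := k) hw₁.1) := by
    have hs_soc : s ∈ soc (AH (k := k) hh) := hsoc ▸ Ideal.subset_span rfl
    have h1 := hx1soc
    rw [hsoc, Ideal.mem_span_singleton'] at h1
    obtain ⟨b, hb⟩ := h1
    have hbu : IsUnit b := by
      by_contra hnu
      have hbm : b ∈ maximalIdeal (AH (k := k) hh) := (mem_maximalIdeal b).mpr hnu
      have := (mem_soc.mp hs_soc) b hbm
      rw [this] at hb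
      exact mk_xpow_ne_zero hh hw₁ hb.symm
    obtain ⟨u, rfl⟩ := hbu
    intro a ha
    rw [hsoc, Ideal.mem_span_singleton'] at ha
    obtain ⟨b', rfl⟩ := ha
    obtain ⟨q, hq⟩ := Ideal.Quotient.mk_surjective (b' * (↑u⁻¹ : AH (k := k) hh))
    refine ⟨q, ?_⟩
    rw [map_mul, hq, ← hb, mul_assoc, ← mul_assoc (↑u⁻¹ : AH (k := k) hh), Units.inv_mul, one_mul]
  -- dominance of `w₁`
  have hdom : ∀ j w : ℕ, InAp H h w → N + h - w ≤ j → ∃ m ∈ H, m + w = w₁ := by
    intro j
    induction j with
    | zero =>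
      intro w hw hj
      have := InAp_lt N hN hw
      omega
    | succ j ih =>
      intro w hw hj
      by_cases hws : Ideal.Quotient.mk (Ideal.span {xpow (k := k) hh}) (xpow (k := k) hw.1) ∈
          soc (AH (k := k) hh)
      · obtain ⟨q, hq⟩ := hsoc' _ hws
        have h1 : w = w₁ := by
          by_contra hne
          have hlt : w < w₁ := lt_of_le_of_ne (hmax w hw) hne
          rw [← sub_eq_zero, ← map_sub, mk_eq_zero_iff] at hq
          apply hw.2
          apply hq w
          have h2 : (xpow (k := k) hw.1 - q * xpow (k := k) hw₁.1).1 =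
              X ^ w - q.1 * X ^ w₁ := rfl
          rw [h2, coeff_sub, coeff_X_pow, if_pos rfl, coeff_mul_X_pow', if_neg (by omega),
            sub_zero]
          exact one_ne_zero
        exact ⟨0, H.zero_mem, by omega⟩
      · rw [mem_soc] at hws
        push Not at hws
        obtain ⟨y, hy, hy0⟩ := hws
        obtain ⟨q, rfl⟩ := Ideal.Quotient.mk_surjective y
        rw [mk_mem_maximalIdeal_iff hh N hN hpos] at hy
        rw [← map_mul, Ne, mk_eq_zero_iff] at hy0
        push Not at hy0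
        obtain ⟨n, hn, hnm⟩ := hy0
        have h1 : (q * xpow (k := k) hw.1).1 = q.1 * X ^ w := rfl
        rw [h1, coeff_mul_X_pow'] at hn
        split_ifs at hn with h2
        · have h3 : n - w ≠ 0 := by
            intro h3
            rw [h3] at hn
            exact hn hy
          have h4 : n - w ∈ H := q.2 _ hn
          have h5 : n ∈ H := by
            have : n = (n - w) + w := by omega
            rw [this]
            exact H.add_mem h4 hw.1
          obtain ⟨m', hm', hm'n⟩ := ih n ⟨h5, hnm⟩ (by omega)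
          exact ⟨m' + (n - w), H.add_mem hm' h4, by omega⟩
        · exact absurd rfl hn
  -- symmetry
  refine ⟨(w₁ : ℤ) - h, ?_⟩
  intro n
  show memZ H n ↔ ¬ memZ H ((w₁ : ℤ) - h - n)
  constructor
  · intro h1 h2
    apply hw₁.2
    have := memZ_add h1 h2
    rwa [add_sub_cancel] at this
  · intro h1
    by_contra hn
    apply h1
    -- the least translate of `n` in `H`
    have hex : ∃ j : ℕ, memZ H (n + ((j : ℤ) + 1) * h) := by
      refine ⟨((N : ℤ) - n).toNat, memZ_of_ge hN ?_⟩
      have h2 : ((N : ℤ) - n) ≤ (((N : ℤ) - n).toNat : ℤ) := Int.self_le_toNat _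
      have h3 : (1 : ℤ) ≤ (h : ℤ) := by exact_mod_cast hpos
      have h4 : (0 : ℤ) ≤ ((((N : ℤ) - n).toNat : ℤ) + 1) := by positivity
      nlinarith
    set j₀ := Nat.find hex with hj₀
    have hj₀s : memZ H (n + ((j₀ : ℤ) + 1) * h) := Nat.find_spec hex
    have hprev : ¬ memZ H (n + (j₀ : ℤ) * h) := by
      rcases Nat.eq_zero_or_pos j₀ with h0 | h0
      · rw [h0]
        push_cast
        rw [zero_mul, add_zero]
        exact hn
      · have := Nat.find_min hex (Nat.sub_lt h0 Nat.one_pos)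
        have h2 : (((j₀ - 1 : ℕ) : ℤ) + 1) = (j₀ : ℤ) := by
          have : 1 ≤ j₀ := h0
          push_cast [this]
          ring
        rwa [h2] at this
    obtain ⟨w, hwH, hw⟩ := hj₀s
    have hwAp : InAp H h w := by
      refine ⟨hwH, ?_⟩
      have h2 : (w : ℤ) - h = n + (j₀ : ℤ) * h := by rw [hw]; ring
      rw [h2]
      exact hprev
    obtain ⟨m, hm, hmw⟩ := hdom (N + h) w hwAp (by omega)
    refine ⟨m + j₀ * h, H.add_mem hm ?_, ?_⟩
    · have := H.nsmul_mem hh j₀
      rwa [smul_eq_mul] at this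
    · have h3 : (m : ℤ) + w = w₁ := by exact_mod_cast hmw
      push_cast
      have h4 : ((j₀ : ℤ) + 1) * h = (j₀ : ℤ) * h + h := by ring
      rw [h4] at hw
      linarith

end Groth.Agent.Lib.Helper8.Kunz
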