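import Mathlib
import Groth.Agent.Lib.Helper8KunzB
import Groth.Agent.Lib.Helper5GorBC
import Groth.Agent.Lib.Helper29GorLocQuot
import Groth.Agent.Lib.Helper29GorAnn

/-!
# Kunz' theorem for monomial algebras of numerical semigroups (helper8)
-/

set_option autoImplicit false
set_option linter.unusedSectionVars false
set_option linter.style.haveILetI false
universe u

noncomputable section

namespace Groth.Agent.Lib.Helper8.Kunz

open Polynomial IsLocalRing Groth.Agent.Lib.Helper8.MonoGr Groth.Agent.Lib.Helper5.GorArt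

variable {k : Type u} [Field k] {H : AddSubmonoid ℕ}

theorem xpow_ne_zero {h : ℕ} (hh : h ∈ H) : xpow (k := k) hh ≠ 0 := by
  intro h0
  have h1 : ((X : k[X]) ^ h) = 0 := congrArg Subtype.val h0
  exact pow_ne_zero h X_ne_zero h1

theorem mul_left_cancel_SH {x a b : SH k H} (hx : x ≠ 0) (h : x * a = x * b) : a = b := by
  apply Subtype.ext
  have h1 : x.1 * a.1 = x.1 * b.1 := congrArg Subtype.val h
  have hx' : x.1 ≠ 0 := fun h0 => hx (Subtype.ext h0)
  exact mul_left_cancel₀ hx' h1

theorem isSMulRegular_xpow {h : ℕ} (hh : h ∈ H) : IsSMulRegular (SH k H) (xpow (k := k) hh) := by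
  intro a b hab
  exact mul_left_cancel_SH (xpow_ne_zero hh) hab

theorem xpow_mem_nonZeroDivisors {h : ℕ} (hh : h ∈ H) :
    xpow (k := k) hh ∈ nonZeroDivisors (SH k H) := by
  rw [mem_nonZeroDivisors_iff_right]
  intro a ha
  have h1 : xpow (k := k) hh * a = xpow (k := k) hh * 0 := by rw [mul_zero, mul_comm, ha]
  exact mul_left_cancel_SH (xpow_ne_zero hh) h1

/-- **Kunz**: the monomial algebra of a numerical semigroup is Gorenstein iff the semigroup is
symmetric. -/
theorem gor_iff_symmetric [IsNoetherianRing (SH k H)] (N : ℕ)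
    (hN : ∀ n : ℕ, N ≤ n → n ∈ H) :
    LocCoh.IsGorensteinRing (SH k H) ↔ W4c6gradedringsgw.IsSymmetric (H : Set ℕ) := by
  have hh : N + 1 ∈ H := hN _ (Nat.le_succ N)
  have hpos : 0 < N + 1 := Nat.succ_pos N
  letI := isLocalRing_AH (k := k) hh N hN hpos
  haveI := isArtinianRing_AH (k := k) hh N hN hpos
  constructor
  · intro hG
    haveI := hG
    have hGA : LocCoh.IsGorensteinRing (AH (k := k) hh) :=
      Groth.Agent.Lib.Helper5.GorRing.gorRing_quotient_of_regular _ (isSMulRegular_xpow hh)
    have hloc := hGA.isGorensteinLocalRing_localization (maximalIdeal (AH (k := k) hh))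
    haveI : LocCoh.IsGorensteinLocalRing (AH (k := k) hh) :=
      (Groth.Agent.Lib.Helper5.GorBC.gor_localization_maximalIdeal_iff (AH (k := k) hh)
        (maximalIdeal (AH (k := k) hh)) rfl).mpr hloc
    exact symmetric_of_T1 hh N hN hpos (T1_of_gor (AH (k := k) hh))
  · intro hsym
    have hT := T1_of_symmetric (k := k) hh N hN hpos hsym
    haveI : LocCoh.IsGorensteinLocalRing (AH (k := k) hh) := gor_of_T1 _ hT
    have hGA : LocCoh.IsGorensteinRing (AH (k := k) hh) :=
      Groth.Agent.Lib.Helper29.GorAnn.isGorensteinRing_of_isGorensteinLocalRing _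
    have hx : xpow (k := k) hh ∈ irr (SH k H) := by
      rw [mem_irr]
      show ((X : k[X]) ^ (N + 1)).coeff 0 = 0
      rw [coeff_X_pow, if_neg (by omega)]
    have hloc := Groth.Agent.Lib.Helper29GorLocQuot.gorLocal_localization_of_quotient_span_singleton
      (xpow (k := k) hh) (xpow_mem_nonZeroDivisors hh) hGA (irr (SH k H)) hx
    exact gorRing_of_gorLocal_irr monoClosed_SH h0_SH hloc

end Groth.Agent.Lib.Helper8.Kunz
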