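import Groth.Agent.Lib.Helper8LC3

set_option autoImplicit false
universe u
open CategoryTheory CategoryTheory.Limits Opposite

namespace Groth.Agent.Lib.Helper8.ExtLES

variable {R : Type u} [CommRing R]

/-- The morphism `cxSC S' K ⟶ cxSC S K` induced by `φ : S ⟶ S'`. -/
noncomputable def cxSCMap₂ {S S' : ShortComplex (ModuleCat.{u} R)} (φ : S ⟶ S')
    (K : ChainComplex (ModuleCat.{u} R) ℕ) : cxSC S' K ⟶ cxSC S K where
  τ₁ := (NatTrans.mapHomologicalComplex (αg φ.τ₃) _).app K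
  τ₂ := (NatTrans.mapHomologicalComplex (αg φ.τ₂) _).app K
  τ₃ := (NatTrans.mapHomologicalComplex (αg φ.τ₁) _).app K
  comm₁₂ := by
    change (NatTrans.mapHomologicalComplex (αg φ.τ₃) _).app K ≫
      (NatTrans.mapHomologicalComplex (αg S.g) _).app K =
      (NatTrans.mapHomologicalComplex (αg S'.g) _).app K ≫
      (NatTrans.mapHomologicalComplex (αg φ.τ₂) _).app K
    rw [← NatTrans.comp_app, ← NatTrans.comp_app, ← NatTrans.mapHomologicalComplex_comp,
      ← NatTrans.mapHomologicalComplex_comp, ← αg_comp, ← αg_comp, φ.comm₂₃]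
  comm₂₃ := by
    change (NatTrans.mapHomologicalComplex (αg φ.τ₂) _).app K ≫
      (NatTrans.mapHomologicalComplex (αg S.f) _).app K =
      (NatTrans.mapHomologicalComplex (αg S'.f) _).app K ≫
      (NatTrans.mapHomologicalComplex (αg φ.τ₁) _).app K
    rw [← NatTrans.comp_app, ← NatTrans.comp_app, ← NatTrans.mapHomologicalComplex_comp,
      ← NatTrans.mapHomologicalComplex_comp, ← αg_comp, ← αg_comp, φ.comm₁₂]

lemma conj_nat₂ {D : Type*} [Category D] {A' A C' C HA' HA HC' HC : D}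
    (a' : A' ≅ HA') (a : A ≅ HA) (c' : C' ≅ HC') (c : C ≅ HC)
    (δ' : HA' ⟶ HC') (δ : HA ⟶ HC) (u : A' ⟶ A) (hu : HA' ⟶ HA) (v : C' ⟶ C) (hv : HC' ⟶ HC)
    (h2 : u = a'.hom ≫ hu ≫ a.inv) (h1 : v = c'.hom ≫ hv ≫ c.inv) (h3 : δ' ≫ hv = hu ≫ δ) :
    (a'.hom ≫ δ' ≫ c'.inv) ≫ v = u ≫ (a.hom ≫ δ ≫ c.inv) := by
  rw [h1, h2]
  simp only [Category.assoc, Iso.inv_hom_id_assoc]
  rw [reassoc_of% h3]

theorem δOp_naturality₂ {S S' : ShortComplex (ModuleCat.{u} R)} (hS : S.ShortExact)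
    (hS' : S'.ShortExact) (φ : S ⟶ S') {X : ModuleCat.{u} R} (P : ProjectiveResolution X) (n : ℕ) :
    δOp S' hS' P n ≫ (NatTrans.leftDerived (αg φ.τ₃) n).app X =
      (NatTrans.leftDerived (αg φ.τ₁) (n + 1)).app X ≫ δOp S hS P n := by
  have h3 := HomologicalComplex.HomologySequence.δ_naturality (cxSCMap₂ φ P.complex)
    (cxSC_shortExact S' hS' P.complex) (cxSC_shortExact S hS P.complex) (n + 1) n (relSucc n)
  exact conj_nat₂ _ _ _ _ _ _ _ _ _ _ (P.leftDerived_app_eq (αg φ.τ₁) (n + 1))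
    (P.leftDerived_app_eq (αg φ.τ₃) n) h3

theorem extδ_naturality₂ {S S' : ShortComplex (ModuleCat.{u} R)} (hS : S.ShortExact)
    (hS' : S'.ShortExact) (φ : S ⟶ S') (X : ModuleCat.{u} R) (n : ℕ) (z : E n X S.X₃) :
    Emap (n + 1) X φ.τ₁ (extδ S hS X n z) = extδ S' hS' X n (Emap n X φ.τ₃ z) := by
  have h := δOp_naturality₂ hS hS' φ (ProjectiveResolution.of X) n
  have h2 := congrArg Quiver.Hom.unop h
  have h3 := congrArg (fun ψ => ψ.hom z) h2
  exact h3.symm

end Groth.Agent.Lib.Helper8.ExtLES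

namespace Groth.Agent.Lib.Helper8.LC

open Groth.Agent.Lib.Helper8.ExtLES

variable {R : Type u} [CommRing R] (I : Ideal R)

theorem Hδ_naturality (i : ℕ) {S S' : ShortComplex (ModuleCat.{u} R)} (hS : S.ShortExact)
    (hS' : S'.ShortExact) (φ : S ⟶ S') (z : (localCohomology I i).obj S.X₃) :
    (localCohomology I (i + 1)).map φ.τ₁ (Hδ I i S hS z) =
      Hδ I i S' hS' ((localCohomology I i).map φ.τ₃ z) := by
  obtain ⟨k, zk, rfl⟩ := exists_rep I i S.X₃ z
  rw [Hδ_cls, map_cls, map_cls, Hδ_cls, extδ_naturality₂ hS hS' φ]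

end Groth.Agent.Lib.Helper8.LC

namespace Groth.Agent.Lib.Helper8.LC

open Groth.Agent.Lib.Helper8.ExtLES Groth.Agent.Lib.Helper8.DT LocCoh

variable {R : Type u} [CommRing R] (I : Ideal R)

theorem Dmap_comp {A B C : Type u} [AddCommGroup A] [Module R A] [AddCommGroup B] [Module R B]
    [AddCommGroup C] [Module R C] (φ : A →ₗ[R] B) (ψ : B →ₗ[R] C) (d : DT I A) :
    Dmap I (ψ ∘ₗ φ) d = Dmap I ψ (Dmap I φ d) := by
  have h : (idealTransform I).map (ModuleCat.ofHom (ψ ∘ₗ φ)) =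
      (idealTransform I).map (ModuleCat.ofHom φ) ≫ (idealTransform I).map (ModuleCat.ofHom ψ) := by
    rw [← Functor.map_comp, ← ModuleCat.ofHom_comp]
  have := congrArg (fun χ => χ.hom d) h
  exact this

section Compat

variable {N P EN EP QN QP : Type u} [AddCommGroup N] [Module R N] [AddCommGroup P] [Module R P]
  [AddCommGroup EN] [Module R EN] [AddCommGroup EP] [Module R EP]
  [AddCommGroup QN] [Module R QN] [AddCommGroup QP] [Module R QP]
  (fN : N →ₗ[R] EN) (qN : EN →ₗ[R] QN) (fP : P →ₗ[R] EP) (qP : EP →ₗ[R] QP)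
  (hfN : Function.Injective fN) (hqN : Function.Surjective qN) (hexN : Function.Exact fN qN)
  (hfP : Function.Injective fP) (hqP : Function.Surjective qP) (hexP : Function.Exact fP qP)
  (g : N →ₗ[R] P) (gE : EN →ₗ[R] EP) (gQ : QN →ₗ[R] QP)
  (c1 : gE ∘ₗ fN = fP ∘ₗ g) (c2 : gQ ∘ₗ qN = qP ∘ₗ gE)

/-- the morphism of short complexes. -/
noncomputable def SfgMap : Sfg fN qN hexN ⟶ Sfg fP qP hexP where
  τ₁ := ModuleCat.ofHom g
  τ₂ := ModuleCat.ofHom gE
  τ₃ := ModuleCat.ofHom gQ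
  comm₁₂ := by
    change ModuleCat.ofHom g ≫ ModuleCat.ofHom fP = ModuleCat.ofHom fN ≫ ModuleCat.ofHom gE
    rw [← ModuleCat.ofHom_comp, ← ModuleCat.ofHom_comp, c1]
  comm₂₃ := by
    change ModuleCat.ofHom gE ≫ ModuleCat.ofHom qP = ModuleCat.ofHom qN ≫ ModuleCat.ofHom gQ
    rw [← ModuleCat.ofHom_comp, ← ModuleCat.ofHom_comp, c2]

include c2 in
theorem gE_mem_Tsub (t : Tsub I qN) : gE t.1 ∈ Tsub I qP := by
  change qP (gE t.1) ∈ DRing.torsionSub I QP
  have h := LinearMap.congr_fun c2 t.1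
  rw [LinearMap.comp_apply, LinearMap.comp_apply] at h
  rw [← h]
  exact DRing.map_mem_torsionSub I gQ t.2

include c1 in
theorem p₂_gE (t : Tsub I qN) :
    p₂ I fP qP hfP hqP hexP ⟨gE t.1, gE_mem_Tsub I qN qP gE gQ c2 t⟩ =
      (localCohomology I 1).map (ModuleCat.ofHom g) (p₂ I fN qN hfN hqN hexN t) := by
  rw [p₂_apply, p₂_apply]
  have hnat := Hδ_naturality I 0 (Sfg_shortExact fN qN hfN hqN hexN)
    (Sfg_shortExact fP qP hfP hqP hexP) (SfgMap fN qN fP qP hexN hexP g gE gQ c1 c2)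
    ((ΦEquiv I (ModuleCat.of R QN)).symm ⟨qN t.1, t.2⟩)
  refine Eq.trans ?_ hnat.symm
  congr 1
  apply Φ_injective I (ModuleCat.of R QP)
  rw [Φ_ΦEquiv_symm]
  have h2 := Φ_naturality I (ModuleCat.ofHom gQ) ((ΦEquiv I (ModuleCat.of R QN)).symm ⟨qN t.1, t.2⟩)
  refine Eq.trans ?_ h2.symm
  rw [Φ_ΦEquiv_symm]
  have h := LinearMap.congr_fun c2 t.1
  rw [LinearMap.comp_apply, LinearMap.comp_apply] at h
  exact h.symm

include c1 in
theorem dLin_gE (t : Tsub I qN) :
    dLin I fP qP hfP hexP ⟨gE t.1, gE_mem_Tsub I qN qP gE gQ c2 t⟩ =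
      Dmap I g (dLin I fN qN hfN hexN t) := by
  have hDinj : Function.Injective (Dmap I fP) := Groth.Agent.S11629.map_injective I fP hfP
  apply hDinj
  rw [dLin_spec, ← Dmap_comp, ← c1, Dmap_comp, dLin_spec]
  exact (map_toDT I gE t.1).symm

include hfN hqN hexN hfP hqP hexP c1 c2 in
theorem exists_Dmap_sub_mem_range [Injective (ModuleCat.of R EN)] [Injective (ModuleCat.of R EP)]
    (hH1 : Function.Surjective ((localCohomology I 1).map (ModuleCat.ofHom g)).hom) (d : DT I P) :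
    ∃ d' : DT I N, Dmap I g d' - d ∈ LinearMap.range (toDT I P) := by
  obtain ⟨tP, htP⟩ := p₁_surjective I fP qP hfP hexP (Submodule.Quotient.mk d)
  obtain ⟨x', hx'⟩ := hH1 (p₂ I fP qP hfP hqP hexP tP)
  obtain ⟨tN, htN⟩ := p₂_surjective I fN qN hfN hqN hexN x'
  have h4 := p₂_gE I fN qN fP qP hfN hqN hexN hfP hqP hexP g gE gQ c1 c2 tN
  rw [htN] at h4
  have h5 : p₂ I fP qP hfP hqP hexP
      (⟨gE tN.1, gE_mem_Tsub I qN qP gE gQ c2 tN⟩ - tP) = 0 := by
    rw [map_sub, h4]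
    exact sub_eq_zero.mpr hx'
  rw [p₂_eq_zero_iff, ← p₁_eq_zero_iff I fP qP hfP hexP, map_sub, sub_eq_zero, htP, p₁_apply,
    dLin_gE I fN qN fP qP hfN hexN hfP hexP g gE gQ c1 c2] at h5
  refine ⟨dLin I fN qN hfN hexN tN, ?_⟩
  rw [← Submodule.Quotient.mk_eq_zero, Submodule.Quotient.mk_sub, h5, sub_self]

end Compat

end Groth.Agent.Lib.Helper8.LC

namespace Groth.Agent.Lib.Helper8.LC

open Groth.Agent.Lib.Helper8.ExtLES Groth.Agent.Lib.Helper8.DT LocCoh

variable {R : Type u} [CommRing R] (I : Ideal R)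

/-- `D_I(g)` is surjective when `H^2_I` of the kernel vanishes. -/
theorem Dmap_surjective_of_H2_eq_zero {K N P : Type u} [AddCommGroup K] [Module R K]
    [AddCommGroup N] [Module R N] [AddCommGroup P] [Module R P] (f : K →ₗ[R] N) (g : N →ₗ[R] P)
    (hf : Function.Injective f) (hg : Function.Surjective g) (hex : Function.Exact f g)
    (hK : ∀ x : (localCohomology I 2).obj (ModuleCat.of R K), x = 0) :
    Function.Surjective (Dmap I g) := by
  have hS := Sfg_shortExact f g hf hg hex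
  have hH1 : Function.Surjective ((localCohomology I 1).map (ModuleCat.ofHom g)).hom := by
    intro z
    exact H_exact₃ I 1 (Sfg f g hex) hS z (hK _)
  let Nc := ModuleCat.of R N
  let Pc := ModuleCat.of R P
  let ιN : Nc ⟶ Injective.under Nc := Injective.ι Nc
  let ιP : Pc ⟶ Injective.under Pc := Injective.ι Pc
  have hfN : Function.Injective ιN.hom := (ModuleCat.mono_iff_injective ιN).mp inferInstance
  have hfP : Function.Injective ιP.hom := (ModuleCat.mono_iff_injective ιP).mp inferInstance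
  let gEc : Injective.under Nc ⟶ Injective.under Pc :=
    Injective.factorThru (ModuleCat.ofHom g ≫ ιP) ιN
  have hgEc : ιN ≫ gEc = ModuleCat.ofHom g ≫ ιP := Injective.comp_factorThru _ _
  have c1 : gEc.hom ∘ₗ ιN.hom = ιP.hom ∘ₗ g := by
    have := congrArg ModuleCat.Hom.hom hgEc
    exact this
  have hle : LinearMap.range ιN.hom ≤ (LinearMap.range ιP.hom).comap gEc.hom := by
    rintro _ ⟨n, rfl⟩
    exact ⟨g n, (LinearMap.congr_fun c1 n).symm⟩
  have c2 : (Submodule.mapQ _ _ gEc.hom hle) ∘ₗ (LinearMap.range ιN.hom).mkQ =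
      (LinearMap.range ιP.hom).mkQ ∘ₗ gEc.hom := by
    apply LinearMap.ext
    intro x
    rfl
  have : Injective (ModuleCat.of R ↑(Injective.under Nc)) :=
    inferInstanceAs (Injective (Injective.under Nc))
  have : Injective (ModuleCat.of R ↑(Injective.under Pc)) :=
    inferInstanceAs (Injective (Injective.under Pc))
  intro d
  obtain ⟨d', p, hp⟩ := exists_Dmap_sub_mem_range I ιN.hom (LinearMap.range ιN.hom).mkQ ιP.hom
    (LinearMap.range ιP.hom).mkQ hfN (Submodule.mkQ_surjective _)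
    (LinearMap.exact_map_mkQ_range ιN.hom) hfP (Submodule.mkQ_surjective _)
    (LinearMap.exact_map_mkQ_range ιP.hom) g gEc.hom (Submodule.mapQ _ _ gEc.hom hle) c1 c2 hH1 d
  obtain ⟨n, rfl⟩ := hg p
  refine ⟨d' - toDT I N n, ?_⟩
  have h2 : Dmap I g (toDT I N n) = toDT I P (g n) := map_toDT I g n
  rw [map_sub, h2, hp]
  abel

end Groth.Agent.Lib.Helper8.LC
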