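import Mathlib
import Groth.Agent.Lib.Helper8Mon4

/-!
# Endomorphisms of the normalisation over the cubical monomial curve (helper8)

`End_A(B) / A` for `B = k[[t]]` has length `n - 1`; presentation of `B` as an `A`-module.
-/

set_option autoImplicit false
set_option linter.style.haveILetI false
set_option linter.unusedSectionVars false
open CategoryTheory

namespace Groth.Agent.Lib.Helper8.Mon
open Groth.Agent.Lib.Helper8.ValSemi Groth.Agent.Lib.Helper8.ExtPres PowerSeries IsLocalRing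

universe u

/-- generic form: if every `R`-linear endomorphism of `B` is a multiplication, then
`End_R(B) / R ≃ B / R`, and its length is the `k`-codimension of `R` in `B`. -/
theorem length_end_quot_generic {k R B : Type u} [Field k] [CommRing R] [CommRing B] [Algebra R B]
    [Algebra k R] [Algebra k B] [IsScalarTower k R B] [IsLocalRing R]
    (hres : ∀ a : R, ∃ c : k, a - algebraMap k R c ∈ maximalIdeal R)
    (hEnd : ∀ (φ : B →ₗ[R] B) (b : B), φ b = b * φ 1)
    (Ak : Submodule k B) (hAk : ∀ f, f ∈ Ak ↔ ∃ a : R, algebraMap R B a = f)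
    [Module.Finite k (B ⧸ Ak)] :
    Module.length R ((B →ₗ[R] B) ⧸
      LinearMap.range (Algebra.lsmul R R B : R →ₐ[R] Module.End R B).toLinearMap) =
      (Module.finrank k (B ⧸ Ak) : ℕ∞) := by
  let ev : (B →ₗ[R] B) →ₗ[R] B := LinearMap.applyₗ 1
  have hev : ∀ φ : B →ₗ[R] B, ev φ = φ 1 := fun φ => rfl
  have hinj : Function.Injective ev := by
    intro φ ψ h
    apply LinearMap.ext
    intro b
    rw [hEnd φ b, hEnd ψ b]
    rw [hev, hev] at h
    rw [h]
  have hsurj : Function.Surjective ev := by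
    intro c
    exact ⟨LinearMap.mulLeft R c, by rw [hev, LinearMap.mulLeft_apply, mul_one]⟩
  let e : (B →ₗ[R] B) ≃ₗ[R] B := LinearEquiv.ofBijective ev ⟨hinj, hsurj⟩
  let P₂ : Submodule R B := LinearMap.range (Algebra.linearMap R B)
  have hmap : (LinearMap.range (Algebra.lsmul R R B : R →ₐ[R] Module.End R B).toLinearMap).map
      (e : (B →ₗ[R] B) →ₗ[R] B) = P₂ := by
    ext f
    rw [Submodule.mem_map]
    constructor
    · rintro ⟨φ, ⟨a, rfl⟩, rfl⟩
      refine ⟨a, ?_⟩
      change algebraMap R B a = a • (1 : B)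
      rw [Algebra.smul_def, mul_one]
    · rintro ⟨a, rfl⟩
      refine ⟨_, ⟨a, rfl⟩, ?_⟩
      change a • (1 : B) = algebraMap R B a
      rw [Algebra.smul_def, mul_one]
  have e2 := Submodule.Quotient.equiv _ P₂ e hmap
  rw [e2.length_eq]
  have hP₂ : P₂.restrictScalars k = Ak := by
    ext f
    rw [Submodule.restrictScalars_mem, hAk]
    rfl
  have e3 : (B ⧸ Ak) ≃ₗ[k] (B ⧸ P₂) :=
    (Submodule.quotEquivOfEq _ _ hP₂.symm).trans (Submodule.Quotient.restrictScalarsEquiv k P₂)
  haveI : Module.Finite k (B ⧸ P₂) := Module.Finite.equiv e3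
  rw [length_eq_finrank_of_local hres, e3.finrank_eq]

variable {k : Type u} [Field k] (A : Subalgebra k (PowerSeries k)) (n : ℕ)
  (hA : ∀ f : PowerSeries k, f ∈ A ↔ f ∈ Mon k (Γc n))

include hA in
theorem hEnd_cubical (φ : PowerSeries k →ₗ[↥A] PowerSeries k) (b : PowerSeries k) :
    φ b = b * φ 1 := by
  have hsmul : ∀ (a : ↥A) (f : PowerSeries k), a • f = (a : PowerSeries k) * f := fun _ _ => rfl
  have hxA : (X : PowerSeries k) ^ n ∈ A := by
    have := X_pow_mul_mem_cubical A n hA (1 : PowerSeries k) (le_refl n)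
    rwa [mul_one] at this
  have hbA : (X : PowerSeries k) ^ n * b ∈ A := X_pow_mul_mem_cubical A n hA b (le_refl n)
  have h1 : φ ((⟨_, hbA⟩ : ↥A) • (1 : PowerSeries k)) = (X : PowerSeries k) ^ n * b * φ 1 := by
    rw [map_smul, hsmul]
  have h2 : φ ((⟨_, hxA⟩ : ↥A) • b) = (X : PowerSeries k) ^ n * φ b := by
    rw [map_smul, hsmul]
  have h3 : (⟨_, hbA⟩ : ↥A) • (1 : PowerSeries k) = (⟨_, hxA⟩ : ↥A) • b := by
    rw [hsmul, hsmul, mul_one]
  rw [h3, h2] at h1
  have hX : (X : PowerSeries k) ^ n ≠ 0 := pow_ne_zero n PowerSeries.X_ne_zero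
  apply mul_left_cancel₀ hX
  rw [h1, mul_assoc]

include hA in
theorem length_end_cubical :
    Module.length ↥A ((PowerSeries k →ₗ[↥A] PowerSeries k) ⧸
      LinearMap.range (Algebra.lsmul ↥A ↥A (PowerSeries k) :
        ↥A →ₐ[↥A] Module.End ↥A (PowerSeries k)).toLinearMap) = ((n - 1 : ℕ) : ℕ∞) := by
  haveI := isLocalRing_of_mon A (Γc n) hA
  have hcof : ∀ m, n ≤ m → m ∈ Γc n := fun m hm => Or.inr hm
  obtain ⟨hfin, hrank⟩ := finrank_quot_Mon (k := k) hcof
  have hAk : ∀ f : PowerSeries k, f ∈ Mon k (Γc n) ↔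
      ∃ a : ↥A, algebraMap ↥A (PowerSeries k) a = f := by
    intro f
    constructor
    · intro h
      exact ⟨⟨f, (hA f).mpr h⟩, rfl⟩
    · rintro ⟨a, rfl⟩
      exact (hA _).mp a.2
  have h1 := length_end_quot_generic (k := k) (hres_of_mon A (Γc n) hA) (hEnd_cubical A n hA)
    (Mon k (Γc n)) hAk
  have hset : (Γc n)ᶜ = ↑(Finset.Ioo 0 n) := by
    ext m
    rw [Finset.coe_Ioo, Set.mem_Ioo, Set.mem_compl_iff]
    change ¬ (m = 0 ∨ n ≤ m) ↔ _
    omega
  rw [hrank, hset, Set.ncard_coe_finset, Nat.card_Ioo, Nat.sub_zero] at h1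
  exact h1

/-- the presentation of `k[[t]]` over the cubical ring. -/
noncomputable def pNorm : (↥A × (Fin (n - 1) → ↥A)) →ₗ[↥A] PowerSeries k :=
  (LinearMap.toSpanSingleton ↥A (PowerSeries k) 1).coprod
    (∑ s : Fin (n - 1), (LinearMap.toSpanSingleton ↥A (PowerSeries k)
      ((X : PowerSeries k) ^ (s.1 + 1))).comp (LinearMap.proj s))

theorem pNorm_apply (a : ↥A) (y : Fin (n - 1) → ↥A) :
    pNorm A n (a, y) = a • (1 : PowerSeries k) + ∑ s, y s • (X : PowerSeries k) ^ (s.1 + 1) := by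
  change (LinearMap.toSpanSingleton ↥A (PowerSeries k) 1) a +
    (∑ s : Fin (n - 1), (LinearMap.toSpanSingleton ↥A (PowerSeries k)
      ((X : PowerSeries k) ^ (s.1 + 1))).comp (LinearMap.proj s)) y = _
  rw [LinearMap.toSpanSingleton_apply, LinearMap.sum_apply]
  rfl

include hA in
theorem pNorm_surjective : Function.Surjective (pNorm A n) := by
  intro f
  have hf : f ∈ Submodule.span ↥A ((fun e : ℕ => (X : PowerSeries k) ^ e) '' Set.Iic (n - 1)) := by
    rw [mem_span_X_pow A _ hA (Set.Iic (n - 1)) (Set.finite_Iic _) f]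
    intro m _
    rw [Set.mem_iUnion₂]
    by_cases h : m ≤ n - 1
    · exact ⟨m, Set.mem_Iic.mpr h, le_refl _, Or.inl (Nat.sub_self m)⟩
    · exact ⟨0, Set.mem_Iic.mpr (Nat.zero_le _), Nat.zero_le _, Or.inr (by omega)⟩
  have hle : Submodule.span ↥A ((fun e : ℕ => (X : PowerSeries k) ^ e) '' Set.Iic (n - 1)) ≤
      LinearMap.range (pNorm A n) := by
    rw [Submodule.span_le]
    rintro _ ⟨a, ha, rfl⟩
    rw [Set.mem_Iic] at ha
    rcases Nat.eq_zero_or_pos a with h0 | h0
    · refine ⟨(1, 0), ?_⟩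
      rw [pNorm_apply, h0]
      simp
    · refine ⟨(0, Pi.single ⟨a - 1, by omega⟩ 1), ?_⟩
      rw [pNorm_apply, zero_smul, zero_add, Finset.sum_eq_single ⟨a - 1, by omega⟩]
      · rw [Pi.single_eq_same, one_smul]
        change (X : PowerSeries k) ^ (a - 1 + 1) = X ^ a
        rw [Nat.sub_add_cancel h0]
      · intro s _ hs
        rw [Pi.single_eq_of_ne hs, zero_smul]
      · intro h
        exact absurd (Finset.mem_univ _) h
  exact hle hf

end Groth.Agent.Lib.Helper8.Mon
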