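import Mathlib
import Groth.Agent.S0563
import Groth.Agent.S0604
import Groth.Agent.Lib.Helper5RLR3
import Groth.Agent.Lib.Helper28Depth

/-!
# Maximal Cohen–Macaulay modules over a planar curve singularity (helper8)

`R = S/(f)` with `S` regular local of dimension two.  A finite `R`-module `M` with a
non-zero-divisor in the maximal ideal admits a two-periodic free resolution; we record the
four-term exact sequence `0 → M → R^a → R^b → M → 0`.
-/

set_option autoImplicit false
set_option linter.style.haveILetI false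
open CategoryTheory

namespace Groth.Agent.Lib.Helper8.Planar

universe u

section Hom

variable {R : Type u} [CommRing R] [IsLocalRing R] {I J : Ideal R} {n : ℕ}
  {M N : Type u} [AddCommGroup M] [Module R M] [AddCommGroup N] [Module R N]

theorem hom_eq_zero (hIJ : IsLocalRing.maximalIdeal R ^ n ≤ I ⊔ J)
    (hI : I ≤ Module.annihilator R M) (hJ : J ≤ Module.annihilator R N)
    {y : R} (hy : y ∈ IsLocalRing.maximalIdeal R) (hyN : IsSMulRegular N y)
    (h : M →ₗ[R] N) : h = 0 := by
  ext z
  have h1 : y ^ n ∈ I ⊔ J := hIJ (Ideal.pow_mem_pow hy n)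
  obtain ⟨i, hi, j, hj, hij⟩ := Submodule.mem_sup.mp h1
  have h2 : y ^ n • h z = 0 := by
    rw [← hij, add_smul, ← map_smul, Module.mem_annihilator.mp (hI hi) z, map_zero, zero_add,
      Module.mem_annihilator.mp (hJ hj)]
  have h3 := (hyN.pow n) (show y ^ n • h z = y ^ n • (0 : N) by rw [h2, smul_zero])
  simpa using h3

end Hom

section PD

variable (S : Type u) [CommRing S] [IsRegularLocalRing S] (hS : ringKrullDim S = 2)
  (M : Type u) [AddCommGroup M] [Module S M] [Module.Finite S M]

include hS in
theorem hasProjectiveDimensionLT_two (x : S) (hx : x ∈ IsLocalRing.maximalIdeal S)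
    (hxM : IsSMulRegular M x) : HasProjectiveDimensionLT (ModuleCat.of S M) 2 := by
  rcases subsingleton_or_nontrivial M with hM | hM
  · have h0 : Limits.IsZero (ModuleCat.of S M) := ModuleCat.isZero_of_subsingleton _
    have := h0.hasProjectiveDimensionLT_zero
    exact hasProjectiveDimensionLT_of_ge _ 0 2 (by omega)
  · have h1 := Groth.Agent.S0563.result S 2 (by exact_mod_cast hS) M
    have h2 : projectiveDimension (ModuleCat.of S M) < ((2 + 1 : ℕ) : WithBot ℕ∞) :=
      projectiveDimension_lt_iff.mpr h1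
    have h3 : projectiveDimension (ModuleCat.of S M) ≠ ⊥ := by
      rw [Ne, projectiveDimension_eq_bot_iff, ModuleCat.isZero_iff_subsingleton]
      exact not_subsingleton M
    obtain ⟨e, he⟩ : ∃ e : ℕ, projectiveDimension (ModuleCat.of S M) = e := by
      generalize projectiveDimension (ModuleCat.of S M) = a at h2 h3
      induction a using WithBot.recBotCoe with
      | bot => exact absurd rfl h3
      | coe m =>
        induction m using ENat.recTopCoe with
        | top => exact absurd h2 (by simp)
        | coe k => exact ⟨k, rfl⟩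
    have hAB := Groth.Agent.S0604.result S M e he
    have hCM : Module.supportDim S S = ((LocCoh.depth S S : ℕ∞) : WithBot ℕ∞) :=
      (Groth.Agent.Lib.Helper5.isCohenMacaulayLocalRing_of_isRegularLocalRing
        (R := S)).supportDim_eq_depth
    rw [Module.supportDim_self_eq_ringKrullDim, hS, hAB] at hCM
    have hIM : IsLocalRing.maximalIdeal S • (⊤ : Submodule S M) ≠ ⊤ := by
      intro h
      have := Submodule.eq_bot_of_le_smul_of_le_jacobson_bot (IsLocalRing.maximalIdeal S)
        (⊤ : Submodule S M) Module.Finite.fg_top h.ge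
        (IsLocalRing.maximalIdeal_le_jacobson ⊥)
      exact top_ne_bot this
    have hd1 : 1 ≤ LocCoh.depth S M :=
      (Groth.Agent.Lib.Helper28.one_le_idealDepth_iff hIM).mpr ⟨x, hx, hxM⟩
    have hdt : LocCoh.depth S M ≠ ⊤ := Groth.Agent.Lib.Helper28.idealDepth_ne_top hIM
    obtain ⟨d, hd⟩ := ENat.ne_top_iff_exists.mp hdt
    rw [← hd] at hCM hd1
    have hde0 : (2 : ℕ∞) = (e : ℕ∞) + (d : ℕ∞) :=
      WithBot.coe_injective (by rw [← hCM]; rfl)
    have hde : 2 = e + d := by exact_mod_cast hde0
    have hd1' : 1 ≤ d := by exact_mod_cast hd1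
    rw [← projectiveDimension_lt_iff, he]
    have : e < 2 := by omega
    exact_mod_cast this

end PD

section Periodic

variable (S : Type u) [CommRing S] [IsRegularLocalRing S] (hS : ringKrullDim S = 2) (f : S)
  (hf : f ≠ 0) (R : Type u) [CommRing R] [IsLocalRing R] (π : S →+* R)
  (hπ : Function.Surjective π) (hker : RingHom.ker π = Ideal.span {f})
  (M : Type u) [AddCommGroup M] [Module R M] [Module.Finite R M]
  (x : R) (hx : x ∈ IsLocalRing.maximalIdeal R) (hxM : IsSMulRegular M x)

include hS hf hπ hker hx hxM in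
theorem exists_periodic :
    ∃ (a b : ℕ) (φ : (Fin a → R) →ₗ[R] (Fin b → R)) (p : (Fin b → R) →ₗ[R] M),
      Function.Surjective p ∧ LinearMap.range φ = LinearMap.ker p ∧
      Nonempty (M ≃ₗ[R] LinearMap.ker φ) := by
  haveI : IsDomain S := Groth.Agent.Lib.Helper5.isDomain_of_isRegularLocalRing S
  letI : Algebra S R := π.toAlgebra
  letI : Module S M := Module.compHom M π
  haveI : IsScalarTower S R M := IsScalarTower.of_algebraMap_smul fun r m => rfl
  haveI : Module.Finite S R := Module.Finite.of_surjective (Algebra.linearMap S R) hπ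
  haveI : Module.Finite S M := Module.Finite.trans R M
  have hπf : π f = 0 := by
    have : f ∈ RingHom.ker π := by rw [hker]; exact Ideal.mem_span_singleton_self f
    exact this
  have hkerπ : ∀ s : S, π s = 0 → ∃ c, s = f * c := by
    intro s hs
    have : s ∈ RingHom.ker π := hs
    rw [hker, Ideal.mem_span_singleton'] at this
    obtain ⟨c, hc⟩ := this
    exact ⟨c, by rw [← hc, mul_comm]⟩
  obtain ⟨xt, hxt⟩ := hπ x
  have hxtm : xt ∈ IsLocalRing.maximalIdeal S := by
    rw [IsLocalRing.mem_maximalIdeal, mem_nonunits_iff]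
    intro hu
    have := hu.map π
    rw [hxt] at this
    exact ((IsLocalRing.mem_maximalIdeal x).mp hx) this
  have hxtM : IsSMulRegular M xt := by
    intro m₁ m₂ h
    apply hxM
    have e1 : ∀ m : M, xt • m = x • m := fun m => by rw [← hxt]; rfl
    simpa only [e1] using h
  have hpd := hasProjectiveDimensionLT_two S hS M xt hxtm hxtM
  obtain ⟨b, p, hp⟩ := Module.Finite.exists_fin' R M
  let πn : ∀ n : ℕ, (Fin n → S) →ₗ[S] (Fin n → R) := fun n =>
    (Algebra.linearMap S R).compLeft (Fin n)
  have hπn_apply : ∀ (n : ℕ) (t : Fin n → S) (j : Fin n), πn n t j = π (t j) := fun n t j => rfl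
  have hπn_surj : ∀ n, Function.Surjective (πn n) := fun n r =>
    ⟨fun i => (hπ (r i)).choose, funext fun i => (hπ (r i)).choose_spec⟩
  have hπn_ker : ∀ (n : ℕ) (t : Fin n → S), πn n t = 0 → ∃ t' : Fin n → S, t = f • t' := by
    intro n t ht
    have h1 : ∀ j, ∃ c, t j = f * c := fun j => hkerπ (t j) (by rw [← hπn_apply, ht]; rfl)
    exact ⟨fun j => (h1 j).choose, funext fun j => (h1 j).choose_spec⟩
  have hπn_f : ∀ (n : ℕ) (t : Fin n → S), πn n (f • t) = 0 := by
    intro n t
    funext j
    rw [hπn_apply, Pi.smul_apply, smul_eq_mul, map_mul, hπf, zero_mul]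
    rfl
  let pS : (Fin b → S) →ₗ[S] M := (p.restrictScalars S) ∘ₗ πn b
  have hpS_apply : ∀ s, pS s = p (πn b s) := fun s => rfl
  have hpS : Function.Surjective pS := hp.comp (hπn_surj b)
  let K : Submodule S (Fin b → S) := LinearMap.ker pS
  have hKproj : Module.Projective S K := by
    let SC : ShortComplex (ModuleCat.{u} S) :=
      ShortComplex.mk (ModuleCat.ofHom K.subtype) (ModuleCat.ofHom pS) (by
        ext k
        exact k.2)
    have hSC : SC.ShortExact := by
      refine ShortComplex.ShortExact.mk' ?_ ?_ ?_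
      · rw [ShortComplex.moduleCat_exact_iff_range_eq_ker]
        exact Submodule.range_subtype K
      · exact (ModuleCat.mono_iff_injective _).mpr K.injective_subtype
      · exact (ModuleCat.epi_iff_surjective _).mpr hpS
    have h2 : Projective SC.X₂ :=
      (IsProjective.iff_projective (R := S) (Fin b → S)).mp inferInstance
    have h3 : HasProjectiveDimensionLT SC.X₁ 1 :=
      (hSC.hasProjectiveDimensionLT_X₃_iff 0 h2).mp hpd
    have h4 : Projective (ModuleCat.of S K) := by
      rw [projective_iff_hasProjectiveDimensionLT_one]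
      exact h3
    exact (IsProjective.iff_projective (R := S) K).mpr h4
  haveI : IsNoetherianRing S := inferInstance
  haveI : Module.Finite S K := Module.Finite.of_injective K.subtype K.injective_subtype
  haveI : Module.Free S K := Module.free_of_flat_of_isLocalRing
  let a := Module.finrank S K
  let bK : Module.Basis (Fin a) S K := Module.finBasis S K
  let φS : (Fin a → S) →ₗ[S] (Fin b → S) := K.subtype ∘ₗ (bK.equivFun.symm : (Fin a → S) →ₗ[S] K)
  have hφS_inj : Function.Injective φS :=
    K.injective_subtype.comp bK.equivFun.symm.injective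
  have hφS_mem : ∀ t, pS (φS t) = 0 := fun t => (bK.equivFun.symm t).2
  have hφS_surj : ∀ s, pS s = 0 → ∃ t, φS t = s := fun s hs =>
    ⟨bK.equivFun ⟨s, hs⟩, by simp [φS]⟩
  have hfK : ∀ s : Fin b → S, pS (f • s) = 0 := fun s => by
    rw [hpS_apply, hπn_f, map_zero]
  let ψS : (Fin b → S) →ₗ[S] (Fin a → S) :=
    (bK.equivFun : K →ₗ[S] (Fin a → S)) ∘ₗ
      LinearMap.codRestrict K (f • (LinearMap.id : (Fin b → S) →ₗ[S] (Fin b → S))) hfK
  have hφψ : ∀ s, φS (ψS s) = f • s := fun s => by simp [φS, ψS]
  have hψφ : ∀ t, ψS (φS t) = f • t := fun t => by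
    apply hφS_inj
    rw [hφψ, map_smul]
  -- reductions
  let φ : (Fin a → R) →ₗ[R] (Fin b → R) :=
    (Pi.basisFun R (Fin a)).constr R (fun j => πn b (φS (Pi.single j 1)))
  let ψ : (Fin b → R) →ₗ[R] (Fin a → R) :=
    (Pi.basisFun R (Fin b)).constr R (fun j => πn a (ψS (Pi.single j 1)))
  have hπn_single : ∀ (n : ℕ) (j : Fin n), πn n (Pi.single j 1) = Pi.single j 1 := by
    intro n j
    funext i
    rw [hπn_apply]
    by_cases h : i = j
    · subst h; simp
    · simp [Pi.single_eq_of_ne h]
  have hφ : ∀ t, φ (πn a t) = πn b (φS t) := by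
    intro t
    have : (φ.restrictScalars S) ∘ₗ πn a = πn b ∘ₗ φS := by
      apply (Pi.basisFun S (Fin a)).ext
      intro j
      simp only [LinearMap.comp_apply, LinearMap.restrictScalars_apply, Pi.basisFun_apply]
      rw [hπn_single]
      have := (Pi.basisFun R (Fin a)).constr_basis R (fun j => πn b (φS (Pi.single j 1))) j
      rw [Pi.basisFun_apply] at this
      exact this
    exact LinearMap.congr_fun this t
  have hψ : ∀ s, ψ (πn b s) = πn a (ψS s) := by
    intro s
    have : (ψ.restrictScalars S) ∘ₗ πn b = πn a ∘ₗ ψS := by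
      apply (Pi.basisFun S (Fin b)).ext
      intro j
      simp only [LinearMap.comp_apply, LinearMap.restrictScalars_apply, Pi.basisFun_apply]
      rw [hπn_single]
      have := (Pi.basisFun R (Fin b)).constr_basis R (fun j => πn a (ψS (Pi.single j 1))) j
      rw [Pi.basisFun_apply] at this
      exact this
    exact LinearMap.congr_fun this s
  have hrange_φ : LinearMap.range φ = LinearMap.ker p := by
    apply le_antisymm
    · rintro _ ⟨r, rfl⟩
      obtain ⟨t, rfl⟩ := hπn_surj a r
      rw [LinearMap.mem_ker, hφ, ← hpS_apply]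
      exact hφS_mem t
    · intro r hr
      obtain ⟨s, rfl⟩ := hπn_surj b r
      obtain ⟨t, rfl⟩ := hφS_surj s hr
      exact ⟨πn a t, hφ t⟩
  have hker_ψ : LinearMap.ker ψ = LinearMap.ker p := by
    rw [← hrange_φ]
    apply le_antisymm
    · intro r hr
      obtain ⟨s, rfl⟩ := hπn_surj b r
      rw [LinearMap.mem_ker, hψ] at hr
      obtain ⟨t', ht'⟩ := hπn_ker a _ hr
      have h1 : f • s = f • φS t' := by
        rw [← hφψ, ht', map_smul]
      have h2 : s = φS t' := smul_right_injective (Fin b → S) hf h1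
      exact ⟨πn a t', by rw [hφ, h2]⟩
    · rintro _ ⟨r, rfl⟩
      obtain ⟨t, rfl⟩ := hπn_surj a r
      rw [LinearMap.mem_ker, hφ, hψ, hψφ, hπn_f]
  have hrange_ψ : LinearMap.range ψ = LinearMap.ker φ := by
    apply le_antisymm
    · rintro _ ⟨r, rfl⟩
      obtain ⟨s, rfl⟩ := hπn_surj b r
      rw [LinearMap.mem_ker, hψ, hφ, hφψ, hπn_f]
    · intro r hr
      obtain ⟨t, rfl⟩ := hπn_surj a r
      rw [LinearMap.mem_ker, hφ] at hr
      obtain ⟨s', hs'⟩ := hπn_ker b _ hr
      have h1 : t = ψS s' := by
        apply hφS_inj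
        rw [hφψ, hs']
      exact ⟨πn b s', by rw [hψ, h1]⟩
  refine ⟨a, b, φ, p, hp, hrange_φ, ⟨?_⟩⟩
  exact (p.quotKerEquivOfSurjective hp).symm ≪≫ₗ
    (Submodule.quotEquivOfEq _ _ hker_ψ.symm) ≪≫ₗ ψ.quotKerEquivRange ≪≫ₗ
    LinearEquiv.ofEq _ _ hrange_ψ

end Periodic

end Groth.Agent.Lib.Helper8.Planar
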