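import Mathlib
import Groth.Agent.Lib.Helper8Planar
import Groth.Agent.Lib.Helper13Tor
import Groth.Agent.Lib.Helper13TorD1

/-!
# Vanishing of `Tor₁(M, N^*)` from a periodic presentation (helper8)
-/

set_option autoImplicit false
set_option linter.style.haveILetI false
open CategoryTheory TensorProduct

namespace Groth.Agent.Lib.Helper8.Planar

universe u

section Tensor

variable {R : Type u} [CommRing R] {a b : ℕ} (φ : (Fin a → R) →ₗ[R] (Fin b → R))
  (N : Type u) [AddCommGroup N] [Module R N]

theorem lTensor_dual_injective (P : Submodule R (Fin b → R)) (hrange : LinearMap.range φ = P)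
    (hHom : ∀ g : N →ₗ[R] LinearMap.ker φ, g = 0) :
    Function.Injective (LinearMap.lTensor (Module.Dual R N) P.subtype) := by
  let φ' : (Fin a → R) →ₗ[R] P :=
    LinearMap.codRestrict P φ (fun t => by rw [← hrange]; exact ⟨t, rfl⟩)
  have hφ'surj : Function.Surjective φ' := by
    rintro ⟨k, hk⟩
    rw [← hrange] at hk
    obtain ⟨t, rfl⟩ := hk
    exact ⟨t, rfl⟩
  have hcomp : P.subtype ∘ₗ φ' = φ := LinearMap.subtype_comp_codRestrict _ _ _
  rw [injective_iff_map_eq_zero]
  intro z hz
  obtain ⟨w, rfl⟩ := LinearMap.lTensor_surjective (Module.Dual R N) hφ'surj z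
  rw [← LinearMap.comp_apply, ← LinearMap.lTensor_comp, hcomp] at hz
  have h1 : φ ∘ₗ (dualTensorHom R N (Fin a → R) w) = 0 := by
    have := LinearMap.congr_fun (dualTensorHom_comp_lTensor (M := N) φ) w
    simp only [LinearMap.comp_apply] at this
    rw [hz, map_zero] at this
    exact this.symm
  have h2 : dualTensorHom R N (Fin a → R) w = 0 := by
    have h3 := hHom (LinearMap.codRestrict (LinearMap.ker φ) (dualTensorHom R N (Fin a → R) w)
      (fun ν => LinearMap.congr_fun h1 ν))
    ext ν : 1
    have := LinearMap.congr_fun h3 ν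
    exact congrArg Subtype.val this
  have h4 : w = 0 :=
    (dualTensorHom_bijective_of_finite_projective_right (R := R) (M := N)
      (N := (Fin a → R))).1 (by rw [h2, map_zero])
  rw [h4, map_zero]

end Tensor

end Groth.Agent.Lib.Helper8.Planar
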