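import Mathlib

/-!
# Helper8PowTors

`R → S` flat, `I ⊆ R` with `R/I ≃ S/IS`.  For `I`-power torsion `M`, `M → S ⊗ M` is bijective;
comparison of `Hom`.
-/

namespace Groth.Agent.Lib.Helper8PowTors

open TensorProduct

universe u

variable {R S : Type u} [CommRing R] [CommRing S] [Algebra R S]

/-- elements killed by `I ^ n`. -/
def tors (I : Ideal R) (n : ℕ) (M : Type*) [AddCommGroup M] [Module R M] : Submodule R M where
  carrier := {x | ∀ a ∈ I ^ n, a • x = 0}
  add_mem' := by
    intro x y hx hy a ha
    rw [smul_add, hx a ha, hy a ha, add_zero]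
  zero_mem' := by intro a _; exact smul_zero a
  smul_mem' := by
    intro r x hx a ha
    rw [smul_comm, hx a ha, smul_zero]

/-- all `I`-power torsion elements. -/
def torsAll (I : Ideal R) (M : Type*) [AddCommGroup M] [Module R M] : Submodule R M where
  carrier := {x | ∃ n : ℕ, ∀ a ∈ I ^ n, a • x = 0}
  add_mem' := by
    rintro x y ⟨n, hn⟩ ⟨m, hm⟩
    refine ⟨max n m, fun a ha => ?_⟩
    rw [smul_add, hn a (Ideal.pow_le_pow_right (le_max_left n m) ha),
      hm a (Ideal.pow_le_pow_right (le_max_right n m) ha), add_zero]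
  zero_mem' := ⟨0, fun a _ => smul_zero a⟩
  smul_mem' := by
    rintro r x ⟨n, hn⟩
    exact ⟨n, fun a ha => by rw [smul_comm, hn a ha, smul_zero]⟩

lemma tmul_eq_zero_of_mem_map (I : Ideal R) {M : Type*} [AddCommGroup M] [Module R M]
    (h : ∀ a ∈ I, ∀ x : M, a • x = 0) (t : S) (ht : t ∈ I.map (algebraMap R S)) (m : M) :
    t ⊗ₜ[R] m = 0 := by
  revert m
  refine Submodule.span_induction (p := fun t _ => ∀ m : M, t ⊗ₜ[R] m = 0) ?_ ?_ ?_ ?_ ht
  · rintro _ ⟨a, ha, rfl⟩ m
    rw [Algebra.algebraMap_eq_smul_one, TensorProduct.smul_tmul, h a ha m, tmul_zero]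
  · intro m; exact zero_tmul _ _
  · intro x y _ _ hx hy m; rw [add_tmul, hx m, hy m, add_zero]
  · intro s x _ hx m
    have : (s • x) ⊗ₜ[R] m = s • (x ⊗ₜ[R] m) := by rw [TensorProduct.smul_tmul']
    rw [this, hx m, smul_zero]

lemma exists_sub_mem (I : Ideal R)
    (hq : Function.Surjective (algebraMap (R ⧸ I) (S ⧸ I.map (algebraMap R S)))) (s : S) :
    ∃ r : R, s - algebraMap R S r ∈ I.map (algebraMap R S) := by
  obtain ⟨z, hz⟩ := hq (Ideal.Quotient.mk _ s)
  obtain ⟨r, rfl⟩ := Ideal.Quotient.mk_surjective z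
  refine ⟨r, ?_⟩
  rw [← Ideal.Quotient.eq, ← hz]
  rfl

/-- the retraction `S ⊗ M → M` when `I M = 0`. -/
noncomputable def retr (I : Ideal R)
    (hq : Function.Bijective (algebraMap (R ⧸ I) (S ⧸ I.map (algebraMap R S))))
    (M : Type*) [AddCommGroup M] [Module R M] (h : ∀ a ∈ I, ∀ x : M, a • x = 0) :
    S ⊗[R] M →ₗ[R] M :=
  TensorProduct.lift
    ((Submodule.liftQ I (LinearMap.lsmul R M)
        (by intro a ha; rw [LinearMap.mem_ker]; ext x; exact h a ha x)) ∘ₗ
      (AlgEquiv.ofBijective (IsScalarTower.toAlgHom R (R ⧸ I) (S ⧸ I.map (algebraMap R S)))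
        hq).symm.toLinearMap ∘ₗ
      (Ideal.Quotient.mkₐ R (I.map (algebraMap R S))).toLinearMap)

lemma retr_one_tmul (I : Ideal R)
    (hq : Function.Bijective (algebraMap (R ⧸ I) (S ⧸ I.map (algebraMap R S))))
    (M : Type*) [AddCommGroup M] [Module R M] (h : ∀ a ∈ I, ∀ x : M, a • x = 0) (m : M) :
    retr I hq M h ((1 : S) ⊗ₜ[R] m) = m := by
  unfold retr
  rw [TensorProduct.lift.tmul]
  simp only [LinearMap.coe_comp, Function.comp_apply, AlgHom.toLinearMap_apply,
    AlgEquiv.toLinearMap_apply, map_one]
  have : (1 : R ⧸ I) = Submodule.Quotient.mk (p := I) (1 : R) := rfl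
  rw [this, Submodule.liftQ_apply, LinearMap.lsmul_apply, one_smul]

theorem bij_of_kill (I : Ideal R)
    (hq : Function.Bijective (algebraMap (R ⧸ I) (S ⧸ I.map (algebraMap R S))))
    (M : Type*) [AddCommGroup M] [Module R M] (h : ∀ a ∈ I, ∀ x : M, a • x = 0) :
    Function.Bijective (TensorProduct.mk R S M 1) := by
  constructor
  · intro x y hxy
    have := congrArg (retr I hq M h) hxy
    simpa only [TensorProduct.mk_apply, retr_one_tmul] using this
  · intro y
    induction y using TensorProduct.induction_on with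
    | zero => exact ⟨0, map_zero _⟩
    | tmul s m =>
      obtain ⟨r, hr⟩ := exists_sub_mem I hq.2 s
      refine ⟨r • m, ?_⟩
      have h0 := tmul_eq_zero_of_mem_map I h _ hr m
      rw [sub_tmul, sub_eq_zero] at h0
      rw [h0, TensorProduct.mk_apply, Algebra.algebraMap_eq_smul_one, TensorProduct.smul_tmul]
    | add x y hx hy =>
      obtain ⟨a, rfl⟩ := hx
      obtain ⟨b, rfl⟩ := hy
      exact ⟨a + b, map_add _ _ _⟩


lemma lTensor_mk {M N : Type*} [AddCommGroup M] [Module R M] [AddCommGroup N] [Module R N]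
    (f : M →ₗ[R] N) (x : M) :
    f.lTensor S (TensorProduct.mk R S M 1 x) = TensorProduct.mk R S N 1 (f x) := by
  rw [TensorProduct.mk_apply, LinearMap.lTensor_tmul, TensorProduct.mk_apply]

theorem bij_of_kill_pow [Module.Flat R S] (I : Ideal R)
    (hq : Function.Bijective (algebraMap (R ⧸ I) (S ⧸ I.map (algebraMap R S)))) :
    ∀ (n : ℕ) (M : Type u) [AddCommGroup M] [Module R M],
      (∀ a ∈ I ^ n, ∀ x : M, a • x = 0) → Function.Bijective (TensorProduct.mk R S M 1) := by
  intro n
  induction n with
  | zero =>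
    intro M _ _ h
    have hM : ∀ x : M, x = 0 := fun x => by
      have := h 1 (by rw [pow_zero, Ideal.one_eq_top]; exact Submodule.mem_top) x
      rwa [one_smul] at this
    constructor
    · intro x y _; rw [hM x, hM y]
    · intro y
      refine ⟨0, ?_⟩
      rw [map_zero]
      induction y using TensorProduct.induction_on with
      | zero => rfl
      | tmul s m => rw [hM m, tmul_zero]
      | add x y hx hy => rw [← hx, ← hy, add_zero]
  | succ n ih =>
    intro M _ _ h
    let N : Submodule R M := tors I 1 M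
    have hN : Function.Bijective (TensorProduct.mk R S N 1) := by
      apply bij_of_kill I hq
      intro a ha x
      apply Subtype.ext
      rw [Submodule.coe_smul, Submodule.coe_zero]
      exact x.2 a (by rwa [pow_one])
    have hQ : Function.Bijective (TensorProduct.mk R S (M ⧸ N) 1) := by
      apply ih
      intro a ha x
      obtain ⟨x, rfl⟩ := Submodule.Quotient.mk_surjective _ x
      rw [← Submodule.Quotient.mk_smul, Submodule.Quotient.mk_eq_zero]
      intro b hb
      rw [smul_smul]
      apply h
      rw [pow_one] at hb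
      rw [pow_succ']
      exact Ideal.mul_mem_mul hb ha
    have hex : Function.Exact (N.subtype.lTensor S) (N.mkQ.lTensor S) :=
      lTensor_exact S (LinearMap.exact_subtype_mkQ N) (Submodule.mkQ_surjective N)
    have hinj : Function.Injective (N.subtype.lTensor S) :=
      Module.Flat.lTensor_preserves_injective_linearMap N.subtype N.injective_subtype
    constructor
    · rw [injective_iff_map_eq_zero]
      intro x hx
      have h1 : TensorProduct.mk R S (M ⧸ N) 1 (N.mkQ x) = 0 := by
        rw [← lTensor_mk, hx, map_zero]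
      have h2 : N.mkQ x = 0 := by
        apply hQ.1
        rw [h1, map_zero]
      rw [Submodule.mkQ_apply, Submodule.Quotient.mk_eq_zero] at h2
      have h3 : N.subtype.lTensor S (TensorProduct.mk R S N 1 ⟨x, h2⟩) = 0 := by
        rw [lTensor_mk]
        exact hx
      have h4 : TensorProduct.mk R S N 1 ⟨x, h2⟩ = 0 := by
        apply hinj
        rw [h3, map_zero]
      have h5 : (⟨x, h2⟩ : N) = 0 := by
        apply hN.1
        rw [h4, map_zero]
      exact congrArg Subtype.val h5
    · intro y
      obtain ⟨xq, hxq⟩ := hQ.2 (N.mkQ.lTensor S y)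
      obtain ⟨x, rfl⟩ := Submodule.mkQ_surjective N xq
      have h1 : N.mkQ.lTensor S (y - TensorProduct.mk R S M 1 x) = 0 := by
        rw [map_sub, lTensor_mk, hxq, sub_self]
      obtain ⟨z, hz⟩ := (hex _).mp h1
      obtain ⟨w, rfl⟩ := hN.2 z
      refine ⟨x + w.1, ?_⟩
      rw [map_add]
      rw [lTensor_mk] at hz
      rw [Submodule.subtype_apply] at hz
      rw [hz]
      abel

/-- `ι` is injective on `I`-power torsion elements. -/
theorem eq_zero_of_mk_eq_zero [Module.Flat R S] (I : Ideal R)
    (hq : Function.Bijective (algebraMap (R ⧸ I) (S ⧸ I.map (algebraMap R S))))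
    (M : Type u) [AddCommGroup M] [Module R M] (x : M) (hx : x ∈ torsAll I M)
    (h0 : TensorProduct.mk R S M 1 x = 0) : x = 0 := by
  obtain ⟨n, hn⟩ := hx
  let N : Submodule R M := tors I n M
  have hN : Function.Bijective (TensorProduct.mk R S N 1) := by
    apply bij_of_kill_pow I hq n
    intro a ha y
    apply Subtype.ext
    rw [Submodule.coe_smul, Submodule.coe_zero]
    exact y.2 a ha
  have hinj : Function.Injective (N.subtype.lTensor S) :=
    Module.Flat.lTensor_preserves_injective_linearMap N.subtype N.injective_subtype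
  have h3 : N.subtype.lTensor S (TensorProduct.mk R S N 1 ⟨x, hn⟩) = 0 := by
    rw [lTensor_mk]
    exact h0
  have h4 : TensorProduct.mk R S N 1 ⟨x, hn⟩ = 0 := by
    apply hinj
    rw [h3, map_zero]
  have h5 : (⟨x, hn⟩ : N) = 0 := by
    apply hN.1
    rw [h4, map_zero]
  exact congrArg Subtype.val h5

theorem bij_of_tors [Module.Flat R S] (I : Ideal R)
    (hq : Function.Bijective (algebraMap (R ⧸ I) (S ⧸ I.map (algebraMap R S))))
    (M : Type u) [AddCommGroup M] [Module R M] (h : ∀ x : M, x ∈ torsAll I M) :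
    Function.Bijective (TensorProduct.mk R S M 1) := by
  constructor
  · rw [injective_iff_map_eq_zero]
    intro x hx
    exact eq_zero_of_mk_eq_zero I hq M x (h x) hx
  · intro y
    induction y using TensorProduct.induction_on with
    | zero => exact ⟨0, map_zero _⟩
    | tmul s m =>
      obtain ⟨n, hn⟩ := h m
      let N : Submodule R M := tors I n M
      have hN : Function.Bijective (TensorProduct.mk R S N 1) := by
        apply bij_of_kill_pow I hq n
        intro a ha y
        apply Subtype.ext
        rw [Submodule.coe_smul, Submodule.coe_zero]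
        exact y.2 a ha
      obtain ⟨w, hw⟩ := hN.2 (s ⊗ₜ[R] (⟨m, hn⟩ : N))
      refine ⟨w.1, ?_⟩
      have := congrArg (N.subtype.lTensor S) hw
      rw [lTensor_mk, LinearMap.lTensor_tmul] at this
      exact this
    | add x y hx hy =>
      obtain ⟨a, rfl⟩ := hx
      obtain ⟨b, rfl⟩ := hy
      exact ⟨a + b, map_add _ _ _⟩


/-- an element of `S ⊗ N` killed by `I ^ n` comes from a unique element of `N` killed by `I ^ n`. -/
theorem exists_of_kill [Module.Flat R S] (I : Ideal R) (hI : I.FG)
    (hq : Function.Bijective (algebraMap (R ⧸ I) (S ⧸ I.map (algebraMap R S))))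
    (N : Type u) [AddCommGroup N] [Module R N] (n : ℕ) (y : S ⊗[R] N)
    (hy : ∀ a ∈ I ^ n, a • y = 0) :
    ∃ x ∈ tors I n N, TensorProduct.mk R S N 1 x = y := by
  classical
  have hfg : (I ^ n).FG := Ideal.FG.pow hI
  obtain ⟨r, g, hg⟩ := Submodule.fg_iff_exists_fin_generating_family.mp hfg
  let φ : N →ₗ[R] (Fin r → N) := LinearMap.pi (fun i => LinearMap.lsmul R N (g i))
  let T : Submodule R N := tors I n N
  have hgi : ∀ i, g i ∈ I ^ n := fun i => by
    rw [← hg]; exact Submodule.subset_span ⟨i, rfl⟩
  have hexact : Function.Exact T.subtype φ := by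
    intro x
    constructor
    · intro hx
      refine ⟨⟨x, ?_⟩, rfl⟩
      intro a ha
      rw [← hg] at ha
      refine Submodule.span_induction (p := fun a _ => a • x = 0) ?_ ?_ ?_ ?_ ha
      · rintro _ ⟨i, rfl⟩
        exact congrFun hx i
      · exact zero_smul _ _
      · intro a b _ _ ha hb; rw [add_smul, ha, hb, add_zero]
      · intro c a _ ha; rw [smul_eq_mul, mul_smul, ha, smul_zero]
    · rintro ⟨x, rfl⟩
      ext i
      exact x.2 (g i) (hgi i)
  have hex2 := Module.Flat.lTensor_exact S hexact
  have key : ∀ z : S ⊗[R] N,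
      TensorProduct.piRightHom R S S (fun _ : Fin r => N) (φ.lTensor S z) = fun i => g i • z := by
    intro z
    induction z using TensorProduct.induction_on with
    | zero =>
      rw [map_zero, map_zero]
      ext i
      rw [smul_zero]
      rfl
    | tmul s m =>
      rw [LinearMap.lTensor_tmul, TensorProduct.piRightHom_tmul]
      ext i
      rw [TensorProduct.smul_tmul', TensorProduct.smul_tmul]
      rfl
    | add x y hx hy =>
      rw [map_add, map_add, hx, hy]
      ext i
      rw [smul_add]
      rfl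
  have h0 : φ.lTensor S y = 0 := by
    apply (TensorProduct.piRight R S S (fun _ : Fin r => N)).injective
    rw [TensorProduct.piRight_apply, key, map_zero]
    ext i
    exact hy (g i) (hgi i)
  obtain ⟨z, hz⟩ := (hex2 y).mp h0
  have hT : Function.Bijective (TensorProduct.mk R S T 1) := by
    apply bij_of_kill_pow I hq n
    intro a ha w
    apply Subtype.ext
    rw [Submodule.coe_smul, Submodule.coe_zero]
    exact w.2 a ha
  obtain ⟨w, rfl⟩ := hT.2 z
  refine ⟨w.1, w.2, ?_⟩
  rw [← hz, lTensor_mk]
  rfl

theorem baseChange_eq_of_comp {M N : Type u} [AddCommGroup M] [Module R M] [AddCommGroup N]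
    [Module R N] (f : M →ₗ[R] N) (G : S ⊗[R] M →ₗ[S] S ⊗[R] N)
    (h : ∀ m : M, G ((1 : S) ⊗ₜ[R] m) = (1 : S) ⊗ₜ[R] f m) : LinearMap.baseChange S f = G := by
  apply TensorProduct.AlgebraTensorModule.ext
  intro s m
  rw [LinearMap.baseChange_tmul]
  have : s ⊗ₜ[R] m = s • ((1 : S) ⊗ₜ[R] m) := by
    rw [TensorProduct.smul_tmul', smul_eq_mul, mul_one]
  rw [this, map_smul, h, TensorProduct.smul_tmul', smul_eq_mul, mul_one]

theorem main [Module.Flat R S] {M N : Type u} (I : Ideal R) (hI : I.FG)
    (hq : Function.Bijective (algebraMap (R ⧸ I) (S ⧸ I.map (algebraMap R S))))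
    [AddCommGroup M] [Module R M] [AddCommGroup N] [Module R N]
    (hMN : (∀ x : M, ∃ n : ℕ, ∀ a ∈ I ^ n, a • x = 0) ∨ (∀ y : N, ∃ n : ℕ, ∀ a ∈ I ^ n, a • y = 0)) :
    Function.Bijective (fun f : M →ₗ[R] N => LinearMap.baseChange S f) := by
  -- images of torsion elements are torsion
  have himg : ∀ {P Q : Type u} [AddCommGroup P] [Module R P] [AddCommGroup Q] [Module R Q]
      (f : P →ₗ[R] Q) (x : P), x ∈ torsAll I P → f x ∈ torsAll I Q := by
    intro P Q _ _ _ _ f x hx
    obtain ⟨n, hn⟩ := hx
    exact ⟨n, fun a ha => by rw [← map_smul, hn a ha, map_zero]⟩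
  constructor
  · -- injectivity
    intro f f' hff'
    have hff : ∀ m : M, TensorProduct.mk R S N 1 (f m - f' m) = 0 := by
      intro m
      have := LinearMap.congr_fun hff' ((1 : S) ⊗ₜ[R] m)
      simp only [LinearMap.baseChange_tmul] at this
      rw [map_sub, TensorProduct.mk_apply, TensorProduct.mk_apply, this, sub_self]
    ext m
    rw [← sub_eq_zero]
    apply eq_zero_of_mk_eq_zero I hq N _ _ (hff m)
    rcases hMN with hM | hN
    · have := himg (f - f') m (hM m)
      rwa [LinearMap.sub_apply] at this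
    · exact hN _
  · -- surjectivity
    intro G
    let g : M →ₗ[R] S ⊗[R] N := (G.restrictScalars R) ∘ₗ (TensorProduct.mk R S M 1)
    have hex : ∀ m : M, ∃ x : N, x ∈ torsAll I N ∧ TensorProduct.mk R S N 1 x = g m := by
      rcases hMN with hM | hN
      · intro m
        obtain ⟨n, hn⟩ := hM m
        obtain ⟨x, hx, hx2⟩ := exists_of_kill I hI hq N n (g m) (fun a ha => by
          rw [← map_smul, hn a ha, map_zero])
        exact ⟨x, ⟨n, hx⟩, hx2⟩
      · intro m
        obtain ⟨x, hx⟩ := (bij_of_tors I hq N hN).2 (g m)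
        exact ⟨x, hN x, hx⟩
    have huniq : ∀ x x' : N, x ∈ torsAll I N → x' ∈ torsAll I N →
        TensorProduct.mk R S N 1 x = TensorProduct.mk R S N 1 x' → x = x' := by
      intro x x' hx hx' h
      rw [← sub_eq_zero]
      apply eq_zero_of_mk_eq_zero I hq N _ ((torsAll I N).sub_mem hx hx')
      rw [map_sub, h, sub_self]
    let f : M →ₗ[R] N :=
      { toFun := fun m => (hex m).choose
        map_add' := by
          intro m m'
          apply huniq _ _ (hex (m + m')).choose_spec.1
            ((torsAll I N).add_mem (hex m).choose_spec.1 (hex m').choose_spec.1)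
          rw [(hex (m + m')).choose_spec.2, map_add, map_add, (hex m).choose_spec.2,
            (hex m').choose_spec.2]
        map_smul' := by
          intro r m
          apply huniq _ _ (hex (r • m)).choose_spec.1
            ((torsAll I N).smul_mem r (hex m).choose_spec.1)
          rw [(hex (r • m)).choose_spec.2, map_smul, map_smul,
            (hex m).choose_spec.2] }
    refine ⟨f, ?_⟩
    apply baseChange_eq_of_comp
    intro m
    have := (hex m).choose_spec.2
    rw [TensorProduct.mk_apply] at this
    exact this.symm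

end Groth.Agent.Lib.Helper8PowTors
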