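import Groth.Agent.Lib.Helper8LC2
import Groth.Agent.Lib.Helper8KoszLim4

/-!
# Sections over the punctured spectrum and `H^1_I` (helper8)

For a finite family `fs : Fin r → R` generating the ideal `I` of a Noetherian ring, the module `Z` of compatible
families in `∏ M_{fs j}` receives `M`, and the cokernel of `M → Z` is `H^1_I(M)`.
-/

set_option autoImplicit false
universe u
open CategoryTheory CategoryTheory.Limits Opposite

namespace Groth.Agent.Lib.Helper8.Punc

open Groth.Agent.Lib.Helper8.LC Groth.Agent.Lib.Helper8.DT LocCoh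

variable {R : Type u} [CommRing R]

/-- abstract criterion: `M → Z` with torsion kernel and cokernel, `Z → D_I(Z)` bijective. -/
theorem nonempty_coker_equiv [IsNoetherianRing R] (I : Ideal R) {M Z : Type u} [AddCommGroup M]
    [Module R M] [AddCommGroup Z] [Module R Z] (η : M →ₗ[R] Z)
    (hker : LinearMap.ker η ≤ DRing.torsionSub I M)
    (hcoker : IsPowerTorsion I (Z ⧸ LinearMap.range η))
    (hZ : Function.Bijective (toDT I Z)) :
    Nonempty ((Z ⧸ LinearMap.range η) ≃ₗ[R] (localCohomology I 1).obj (ModuleCat.of R M)) := by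
  obtain ⟨e0⟩ := nonempty_coker_toDT_equiv I M
  let e1 : Z ≃ₗ[R] DT I Z := LinearEquiv.ofBijective (toDT I Z) hZ
  let e2 : DT I M ≃ₗ[R] DT I Z :=
    LinearEquiv.ofBijective ((idealTransform I).map (ModuleCat.ofHom η)).hom
      (map_bijective_of_torsion I η hker hcoker)
  let θ : Z ≃ₗ[R] DT I M := e1.trans e2.symm
  have hθ : ∀ m : M, θ (η m) = toDT I M m := by
    intro m
    change e2.symm (e1 (η m)) = _
    rw [LinearEquiv.symm_apply_eq]
    change toDT I Z (η m) = ((idealTransform I).map (ModuleCat.ofHom η)).hom (toDT I M m)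
    rw [map_toDT]
  have hmap : (LinearMap.range η).map (θ : Z →ₗ[R] DT I M) = LinearMap.range (toDT I M) := by
    ext y
    constructor
    · rintro ⟨z, ⟨m, rfl⟩, rfl⟩
      exact ⟨m, (hθ m).symm⟩
    · rintro ⟨m, rfl⟩
      exact ⟨η m, ⟨m, rfl⟩, hθ m⟩
  exact ⟨(Submodule.Quotient.equiv _ _ θ hmap).trans e0⟩


/-! ### change of localization -/

section Chg

variable (M : Type u) [AddCommGroup M] [Module R M]

/-- the canonical map `M_S → M_T` for `S ≤ T`. -/
noncomputable def chg {S T : Submonoid R} (h : S ≤ T) :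
    LocalizedModule S M →ₗ[R] LocalizedModule T M :=
  LocalizedModule.lift S (LocalizedModule.mkLinearMap T M)
    (fun s => IsLocalizedModule.map_units (LocalizedModule.mkLinearMap T M) ⟨s.1, h s.2⟩)

theorem chg_mk {S T : Submonoid R} (h : S ≤ T) (m : M) (s : S) :
    chg M h (LocalizedModule.mk m s) = LocalizedModule.mk m ⟨s.1, h s.2⟩ := by
  unfold chg
  rw [LocalizedModule.lift_mk, Module.End.algebraMap_isUnit_inv_apply_eq_iff,
    LocalizedModule.mkLinearMap_apply]
  change LocalizedModule.mk m 1 = (s : R) • LocalizedModule.mk m (⟨s.1, h s.2⟩ : T)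
  rw [LocalizedModule.smul'_mk]
  exact (LocalizedModule.mk_cancel (⟨s.1, h s.2⟩ : T) m).symm

theorem chg_chg {S T U : Submonoid R} (h : S ≤ T) (h' : T ≤ U) (q : LocalizedModule S M) :
    chg M h' (chg M h q) = chg M (h.trans h') q := by
  induction q using LocalizedModule.induction_on with
  | h m s => rw [chg_mk, chg_mk, chg_mk]

/-- an element of `T` acts injectively on `M_T`. -/
theorem smul_inj_of_mem {T : Submonoid R} {t : R} (ht : t ∈ T) {a b : LocalizedModule T M}
    (h : t • a = t • b) : a = b :=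
  IsLocalizedModule.smul_injective (LocalizedModule.mkLinearMap T M) (⟨t, ht⟩ : T) h

theorem mk_eq_zero_iff {T : Submonoid R} (m : M) (s : T) :
    (LocalizedModule.mk m s : LocalizedModule T M) = 0 ↔ ∃ u : T, (u : R) • m = 0 := by
  rw [← LocalizedModule.zero_mk s, LocalizedModule.mk_eq]
  constructor
  · rintro ⟨u, hu⟩
    refine ⟨u * s, ?_⟩
    rw [smul_zero, smul_zero] at hu
    rw [Submonoid.coe_mul, mul_smul]
    exact hu
  · rintro ⟨u, hu⟩
    refine ⟨u, ?_⟩
    rw [smul_zero, smul_zero, Submonoid.smul_def, Submonoid.smul_def, smul_comm, hu, smul_zero]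

theorem pmem (f : R) (k : ℕ) : f ^ k ∈ Submonoid.powers f := ⟨k, rfl⟩

theorem mem_powers_iff (f : R) (s : Submonoid.powers f) : ∃ k : ℕ, (s : R) = f ^ k := by
  obtain ⟨k, hk⟩ := s.2
  exact ⟨k, hk.symm⟩

theorem exists_rep_powers (f : R) (q : LocalizedModule (Submonoid.powers f) M) :
    ∃ (m : M) (k : ℕ), q = LocalizedModule.mk m ⟨f ^ k, pmem f k⟩ := by
  induction q using LocalizedModule.induction_on with
  | h m s =>
    obtain ⟨k, hk⟩ := s.2
    refine ⟨m, k, ?_⟩
    congr 1
    exact Subtype.ext hk.symm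

/-- inverse of the action of `s ∈ S` on `M_S`. -/
noncomputable def inv {S : Submonoid R} (s : S) : Module.End R (LocalizedModule S M) :=
  (IsLocalizedModule.map_units (LocalizedModule.mkLinearMap S M) s).unit⁻¹.val

theorem inv_eq_iff {S : Submonoid R} (s : S) (x y : LocalizedModule S M) :
    inv M s x = y ↔ x = (s : R) • y :=
  Module.End.algebraMap_isUnit_inv_apply_eq_iff _ _ _ _

end Chg

/-! ### the module of compatible families -/

section Z

variable {r : ℕ} (fs : Fin r → R) (M : Type u) [AddCommGroup M] [Module R M]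

abbrev Sp (j : Fin r) : Submonoid R := Submonoid.powers (fs j)

abbrev Tp (i j : Fin r) : Submonoid R := Submonoid.powers (fs i) ⊔ Submonoid.powers (fs j)

theorem Sp_le_left (i j : Fin r) : Sp fs i ≤ Tp fs i j := le_sup_left

theorem Sp_le_right (i j : Fin r) : Sp fs j ≤ Tp fs i j := le_sup_right

/-- compatible families in `∏ M_{f_j}`. -/
def Z : Submodule R (∀ j : Fin r, LocalizedModule (Sp fs j) M) where
  carrier := {z | ∀ i j, chg M (Sp_le_left fs i j) (z i) = chg M (Sp_le_right fs i j) (z j)}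
  zero_mem' := fun i j => by simp
  add_mem' := fun {a b} ha hb i j => by
    rw [Pi.add_apply, Pi.add_apply, map_add, map_add, ha i j, hb i j]
  smul_mem' := fun c {a} ha i j => by
    rw [Pi.smul_apply, Pi.smul_apply, map_smul, map_smul, ha i j]

/-- the canonical map `M → Z`. -/
noncomputable def η : M →ₗ[R] Z fs M :=
  LinearMap.codRestrict (Z fs M) (LinearMap.pi fun j => LocalizedModule.mkLinearMap (Sp fs j) M)
    (fun m i j => by
      change chg M (Sp_le_left fs i j) (LocalizedModule.mk m 1) =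
        chg M (Sp_le_right fs i j) (LocalizedModule.mk m 1)
      rw [chg_mk, chg_mk]
      rfl)

theorem η_apply (m : M) (j : Fin r) : (η fs M m).1 j = LocalizedModule.mk m 1 := rfl

theorem span_ofFn : Ideal.span {a | a ∈ List.ofFn fs} = Ideal.span (Set.range fs) := by
  congr 1
  ext a
  simp [List.mem_ofFn]

variable [IsNoetherianRing R]

theorem mem_torsionSub_of_forall (N : Type u) [AddCommGroup N] [Module R N] (x : N)
    (h : ∀ j : Fin r, ∃ n : ℕ, fs j ^ n • x = 0) :
    x ∈ DRing.torsionSub (Ideal.span (Set.range fs)) N := by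
  rw [← span_ofFn]
  refine (Groth.Agent.Lib.Helper8KoszLim.torsion_iff (List.ofFn fs) (ModuleCat.of R N) x).mpr ?_
  choose e he using h
  refine ⟨Finset.univ.sup e, fun g hg => ?_⟩
  obtain ⟨j, rfl⟩ := (List.mem_ofFn).mp hg
  have hle : e j ≤ Finset.univ.sup e := Finset.le_sup (Finset.mem_univ j)
  obtain ⟨c, hc⟩ := Nat.exists_eq_add_of_le hle
  rw [hc, pow_add, mul_comm, mul_smul, he j, smul_zero]

theorem ker_η_le : LinearMap.ker (η fs M) ≤ DRing.torsionSub (Ideal.span (Set.range fs)) M := by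
  intro m hm
  rw [LinearMap.mem_ker] at hm
  refine mem_torsionSub_of_forall fs M m (fun j => ?_)
  have h1 : (LocalizedModule.mk m 1 : LocalizedModule (Sp fs j) M) = 0 := by
    rw [← η_apply, hm]
    rfl
  obtain ⟨u, hu⟩ := (mk_eq_zero_iff M m 1).mp h1
  obtain ⟨k, hk⟩ := mem_powers_iff (fs j) u
  exact ⟨k, by rw [← hk]; exact hu⟩

theorem torsionSub_Z_eq_bot : DRing.torsionSub (Ideal.span (Set.range fs)) (Z fs M) = ⊥ := by
  rw [eq_bot_iff]
  rintro z ⟨n, hn⟩
  rw [Submodule.mem_bot]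
  apply Subtype.ext
  funext j
  have h1 := hn (fs j ^ n) (Ideal.pow_mem_pow (Ideal.subset_span (Set.mem_range_self j)) n)
  have h2 : (fs j ^ n) • z.1 j = (fs j ^ n) • (0 : LocalizedModule (Sp fs j) M) := by
    rw [smul_zero]
    exact congrFun (congrArg Subtype.val h1) j
  exact smul_inj_of_mem M (T := Sp fs j) (t := fs j ^ n) (pmem (fs j) n) h2

theorem isPowerTorsion_coker_η :
    IsPowerTorsion (Ideal.span (Set.range fs)) (Z fs M ⧸ LinearMap.range (η fs M)) := by
  intro y
  obtain ⟨z, rfl⟩ := Submodule.Quotient.mk_surjective _ y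
  refine mem_torsionSub_of_forall fs (Z fs M ⧸ LinearMap.range (η fs M)) _ (fun j => ?_)
  choose m k hmk using fun i => exists_rep_powers M (fs i) (z.1 i)
  -- compatibility equations
  have hcompat : ∀ i, ∃ a b : ℕ, (fs i ^ a * fs j ^ b * fs j ^ k j) • m i =
      (fs i ^ a * fs j ^ b * fs i ^ k i) • m j := by
    intro i
    have h1 := z.2 i j
    rw [hmk i, hmk j, chg_mk, chg_mk, LocalizedModule.mk_eq] at h1
    obtain ⟨u, hu⟩ := h1
    obtain ⟨p, ⟨a, rfl⟩, q, ⟨b, rfl⟩, hpq⟩ := Submonoid.mem_sup.mp u.2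
    refine ⟨a, b, ?_⟩
    simp only [Submonoid.smul_def, ← mul_smul] at hu
    rw [← hpq] at hu
    exact hu
  choose a b hab using hcompat
  let B : ℕ := Finset.univ.sup b
  refine ⟨k j + B, ?_⟩
  rw [← Submodule.Quotient.mk_smul, Submodule.Quotient.mk_eq_zero]
  refine ⟨fs j ^ B • m j, ?_⟩
  apply Subtype.ext
  funext i
  rw [η_apply]
  change _ = fs j ^ (k j + B) • z.1 i
  rw [hmk i, LocalizedModule.smul'_mk, LocalizedModule.mk_eq]
  refine ⟨⟨fs i ^ a i, pmem (fs i) (a i)⟩, ?_⟩
  simp only [Submonoid.smul_def, ← mul_smul, Submonoid.coe_one, one_mul]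
  have hle : b i ≤ B := Finset.le_sup (f := b) (Finset.mem_univ i)
  obtain ⟨e, he⟩ := Nat.exists_eq_add_of_le hle
  have e1 : fs i ^ a i * (fs i ^ k i * fs j ^ B) = fs j ^ e * (fs i ^ a i * fs j ^ b i * fs i ^ k i) := by
    rw [he]; ring
  have e2 : fs i ^ a i * fs j ^ (k j + B) = fs j ^ e * (fs i ^ a i * fs j ^ b i * fs j ^ k j) := by
    rw [he]; ring
  rw [e1, e2, mul_smul, mul_smul (fs j ^ e), hab i]

theorem toDT_Z_surjective (I : Ideal R) (hfs : ∀ i, fs i ∈ I) :
    Function.Surjective (toDT I (Z fs M)) := by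
  intro x
  obtain ⟨n, φ, rfl⟩ := exists_rep I (Z fs M) x
  let p : ∀ i : Fin r, ↥(I ^ n) := fun i => ⟨fs i ^ n, Ideal.pow_mem_pow (hfs i) n⟩
  let zi : ∀ i : Fin r, LocalizedModule (Sp fs i) M := fun i =>
    inv M (⟨fs i ^ n, pmem (fs i) n⟩ : Sp fs i) ((φ (p i)).1 i)
  have hz1 : ∀ i, (φ (p i)).1 i = fs i ^ n • zi i := fun i =>
    (inv_eq_iff M (⟨fs i ^ n, pmem (fs i) n⟩ : Sp fs i) _ _).mp rfl
  have hlin : ∀ (c : ↥(I ^ n)) (i : Fin r), fs i ^ n • φ c = (c : R) • φ (p i) := by
    intro c i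
    rw [← map_smul, ← map_smul]
    congr 1
    apply Subtype.ext
    change fs i ^ n * (c : R) = (c : R) * fs i ^ n
    exact mul_comm _ _
  have hcomp : ∀ (c : ↥(I ^ n)) (i : Fin r), (φ c).1 i = (c : R) • zi i := by
    intro c i
    apply smul_inj_of_mem M (T := Sp fs i) (t := fs i ^ n) (pmem (fs i) n)
    have h1 := congrFun (congrArg Subtype.val (hlin c i)) i
    change fs i ^ n • (φ c).1 i = (c : R) • (φ (p i)).1 i at h1
    rw [h1, hz1 i, smul_comm]
  have hmem : zi ∈ Z fs M := by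
    intro i j
    apply smul_inj_of_mem M (T := Tp fs i j) (t := fs j ^ n) (Sp_le_right fs i j (pmem (fs j) n))
    have h2 : fs j ^ n • zi i = (φ (p j)).1 i := (hcomp (p j) i).symm
    calc fs j ^ n • chg M (Sp_le_left fs i j) (zi i)
        = chg M (Sp_le_left fs i j) (fs j ^ n • zi i) := (map_smul _ _ _).symm
      _ = chg M (Sp_le_left fs i j) ((φ (p j)).1 i) := by rw [h2]
      _ = chg M (Sp_le_right fs i j) ((φ (p j)).1 j) := (φ (p j)).2 i j
      _ = chg M (Sp_le_right fs i j) (fs j ^ n • zi j) := by rw [hz1 j]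
      _ = fs j ^ n • chg M (Sp_le_right fs i j) (zi j) := map_smul _ _ _
  refine ⟨⟨zi, hmem⟩, ?_⟩
  rw [toDT_eq' I _ _ n]
  congr 1
  apply LinearMap.ext
  intro c
  apply Subtype.ext
  funext i
  exact (hcomp c i).symm

theorem toDT_Z_bijective :
    Function.Bijective (toDT (Ideal.span (Set.range fs)) (Z fs M)) := by
  refine ⟨?_, toDT_Z_surjective fs M _ (fun i => Ideal.subset_span (Set.mem_range_self i))⟩
  rw [← LinearMap.ker_eq_bot, ker_toDT]
  exact torsionSub_Z_eq_bot fs M

/-- the cokernel of `M → Z` is `H^1_I(M)`. -/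
theorem nonempty_coker_η_equiv :
    Nonempty ((Z fs M ⧸ LinearMap.range (η fs M)) ≃ₗ[R]
      (localCohomology (Ideal.span (Set.range fs)) 1).obj (ModuleCat.of R M)) :=
  nonempty_coker_equiv _ (η fs M) (ker_η_le fs M) (isPowerTorsion_coker_η fs M)
    (toDT_Z_bijective fs M)

end Z

end Groth.Agent.Lib.Helper8.Punc
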