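import Groth.Agent.Lib.Helper8PuncA
import Groth.Agent.Lib.Helper2GrModBridge

/-!
# Homogeneous fractions in `M_f` for a graded module (helper8)
-/

set_option autoImplicit false
universe u
open CategoryTheory CategoryTheory.Limits Opposite

namespace Groth.Agent.Lib.Helper8.Punc

variable {R σ : Type u} [CommRing R] [SetLike σ R] [AddSubgroupClass σ R] (𝒜 : ℕ → σ) [GradedRing 𝒜]
variable {M τ : Type u} [AddCommGroup M] [Module R M] [SetLike τ M] [AddSubgroupClass τ M]
  (ℳ : ℕ → τ) [SetLike.GradedSMul 𝒜 ℳ] [DirectSum.Decomposition ℳ]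

omit [DirectSum.Decomposition ℳ] in
theorem pow_smul_mem {f : R} {d : ℕ} (hf : f ∈ 𝒜 d) (k : ℕ) {i : ℕ} {m : M} (hm : m ∈ ℳ i) :
    f ^ k • m ∈ ℳ (k * d + i) := by
  have h1 : f ^ k ∈ 𝒜 (k • d) := SetLike.pow_mem_graded k hf
  have h2 := SetLike.GradedSMul.smul_mem (A := 𝒜) (B := ℳ) h1 hm
  rwa [vadd_eq_add, smul_eq_mul] at h2

/-- the component of `a • μ` for homogeneous `a`. -/
theorem decompose_smul_left {e : ℕ} {a : R} (ha : a ∈ 𝒜 e) (μ : M) (E : ℕ) :
    (DirectSum.decompose ℳ (a • μ) E : M) =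
      if e ≤ E then a • (DirectSum.decompose ℳ μ (E - e) : M) else 0 := by
  classical
  induction μ using DirectSum.Decomposition.inductionOn ℳ with
  | zero => simp
  | @homogeneous l μ =>
    have hμ : a • (μ : M) ∈ ℳ (e + l) := SetLike.GradedSMul.smul_mem ha μ.2
    by_cases hE : e + l = E
    · subst hE
      rw [DirectSum.decompose_of_mem_same ℳ hμ, if_pos (Nat.le_add_right e l),
        Nat.add_sub_cancel_left, DirectSum.decompose_of_mem_same ℳ μ.2]
    · rw [DirectSum.decompose_of_mem_ne ℳ hμ hE]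
      split_ifs with h
      · have hne : l ≠ E - e := fun h' => hE (by omega)
        rw [DirectSum.decompose_of_mem_ne ℳ μ.2 hne, smul_zero]
      · rfl
  | add x y hx hy =>
    rw [smul_add, DirectSum.decompose_add, DirectSum.add_apply, AddMemClass.coe_add, hx, hy]
    split_ifs
    · rw [DirectSum.decompose_add, DirectSum.add_apply, AddMemClass.coe_add, smul_add]
    · rw [add_zero]


section Hom

variable (f : R) (d : ℕ)

/-- `q ∈ M_f` is a homogeneous fraction of degree `n` (or zero). -/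
def IsHomFrac (n : ℤ) (q : LocalizedModule (Submonoid.powers f) M) : Prop :=
  ∃ (k i : ℕ) (m : M), m ∈ ℳ i ∧ ((i : ℤ) = k * d + n ∨ m = 0) ∧
    q = LocalizedModule.mk m ⟨f ^ k, pmem f k⟩

omit [SetLike.GradedSMul 𝒜 ℳ] [DirectSum.Decomposition ℳ] in
theorem IsHomFrac.zero (n : ℤ) : IsHomFrac ℳ f d n 0 :=
  ⟨0, 0, 0, zero_mem _, Or.inr rfl, (LocalizedModule.zero_mk _).symm⟩

omit [SetLike.GradedSMul 𝒜 ℳ] [DirectSum.Decomposition ℳ] in
theorem IsHomFrac.neg {n : ℤ} {q : LocalizedModule (Submonoid.powers f) M}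
    (h : IsHomFrac ℳ f d n q) : IsHomFrac ℳ f d n (-q) := by
  obtain ⟨k, i, m, hm, hdeg, rfl⟩ := h
  refine ⟨k, i, -m, neg_mem hm, ?_, LocalizedModule.mk_neg.symm⟩
  rcases hdeg with h | h
  · exact Or.inl h
  · exact Or.inr (by rw [h, neg_zero])

variable {f d}

omit [DirectSum.Decomposition ℳ] in
theorem IsHomFrac.add (hf : f ∈ 𝒜 d) {n : ℤ} {q q' : LocalizedModule (Submonoid.powers f) M}
    (h : IsHomFrac ℳ f d n q) (h' : IsHomFrac ℳ f d n q') : IsHomFrac ℳ f d n (q + q') := by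
  obtain ⟨k, i, m, hm, hdeg, rfl⟩ := h
  obtain ⟨k', i', m', hm', hdeg', rfl⟩ := h'
  rw [LocalizedModule.mk_add_mk]
  have hden : ((⟨f ^ k, pmem f k⟩ : Submonoid.powers f) * ⟨f ^ k', pmem f k'⟩) =
      ⟨f ^ (k + k'), pmem f (k + k')⟩ := Subtype.ext (pow_add f k k').symm
  rw [hden]
  simp only [Submonoid.smul_def]
  have h1 : f ^ k' • m ∈ ℳ (k' * d + i) := pow_smul_mem 𝒜 ℳ hf k' hm
  have h2 : f ^ k • m' ∈ ℳ (k * d + i') := pow_smul_mem 𝒜 ℳ hf k hm'
  rcases hdeg with hdeg | rfl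
  · rcases hdeg' with hdeg' | rfl
    · have hidx : k * d + i' = k' * d + i := by
        have : ((k * d + i' : ℕ) : ℤ) = ((k' * d + i : ℕ) : ℤ) := by
          push_cast; rw [hdeg, hdeg']; ring
        exact_mod_cast this
      rw [hidx] at h2
      refine ⟨k + k', k' * d + i, _, add_mem h1 h2, Or.inl ?_, rfl⟩
      push_cast; rw [hdeg]; ring
    · refine ⟨k + k', k' * d + i, _, ?_, Or.inl ?_, rfl⟩
      · rw [smul_zero, add_zero]; exact h1
      · push_cast; rw [hdeg]; ring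
  · rcases hdeg' with hdeg' | rfl
    · refine ⟨k + k', k * d + i', _, ?_, Or.inl ?_, rfl⟩
      · rw [smul_zero, zero_add]; exact h2
      · push_cast; rw [hdeg']; ring
    · refine ⟨k + k', 0, _, ?_, Or.inr ?_, rfl⟩
      · rw [smul_zero, smul_zero, add_zero]; exact zero_mem _
      · rw [smul_zero, smul_zero, add_zero]

omit [DirectSum.Decomposition ℳ] in
theorem IsHomFrac.sub (hf : f ∈ 𝒜 d) {n : ℤ} {q q' : LocalizedModule (Submonoid.powers f) M}
    (h : IsHomFrac ℳ f d n q) (h' : IsHomFrac ℳ f d n q') : IsHomFrac ℳ f d n (q - q') := by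
  rw [sub_eq_add_neg]
  exact h.add 𝒜 ℳ hf (h'.neg ℳ f d)

theorem powers_le_primeCompl {x : ProjectiveSpectrum 𝒜} (hx : f ∉ x.asHomogeneousIdeal) :
    Submonoid.powers f ≤ x.asHomogeneousIdeal.toIdeal.primeCompl :=
  (Submonoid.powers_le).mpr hx

/-- a homogeneous fraction vanishing at all points of `D₊(f)` is zero. -/
theorem IsHomFrac.eq_zero (hd : 0 < d) (hf : f ∈ 𝒜 d) {n : ℤ}
    {q : LocalizedModule (Submonoid.powers f) M} (h : IsHomFrac ℳ f d n q)
    (hloc : ∀ (x : ProjectiveSpectrum 𝒜) (hx : f ∉ x.asHomogeneousIdeal),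
      chg M (powers_le_primeCompl 𝒜 hx) q = 0) : q = 0 := by
  obtain ⟨k, i, m, hm, -, rfl⟩ := h
  obtain ⟨N, hN⟩ := Groth.Agent.Lib.Helper2GrModSect.exists_pow_smul_eq_zero 𝒜 ℳ hd hf hm
    (fun y hy => by
      have h1 := hloc y hy
      rw [chg_mk] at h1
      obtain ⟨u, hu⟩ := (mk_eq_zero_iff M m _).mp h1
      exact ⟨u.1, u.2, hu⟩)
  exact (mk_eq_zero_iff M m _).mpr ⟨⟨f ^ N, pmem f N⟩, hN N le_rfl⟩

/-- `m ↦ m / s` as a linear map. -/
noncomputable def mkL {S : Submonoid R} (s : S) : M →ₗ[R] LocalizedModule S M :=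
  (inv M s).comp (LocalizedModule.mkLinearMap S M)

omit [SetLike τ M] [AddSubgroupClass τ M] in
theorem mkL_apply {S : Submonoid R} (s : S) (m : M) : mkL (M := M) s m = LocalizedModule.mk m s := by
  change inv M s (LocalizedModule.mk m 1) = _
  rw [inv_eq_iff, LocalizedModule.smul'_mk]
  exact (LocalizedModule.mk_cancel s m).symm

omit [SetLike τ M] [AddSubgroupClass τ M] in
theorem mk_sum {S : Submonoid R} (s : S) {ι : Type*} (F : Finset ι) (g : ι → M) :
    LocalizedModule.mk (∑ i ∈ F, g i) s = ∑ i ∈ F, LocalizedModule.mk (g i) s := by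
  simp only [← mkL_apply]
  exact map_sum _ _ _

/-- homogeneous fractions of distinct degrees are independent. -/
theorem hom_indep (hf : f ∈ 𝒜 d) (F : Finset ℤ) (c : ℤ → LocalizedModule (Submonoid.powers f) M)
    (hc : ∀ n ∈ F, IsHomFrac ℳ f d n (c n)) (hsum : ∑ n ∈ F, c n = 0) : ∀ n ∈ F, c n = 0 := by
  classical
  choose! k i m hm hdeg hq using hc
  let K : ℕ := F.sup k
  let μ : ℤ → M := fun n => f ^ (K - k n) • m n
  have hkK : ∀ n ∈ F, k n ≤ K := fun n hn => Finset.le_sup (f := k) hn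
  have hcμ : ∀ n ∈ F, c n = LocalizedModule.mk (μ n) ⟨f ^ K, pmem f K⟩ := by
    intro n hn
    rw [hq n hn]
    have h1 : (⟨f ^ K, pmem f K⟩ : Submonoid.powers f) =
        ⟨f ^ (K - k n), pmem f (K - k n)⟩ * ⟨f ^ k n, pmem f (k n)⟩ :=
      Subtype.ext (by rw [Submonoid.coe_mul, ← pow_add, Nat.sub_add_cancel (hkK n hn)])
    rw [h1]
    exact (LocalizedModule.mk_cancel_common_left (⟨f ^ (K - k n), pmem f (K - k n)⟩ : Submonoid.powers f)
      ⟨f ^ k n, pmem f (k n)⟩ (m n)).symm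
  have hμmem : ∀ n ∈ F, μ n ∈ ℳ ((K - k n) * d + i n) := fun n hn =>
    pow_smul_mem 𝒜 ℳ hf _ (hm n hn)
  have h0 : LocalizedModule.mk (∑ n ∈ F, μ n) (⟨f ^ K, pmem f K⟩ : Submonoid.powers f) = 0 := by
    rw [mk_sum, ← hsum]
    exact Finset.sum_congr rfl (fun n hn => (hcμ n hn).symm)
  obtain ⟨u, hu⟩ := (mk_eq_zero_iff M (∑ n ∈ F, μ n) (⟨f ^ K, pmem f K⟩ : Submonoid.powers f)).mp h0
  obtain ⟨N, hN⟩ := mem_powers_iff f u
  rw [hN, Finset.smul_sum] at hu
  intro n0 hn0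
  rcases hdeg n0 hn0 with hd0 | hm0
  · -- project to the degree of `n0`
    let E : ℕ := N * d + ((K - k n0) * d + i n0)
    have hterm : ∀ n ∈ F, f ^ N • μ n ∈ ℳ (N * d + ((K - k n) * d + i n)) := fun n hn =>
      pow_smul_mem 𝒜 ℳ hf N (hμmem n hn)
    have h2 := congrArg (fun y => (DirectSum.decompose ℳ y E : M)) hu
    simp only at h2
    rw [DirectSum.decompose_sum, DFinsupp.finsetSum_apply, AddSubmonoidClass.coe_finsetSum,
      DirectSum.decompose_zero, DirectSum.zero_apply, ZeroMemClass.coe_zero] at h2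
    rw [Finset.sum_eq_single n0] at h2
    · rw [DirectSum.decompose_of_mem_same ℳ (hterm n0 hn0)] at h2
      rw [hcμ n0 hn0]
      exact (mk_eq_zero_iff M _ _).mpr ⟨⟨f ^ N, pmem f N⟩, h2⟩
    · intro n hn hne
      rcases hdeg n hn with hdn | hmn
      · have hidx : N * d + ((K - k n) * d + i n) ≠ E := by
          intro heq
          apply hne
          have h3 : ((N * d + ((K - k n) * d + i n) : ℕ) : ℤ) =
              ((N * d + ((K - k n0) * d + i n0) : ℕ) : ℤ) := by rw [heq]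
          push_cast [Nat.cast_sub (hkK n hn), Nat.cast_sub (hkK n0 hn0)] at h3
          rw [hdn, hd0] at h3
          linarith
        rw [DirectSum.decompose_of_mem_ne ℳ (hterm n hn) hidx]
      · have : f ^ N • μ n = 0 := by
          change f ^ N • (f ^ (K - k n) • m n) = 0
          rw [hmn, smul_zero, smul_zero]
        rw [this, DirectSum.decompose_zero, DirectSum.zero_apply, ZeroMemClass.coe_zero]
    · intro h; exact absurd hn0 h
  · rw [hq n0 hn0, hm0, LocalizedModule.zero_mk]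

variable (f d)

/-- the degree-`n` piece of the fraction `μ / f^k`. -/
noncomputable def piece (k : ℕ) (μ : M) (n : ℤ) : LocalizedModule (Submonoid.powers f) M :=
  if 0 ≤ (k : ℤ) * d + n then
    LocalizedModule.mk (DirectSum.decompose ℳ μ ((k : ℤ) * d + n).toNat : M) ⟨f ^ k, pmem f k⟩
  else 0

omit [SetLike.GradedSMul 𝒜 ℳ] in
theorem piece_hom (k : ℕ) (μ : M) (n : ℤ) : IsHomFrac ℳ f d n (piece ℳ f d k μ n) := by
  unfold piece
  split_ifs with h
  · exact ⟨k, _, _, SetLike.coe_mem _, Or.inl (Int.toNat_of_nonneg h), rfl⟩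
  · exact IsHomFrac.zero ℳ f d n

omit [SetLike.GradedSMul 𝒜 ℳ] in
theorem piece_sub (k : ℕ) (μ : M) (l : ℕ) :
    piece ℳ f d k μ ((l : ℤ) - (k : ℤ) * d) =
      LocalizedModule.mk (DirectSum.decompose ℳ μ l : M) ⟨f ^ k, pmem f k⟩ := by
  unfold piece
  have h1 : (k : ℤ) * d + ((l : ℤ) - (k : ℤ) * d) = (l : ℤ) := by ring
  rw [h1, if_pos (Int.natCast_nonneg l), Int.toNat_natCast]

open Classical in
/-- the finite set of degrees of `μ / f^k`. -/
noncomputable def degs (k : ℕ) (μ : M) : Finset ℤ :=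
  (DirectSum.decompose ℳ μ).support.image (fun l : ℕ => (l : ℤ) - (k : ℤ) * d)

omit [SetLike.GradedSMul 𝒜 ℳ] in
theorem piece_eq_zero_of_notMem (k : ℕ) (μ : M) (n : ℤ) (hn : n ∉ degs ℳ d k μ) :
    piece ℳ f d k μ n = 0 := by
  classical
  unfold piece
  split_ifs with h
  · have h0 : DirectSum.decompose ℳ μ ((k : ℤ) * d + n).toNat = 0 := by
      by_contra hne
      apply hn
      unfold degs
      rw [Finset.mem_image]
      refine ⟨((k : ℤ) * d + n).toNat, DFinsupp.mem_support_iff.mpr hne, ?_⟩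
      rw [Int.toNat_of_nonneg h]
      ring
    rw [h0, ZeroMemClass.coe_zero, LocalizedModule.zero_mk]
  · rfl

omit [SetLike.GradedSMul 𝒜 ℳ] in
theorem sum_piece (k : ℕ) (μ : M) (F : Finset ℤ) (hF : degs ℳ d k μ ⊆ F) :
    ∑ n ∈ F, piece ℳ f d k μ n = LocalizedModule.mk μ ⟨f ^ k, pmem f k⟩ := by
  classical
  rw [← Finset.sum_subset hF (fun n _ hn => piece_eq_zero_of_notMem ℳ f d k μ n hn)]
  unfold degs
  rw [Finset.sum_image (fun a _ b _ hab => by
    have : (a : ℤ) = b := by linarith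
    exact_mod_cast this)]
  simp only [piece_sub]
  rw [← mk_sum]
  congr 1
  exact DirectSum.sum_support_decompose ℳ μ

end Hom

end Groth.Agent.Lib.Helper8.Punc
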