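import Groth.Agent.Lib.Helper8PuncB

/-!
# Global sections of `M(n)~` on `Proj` as homogeneous compatible families (helper8)
-/

set_option autoImplicit false
universe u
open CategoryTheory CategoryTheory.Limits Opposite AlgebraicGeometry

namespace Groth.Agent.Lib.Helper8.Punc

open Groth.Agent.Lib.Helper2GrModSect

variable {R σ : Type u} [CommRing R] [SetLike σ R] [AddSubgroupClass σ R] (𝒜 : ℕ → σ) [GradedRing 𝒜]
variable {M τ : Type u} [AddCommGroup M] [Module R M] [SetLike τ M] [AddSubgroupClass τ M]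
  (ℳ : ℕ → τ) [SetLike.GradedSMul 𝒜 ℳ] [DirectSum.Decomposition ℳ]
variable {r : ℕ} (fs : Fin r → R) (ds : Fin r → ℕ)

/-- global sections of `M(n)~`, as in the statement. -/
abbrev G (n : ℤ) : Type u := ((GrMod.tilde 𝒜 ℳ n).val.obj (op ⊤) : Type u)

/-- the value of a global section at a point. -/
def gval (n : ℤ) (s : G 𝒜 ℳ n) (x : ProjectiveSpectrum 𝒜) : GrMod.LocMod 𝒜 (M := M) x :=
  secVal 𝒜 ℳ n ⊤ s x trivial

theorem gval_add (n : ℤ) (s s' : G 𝒜 ℳ n) (x : ProjectiveSpectrum 𝒜) :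
    gval 𝒜 ℳ n (s + s') x = gval 𝒜 ℳ n s x + gval 𝒜 ℳ n s' x := rfl

theorem gval_zero (n : ℤ) (x : ProjectiveSpectrum 𝒜) : gval 𝒜 ℳ n 0 x = 0 := rfl

theorem g_ext (n : ℤ) (s s' : G 𝒜 ℳ n) (h : ∀ x, gval 𝒜 ℳ n s x = gval 𝒜 ℳ n s' x) : s = s' :=
  sec_ext 𝒜 ℳ n ⊤ s s' (fun y _ => h y)

/-- localization `M_{f_j} → M_x` for `x ∈ D₊(f_j)`. -/
noncomputable abbrev locx (j : Fin r) (x : ProjectiveSpectrum 𝒜) (hx : fs j ∉ x.asHomogeneousIdeal) :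
    LocalizedModule (Sp fs j) M →ₗ[R] GrMod.LocMod 𝒜 (M := M) x :=
  chg M (powers_le_primeCompl 𝒜 hx)


variable {fs ds}

section Frac

variable (hd : ∀ j, 0 < ds j) (hf : ∀ j, fs j ∈ 𝒜 (ds j))
include hd hf

/-- a global section is a single homogeneous fraction on `D₊(f_j)`. -/
theorem exists_frac (n : ℤ) (s : G 𝒜 ℳ n) (j : Fin r) :
    ∃ q : LocalizedModule (Sp fs j) M, IsHomFrac ℳ (fs j) (ds j) n q ∧
      ∀ (x : ProjectiveSpectrum 𝒜) (hx : fs j ∉ x.asHomogeneousIdeal),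
        locx 𝒜 fs j x hx q = gval 𝒜 ℳ n s x := by
  let s' : GrMod.sect 𝒜 ℳ n (op (ProjectiveSpectrum.basicOpen 𝒜 (fs j))) :=
    GrMod.res 𝒜 ℳ n (homOfLE le_top).op (toSect 𝒜 ℳ n ⊤ s)
  obtain ⟨k, i, m, hdeg, hval⟩ := exists_global s' (hd j) (hf j)
  refine ⟨LocalizedModule.mk m.1 ⟨fs j ^ k, pmem (fs j) k⟩, ⟨k, i, m.1, m.2, Or.inl hdeg, rfl⟩, ?_⟩
  intro x hx
  rw [chg_mk]
  exact (hval ⟨x, (ProjectiveSpectrum.mem_basicOpen 𝒜 (fs j) x).mpr hx⟩).symm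

theorem frac_unique (n : ℤ) (j : Fin r) {q q' : LocalizedModule (Sp fs j) M}
    (h : IsHomFrac ℳ (fs j) (ds j) n q) (h' : IsHomFrac ℳ (fs j) (ds j) n q')
    (hloc : ∀ (x : ProjectiveSpectrum 𝒜) (hx : fs j ∉ x.asHomogeneousIdeal),
      locx 𝒜 fs j x hx q = locx 𝒜 fs j x hx q') : q = q' := by
  rw [← sub_eq_zero]
  refine (h.sub 𝒜 ℳ (hf j) h').eq_zero 𝒜 ℳ (hd j) (hf j) (fun x hx => ?_)
  rw [map_sub, hloc x hx, sub_self]

/-- the fraction representing `s` on `D₊(f_j)`. -/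
noncomputable def qf (n : ℤ) (s : G 𝒜 ℳ n) (j : Fin r) : LocalizedModule (Sp fs j) M :=
  Classical.choose (exists_frac 𝒜 ℳ hd hf n s j)

theorem qf_hom (n : ℤ) (s : G 𝒜 ℳ n) (j : Fin r) :
    IsHomFrac ℳ (fs j) (ds j) n (qf 𝒜 ℳ hd hf n s j) :=
  (Classical.choose_spec (exists_frac 𝒜 ℳ hd hf n s j)).1

theorem qf_loc (n : ℤ) (s : G 𝒜 ℳ n) (j : Fin r) (x : ProjectiveSpectrum 𝒜)
    (hx : fs j ∉ x.asHomogeneousIdeal) :
    locx 𝒜 fs j x hx (qf 𝒜 ℳ hd hf n s j) = gval 𝒜 ℳ n s x :=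
  (Classical.choose_spec (exists_frac 𝒜 ℳ hd hf n s j)).2 x hx

theorem qf_eq (n : ℤ) (s : G 𝒜 ℳ n) (j : Fin r) (q : LocalizedModule (Sp fs j) M)
    (h : IsHomFrac ℳ (fs j) (ds j) n q)
    (hloc : ∀ (x : ProjectiveSpectrum 𝒜) (hx : fs j ∉ x.asHomogeneousIdeal),
      locx 𝒜 fs j x hx q = gval 𝒜 ℳ n s x) : qf 𝒜 ℳ hd hf n s j = q :=
  frac_unique 𝒜 ℳ hd hf n j (qf_hom 𝒜 ℳ hd hf n s j) h
    (fun x hx => by rw [qf_loc, hloc x hx])

/-- two homogeneous fractions of the same degree agreeing at all points of `D₊(f_i f_j)` agree in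
`M_{f_i f_j}`. -/
theorem hom_compat (n : ℤ) (i j : Fin r) {q : LocalizedModule (Sp fs i) M}
    {q' : LocalizedModule (Sp fs j) M}
    (h : IsHomFrac ℳ (fs i) (ds i) n q) (h' : IsHomFrac ℳ (fs j) (ds j) n q')
    (hloc : ∀ (x : ProjectiveSpectrum 𝒜) (hi : fs i ∉ x.asHomogeneousIdeal)
      (hj : fs j ∉ x.asHomogeneousIdeal), locx 𝒜 fs i x hi q = locx 𝒜 fs j x hj q') :
    chg M (Sp_le_left fs i j) q = chg M (Sp_le_right fs i j) q' := by
  obtain ⟨k, a, m, hm, hdeg, rfl⟩ := h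
  obtain ⟨k', a', m', hm', hdeg', rfl⟩ := h'
  have h1 : fs j ^ k' • m ∈ ℳ (k' * ds j + a) := pow_smul_mem 𝒜 ℳ (hf j) k' hm
  have h2 : fs i ^ k • m' ∈ ℳ (k * ds i + a') := pow_smul_mem 𝒜 ℳ (hf i) k hm'
  have hμ : ∃ e : ℕ, fs j ^ k' • m - fs i ^ k • m' ∈ ℳ e := by
    rcases hdeg with hdeg | rfl
    · rcases hdeg' with hdeg' | rfl
      · have hidx : k * ds i + a' = k' * ds j + a := by
          have : ((k * ds i + a' : ℕ) : ℤ) = ((k' * ds j + a : ℕ) : ℤ) := by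
            push_cast; rw [hdeg, hdeg']; ring
          exact_mod_cast this
        rw [hidx] at h2
        exact ⟨_, sub_mem h1 h2⟩
      · exact ⟨_, by rw [smul_zero, sub_zero]; exact h1⟩
    · exact ⟨_, by rw [smul_zero, zero_sub]; exact neg_mem h2⟩
  obtain ⟨e, hμe⟩ := hμ
  have hg : fs i * fs j ∈ 𝒜 (ds i + ds j) := SetLike.mul_mem_graded (hf i) (hf j)
  have hpos : 0 < ds i + ds j := Nat.add_pos_left (hd i) _
  obtain ⟨N, hN⟩ := exists_pow_smul_eq_zero 𝒜 ℳ hpos hg hμe (fun y hy => by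
    have hi : fs i ∉ y.asHomogeneousIdeal := fun hc => hy (Ideal.mul_mem_right _ _ hc)
    have hj : fs j ∉ y.asHomogeneousIdeal := fun hc => hy (Ideal.mul_mem_left _ _ hc)
    have h3 := hloc y hi hj
    rw [chg_mk, chg_mk, LocalizedModule.mk_eq] at h3
    obtain ⟨u, hu⟩ := h3
    refine ⟨u.1, u.2, ?_⟩
    simp only [Submonoid.smul_def] at hu
    rw [smul_sub, hu, sub_self])
  rw [chg_mk, chg_mk, LocalizedModule.mk_eq]
  have hmem : (fs i * fs j) ^ N ∈ Tp fs i j := by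
    rw [mul_pow]
    exact Submonoid.mul_mem _ (Sp_le_left fs i j (pmem (fs i) N)) (Sp_le_right fs i j (pmem (fs j) N))
  refine ⟨⟨(fs i * fs j) ^ N, hmem⟩, ?_⟩
  simp only [Submonoid.smul_def]
  have h4 := hN N le_rfl
  rw [smul_sub, sub_eq_zero] at h4
  exact h4

theorem qf_compat (n : ℤ) (s : G 𝒜 ℳ n) (i j : Fin r) :
    chg M (Sp_le_left fs i j) (qf 𝒜 ℳ hd hf n s i) =
      chg M (Sp_le_right fs i j) (qf 𝒜 ℳ hd hf n s j) :=
  hom_compat 𝒜 ℳ hd hf n i j (qf_hom 𝒜 ℳ hd hf n s i) (qf_hom 𝒜 ℳ hd hf n s j)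
    (fun x hi hj => by rw [qf_loc, qf_loc])

/-- the homogeneous compatible family of a global section. -/
noncomputable def Φn (n : ℤ) : G 𝒜 ℳ n →+ Z fs M where
  toFun s := ⟨fun j => qf 𝒜 ℳ hd hf n s j, fun i j => qf_compat 𝒜 ℳ hd hf n s i j⟩
  map_zero' := by
    apply Subtype.ext
    funext j
    exact qf_eq 𝒜 ℳ hd hf n 0 j 0 (IsHomFrac.zero ℳ _ _ n) (fun x hx => by rw [map_zero, gval_zero])
  map_add' s s' := by
    apply Subtype.ext
    funext j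
    exact qf_eq 𝒜 ℳ hd hf n (s + s') j (qf 𝒜 ℳ hd hf n s j + qf 𝒜 ℳ hd hf n s' j)
      ((qf_hom 𝒜 ℳ hd hf n s j).add 𝒜 ℳ (hf j) (qf_hom 𝒜 ℳ hd hf n s' j))
      (fun x hx => by rw [map_add, qf_loc, qf_loc, gval_add])

theorem Φn_apply (n : ℤ) (s : G 𝒜 ℳ n) (j : Fin r) :
    (Φn 𝒜 ℳ hd hf n s).1 j = qf 𝒜 ℳ hd hf n s j := rfl

omit hd hf [SetLike.GradedSMul 𝒜 ℳ] [DirectSum.Decomposition ℳ] [SetLike τ M] [AddSubgroupClass τ M] in
theorem loc_compat (w : Z fs M) (i j : Fin r) (x : ProjectiveSpectrum 𝒜)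
    (hi : fs i ∉ x.asHomogeneousIdeal) (hj : fs j ∉ x.asHomogeneousIdeal) :
    locx 𝒜 fs i x hi (w.1 i) = locx 𝒜 fs j x hj (w.1 j) := by
  have hT : Tp fs i j ≤ x.asHomogeneousIdeal.toIdeal.primeCompl :=
    sup_le (powers_le_primeCompl 𝒜 hi) (powers_le_primeCompl 𝒜 hj)
  have h1 := congrArg (chg M hT) (w.2 i j)
  rwa [chg_chg, chg_chg] at h1

omit hd [DirectSum.Decomposition ℳ] [SetLike.GradedSMul 𝒜 ℳ] in
theorem pow_mem_graded' (j : Fin r) (k : ℕ) : fs j ^ k ∈ 𝒜 (k * ds j) := by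
  have h1 : fs j ^ k ∈ 𝒜 (k • ds j) := SetLike.pow_mem_graded k (hf j)
  rwa [smul_eq_mul] at h1

omit hd [DirectSum.Decomposition ℳ] [SetLike.GradedSMul 𝒜 ℳ] in
theorem locx_mem_tildeAt (n : ℤ) (j : Fin r) {q : LocalizedModule (Sp fs j) M}
    (h : IsHomFrac ℳ (fs j) (ds j) n q) (x : ProjectiveSpectrum 𝒜)
    (hx : fs j ∉ x.asHomogeneousIdeal) :
    locx 𝒜 fs j x hx q ∈ GrMod.tildeAt 𝒜 ℳ n x := by
  obtain ⟨k, a, m, hm, hdeg, rfl⟩ := h
  rw [chg_mk]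
  rcases hdeg with hdeg | rfl
  · exact mk_mem_tildeAt 𝒜 ℳ n x hm (pow_mem_graded' 𝒜 hf j k) _ (by push_cast; exact hdeg)
  · rw [LocalizedModule.zero_mk]
    exact zero_mem _

omit hd in
/-- compatibility passes to homogeneous pieces. -/
theorem piece_compat (i j : Fin r) (μ μ' : M) (k k' : ℕ)
    (h : chg M (Sp_le_left fs i j) (LocalizedModule.mk μ ⟨fs i ^ k, pmem (fs i) k⟩) =
      chg M (Sp_le_right fs i j) (LocalizedModule.mk μ' ⟨fs j ^ k', pmem (fs j) k'⟩)) (n : ℤ) :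
    chg M (Sp_le_left fs i j) (piece ℳ (fs i) (ds i) k μ n) =
      chg M (Sp_le_right fs i j) (piece ℳ (fs j) (ds j) k' μ' n) := by
  rw [chg_mk, chg_mk, LocalizedModule.mk_eq] at h
  obtain ⟨u, hu⟩ := h
  obtain ⟨p, ⟨a, rfl⟩, q, ⟨b, rfl⟩, hpq⟩ := Submonoid.mem_sup.mp u.2
  simp only [Submonoid.smul_def, ← mul_smul] at hu
  rw [← hpq] at hu
  -- the two homogeneous multipliers
  have hA1 : fs i ^ a * fs j ^ b * fs j ^ k' ∈ 𝒜 (a * ds i + b * ds j + k' * ds j) :=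
    SetLike.mul_mem_graded (SetLike.mul_mem_graded (pow_mem_graded' 𝒜 hf i a)
      (pow_mem_graded' 𝒜 hf j b)) (pow_mem_graded' 𝒜 hf j k')
  have hA2 : fs i ^ a * fs j ^ b * fs i ^ k ∈ 𝒜 (a * ds i + b * ds j + k * ds i) :=
    SetLike.mul_mem_graded (SetLike.mul_mem_graded (pow_mem_graded' 𝒜 hf i a)
      (pow_mem_graded' 𝒜 hf j b)) (pow_mem_graded' 𝒜 hf i k)
  have hT1 : fs i ^ a * fs j ^ b * fs j ^ k' ∈ Tp fs i j :=
    Submonoid.mul_mem _ (Submonoid.mul_mem _ (Sp_le_left fs i j (pmem (fs i) a))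
      (Sp_le_right fs i j (pmem (fs j) b))) (Sp_le_right fs i j (pmem (fs j) k'))
  have hT2 : fs i ^ a * fs j ^ b * fs i ^ k ∈ Tp fs i j :=
    Submonoid.mul_mem _ (Submonoid.mul_mem _ (Sp_le_left fs i j (pmem (fs i) a))
      (Sp_le_right fs i j (pmem (fs j) b))) (Sp_le_left fs i j (pmem (fs i) k))
  have key : ∀ E : ℕ,
      (if a * ds i + b * ds j + k' * ds j ≤ E then (fs i ^ a * fs j ^ b * fs j ^ k') •
          (DirectSum.decompose ℳ μ (E - (a * ds i + b * ds j + k' * ds j)) : M) else 0) =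
      (if a * ds i + b * ds j + k * ds i ≤ E then (fs i ^ a * fs j ^ b * fs i ^ k) •
          (DirectSum.decompose ℳ μ' (E - (a * ds i + b * ds j + k * ds i)) : M) else 0) := by
    intro E
    rw [← decompose_smul_left 𝒜 ℳ hA1, ← decompose_smul_left 𝒜 ℳ hA2, hu]
  unfold piece
  have c1 : ((a * ds i : ℕ) : ℤ) = (a : ℤ) * ds i := by push_cast; ring
  generalize hP1 : a * ds i = P1 at *
  generalize hP2 : b * ds j = P2 at *
  have c3 : ((k' * ds j : ℕ) : ℤ) = (k' : ℤ) * ds j := by push_cast; ring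
  have c4 : ((k * ds i : ℕ) : ℤ) = (k : ℤ) * ds i := by push_cast; ring
  rw [← c3, ← c4]
  generalize hP3 : k' * ds j = P3 at *
  generalize hP4 : k * ds i = P4 at *
  by_cases hL : 0 ≤ (P4 : ℤ) + n
  · by_cases hL' : 0 ≤ (P3 : ℤ) + n
    · rw [if_pos hL, if_pos hL', chg_mk, chg_mk, LocalizedModule.mk_eq]
      refine ⟨⟨fs i ^ a * fs j ^ b, Submonoid.mul_mem _ (Sp_le_left fs i j (pmem (fs i) a))
        (Sp_le_right fs i j (pmem (fs j) b))⟩, ?_⟩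
      simp only [Submonoid.smul_def, ← mul_smul]
      have hk := key (P1 + P2 + P3 + ((P4 : ℤ) + n).toNat)
      have e1 : P1 + P2 + P3 + ((P4 : ℤ) + n).toNat - (P1 + P2 + P3) = ((P4 : ℤ) + n).toNat := by
        omega
      have e2 : P1 + P2 + P3 + ((P4 : ℤ) + n).toNat - (P1 + P2 + P4) = ((P3 : ℤ) + n).toNat := by
        omega
      have l2 : P1 + P2 + P4 ≤ P1 + P2 + P3 + ((P4 : ℤ) + n).toNat := by omega
      rw [if_pos (Nat.le_add_right _ _), if_pos l2, e1, e2] at hk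
      exact hk
    · rw [if_pos hL, if_neg hL', map_zero, chg_mk]
      refine (mk_eq_zero_iff M _ _).mpr ⟨⟨_, hT1⟩, ?_⟩
      have hk := key (P1 + P2 + P3 + ((P4 : ℤ) + n).toNat)
      have e1 : P1 + P2 + P3 + ((P4 : ℤ) + n).toNat - (P1 + P2 + P3) = ((P4 : ℤ) + n).toNat := by
        omega
      have l2 : ¬ P1 + P2 + P4 ≤ P1 + P2 + P3 + ((P4 : ℤ) + n).toNat := by omega
      rw [if_pos (Nat.le_add_right _ _), if_neg l2, e1] at hk
      exact hk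
  · by_cases hL' : 0 ≤ (P3 : ℤ) + n
    · rw [if_neg hL, if_pos hL', map_zero, chg_mk]
      symm
      refine (mk_eq_zero_iff M _ _).mpr ⟨⟨_, hT2⟩, ?_⟩
      have hk := key (P1 + P2 + P4 + ((P3 : ℤ) + n).toNat)
      have e2 : P1 + P2 + P4 + ((P3 : ℤ) + n).toNat - (P1 + P2 + P4) = ((P3 : ℤ) + n).toNat := by
        omega
      have l1 : ¬ P1 + P2 + P3 ≤ P1 + P2 + P4 + ((P3 : ℤ) + n).toNat := by omega
      rw [if_neg l1, if_pos (Nat.le_add_right _ _), e2] at hk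
      exact hk.symm
    · rw [if_neg hL, if_neg hL', map_zero, map_zero]

section Cover

variable (hcov : ∀ x : ProjectiveSpectrum 𝒜, ∃ j, fs j ∉ x.asHomogeneousIdeal)
include hcov

theorem Φn_injective (n : ℤ) : Function.Injective (Φn 𝒜 ℳ hd hf n) := by
  rw [injective_iff_map_eq_zero]
  intro s hs
  apply g_ext
  intro x
  obtain ⟨j, hj⟩ := hcov x
  rw [gval_zero, ← qf_loc 𝒜 ℳ hd hf n s j x hj, ← Φn_apply, hs]
  exact map_zero _

/-- a homogeneous compatible family comes from a global section. -/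
theorem exists_section (n : ℤ) (w : Z fs M) (hw : ∀ j, IsHomFrac ℳ (fs j) (ds j) n (w.1 j)) :
    ∃ s : G 𝒜 ℳ n, Φn 𝒜 ℳ hd hf n s = w := by
  choose jx hjx using hcov
  let v : ∀ x : ((op (⊤ : (Proj 𝒜).Opens)).unop : (Proj 𝒜).Opens), GrMod.tildeAt 𝒜 ℳ n x.1 :=
    fun x => ⟨locx 𝒜 fs (jx x.1) x.1 (hjx x.1) (w.1 (jx x.1)),
      locx_mem_tildeAt 𝒜 ℳ hf n (jx x.1) (hw (jx x.1)) x.1 (hjx x.1)⟩
  have hv : (GrMod.isLocFrac 𝒜 ℳ n).pred v := by
    intro x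
    obtain ⟨k, a, m, hm, hdeg, hq⟩ := hw (jx x.1)
    have hnin : ∀ y : ProjectiveSpectrum.basicOpen 𝒜 (fs (jx x.1)),
        fs (jx x.1) ∉ y.1.asHomogeneousIdeal :=
      fun y => (ProjectiveSpectrum.mem_basicOpen 𝒜 _ y.1).mp y.2
    refine ⟨ProjectiveSpectrum.basicOpen 𝒜 (fs (jx x.1)),
      (ProjectiveSpectrum.mem_basicOpen 𝒜 _ x.1).mpr (hjx x.1), homOfLE le_top,
      a, k * ds (jx x.1), ⟨m, hm⟩, ⟨fs (jx x.1) ^ k, pow_mem_graded' 𝒜 hf _ k⟩,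
      fun y h => hnin y (y.1.isPrime.mem_of_pow_mem k h), ?_, ?_⟩
    · rcases hdeg with hdeg | h0
      · exact Or.inl (by push_cast; exact hdeg)
      · exact Or.inr h0
    · intro y
      change locx 𝒜 fs (jx y.1) y.1 (hjx y.1) (w.1 (jx y.1)) = _
      rw [loc_compat 𝒜 w (jx y.1) (jx x.1) y.1 (hjx y.1) (hnin y), hq, chg_mk]
  refine ⟨ofSect 𝒜 ℳ n ⊤ ⟨v, hv⟩, ?_⟩
  apply Subtype.ext
  funext j
  refine qf_eq 𝒜 ℳ hd hf n _ j (w.1 j) (hw j) (fun x hx => ?_)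
  change _ = locx 𝒜 fs (jx x) x (hjx x) (w.1 (jx x))
  exact loc_compat 𝒜 w j (jx x) x hx (hjx x)

end Cover

omit hd in
/-- every compatible family is a finite sum of homogeneous compatible families. -/
theorem exists_hom_decomp (z : Z fs M) :
    ∃ (F : Finset ℤ) (w : ℤ → Z fs M),
      (∀ n j, IsHomFrac ℳ (fs j) (ds j) n ((w n).1 j)) ∧ ∑ n ∈ F, w n = z := by
  classical
  choose μ k hrep using fun j => exists_rep_powers M (fs j) (z.1 j)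
  let w : ℤ → Z fs M := fun n =>
    ⟨fun j => piece ℳ (fs j) (ds j) (k j) (μ j) n, fun i j =>
      piece_compat 𝒜 ℳ hf i j (μ i) (μ j) (k i) (k j)
        (by rw [← hrep i, ← hrep j]; exact z.2 i j) n⟩
  let F : Finset ℤ := Finset.univ.biUnion (fun j => degs ℳ (ds j) (k j) (μ j))
  refine ⟨F, w, fun n j => piece_hom ℳ (fs j) (ds j) (k j) (μ j) n, ?_⟩
  apply Subtype.ext
  funext j
  rw [Submodule.coe_sum, Finset.sum_apply, hrep j]
  exact sum_piece ℳ (fs j) (ds j) (k j) (μ j) F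
    (Finset.subset_biUnion_of_mem (fun j => degs ℳ (ds j) (k j) (μ j)) (Finset.mem_univ j))

/-- the comparison map from `⊕ₙ Γ(X, M(n)~)` to compatible families. -/
noncomputable def Φ : DirectSum ℤ (fun n : ℤ => G 𝒜 ℳ n) →+ Z fs M :=
  DirectSum.toAddMonoid (fun n => Φn 𝒜 ℳ hd hf n)

theorem Φ_of (n : ℤ) (s : G 𝒜 ℳ n) :
    Φ 𝒜 ℳ hd hf (DirectSum.of (fun n : ℤ => G 𝒜 ℳ n) n s) = Φn 𝒜 ℳ hd hf n s :=
  DirectSum.toAddMonoid_of _ _ _

theorem Φ_bijective (hcov : ∀ x : ProjectiveSpectrum 𝒜, ∃ j, fs j ∉ x.asHomogeneousIdeal) :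
    Function.Bijective (Φ 𝒜 ℳ hd hf) := by
  classical
  constructor
  · rw [injective_iff_map_eq_zero]
    intro t ht
    have hexp : t = ∑ n ∈ t.support, DirectSum.of (fun n : ℤ => G 𝒜 ℳ n) n (t n) :=
      (DirectSum.sum_support_of t).symm
    have h1 : ∑ n ∈ t.support, Φn 𝒜 ℳ hd hf n (t n) = 0 := by
      rw [← ht]
      conv_rhs => rw [hexp]
      rw [map_sum]
      exact Finset.sum_congr rfl (fun n _ => (Φ_of 𝒜 ℳ hd hf n (t n)).symm)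
    have h2 : ∀ n ∈ t.support, Φn 𝒜 ℳ hd hf n (t n) = 0 := by
      intro n hn
      apply Subtype.ext
      funext j
      have h3 : ∑ n ∈ t.support, (Φn 𝒜 ℳ hd hf n (t n)).1 j = 0 := by
        have := congrFun (congrArg Subtype.val h1) j
        rwa [Submodule.coe_sum, Finset.sum_apply] at this
      exact hom_indep 𝒜 ℳ (hf j) t.support (fun n => (Φn 𝒜 ℳ hd hf n (t n)).1 j)
        (fun n _ => qf_hom 𝒜 ℳ hd hf n (t n) j) h3 n hn
    have h4 : t.support = ∅ := by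
      rw [Finset.eq_empty_iff_forall_notMem]
      intro n hn
      have h5 := Φn_injective 𝒜 ℳ hd hf hcov n ((h2 n hn).trans (map_zero _).symm)
      exact (DFinsupp.mem_support_iff.mp hn) h5
    rw [hexp, h4, Finset.sum_empty]
  · intro z
    obtain ⟨F, w, hw, hsum⟩ := exists_hom_decomp 𝒜 ℳ hf z
    choose s hs using fun n => exists_section 𝒜 ℳ hd hf hcov n (w n) (hw n)
    refine ⟨∑ n ∈ F, DirectSum.of (fun n : ℤ => G 𝒜 ℳ n) n (s n), ?_⟩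
    rw [map_sum, ← hsum]
    exact Finset.sum_congr rfl (fun n _ => by rw [Φ_of, hs n])

theorem Φ_alpha (i : ℕ) (m : ℳ i) :
    Φ 𝒜 ℳ hd hf (DirectSum.of (fun n : ℤ => G 𝒜 ℳ n) (i : ℤ) (GrMod.alpha 𝒜 ℳ i m)) =
      η fs M (m : M) := by
  rw [Φ_of]
  apply Subtype.ext
  funext j
  refine qf_eq 𝒜 ℳ hd hf _ _ j _ ⟨0, i, (m : M), m.2, Or.inl (by simp), ?_⟩ (fun x hx => ?_)
  · rw [η_apply]
    congr 1
    exact Subtype.ext (pow_zero _).symm
  · rw [η_apply, chg_mk]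
    rfl

end Frac

end Groth.Agent.Lib.Helper8.Punc
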