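import Mathlib.LinearAlgebra.RootSystem.Base
import Mathlib.LinearAlgebra.QuadraticForm.Basic

/-!
Helper library: quadratic forms on the coweight module of a root pairing and their invariance
under the coreflections.
-/

set_option autoImplicit false
set_option linter.unusedSectionVars false

namespace Groth.Agent.Lib.Helper8

variable {ι R M N : Type*} [CommRing R] [AddCommGroup M] [Module R M] [AddCommGroup N]
  [Module R N] (Q : QuadraticMap R N R)

lemma quad_sub_smul (y a : N) (c : R) :
    Q (y - c • a) = Q y + c * c * Q a - c * QuadraticMap.polar Q y a := by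
  rw [sub_eq_add_neg, ← neg_smul, QuadraticMap.map_add (⇑Q) y ((-c) • a), QuadraticMap.map_smul,
    QuadraticMap.polar_smul_right]
  simp only [smul_eq_mul]
  ring

variable (P : RootPairing ι R M N)

lemma quad_coreflection (i : ι) (y : N) :
    Q (P.coreflection i y) = Q y + P.root' i y * P.root' i y * Q (P.coroot i) -
      P.root' i y * QuadraticMap.polar Q y (P.coroot i) := by
  rw [RootPairing.coreflection_apply, quad_sub_smul]

lemma quad_coreflection_of_polar_eq (i : ι) (y : N)
    (h : QuadraticMap.polar Q y (P.coroot i) = P.root' i y * Q (P.coroot i)) :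
    Q (P.coreflection i y) = Q y := by
  rw [quad_coreflection, h]
  ring

lemma coreflection_mem (D : Submodule R N) (i : ι) (hD : P.coroot i ∈ D) {y : N} (hy : y ∈ D) :
    P.coreflection i y ∈ D := by
  rw [RootPairing.coreflection_apply]
  exact sub_mem hy (Submodule.smul_mem _ _ hD)

lemma root'_coroot_self (i : ι) : P.root' i (P.coroot i) = 2 := P.root_coroot_two i

lemma polar_eq_of_invariant_on [IsDomain R] [CharZero R] (D : Submodule R N) (i : ι)
    (hD : P.coroot i ∈ D) (hi : ∀ y ∈ D, Q (P.coreflection i y) = Q y) :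
    ∀ y ∈ D, QuadraticMap.polar Q y (P.coroot i) = P.root' i y * Q (P.coroot i) := by
  have key : ∀ y ∈ D, P.root' i y ≠ 0 →
      QuadraticMap.polar Q y (P.coroot i) = P.root' i y * Q (P.coroot i) := by
    intro y hy hc
    have h1 := quad_coreflection Q P i y
    rw [hi y hy] at h1
    have h2 : P.root' i y * (P.root' i y * Q (P.coroot i) -
        QuadraticMap.polar Q y (P.coroot i)) = 0 := by linear_combination -h1
    rcases mul_eq_zero.mp h2 with h3 | h3
    · exact absurd h3 hc
    · exact (sub_eq_zero.mp h3).symm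
  intro y hy
  by_cases hc : P.root' i y = 0
  · have h2 : P.root' i (y + P.coroot i) ≠ 0 := by
      rw [map_add, hc, zero_add, root'_coroot_self]
      exact two_ne_zero
    have h3 := key (y + P.coroot i) (add_mem hy hD) h2
    rw [QuadraticMap.polar_add_left, QuadraticMap.polar_self, map_add, hc, zero_add,
      root'_coroot_self] at h3
    rw [hc, zero_mul]
    have h4 : (2 : ℕ) • Q (P.coroot i) = 2 * Q (P.coroot i) := by simp
    rw [h4] at h3
    linear_combination h3
  · exact key y hy hc

lemma polar_eq_of_invariant [IsDomain R] [CharZero R] (i : ι)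
    (hi : ∀ y, Q (P.coreflection i y) = Q y) (y : N) :
    QuadraticMap.polar Q y (P.coroot i) = P.root' i y * Q (P.coroot i) :=
  polar_eq_of_invariant_on Q P ⊤ i Submodule.mem_top (fun y _ => hi y) y Submodule.mem_top

/-- A linear form killing all coroots vanishes on any submodule which is, up to positive integer
multiples, inside the span of the coroots. -/
lemma linearForm_eq_zero_of_coroot [IsDomain R] [CharZero R] (D : Submodule R N)
    (hDsat : ∀ y ∈ D, ∃ n : ℕ, 0 < n ∧ n • y ∈ Submodule.span R (Set.range P.coroot))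
    (L : N →ₗ[R] R) (hL : ∀ i, L (P.coroot i) = 0) : ∀ d ∈ D, L d = 0 := by
  have h1 : Submodule.span R (Set.range P.coroot) ≤ LinearMap.ker L := by
    rw [Submodule.span_le]
    rintro _ ⟨i, rfl⟩
    exact hL i
  intro d hd
  obtain ⟨n, hn, hnd⟩ := hDsat d hd
  have h2 := h1 hnd
  rw [LinearMap.mem_ker, map_nsmul, nsmul_eq_mul] at h2
  rcases mul_eq_zero.mp h2 with h3 | h3
  · exact absurd (Nat.cast_eq_zero.mp h3) hn.ne'
  · exact h3

/-- Two quadratic forms invariant under all coreflections and agreeing on `D` have the same polar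
pairing against `D`. -/
lemma polar_eq_of_invariant_of_agree [IsDomain R] [CharZero R] (D : Submodule R N)
    (hD : ∀ i : ι, P.coroot i ∈ D)
    (hDsat : ∀ y ∈ D, ∃ n : ℕ, 0 < n ∧ n • y ∈ Submodule.span R (Set.range P.coroot))
    (Q₁ Q₂ : QuadraticMap R N R)
    (h₁ : ∀ (i : ι) (y : N), Q₁ (P.coreflection i y) = Q₁ y)
    (h₂ : ∀ (i : ι) (y : N), Q₂ (P.coreflection i y) = Q₂ y)
    (h : ∀ y ∈ D, Q₁ y = Q₂ y) (y : N) :
    ∀ d ∈ D, QuadraticMap.polar Q₁ y d = QuadraticMap.polar Q₂ y d := by
  intro d hd
  have := linearForm_eq_zero_of_coroot P D hDsat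
    (QuadraticMap.polarBilin Q₁ y - QuadraticMap.polarBilin Q₂ y) (fun i => by
      simp only [LinearMap.sub_apply, QuadraticMap.polarBilin_apply_apply]
      rw [polar_eq_of_invariant Q₁ P i (h₁ i), polar_eq_of_invariant Q₂ P i (h₂ i),
        h _ (hD i), sub_self]) d hd
  simpa [sub_eq_zero] using this

end Groth.Agent.Lib.Helper8
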