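import Mathlib.LinearAlgebra.RootSystem.BaseExists
import Mathlib.LinearAlgebra.RootSystem.Reduced
import Mathlib.LinearAlgebra.RootSystem.Finite.Nondegenerate

/-!
Helper library: the rational form of a finite crystallographic root pairing over a
characteristic-zero domain.  It is a root system over `ℚ` on the span of the rows of the
(full) Cartan matrix, with the same index type, the same reflection permutations and the same
Cartan integers.  As a root system over a field it has a base (Mathlib), which gives access to
"simple root" arguments for root pairings over arbitrary characteristic-zero domains.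
-/

set_option autoImplicit false
set_option linter.unusedSectionVars false
set_option linter.unusedSimpArgs false

open Set Function

namespace Groth.Agent.Lib.Helper8

variable {ι R M N : Type*} [CommRing R] [IsDomain R] [CharZero R] [AddCommGroup M] [Module R M]
  [AddCommGroup N] [Module R N] (P : RootPairing ι R M N) [Finite ι] [P.IsCrystallographic]

/-- The rational rows of the full Cartan matrix. -/
noncomputable def cartanRow (i : ι) : ι → ℚ := fun j => (P.pairingIn ℤ i j : ℚ)

lemma pairingIn_reflectionPerm_left (i j k : ι) :
    P.pairingIn ℤ (P.reflectionPerm i j) k =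
      P.pairingIn ℤ j k - P.pairingIn ℤ j i * P.pairingIn ℤ i k := by
  apply FaithfulSMul.algebraMap_injective ℤ R
  simp only [map_sub, map_mul, RootPairing.algebraMap_pairingIn]
  rw [← P.root_coroot_eq_pairing (P.reflectionPerm i j) k, ← P.reflectionPerm_root]
  simp only [map_sub, map_smul, LinearMap.sub_apply, LinearMap.smul_apply,
    RootPairing.root_coroot_eq_pairing, smul_eq_mul]

lemma pairingIn_reflectionPerm_right (i j k : ι) :
    P.pairingIn ℤ k (P.reflectionPerm i j) =
      P.pairingIn ℤ k j - P.pairingIn ℤ i j * P.pairingIn ℤ k i := by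
  apply FaithfulSMul.algebraMap_injective ℤ R
  simp only [map_sub, map_mul, RootPairing.algebraMap_pairingIn]
  rw [← P.root_coroot_eq_pairing k (P.reflectionPerm i j), ← P.reflectionPerm_coroot]
  simp only [map_sub, map_smul, LinearMap.sub_apply, LinearMap.smul_apply,
    RootPairing.root_coroot_eq_pairing, smul_eq_mul]

include P in
lemma isTorsionFree_left : Module.IsTorsionFree R M := by
  have : Module.IsReflexive R M := .of_isPerfPair P.toLinearMap
  infer_instance

lemma pairingIn_two_two {i j : ι} (h1 : P.pairingIn ℤ i j = 2) (h2 : P.pairingIn ℤ j i = 2) :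
    i = j := by
  have := isTorsionFree_left P
  exact (P.pairingIn_two_two_iff ℤ i j).mp ⟨h1, h2⟩

lemma cartanRow_apply (i j : ι) : cartanRow P i j = (P.pairingIn ℤ i j : ℚ) := rfl

lemma cartanRow_injective : Function.Injective (cartanRow P) := by
  intro i j h
  have h1 : P.pairingIn ℤ i j = 2 := by
    have := congrFun h j
    simp only [cartanRow_apply] at this
    have h2 : P.pairingIn ℤ i j = P.pairingIn ℤ j j := by exact_mod_cast this
    rw [h2, P.pairingIn_same]
  have h2 : P.pairingIn ℤ j i = 2 := by
    have := congrFun h i
    simp only [cartanRow_apply] at this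
    have h2 : P.pairingIn ℤ i i = P.pairingIn ℤ j i := by exact_mod_cast this
    rw [← h2, P.pairingIn_same]
  exact pairingIn_two_two P h1 h2

/-- The ambient space of the rational form. -/
noncomputable abbrev ratSpace : Submodule ℚ (ι → ℚ) := Submodule.span ℚ (Set.range (cartanRow P))

lemma span_ratRoot_eq_top :
    Submodule.span ℚ (Set.range fun k : ι => (⟨cartanRow P k,
      Submodule.subset_span ⟨k, rfl⟩⟩ : ratSpace P)) = ⊤ := by
  have h : (Set.range fun k : ι => (⟨cartanRow P k,
      Submodule.subset_span ⟨k, rfl⟩⟩ : ratSpace P)) =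
      ((↑) : ratSpace P → (ι → ℚ)) ⁻¹' (Set.range (cartanRow P)) := by
    ext x
    constructor
    · rintro ⟨k, rfl⟩
      exact ⟨k, rfl⟩
    · rintro ⟨k, hk⟩
      exact ⟨k, Subtype.ext hk⟩
  rw [h]
  exact Submodule.span_span_coe_preimage

/-- The rational form of `P`. -/
noncomputable def ratForm :
    RootPairing ι ℚ (ratSpace P) (Module.Dual ℚ (ratSpace P)) where
  toLinearMap := Module.Dual.eval ℚ (ratSpace P)
  root := ⟨fun i => ⟨cartanRow P i, Submodule.subset_span ⟨i, rfl⟩⟩, fun i j h =>
    cartanRow_injective P (congrArg Subtype.val h)⟩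
  coroot := ⟨fun j => (LinearMap.proj j).comp (ratSpace P).subtype, by
    intro j j' h
    have h1 : ∀ i, cartanRow P i j = cartanRow P i j' := fun i => by
      have := LinearMap.congr_fun h ⟨cartanRow P i, Submodule.subset_span ⟨i, rfl⟩⟩
      simpa using this
    have h2 : P.pairingIn ℤ j j' = 2 := by
      have := h1 j
      simp only [cartanRow_apply] at this
      have h3 : P.pairingIn ℤ j j = P.pairingIn ℤ j j' := by exact_mod_cast this
      rw [← h3, P.pairingIn_same]
    have h3 : P.pairingIn ℤ j' j = 2 := by
      have := h1 j'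
      simp only [cartanRow_apply] at this
      have h3 : P.pairingIn ℤ j' j = P.pairingIn ℤ j' j' := by exact_mod_cast this
      rw [h3, P.pairingIn_same]
    exact pairingIn_two_two P h2 h3⟩
  root_coroot_two := fun i => by
    show cartanRow P i i = 2
    rw [cartanRow_apply, P.pairingIn_same]
    norm_num
  reflectionPerm := P.reflectionPerm
  reflectionPerm_root := fun i j => by
    apply Subtype.ext
    funext k
    show cartanRow P j k - cartanRow P j i * cartanRow P i k = cartanRow P (P.reflectionPerm i j) k
    simp only [cartanRow_apply]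
    rw [pairingIn_reflectionPerm_left]
    push_cast
    ring
  reflectionPerm_coroot := fun i j => by
    apply LinearMap.ext_on_range (v := fun k : ι => (⟨cartanRow P k,
      Submodule.subset_span ⟨k, rfl⟩⟩ : ratSpace P))
    · exact span_ratRoot_eq_top P
    · intro k
      show cartanRow P k j - cartanRow P i j * cartanRow P k i = cartanRow P k (P.reflectionPerm i j)
      simp only [cartanRow_apply]
      rw [pairingIn_reflectionPerm_right]
      push_cast
      ring

@[simp] lemma ratForm_reflectionPerm : (ratForm P).reflectionPerm = P.reflectionPerm := rfl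

lemma ratForm_pairing (i j : ι) : (ratForm P).pairing i j = (P.pairingIn ℤ i j : ℚ) := rfl

instance ratForm_isCrystallographic : (ratForm P).IsCrystallographic :=
  ⟨fun i j => ⟨P.pairingIn ℤ i j, by rw [ratForm_pairing]; simp⟩⟩

lemma ratForm_pairingIn (i j : ι) : (ratForm P).pairingIn ℤ i j = P.pairingIn ℤ i j := by
  apply FaithfulSMul.algebraMap_injective ℤ ℚ
  rw [RootPairing.algebraMap_pairingIn, ratForm_pairing]
  simp

instance ratForm_isReduced [P.IsReduced] : (ratForm P).IsReduced := by
  have htf := isTorsionFree_left P
  refine ⟨fun i j h => ?_⟩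
  rw [← RootPairing.coxeterWeight_eq_four_iff_not_linearIndependent] at h
  have h4 : P.coxeterWeightIn ℤ i j = 4 := by
    have h1 : ((P.pairingIn ℤ i j : ℚ)) * (P.pairingIn ℤ j i : ℚ) = 4 := h
    show P.pairingIn ℤ i j * P.pairingIn ℤ j i = 4
    exact_mod_cast h1
  rw [RootPairing.coxeterWeightIn_eq_four_iff_not_linearIndependent] at h4
  rcases RootPairing.IsReduced.eq_or_eq_neg (P := P) i j h4 with h5 | h5
  · left
    rw [P.root.injective h5]
  · right
    rw [RootPairing.root_eq_neg_iff] at h5 ⊢
    exact h5

instance ratForm_isRootSystem : (ratForm P).IsRootSystem := by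
  have h1 : (ratForm P).rootSpan ℚ = ⊤ := span_ratRoot_eq_top P
  let _ := Fintype.ofFinite ι
  exact ⟨h1, (RootPairing.rootSpan_eq_top_iff _).mp h1⟩

theorem nonempty_ratBase [P.IsReduced] : Nonempty (ratForm P).Base :=
  RootPairing.nonempty_base _

/-- `ℤ`-linear relations among the coroots of `P` hold among the coroots of its rational form. -/
lemma ratForm_linearCombination_coroot_eq_zero (x : ι →₀ ℤ)
    (hx : Finsupp.linearCombination ℤ (fun i : ι => (P.coroot i : N)) x = 0) :
    Finsupp.linearCombination ℤ (fun i : ι => (ratForm P).coroot i) x = 0 := by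
  apply LinearMap.ext_on_range (span_ratRoot_eq_top P)
  intro k
  have h1 : P.toLinearMap (P.root k)
      (Finsupp.linearCombination ℤ (fun i : ι => (P.coroot i : N)) x) = 0 := by
    rw [hx, map_zero]
  rw [Finsupp.linearCombination_apply, Finsupp.sum, map_sum] at h1
  have h2 : ∑ i ∈ x.support, x i * P.pairingIn ℤ k i = 0 := by
    apply FaithfulSMul.algebraMap_injective ℤ R
    rw [map_sum, map_zero, ← h1]
    refine Finset.sum_congr rfl fun i _ => ?_
    rw [map_mul, RootPairing.algebraMap_pairingIn, map_zsmul, RootPairing.root_coroot_eq_pairing]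
    simp [zsmul_eq_mul]
  rw [Finsupp.linearCombination_apply, Finsupp.sum, LinearMap.sum_apply, LinearMap.zero_apply]
  have h3 : ∀ i ∈ x.support, (x i • (ratForm P).coroot i) (⟨cartanRow P k,
      Submodule.subset_span ⟨k, rfl⟩⟩ : ratSpace P) = ((x i * P.pairingIn ℤ k i : ℤ) : ℚ) := by
    intro i _
    rw [LinearMap.smul_apply]
    show x i • cartanRow P k i = _
    rw [cartanRow_apply]
    push_cast
    simp [zsmul_eq_mul]
  rw [Finset.sum_congr rfl h3, ← Int.cast_sum, h2, Int.cast_zero]

end Groth.Agent.Lib.Helper8
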