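import Groth.Prelude.Def_W4sga3xxiRoot
import Mathlib.LinearAlgebra.RootSystem.Finite.Lemmas
import Mathlib.LinearAlgebra.RootSystem.Finite.Nondegenerate
import Mathlib.LinearAlgebra.RootSystem.WeylGroup
import Mathlib.LinearAlgebra.RootSystem.Base
import Mathlib.Algebra.Category.Grp.Injective

/-!
Helper library for the `RootD` cluster (combinatorics of root data over `ℤ`): basic facts on
`natSpan`, linear functionals with prescribed values on a linearly independent set of roots,
and first consequences for systems of simple roots.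
-/

set_option autoImplicit false

open Set Function RootD

namespace Groth.Agent.Lib.Helper8

variable {ι M N : Type*} [AddCommGroup M] [AddCommGroup N] (P : RootPairing ι ℤ M N)

/-! ### Level 0 -/

lemma root_neg (i : ι) : P.root (P.reflectionPerm i i) = - P.root i := by
  simp

lemma neg_neg_idx (i : ι) :
    P.reflectionPerm (P.reflectionPerm i i) (P.reflectionPerm i i) = i := by
  apply P.root.injective
  rw [root_neg, root_neg, neg_neg]

lemma pairingIn_int (i j : ι) : P.pairingIn ℤ i j = P.pairing i j := by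
  simpa using P.algebraMap_pairingIn ℤ i j

include P in
lemma isAddTorsionFree : IsAddTorsionFree M := by
  have : Module.IsReflexive ℤ M := .of_isPerfPair P.toLinearMap
  exact .of_isTorsionFree ℤ M

include P in
lemma isAddTorsionFree' : IsAddTorsionFree N := by
  have : Module.IsReflexive ℤ N := .of_isPerfPair P.flip.toLinearMap
  exact .of_isTorsionFree ℤ N

lemma nsmul_root_ne_zero (k : ι) {n : ℕ} (hn : 0 < n) : n • P.root k ≠ 0 := by
  have := isAddTorsionFree P
  intro h
  have h2 : n • P.root k = n • (0 : M) := by simpa using h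
  exact P.ne_zero k (nsmul_right_injective hn.ne' h2)

section Fin
variable [Finite ι]

lemma sub_mem {i j : ι} (h : 0 < P.pairing i j) (hne : i ≠ j) :
    ∃ k, P.root k = P.root i - P.root j :=
  P.root_sub_root_mem_of_pairingIn_pos (i := i) (j := j) (by rwa [pairingIn_int]) hne

lemma add_mem {i j : ι} (h : P.pairing i j < 0) (hne : P.root i ≠ - P.root j) :
    ∃ k, P.root k = P.root i + P.root j :=
  P.root_add_root_mem_of_pairingIn_neg (i := i) (j := j) (by rwa [pairingIn_int]) hne

lemma pairing_pos_iff (i j : ι) : 0 < P.pairing i j ↔ 0 < P.pairing j i := by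
  have := P.zero_lt_pairingIn_iff' ℤ (i := i) (j := j)
  rwa [pairingIn_int, pairingIn_int] at this

lemma pairing_neg_iff (i j : ι) : P.pairing i j < 0 ↔ P.pairing j i < 0 := by
  have := P.pairingIn_lt_zero_iff ℤ (i := i) (j := j)
  rwa [pairingIn_int, pairingIn_int] at this

lemma pairing_eq_zero_iff' (i j : ι) : P.pairing i j = 0 ↔ P.pairing j i = 0 := by
  have h1 := pairing_pos_iff P i j
  have h2 := pairing_neg_iff P i j
  omega

end Fin

/-! ### `natSpan` -/

lemma root_mem_natSpan {S : Set ι} {i : ι} (h : i ∈ S) : P.root i ∈ natSpan P S :=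
  AddSubmonoid.subset_closure (mem_image_of_mem _ h)

lemma natSpan_mono {S T : Set ι} (h : S ⊆ T) : natSpan P S ≤ natSpan P T :=
  AddSubmonoid.closure_mono (image_mono h)

lemma natSpan_le {S : Set ι} {A : AddSubmonoid M} (h : ∀ i ∈ S, P.root i ∈ A) :
    natSpan P S ≤ A := by
  refine AddSubmonoid.closure_le.mpr ?_
  rintro _ ⟨i, hi, rfl⟩
  exact h i hi

lemma subset_posOf (Δ : Set ι) : Δ ⊆ posOf P Δ := fun _ hi => root_mem_natSpan P hi

lemma natSpan_posOf (Δ : Set ι) : natSpan P (posOf P Δ) = natSpan P Δ :=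
  le_antisymm (natSpan_le P fun _ hi => hi) (natSpan_mono P (subset_posOf P Δ))

lemma natSpan_le_span (S : Set ι) {x : M} (hx : x ∈ natSpan P S) :
    x ∈ Submodule.span ℤ (P.root '' S) := by
  induction hx using AddSubmonoid.closure_induction with
  | mem x hx => exact Submodule.subset_span hx
  | zero => exact Submodule.zero_mem _
  | add x y _ _ hx hy => exact Submodule.add_mem _ hx hy

section Functional

variable {G : Type*} [AddCommGroup G] [PartialOrder G] [IsOrderedAddMonoid G]

lemma nonneg_of_mem_natSpan (φ : M →+ G) {S : Set ι} (h : ∀ i ∈ S, 0 ≤ φ (P.root i)) {x : M}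
    (hx : x ∈ natSpan P S) : 0 ≤ φ x := by
  induction hx using AddSubmonoid.closure_induction with
  | mem x hx => obtain ⟨i, hi, rfl⟩ := hx; exact h i hi
  | zero => simp
  | add x y _ _ hx hy => rw [map_add]; exact add_nonneg hx hy

lemma eq_zero_or_pos_of_mem_natSpan (φ : M →+ G) {S : Set ι} (h : ∀ i ∈ S, 0 < φ (P.root i))
    {x : M} (hx : x ∈ natSpan P S) : x = 0 ∨ 0 < φ x := by
  induction hx using AddSubmonoid.closure_induction with
  | mem x hx => obtain ⟨i, hi, rfl⟩ := hx; exact Or.inr (h i hi)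
  | zero => exact Or.inl rfl
  | add x y _ _ hx hy =>
    rcases hx with rfl | hx
    · simpa using hy
    · rcases hy with rfl | hy
      · right; simpa using hx
      · right; rw [map_add]; exact add_pos hx hy

omit [PartialOrder G] [IsOrderedAddMonoid G] in
lemma eq_zero_of_mem_natSpan (φ : M →+ G) {S : Set ι} (h : ∀ i ∈ S, φ (P.root i) = 0)
    {x : M} (hx : x ∈ natSpan P S) : φ x = 0 := by
  induction hx using AddSubmonoid.closure_induction with
  | mem x hx => obtain ⟨i, hi, rfl⟩ := hx; exact h i hi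
  | zero => simp
  | add x y _ _ hx hy => rw [map_add, hx, hy, add_zero]

lemma exists_nat_of_mem_natSpan (φ : M →+ ℚ) {S : Set ι}
    (h : ∀ i ∈ S, ∃ n : ℕ, φ (P.root i) = n) {x : M} (hx : x ∈ natSpan P S) :
    ∃ n : ℕ, φ x = n := by
  induction hx using AddSubmonoid.closure_induction with
  | mem x hx => obtain ⟨i, hi, rfl⟩ := hx; exact h i hi
  | zero => exact ⟨0, by simp⟩
  | add x y _ _ hx hy =>
    obtain ⟨a, ha⟩ := hx
    obtain ⟨b, hb⟩ := hy
    exact ⟨a + b, by rw [map_add, ha, hb]; push_cast; rfl⟩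

end Functional

/-- A `ℚ`-valued additive functional with prescribed values on a linearly independent set of
roots (`ℚ` is divisible, hence injective as an abelian group). -/
lemma exists_functional {Δ : Set ι} (h : LinearIndepOn ℤ P.root Δ) (w : ι → ℚ) :
    ∃ φ : M →+ ℚ, ∀ i ∈ Δ, φ (P.root i) = w i := by
  let v : Δ → M := fun i => P.root i
  have hv : LinearIndependent ℤ v := h
  let g : Submodule.span ℤ (Set.range v) →ₗ[ℤ] ℚ :=
    (Finsupp.linearCombination ℤ (fun i : Δ => w i)) ∘ₗ hv.repr
  obtain ⟨φ, hφ⟩ := (Module.Baer.of_divisible ℚ).extension_property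
    (Submodule.subtype _) (Submodule.subtype_injective _) g
  refine ⟨φ.toAddMonoidHom, fun i hi => ?_⟩
  have h1 : φ (P.root i) = g ⟨v ⟨i, hi⟩, Submodule.subset_span (Set.mem_range_self _)⟩ := by
    rw [← hφ]; rfl
  have h2 := hv.repr_eq_single ⟨i, hi⟩
    ⟨v ⟨i, hi⟩, Submodule.subset_span (Set.mem_range_self _)⟩ rfl
  show φ (P.root i) = w i
  rw [h1]
  simp [g, h2]

/-- Height functional of a linearly independent set: value `1` on each of its roots. -/
lemma exists_height {Δ : Set ι} (h : LinearIndepOn ℤ P.root Δ) :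
    ∃ φ : M →+ ℚ, ∀ i ∈ Δ, φ (P.root i) = 1 :=
  exists_functional P h fun _ => 1

/-- Coordinate functional of a linearly independent set at `l`. -/
lemma exists_coord {Δ : Set ι} (h : LinearIndepOn ℤ P.root Δ) {l : ι} (hl : l ∈ Δ) :
    ∃ φ : M →+ ℚ, φ (P.root l) = 1 ∧ ∀ i ∈ Δ, i ≠ l → φ (P.root i) = 0 := by
  classical
  obtain ⟨φ, hφ⟩ := exists_functional P h fun i => if i = l then 1 else 0
  refine ⟨φ, by simpa using hφ l hl, fun i hi hne => ?_⟩
  simpa [hne] using hφ i hi

/-! ### Systems of simple roots: first consequences -/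

section Simple

variable {P} {Δ : Set ι}

lemma simple_eq_zero_of_mem_of_neg_mem (hΔ : IsSimpleSys P Δ) {x : M}
    (hx : x ∈ natSpan P Δ) (hx' : -x ∈ natSpan P Δ) : x = 0 := by
  obtain ⟨φ, hφ⟩ := exists_height P hΔ.linInd
  have hpos : ∀ i ∈ Δ, 0 < φ (P.root i) := fun i hi => by rw [hφ i hi]; exact one_pos
  rcases eq_zero_or_pos_of_mem_natSpan P φ hpos hx with h | h
  · exact h
  · rcases eq_zero_or_pos_of_mem_natSpan P φ hpos hx' with h' | h'
    · simpa using h'
    · rw [map_neg] at h'
      linarith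

lemma simple_posOf_disjoint (hΔ : IsSimpleSys P Δ) {k : ι} (hk : k ∈ posOf P Δ) :
    P.reflectionPerm k k ∉ posOf P Δ := by
  intro hk'
  have h2 : -P.root k ∈ natSpan P Δ := by
    have : P.root (P.reflectionPerm k k) ∈ natSpan P Δ := hk'
    rwa [root_neg] at this
  exact P.ne_zero k (simple_eq_zero_of_mem_of_neg_mem hΔ hk h2)

lemma simple_posOf_cover (hΔ : IsSimpleSys P Δ) (k : ι) :
    k ∈ posOf P Δ ∨ P.reflectionPerm k k ∈ posOf P Δ := by
  rcases hΔ.mem_or_neg_mem k with h | h
  · exact Or.inl h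
  · right
    show P.root (P.reflectionPerm k k) ∈ natSpan P Δ
    rwa [root_neg]

lemma simple_isPosSys_posOf (hΔ : IsSimpleSys P Δ) : IsPosSys P (posOf P Δ) where
  disjoint := fun _ hk => simple_posOf_disjoint hΔ hk
  cover := simple_posOf_cover hΔ
  sat := by
    intro k n hn hk
    rw [natSpan_posOf] at hk
    rcases hΔ.mem_or_neg_mem k with h | h
    · exact h
    · exfalso
      have h2 : -(n • P.root k) ∈ natSpan P Δ := by
        rw [← smul_neg]
        exact AddSubmonoid.nsmul_mem _ h n
      exact nsmul_root_ne_zero P k hn (simple_eq_zero_of_mem_of_neg_mem hΔ hk h2)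

lemma pos_closed {S : Set ι} (hS : IsPosSys P S) : IsClosedSub P S := by
  intro i j k hi hj hk
  refine hS.sat 1 one_pos ?_
  rw [one_smul, hk]
  exact AddSubmonoid.add_mem _ (root_mem_natSpan P hi) (root_mem_natSpan P hj)

lemma pos_neg_mem_of_notMem {S : Set ι} (hS : IsPosSys P S) {k : ι} (hk : k ∉ S) :
    P.reflectionPerm k k ∈ S := (hS.cover k).resolve_left hk

lemma pos_notMem_of_neg_mem {S : Set ι} (hS : IsPosSys P S) {k : ι}
    (hk : P.reflectionPerm k k ∈ S) : k ∉ S := by
  intro h
  exact hS.disjoint h hk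

/-- A system of positive roots containing a simple system is its set of positive roots. -/
lemma simple_eq_posOf_of_subset (hΔ : IsSimpleSys P Δ) {S : Set ι} (hS : IsPosSys P S)
    (h : Δ ⊆ S) : S = posOf P Δ := by
  have h1 : posOf P Δ ⊆ S := by
    intro k hk
    refine hS.sat 1 one_pos ?_
    rw [one_smul]
    exact natSpan_mono P h hk
  refine Set.Subset.antisymm ?_ h1
  intro k hk
  by_contra hk'
  have := (simple_posOf_cover hΔ k).resolve_left hk'
  exact hS.disjoint hk (h1 this)

/-- For a simple system, a coordinate functional: natural-number values on `natSpan`. -/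
lemma simple_exists_coord (hΔ : IsSimpleSys P Δ) {l : ι} (hl : l ∈ Δ) :
    ∃ φ : M →+ ℚ, φ (P.root l) = 1 ∧ (∀ i ∈ Δ, i ≠ l → φ (P.root i) = 0) ∧
      (∀ x ∈ natSpan P Δ, ∃ n : ℕ, φ x = n) := by
  classical
  obtain ⟨φ, h1, h2⟩ := Helper8.exists_coord P hΔ.linInd hl
  refine ⟨φ, h1, h2, fun x hx => ?_⟩
  refine exists_nat_of_mem_natSpan P φ (fun i hi => ?_) hx
  by_cases hil : i = l
  · exact ⟨1, by rw [hil, h1]; simp⟩
  · exact ⟨0, by rw [h2 i hi hil]; simp⟩

end Simple

end Groth.Agent.Lib.Helper8
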