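import Groth.Agent.Lib.Helper8Root8

/-!
Helper library for the `RootD` cluster, part 9: orthogonality, partitions of the roots into closed
symmetric subsets, decomposition of a simple system into mutually orthogonal parts.
-/

set_option autoImplicit false

open Set Function RootD

namespace Groth.Agent.Lib.Helper8

variable {ι M N : Type*} [AddCommGroup M] [AddCommGroup N] {P : RootPairing ι ℤ M N}

lemma nonorth_neg (a : ι) : ¬ P.IsOrthogonal a (P.reflectionPerm a a) := by
  intro h
  have := h.1
  simp at this

lemma orth_neg_right {a c : ι} (h : P.IsOrthogonal a c) :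
    P.IsOrthogonal a (P.reflectionPerm c c) := by
  refine ⟨?_, ?_⟩
  · rw [RootPairing.pairing_reflectionPerm_self_right, h.1, neg_zero]
  · rw [RootPairing.pairing_reflectionPerm_self_left, h.2, neg_zero]

lemma orth_neg_left {a c : ι} (h : P.IsOrthogonal a c) :
    P.IsOrthogonal (P.reflectionPerm a a) c := (orth_neg_right h.symm).symm

variable [Finite ι]

lemma orth_of_pairing_eq_zero {a c : ι} (h : P.pairing a c = 0) : P.IsOrthogonal a c :=
  ⟨h, (pairing_eq_zero_iff' P a c).mp h⟩

lemma nonorth_of_add {a b k : ι} (hk : P.root k = P.root a + P.root b) :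
    ¬ P.IsOrthogonal a k ∨ ¬ P.IsOrthogonal b k := by
  let _ := Fintype.ofFinite ι
  have h1 := rootForm_root_pos P k
  have h2 : P.RootForm (P.root k) (P.root k) =
      P.RootForm (P.root k) (P.root a) + P.RootForm (P.root k) (P.root b) := by
    have : P.RootForm (P.root k) (P.root a + P.root b) =
      P.RootForm (P.root k) (P.root a) + P.RootForm (P.root k) (P.root b) := map_add _ _ _
    rw [← this, ← hk]
  by_contra hcon
  push Not at hcon
  have ha : P.RootForm (P.root k) (P.root a) = 0 := by
    have := two_mul_rootForm P k a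
    rw [hcon.1.2] at this
    linarith
  have hb : P.RootForm (P.root k) (P.root b) = 0 := by
    have := two_mul_rootForm P k b
    rw [hcon.2.2] at this
    linarith
  linarith

/-- A symmetric set of roots orthogonal to its complement is closed, and so is its complement. -/
lemma closedSymm_of_orth {A : Set ι} (hsymm : IsSymmSub P A)
    (horth : ∀ a ∈ A, ∀ c ∉ A, P.IsOrthogonal a c) :
    IsClosedSub P A ∧ IsSymmSub P A ∧ IsClosedSub P Aᶜ ∧ IsSymmSub P Aᶜ := by
  refine ⟨?_, hsymm, ?_, ?_⟩
  · intro a b k ha hb hk
    by_contra hkA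
    rcases nonorth_of_add hk with h | h
    · exact h (horth a ha k hkA)
    · exact h (horth b hb k hkA)
  · intro a b k ha hb hk hkA
    rcases nonorth_of_add hk with h | h
    · exact h (horth k hkA a ha).symm
    · exact h (horth k hkA b hb).symm
  · intro a ha hna
    apply ha
    have := hsymm hna
    rwa [neg_neg_idx] at this

omit [Finite ι] in
/-- In a partition of the roots into closed symmetric subsets, whenever `α, β, α + β` are roots
they lie in the same part. -/
lemma same_part_of_add {R' : Set ι} (hc : IsClosedSub P R') (hs : IsSymmSub P R')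
    (hc' : IsClosedSub P R'ᶜ) (hs' : IsSymmSub P R'ᶜ) {i j k : ι}
    (h : P.root k = P.root i + P.root j) :
    (i ∈ R' ∧ j ∈ R' ∧ k ∈ R') ∨ (i ∉ R' ∧ j ∉ R' ∧ k ∉ R') := by
  by_cases hi : i ∈ R'
  · left
    have hj : j ∈ R' := by
      by_contra hj
      by_cases hk : k ∈ R'
      · refine hj (hc hk (hs hi) ?_)
        rw [root_neg, h]; abel
      · have : i ∈ R'ᶜ := hc' hk (hs' hj) (by rw [root_neg, h]; abel)
        exact this hi
    exact ⟨hi, hj, hc hi hj h⟩
  · right
    have hj : j ∉ R' := by
      intro hj
      by_cases hk : k ∈ R'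
      · have : i ∈ R' := hc hk (hs hj) (by rw [root_neg, h]; abel)
        exact hi this
      · have : j ∈ R'ᶜ := hc' hk (hs' hi) (by rw [root_neg, h]; abel)
        exact this hj
    exact ⟨hi, hj, hc' hi hj h⟩

/-- In a partition of the roots into closed symmetric subsets, the two parts are orthogonal. -/
lemma orth_of_closedSymm {R' : Set ι} (hc : IsClosedSub P R') (hs : IsSymmSub P R')
    (hc' : IsClosedSub P R'ᶜ) (hs' : IsSymmSub P R'ᶜ) {i j : ι} (hi : i ∈ R') (hj : j ∉ R') :
    P.IsOrthogonal i j := by
  by_contra hij
  apply hj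
  by_cases hij' : i = j
  · exact hij' ▸ hi
  have hpair : P.pairing i j ≠ 0 := fun h0 => hij (orth_of_pairing_eq_zero h0)
  rcases lt_or_gt_of_ne hpair with hneg | hpos
  · by_cases hn : P.root i = - P.root j
    · have : j = P.reflectionPerm i i := by
        apply P.root.injective
        rw [root_neg, hn, neg_neg]
      rw [this]
      exact hs hi
    · obtain ⟨k, hk⟩ := add_mem P hneg hn
      rcases same_part_of_add hc hs hc' hs' hk with h | h
      · exact h.2.1
      · exact absurd hi h.1
  · obtain ⟨k, hk⟩ := sub_mem P hpos hij'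
    rcases same_part_of_add hc hs hc' hs' (i := k) (j := j) (k := i) (by rw [hk]; abel) with h | h
    · exact h.2.1
    · exact absurd hi h.2.2

/-- The class of a root under chains of non-orthogonal roots, together with its complement,
is closed and symmetric. -/
lemma class_closedSymm (i : ι) :
    IsClosedSub P {j : ι | Relation.ReflTransGen (fun a b : ι => ¬ P.IsOrthogonal a b) i j} ∧
      IsSymmSub P {j : ι | Relation.ReflTransGen (fun a b : ι => ¬ P.IsOrthogonal a b) i j} ∧
      IsClosedSub P {j : ι | Relation.ReflTransGen (fun a b : ι => ¬ P.IsOrthogonal a b) i j}ᶜ ∧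
      IsSymmSub P {j : ι | Relation.ReflTransGen (fun a b : ι => ¬ P.IsOrthogonal a b) i j}ᶜ := by
  refine closedSymm_of_orth ?_ ?_
  · intro a ha
    exact Relation.ReflTransGen.tail ha (nonorth_neg a)
  · intro a ha c hc
    by_contra hac
    exact hc (Relation.ReflTransGen.tail ha hac)

/-- An irreducible set of roots is connected for non-orthogonality. -/
lemma connected_of_irr
    (hirr : ∀ R' : Set ι, IsClosedSub P R' → IsSymmSub P R' → IsClosedSub P R'ᶜ →
      IsSymmSub P R'ᶜ → R' = ∅ ∨ R' = Set.univ) (i j : ι) :
    Relation.ReflTransGen (fun a b : ι => ¬ P.IsOrthogonal a b) i j := by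
  obtain ⟨h1, h2, h3, h4⟩ := class_closedSymm (P := P) i
  rcases hirr _ h1 h2 h3 h4 with h | h
  · have : i ∈ {j : ι | Relation.ReflTransGen (fun a b : ι => ¬ P.IsOrthogonal a b) i j} :=
      Relation.ReflTransGen.refl
    rw [h] at this
    exact absurd this (Set.notMem_empty i)
  · have : j ∈ (Set.univ : Set ι) := Set.mem_univ j
    rw [← h] at this
    exact this

end Groth.Agent.Lib.Helper8
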