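import Groth.Agent.Lib.Helper8Root

/-!
Helper library for the `RootD` cluster, part 2: closed sets of roots containing no root together
with its opposite generate a pointed cone (no non-trivial vanishing sum); systems of positive roots
and their simple roots.
-/

set_option autoImplicit false

open Set Function RootD

namespace Groth.Agent.Lib.Helper8

variable {ι M N : Type*} [AddCommGroup M] [AddCommGroup N] (P : RootPairing ι ℤ M N)

/-! ### The canonical form -/

section Form
variable [Fintype ι]

lemma rootForm_root_pos (j : ι) : 0 < P.RootForm (P.root j) (P.root j) := by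
  obtain ⟨s, hs, h⟩ := (P.posRootForm ℤ).exists_pos_eq j
  have : P.RootForm (P.root j) (P.root j) = s := by
    have h' : (P.posRootForm ℤ).form (P.root j) (P.root j) = s := by simpa using h.symm
    exact h'
  rw [this]; exact hs

lemma two_mul_rootForm (i j : ι) :
    2 * P.RootForm (P.root i) (P.root j) = P.pairing i j * P.RootForm (P.root j) (P.root j) :=
  (P.posRootForm ℤ).two_mul_apply_root_root i j

lemma rootForm_neg_iff (i j : ι) : P.RootForm (P.root i) (P.root j) < 0 ↔ P.pairing i j < 0 := by
  have h1 := two_mul_rootForm P i j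
  have h2 := rootForm_root_pos P j
  constructor
  · intro h
    by_contra hc
    rw [not_lt] at hc
    have := mul_nonneg hc h2.le
    linarith
  · intro h
    have := mul_neg_of_neg_of_pos h h2
    linarith

lemma rootForm_nonpos_of_pairing (i j : ι) (h : P.pairing i j ≤ 0) :
    P.RootForm (P.root i) (P.root j) ≤ 0 := by
  have h1 := two_mul_rootForm P i j
  have h2 := rootForm_root_pos P j
  have := mul_nonpos_of_nonpos_of_nonneg h h2.le
  linarith

lemma rootForm_pos_iff (i j : ι) : 0 < P.RootForm (P.root i) (P.root j) ↔ 0 < P.pairing i j := by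
  have h1 := two_mul_rootForm P i j
  have h2 := rootForm_root_pos P j
  constructor
  · intro h
    by_contra hc
    rw [not_lt] at hc
    have := mul_nonpos_of_nonpos_of_nonneg hc h2.le
    linarith
  · intro h
    have := mul_pos h h2
    linarith

lemma rootForm_sum_list (x : M) (l : List ι) :
    P.RootForm x (l.map P.root).sum = (l.map fun j => P.RootForm x (P.root j)).sum := by
  induction l with
  | nil => simp
  | cons a l ih => simp [ih]

end Form

/-! ### No vanishing sums -/

lemma exists_list_of_mem_natSpan {S : Set ι} {x : M} (hx : x ∈ natSpan P S) :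
    ∃ l : List ι, (∀ i ∈ l, i ∈ S) ∧ (l.map P.root).sum = x := by
  induction hx using AddSubmonoid.closure_induction with
  | mem x hx =>
    obtain ⟨i, hi, rfl⟩ := hx
    exact ⟨[i], by simpa using hi, by simp⟩
  | zero => exact ⟨[], by simp, by simp⟩
  | add x y _ _ hx hy =>
    obtain ⟨l, hl, rfl⟩ := hx
    obtain ⟨l', hl', rfl⟩ := hy
    refine ⟨l ++ l', ?_, by simp⟩
    intro i hi
    rcases List.mem_append.mp hi with h | h
    · exact hl i h
    · exact hl' i h

lemma list_sum_mem_natSpan {S : Set ι} (l : List ι) (hl : ∀ i ∈ l, i ∈ S) :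
    (l.map P.root).sum ∈ natSpan P S := by
  induction l with
  | nil => simp
  | cons a l ih =>
    simp only [List.map_cons, List.sum_cons]
    refine AddSubmonoid.add_mem _ (root_mem_natSpan P (hl a (by simp))) (ih fun i hi => hl i ?_)
    simp [hi]

variable [Finite ι]

/-- In a closed set of roots containing no root together with its opposite, no non-empty sum
of roots vanishes. -/
lemma no_zero_sum {S : Set ι} (hcl : IsClosedSub P S)
    (hdis : ∀ i ∈ S, P.reflectionPerm i i ∉ S) :
    ∀ (n : ℕ) (l : List ι), l.length = n → (∀ i ∈ l, i ∈ S) → l ≠ [] → (l.map P.root).sum ≠ 0 := by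
  classical
  let _ := Fintype.ofFinite ι
  intro n
  induction n with
  | zero =>
    intro l hl _ hne
    exact absurd (List.length_eq_zero_iff.mp hl) hne
  | succ n ih =>
    intro l hlen hl _ hsum
    match l, hlen, hl, hsum with
    | i :: l', hlen, hl, hsum =>
      have hi : i ∈ S := hl i (by simp)
      have hl' : ∀ j ∈ l', j ∈ S := fun j hj => hl j (by simp [hj])
      simp only [List.map_cons, List.sum_cons] at hsum
      have hs' : (l'.map P.root).sum = - P.root i := by
        rw [eq_neg_iff_add_eq_zero, add_comm]; exact hsum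
      have hB : (l'.map fun j => P.RootForm (P.root i) (P.root j)).sum < 0 := by
        rw [← rootForm_sum_list, hs', map_neg]
        have := rootForm_root_pos P i
        linarith
      have hex : ∃ j ∈ l', P.RootForm (P.root i) (P.root j) < 0 := by
        by_contra hcon
        push Not at hcon
        have : 0 ≤ (l'.map fun j => P.RootForm (P.root i) (P.root j)).sum := by
          apply List.sum_nonneg
          intro x hx
          obtain ⟨j, hj, rfl⟩ := List.mem_map.mp hx
          exact hcon j hj
        linarith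
      obtain ⟨j, hj, hBj⟩ := hex
      have hjS : j ∈ S := hl' j hj
      have hpair : P.pairing i j < 0 := (rootForm_neg_iff P i j).mp hBj
      have hne : P.root i ≠ - P.root j := by
        intro h
        have : i = P.reflectionPerm j j := P.root.injective (by rw [root_neg]; exact h)
        exact hdis j hjS (this ▸ hi)
      obtain ⟨k, hk⟩ := add_mem P hpair hne
      have hkS : k ∈ S := hcl hi hjS hk
      have hlen' : (k :: l'.erase j).length = n := by
        simp only [List.length_cons, List.length_erase_of_mem hj]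
        simp only [List.length_cons] at hlen
        have : 0 < l'.length := List.length_pos_of_mem hj
        omega
      refine ih (k :: l'.erase j) hlen' ?_ (by simp) ?_
      · intro m hm
        rcases List.mem_cons.mp hm with rfl | hm
        · exact hkS
        · exact hl' m (List.mem_of_mem_erase hm)
      · simp only [List.map_cons, List.sum_cons, hk]
        have := List.sum_map_erase P.root hj
        rw [add_assoc, this]
        exact hsum

/-- The cone spanned by a closed set of roots containing no root with its opposite is pointed. -/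
lemma pointed_of_closed {S : Set ι} (hcl : IsClosedSub P S)
    (hdis : ∀ i ∈ S, P.reflectionPerm i i ∉ S) {x : M} (hx : x ∈ natSpan P S)
    (hx' : -x ∈ natSpan P S) : x = 0 := by
  obtain ⟨l, hl, rfl⟩ := exists_list_of_mem_natSpan P hx
  obtain ⟨l', hl', h'⟩ := exists_list_of_mem_natSpan P hx'
  by_contra hne
  have hlne : l ≠ [] := by
    rintro rfl
    simp at hne
  refine no_zero_sum P hcl hdis _ (l ++ l') rfl ?_ (by simp [hlne]) ?_
  · intro i hi
    rcases List.mem_append.mp hi with h | h
    · exact hl i h
    · exact hl' i h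
  · simp [h']

/-! ### Linear independence of obtuse families spanning a pointed cone -/

omit [Finite ι] in
lemma zsmul_root_mem_natSpan {Δ : Set ι} {i : ι} (hi : i ∈ Δ) {a : ℤ} (ha : 0 ≤ a) :
    a • P.root i ∈ natSpan P Δ := by
  obtain ⟨n, rfl⟩ := Int.eq_ofNat_of_zero_le ha
  rw [natCast_zsmul]
  exact AddSubmonoid.nsmul_mem _ (root_mem_natSpan P hi) n

omit [Finite ι] in
lemma sum_pos_part_mem_natSpan {Δ : Set ι} (s : Finset Δ) (c : Δ → ℤ) :
    ∑ i ∈ s with 0 < c i, c i • P.root i ∈ natSpan P Δ := by
  classical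
  refine AddSubmonoid.sum_mem _ fun i hi => ?_
  exact zsmul_root_mem_natSpan P i.2 (le_of_lt (Finset.mem_filter.mp hi).2)

lemma linInd_of_pointed {Δ : Set ι}
    (hp : ∀ x : M, x ∈ natSpan P Δ → -x ∈ natSpan P Δ → x = 0)
    (hn : ∀ i ∈ Δ, ∀ j ∈ Δ, i ≠ j → P.pairing i j ≤ 0) : LinearIndepOn ℤ P.root Δ := by
  classical
  let _ := Fintype.ofFinite ι
  show LinearIndependent ℤ (fun i : Δ => P.root i)
  refine linearIndependent_iff'.mpr fun s c hc => ?_
  -- key step: a vanishing positive part forces non-positive coefficients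
  have H : ∀ c' : Δ → ℤ, (∑ i ∈ s with 0 < c' i, c' i • P.root (i : ι)) = 0 →
      ∀ i ∈ s, c' i ≤ 0 := by
    intro c' h i hi
    by_contra hpos
    rw [not_le] at hpos
    have hit : i ∈ s.filter (fun i => 0 < c' i) := Finset.mem_filter.mpr ⟨hi, hpos⟩
    rw [← Finset.add_sum_erase _ _ hit] at h
    have h1 : c' i • P.root (i : ι) ∈ natSpan P Δ := zsmul_root_mem_natSpan P i.2 hpos.le
    have h2 : -(c' i • P.root (i : ι)) ∈ natSpan P Δ := by
      have : -(c' i • P.root (i : ι)) =
          ∑ j ∈ (s.filter (fun i => 0 < c' i)).erase i, c' j • P.root (j : ι) := by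
        rw [neg_eq_iff_add_eq_zero]
        exact h
      rw [this]
      refine AddSubmonoid.sum_mem _ fun j hj => ?_
      exact zsmul_root_mem_natSpan P j.2
        (le_of_lt (Finset.mem_filter.mp (Finset.mem_of_mem_erase hj)).2)
    have h3 := hp _ h1 h2
    obtain ⟨n, hn'⟩ := Int.eq_ofNat_of_zero_le hpos.le
    rw [hn', natCast_zsmul] at h3
    have hn0 : 0 < n := by
      rw [hn'] at hpos
      exact_mod_cast hpos
    exact nsmul_root_ne_zero P _ hn0 h3
  set x := ∑ i ∈ s with 0 < c i, c i • P.root (i : ι) with hx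
  set y := ∑ i ∈ s with 0 < -c i, (-c i) • P.root (i : ι) with hy
  have hxy : x = y := by
    simp_rw [hx, hy, neg_smul, Finset.sum_neg_distrib, ← add_eq_zero_iff_eq_neg]
    rw [← hc, ← Finset.sum_union, Finset.sum_subset]
    · grind only [= Finset.subset_iff, = Finset.mem_union, = Finset.mem_filter]
    · simp +contextual [eq_comm (a := (0 : ℤ))]
    · grind only [Finset.disjoint_filter]
  have hxmem : x ∈ P.rootSpan ℤ := by
    have h1 : x ∈ natSpan P Δ := sum_pos_part_mem_natSpan P s c
    have h2 := natSpan_le_span P Δ h1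
    exact Submodule.span_mono (Set.image_subset_range _ _) h2
  have hBxy : P.RootForm x y ≤ 0 := by
    rw [hx, hy]
    simp only [map_sum, LinearMap.sum_apply, map_smul, LinearMap.smul_apply, smul_eq_mul,
      Finset.mul_sum]
    refine Finset.sum_nonpos fun j hj => Finset.sum_nonpos fun i hi => ?_
    have hi' := (Finset.mem_filter.mp hi).2
    have hj' := (Finset.mem_filter.mp hj).2
    have hne : (i : ι) ≠ (j : ι) := by
      intro h
      have : i = j := Subtype.ext h
      rw [this] at hi'
      linarith
    have hB := rootForm_nonpos_of_pairing P i j (hn i i.2 j j.2 hne)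
    have : 0 ≤ c i * -c j := mul_nonneg hi'.le hj'.le
    nlinarith
  have hx0 : x = 0 := by
    apply P.eq_zero_of_mem_rootSpan_of_rootForm_self_eq_zero hxmem
    have h1 := P.zero_le_rootForm x
    have h2 : P.RootForm x x ≤ 0 := by
      conv_lhs => rw [show P.RootForm x x = P.RootForm x y by rw [← hxy]]
      exact hBxy
    exact le_antisymm h2 h1
  have hy0 : y = 0 := hxy ▸ hx0
  intro i hi
  have h1 := H c hx0 i hi
  have h2 := H (fun i => -c i) hy0 i hi
  linarith

/-! ### Weak positive systems and their simple roots -/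

/-- (P 1), (P 2) and closedness. -/
structure WeakPos (S : Set ι) : Prop where
  disjoint : ∀ ⦃i : ι⦄, i ∈ S → P.reflectionPerm i i ∉ S
  cover : ∀ i : ι, i ∈ S ∨ P.reflectionPerm i i ∈ S
  closed : IsClosedSub P S

/-- The indecomposable elements of a set of roots. -/
def simpleOf (S : Set ι) : Set ι :=
  {k | k ∈ S ∧ ∀ i ∈ S, ∀ j ∈ S, P.root k ≠ P.root i + P.root j}

variable {P}

omit [Finite ι] in
lemma pos_weakPos {S : Set ι} (hS : IsPosSys P S) : WeakPos P S :=
  ⟨hS.disjoint, hS.cover, pos_closed hS⟩

omit [Finite ι] in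
lemma simpleOf_subset (S : Set ι) : simpleOf P S ⊆ S := fun _ h => h.1

lemma weakPos_pointed {S : Set ι} (hS : WeakPos P S) {x : M} (hx : x ∈ natSpan P S)
    (hx' : -x ∈ natSpan P S) : x = 0 :=
  pointed_of_closed P hS.closed (fun _ hi => hS.disjoint hi) hx hx'

lemma weakPos_mem_natSpan_simpleOf {S : Set ι} (hS : WeakPos P S) {k : ι} (hk : k ∈ S) :
    P.root k ∈ natSpan P (simpleOf P S) := by
  let r : ι → ι → Prop := fun i k =>
    ∃ y ∈ natSpan P S, y ≠ 0 ∧ P.root k = P.root i + y
  have htrans : IsTrans ι r := ⟨by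
    rintro a b c ⟨y, hy, hy0, hab⟩ ⟨z, hz, hz0, hbc⟩
    refine ⟨y + z, AddSubmonoid.add_mem _ hy hz, ?_, by rw [hbc, hab, add_assoc]⟩
    intro h
    have : -z = y := by rw [neg_eq_iff_add_eq_zero, add_comm]; exact h
    exact hz0 (weakPos_pointed hS hz (this ▸ hy))⟩
  have hirr : Std.Irrefl r := ⟨by
    rintro a ⟨y, _, hy0, h⟩
    exact hy0 (by simpa using h.symm)⟩
  have wf : WellFounded r := Finite.wellFounded_of_trans_of_irrefl r
  revert hk
  refine wf.induction (C := fun k => k ∈ S → P.root k ∈ natSpan P (simpleOf P S)) k ?_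
  intro k ih hk
  by_cases hks : k ∈ simpleOf P S
  · exact root_mem_natSpan P hks
  · have : ∃ i ∈ S, ∃ j ∈ S, P.root k = P.root i + P.root j := by
      by_contra hcon
      push Not at hcon
      exact hks ⟨hk, hcon⟩
    obtain ⟨i, hi, j, hj, hkij⟩ := this
    rw [hkij]
    refine AddSubmonoid.add_mem _ (ih i ⟨P.root j, root_mem_natSpan P hj, P.ne_zero j, hkij⟩ hi)
      (ih j ⟨P.root i, root_mem_natSpan P hi, P.ne_zero i, by rw [hkij, add_comm]⟩ hj)

lemma weakPos_pairing_le_zero {S : Set ι} (hS : WeakPos P S) {i j : ι} (hi : i ∈ simpleOf P S)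
    (hj : j ∈ simpleOf P S) (hne : i ≠ j) : P.pairing i j ≤ 0 := by
  by_contra hpos
  rw [not_le] at hpos
  obtain ⟨k, hk⟩ := sub_mem P hpos hne
  rcases hS.cover k with h | h
  · exact hi.2 k h j hj.1 (by rw [hk]; abel)
  · exact hj.2 i hi.1 _ h (by rw [root_neg, hk]; abel)

lemma weakPos_isSimpleSys {S : Set ι} (hS : WeakPos P S) : IsSimpleSys P (simpleOf P S) where
  linInd := by
    refine linInd_of_pointed P (fun x hx hx' => ?_) fun i hi j hj hne =>
      weakPos_pairing_le_zero hS hi hj hne
    exact weakPos_pointed hS (natSpan_mono P (simpleOf_subset S) hx)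
      (natSpan_mono P (simpleOf_subset S) hx')
  mem_or_neg_mem := by
    intro i
    rcases hS.cover i with h | h
    · exact Or.inl (weakPos_mem_natSpan_simpleOf hS h)
    · right
      have := weakPos_mem_natSpan_simpleOf hS h
      rwa [root_neg] at this

lemma weakPos_eq_posOf {S : Set ι} (hS : WeakPos P S) : S = posOf P (simpleOf P S) := by
  refine Set.Subset.antisymm (fun k hk => weakPos_mem_natSpan_simpleOf hS hk) ?_
  intro k hk
  by_contra hkS
  have h1 := (hS.cover k).resolve_left hkS
  have h2 := weakPos_mem_natSpan_simpleOf hS h1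
  rw [root_neg] at h2
  exact P.ne_zero k (simple_eq_zero_of_mem_of_neg_mem (weakPos_isSimpleSys hS) hk h2)

/-- (P 1), (P 2) and closedness imply (P 3). -/
lemma weakPos_isPosSys {S : Set ι} (hS : WeakPos P S) : IsPosSys P S := by
  rw [weakPos_eq_posOf hS]
  exact simple_isPosSys_posOf (weakPos_isSimpleSys hS)

/-- A simple system is the set of indecomposable elements of its positive roots. -/
lemma simple_simpleOf_posOf {Δ : Set ι} (hΔ : IsSimpleSys P Δ) : simpleOf P (posOf P Δ) = Δ := by
  have hW : WeakPos P (posOf P Δ) := pos_weakPos (simple_isPosSys_posOf hΔ)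
  have h1 : Δ ⊆ simpleOf P (posOf P Δ) := by
    intro l hl
    refine ⟨subset_posOf P Δ hl, fun i hi j hj h => ?_⟩
    obtain ⟨φ, hφ⟩ := exists_height P hΔ.linInd
    have hpos : ∀ i ∈ Δ, 0 < φ (P.root i) := fun i hi => by rw [hφ i hi]; exact one_pos
    have hnat : ∀ i ∈ Δ, ∃ n : ℕ, φ (P.root i) = n := fun i hi => ⟨1, by rw [hφ i hi]; simp⟩
    obtain ⟨a, ha⟩ := exists_nat_of_mem_natSpan P φ hnat hi
    obtain ⟨b, hb⟩ := exists_nat_of_mem_natSpan P φ hnat hj
    have ha' := (eq_zero_or_pos_of_mem_natSpan P φ hpos hi).resolve_left (P.ne_zero i)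
    have hb' := (eq_zero_or_pos_of_mem_natSpan P φ hpos hj).resolve_left (P.ne_zero j)
    have h' := congrArg φ h
    rw [map_add, hφ l hl, ha, hb] at h'
    rw [ha] at ha'
    rw [hb] at hb'
    have ha'' : 0 < a := by exact_mod_cast ha'
    have hb'' : 0 < b := by exact_mod_cast hb'
    have : (1 : ℕ) = a + b := by exact_mod_cast h'
    omega
  refine Set.Subset.antisymm ?_ h1
  intro k hk
  by_contra hkΔ
  obtain ⟨φ, hφ1, hφ2⟩ := exists_coord P (weakPos_isSimpleSys hW).linInd hk
  have hz : φ (P.root k) = 0 := by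
    refine eq_zero_of_mem_natSpan P φ (fun l hl => ?_) hk.1
    refine hφ2 l (h1 hl) ?_
    rintro rfl
    exact hkΔ hl
  rw [hφ1] at hz
  exact one_ne_zero hz

end Groth.Agent.Lib.Helper8
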