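import Groth.Agent.Lib.Helper8Root9
import Groth.Agent.S5446

/-!
Helper library for the `RootD` cluster, part 10: the simple coroots.  If `Δ` is a system of
simple roots, then the coroots of `Δ`, with each divisible one replaced by its half, form a
system of simple roots of the dual datum.
-/

set_option autoImplicit false

open Set Function RootD

namespace Groth.Agent.Lib.Helper8

variable {ι M N : Type*} [AddCommGroup M] [AddCommGroup N] {P : RootPairing ι ℤ M N}

/-- Scaling a linearly independent family by non-zero integers keeps it linearly independent. -/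
lemma linearIndepOn_zsmul {κ A : Type*} [AddCommGroup A] {v : κ → A} {s : Set κ}
    (h : LinearIndepOn ℤ v s) (m : κ → ℤ) (hm : ∀ i ∈ s, m i ≠ 0) :
    LinearIndepOn ℤ (fun i => m i • v i) s := by
  rw [linearIndepOn_iff''] at h ⊢
  intro t g hts hg hsum i hi
  have h1 := h t (fun i => g i * m i) hts (fun i hi => by simp [hg i hi])
    (by simpa [mul_smul] using hsum) i hi
  rcases mul_eq_zero.mp h1 with h2 | h2
  · exact h2
  · exact absurd h2 (hm i (hts hi))

variable (P) in
/-- The indices of the coroots of `Δ`, each divisible one being replaced by its half. -/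
def indCo (Δ : Set ι) : Set ι :=
  {j : ι | ∃ i ∈ Δ, (j = i ∧ IsIndiv P.flip i) ∨ (2 : ℤ) • P.coroot j = P.coroot i}

variable [Finite ι]

/-- The simple root under an element of `indCo`. -/
lemma indCo_spec {Δ : Set ι} {j : ι} (hj : j ∈ indCo P Δ) :
    ∃ i ∈ Δ, ∃ m : ℤ, (m = 1 ∨ m = 2) ∧ P.root j = m • P.root i ∧ P.coroot i = m • P.coroot j ∧
      (m = 1 → j = i ∧ IsIndiv P.flip i) := by
  have htf := isAddTorsionFree P
  have htf' := isAddTorsionFree' P
  obtain ⟨i, hi, h | h⟩ := hj
  · obtain ⟨rfl, hind⟩ := h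
    exact ⟨j, hi, 1, Or.inl rfl, by simp, by simp, fun _ => ⟨rfl, hind⟩⟩
  · refine ⟨i, hi, 2, Or.inr rfl, ?_, h.symm, fun h => by norm_num at h⟩
    exact RootPairing.coroot_eq_smul_coroot_iff.mp h.symm

/-- Each simple coroot is once or twice the coroot of an element of `indCo`. -/
lemma exists_indCo {Δ : Set ι} {i : ι} (hi : i ∈ Δ) :
    ∃ j ∈ indCo P Δ, ∃ m : ℤ, (m = 1 ∨ m = 2) ∧ P.root j = m • P.root i ∧
      P.coroot i = m • P.coroot j ∧ (m = 1 ↔ IsIndiv P.flip i) := by
  have htf := isAddTorsionFree P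
  have htf' := isAddTorsionFree' P
  by_cases hind : IsIndiv P.flip i
  · exact ⟨i, ⟨i, hi, Or.inl ⟨rfl, hind⟩⟩, 1, Or.inl rfl, by simp, by simp, by simp [hind]⟩
  · have hind' := hind
    unfold IsIndiv at hind'
    push Not at hind'
    obtain ⟨j, hj⟩ := hind'
    have hj' : (2 : ℤ) • P.coroot j = P.coroot i := hj
    refine ⟨j, ⟨i, hi, Or.inr hj'⟩, 2, Or.inr rfl, ?_, hj'.symm, by simp [hind]⟩
    exact RootPairing.coroot_eq_smul_coroot_iff.mp hj'.symm

lemma indCo_indiv {Δ : Set ι} {j : ι} (hj : j ∈ indCo P Δ) :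
    IsIndiv P.flip j := by
  have htf := isAddTorsionFree P
  have htf' := isAddTorsionFree' P
  obtain ⟨i, hi, m, hm, h1, h2, h3⟩ := indCo_spec hj
  rcases hm with rfl | rfl
  · obtain ⟨rfl, hind⟩ := h3 rfl
    exact hind
  · intro j' hj'
    have hj'' : (2 : ℤ) • P.coroot j' = P.coroot j := hj'
    have h4 : P.coroot i = (4 : ℤ) • P.coroot j' := by
      rw [h2, ← hj'', smul_smul]; norm_num
    have := congrArg (fun x => P.toLinearMap (P.root i) x) h4
    simp only [RootPairing.root_coroot_two, map_smul,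
      RootPairing.root_coroot_eq_pairing, smul_eq_mul] at this
    omega

/-- The map from `indCo Δ` to `Δ` is injective. -/
lemma indCo_inj {j j' i : ι} {m m' : ℤ}
    (hm : m = 1 ∨ m = 2) (hm' : m' = 1 ∨ m' = 2)
    (h1 : P.root j = m • P.root i) (h1' : P.root j' = m' • P.root i)
    (h3 : m = 1 → j = i ∧ IsIndiv P.flip i) (h3' : m' = 1 → j' = i ∧ IsIndiv P.flip i) :
    j = j' := by
  have htf := isAddTorsionFree P
  have htf' := isAddTorsionFree' P
  rcases hm with rfl | rfl <;> rcases hm' with rfl | rfl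
  · rw [(h3 rfl).1, (h3' rfl).1]
  · exfalso
    apply (h3 rfl).2 j'
    show (2 : ℤ) • P.coroot j' = P.coroot i
    exact (RootPairing.coroot_eq_smul_coroot_iff.mpr h1').symm
  · exfalso
    apply (h3' rfl).2 j
    show (2 : ℤ) • P.coroot j = P.coroot i
    exact (RootPairing.coroot_eq_smul_coroot_iff.mpr h1).symm
  · apply P.root.injective
    rw [h1, h1']

lemma indCo_linInd_root {Δ : Set ι} (hΔ : IsSimpleSys P Δ) :
    LinearIndepOn ℤ P.root (indCo P Δ) := by
  classical
  -- choose the simple root below each element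
  have hch : ∀ j : ι, ∃ i : ι, ∃ m : ℤ, j ∈ indCo P Δ →
      i ∈ Δ ∧ (m = 1 ∨ m = 2) ∧ P.root j = m • P.root i ∧ (m = 1 → j = i ∧ IsIndiv P.flip i) := by
    intro j
    by_cases hj : j ∈ indCo P Δ
    · obtain ⟨i, hi, m, hm, h1, _, h3⟩ := indCo_spec hj
      exact ⟨i, m, fun _ => ⟨hi, hm, h1, h3⟩⟩
    · exact ⟨j, 1, fun h => absurd h hj⟩
  choose σ m hσ using hch
  have hinj : Set.InjOn σ (indCo P Δ) := by
    intro j hj j' hj' hjj'
    obtain ⟨_, hm, h1, h3⟩ := hσ j hj
    obtain ⟨_, hm', h1', h3'⟩ := hσ j' hj'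
    rw [← hjj'] at h1' h3'
    exact indCo_inj hm hm' h1 h1' h3 h3'
  have hsub : σ '' indCo P Δ ⊆ Δ := by
    rintro _ ⟨j, hj, rfl⟩
    exact (hσ j hj).1
  have h1 : LinearIndepOn ℤ (P.root ∘ σ) (indCo P Δ) :=
    (hΔ.linInd.mono hsub).comp_of_image hinj
  have h2 := linearIndepOn_zsmul h1 m (fun j hj => by
    rcases (hσ j hj).2.1 with h | h <;> rw [h] <;> norm_num)
  refine h2.congr ?_
  intro j hj
  exact ((hσ j hj).2.2.1).symm

lemma indCo_linInd {Δ : Set ι} (hΔ : IsSimpleSys P Δ) :
    LinearIndepOn ℤ P.flip.root (indCo P Δ) := by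
  classical
  let _ := Fintype.ofFinite ι
  have h1 := indCo_linInd_root hΔ
  have h2 := linearIndepOn_zsmul h1 (fun j => P.CorootForm (P.coroot j) (P.coroot j))
    (fun j _ => (rootForm_root_pos P.flip j).ne')
  have h3 : LinearIndepOn ℤ (⇑((2 : ℤ) • P.CoPolarization) ∘ P.coroot) (indCo P Δ) := by
    refine h2.congr ?_
    intro j _
    show P.CorootForm (P.coroot j) (P.coroot j) • P.root j = ((2 : ℤ) • P.CoPolarization) (P.coroot j)
    rw [RootPairing.corootForm_self_smul_root, two_nsmul, LinearMap.smul_apply, two_smul]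
  exact LinearIndepOn.of_comp _ h3

/-- Twice the polarization map sends non-negative combinations of simple roots to non-negative
combinations of the simple coroots. -/
lemma two_polarization_mem [Fintype ι] {Δ : Set ι} {x : M} (hx : x ∈ natSpan P Δ) :
    (2 : ℤ) • P.Polarization x ∈ natSpan P.flip (indCo P Δ) := by
  induction hx using AddSubmonoid.closure_induction with
  | mem x hx =>
    obtain ⟨i, hi, rfl⟩ := hx
    obtain ⟨j, hj, m, hm, -, h2, -⟩ := exists_indCo (P := P) hi
    have h3 : (2 : ℤ) • P.Polarization (P.root i) =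
        (P.RootForm (P.root i) (P.root i) * m) • P.coroot j := by
      rw [mul_smul, ← h2, RootPairing.rootForm_self_smul_coroot, two_nsmul, two_smul]
    rw [h3]
    have hpos : 0 ≤ P.RootForm (P.root i) (P.root i) * m := by
      have := rootForm_root_pos P i
      rcases hm with rfl | rfl <;> positivity
    obtain ⟨n, hn⟩ := Int.eq_ofNat_of_zero_le hpos
    rw [hn, natCast_zsmul]
    exact AddSubmonoid.nsmul_mem _ (root_mem_natSpan P.flip hj) n
  | zero => simp
  | add x y _ _ hx hy =>
    rw [map_add, smul_add]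
    exact AddSubmonoid.add_mem _ hx hy

/-- The dual simple system. -/
theorem isSimpleSys_flip_indCo {Δ : Set ι} (hΔ : IsSimpleSys P Δ) :
    IsSimpleSys P.flip (indCo P Δ) := by
  classical
  let _ := Fintype.ofFinite ι
  apply Groth.Agent.S5446.result P.flip (indCo P Δ) (fun j hj => indCo_indiv hj)
    (indCo_linInd hΔ)
  intro k
  have hpos := rootForm_root_pos P k
  obtain ⟨n, hn⟩ := Int.eq_ofNat_of_zero_le hpos.le
  have hn0 : 0 < n := by omega
  refine ⟨n, hn0, ?_⟩
  have key : (n : ℤ) • P.coroot k = (2 : ℤ) • P.Polarization (P.root k) := by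
    rw [← hn, RootPairing.rootForm_self_smul_coroot, two_nsmul, two_smul]
  rcases hΔ.mem_or_neg_mem k with h | h
  · left
    have := two_polarization_mem h
    rw [← key, natCast_zsmul] at this
    exact this
  · right
    have := two_polarization_mem h
    rw [map_neg, smul_neg, ← key, natCast_zsmul, ← smul_neg] at this
    exact this

end Groth.Agent.Lib.Helper8
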