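import Groth.Agent.Lib.Helper8Root9
import Mathlib.Analysis.Matrix.PosDef
import Mathlib.LinearAlgebra.Matrix.ToLinearEquiv
import Mathlib.Algebra.Order.Star.Real

/-!
Helper library for the `RootD` cluster, part 11: the symmetrised Cartan matrix of a linearly
independent set of roots is symmetric, positive definite and of positive determinant.
-/

set_option autoImplicit false

open Set Function RootD Matrix

namespace Groth.Agent.Lib.Helper8

variable {ι M N : Type*} [AddCommGroup M] [AddCommGroup N] (P : RootPairing ι ℤ M N)

/-- The symmetrised Cartan matrix attached to a finite set of roots. -/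
noncomputable def symCartan [Fintype ι] (S : Finset ι) : Matrix ↥S ↥S ℤ :=
  Matrix.of fun (a b : ↥S) => P.RootForm (P.root a) (P.root a) * P.pairing (b : ι) (a : ι)

variable {P}

lemma symCartan_apply [Fintype ι] (S : Finset ι) (a b : ↥S) :
    symCartan P S a b = 2 * P.RootForm (P.root a) (P.root b) := by
  have h := two_mul_rootForm P b a
  have hs := (P.rootForm_symmetric).eq (P.root a) (P.root b)
  simp only [RingHom.id_apply] at hs
  show P.RootForm (P.root a) (P.root a) * P.pairing (b : ι) (a : ι) = _
  rw [hs, h]
  ring

lemma symCartan_isSymm [Fintype ι] (S : Finset ι) : (symCartan P S).IsSymm := by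
  ext a b
  rw [Matrix.transpose_apply, symCartan_apply, symCartan_apply]
  have hs := (P.rootForm_symmetric).eq (P.root a) (P.root b)
  simp only [RingHom.id_apply] at hs
  rw [hs]

lemma symCartan_quad [Fintype ι] (S : Finset ι) (x : ↥S → ℤ) :
    star x ⬝ᵥ (symCartan P S *ᵥ x) =
      2 * P.RootForm (∑ a, x a • P.root a) (∑ a, x a • P.root a) := by
  simp only [dotProduct, mulVec, star_trivial, symCartan_apply, map_sum, map_smul,
    LinearMap.sum_apply, LinearMap.smul_apply, smul_eq_mul, Finset.mul_sum]
  refine Finset.sum_congr rfl fun a _ => ?_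
  refine Finset.sum_congr rfl fun b _ => ?_
  have hs := (P.rootForm_symmetric).eq (P.root a) (P.root b)
  simp only [RingHom.id_apply] at hs
  rw [hs]
  ring

lemma symCartan_posDef [Fintype ι] (S : Finset ι) (hS : LinearIndepOn ℤ P.root (↑S : Set ι)) :
    (symCartan P S).PosDef := by
  apply Matrix.PosDef.of_dotProduct_mulVec_pos
  · show (symCartan P S)ᴴ = symCartan P S
    rw [Matrix.conjTranspose_eq_transpose_of_trivial]
    exact symCartan_isSymm S
  · intro x hx
    rw [symCartan_quad]
    set v := ∑ a, x a • P.root a with hv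
    have hvmem : v ∈ P.rootSpan ℤ := by
      refine Submodule.sum_mem _ fun a _ => Submodule.smul_mem _ _ ?_
      exact Submodule.subset_span (mem_range_self _)
    have hv0 : v ≠ 0 := by
      intro h0
      apply hx
      have hli : LinearIndependent ℤ (fun a : ↥S => P.root a) := hS
      have := Fintype.linearIndependent_iff.mp hli x h0
      exact funext this
    have hnn : 0 ≤ P.RootForm v v := (P.rootForm_self_sum_of_squares v).nonneg
    have hne : P.RootForm v v ≠ 0 := fun h =>
      hv0 (P.eq_zero_of_mem_rootSpan_of_rootForm_self_eq_zero hvmem h)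
    have : 0 < P.RootForm v v := lt_of_le_of_ne hnn (Ne.symm hne)
    linarith

lemma symCartan_det_pos [Fintype ι] [DecidableEq ι] (S : Finset ι)
    (hS : LinearIndepOn ℤ P.root (↑S : Set ι)) :
    0 < (symCartan P S).det := by
  have hpd := symCartan_posDef S hS
  -- nonzero
  have hne : (symCartan P S).det ≠ 0 := by
    intro h0
    obtain ⟨v, hv, hmul⟩ := Matrix.exists_mulVec_eq_zero_iff.mpr h0
    have := hpd.dotProduct_mulVec_pos hv
    rw [hmul] at this
    simp at this
  -- nonnegative, via the reals
  let C : Matrix ↥S ι ℝ := Matrix.of fun a k => (P.pairing (a : ι) k : ℝ)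
  have hmap : (Int.castRingHom ℝ).mapMatrix (symCartan P S) = (2 : ℝ) • (C * Cᴴ) := by
    ext a b
    simp only [RingHom.mapMatrix_apply, Matrix.map_apply, Int.coe_castRingHom, symCartan_apply,
      Matrix.smul_apply, Matrix.mul_apply, Matrix.conjTranspose_apply, smul_eq_mul, C,
      Matrix.of_apply, star_trivial]
    rw [RootPairing.rootForm_apply_apply]
    push_cast
    rfl
  have hpsd : ((2 : ℝ) • (C * Cᴴ)).PosSemidef :=
    (Matrix.posSemidef_self_mul_conjTranspose C).smul (by norm_num)
  have hdet : (0 : ℝ) ≤ ((symCartan P S).det : ℝ) := by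
    have := hpsd.det_nonneg
    rw [← hmap, ← RingHom.map_det] at this
    exact this
  have : 0 ≤ (symCartan P S).det := by exact_mod_cast hdet
  exact lt_of_le_of_ne this (Ne.symm hne)

end Groth.Agent.Lib.Helper8
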