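import Groth.Agent.Lib.Helper8Root9
import Mathlib.GroupTheory.FiniteAbelian.Basic

/-!
Helper library for the `RootD` cluster, part 12: ranks of the root lattice and of the coradical.
-/

set_option autoImplicit false

open Set Function RootD Module

namespace Groth.Agent.Lib.Helper8

variable {ι M N : Type*} [AddCommGroup M] [AddCommGroup N] (P : RootPairing ι ℤ M N)

/-- The coradical lattice: the weights killed by every coroot. -/
def corad : Submodule ℤ M := ⨅ i : ι, LinearMap.ker (P.coroot' i)

variable {P}

lemma mem_corad {x : M} : x ∈ corad P ↔ ∀ i, P.coroot' i x = 0 := by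
  simp [corad, Submodule.mem_iInf]

lemma ker_polarization [Fintype ι] : LinearMap.ker P.Polarization = corad P := by
  ext x
  rw [LinearMap.mem_ker, mem_corad]
  constructor
  · intro h i
    have h1 : P.RootForm x x = 0 := by
      rw [← RootPairing.toLinearMap_apply_apply_Polarization, h, map_zero]
    rw [RootPairing.rootForm_apply_apply] at h1
    have h2 := (Finset.sum_eq_zero_iff_of_nonneg
      (fun i _ => mul_self_nonneg (P.coroot' i x))).mp h1 i (Finset.mem_univ i)
    exact mul_self_eq_zero.mp h2
  · intro h
    rw [RootPairing.Polarization_apply]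
    exact Finset.sum_eq_zero fun i _ => by rw [h i, zero_smul]

lemma range_polarization_le [Fintype ι] : LinearMap.range P.Polarization ≤ P.corootSpan ℤ := by
  rintro _ ⟨x, rfl⟩
  rw [RootPairing.Polarization_apply]
  exact Submodule.sum_mem _ fun i _ =>
    Submodule.smul_mem _ _ (Submodule.subset_span (mem_range_self i))

lemma disjoint_rootSpan_corad [Finite ι] : Disjoint (P.rootSpan ℤ) (corad P) := by
  rw [Submodule.disjoint_def]
  intro x hx hx'
  exact eq_zero_of_mem_rootSpan_of_coroot_eq_zero hx (mem_corad.mp hx')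

/-- First inequality. -/
lemma finrank_le_corootSpan_add [Finite ι] [Module.Finite ℤ M] [Module.Finite ℤ N] :
    finrank ℤ M ≤ finrank ℤ (P.corootSpan ℤ) + finrank ℤ (corad P) := by
  classical
  let _ := Fintype.ofFinite ι
  have h1 := (LinearMap.ker P.Polarization).finrank_quotient_add_finrank
  rw [LinearEquiv.finrank_eq P.Polarization.quotKerEquivRange, ker_polarization] at h1
  have h2 := Submodule.finrank_mono (range_polarization_le (P := P))
  omega

/-- Second inequality. -/
lemma rootSpan_add_le_finrank [Finite ι] [Module.Finite ℤ M] :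
    finrank ℤ (P.rootSpan ℤ) + finrank ℤ (corad P) ≤ finrank ℤ M := by
  have h1 := (corad P).finrank_quotient_add_finrank
  have hinj : Function.Injective ((corad P).mkQ ∘ₗ (P.rootSpan ℤ).subtype) := by
    rw [← LinearMap.ker_eq_bot, LinearMap.ker_comp, Submodule.ker_mkQ,
      ← Submodule.disjoint_iff_comap_eq_bot]
    exact disjoint_rootSpan_corad (P := P)
  have h2 := LinearMap.finrank_le_finrank_of_injective hinj
  omega

include P in
lemma finrank_eq_of_pairing [Module.Finite ℤ M] : finrank ℤ M = finrank ℤ N := by
  have := isAddTorsionFree P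
  exact Module.finrank_of_isPerfPair P.toLinearMap

/-- The rank identities. -/
theorem finrank_identities [Finite ι] [Module.Finite ℤ M] [Module.Finite ℤ N] :
    finrank ℤ (corad P) + finrank ℤ (P.rootSpan ℤ) = finrank ℤ M ∧
    finrank ℤ (corad P.flip) + finrank ℤ (P.rootSpan ℤ) = finrank ℤ M ∧
    finrank ℤ (P.corootSpan ℤ) = finrank ℤ (P.rootSpan ℤ) := by
  have a1 := finrank_le_corootSpan_add (P := P)
  have b1 := rootSpan_add_le_finrank (P := P)
  have a2 : finrank ℤ N ≤ finrank ℤ (P.rootSpan ℤ) + finrank ℤ (corad P.flip) :=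
    finrank_le_corootSpan_add (P := P.flip)
  have b2 : finrank ℤ (P.corootSpan ℤ) + finrank ℤ (corad P.flip) ≤ finrank ℤ N :=
    rootSpan_add_le_finrank (P := P.flip)
  have c : finrank ℤ M = finrank ℤ N := finrank_eq_of_pairing (P := P)
  omega

lemma corad_eq_bot_iff [Finite ι] [Module.Finite ℤ M] [Module.Finite ℤ N] :
    corad P = ⊥ ↔ finrank ℤ (P.rootSpan ℤ) = finrank ℤ M := by
  have htf := isAddTorsionFree P
  have h := (finrank_identities (P := P)).1
  rw [← Submodule.finrank_eq_zero]
  omega

lemma corad_flip_eq_bot_iff [Finite ι] [Module.Finite ℤ M] [Module.Finite ℤ N] :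
    corad P.flip = ⊥ ↔ finrank ℤ (P.rootSpan ℤ) = finrank ℤ M := by
  have htf := isAddTorsionFree' P
  have h := (finrank_identities (P := P)).2.1
  rw [← Submodule.finrank_eq_zero]
  omega

/-- A sublattice of full rank has finite index. -/
lemma finite_quotient_of_finrank_eq {A : Type*} [AddCommGroup A] [Module.Finite ℤ A]
    (S : Submodule ℤ A) (h : finrank ℤ S = finrank ℤ A) : Finite (A ⧸ S) := by
  have h1 := S.finrank_quotient_add_finrank
  have h2 : finrank ℤ (A ⧸ S) = 0 := by omega
  apply Module.finite_of_fg_torsion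
  intro x
  obtain ⟨a, ha, hax⟩ := Module.finrank_eq_zero_iff.mp h2 x
  exact ⟨⟨a, mem_nonZeroDivisors_of_ne_zero ha⟩, hax⟩

/-- Transposition for morphisms of root pairings. -/
lemma hom_pairing_transpose {ι' M' N' : Type*} [AddCommGroup M'] [AddCommGroup N']
    {P' : RootPairing ι' ℤ M' N'} (f : RootPairing.Hom P' P) (x : M') (n : N) :
    P.toLinearMap (f.weightMap x) n = P'.toLinearMap x (f.coweightMap n) := by
  have := RootPairing.Hom.weight_coweight_transpose_apply P' P n f
  have h2 := LinearMap.congr_fun this x
  simpa using h2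

/-- A morphism of root pairings is injective on weights when the source is semisimple. -/
lemma hom_injective_of_corad_eq_bot {ι' M' N' : Type*} [AddCommGroup M'] [AddCommGroup N']
    {P' : RootPairing ι' ℤ M' N'} (f : RootPairing.Hom P' P) (h : corad P' = ⊥) :
    Function.Injective f.weightMap := by
  rw [← LinearMap.ker_eq_bot, eq_bot_iff]
  intro x hx
  rw [← h, mem_corad]
  intro i'
  have h1 := RootPairing.Hom.coroot_coweightMap_apply P' P (f.indexEquiv i') f
  rw [Equiv.symm_apply_apply] at h1
  show P'.toLinearMap x (P'.coroot i') = 0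
  rw [← h1, ← hom_pairing_transpose, LinearMap.mem_ker.mp hx]
  simp

lemma rootSpan_le_range_hom {ι' M' N' : Type*} [AddCommGroup M'] [AddCommGroup N']
    {P' : RootPairing ι' ℤ M' N'} (f : RootPairing.Hom P' P) :
    P.rootSpan ℤ ≤ LinearMap.range f.weightMap := by
  rw [RootPairing.rootSpan, Submodule.span_le]
  rintro _ ⟨i, rfl⟩
  refine ⟨P'.root (f.indexEquiv.symm i), ?_⟩
  have := congrFun f.root_weightMap (f.indexEquiv.symm i)
  simpa using this

lemma hom_finite_coker {ι' M' N' : Type*} [AddCommGroup M'] [AddCommGroup N']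
    {P' : RootPairing ι' ℤ M' N'} [Module.Finite ℤ M] (f : RootPairing.Hom P' P)
    (h : finrank ℤ (P.rootSpan ℤ) = finrank ℤ M) :
    Finite (M ⧸ LinearMap.range f.weightMap) := by
  apply finite_quotient_of_finrank_eq
  have h1 := Submodule.finrank_mono (rootSpan_le_range_hom f)
  have h2 := (LinearMap.range f.weightMap).finrank_le
  omega

end Groth.Agent.Lib.Helper8
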