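import Groth.Agent.Lib.Helper8Root12

/-!
Helper library for the `RootD` cluster, part 13: the adjoint form of a root datum (weight lattice
the root lattice) and the canonical morphism from it.
-/

set_option autoImplicit false

open Set Function RootD Module

namespace Groth.Agent.Lib.Helper8

variable {ι M N : Type*} [AddCommGroup M] [AddCommGroup N] (P : RootPairing ι ℤ M N)

lemma rootSpan_reflexive [Module.Finite ℤ M] : Module.IsReflexive ℤ (P.rootSpan ℤ) := by
  have := isAddTorsionFree P
  infer_instance

lemma rootSpan_dual_finite [Module.Finite ℤ M] : Module.Finite ℤ (Module.Dual ℤ (P.rootSpan ℤ)) := by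
  have := isAddTorsionFree P
  infer_instance

lemma coroot_restrict_injective [Finite ι] :
    Function.Injective fun i : ι => (P.coroot' i) ∘ₗ (P.rootSpan ℤ).subtype := by
  intro i j hij
  apply P.coroot.injective
  have hmem : P.coroot i - P.coroot j ∈ P.flip.rootSpan ℤ :=
    Submodule.sub_mem _ (Submodule.subset_span (mem_range_self i))
      (Submodule.subset_span (mem_range_self j))
  have := eq_zero_of_mem_rootSpan_of_coroot_eq_zero (P := P.flip) hmem (fun k => by
    have h := LinearMap.congr_fun hij ⟨P.root k, Submodule.subset_span (mem_range_self k)⟩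
    show P.toLinearMap (P.root k) (P.coroot i - P.coroot j) = 0
    rw [map_sub, sub_eq_zero]
    exact h)
  exact sub_eq_zero.mp this

/-- The adjoint form of a root datum. -/
noncomputable def adjForm [Finite ι] [Module.Finite ℤ M] :
    RootPairing ι ℤ (P.rootSpan ℤ) (Module.Dual ℤ (P.rootSpan ℤ)) where
  toLinearMap := Module.Dual.eval ℤ (P.rootSpan ℤ)
  isPerfPair_toLinearMap := @LinearMap.IsPerfPair.dualEval _ _ _ _ _ (rootSpan_reflexive P)
  root := ⟨fun i => ⟨P.root i, Submodule.subset_span (mem_range_self i)⟩, fun i j h =>
    P.root.injective (congrArg Subtype.val h)⟩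
  coroot := ⟨fun i => (P.coroot' i) ∘ₗ (P.rootSpan ℤ).subtype, coroot_restrict_injective P⟩
  root_coroot_two := fun i => P.root_coroot_two i
  reflectionPerm := P.reflectionPerm
  reflectionPerm_root := fun i j => Subtype.ext (P.reflectionPerm_root i j)
  reflectionPerm_coroot := fun i j => by
    ext x
    have h := P.reflectionPerm_coroot i j
    have h2 := congrArg (fun n => P.toLinearMap (x : M) n) h
    simp only [map_sub, map_smul] at h2
    exact h2

/-- The canonical morphism from the adjoint form. -/
noncomputable def adjHom [Finite ι] [Module.Finite ℤ M] : RootPairing.Hom (adjForm P) P where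
  weightMap := (P.rootSpan ℤ).subtype
  coweightMap := LinearMap.dualMap (P.rootSpan ℤ).subtype ∘ₗ P.toLinearMap.flip
  indexEquiv := Equiv.refl ι
  weight_coweight_transpose := by
    ext n x
    rfl
  root_weightMap := by
    ext i
    rfl
  coroot_coweightMap := by
    ext i x
    rfl

end Groth.Agent.Lib.Helper8
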