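import Groth.Agent.Lib.Helper8Root9

/-!
Helper library for the `RootD` cluster, part 14: root lengths in an irreducible root datum.
-/

set_option autoImplicit false

open Set Function RootD

namespace Groth.Agent.Lib.Helper8

variable {ι M N : Type*} [AddCommGroup M] [AddCommGroup N] {P : RootPairing ι ℤ M N}

/-- For two roots `i`, `j`: `p_ij ℓ_j = p_ji ℓ_i`. -/
lemma pairing_mul_len [Fintype ι] (i j : ι) :
    P.pairing i j * P.RootForm (P.root j) (P.root j) =
      P.pairing j i * P.RootForm (P.root i) (P.root i) := by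
  have h1 := two_mul_rootForm P i j
  have h2 := two_mul_rootForm P j i
  have hs := (P.rootForm_symmetric).eq (P.root i) (P.root j)
  simp only [RingHom.id_apply] at hs
  rw [← h1, ← h2, hs]

lemma len_reflectionPerm [Fintype ι] (k o : ι) :
    P.RootForm (P.root (P.reflectionPerm k o)) (P.root (P.reflectionPerm k o)) =
      P.RootForm (P.root o) (P.root o) := by
  rw [RootPairing.root_reflectionPerm, RootPairing.rootForm_reflection_reflection_apply]

/-- In an irreducible datum, every root is non-orthogonal to some root of any given length. -/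
lemma exists_nonorth_same_length [Fintype ι]
    (hirr : ∀ R' : Set ι, IsClosedSub P R' → IsSymmSub P R' → IsClosedSub P R'ᶜ →
      IsSymmSub P R'ᶜ → R' = ∅ ∨ R' = Set.univ) (i j : ι) :
    ∃ o, P.RootForm (P.root o) (P.root o) = P.RootForm (P.root i) (P.root i) ∧
      P.pairing o j ≠ 0 := by
  classical
  set O : Set ι := {o | P.RootForm (P.root o) (P.root o) = P.RootForm (P.root i) (P.root i)}
    with hO
  set R2 : Set ι := {k | ∀ o ∈ O, P.pairing o k = 0} with hR2
  have hsymm : IsSymmSub P R2 := by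
    intro k hk o ho
    rw [RootPairing.pairing_reflectionPerm_self_right, hk o ho, neg_zero]
  have horth : ∀ a ∈ R2, ∀ c ∉ R2, P.IsOrthogonal a c := by
    intro a ha c hc
    rw [hR2] at hc
    simp only [mem_ofPred_eq, not_forall] at hc
    obtain ⟨o, ho, hoc⟩ := hc
    have ho' : P.reflectionPerm c o ∈ O := by
      show P.RootForm _ _ = _
      rw [len_reflectionPerm]
      exact ho
    have h1 := ha o ho
    have h2 := ha _ ho'
    have h3 : P.pairing (P.reflectionPerm c o) a =
        P.pairing o a - P.pairing o c * P.pairing c a := by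
      rw [← RootPairing.root_coroot_eq_pairing, RootPairing.root_reflectionPerm,
        RootPairing.reflection_apply_root]
      simp
    rw [h2, h1, zero_sub, eq_comm, neg_eq_zero] at h3
    have h4 : P.pairing c a = 0 := (mul_eq_zero.mp h3).resolve_left hoc
    exact (orth_of_pairing_eq_zero h4).symm
  obtain ⟨h1, h2, h3, h4⟩ := closedSymm_of_orth hsymm horth
  have hi : i ∉ R2 := by
    intro h
    have := h i rfl
    simp at this
  rcases hirr R2 h1 h2 h3 h4 with h | h
  · have hj : j ∉ R2 := by rw [h]; exact notMem_empty j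
    rw [hR2] at hj
    simp only [mem_ofPred_eq, not_forall] at hj
    obtain ⟨o, ho, hoj⟩ := hj
    exact ⟨o, ho, hoj⟩
  · exact absurd (h ▸ mem_univ i) hi

/-- The possible ratios of lengths of two non-orthogonal roots. -/
lemma len_rel_of_nonorth [Finite ι] [Fintype ι] {o j : ι} (h : P.pairing o j ≠ 0) :
    P.RootForm (P.root o) (P.root o) = P.RootForm (P.root j) (P.root j) ∨
    2 * P.RootForm (P.root o) (P.root o) = P.RootForm (P.root j) (P.root j) ∨
    P.RootForm (P.root o) (P.root o) = 2 * P.RootForm (P.root j) (P.root j) ∨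
    3 * P.RootForm (P.root o) (P.root o) = P.RootForm (P.root j) (P.root j) ∨
    P.RootForm (P.root o) (P.root o) = 3 * P.RootForm (P.root j) (P.root j) ∨
    4 * P.RootForm (P.root o) (P.root o) = P.RootForm (P.root j) (P.root j) ∨
    P.RootForm (P.root o) (P.root o) = 4 * P.RootForm (P.root j) (P.root j) := by
  have hrel := pairing_mul_len (P := P) o j
  have hset := P.pairingIn_pairingIn_mem_set_of_isCrystallographic o j
  rw [pairingIn_int, pairingIn_int] at hset
  simp only [mem_insert_iff, mem_singleton_iff, Prod.mk.injEq] at hset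
  rcases hset with ⟨h1, h2⟩ | ⟨h1, h2⟩ | ⟨h1, h2⟩ | ⟨h1, h2⟩ | ⟨h1, h2⟩ | ⟨h1, h2⟩ | ⟨h1, h2⟩ |
    ⟨h1, h2⟩ | ⟨h1, h2⟩ | ⟨h1, h2⟩ | ⟨h1, h2⟩ | ⟨h1, h2⟩ | ⟨h1, h2⟩ | ⟨h1, h2⟩ | ⟨h1, h2⟩ |
    ⟨h1, h2⟩ | ⟨h1, h2⟩ <;> rw [h1, h2] at hrel <;> first | exact absurd h1 h | omega

/-- The possible ratios of lengths of two non-orthogonal roots, reduced case. -/
lemma len_rel_of_nonorth_red [Finite ι] [Fintype ι] [P.IsReduced] {o j : ι}
    (h : P.pairing o j ≠ 0) :
    P.RootForm (P.root o) (P.root o) = P.RootForm (P.root j) (P.root j) ∨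
    2 * P.RootForm (P.root o) (P.root o) = P.RootForm (P.root j) (P.root j) ∨
    P.RootForm (P.root o) (P.root o) = 2 * P.RootForm (P.root j) (P.root j) ∨
    3 * P.RootForm (P.root o) (P.root o) = P.RootForm (P.root j) (P.root j) ∨
    P.RootForm (P.root o) (P.root o) = 3 * P.RootForm (P.root j) (P.root j) := by
  have hrel := pairing_mul_len (P := P) o j
  have hset := P.pairingIn_pairingIn_mem_set_of_isCrystal_of_isRed o j
  rw [pairingIn_int, pairingIn_int] at hset
  simp only [mem_insert_iff, mem_singleton_iff, Prod.mk.injEq] at hset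
  rcases hset with ⟨h1, h2⟩ | ⟨h1, h2⟩ | ⟨h1, h2⟩ | ⟨h1, h2⟩ | ⟨h1, h2⟩ | ⟨h1, h2⟩ | ⟨h1, h2⟩ |
    ⟨h1, h2⟩ | ⟨h1, h2⟩ | ⟨h1, h2⟩ | ⟨h1, h2⟩ | ⟨h1, h2⟩ | ⟨h1, h2⟩ <;>
    rw [h1, h2] at hrel <;> first | exact absurd h1 h | omega

end Groth.Agent.Lib.Helper8
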