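import Groth.Agent.Lib.Helper8Root9

/-!
Helper library for the `RootD` cluster, part 15: the sum of the positive roots is a regular dominant
weight; dominance of additive maps and the Weyl group.
-/

set_option autoImplicit false

open Set Function RootD

namespace Groth.Agent.Lib.Helper8

variable {ι M N : Type*} [AddCommGroup M] [AddCommGroup N] {P : RootPairing ι ℤ M N}

open Classical in
variable (P) in
/-- The sum of the roots indexed by `S`. -/
noncomputable def twoRho [Fintype ι] (S : Set ι) : M :=
  ∑ i ∈ Finset.univ.filter (· ∈ S), P.root i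

open Classical in
lemma coroot'_twoRho [Fintype ι] (S : Set ι) (a : ι) :
    P.coroot' a (twoRho P S) =
      ∑ i ∈ (Finset.univ.filter (fun i => i ∈ S) : Finset ι), P.pairing i a := by
  unfold twoRho
  rw [map_sum]
  rfl

lemma pairing_refl_left (a i : ι) : P.pairing (P.reflectionPerm a i) a = - P.pairing i a := by
  rw [← RootPairing.pairing_reflectionPerm, RootPairing.pairing_reflectionPerm_self_right]

/-- The sum of the positive roots pairs to at least `2` with every simple coroot. -/
lemma two_le_coroot'_twoRho [Fintype ι] {Δ : Set ι} (hΔ : IsSimpleSys P Δ) {a : ι} (ha : a ∈ Δ) :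
    2 ≤ P.coroot' a (twoRho P (posOf P Δ)) := by
  classical
  have htf := isAddTorsionFree P
  rw [coroot'_twoRho]
  set F : Finset ι := Finset.univ.filter (fun i => i ∈ posOf P Δ) with hF
  rw [← Finset.sum_filter_add_sum_filter_not F (fun i => P.reflectionPerm a i ∈ posOf P Δ)]
  have h1 : ∑ i ∈ F.filter (fun i => P.reflectionPerm a i ∈ posOf P Δ), P.pairing i a = 0 := by
    apply Finset.sum_involution (fun i _ => P.reflectionPerm a i)
    · intro i _
      rw [pairing_refl_left]; ring
    · intro i _ hne heq
      apply hne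
      have := (P.reflectionPerm_eq_iff_smul_root (i := a) (j := i)).mp heq
      rcases smul_eq_zero.mp this with h | h
      · exact h
      · exact absurd h (P.ne_zero a)
    · intro i hi
      simp only [Finset.mem_filter, Finset.mem_univ, true_and, hF] at hi ⊢
      refine ⟨hi.2, ?_⟩
      rw [RootPairing.reflectionPerm_self]
      exact hi.1
    · intro i _
      exact RootPairing.reflectionPerm_self P a i
  rw [h1, zero_add]
  have hmem : a ∈ F.filter (fun i => ¬ P.reflectionPerm a i ∈ posOf P Δ) := by
    simp only [Finset.mem_filter, Finset.mem_univ, true_and, hF]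
    exact ⟨subset_posOf P Δ ha, (simple_isPosSys_posOf hΔ).disjoint (subset_posOf P Δ ha)⟩
  have hnn : ∀ i ∈ F.filter (fun i => ¬ P.reflectionPerm a i ∈ posOf P Δ),
      0 ≤ P.pairing i a := by
    intro i hi
    simp only [Finset.mem_filter, Finset.mem_univ, true_and, hF] at hi
    by_contra hneg
    apply hi.2
    apply simple_reflection_pos hΔ hi.1 ha
    intro n hn
    apply hneg
    have := congrArg (fun x => P.toLinearMap x (P.coroot a)) hn
    simp only [map_nsmul, LinearMap.smul_apply, RootPairing.root_coroot_eq_pairing,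
      RootPairing.pairing_same] at this
    rw [this, nsmul_eq_mul]
    positivity
  have := Finset.single_le_sum hnn hmem
  simpa using this

/-- The sum of the positive roots pairs positively with every positive coroot. -/
lemma coroot'_twoRho_pos [Fintype ι] {Δ : Set ι} (hΔ : IsSimpleSys P Δ) {k : ι}
    (hk : k ∈ posOf P Δ) : 0 < P.coroot' k (twoRho P (posOf P Δ)) := by
  classical
  set ρ := twoRho P (posOf P Δ) with hρ
  let χ : M →+ ℤ := ((P.toLinearMap ρ) ∘ₗ ((2 : ℤ) • P.Polarization)).toAddMonoidHom
  have hχ : ∀ i : ι, χ (P.root i) = P.RootForm (P.root i) (P.root i) * P.coroot' i ρ := by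
    intro i
    show P.toLinearMap ρ ((2 : ℤ) • P.Polarization (P.root i)) = _
    rw [two_smul ℤ, ← two_nsmul, ← RootPairing.rootForm_self_smul_coroot, map_smul]
    rfl
  have hpos : ∀ i ∈ Δ, 0 < χ (P.root i) := by
    intro i hi
    rw [hχ]
    have h2 : 2 ≤ P.coroot' i ρ := two_le_coroot'_twoRho hΔ hi
    exact mul_pos (rootForm_root_pos P i) (by omega)
  rcases eq_zero_or_pos_of_mem_natSpan P χ hpos hk with h | h
  · exact absurd h (P.ne_zero k)
  · rw [hχ] at h
    exact (mul_pos_iff_of_pos_left (rootForm_root_pos P k)).mp h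

section Dominant

variable {Γ : Type*} [AddCommGroup Γ] [LinearOrder Γ] [IsOrderedAddMonoid Γ]

/-- For a dominant additive map `f` and `g` in the Weyl group, `f - f ∘ g` is a non-negative
combination of the positive coroots. -/
lemma dominant_repr [Fintype ι] {Δ : Set ι} (hΔ : IsSimpleSys P Δ) (f : M →+ Γ)
    (hf : ∀ i ∈ posOf P Δ, 0 ≤ f (P.root i)) :
    ∀ (n : ℕ) (l : List ι), l.length ≤ n → (∀ a ∈ l, a ∈ Δ) →
      ∃ c : ι → Γ, (∀ i, 0 ≤ c i) ∧ (∀ i, i ∉ posOf P Δ → c i = 0) ∧
        ∀ m : M, f m - f (word P l • m) = ∑ i, (P.coroot' i m) • c i := by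
  classical
  intro n
  induction n with
  | zero =>
    intro l hl _
    have : l = [] := List.length_eq_zero_iff.mp (Nat.le_zero.mp hl)
    refine ⟨fun _ => 0, fun _ => le_rfl, fun _ _ => rfl, fun m => ?_⟩
    rw [this, word_nil, one_smul]
    simp
  | succ n ih =>
    intro l0 hl0 hl0Δ
    have hex : ∃ k : ℕ, ∃ l : List ι, l.length = k ∧ (∀ a ∈ l, a ∈ Δ) ∧ word P l = word P l0 :=
      ⟨l0.length, l0, rfl, hl0Δ, rfl⟩
    obtain ⟨l, hlen, hl, hw⟩ := Nat.find_spec hex
    have hlen_le : l.length ≤ n + 1 := by
      rw [hlen]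
      exact (Nat.find_min' hex ⟨l0, rfl, hl0Δ, rfl⟩).trans hl0
    rw [← hw]
    by_cases hne : l = []
    · refine ⟨fun _ => 0, fun _ => le_rfl, fun _ _ => rfl, fun m => ?_⟩
      rw [hne, word_nil, one_smul]
      simp
    have hmin : ∀ l' : List ι, (∀ a ∈ l', a ∈ Δ) → word P l' = word P l →
        l.length ≤ l'.length := by
      intro l' hl' hw'
      rw [hlen]
      exact Nat.find_min' hex ⟨l', rfl, hl', hw'.trans hw⟩
    have hnp := not_pos_of_minimal (simple_posData hΔ) l hl hne hmin
    set a := l.getLast hne with ha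
    have haΔ : a ∈ Δ := hl a (List.getLast_mem hne)
    have hnotpos : word P l • a ∉ posOf P Δ := fun h =>
      hnp ⟨h, indiv_aut _ (simple_indiv hΔ haΔ)⟩
    have hsplit := List.dropLast_append_getLast hne
    have hwl : word P l = word P l.dropLast * RootPairing.Equiv.reflection P a := by
      conv_lhs => rw [← hsplit]
      rw [word_append]
      simp [ha]
    have hlen2 : l.dropLast.length + 1 = l.length := by
      conv_rhs => rw [← hsplit]
      simp
    have hdl : ∀ x ∈ l.dropLast, x ∈ Δ := fun x hx => hl x (List.mem_of_mem_dropLast hx)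
    -- the image of the last letter under the shorter word is positive
    have hpos' : word P l.dropLast • a ∈ posOf P Δ := by
      have h1 : word P l • a =
          P.reflectionPerm (word P l.dropLast • a) (word P l.dropLast • a) := by
        rw [hwl, mul_smul, refl_smul_self, gaut_neg]
      rcases (simple_isPosSys_posOf hΔ).cover (word P l.dropLast • a) with h | h
      · exact h
      · rw [← h1] at h
        exact absurd h hnotpos
    obtain ⟨c', hc'0, hc'S, hc'⟩ := ih l.dropLast (by omega) hdl
    refine ⟨c' + Pi.single a (f (P.root (word P l.dropLast • a))), ?_, ?_, ?_⟩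
    · intro i
      rw [Pi.add_apply]
      refine add_nonneg (hc'0 i) ?_
      by_cases hia : i = a
      · subst hia
        rw [Pi.single_eq_same]
        exact hf _ hpos'
      · rw [Pi.single_eq_of_ne hia]
    · intro i hi
      rw [Pi.add_apply, hc'S i hi, zero_add]
      have hia : i ≠ a := fun h => hi (h ▸ subset_posOf P Δ haΔ)
      rw [Pi.single_eq_of_ne hia]
    · intro m
      have h1 : f m - f (word P l • m) = (f m - f (word P l.dropLast • m)) +
          (P.coroot' a m) • f (P.root (word P l.dropLast • a)) := by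
        rw [hwl, mul_smul, RootPairing.Equiv.reflection_smul, RootPairing.reflection_apply,
          smul_sub, map_sub, smul_comm, map_zsmul, aut_root]
        abel
      rw [h1, hc' m]
      simp only [Pi.add_apply, smul_add, Finset.sum_add_distrib]
      congr 1
      rw [Finset.sum_eq_single a]
      · rw [Pi.single_eq_same]
      · intro i _ hia
        rw [Pi.single_eq_of_ne hia, smul_zero]
      · intro h
        exact absurd (Finset.mem_univ a) h

/-- If moving the sum of the positive roots by reflections does not increase `f`, then `f` is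
dominant. -/
lemma dominant_of_le [Fintype ι] {Δ : Set ι} (hΔ : IsSimpleSys P Δ) (f : M →+ Γ)
    (h : ∀ k ∈ posOf P Δ, f (RootPairing.Equiv.reflection P k • twoRho P (posOf P Δ)) ≤
      f (twoRho P (posOf P Δ))) :
    ∀ k ∈ posOf P Δ, 0 ≤ f (P.root k) := by
  intro k hk
  have h1 := h k hk
  rw [RootPairing.Equiv.reflection_smul, RootPairing.reflection_apply, map_sub, map_zsmul] at h1
  have h2 : 0 ≤ (P.coroot' k (twoRho P (posOf P Δ))) • f (P.root k) := by
    have := sub_le_self_iff (f (twoRho P (posOf P Δ))) |>.mp h1
    exact this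
  have hpos := coroot'_twoRho_pos hΔ hk
  have h3 : (P.coroot' k (twoRho P (posOf P Δ))) • (0 : Γ) ≤
      (P.coroot' k (twoRho P (posOf P Δ))) • f (P.root k) := by
    rw [smul_zero]; exact h2
  exact (zsmul_le_zsmul_iff_right hpos).mp h3

end Dominant

end Groth.Agent.Lib.Helper8
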