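import Groth.Agent.Lib.Helper8Root9

/-!
Helper library for the `RootD` cluster, part 16: systems of positive roots adapted to a saturated
set of roots (lexicographic orders), faces of the cone of a system of simple roots.
-/

set_option autoImplicit false

open Set Function RootD

namespace Groth.Agent.Lib.Helper8

variable {ι M N : Type*} [AddCommGroup M] [AddCommGroup N] (P : RootPairing ι ℤ M N)

/-- Separation by a rational functional: if no positive multiple of `x` lies in `L`, some additive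
map to `ℚ` kills `L` and not `x`. -/
lemma exists_hom_vanishing {A : Type*} [AddCommGroup A] (L : Submodule ℤ A) (x : A)
    (hx : ∀ n : ℕ, 0 < n → n • x ∉ L) :
    ∃ φ : A →+ ℚ, (∀ y ∈ L, φ y = 0) ∧ φ x ≠ 0 := by
  set a : A ⧸ L := L.mkQ x with ha
  let i0 : ℤ →ₗ[ℤ] (A ⧸ L) := LinearMap.toSpanSingleton ℤ _ a
  have hinj : Function.Injective i0 := by
    rw [← LinearMap.ker_eq_bot, eq_bot_iff]
    intro n hn
    rw [LinearMap.mem_ker] at hn
    have h1 : n • a = 0 := hn
    have h2 : n • x ∈ L := by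
      rw [ha, ← map_zsmul] at h1
      exact (Submodule.Quotient.mk_eq_zero L).mp h1
    rw [Submodule.mem_bot]
    by_contra hne
    rcases lt_or_gt_of_ne hne with hlt | hgt
    · have h3 : (-n).toNat • x ∈ L := by
        have : ((-n).toNat : ℤ) = -n := Int.toNat_of_nonneg (by omega)
        rw [← natCast_zsmul, this, neg_smul]
        exact L.neg_mem h2
      exact hx _ (by omega) h3
    · have h3 : n.toNat • x ∈ L := by
        have : (n.toNat : ℤ) = n := Int.toNat_of_nonneg (by omega)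
        rw [← natCast_zsmul, this]
        exact h2
      exact hx _ (by omega) h3
  let g : ℤ →ₗ[ℤ] ℚ := Algebra.linearMap ℤ ℚ
  obtain ⟨φ', hφ'⟩ := (Module.Baer.of_divisible ℚ).extension_property i0 hinj g
  refine ⟨(φ' ∘ₗ L.mkQ).toAddMonoidHom, fun y hy => ?_, ?_⟩
  · show φ' (L.mkQ y) = 0
    have : L.mkQ y = 0 := (Submodule.Quotient.mk_eq_zero L).mpr hy
    rw [this, map_zero]
  · show φ' (L.mkQ x) ≠ 0
    have h1 : φ' (i0 1) = g 1 := by rw [← hφ']; rfl
    have h2 : i0 1 = L.mkQ x := by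
      show (1 : ℤ) • a = L.mkQ x
      rw [one_smul]
    rw [← h2, h1]
    show ((1 : ℤ) : ℚ) ≠ 0
    norm_num

/-- A family of rational functionals cutting out a saturated set of roots. -/
lemma exists_sep_family (R' : Set ι)
    (hsat : ∀ k : ι, (∃ n : ℕ, 0 < n ∧ n • P.root k ∈ Submodule.span ℤ (P.root '' R')) → k ∈ R') :
    ∃ ψ : ι → (M →+ ℚ), (∀ k, ∀ y ∈ Submodule.span ℤ (P.root '' R'), ψ k y = 0) ∧
      ∀ k, k ∉ R' → ψ k (P.root k) ≠ 0 := by
  classical
  have : ∀ k : ι, ∃ φ : M →+ ℚ, (∀ y ∈ Submodule.span ℤ (P.root '' R'), φ y = 0) ∧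
      (k ∉ R' → φ (P.root k) ≠ 0) := by
    intro k
    by_cases hk : k ∈ R'
    · exact ⟨0, fun _ _ => rfl, fun h => absurd hk h⟩
    · obtain ⟨φ, h1, h2⟩ := exists_hom_vanishing (Submodule.span ℤ (P.root '' R')) (P.root k)
        (fun n hn hmem => hk (hsat k ⟨n, hn, hmem⟩))
      exact ⟨φ, h1, fun _ => h2⟩
  choose ψ h1 h2 using this
  exact ⟨ψ, h1, h2⟩

/-- The lexicographic functional attached to a family of functionals. -/
noncomputable def famHom [Finite ι] (ψ : ι → (M →+ ℚ)) : M →+ Lex (Fin (Nat.card ι) → ℚ) where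
  toFun x := toLex fun j => ψ ((Finite.equivFin ι).symm j) x
  map_zero' := by
    apply congrArg toLex
    funext j
    simp
  map_add' x y := by
    apply congrArg toLex
    funext j
    simp

lemma famHom_eq_zero_iff [Finite ι] (ψ : ι → (M →+ ℚ)) (x : M) :
    famHom ψ x = 0 ↔ ∀ k, ψ k x = 0 := by
  constructor
  · intro h k
    have h1 : ofLex (famHom ψ x) (Finite.equivFin ι k) = 0 := by rw [h]; rfl
    simpa [famHom] using h1
  · intro h
    apply congrArg toLex
    funext j
    exact h _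

section Lex2

variable {A B : Type*} [AddCommGroup A] [LinearOrder A] [IsOrderedAddMonoid A]
  [AddCommGroup B] [LinearOrder B] [IsOrderedAddMonoid B]

/-- The roots which are positive for the lexicographic order defined by `Ψ`, then `χ`. -/
def lexPos (Ψ : M →+ A) (χ : M →+ B) : Set ι :=
  {k | 0 < Ψ (P.root k) ∨ (Ψ (P.root k) = 0 ∧ 0 < χ (P.root k))}

variable {P}

lemma lexPos_aux (Ψ : M →+ A) (χ : M →+ B) {x : M} (hx : x ∈ natSpan P (lexPos P Ψ χ)) :
    0 < Ψ x ∨ (Ψ x = 0 ∧ 0 ≤ χ x) := by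
  induction hx using AddSubmonoid.closure_induction with
  | mem x hx =>
    obtain ⟨k, hk, rfl⟩ := hx
    rcases hk with h | ⟨h1, h2⟩
    · exact Or.inl h
    · exact Or.inr ⟨h1, h2.le⟩
  | zero => right; simp
  | add x y _ _ hx hy =>
    rw [map_add, map_add]
    rcases hx with hx | ⟨hx1, hx2⟩
    · rcases hy with hy | ⟨hy1, hy2⟩
      · exact Or.inl (add_pos hx hy)
      · left; rw [hy1, add_zero]; exact hx
    · rcases hy with hy | ⟨hy1, hy2⟩
      · left; rw [hx1, zero_add]; exact hy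
      · right; exact ⟨by rw [hx1, hy1, add_zero], add_nonneg hx2 hy2⟩

lemma lexPos_isPosSys (Ψ : M →+ A) (χ : M →+ B)
    (hne : ∀ k : ι, Ψ (P.root k) = 0 → χ (P.root k) ≠ 0) : IsPosSys P (lexPos P Ψ χ) := by
  refine ⟨?_, ?_, ?_⟩
  · intro i hi hi'
    have hi'' : 0 < Ψ (P.root (P.reflectionPerm i i)) ∨
        (Ψ (P.root (P.reflectionPerm i i)) = 0 ∧ 0 < χ (P.root (P.reflectionPerm i i))) := hi'
    rw [root_neg, map_neg, map_neg] at hi''
    rcases hi with h | ⟨h1, h2⟩
    · rcases hi'' with h' | ⟨h1', _⟩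
      · exact absurd (neg_pos.mp h') (not_lt.mpr h.le)
      · rw [neg_eq_zero] at h1'
        exact absurd h1' h.ne'
    · rcases hi'' with h' | ⟨_, h2'⟩
      · rw [h1, neg_zero] at h'
        exact lt_irrefl _ h'
      · exact absurd (neg_pos.mp h2') (not_lt.mpr h2.le)
  · intro i
    rcases lt_trichotomy (Ψ (P.root i)) 0 with h | h | h
    · right
      show 0 < Ψ (P.root (P.reflectionPerm i i)) ∨ _
      rw [root_neg, map_neg]
      exact Or.inl (neg_pos.mpr h)
    · rcases lt_or_gt_of_ne (hne i h) with h' | h'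
      · right
        show _ ∨ (Ψ (P.root (P.reflectionPerm i i)) = 0 ∧ 0 < χ (P.root (P.reflectionPerm i i)))
        rw [root_neg, map_neg, map_neg, h, neg_zero]
        exact Or.inr ⟨rfl, neg_pos.mpr h'⟩
      · exact Or.inl (Or.inr ⟨h, h'⟩)
    · exact Or.inl (Or.inl h)
  · intro k n hn hk
    have h1 := lexPos_aux Ψ χ hk
    rw [map_nsmul, map_nsmul] at h1
    rcases h1 with h | ⟨h1, h2⟩
    · left
      by_contra hle
      rw [not_lt] at hle
      have := nsmul_nonpos hle n
      exact absurd h (not_lt.mpr this)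
    · have hΨ : Ψ (P.root k) = 0 := by
        rcases lt_trichotomy (Ψ (P.root k)) 0 with h | h | h
        · exact absurd h1 (nsmul_neg h hn.ne').ne
        · exact h
        · exact absurd h1 (nsmul_pos h hn.ne').ne'
      right
      refine ⟨hΨ, ?_⟩
      rcases lt_or_gt_of_ne (hne k hΨ) with h | h
      · exact absurd h2 (not_le.mpr (nsmul_neg h hn.ne'))
      · exact h

end Lex2

section Face

variable {G : Type*} [AddCommGroup G] [PartialOrder G] [IsOrderedAddMonoid G]
variable {P}

/-- Faces of the cone generated by a set of roots. -/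
lemma face (θ : M →+ G) {Δ : Set ι} (hθ : ∀ b ∈ Δ, 0 ≤ θ (P.root b)) {x : M}
    (hx : x ∈ natSpan P Δ) :
    0 ≤ θ x ∧ (θ x = 0 → x ∈ natSpan P {b | b ∈ Δ ∧ θ (P.root b) = 0}) := by
  induction hx using AddSubmonoid.closure_induction with
  | mem x hx =>
    obtain ⟨b, hb, rfl⟩ := hx
    exact ⟨hθ b hb, fun h => root_mem_natSpan P ⟨hb, h⟩⟩
  | zero => exact ⟨by simp, fun _ => AddSubmonoid.zero_mem _⟩
  | add x y _ _ hx hy =>
    refine ⟨by rw [map_add]; exact add_nonneg hx.1 hy.1, fun h => ?_⟩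
    rw [map_add] at h
    have := (add_eq_zero_iff_of_nonneg hx.1 hy.1).mp h
    exact AddSubmonoid.add_mem _ (hx.2 this.1) (hy.2 this.2)

end Face

end Groth.Agent.Lib.Helper8
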