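import Groth.Agent.Lib.Helper8Root2

/-!
Helper library for the `RootD` cluster, part 3: a root lying in the additive monoid generated by
a set of roots can be reached by successively adding roots of the set, every partial sum being a
root.
-/

set_option autoImplicit false

open Set Function RootD

namespace Groth.Agent.Lib.Helper8

variable {ι M N : Type*} [AddCommGroup M] [AddCommGroup N] (P : RootPairing ι ℤ M N)

/-- `k` can be reached from `S` by successively adding roots of `S`, all partial sums being
roots. -/
inductive Reach (S : Set ι) : ι → Prop
  | base {i : ι} : i ∈ S → Reach S i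
  | step {j i k : ι} : Reach S j → i ∈ S → P.root k = P.root j + P.root i → Reach S k

variable [Finite ι]

lemma reach_of_list {S : Set ι} :
    ∀ (n : ℕ) (l : List ι) (k : ι), l.length = n → (∀ i ∈ l, i ∈ S) →
      P.root k = (l.map P.root).sum → Reach P S k := by
  classical
  let _ := Fintype.ofFinite ι
  intro n
  induction n with
  | zero =>
    intro l k hl _ hsum
    rw [List.length_eq_zero_iff.mp hl] at hsum
    exact absurd (by simpa using hsum) (P.ne_zero k)
  | succ n ih =>
    intro l k hlen hl hsum
    have hB : 0 < (l.map fun j => P.RootForm (P.root k) (P.root j)).sum := by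
      rw [← rootForm_sum_list, ← hsum]
      exact rootForm_root_pos P k
    have hex : ∃ i ∈ l, 0 < P.RootForm (P.root k) (P.root i) := by
      by_contra hcon
      push Not at hcon
      have : 0 ≤ (l.map fun j => - P.RootForm (P.root k) (P.root j)).sum := by
        apply List.sum_nonneg
        intro x hx
        obtain ⟨j, hj, rfl⟩ := List.mem_map.mp hx
        have := hcon j hj
        linarith
      have h2 : (l.map fun j => - P.RootForm (P.root k) (P.root j)).sum =
          - (l.map fun j => P.RootForm (P.root k) (P.root j)).sum := by
        clear * -
        induction l with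
        | nil => simp
        | cons a l ih => simp [ih]; ring
      linarith
    obtain ⟨i, hi, hBi⟩ := hex
    have hp : 0 < P.pairing k i := (rootForm_pos_iff P k i).mp hBi
    by_cases hki : k = i
    · exact hki ▸ Reach.base (hl i hi)
    · obtain ⟨k', hk'⟩ := sub_mem P hp hki
      have hlen' : (l.erase i).length = n := by
        rw [List.length_erase_of_mem hi, hlen]; rfl
      have hsum' : P.root k' = ((l.erase i).map P.root).sum := by
        have := List.sum_map_erase P.root hi
        rw [hk', hsum, ← this]; abel
      have := ih (l.erase i) k' hlen' (fun m hm => hl m (List.mem_of_mem_erase hm)) hsum'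
      exact Reach.step this (hl i hi) (by rw [hk']; abel)

lemma reach_of_mem_natSpan {S : Set ι} {k : ι} (h : P.root k ∈ natSpan P S) : Reach P S k := by
  obtain ⟨l, hl, hsum⟩ := exists_list_of_mem_natSpan P h
  exact reach_of_list P _ l k rfl hl hsum.symm

omit [Finite ι] in
lemma mem_of_reach_of_closed {S : Set ι} (hcl : IsClosedSub P S) {k : ι} (h : Reach P S k) :
    k ∈ S := by
  induction h with
  | base hi => exact hi
  | step _ hi hk ih => exact hcl ih hi hk

/-- A closed set of roots contains every root lying in the additive monoid it generates. -/
lemma mem_of_closed_of_mem_natSpan {S : Set ι} (hcl : IsClosedSub P S) {k : ι}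
    (h : P.root k ∈ natSpan P S) : k ∈ S :=
  mem_of_reach_of_closed P hcl (reach_of_mem_natSpan P h)

end Groth.Agent.Lib.Helper8
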