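import Groth.Agent.Lib.Helper8Root3

/-!
Helper library for the `RootD` cluster, part 4: simple reflections and positive roots, images of
systems of positive/simple roots under automorphisms.
-/

set_option autoImplicit false

open Set Function RootD

namespace Groth.Agent.Lib.Helper8

variable {ι M N : Type*} [AddCommGroup M] [AddCommGroup N] (P : RootPairing ι ℤ M N)

/-! ### Decomposition along a simple root -/

lemma exists_decomp {Δ : Set ι} (i : ι) {x : M} (hx : x ∈ natSpan P Δ) :
    ∃ (n : ℕ) (y : M), y ∈ natSpan P (Δ \ {i}) ∧ x = n • P.root i + y := by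
  induction hx using AddSubmonoid.closure_induction with
  | mem x hx =>
    obtain ⟨l, hl, rfl⟩ := hx
    by_cases hli : l = i
    · exact ⟨1, 0, AddSubmonoid.zero_mem _, by simp [hli]⟩
    · exact ⟨0, P.root l, root_mem_natSpan P ⟨hl, hli⟩, by simp⟩
  | zero => exact ⟨0, 0, AddSubmonoid.zero_mem _, by simp⟩
  | add x y _ _ hx hy =>
    obtain ⟨n, x', hx', rfl⟩ := hx
    obtain ⟨m, y', hy', rfl⟩ := hy
    exact ⟨n + m, x' + y', AddSubmonoid.add_mem _ hx' hy', by rw [add_nsmul]; abel⟩

variable {P}

/-- The reflection in a simple root maps a positive root which is not a multiple of it to a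
positive root. -/
lemma simple_reflection_pos {Δ : Set ι} (hΔ : IsSimpleSys P Δ) {k i : ι} (hk : k ∈ posOf P Δ)
    (hi : i ∈ Δ) (hnot : ∀ n : ℕ, P.root k ≠ n • P.root i) :
    P.reflectionPerm i k ∈ posOf P Δ := by
  classical
  obtain ⟨φ, hφ⟩ := exists_functional P hΔ.linInd fun l => if l = i then 0 else 1
  have hφi : φ (P.root i) = 0 := by simpa using hφ i hi
  have hφnn : ∀ l ∈ Δ, 0 ≤ φ (P.root l) := by
    intro l hl
    rw [hφ l hl]
    split_ifs <;> norm_num
  obtain ⟨n, y, hy, hxy⟩ := exists_decomp P i hk
  have hy0 : y ≠ 0 := by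
    rintro rfl
    exact hnot n (by simpa using hxy)
  have hφy : 0 < φ y := by
    refine (eq_zero_or_pos_of_mem_natSpan P φ (fun l hl => ?_) hy).resolve_left hy0
    have hne : l ≠ i := hl.2
    rw [hφ l hl.1, if_neg hne]
    exact one_pos
  have hφk : 0 < φ (P.root k) := by
    rw [hxy, map_add, map_nsmul, hφi, smul_zero, zero_add]
    exact hφy
  have hφs : φ (P.root (P.reflectionPerm i k)) = φ (P.root k) := by
    rw [RootPairing.root_reflectionPerm, RootPairing.reflection_apply_root, map_sub, map_zsmul,
      hφi, smul_zero, sub_zero]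
  rcases hΔ.mem_or_neg_mem (P.reflectionPerm i k) with h | h
  · exact h
  · exfalso
    have := nonneg_of_mem_natSpan P φ hφnn h
    rw [map_neg, hφs] at this
    linarith

/-! ### Positive pairings -/

variable (P) in
lemma exists_pos_pairing_of_mem_natSpan [Finite ι] {S : Set ι} {k : ι}
    (h : P.root k ∈ natSpan P S) : ∃ i ∈ S, 0 < P.pairing k i := by
  classical
  let _ := Fintype.ofFinite ι
  obtain ⟨l, hl, hsum⟩ := exists_list_of_mem_natSpan P h
  have hB : 0 < (l.map fun j => P.RootForm (P.root k) (P.root j)).sum := by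
    rw [← rootForm_sum_list, hsum]
    exact rootForm_root_pos P k
  by_contra hcon
  push Not at hcon
  have : 0 ≤ (l.map fun j => - P.RootForm (P.root k) (P.root j)).sum := by
    apply List.sum_nonneg
    intro x hx
    obtain ⟨j, hj, rfl⟩ := List.mem_map.mp hx
    have h1 := hcon j (hl j hj)
    have h2 := rootForm_nonpos_of_pairing P k j h1
    linarith
  have h2 : (l.map fun j => - P.RootForm (P.root k) (P.root j)).sum =
      - (l.map fun j => P.RootForm (P.root k) (P.root j)).sum := by
    clear * -
    induction l with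
    | nil => simp
    | cons a l ih => simp [ih]; ring
  linarith

/-! ### Reflections in proportional roots -/

variable (P) in
lemma reflection_eq_of_root_eq_smul [Finite ι] (i j : ι) (t : ℤ) (h : P.root j = t • P.root i) :
    P.reflection i = P.reflection j := by
  have := isAddTorsionFree' P
  have hc := RootPairing.smul_coroot_eq_of_root_eq_smul (P := P) i j t h
  ext x
  simp only [RootPairing.reflection_apply, h, smul_smul]
  have : (P.coroot' i) x = (P.coroot' j) x * t := by
    simp only [RootPairing.coroot', LinearMap.flip_apply]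
    rw [← hc, map_smul]
    simp [mul_comm]
  rw [this]

variable (P) in
lemma equivReflection_eq_of_root_eq_smul [Finite ι] (i j : ι) (t : ℤ)
    (h : P.root j = t • P.root i) :
    RootPairing.Equiv.reflection P i = RootPairing.Equiv.reflection P j := by
  apply RootPairing.Equiv.weightHom_injective
  ext x
  show P.reflection i x = P.reflection j x
  rw [reflection_eq_of_root_eq_smul P i j t h]

/-! ### Automorphisms -/

lemma aut_root (g : P.Aut) (i : ι) : P.root (g • i) = g • P.root i :=
  RootPairing.Equiv.root_indexEquiv_eq_smul P i g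

lemma aut_neg (g : P.Aut) (i : ι) :
    g • (P.reflectionPerm i i) = P.reflectionPerm (g • i) (g • i) := by
  apply P.root.injective
  rw [aut_root, root_neg, root_neg, aut_root, smul_neg]

lemma aut_inv_smul_smul (g : P.Aut) (i : ι) : g⁻¹ • (g • i) = i := inv_smul_smul g i

lemma aut_smul_inv_smul (g : P.Aut) (i : ι) : g • (g⁻¹ • i) = i := smul_inv_smul g i

lemma mem_image_aut_iff (g : P.Aut) (S : Set ι) (k : ι) :
    k ∈ (fun i : ι => g • i) '' S ↔ g⁻¹ • k ∈ S := by
  constructor
  · rintro ⟨i, hi, rfl⟩
    rwa [inv_smul_smul]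
  · intro h
    exact ⟨g⁻¹ • k, h, smul_inv_smul g k⟩

lemma weakPos_image (g : P.Aut) {S : Set ι} (hS : WeakPos P S) :
    WeakPos P ((fun i : ι => g • i) '' S) where
  disjoint := by
    intro i hi hi'
    rw [mem_image_aut_iff] at hi hi'
    rw [aut_neg] at hi'
    exact hS.disjoint hi hi'
  cover := by
    intro i
    rw [mem_image_aut_iff, mem_image_aut_iff, aut_neg]
    exact hS.cover _
  closed := by
    intro i j k hi hj hk
    rw [mem_image_aut_iff] at hi hj ⊢
    refine hS.closed hi hj ?_
    rw [aut_root, aut_root, aut_root, hk, smul_add]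

lemma pos_image [Finite ι] (g : P.Aut) {S : Set ι} (hS : IsPosSys P S) :
    IsPosSys P ((fun i : ι => g • i) '' S) :=
  weakPos_isPosSys (weakPos_image g (pos_weakPos hS))

lemma natSpan_image_aut (g : P.Aut) (S : Set ι) {x : M} (hx : x ∈ natSpan P S) :
    g • x ∈ natSpan P ((fun i : ι => g • i) '' S) := by
  induction hx using AddSubmonoid.closure_induction with
  | mem x hx =>
    obtain ⟨i, hi, rfl⟩ := hx
    rw [← aut_root]
    exact root_mem_natSpan P ⟨i, hi, rfl⟩
  | zero => rw [smul_zero]; exact AddSubmonoid.zero_mem _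
  | add x y _ _ hx hy => rw [smul_add]; exact AddSubmonoid.add_mem _ hx hy

lemma simple_image (g : P.Aut) {Δ : Set ι} (hΔ : IsSimpleSys P Δ) :
    IsSimpleSys P ((fun i : ι => g • i) '' Δ) where
  linInd := by
    have h1 : LinearIndepOn ℤ (fun i => g • P.root i) Δ := by
      have := hΔ.linInd
      have h2 : (fun i => g • P.root i) = (RootPairing.Equiv.weightHom P g) ∘ P.root := rfl
      rw [h2]
      exact this.map' _ (LinearMap.ker_eq_bot.mpr (RootPairing.Equiv.weightHom P g).injective)
    have h3 : (fun i => g • P.root i) = P.root ∘ (fun i : ι => g • i) := by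
      ext i; simp [aut_root]
    rw [h3] at h1
    exact LinearIndepOn.image_of_comp _ _ h1
  mem_or_neg_mem := by
    intro i
    rcases hΔ.mem_or_neg_mem (g⁻¹ • i) with h | h
    · left
      have := natSpan_image_aut g Δ h
      rwa [← aut_root, smul_inv_smul] at this
    · right
      have := natSpan_image_aut g Δ h
      rwa [smul_neg, ← aut_root, smul_inv_smul] at this

end Groth.Agent.Lib.Helper8
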