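import Groth.Agent.Lib.Helper8Root4

/-!
Helper library for the `RootD` cluster, part 5: automorphisms fixing all roots; the Weyl group
acts faithfully on roots.
-/

set_option autoImplicit false

open Set Function RootD

namespace Groth.Agent.Lib.Helper8

variable {ι M N : Type*} [AddCommGroup M] [AddCommGroup N] {P : RootPairing ι ℤ M N}

lemma pairing_transpose (u : P.Aut) (y : M) (n : N) :
    P.toLinearMap (u • y) n = P.toLinearMap y (u.coweightMap n) := by
  have := RootPairing.Hom.weight_coweight_transpose_apply P P n u.toHom
  have h2 := LinearMap.congr_fun this y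
  have h3 : P.toLinearMap (u.weightMap y) n = P.toLinearMap y (u.coweightMap n) := by
    simpa using h2
  exact h3

lemma coweightMap_coroot (u : P.Aut) (i : ι) :
    u.coweightMap (P.coroot (u • i)) = P.coroot i := by
  have := RootPairing.Hom.coroot_coweightMap_apply P P (u • i) u.toHom
  rw [this]
  congr 1
  exact u.indexEquiv.symm_apply_apply i

lemma pairing_aut_smul (u : P.Aut) (y : M) (i : ι) :
    P.toLinearMap (u • y) (P.coroot (u • i)) = P.toLinearMap y (P.coroot i) := by
  rw [pairing_transpose, coweightMap_coroot]

lemma aut_smul_mem_rootSpan (u : P.Aut) {x : M} (hx : x ∈ P.rootSpan ℤ) :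
    u • x ∈ P.rootSpan ℤ := by
  induction hx using Submodule.span_induction with
  | mem x hx =>
    obtain ⟨i, rfl⟩ := hx
    rw [← aut_root]
    exact Submodule.subset_span (mem_range_self _)
  | zero => rw [smul_zero]; exact Submodule.zero_mem _
  | add x y _ _ hx hy => rw [smul_add]; exact Submodule.add_mem _ hx hy
  | smul t x _ hx => rw [smul_comm]; exact Submodule.smul_mem _ _ hx

/-- An element of the root lattice killed by all coroots vanishes. -/
lemma eq_zero_of_mem_rootSpan_of_coroot_eq_zero [Finite ι] {y : M} (hy : y ∈ P.rootSpan ℤ)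
    (h : ∀ i, P.toLinearMap y (P.coroot i) = 0) : y = 0 := by
  let _ := Fintype.ofFinite ι
  apply P.eq_zero_of_mem_rootSpan_of_rootForm_self_eq_zero hy
  rw [RootPairing.rootForm_apply_apply]
  refine Finset.sum_eq_zero fun i _ => ?_
  have : P.coroot' i y = 0 := h i
  rw [this, mul_zero]

/-- An automorphism fixing all roots and acting trivially modulo the rational span of the roots
is the identity. -/
lemma aut_eq_one_of_fix [Finite ι] (u : P.Aut)
    (hs : ∀ m : M, ∃ n : ℕ, 0 < n ∧ n • (u • m - m) ∈ Submodule.span ℤ (Set.range P.root))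
    (hfix : ∀ i : ι, u • i = i) : u = 1 := by
  have htf := isAddTorsionFree P
  apply RootPairing.Equiv.weightHom_injective
  ext m
  show u • m = m
  obtain ⟨n, hn, hmem⟩ := hs m
  have h0 : n • (u • m - m) = 0 := by
    apply eq_zero_of_mem_rootSpan_of_coroot_eq_zero hmem
    intro i
    have h1 := pairing_aut_smul u m i
    rw [hfix i] at h1
    rw [map_nsmul, LinearMap.smul_apply, map_sub, LinearMap.sub_apply, h1, sub_self, smul_zero]
  have h1 : n • (u • m - m) = n • (0 : M) := by rw [h0, smul_zero]
  have := nsmul_right_injective hn.ne' h1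
  exact sub_eq_zero.mp this

/-- Elements of the Weyl group act trivially modulo the root lattice. -/
lemma weyl_smul_sub_mem_rootSpan {g : P.Aut} (hg : g ∈ P.weylGroup) (m : M) :
    g • m - m ∈ P.rootSpan ℤ := by
  induction hg using RootPairing.weylGroup.induction generalizing m with
  | mem i =>
    rw [RootPairing.Equiv.reflection_smul, RootPairing.reflection_apply]
    have : m - (P.coroot' i) m • P.root i - m = -((P.coroot' i) m • P.root i) := by abel
    rw [this]
    exact Submodule.neg_mem _ (Submodule.smul_mem _ _ (Submodule.subset_span (mem_range_self i)))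
  | one => simp
  | mul x y hx hy ihx ihy =>
    have : (x * y) • m - m = x • (y • m - m) + (x • m - m) := by
      rw [mul_smul, smul_sub]; abel
    rw [this]
    exact Submodule.add_mem _ (aut_smul_mem_rootSpan x (ihy m)) (ihx m)

end Groth.Agent.Lib.Helper8
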