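import Groth.Agent.Lib.Helper8Root5

/-!
Helper library for the `RootD` cluster, part 6: the simple reflections generate the Weyl group and
every indivisible root is conjugate to a simple root.
-/

set_option autoImplicit false

open Set Function RootD

namespace Groth.Agent.Lib.Helper8

variable {ι M N : Type*} [AddCommGroup M] [AddCommGroup N] {P : RootPairing ι ℤ M N}

lemma aut_conj_reflection (u : P.Aut) (i : ι) :
    u * RootPairing.Equiv.reflection P i * u⁻¹ = RootPairing.Equiv.reflection P (u • i) := by
  apply RootPairing.Equiv.weightHom_injective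
  ext x
  have hx : x = u • (u⁻¹ • x) := by simp
  set y := u⁻¹ • x with hy
  show u • (RootPairing.Equiv.reflection P i • y) = P.reflection (u • i) x
  rw [hx]
  simp only [RootPairing.Equiv.reflection_smul, RootPairing.reflection_apply, smul_sub,
    smul_comm u]
  rw [← aut_root]
  congr 2
  exact (pairing_aut_smul u y i).symm

lemma indiv_aut (g : P.Aut) {k : ι} (hk : IsIndiv P k) : IsIndiv P (g • k) := by
  intro j hj
  apply hk (g⁻¹ • j)
  rw [aut_root, ← smul_comm, hj, aut_root, inv_smul_smul]

lemma indiv_neg {k : ι} (hk : IsIndiv P k) : IsIndiv P (P.reflectionPerm k k) := by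
  intro j hj
  apply hk (P.reflectionPerm j j)
  rw [root_neg, smul_neg, hj, root_neg, neg_neg]

variable (P) in
/-- The subgroup generated by the reflections in the roots indexed by `Δ`. -/
noncomputable def reflSub (Δ : Set ι) : Subgroup P.Aut :=
  Subgroup.closure ((fun i : ι => RootPairing.Equiv.reflection P i) '' Δ)

lemma refl_mem_reflSub {Δ : Set ι} {i : ι} (hi : i ∈ Δ) :
    RootPairing.Equiv.reflection P i ∈ reflSub P Δ :=
  Subgroup.subset_closure ⟨i, hi, rfl⟩

lemma reflSub_le_weylGroup (Δ : Set ι) : reflSub P Δ ≤ P.weylGroup := by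
  apply Subgroup.closure_mono
  rintro _ ⟨i, _, rfl⟩
  exact Set.mem_range_self i

variable [Finite ι]

lemma exists_simple_conj_of_pos {Δ : Set ι} (hΔ : IsSimpleSys P Δ) :
    ∀ (n : ℕ) (k : ι), k ∈ posOf P Δ → IsIndiv P k →
      (∀ φ : M →+ ℚ, (∀ i ∈ Δ, φ (P.root i) = 1) → φ (P.root k) = n) →
      ∃ g ∈ reflSub P Δ, ∃ i ∈ Δ, g • i = k := by
  intro n
  induction n using Nat.strong_induction_on with
  | _ n ih =>
    intro k hk hind hht
    by_cases hkΔ : k ∈ Δ
    · exact ⟨1, one_mem _, k, hkΔ, one_smul _ _⟩
    · obtain ⟨i, hi, hp⟩ := exists_pos_pairing_of_mem_natSpan P hk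
      have hnot : ∀ n : ℕ, P.root k ≠ n • P.root i := by
        intro n h
        have hn0 : (n : ℤ) ≠ 0 := by
          rintro h0
          have : n = 0 := by exact_mod_cast h0
          rw [this, zero_smul] at h
          exact P.ne_zero k h
        -- `n • root i = 1 • root k` with `k` indivisible forces `n = 1`
        have htf := isAddTorsionFree P
        have h2 : (n : ℤ) * P.pairing i k = 2 := by
          have := congrArg (fun x => P.toLinearMap x (P.coroot k)) h
          simp only [RootPairing.root_coroot_two, map_nsmul, LinearMap.smul_apply,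
            RootPairing.root_coroot_eq_pairing] at this
          rw [nsmul_eq_mul] at this
          linarith
        have hn2 : n = 1 ∨ n = 2 := by
          have hdvd : (n : ℤ) ∣ 2 := ⟨_, h2.symm⟩
          have h3 : n ∣ 2 := by exact_mod_cast hdvd
          have h4 : n ≤ 2 := Nat.le_of_dvd (by norm_num) h3
          have h5 : n ≠ 0 := by rintro rfl; simp at hn0
          omega
        rcases hn2 with rfl | rfl
        · rw [one_smul] at h
          exact hkΔ (P.root.injective h ▸ hi)
        · exact hind i (by rw [h, two_smul, two_nsmul])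
      have hpos := simple_reflection_pos hΔ hk hi hnot
      obtain ⟨φ, hφ⟩ := exists_height P hΔ.linInd
      have hφk := hht φ hφ
      -- the height of `s_i k`
      have hφs : φ (P.root (P.reflectionPerm i k)) = n - P.pairing k i := by
        rw [RootPairing.root_reflectionPerm, RootPairing.reflection_apply_root, map_sub,
          map_zsmul, hφ i hi, hφk]
        simp
      obtain ⟨m, hm⟩ := exists_nat_of_mem_natSpan P φ
        (fun l hl => ⟨1, by rw [hφ l hl]; simp⟩) hpos
      have hmn : m < n := by
        have h1 : (m : ℚ) = n - P.pairing k i := by rw [← hm, hφs]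
        have h2 : (0 : ℚ) < P.pairing k i := by exact_mod_cast hp
        have h3 : (m : ℚ) < n := by linarith
        exact_mod_cast h3
      have hind' : IsIndiv P (P.reflectionPerm i k) :=
        indiv_aut (RootPairing.Equiv.reflection P i) hind
      obtain ⟨g, hg, j, hj, hgj⟩ := ih m hmn (P.reflectionPerm i k) hpos hind' (by
        intro ψ hψ
        -- any two height functionals agree on `natSpan Δ`
        have : ψ (P.root (P.reflectionPerm i k)) = φ (P.root (P.reflectionPerm i k)) := by
          have h0 := eq_zero_of_mem_natSpan P (ψ - φ)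
            (fun l hl => by simp [hψ l hl, hφ l hl]) hpos
          simpa [sub_eq_zero] using h0
        rw [this, hm])
      refine ⟨RootPairing.Equiv.reflection P i * g,
        mul_mem (refl_mem_reflSub hi) hg, j, hj, ?_⟩
      rw [mul_smul, hgj]
      show P.reflectionPerm i (P.reflectionPerm i k) = k
      apply P.root.injective
      simp

lemma exists_simple_conj {Δ : Set ι} (hΔ : IsSimpleSys P Δ) {k : ι} (hind : IsIndiv P k) :
    ∃ g ∈ reflSub P Δ, ∃ i ∈ Δ, g • i = k := by
  have key : ∀ k : ι, k ∈ posOf P Δ → IsIndiv P k → ∃ g ∈ reflSub P Δ, ∃ i ∈ Δ, g • i = k := by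
    intro k hk hind
    obtain ⟨φ, hφ⟩ := exists_height P hΔ.linInd
    obtain ⟨n, hn⟩ := exists_nat_of_mem_natSpan P φ
      (fun l hl => ⟨1, by rw [hφ l hl]; simp⟩) hk
    refine exists_simple_conj_of_pos hΔ n k hk hind fun ψ hψ => ?_
    have h0 := eq_zero_of_mem_natSpan P (ψ - φ) (fun l hl => by simp [hψ l hl, hφ l hl]) hk
    have : ψ (P.root k) = φ (P.root k) := by simpa [sub_eq_zero] using h0
    rw [this, hn]
  rcases simple_posOf_cover hΔ k with hk | hk
  · exact key k hk hind
  · obtain ⟨g, hg, i, hi, hgi⟩ := key _ hk (indiv_neg hind)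
    refine ⟨g * RootPairing.Equiv.reflection P i, mul_mem hg (refl_mem_reflSub hi), i, hi, ?_⟩
    rw [mul_smul]
    have : RootPairing.Equiv.reflection P i • i = P.reflectionPerm i i := rfl
    rw [this, aut_neg, hgi, neg_neg_idx]

/-- The simple reflections generate the Weyl group. -/
lemma reflSub_simple_eq_weylGroup {Δ : Set ι} (hΔ : IsSimpleSys P Δ) :
    reflSub P Δ = P.weylGroup := by
  apply le_antisymm (reflSub_le_weylGroup Δ)
  rw [RootPairing.weylGroup, Subgroup.closure_le]
  rintro _ ⟨k, rfl⟩
  -- reduce to an indivisible root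
  have hred : ∃ k', IsIndiv P k' ∧
      RootPairing.Equiv.reflection P k' = RootPairing.Equiv.reflection P k := by
    by_cases hi : IsIndiv P k
    · exact ⟨k, hi, rfl⟩
    · unfold IsIndiv at hi
      push Not at hi
      obtain ⟨j, hj⟩ := hi
      refine ⟨j, ?_, equivReflection_eq_of_root_eq_smul P j k 2 hj.symm⟩
      intro j' hj'
      have h4 : P.root k = (4 : ℤ) • P.root j' := by
        rw [← hj, ← hj', smul_smul]; norm_num
      have := congrArg (fun x => P.toLinearMap x (P.coroot k)) h4
      simp only [RootPairing.root_coroot_two, map_smul, LinearMap.smul_apply,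
        RootPairing.root_coroot_eq_pairing, smul_eq_mul] at this
      omega
  obtain ⟨k', hk', hs⟩ := hred
  obtain ⟨g, hg, i, hi, hgi⟩ := exists_simple_conj hΔ hk'
  show RootPairing.Equiv.reflection P k ∈ reflSub P Δ
  rw [← hs, ← hgi, ← aut_conj_reflection]
  exact mul_mem (mul_mem hg (refl_mem_reflSub hi)) (inv_mem hg)

end Groth.Agent.Lib.Helper8
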