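import Groth.Agent.Lib.Helper8Root6
import Mathlib.Algebra.Order.Group.PiLex

/-!
Helper library for the `RootD` cluster, part 7: existence of systems of positive roots and of
systems of simple roots (lexicographic order on the values of the coroots).
-/

set_option autoImplicit false

open Set Function RootD

namespace Groth.Agent.Lib.Helper8

variable {ι M N : Type*} [AddCommGroup M] [AddCommGroup N] (P : RootPairing ι ℤ M N)

/-- The roots that are positive for an additive map to an ordered group, every root being
positive or negative, form a system of positive roots. -/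
lemma isPosSys_of_orderedHom {G : Type*} [AddCommGroup G] [PartialOrder G]
    [IsOrderedAddMonoid G] (φ : M →+ G) (hφ : ∀ i : ι, 0 < φ (P.root i) ∨ φ (P.root i) < 0) :
    IsPosSys P {i : ι | 0 < φ (P.root i)} := by
  refine ⟨fun i hi hi' => ?_, fun i => ?_, fun k n hn hk => ?_⟩
  · have h1 : 0 < φ (P.root i) := hi
    have h2 : 0 < φ (P.root (P.reflectionPerm i i)) := hi'
    rw [root_neg, map_neg] at h2
    have := add_pos h1 h2
    simp at this
  · rcases hφ i with h | h
    · exact Or.inl h
    · right
      show 0 < φ (P.root (P.reflectionPerm i i))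
      rw [root_neg, map_neg]
      exact neg_pos.mpr h
  · have h1 : 0 ≤ φ (n • P.root k) :=
      nonneg_of_mem_natSpan P φ (fun i hi => le_of_lt hi) hk
    rw [map_nsmul] at h1
    rcases hφ k with h | h
    · exact h
    · exfalso
      have : n • φ (P.root k) < 0 := by
        have := nsmul_pos (neg_pos.mpr h) hn.ne'
        rw [smul_neg] at this
        exact neg_pos.mp this
      exact absurd h1 (not_le_of_gt this)

variable [Finite ι]

/-- The lexicographic functional: values of the coroots in a fixed enumeration. -/
noncomputable def lexHom : M →+ Lex (Fin (Nat.card ι) → ℤ) where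
  toFun x := toLex fun j => P.toLinearMap x (P.coroot ((Finite.equivFin ι).symm j))
  map_zero' := by
    apply congrArg toLex
    funext j
    simp
  map_add' x y := by
    apply congrArg toLex
    funext j
    simp

lemma lexHom_root_ne_zero (i : ι) : lexHom P (P.root i) ≠ 0 := by
  intro h
  have h1 : ofLex (lexHom P (P.root i)) (Finite.equivFin ι i) = 0 := by rw [h]; rfl
  have h2 : ofLex (lexHom P (P.root i)) (Finite.equivFin ι i) = 2 := by
    simp [lexHom]
  omega

lemma exists_isPosSys : ∃ S : Set ι, IsPosSys P S :=
  ⟨_, isPosSys_of_orderedHom P (lexHom P) fun i =>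
    (lt_or_gt_of_ne (lexHom_root_ne_zero P i)).symm.imp id id⟩

lemma exists_isSimpleSys : ∃ Δ : Set ι, IsSimpleSys P Δ := by
  obtain ⟨S, hS⟩ := exists_isPosSys P
  exact ⟨_, weakPos_isSimpleSys (pos_weakPos hS)⟩

end Groth.Agent.Lib.Helper8
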