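import Mathlib.LinearAlgebra.RootSystem.WeylGroup

/-!
Helper library (general coefficients): words in simple reflections, the deletion property, and
triviality of Weyl group elements preserving positivity.  Abstracted over a set `Δ` of "simple"
indices and a predicate `Pos` of "positive" indices satisfying three axioms (`PosData`).
-/

set_option autoImplicit false

open Set Function

namespace Groth.Agent.Lib.Helper8

variable {ι R M N : Type*} [CommRing R] [AddCommGroup M] [Module R M] [AddCommGroup N]
  [Module R N] {P : RootPairing ι R M N}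

lemma gaut_root (g : P.Aut) (i : ι) : P.root (g • i) = g • P.root i :=
  RootPairing.Equiv.root_indexEquiv_eq_smul P i g

lemma gaut_neg (g : P.Aut) (i : ι) :
    g • (P.reflectionPerm i i) = P.reflectionPerm (g • i) (g • i) := by
  apply P.root.injective
  rw [gaut_root]
  simp only [RootPairing.root_reflectionPerm, RootPairing.reflection_apply_self]
  rw [gaut_root, smul_neg]

lemma gpairing_transpose (u : P.Aut) (y : M) (n : N) :
    P.toLinearMap (u • y) n = P.toLinearMap y (u.coweightMap n) := by
  have := RootPairing.Hom.weight_coweight_transpose_apply P P n u.toHom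
  have h2 := LinearMap.congr_fun this y
  have h3 : P.toLinearMap (u.weightMap y) n = P.toLinearMap y (u.coweightMap n) := by
    simpa using h2
  exact h3

lemma gcoweightMap_coroot (u : P.Aut) (i : ι) :
    u.coweightMap (P.coroot (u • i)) = P.coroot i := by
  have := RootPairing.Hom.coroot_coweightMap_apply P P (u • i) u.toHom
  rw [this]
  congr 1
  exact u.indexEquiv.symm_apply_apply i

lemma gpairing_aut_smul (u : P.Aut) (y : M) (i : ι) :
    P.toLinearMap (u • y) (P.coroot (u • i)) = P.toLinearMap y (P.coroot i) := by
  rw [gpairing_transpose, gcoweightMap_coroot]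

lemma gaut_conj_reflection (u : P.Aut) (i : ι) :
    u * RootPairing.Equiv.reflection P i * u⁻¹ = RootPairing.Equiv.reflection P (u • i) := by
  apply RootPairing.Equiv.weightHom_injective
  ext x
  have hx : x = u • (u⁻¹ • x) := by simp
  set y := u⁻¹ • x with hy
  show u • (RootPairing.Equiv.reflection P i • y) = P.reflection (u • i) x
  rw [hx]
  simp only [RootPairing.Equiv.reflection_smul, RootPairing.reflection_apply, smul_sub,
    smul_comm u]
  rw [← gaut_root]
  congr 2
  exact (gpairing_aut_smul u y i).symm

lemma refl_mul_self (a : ι) :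
    RootPairing.Equiv.reflection P a * RootPairing.Equiv.reflection P a = 1 := by
  have := RootPairing.Equiv.reflection_inv P a
  nth_rw 1 [← this]
  rw [inv_mul_cancel]

lemma refl_smul_self (a : ι) :
    RootPairing.Equiv.reflection P a • a = P.reflectionPerm a a := rfl

lemma refl_smul (a k : ι) :
    RootPairing.Equiv.reflection P a • k = P.reflectionPerm a k := rfl

variable (P) in
/-- The product of the reflections along a list of indices. -/
noncomputable def word (l : List ι) : P.Aut :=
  (l.map fun a => RootPairing.Equiv.reflection P a).prod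

@[simp] lemma word_nil : word P [] = 1 := rfl

@[simp] lemma word_cons (a : ι) (l : List ι) :
    word P (a :: l) = RootPairing.Equiv.reflection P a * word P l := by
  simp [word]

lemma word_append (l l' : List ι) : word P (l ++ l') = word P l * word P l' := by
  simp [word]

lemma word_mem_closure {Δ : Set ι} (l : List ι) (hl : ∀ a ∈ l, a ∈ Δ) :
    word P l ∈ Subgroup.closure ((fun i : ι => RootPairing.Equiv.reflection P i) '' Δ) := by
  induction l with
  | nil => exact one_mem _
  | cons a l ih =>
    rw [word_cons]
    exact mul_mem (Subgroup.subset_closure ⟨a, hl a (by simp), rfl⟩)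
      (ih fun x hx => hl x (by simp [hx]))

lemma exists_word_of_mem_closure {Δ : Set ι} {g : P.Aut}
    (hg : g ∈ Subgroup.closure ((fun i : ι => RootPairing.Equiv.reflection P i) '' Δ)) :
    ∃ l : List ι, (∀ a ∈ l, a ∈ Δ) ∧ word P l = g := by
  induction hg using Subgroup.closure_induction'' with
  | mem x hx =>
    obtain ⟨i, hi, rfl⟩ := hx
    exact ⟨[i], by simpa using hi, by simp⟩
  | inv_mem x hx =>
    obtain ⟨i, hi, rfl⟩ := hx
    exact ⟨[i], by simpa using hi, by simp⟩
  | one => exact ⟨[], by simp, rfl⟩
  | mul x y _ _ ihx ihy =>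
    obtain ⟨l, hl, rfl⟩ := ihx
    obtain ⟨l', hl', rfl⟩ := ihy
    refine ⟨l ++ l', fun a ha => ?_, word_append l l'⟩
    rcases List.mem_append.mp ha with h | h
    · exact hl a h
    · exact hl' a h

variable (P) in
/-- Axioms on "simple" and "positive" indices. -/
structure PosData (Δ : Set ι) (Pos : ι → Prop) : Prop where
  simple_pos : ∀ a ∈ Δ, Pos a
  refl_pos : ∀ β b, Pos β → b ∈ Δ → β ≠ b → Pos (P.reflectionPerm b β)
  not_both : ∀ β, Pos β → ¬ Pos (P.reflectionPerm β β)

variable {Δ : Set ι} {Pos : ι → Prop}

/-- The deletion property. -/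
lemma deletion (h : PosData P Δ Pos) :
    ∀ (u : List ι), (∀ x ∈ u, x ∈ Δ) → ∀ a ∈ Δ, ¬ Pos (word P u • a) →
      ∃ u' : List ι, (∀ x ∈ u', x ∈ Δ) ∧ u'.length + 1 = u.length ∧
        word P u * RootPairing.Equiv.reflection P a = word P u' := by
  intro u
  induction u with
  | nil =>
    intro _ a ha hneg
    exact absurd (by simpa using h.simple_pos a ha) hneg
  | cons b u ih =>
    intro hu a ha hneg
    have hb : b ∈ Δ := hu b (by simp)
    have hu' : ∀ x ∈ u, x ∈ Δ := fun x hx => hu x (by simp [hx])
    by_cases hβ : Pos (word P u • a)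
    · -- then `word u • a = b`
      have hβb : word P u • a = b := by
        by_contra hne
        apply hneg
        rw [word_cons, mul_smul, refl_smul]
        exact h.refl_pos _ b hβ hb hne
      refine ⟨u, hu', by simp, ?_⟩
      have hconj := gaut_conj_reflection (word P u) a
      rw [hβb] at hconj
      rw [word_cons, ← hconj]
      simp only [mul_assoc, inv_mul_cancel_left]
      rw [refl_mul_self, mul_one]
    · obtain ⟨u', hu'Δ, hlen, hw⟩ := ih hu' a ha hβ
      refine ⟨b :: u', fun x hx => ?_, by simp [hlen], ?_⟩
      · rcases List.mem_cons.mp hx with rfl | hx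
        · exact hb
        · exact hu'Δ x hx
      · rw [word_cons, word_cons, mul_assoc, hw]

/-- The last letter of a minimal word is sent to a non-positive index. -/
lemma not_pos_of_minimal (h : PosData P Δ Pos) (l : List ι) (hl : ∀ a ∈ l, a ∈ Δ) (hne : l ≠ [])
    (hmin : ∀ l' : List ι, (∀ a ∈ l', a ∈ Δ) → word P l' = word P l → l.length ≤ l'.length) :
    ¬ Pos (word P l • l.getLast hne) := by
  intro hpos
  have hsplit := List.dropLast_append_getLast hne
  set a := l.getLast hne with ha
  have haΔ : a ∈ Δ := hl a (List.getLast_mem hne)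
  have hdl : ∀ x ∈ l.dropLast, x ∈ Δ := fun x hx => hl x (List.mem_of_mem_dropLast hx)
  have hw : word P l = word P l.dropLast * RootPairing.Equiv.reflection P a := by
    conv_lhs => rw [← hsplit]
    rw [word_append]
    simp
  have h1 : word P l • a = P.reflectionPerm (word P l.dropLast • a) (word P l.dropLast • a) := by
    rw [hw, mul_smul, refl_smul_self, gaut_neg]
  rw [h1] at hpos
  have hneg : ¬ Pos (word P l.dropLast • a) := by
    intro hp
    exact h.not_both _ hp hpos
  obtain ⟨u', hu', hlen, hwu⟩ := deletion h l.dropLast hdl a haΔ hneg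
  have := hmin u' hu' (by rw [hw, hwu])
  have hlen2 : l.dropLast.length + 1 = l.length := by
    conv_rhs => rw [← hsplit]
    simp
  omega

/-- An element of the group generated by the simple reflections sending every simple index to a
positive one is trivial. -/
lemma eq_one_of_simple_pos (h : PosData P Δ Pos) {g : P.Aut}
    (hg : g ∈ Subgroup.closure ((fun i : ι => RootPairing.Equiv.reflection P i) '' Δ))
    (hpos : ∀ a ∈ Δ, Pos (g • a)) : g = 1 := by
  classical
  have hex : ∃ n : ℕ, ∃ l : List ι, l.length = n ∧ (∀ a ∈ l, a ∈ Δ) ∧ word P l = g := by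
    obtain ⟨l, hl, hw⟩ := exists_word_of_mem_closure hg
    exact ⟨l.length, l, rfl, hl, hw⟩
  obtain ⟨l, hlen, hl, hw⟩ := Nat.find_spec hex
  by_cases hne : l = []
  · rw [← hw, hne, word_nil]
  · exfalso
    have hmin : ∀ l' : List ι, (∀ a ∈ l', a ∈ Δ) → word P l' = word P l →
        l.length ≤ l'.length := by
      intro l' hl' hw'
      rw [hlen]
      exact Nat.find_min' hex ⟨l', rfl, hl', hw'.trans hw⟩
    have := not_pos_of_minimal h l hl hne hmin
    rw [hw] at this
    exact this (hpos _ (hl _ (List.getLast_mem hne)))

end Groth.Agent.Lib.Helper8
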