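import Groth.Agent.Lib.Helper8Root7
import Groth.Agent.Lib.Helper8Weyl

/-!
Helper library for the `RootD` cluster, part 8: the deletion property for a system of simple
roots (root-only sense); the Weyl group acts simply transitively on systems of simple roots.
-/

set_option autoImplicit false

open Set Function RootD

namespace Groth.Agent.Lib.Helper8

variable {ι M N : Type*} [AddCommGroup M] [AddCommGroup N] {P : RootPairing ι ℤ M N}

lemma eq_of_indiv_of_eq_nsmul {k i : ι} (hind : IsIndiv P k) {n : ℕ}
    (h : P.root k = n • P.root i) : k = i := by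
  have hn0 : n ≠ 0 := by
    rintro rfl
    rw [zero_smul] at h
    exact P.ne_zero k h
  have h2 : (n : ℤ) * P.pairing i k = 2 := by
    have := congrArg (fun x => P.toLinearMap x (P.coroot k)) h
    simp only [RootPairing.root_coroot_two, map_nsmul, LinearMap.smul_apply,
      RootPairing.root_coroot_eq_pairing] at this
    rw [nsmul_eq_mul] at this
    linarith
  have hn2 : n = 1 ∨ n = 2 := by
    have hdvd : (n : ℤ) ∣ 2 := ⟨_, h2.symm⟩
    have h3 : n ∣ 2 := by exact_mod_cast hdvd
    have h4 : n ≤ 2 := Nat.le_of_dvd (by norm_num) h3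
    omega
  rcases hn2 with rfl | rfl
  · rw [one_smul] at h
    exact P.root.injective h
  · exact absurd (by rw [h, two_smul, two_nsmul]) (hind i)

variable [Finite ι]

omit [Finite ι] in
lemma simple_indiv {Δ : Set ι} (hΔ : IsSimpleSys P Δ) {i : ι} (hi : i ∈ Δ) : IsIndiv P i := by
  intro j hj
  obtain ⟨φ, h1, _, h3⟩ := simple_exists_coord hΔ hi
  have hφj : φ (P.root j) = 1 / 2 := by
    have := congrArg φ hj
    rw [h1, map_zsmul] at this
    have h' : (2 : ℤ) • φ (P.root j) = 2 * φ (P.root j) := by simp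
    rw [h'] at this
    linarith
  rcases hΔ.mem_or_neg_mem j with h | h
  · obtain ⟨n, hn⟩ := h3 _ h
    rw [hφj] at hn
    have h2 : (2 : ℚ) * n = 1 := by linarith
    have h3 : (2 * n : ℕ) = 1 := by exact_mod_cast h2
    omega
  · obtain ⟨n, hn⟩ := h3 _ h
    rw [map_neg, hφj] at hn
    have : (0 : ℚ) ≤ n := Nat.cast_nonneg n
    linarith

omit [Finite ι] in
/-- The abstract positivity data attached to a system of simple roots: positive indivisible
roots. -/
lemma simple_posData {Δ : Set ι} (hΔ : IsSimpleSys P Δ) :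
    PosData P Δ (fun k => k ∈ posOf P Δ ∧ IsIndiv P k) where
  simple_pos := fun a ha => ⟨subset_posOf P Δ ha, simple_indiv hΔ ha⟩
  refl_pos := by
    rintro β b ⟨hβ, hind⟩ hb hne
    refine ⟨simple_reflection_pos hΔ hβ hb fun n h => hne (eq_of_indiv_of_eq_nsmul hind h), ?_⟩
    exact indiv_aut (RootPairing.Equiv.reflection P b) hind
  not_both := by
    rintro β ⟨hβ, _⟩ ⟨hβ', _⟩
    exact simple_posOf_disjoint hΔ hβ hβ'

/-- An element of the Weyl group stabilising a system of simple roots is trivial. -/
lemma weyl_eq_one_of_stab {Δ : Set ι} (hΔ : IsSimpleSys P Δ) {g : P.Aut}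
    (hg : g ∈ P.weylGroup) (hstab : (fun i : ι => g • i) '' Δ ⊆ posOf P Δ) : g = 1 := by
  have hg' : g ∈ Subgroup.closure ((fun i : ι => RootPairing.Equiv.reflection P i) '' Δ) := by
    have := reflSub_simple_eq_weylGroup hΔ
    rw [← this] at hg
    exact hg
  refine eq_one_of_simple_pos (simple_posData hΔ) hg' fun a ha => ⟨hstab ⟨a, ha, rfl⟩, ?_⟩
  exact indiv_aut g (simple_indiv hΔ ha)

end Groth.Agent.Lib.Helper8
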