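import Mathlib
import Groth.Agent.Lib.Helper27Sect8
import Groth.Agent.Lib.Helper8KunzC

/-!
# The section ring of a point on a curve: monomial structure, finite generation, and the
comparison with the monomial algebra of the Weierstrass semigroup (helper8)
-/

set_option autoImplicit false
set_option linter.unusedSectionVars false
set_option linter.style.haveILetI false
universe u

noncomputable section

namespace Groth.Agent.Lib.Helper8.SectGor

open FunFld WithZero Polynomial Groth.Agent.Lib.LeadFF Groth.Agent.Lib.Helper27Sect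
  Groth.Agent.Lib.Helper8.MonoGr Groth.Agent.Lib.Helper8.Kunz

variable {k K : Type u} [Field k] [Field K] [Algebra k K]

/-- the Weierstrass semigroup (non-gaps) as a submonoid of `ℕ` -/
def HP (P : Place k K) : AddSubmonoid ℕ where
  carrier := {n | ¬ IsGap P n}
  zero_mem' := not_isGap_zero P
  add_mem' := fun ha hb => not_isGap_add ha hb

theorem mem_HP {P : Place k K} {n : ℕ} : n ∈ HP P ↔ ¬ IsGap P n := Iff.rfl

theorem monoClosed_RP (P : Place k K) : IsMonoClosed (RP P) := by
  intro p hp n
  rw [mem_RP] at hp ⊢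
  intro m
  rw [coeff_monomial]
  split_ifs with h
  · subst h; exact hp n
  · exact zero_mem _

theorem h0_RP (hK : IsFunctionField k K) (P : Place k K) :
    ∀ p ∈ RP P, ∃ c : k, p.coeff 0 = algebraMap k K c := by
  intro p hp
  have h1 := mem_RP.mp hp 0
  rw [Nat.cast_zero] at h1
  obtain ⟨c, hc⟩ := exists_const_of_mem_L_zero hK P h1
  exact ⟨c, hc.symm⟩

section
variable [IsAlgClosed k] (hK : IsFunctionField k K) (P : Place k K)
  {π : K} (hπ : P.1 π = exp (-1 : ℤ))

theorem range_phi : (phi hK P hπ).range = SH k (HP P) := by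
  apply le_antisymm
  · rintro _ ⟨p, rfl⟩
    intro n hn
    exact not_isGap_of_coeff_ne_zero hK P hπ p n hn
  · intro q hq
    rw [q.as_sum_support]
    refine Subalgebra.sum_mem _ fun n hn => ?_
    rw [← smul_X_eq_monomial]
    exact Subalgebra.smul_mem _ (X_pow_mem_range hK P hπ (hq n (mem_support_iff.mp hn))) _

theorem ker_phi_tX : RingHom.ker (phi hK P hπ) = Ideal.span {tX P} :=
  ker_phi hK P hπ (tX P) 1 one_ne_zero (by rw [tX_val, map_one, C_1, one_mul])

/-- `R/(T) ≃ k[H]` -/
def quotEquiv : (RP P ⧸ Ideal.span {tX P}) ≃ₐ[k] SH k (HP P) :=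
  (Ideal.quotientEquivAlgOfEq k (ker_phi_tX hK P hπ).symm).trans
    ((Ideal.quotientKerEquivRange (phi hK P hπ)).trans
      (Subalgebra.equivOfEq _ _ (range_phi hK P hπ)))

/-- homogeneous elements of the section ring -/
def IsHomog (n : ℕ) (p : RP P) : Prop := ∃ a : K, p.1 = monomial n a

theorem phi_homog {n : ℕ} {p : RP P} (hp : IsHomog P n p) :
    phi hK P hπ p = monomial n ((phi hK P hπ p).coeff n) := by
  obtain ⟨a, ha⟩ := hp
  ext m
  rw [coeff_monomial]
  split_ifs with h
  · rw [h]
  · rw [coeff_phi, ha, coeff_monomial, if_neg h, zero_mul, resK_zero]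

theorem isHomog_sub {n : ℕ} {p q : RP P} (hp : IsHomog P n p) (hq : IsHomog P n q) :
    IsHomog P n (p - q) := by
  obtain ⟨a, ha⟩ := hp
  obtain ⟨b, hb⟩ := hq
  refine ⟨a - b, ?_⟩
  show p.1 - q.1 = _
  rw [ha, hb, map_sub]

theorem isHomog_smul {n : ℕ} {p : RP P} (c : k) (hp : IsHomog P n p) : IsHomog P n (c • p) := by
  obtain ⟨a, ha⟩ := hp
  refine ⟨algebraMap k K c * a, ?_⟩
  show c • p.1 = _
  rw [ha, Algebra.smul_def, Polynomial.algebraMap_apply, C_mul_monomial]

theorem isHomog_mul {m n : ℕ} {p q : RP P} (hp : IsHomog P m p) (hq : IsHomog P n q) :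
    IsHomog P (m + n) (p * q) := by
  obtain ⟨a, ha⟩ := hp
  obtain ⟨b, hb⟩ := hq
  refine ⟨a * b, ?_⟩
  show p.1 * q.1 = _
  rw [ha, hb, monomial_mul_monomial]

/-- a homogeneous preimage of `X^n` for a non-gap `n` -/
theorem exists_homog_preimage {n : ℕ} (hn : ¬ IsGap P n) :
    ∃ g : RP P, IsHomog P n g ∧ phi hK P hπ g = X ^ n := by
  obtain ⟨p, hp⟩ := X_pow_mem_range hK P hπ hn
  have hp' : phi hK P hπ p = X ^ n := hp
  refine ⟨⟨monomial n (p.1.coeff n), monoClosed_RP P p.1 p.2 n⟩, ⟨_, rfl⟩, ?_⟩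
  ext m
  rw [coeff_phi, coeff_X_pow]
  show resK hK P ((monomial n (p.1.coeff n)).coeff m * π ^ m) = _
  rw [coeff_monomial]
  by_cases h : n = m
  · subst h
    rw [if_pos rfl, if_pos rfl, ← coeff_phi hK P hπ, hp', coeff_X_pow, if_pos rfl]
  · rw [if_neg h, if_neg (Ne.symm h), zero_mul, resK_zero]

/-- chosen homogeneous generators -/
def gfun (n : ℕ) : RP P := by
  classical
  exact if hn : ¬ IsGap P n then (exists_homog_preimage hK P hπ hn).choose else 0

theorem gfun_spec {n : ℕ} (hn : ¬ IsGap P n) :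
    IsHomog P n (gfun hK P hπ n) ∧ phi hK P hπ (gfun hK P hπ n) = X ^ n := by
  unfold gfun
  rw [dif_pos hn]
  exact (exists_homog_preimage hK P hπ hn).choose_spec

/-- the finite generating set -/
def gens (B : ℕ) : Finset (RP P) := by
  classical
  exact insert (tX P) ((Finset.range (B + 1)).image (gfun hK P hπ))

theorem tX_mem_gens (B : ℕ) : tX P ∈ gens hK P hπ B := by
  classical
  unfold gens
  exact Finset.mem_insert_self _ _

theorem gfun_mem_gens {B n : ℕ} (hn : n ≤ B) : gfun hK P hπ n ∈ gens hK P hπ B := by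
  classical
  unfold gens
  apply Finset.mem_insert_of_mem
  rw [Finset.mem_image]
  exact ⟨n, Finset.mem_range.mpr (by omega), rfl⟩

/-- kernel case of the generation argument -/
theorem mem_adjoin_of_phi_eq_zero (B n : ℕ)
    (ih : ∀ m < n, ∀ q : RP P, IsHomog P m q → q ∈ Algebra.adjoin k (gens hK P hπ B : Set (RP P)))
    (p : RP P) (hp : IsHomog P n p) (hphi : phi hK P hπ p = 0) :
    p ∈ Algebra.adjoin k (gens hK P hπ B : Set (RP P)) := by
  have h1 : p ∈ Ideal.span {tX P} := by
    rw [← ker_phi_tX hK P hπ]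
    exact (RingHom.mem_ker).mpr hphi
  rw [Ideal.mem_span_singleton'] at h1
  obtain ⟨q, hq⟩ := h1
  obtain ⟨a, ha⟩ := hp
  have h2 : q.1 * X = monomial n a := by
    rw [← ha, ← hq]
    show q.1 * X = q.1 * (tX P).1
    rw [tX_val]
  cases n with
  | zero =>
    have h3 : a = 0 := by
      have := congrArg (fun f => f.coeff 0) h2
      simp only [coeff_mul_X_zero, coeff_monomial] at this
      exact this.symm
    have h4 : p = 0 := by
      apply Subtype.ext
      rw [ha, h3, monomial_zero_right]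
      rfl
    rw [h4]
    exact Subalgebra.zero_mem _
  | succ m =>
    have h3 : q.1 = monomial m a := by
      have h4 : monomial (m + 1) a = monomial m a * X := by
        rw [monomial_mul_X]
      rw [h4] at h2
      exact mul_right_cancel₀ X_ne_zero h2
    have h5 := ih m (Nat.lt_succ_self m) q ⟨a, h3⟩
    rw [← hq]
    exact Subalgebra.mul_mem _ h5 (Algebra.subset_adjoin (tX_mem_gens hK P hπ B))

end

end Groth.Agent.Lib.Helper8.SectGor
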