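import Mathlib
import Groth.Agent.Lib.Helper8SectGorA

/-!
# The section ring of a point on a curve is a finitely generated algebra (helper8)
-/

set_option autoImplicit false
set_option linter.unusedSectionVars false
set_option linter.style.haveILetI false
universe u

noncomputable section

namespace Groth.Agent.Lib.Helper8.SectGor

open FunFld WithZero Polynomial Groth.Agent.Lib.LeadFF Groth.Agent.Lib.Helper27Sect
  Groth.Agent.Lib.Helper8.Kunz

variable {k K : Type u} [Field k] [Field K] [Algebra k K]

section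
variable [IsAlgClosed k] (hK : IsFunctionField k K) (P : Place k K)
  {π : K} (hπ : P.1 π = exp (-1 : ℤ))

theorem isHomog_zero (n : ℕ) : IsHomog P n (0 : RP P) := ⟨0, by rw [monomial_zero_right]; rfl⟩

theorem phi_eq_zero_of_coeff {n : ℕ} {p : RP P} (hp : IsHomog P n p)
    (h : (phi hK P hπ p).coeff n = 0) : phi hK P hπ p = 0 := by
  rw [phi_homog hK P hπ hp, h, monomial_zero_right]

theorem phi_sub_smul {n : ℕ} {p g : RP P} (hp : IsHomog P n p) (hg : phi hK P hπ g = X ^ n) :
    phi hK P hπ (p - (phi hK P hπ p).coeff n • g) = 0 := by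
  rw [map_sub, map_smul, hg, smul_X_eq_monomial]
  exact sub_eq_zero.mpr (phi_homog hK P hπ hp)

/-- every homogeneous element lies in the subalgebra generated by `gens` -/
theorem homog_mem_adjoin (N : ℕ) (hN : ∀ n, N ≤ n → ¬ IsGap P n) :
    ∀ n (p : RP P), IsHomog P n p →
      p ∈ Algebra.adjoin k (gens hK P hπ (2 * N + 1) : Set (RP P)) := by
  intro n
  induction n using Nat.strong_induction_on with
  | _ n ih =>
    intro p hp
    set c := (phi hK P hπ p).coeff n with hc
    by_cases hn : n ≤ 2 * N + 1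
    · by_cases hgap : IsGap P n
      · have hc0 : c = 0 := by
          by_contra hne
          exact not_isGap_of_coeff_ne_zero hK P hπ p n hne hgap
        exact mem_adjoin_of_phi_eq_zero hK P hπ _ n ih p hp
          (phi_eq_zero_of_coeff hK P hπ hp hc0)
      · obtain ⟨hg1, hg2⟩ := gfun_spec hK P hπ hgap
        have h1 : p - c • gfun hK P hπ n ∈ Algebra.adjoin k (gens hK P hπ (2 * N + 1) : Set (RP P)) :=
          mem_adjoin_of_phi_eq_zero hK P hπ _ n ih _ (isHomog_sub P hp (isHomog_smul P c hg1))
            (phi_sub_smul hK P hπ hp hg2)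
        have h2 : c • gfun hK P hπ n ∈ Algebra.adjoin k (gens hK P hπ (2 * N + 1) : Set (RP P)) :=
          Subalgebra.smul_mem _ (Algebra.subset_adjoin (gfun_mem_gens hK P hπ hn)) c
        have := Subalgebra.add_mem _ h1 h2
        rwa [sub_add_cancel] at this
    · push Not at hn
      have hh : ¬ IsGap P (N + 1) := hN _ (by omega)
      have hr : ¬ IsGap P (n - (N + 1)) := hN _ (by omega)
      obtain ⟨hg1, hg2⟩ := gfun_spec hK P hπ hh
      obtain ⟨hr1, hr2⟩ := gfun_spec hK P hπ hr
      have hrm := ih (n - (N + 1)) (by omega) _ hr1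
      have hgm : gfun hK P hπ (N + 1) ∈ Algebra.adjoin k (gens hK P hπ (2 * N + 1) : Set (RP P)) :=
        Algebra.subset_adjoin (gfun_mem_gens hK P hπ (by omega))
      have hprod : IsHomog P n (gfun hK P hπ (N + 1) * gfun hK P hπ (n - (N + 1))) := by
        have := isHomog_mul P hg1 hr1
        rwa [show N + 1 + (n - (N + 1)) = n by omega] at this
      have hphi : phi hK P hπ (gfun hK P hπ (N + 1) * gfun hK P hπ (n - (N + 1))) = X ^ n := by
        rw [map_mul, hg2, hr2, ← pow_add, show N + 1 + (n - (N + 1)) = n by omega]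
      have h1 := mem_adjoin_of_phi_eq_zero hK P hπ _ n ih _
        (isHomog_sub P hp (isHomog_smul P c hprod)) (phi_sub_smul hK P hπ hp hphi)
      have h2 := Subalgebra.smul_mem _ (Subalgebra.mul_mem _ hgm hrm) c
      have := Subalgebra.add_mem _ h1 h2
      rwa [sub_add_cancel] at this

theorem adjoin_gens_eq_top (N : ℕ) (hN : ∀ n, N ≤ n → ¬ IsGap P n) :
    Algebra.adjoin k (gens hK P hπ (2 * N + 1) : Set (RP P)) = ⊤ := by
  rw [eq_top_iff]
  intro p _
  rw [← Groth.Agent.Lib.Helper8.MonoGr.sum_compR (monoClosed_RP P) p]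
  refine Subalgebra.sum_mem _ fun n hn => ?_
  refine homog_mem_adjoin hK P hπ N hN n.toNat _ ?_
  by_cases h : 0 ≤ n
  · exact ⟨_, by rw [Groth.Agent.Lib.Helper8.MonoGr.compR_val, if_pos h]⟩
  · refine ⟨0, ?_⟩
    rw [Groth.Agent.Lib.Helper8.MonoGr.compR_val, if_neg h, monomial_zero_right]

include hK hπ in
theorem finiteType_RP : Algebra.FiniteType k (RP P) := by
  have hP := deg_eq_one_of_algClosed hK P
  exact ⟨⟨gens hK P hπ (2 * (2 * genus k K) + 1),
    adjoin_gens_eq_top hK P hπ (2 * genus k K) fun n hn => not_isGap_of_large hK P hP hn⟩⟩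

include hK hπ in
theorem isNoetherianRing_RP : IsNoetherianRing (RP P) := by
  have := finiteType_RP hK P hπ
  exact Algebra.FiniteType.isNoetherianRing k (RP P)

include hK hπ in
theorem isNoetherianRing_SH : IsNoetherianRing (SH k (HP P)) := by
  have := isNoetherianRing_RP hK P hπ
  exact isNoetherianRing_of_ringEquiv _ (quotEquiv hK P hπ).toRingEquiv

end

end Groth.Agent.Lib.Helper8.SectGor
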