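import Groth.Agent.Lib.Helper24SegreFin2
import Groth.Agent.Lib.Helper29GrConv
import Groth.Prelude.Def_GrSeg
import Groth.Prelude.Def_GrLC

/-!
# The Segre product of two graded modules as a graded module over the Segre product ring (helper8)
-/

set_option autoImplicit false
set_option linter.unusedSectionVars false
set_option linter.style.haveILetI false
universe u
open TensorProduct DirectSum

noncomputable section

namespace Groth.Agent.Lib.Helper8.Seg

open Groth.Agent.Lib.Helper24SegreFin Groth.Agent.Lib.Helper24SegreFin2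
  Groth.Agent.Lib.Helper29GrConv

variable {k : Type u} [Field k] {R S T : Type u} [CommRing R] [CommRing S] [CommRing T]
  [Algebra k R] [Algebra k S] [Algebra k T]

section Act

variable (X Y : Type u) [AddCommGroup X] [Module R X] [Module k X] [IsScalarTower k R X]
  [AddCommGroup Y] [Module S Y] [Module k Y] [IsScalarTower k S Y]

/-- `R` acting on the first factor -/
def fR : R →ₐ[k] Module.End k (X ⊗[k] Y) :=
  (Module.End.rTensorAlgHom k X Y).comp (Algebra.lsmul k k X)

/-- `S` acting on the second factor -/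
def fS : S →ₐ[k] Module.End k (X ⊗[k] Y) :=
  (Module.End.lTensorAlgHom k Y X).comp (Algebra.lsmul k k Y)

theorem fR_tmul (r : R) (x : X) (y : Y) : fR X Y r (x ⊗ₜ[k] y) = (r • x) ⊗ₜ[k] y := by
  show (LinearMap.rTensor Y (Algebra.lsmul k k X r)) (x ⊗ₜ[k] y) = _
  rw [LinearMap.rTensor_tmul]
  rfl

theorem fS_tmul (s : S) (x : X) (y : Y) : fS X Y s (x ⊗ₜ[k] y) = x ⊗ₜ[k] (s • y) := by
  show (LinearMap.lTensor X (Algebra.lsmul k k Y s)) (x ⊗ₜ[k] y) = _
  rw [LinearMap.lTensor_tmul]
  rfl

theorem fR_fS_commute (r : R) (s : S) : Commute (fR (k := k) (R := R) X Y r) (fS (k := k) (S := S) X Y s) := by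
  apply LinearMap.ext
  intro q
  induction q using TensorProduct.induction_on with
  | zero => simp
  | add x y hx hy => rw [map_add, map_add, hx, hy]
  | tmul m n =>
    rw [Module.End.mul_apply, Module.End.mul_apply, fS_tmul, fR_tmul, fR_tmul, fS_tmul]

/-- the action of `R ⊗ S` on `X ⊗ Y` as an algebra map -/
def actHom : R ⊗[k] S →ₐ[k] Module.End k (X ⊗[k] Y) :=
  Algebra.TensorProduct.lift (fR X Y) (fS X Y) (fR_fS_commute X Y)

theorem actHom_apply (b : R ⊗[k] S) (q : X ⊗[k] Y) : actHom X Y b q = GrSeg.act k R S X Y b q := by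
  induction b using TensorProduct.induction_on with
  | zero => simp
  | add x y hx hy => rw [map_add, LinearMap.add_apply, hx, hy, map_add, LinearMap.add_apply]
  | tmul r s =>
    induction q using TensorProduct.induction_on with
    | zero => simp
    | add x y hx hy => rw [map_add, map_add, hx, hy]
    | tmul m n =>
      rw [GrSeg.act_tmul]
      show (Algebra.TensorProduct.lift (fR X Y) (fS X Y) (fR_fS_commute X Y) (r ⊗ₜ[k] s))
        (m ⊗ₜ[k] n) = _
      rw [Algebra.TensorProduct.lift_tmul, Module.End.mul_apply, fS_tmul, fR_tmul]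

end Act

/-- The tensor product `X ⊗ Y` as a module over `T` through `ψ : T → R ⊗ S`: a type synonym. -/
def TP (_ψ : T →ₐ[k] R ⊗[k] S) (X Y : Type u) [AddCommGroup X] [Module k X]
    [AddCommGroup Y] [Module k Y] : Type u := X ⊗[k] Y

section TPbasic

variable (ψ : T →ₐ[k] R ⊗[k] S) (X Y : Type u) [AddCommGroup X] [Module k X]
  [AddCommGroup Y] [Module k Y]

instance instAddCommGroupTP : AddCommGroup (TP ψ X Y) := inferInstanceAs (AddCommGroup (X ⊗[k] Y))
instance instModuleKTP : Module k (TP ψ X Y) := inferInstanceAs (Module k (X ⊗[k] Y))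

/-- forget the `T`-structure -/
def ofTP : TP ψ X Y ≃ₗ[k] X ⊗[k] Y := LinearEquiv.refl k (X ⊗[k] Y)

/-- the inverse of `ofTP` -/
def toTP : X ⊗[k] Y ≃ₗ[k] TP ψ X Y := LinearEquiv.refl k (X ⊗[k] Y)

@[simp] theorem ofTP_toTP (z : X ⊗[k] Y) : ofTP ψ X Y (toTP ψ X Y z) = z := rfl
@[simp] theorem toTP_ofTP (z : TP ψ X Y) : toTP ψ X Y (ofTP ψ X Y z) = z := rfl

theorem ofTP_injective : Function.Injective (ofTP ψ X Y) := (ofTP ψ X Y).injective

variable {X Y} in
/-- induction principle for `TP` -/
theorem TP_induction {motive : TP ψ X Y → Prop} (z : TP ψ X Y)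
    (zero : motive 0) (tmul : ∀ x y, motive (toTP ψ X Y (x ⊗ₜ[k] y)))
    (add : ∀ z w, motive z → motive w → motive (z + w)) : motive z := by
  have h : ∀ w : X ⊗[k] Y, motive (toTP ψ X Y w) := by
    intro w
    induction w using TensorProduct.induction_on with
    | zero => rw [map_zero]; exact zero
    | tmul x y => exact tmul x y
    | add a b ha hb => rw [map_add]; exact add _ _ ha hb
  exact h (ofTP ψ X Y z)


end TPbasic

section TPinst

variable (ψ : T →ₐ[k] R ⊗[k] S) (X Y : Type u) [AddCommGroup X] [Module R X] [Module k X]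
  [IsScalarTower k R X] [AddCommGroup Y] [Module S Y] [Module k Y] [IsScalarTower k S Y]

instance instModuleTOfTP : Module T (TP ψ X Y) :=
  Module.compHom (X ⊗[k] Y) ((actHom X Y).toRingHom.comp ψ.toRingHom)

theorem ofTP_smul (t : T) (z : TP ψ X Y) :
    ofTP ψ X Y (t • z) = GrSeg.act k R S X Y (ψ t) (ofTP ψ X Y z) :=
  actHom_apply X Y (ψ t) z

instance instIsScalarTowerTP : IsScalarTower k T (TP ψ X Y) := ⟨fun c t z => by
  apply ofTP_injective
  rw [ofTP_smul, map_smul (ofTP ψ X Y) c (t • z), ofTP_smul, map_smul ψ c t, map_smul,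
    LinearMap.smul_apply]⟩

end TPinst

section TPmap

variable (ψ : T →ₐ[k] R ⊗[k] S) {X Y X' Y' X'' Y'' : Type u}
  [AddCommGroup X] [Module R X] [Module k X] [IsScalarTower k R X]
  [AddCommGroup Y] [Module S Y] [Module k Y] [IsScalarTower k S Y]
  [AddCommGroup X'] [Module R X'] [Module k X'] [IsScalarTower k R X']
  [AddCommGroup Y'] [Module S Y'] [Module k Y'] [IsScalarTower k S Y']
  [AddCommGroup X''] [Module R X''] [Module k X''] [IsScalarTower k R X'']
  [AddCommGroup Y''] [Module S Y''] [Module k Y''] [IsScalarTower k S Y'']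

theorem map_act (α : X →ₗ[R] X') (β : Y →ₗ[S] Y') (b : R ⊗[k] S) (z : X ⊗[k] Y) :
    TensorProduct.map (α.restrictScalars k) (β.restrictScalars k) (GrSeg.act k R S X Y b z) =
      GrSeg.act k R S X' Y' b
        (TensorProduct.map (α.restrictScalars k) (β.restrictScalars k) z) := by
  induction b using TensorProduct.induction_on with
  | zero => simp
  | add b b' hb hb' =>
    rw [map_add, LinearMap.add_apply, map_add, hb, hb', map_add, LinearMap.add_apply]
  | tmul r s =>
    induction z using TensorProduct.induction_on with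
    | zero => simp
    | add z z' hz hz' => rw [map_add, map_add, hz, hz', map_add, map_add]
    | tmul x y =>
      rw [GrSeg.act_tmul, TensorProduct.map_tmul, TensorProduct.map_tmul, GrSeg.act_tmul]
      simp only [LinearMap.coe_restrictScalars, map_smul]

/-- the `T`-linear map `α ⊗ β` -/
def tpMap (α : X →ₗ[R] X') (β : Y →ₗ[S] Y') : TP ψ X Y →ₗ[T] TP ψ X' Y' where
  toFun z := toTP ψ X' Y'
    (TensorProduct.map (α.restrictScalars k) (β.restrictScalars k) (ofTP ψ X Y z))
  map_add' z w := by rw [map_add, map_add, map_add]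
  map_smul' t z := by
    apply ofTP_injective
    rw [RingHom.id_apply, ofTP_smul ψ X' Y' t, ofTP_toTP, ofTP_toTP, ofTP_smul, map_act]

theorem ofTP_tpMap (α : X →ₗ[R] X') (β : Y →ₗ[S] Y') (z : TP ψ X Y) :
    ofTP ψ X' Y' (tpMap ψ α β z) =
      TensorProduct.map (α.restrictScalars k) (β.restrictScalars k) (ofTP ψ X Y z) := rfl

theorem tpMap_toTP_tmul (α : X →ₗ[R] X') (β : Y →ₗ[S] Y') (x : X) (y : Y) :
    tpMap ψ α β (toTP ψ X Y (x ⊗ₜ[k] y)) = toTP ψ X' Y' (α x ⊗ₜ[k] β y) := rfl

theorem tpMap_comp (α : X →ₗ[R] X') (β : Y →ₗ[S] Y') (α' : X' →ₗ[R] X'') (β' : Y' →ₗ[S] Y'')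
    (z : TP ψ X Y) : tpMap ψ α' β' (tpMap ψ α β z) = tpMap ψ (α' ∘ₗ α) (β' ∘ₗ β) z := by
  induction z using TP_induction ψ with
  | zero => rw [map_zero, map_zero, map_zero]
  | tmul x y => rfl
  | add z w hz hw => rw [map_add, map_add, map_add, hz, hw]

theorem tpMap_id (z : TP ψ X Y) : tpMap ψ (LinearMap.id : X →ₗ[R] X) (LinearMap.id : Y →ₗ[S] Y) z = z := by
  induction z using TP_induction ψ with
  | zero => rw [map_zero]
  | tmul x y => rfl
  | add z w hz hw => rw [map_add, hz, hw]

theorem tpMap_add_left (α α' : X →ₗ[R] X') (β : Y →ₗ[S] Y') (z : TP ψ X Y) :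
    tpMap ψ (α + α') β z = tpMap ψ α β z + tpMap ψ α' β z := by
  induction z using TP_induction ψ with
  | zero => rw [map_zero, map_zero, map_zero, add_zero]
  | tmul x y =>
    rw [tpMap_toTP_tmul, tpMap_toTP_tmul, tpMap_toTP_tmul, LinearMap.add_apply,
      TensorProduct.add_tmul, map_add]
  | add z w hz hw => rw [map_add, map_add, map_add, hz, hw]; abel

theorem tpMap_add_right (α : X →ₗ[R] X') (β β' : Y →ₗ[S] Y') (z : TP ψ X Y) :
    tpMap ψ α (β + β') z = tpMap ψ α β z + tpMap ψ α β' z := by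
  induction z using TP_induction ψ with
  | zero => rw [map_zero, map_zero, map_zero, add_zero]
  | tmul x y =>
    rw [tpMap_toTP_tmul, tpMap_toTP_tmul, tpMap_toTP_tmul, LinearMap.add_apply,
      TensorProduct.tmul_add, map_add]
  | add z w hz hw => rw [map_add, map_add, map_add, hz, hw]; abel

theorem tpMap_zero_left (β : Y →ₗ[S] Y') (z : TP ψ X Y) :
    tpMap ψ (0 : X →ₗ[R] X') β z = 0 := by
  induction z using TP_induction ψ with
  | zero => rw [map_zero]
  | tmul x y =>
    rw [tpMap_toTP_tmul, LinearMap.zero_apply, TensorProduct.zero_tmul, map_zero]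
  | add z w hz hw => rw [map_add, hz, hw, add_zero]

theorem tpMap_zero_right (α : X →ₗ[R] X') (z : TP ψ X Y) :
    tpMap ψ α (0 : Y →ₗ[S] Y') z = 0 := by
  induction z using TP_induction ψ with
  | zero => rw [map_zero]
  | tmul x y =>
    rw [tpMap_toTP_tmul, LinearMap.zero_apply, TensorProduct.tmul_zero, map_zero]
  | add z w hz hw => rw [map_add, hz, hw, add_zero]

theorem tpMap_sum_left {ι : Type*} (s : Finset ι) (α : ι → (X →ₗ[R] X')) (β : Y →ₗ[S] Y')
    (z : TP ψ X Y) : tpMap ψ (∑ i ∈ s, α i) β z = ∑ i ∈ s, tpMap ψ (α i) β z := by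
  classical
  induction s using Finset.induction_on with
  | empty => rw [Finset.sum_empty, Finset.sum_empty, tpMap_zero_left]
  | insert a s ha ih => rw [Finset.sum_insert ha, Finset.sum_insert ha, tpMap_add_left, ih]

theorem tpMap_sum_right {ι : Type*} (s : Finset ι) (α : X →ₗ[R] X') (β : ι → (Y →ₗ[S] Y'))
    (z : TP ψ X Y) : tpMap ψ α (∑ i ∈ s, β i) z = ∑ i ∈ s, tpMap ψ α (β i) z := by
  classical
  induction s using Finset.induction_on with
  | empty => rw [Finset.sum_empty, Finset.sum_empty, tpMap_zero_right]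
  | insert a s ha ih => rw [Finset.sum_insert ha, Finset.sum_insert ha, tpMap_add_right, ih]

/-- an element of `T` whose image is a pure tensor acts as the tensor product of the
multiplications -/
theorem smul_eq_tpMap {t : T} {r : R} {s : S} (h : ψ t = r ⊗ₜ[k] s) (z : TP ψ X Y) :
    t • z = tpMap ψ (LinearMap.lsmul R X r) (LinearMap.lsmul S Y s) z := by
  apply ofTP_injective
  rw [ofTP_smul, h, ofTP_tpMap]
  generalize ofTP ψ X Y z = w
  induction w using TensorProduct.induction_on with
  | zero => simp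
  | tmul x y => rw [GrSeg.act_tmul, TensorProduct.map_tmul]; rfl
  | add a b ha hb => rw [map_add, map_add, ha, hb]

end TPmap

end Groth.Agent.Lib.Helper8.Seg
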