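import Groth.Agent.Lib.Helper8Seg9

/-!
# Exactness of the total complex of Segre products in positive degrees (helper8)
-/

set_option autoImplicit false
set_option linter.unusedSectionVars false
set_option linter.style.haveILetI false
universe u
open TensorProduct DirectSum

noncomputable section

namespace Groth.Agent.Lib.Helper8.Seg

open Groth.Agent.Lib.Helper29GrConv Groth.Agent.Lib.Helper29LCAcyclic Groth.Agent.Lib.Helper8.Kun
  Groth.Agent.Lib.Helper8.Kun.Cpx Groth.Agent.Lib.Helper24SegreFin Groth.Agent.Lib.Helper24SegreFin2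

variable {k : Type u} [Field k] {R S T : Type u} [CommRing R] [CommRing S] [CommRing T]
  [Algebra k R] [Algebra k S] [Algebra k T]

section One

variable {𝒜 : ℤ → Submodule k R} [GradedAlgebra 𝒜]
variable (I : ℕ → GrLC.GMod.{u} 𝒜) (dI : ∀ p, (I p).carrier →ₗ[R] (I (p + 1)).carrier)
  (hdI : ∀ p, GrLC.IsGrHom (I p).gr (I (p + 1)).gr (dI p))
  (hddI : ∀ (p : ℕ) (x : (I p).carrier), dI (p + 1) (dI p x) = 0)
  (hexI : ∀ p, LinearMap.ker (dI (p + 1)) = LinearMap.range (dI p))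

include hexI in
theorem cpxE_exact (e : ℤ) (p : ℕ) :
    (cpxE I dI hdI hddI e).cyc (p + 1) ≤ (cpxE I dI hdI hddI e).bdy (p + 1) := by
  intro x hx
  have hx0 : dI (p + 1) (x.1 : (I (p + 1)).carrier) = 0 := congrArg Subtype.val hx
  have hx1 : (x.1 : (I (p + 1)).carrier) ∈ LinearMap.range (dI p) := by
    rw [← hexI p]; exact hx0
  obtain ⟨y, hy⟩ := hx1
  let y' : (I p).carrier := ((decompose (I p).gr y) e : (I p).carrier)
  have hy' : y' ∈ pieceK (I p) e := SetLike.coe_mem _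
  have h1 : dI p y' = x.1 := by
    have h := Groth.Agent.Lib.Helper29GrHom.decompose_map (I (p + 1)).gr (I p).gr (dI p) (hdI p) y e
    rw [← h, hy]
    exact DirectSum.decompose_of_mem_same _ x.2
  exact ⟨⟨y', hy'⟩, Subtype.ext h1⟩

end One

section Tot

variable {𝒜 : ℤ → Submodule k R} [GradedAlgebra 𝒜] {ℬ : ℤ → Submodule k S} [GradedAlgebra ℬ]
  (𝒯 : ℤ → Submodule k T) [GradedAlgebra 𝒯] (ψ : T →ₐ[k] R ⊗[k] S)
  (hT : GrSeg.IsSegreRing 𝒜 ℬ 𝒯 ψ)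
variable (I : ℕ → GrLC.GMod.{u} 𝒜) (dI : ∀ p, (I p).carrier →ₗ[R] (I (p + 1)).carrier)
  (hdI : ∀ p, GrLC.IsGrHom (I p).gr (I (p + 1)).gr (dI p))
  (hddI : ∀ (p : ℕ) (x : (I p).carrier), dI (p + 1) (dI p x) = 0)
variable (J : ℕ → GrLC.GMod.{u} ℬ) (dJ : ∀ q, (J q).carrier →ₗ[S] (J (q + 1)).carrier)
  (hdJ : ∀ q, GrLC.IsGrHom (J q).gr (J (q + 1)).gr (dJ q))
  (hddJ : ∀ (q : ℕ) (x : (J q).carrier), dJ (q + 1) (dJ q x) = 0)

theorem totInclE_Dt (e : ℤ) (g : Tot (cpxE I dI hdI hddI e) (cpxE J dJ hdJ hddJ e)) :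
    totInclE I dI hdI hddI J dJ hdJ hddJ e (Dt _ _ g) =
      Dt (cpxK I dI hddI) (cpxK J dJ hddJ) (totInclE I dI hdI hddI J dJ hdJ hddJ e g) :=
  totMap_Dt _ _ g

/-- an element of the abstract total complex of the degree `e` parts, as an element of the total
complex of Segre products -/
def pushE (n : ℕ) (e : ℤ) (g : Tot (cpxE I dI hdI hddI e) (cpxE J dJ hdJ hddJ e))
    (hg : g ∈ supp (cpxE I dI hdI hddI e) (cpxE J dJ hdJ hddJ e) n) :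
    ↥(totSub 𝒯 ψ hT I J n) :=
  ⟨(ofTotM ψ I dI hddI J dJ hddJ).symm (totInclE I dI hdI hddI J dJ hdJ hddJ e g), by
    refine ⟨fun p q h => ?_, fun p q => ?_⟩
    · rw [ofTotM_symm_apply]
      have := totMap_mem_supp (inclE I dI hdI hddI e) (inclE J dJ hdJ hddJ e) hg p q h
      show toTP ψ _ _ (totInclE I dI hdI hddI J dJ hdJ hddJ e g p q) = 0
      unfold totInclE
      rw [this, map_zero]
    · apply piece_le_segK ψ _ _ e
      show totInclE I dI hdI hddI J dJ hdJ hddJ e g p q ∈ GrSeg.segrePiece k (I p).gr (J q).gr e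
      exact totInclE_apply_mem I dI hdI hddI J dJ hdJ hddJ e g p q⟩

theorem ofTotM_pushE (n : ℕ) (e : ℤ) (g : Tot (cpxE I dI hdI hddI e) (cpxE J dJ hdJ hddJ e))
    (hg : g ∈ supp (cpxE I dI hdI hddI e) (cpxE J dJ hdJ hddJ e) n) :
    ofTotM ψ I dI hddI J dJ hddJ (pushE 𝒯 ψ hT I dI hdI hddI J dJ hdJ hddJ n e g hg).1 =
      totInclE I dI hdI hddI J dJ hdJ hddJ e g :=
  (ofTotM ψ I dI hddI J dJ hddJ).apply_symm_apply _

theorem pushE_mem (n : ℕ) (e : ℤ) (g : Tot (cpxE I dI hdI hddI e) (cpxE J dJ hdJ hddJ e))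
    (hg : g ∈ supp (cpxE I dI hdI hddI e) (cpxE J dJ hdJ hddJ e) n) :
    pushE 𝒯 ψ hT I dI hdI hddI J dJ hdJ hddJ n e g hg ∈ totGr 𝒯 ψ hT I J n e := by
  intro p q
  show totInclE I dI hdI hddI J dJ hdJ hddJ e g p q ∈ GrSeg.segrePiece k (I p).gr (J q).gr e
  exact totInclE_apply_mem I dI hdI hddI J dJ hdJ hddJ e g p q

theorem totD_pushE (n : ℕ) (e : ℤ) (g : Tot (cpxE I dI hdI hddI e) (cpxE J dJ hdJ hddJ e))
    (hg : g ∈ supp (cpxE I dI hdI hddI e) (cpxE J dJ hdJ hddJ e) n) :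
    totD 𝒯 ψ hT I dI hdI hddI J dJ hdJ hddJ n
      (pushE 𝒯 ψ hT I dI hdI hddI J dJ hdJ hddJ n e g hg) =
    pushE 𝒯 ψ hT I dI hdI hddI J dJ hdJ hddJ (n + 1) e (Dt _ _ g) (Dt_mem_supp hg) := by
  apply Subtype.ext
  apply (ofTotM ψ I dI hddI J dJ hddJ).injective
  rw [totD_coe, ofTotM_DtT, ofTotM_pushE, ofTotM_pushE, totInclE_Dt]

/-- homogeneous elements of the total complex come from the abstract complex -/
theorem exists_pushE_eq {n : ℕ} {e : ℤ} (f : ↥(totSub 𝒯 ψ hT I J n))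
    (hf : f ∈ totGr 𝒯 ψ hT I J n e) :
    ∃ (g : Tot (cpxE I dI hdI hddI e) (cpxE J dJ hdJ hddJ e))
      (hg : g ∈ supp (cpxE I dI hdI hddI e) (cpxE J dJ hdJ hddJ e) n),
      pushE 𝒯 ψ hT I dI hdI hddI J dJ hdJ hddJ n e g hg = f := by
  obtain ⟨g, hgf⟩ := exists_totInclE_eq ψ I dI hdI hddI J dJ hdJ hddJ hf
  have hg : g ∈ supp (cpxE I dI hdI hddI e) (cpxE J dJ hdJ hddJ e) n := by
    apply mem_supp_of_totMap (inclE I dI hdI hddI e) (inclE J dJ hdJ hddJ e)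
      (inclE_injective I dI hdI hddI e) (inclE_injective J dJ hdJ hddJ e)
    intro p q h
    have h1 : totInclE I dI hdI hddI J dJ hdJ hddJ e g p q = ofTP ψ _ _ (f.1 p q) :=
      congrFun (congrFun hgf p) q
    show totInclE I dI hdI hddI J dJ hdJ hddJ e g p q = 0
    rw [h1, f.2.1 p q h]
    exact map_zero _
  refine ⟨g, hg, Subtype.ext ?_⟩
  apply (ofTotM ψ I dI hddI J dJ hddJ).injective
  rw [ofTotM_pushE, hgf]

theorem pushE_injective (n : ℕ) (e : ℤ)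
    (g g' : Tot (cpxE I dI hdI hddI e) (cpxE J dJ hdJ hddJ e))
    (hg : g ∈ supp (cpxE I dI hdI hddI e) (cpxE J dJ hdJ hddJ e) n)
    (hg' : g' ∈ supp (cpxE I dI hdI hddI e) (cpxE J dJ hdJ hddJ e) n)
    (h : pushE 𝒯 ψ hT I dI hdI hddI J dJ hdJ hddJ n e g hg =
      pushE 𝒯 ψ hT I dI hdI hddI J dJ hdJ hddJ n e g' hg') : g = g' := by
  apply totInclE_injective I dI hdI hddI J dJ hdJ hddJ e
  rw [← ofTotM_pushE 𝒯 ψ hT I dI hdI hddI J dJ hdJ hddJ n e g hg,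
    ← ofTotM_pushE 𝒯 ψ hT I dI hdI hddI J dJ hdJ hddJ n e g' hg', h]

variable (hexI : ∀ p, LinearMap.ker (dI (p + 1)) = LinearMap.range (dI p))
  (hexJ : ∀ q, LinearMap.ker (dJ (q + 1)) = LinearMap.range (dJ q))

include hexI hexJ in
theorem exists_totD_eq_of_homogeneous {n : ℕ} {e : ℤ} (f : ↥(totSub 𝒯 ψ hT I J (n + 1)))
    (hf : f ∈ totGr 𝒯 ψ hT I J (n + 1) e)
    (hdf : totD 𝒯 ψ hT I dI hdI hddI J dJ hdJ hddJ (n + 1) f = 0) :
    ∃ g : ↥(totSub 𝒯 ψ hT I J n), g ∈ totGr 𝒯 ψ hT I J n e ∧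
      totD 𝒯 ψ hT I dI hdI hddI J dJ hdJ hddJ n g = f := by
  obtain ⟨f', hf', rfl⟩ := exists_pushE_eq 𝒯 ψ hT I dI hdI hddI J dJ hdJ hddJ f hf
  rw [totD_pushE] at hdf
  have h0 : (0 : ↥(totSub 𝒯 ψ hT I J (n + 1 + 1))) =
      pushE 𝒯 ψ hT I dI hdI hddI J dJ hdJ hddJ (n + 1 + 1) e 0 (zero_mem _) := by
    apply Subtype.ext
    apply (ofTotM ψ I dI hddI J dJ hddJ).injective
    rw [ofTotM_pushE]
    have e1 : ofTotM ψ I dI hddI J dJ hddJ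
        ((0 : ↥(totSub 𝒯 ψ hT I J (n + 1 + 1))) : TotM ψ I J) = 0 := map_zero _
    rw [e1]
    exact (map_zero (totInclE I dI hdI hddI J dJ hdJ hddJ e)).symm
  rw [h0] at hdf
  have hDt := pushE_injective 𝒯 ψ hT I dI hdI hddI J dJ hdJ hddJ _ e _ _ _ _ hdf
  have hcyc : f' ∈ totCyc (cpxE I dI hdI hddI e) (cpxE J dJ hdJ hddJ e) (n + 1) := ⟨hf', hDt⟩
  obtain ⟨g', hg', hg'f⟩ := totCyc_le_totBdy_of_exact (cpxE_exact I dI hdI hddI hexI e)
    (cpxE_exact J dJ hdJ hddJ hexJ e) n hcyc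
  refine ⟨pushE 𝒯 ψ hT I dI hdI hddI J dJ hdJ hddJ n e g' hg',
    pushE_mem 𝒯 ψ hT I dI hdI hddI J dJ hdJ hddJ n e g' hg', ?_⟩
  rw [totD_pushE]
  congr 1

theorem totD_totP (n : ℕ) (e : ℤ) (f : ↥(totSub 𝒯 ψ hT I J n)) :
    totD 𝒯 ψ hT I dI hdI hddI J dJ hdJ hddJ n (totP 𝒯 ψ hT I J n e f) =
      totP 𝒯 ψ hT I J (n + 1) e (totD 𝒯 ψ hT I dI hdI hddI J dJ hdJ hddJ n f) := by
  letI := totDec 𝒯 ψ hT I J n
  letI := totDec 𝒯 ψ hT I J (n + 1)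
  have h := Groth.Agent.Lib.Helper29GrHom.decompose_map (totGr 𝒯 ψ hT I J (n + 1))
    (totGr 𝒯 ψ hT I J n) (totD 𝒯 ψ hT I dI hdI hddI J dJ hdJ hddJ n)
    (totD_isGrHom 𝒯 ψ hT I dI hdI hddI J dJ hdJ hddJ n) f e
  rw [decompose_eq_proj (totGr 𝒯 ψ hT I J (n + 1)) (totP 𝒯 ψ hT I J (n + 1))
      (fun e f hf => totP_of_mem_same 𝒯 ψ hT I J (n + 1) e f hf)
      (fun e e' f h hf => totP_of_mem_ne 𝒯 ψ hT I J (n + 1) e e' f h hf),
    decompose_eq_proj (totGr 𝒯 ψ hT I J n) (totP 𝒯 ψ hT I J n)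
      (fun e f hf => totP_of_mem_same 𝒯 ψ hT I J n e f hf)
      (fun e e' f h hf => totP_of_mem_ne 𝒯 ψ hT I J n e e' f h hf)] at h
  exact h.symm

include hexI hexJ in
/-- the total complex of Segre products is exact in positive degrees -/
theorem totD_exact_succ (n : ℕ) :
    LinearMap.ker (totD 𝒯 ψ hT I dI hdI hddI J dJ hdJ hddJ (n + 1)) =
      LinearMap.range (totD 𝒯 ψ hT I dI hdI hddI J dJ hdJ hddJ n) := by
  classical
  apply le_antisymm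
  · intro f hf
    rw [LinearMap.mem_ker] at hf
    obtain ⟨s, hs⟩ := exists_sum_totP 𝒯 ψ hT I J (n + 1) f
    have h : ∀ e : ℤ, ∃ g : ↥(totSub 𝒯 ψ hT I J n),
        totD 𝒯 ψ hT I dI hdI hddI J dJ hdJ hddJ n g = totP 𝒯 ψ hT I J (n + 1) e f := by
      intro e
      obtain ⟨g, -, hg⟩ := exists_totD_eq_of_homogeneous 𝒯 ψ hT I dI hdI hddI J dJ hdJ hddJ
        hexI hexJ (totP 𝒯 ψ hT I J (n + 1) e f) (totP_mem 𝒯 ψ hT I J (n + 1) e f)
        (by rw [totD_totP, hf, map_zero])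
      exact ⟨g, hg⟩
    choose g hg using h
    refine ⟨∑ e ∈ s, g e, ?_⟩
    rw [map_sum, ← hs]
    exact Finset.sum_congr rfl fun e _ => hg e
  · rintro _ ⟨g, rfl⟩
    exact totD_totD 𝒯 ψ hT I dI hdI hddI J dJ hdJ hddJ n g

end Tot

end Groth.Agent.Lib.Helper8.Seg
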