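import Groth.Agent.Lib.Helper8Seg10

/-!
# The augmentation of the total complex of Segre products (helper8)
-/

set_option autoImplicit false
set_option linter.unusedSectionVars false
set_option linter.style.haveILetI false
universe u
open TensorProduct DirectSum

noncomputable section

namespace Groth.Agent.Lib.Helper8.Seg

open Groth.Agent.Lib.Helper29GrConv Groth.Agent.Lib.Helper29LCAcyclic Groth.Agent.Lib.Helper8.Kun
  Groth.Agent.Lib.Helper8.Kun.Cpx Groth.Agent.Lib.Helper24SegreFin Groth.Agent.Lib.Helper24SegreFin2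

variable {k : Type u} [Field k] {R S T : Type u} [CommRing R] [CommRing S] [CommRing T]
  [Algebra k R] [Algebra k S] [Algebra k T]

section GrInj

variable {M : Type u} [AddCommGroup M] [Module R M] (ℳ : ℤ → AddSubgroup M)
  [DirectSum.Decomposition ℳ] {X : Type u} [AddCommGroup X] [Module R X] (𝒳 : ℤ → AddSubgroup X)
  [DirectSum.Decomposition 𝒳]

theorem mem_of_map_mem (ε : M →ₗ[R] X) (hε : GrLC.IsGrHom ℳ 𝒳 ε) (hinj : Function.Injective ε)
    {e : ℤ} {m : M} (hm : ε m ∈ 𝒳 e) : m ∈ ℳ e := by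
  classical
  have h1 : ∀ e', e' ≠ e → ((decompose ℳ m) e' : M) = 0 := by
    intro e' he'
    apply hinj
    rw [← Groth.Agent.Lib.Helper29GrHom.decompose_map 𝒳 ℳ ε hε m e', map_zero]
    exact DirectSum.decompose_of_mem_ne 𝒳 hm (Ne.symm he')
  have h2 : m = ((decompose ℳ m) e : M) := by
    conv_lhs => rw [← DirectSum.sum_support_decompose ℳ m]
    apply Finset.sum_eq_single e
    · intro e' _ he'
      exact h1 e' he'
    · intro he
      rw [DFinsupp.notMem_support_iff] at he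
      rw [he]
      rfl
  rw [h2]
  exact SetLike.coe_mem _

end GrInj

section Tot

variable {𝒜 : ℤ → Submodule k R} [GradedAlgebra 𝒜] {ℬ : ℤ → Submodule k S} [GradedAlgebra ℬ]
  (𝒯 : ℤ → Submodule k T) [GradedAlgebra 𝒯] (ψ : T →ₐ[k] R ⊗[k] S)
  (hT : GrSeg.IsSegreRing 𝒜 ℬ 𝒯 ψ)
variable (I : ℕ → GrLC.GMod.{u} 𝒜) (dI : ∀ p, (I p).carrier →ₗ[R] (I (p + 1)).carrier)
  (hdI : ∀ p, GrLC.IsGrHom (I p).gr (I (p + 1)).gr (dI p))
  (hddI : ∀ (p : ℕ) (x : (I p).carrier), dI (p + 1) (dI p x) = 0)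
variable (J : ℕ → GrLC.GMod.{u} ℬ) (dJ : ∀ q, (J q).carrier →ₗ[S] (J (q + 1)).carrier)
  (hdJ : ∀ q, GrLC.IsGrHom (J q).gr (J (q + 1)).gr (dJ q))
  (hddJ : ∀ (q : ℕ) (x : (J q).carrier), dJ (q + 1) (dJ q x) = 0)
variable {M : Type u} [AddCommGroup M] [Module R M] [Module k M] [IsScalarTower k R M]
  (ℳ : ℤ → AddSubgroup M) [DirectSum.Decomposition ℳ] [SetLike.GradedSMul 𝒜 ℳ]
  (εM : M →ₗ[R] (I 0).carrier) (hεM : GrLC.IsGrHom ℳ (I 0).gr εM)
  (hεMinj : Function.Injective εM) (hexM : LinearMap.ker (dI 0) = LinearMap.range εM)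
variable {N : Type u} [AddCommGroup N] [Module S N] [Module k N] [IsScalarTower k S N]
  (𝒩 : ℤ → AddSubgroup N) [DirectSum.Decomposition 𝒩] [SetLike.GradedSMul ℬ 𝒩]
  (εN : N →ₗ[S] (J 0).carrier) (hεN : GrLC.IsGrHom 𝒩 (J 0).gr εN)
  (hεNinj : Function.Injective εN) (hexN : LinearMap.ker (dJ 0) = LinearMap.range εN)
variable {P : Type u} [AddCommGroup P] [Module T P] [Module k P] [IsScalarTower k T P]
  (𝒬 : ℤ → AddSubgroup P) [DirectSum.Decomposition 𝒬] [SetLike.GradedSMul 𝒯 𝒬]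
  (φ : P →ₗ[k] M ⊗[k] N) (hP : GrSeg.IsSegreMod ψ ℳ 𝒩 𝒬 φ)

/-- the presentation of `P` as a `T`-linear map into `M ⊗ N` -/
def φT : P →ₗ[T] TP ψ M N where
  toFun p := toTP ψ M N (φ p)
  map_add' p p' := by rw [map_add, map_add]
  map_smul' t p := by
    apply ofTP_injective
    rw [RingHom.id_apply, ofTP_toTP, ofTP_smul, ofTP_toTP]
    exact hP.map_smul t p

theorem φT_mem_piece {e : ℤ} {p : P} (hp : p ∈ 𝒬 e) : φT ψ ℳ 𝒩 𝒬 φ hP p ∈ piece ψ ℳ 𝒩 e := by
  rw [mem_piece]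
  show φ p ∈ GrSeg.segrePiece k ℳ 𝒩 e
  have h : φ p ∈ φ '' (𝒬 e : Set P) := ⟨p, hp, rfl⟩
  rw [hP.image_piece e] at h
  exact h

theorem φT_mem_segK (p : P) : φT ψ ℳ 𝒩 𝒬 φ hP p ∈ segK ψ ℳ 𝒩 := by
  induction p using DirectSum.Decomposition.inductionOn 𝒬 with
  | zero => rw [map_zero]; exact zero_mem _
  | homogeneous p =>
    rename_i e
    exact piece_le_segK ψ ℳ 𝒩 e (φT_mem_piece ψ ℳ 𝒩 𝒬 φ hP p.2)
  | add p p' hp hp' => rw [map_add]; exact add_mem hp hp'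

/-- the inclusion of bidegree `(0, 0)` -/
def single00fun (z : TP ψ (I 0).carrier (J 0).carrier) : TotM ψ I J
  | 0, 0 => z
  | 0, _ + 1 => 0
  | _ + 1, _ => 0

/-- the inclusion of bidegree `(0, 0)` -/
def single00 : TP ψ (I 0).carrier (J 0).carrier →ₗ[T] TotM ψ I J where
  toFun := single00fun ψ I J
  map_add' z w := by
    funext p q
    cases p with
    | zero =>
      cases q with
      | zero => rfl
      | succ q => exact (add_zero _).symm
    | succ p => exact (add_zero _).symm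
  map_smul' t z := by
    funext p q
    cases p with
    | zero =>
      cases q with
      | zero => rfl
      | succ q => exact (smul_zero t).symm
    | succ p => exact (smul_zero t).symm

theorem single00_zero_zero (z : TP ψ (I 0).carrier (J 0).carrier) :
    single00 ψ I J z 0 0 = z := rfl

theorem single00_of_ne (z : TP ψ (I 0).carrier (J 0).carrier) (p q : ℕ) (h : p + q ≠ 0) :
    single00 ψ I J z p q = 0 := by
  cases p with
  | zero =>
    cases q with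
    | zero => exact absurd rfl h
    | succ q => rfl
  | succ p => rfl

include hεM hεN in
theorem single00_mem_totSub (p : P) :
    single00 ψ I J (tpMap ψ εM εN (φT ψ ℳ 𝒩 𝒬 φ hP p)) ∈ totSub 𝒯 ψ hT I J 0 := by
  refine ⟨fun p' q' h => single00_of_ne ψ I J _ p' q' h, fun p' q' => ?_⟩
  by_cases h : p' + q' = 0
  · have hp' : p' = 0 := by omega
    have hq' : q' = 0 := by omega
    subst hp' hq'
    rw [single00_zero_zero]
    exact tpMap_mem_segK ψ ℳ 𝒩 _ _ εM hεM εN hεN (φT_mem_segK ψ ℳ 𝒩 𝒬 φ hP p)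
  · rw [single00_of_ne ψ I J _ p' q' h]
    exact zero_mem _

/-- the augmentation of the total complex -/
def totε : P →ₗ[T] ↥(totSub 𝒯 ψ hT I J 0) :=
  LinearMap.codRestrict (totSub 𝒯 ψ hT I J 0)
    (single00 ψ I J ∘ₗ tpMap ψ εM εN ∘ₗ φT ψ ℳ 𝒩 𝒬 φ hP)
    (fun p => single00_mem_totSub 𝒯 ψ hT I J ℳ εM hεM 𝒩 εN hεN 𝒬 φ hP p)

theorem totε_zero_zero (p : P) :
    (totε 𝒯 ψ hT I J ℳ εM hεM 𝒩 εN hεN 𝒬 φ hP p).1 0 0 =
      tpMap ψ εM εN (φT ψ ℳ 𝒩 𝒬 φ hP p) := rfl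

theorem totε_isGrHom : GrLC.IsGrHom 𝒬 (totGr 𝒯 ψ hT I J 0)
    (totε 𝒯 ψ hT I J ℳ εM hεM 𝒩 εN hεN 𝒬 φ hP) := by
  intro e p hp p' q'
  by_cases h : p' + q' = 0
  · have hp' : p' = 0 := by omega
    have hq' : q' = 0 := by omega
    subst hp' hq'
    rw [totε_zero_zero]
    exact tpMap_mem_piece ψ ℳ 𝒩 _ _ εM hεM εN hεN (φT_mem_piece ψ ℳ 𝒩 𝒬 φ hP hp)
  · have : (totε 𝒯 ψ hT I J ℳ εM hεM 𝒩 εN hεN 𝒬 φ hP p).1 p' q' = 0 :=
      single00_of_ne ψ I J _ p' q' h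
    rw [this]
    exact zero_mem _

include hεMinj hεNinj in
theorem totε_injective : Function.Injective (totε 𝒯 ψ hT I J ℳ εM hεM 𝒩 εN hεN 𝒬 φ hP) := by
  rw [injective_iff_map_eq_zero]
  intro p hp
  have h1 : tpMap ψ εM εN (φT ψ ℳ 𝒩 𝒬 φ hP p) = 0 := by
    rw [← totε_zero_zero 𝒯 ψ hT I J ℳ εM hεM 𝒩 εN hεN 𝒬 φ hP p, hp]
    rfl
  have h2 : TensorProduct.map (εM.restrictScalars k) (εN.restrictScalars k) (φ p) = 0 := by
    have := congrArg (ofTP ψ _ _) h1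
    rw [ofTP_tpMap, map_zero] at this
    exact this
  have h3 : φ p = 0 := by
    apply TensorProduct.map_injective_of_flat_flat (εM.restrictScalars k) (εN.restrictScalars k)
      hεMinj hεNinj
    rw [h2, map_zero]
  exact hP.injective (h3.trans (map_zero φ).symm)

end Tot

end Groth.Agent.Lib.Helper8.Seg
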