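import Groth.Agent.Lib.Helper8Seg11

/-!
# Exactness of the augmented total complex of Segre products in degree zero (helper8)
-/

set_option autoImplicit false
set_option linter.unusedSectionVars false
set_option linter.style.haveILetI false
universe u
open TensorProduct DirectSum

noncomputable section

namespace Groth.Agent.Lib.Helper8.Seg

open Groth.Agent.Lib.Helper29GrConv Groth.Agent.Lib.Helper29LCAcyclic Groth.Agent.Lib.Helper8.Kun
  Groth.Agent.Lib.Helper8.Kun.Cpx Groth.Agent.Lib.Helper24SegreFin Groth.Agent.Lib.Helper24SegreFin2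

variable {k : Type u} [Field k] {R S T : Type u} [CommRing R] [CommRing S] [CommRing T]
  [Algebra k R] [Algebra k S] [Algebra k T]

section KeyGen

variable {A B A' B' M N : Type u} [AddCommGroup A] [Module k A] [AddCommGroup B] [Module k B]
  [AddCommGroup A'] [Module k A'] [AddCommGroup B'] [Module k B']
  [AddCommGroup M] [Module k M] [AddCommGroup N] [Module k N]

theorem key_gen (iA : A →ₗ[k] A') (iB : B →ₗ[k] B') (εM : M →ₗ[k] A') (εN : N →ₗ[k] B')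
    (CA : Submodule k A) (CB : Submodule k B) (W : Submodule k (M ⊗[k] N))
    (h : ∀ x ∈ CA, ∀ y ∈ CB, ∃ m n, m ⊗ₜ[k] n ∈ W ∧ εM m = iA x ∧ εN n = iB y)
    (z : ↥CA ⊗[k] ↥CB) :
    TensorProduct.map iA iB (TensorProduct.map CA.subtype CB.subtype z) ∈
      W.map (TensorProduct.map εM εN) := by
  induction z using TensorProduct.induction_on with
  | zero => rw [map_zero, map_zero]; exact zero_mem _
  | add a b ha hb => rw [map_add, map_add]; exact add_mem ha hb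
  | tmul x y =>
    obtain ⟨m, n, hmn, hm, hn⟩ := h x.1 x.2 y.1 y.2
    refine ⟨m ⊗ₜ[k] n, hmn, ?_⟩
    rw [TensorProduct.map_tmul, TensorProduct.map_tmul, TensorProduct.map_tmul, hm, hn]
    rfl

end KeyGen

variable {𝒜 : ℤ → Submodule k R} [GradedAlgebra 𝒜] {ℬ : ℤ → Submodule k S} [GradedAlgebra ℬ]
  (𝒯 : ℤ → Submodule k T) [GradedAlgebra 𝒯] (ψ : T →ₐ[k] R ⊗[k] S)
  (hT : GrSeg.IsSegreRing 𝒜 ℬ 𝒯 ψ)
variable (I : ℕ → GrLC.GMod.{u} 𝒜) (dI : ∀ p, (I p).carrier →ₗ[R] (I (p + 1)).carrier)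
  (hdI : ∀ p, GrLC.IsGrHom (I p).gr (I (p + 1)).gr (dI p))
  (hddI : ∀ (p : ℕ) (x : (I p).carrier), dI (p + 1) (dI p x) = 0)
variable (J : ℕ → GrLC.GMod.{u} ℬ) (dJ : ∀ q, (J q).carrier →ₗ[S] (J (q + 1)).carrier)
  (hdJ : ∀ q, GrLC.IsGrHom (J q).gr (J (q + 1)).gr (dJ q))
  (hddJ : ∀ (q : ℕ) (x : (J q).carrier), dJ (q + 1) (dJ q x) = 0)
variable {M : Type u} [AddCommGroup M] [Module R M] [Module k M] [IsScalarTower k R M]
  (ℳ : ℤ → AddSubgroup M) [DirectSum.Decomposition ℳ] [SetLike.GradedSMul 𝒜 ℳ]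
  (εM : M →ₗ[R] (I 0).carrier) (hεM : GrLC.IsGrHom ℳ (I 0).gr εM)
  (hεMinj : Function.Injective εM) (hexM : LinearMap.ker (dI 0) = LinearMap.range εM)
variable {N : Type u} [AddCommGroup N] [Module S N] [Module k N] [IsScalarTower k S N]
  (𝒩 : ℤ → AddSubgroup N) [DirectSum.Decomposition 𝒩] [SetLike.GradedSMul ℬ 𝒩]
  (εN : N →ₗ[S] (J 0).carrier) (hεN : GrLC.IsGrHom 𝒩 (J 0).gr εN)
  (hεNinj : Function.Injective εN) (hexN : LinearMap.ker (dJ 0) = LinearMap.range εN)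
variable {P : Type u} [AddCommGroup P] [Module T P] [Module k P] [IsScalarTower k T P]
  (𝒬 : ℤ → AddSubgroup P) [DirectSum.Decomposition 𝒬] [SetLike.GradedSMul 𝒯 𝒬]
  (φ : P →ₗ[k] M ⊗[k] N) (hP : GrSeg.IsSegreMod ψ ℳ 𝒩 𝒬 φ)

include hexM hexN in
theorem totD_totε (p : P) : totD 𝒯 ψ hT I dI hdI hddI J dJ hdJ hddJ 0
    (totε 𝒯 ψ hT I J ℳ εM hεM 𝒩 εN hεN 𝒬 φ hP p) = 0 := by
  apply Subtype.ext
  funext p' q'
  rw [totD_coe, DtT_apply]
  have hdε : dI 0 ∘ₗ εM = 0 := by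
    apply LinearMap.ext
    intro m
    have : εM m ∈ LinearMap.ker (dI 0) := by rw [hexM]; exact ⟨m, rfl⟩
    exact this
  have hdε' : dJ 0 ∘ₗ εN = 0 := by
    apply LinearMap.ext
    intro m
    have : εN m ∈ LinearMap.ker (dJ 0) := by rw [hexN]; exact ⟨m, rfl⟩
    exact this
  set f := totε 𝒯 ψ hT I J ℳ εM hεM 𝒩 εN hεN 𝒬 φ hP p with hf
  have hA : ∀ p'' q'', tpMap ψ (dI p'') (LinearMap.id : (J q'').carrier →ₗ[S] (J q'').carrier)
      (f.1 p'' q'') = 0 := by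
    intro p'' q''
    by_cases h : p'' + q'' = 0
    · have hp' : p'' = 0 := by omega
      have hq' : q'' = 0 := by omega
      subst hp' hq'
      rw [hf, totε_zero_zero, tpMap_comp, hdε, tpMap_zero_left]
    · rw [f.2.1 p'' q'' h, map_zero]
  have hB : ∀ p'' q'', tpMap ψ (LinearMap.id : (I p'').carrier →ₗ[R] (I p'').carrier) (dJ q'')
      (f.1 p'' q'') = 0 := by
    intro p'' q''
    by_cases h : p'' + q'' = 0
    · have hp' : p'' = 0 := by omega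
      have hq' : q'' = 0 := by omega
      subst hp' hq'
      rw [hf, totε_zero_zero, tpMap_comp, hdε', tpMap_zero_right]
    · rw [f.2.1 p'' q'' h, map_zero]
  cases p' with
  | zero =>
    cases q' with
    | zero => exact add_zero _
    | succ q'' =>
      show (0 : TP ψ (I 0).carrier (J (q'' + 1)).carrier) + ((-1 : k) ^ 0) •
        tpMap ψ LinearMap.id (dJ q'') (f.1 0 q'') = 0
      rw [hB, smul_zero, add_zero]
  | succ p'' =>
    cases q' with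
    | zero =>
      show tpMap ψ (dI p'') LinearMap.id (f.1 p'' 0) +
        (0 : TP ψ (I (p'' + 1)).carrier (J 0).carrier) = 0
      rw [hA, add_zero]
    | succ q'' =>
      show tpMap ψ (dI p'') LinearMap.id (f.1 p'' (q'' + 1)) + ((-1 : k) ^ (p'' + 1)) •
        tpMap ψ LinearMap.id (dJ q'') (f.1 (p'' + 1) q'') = 0
      rw [hA, hB, smul_zero, add_zero]

include hεMinj hεNinj hexM hexN in
theorem exists_totε_eq_of_homogeneous {e : ℤ} (f : ↥(totSub 𝒯 ψ hT I J 0))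
    (hf : f ∈ totGr 𝒯 ψ hT I J 0 e)
    (hdf : totD 𝒯 ψ hT I dI hdI hddI J dJ hdJ hddJ 0 f = 0) :
    ∃ p : P, totε 𝒯 ψ hT I J ℳ εM hεM 𝒩 εN hεN 𝒬 φ hP p = f := by
  obtain ⟨f', hf', rfl⟩ := exists_pushE_eq 𝒯 ψ hT I dI hdI hddI J dJ hdJ hddJ f hf
  rw [totD_pushE] at hdf
  have h0 : (0 : ↥(totSub 𝒯 ψ hT I J (0 + 1))) =
      pushE 𝒯 ψ hT I dI hdI hddI J dJ hdJ hddJ (0 + 1) e 0 (zero_mem _) := by
    apply Subtype.ext
    apply (ofTotM ψ I dI hddI J dJ hddJ).injective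
    rw [ofTotM_pushE]
    have e1 : ofTotM ψ I dI hddI J dJ hddJ
        ((0 : ↥(totSub 𝒯 ψ hT I J (0 + 1))) : TotM ψ I J) = 0 := map_zero _
    rw [e1]
    exact (map_zero (totInclE I dI hdI hddI J dJ hdJ hddJ e)).symm
  rw [h0] at hdf
  have hDt := pushE_injective 𝒯 ψ hT I dI hdI hddI J dJ hdJ hddJ _ e _ _ _ _ hdf
  have hcyc : f' ∈ totCyc (cpxE I dI hdI hddI e) (cpxE J dJ hdJ hddJ e) 0 := ⟨hf', hDt⟩
  obtain ⟨z, hz⟩ := mem_range_of_mem_totCyc_zero hcyc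
  -- the key claim
  have key := key_gen ((inclE I dI hdI hddI e).f 0) ((inclE J dJ hdJ hddJ e).f 0)
    (εM.restrictScalars k) (εN.restrictScalars k) ((cpxE I dI hdI hddI e).cyc 0)
    ((cpxE J dJ hdJ hddJ e).cyc 0) (GrSeg.segrePiece k ℳ 𝒩 e) (by
      intro (x : ↥(pieceK (I 0) e)) hx (y : ↥(pieceK (J 0) e)) hy
      have hx0 : dI 0 ((x : ↥(pieceK (I 0) e)) : (I 0).carrier) = 0 :=
        congrArg Subtype.val hx
      have hx1 : ((x : ↥(pieceK (I 0) e)) : (I 0).carrier) ∈ LinearMap.range εM := by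
        rw [← hexM]; exact hx0
      obtain ⟨m, hm⟩ := hx1
      have hme : m ∈ ℳ e := mem_of_map_mem ℳ (I 0).gr εM hεM hεMinj (by rw [hm]; exact x.2)
      have hy0 : dJ 0 ((y : ↥(pieceK (J 0) e)) : (J 0).carrier) = 0 :=
        congrArg Subtype.val hy
      have hy1 : ((y : ↥(pieceK (J 0) e)) : (J 0).carrier) ∈ LinearMap.range εN := by
        rw [← hexN]; exact hy0
      obtain ⟨n, hn⟩ := hy1
      have hne : n ∈ 𝒩 e := mem_of_map_mem 𝒩 (J 0).gr εN hεN hεNinj (by rw [hn]; exact y.2)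
      exact ⟨m, n, Submodule.subset_span ⟨m, hme, n, hne, rfl⟩, hm, hn⟩)
  obtain ⟨w, hw, hwz⟩ := key z
  have hw' : w ∈ φ '' (𝒬 e : Set P) := by rw [hP.image_piece e]; exact hw
  obtain ⟨p0, -, hp0⟩ := hw'
  refine ⟨p0, Subtype.ext ?_⟩
  funext p' q'
  by_cases h : p' + q' = 0
  · have hp' : p' = 0 := by omega
    have hq' : q' = 0 := by omega
    subst hp' hq'
    rw [totε_zero_zero]
    apply ofTP_injective
    rw [ofTP_tpMap]
    show TensorProduct.map (εM.restrictScalars k) (εN.restrictScalars k) (φ p0) =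
      totInclE I dI hdI hddI J dJ hdJ hddJ e f' 0 0
    rw [hp0]
    exact hwz.trans (congrArg (TensorProduct.map ((inclE I dI hdI hddI e).f 0)
      ((inclE J dJ hdJ hddJ e).f 0)) hz)
  · have h1 : (totε 𝒯 ψ hT I J ℳ εM hεM 𝒩 εN hεN 𝒬 φ hP p0).1 p' q' = 0 :=
      single00_of_ne ψ I J _ p' q' h
    rw [h1]
    exact ((pushE 𝒯 ψ hT I dI hdI hddI J dJ hdJ hddJ 0 e f' hf').2.1 p' q' h).symm

include hεMinj hεNinj hexM hexN in
/-- exactness of the augmented total complex in degree zero -/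
theorem totD_exact_zero :
    LinearMap.ker (totD 𝒯 ψ hT I dI hdI hddI J dJ hdJ hddJ 0) =
      LinearMap.range (totε 𝒯 ψ hT I J ℳ εM hεM 𝒩 εN hεN 𝒬 φ hP) := by
  classical
  apply le_antisymm
  · intro f hf
    rw [LinearMap.mem_ker] at hf
    obtain ⟨s, hs⟩ := exists_sum_totP 𝒯 ψ hT I J 0 f
    have h : ∀ e : ℤ, ∃ p : P,
        totε 𝒯 ψ hT I J ℳ εM hεM 𝒩 εN hεN 𝒬 φ hP p = totP 𝒯 ψ hT I J 0 e f := by
      intro e
      exact exists_totε_eq_of_homogeneous 𝒯 ψ hT I dI hdI hddI J dJ hdJ hddJ ℳ εM hεM hεMinj hexM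
        𝒩 εN hεN hεNinj hexN 𝒬 φ hP (totP 𝒯 ψ hT I J 0 e f) (totP_mem 𝒯 ψ hT I J 0 e f)
        (by rw [totD_totP, hf, map_zero])
    choose g hg using h
    refine ⟨∑ e ∈ s, g e, ?_⟩
    rw [map_sum, ← hs]
    exact Finset.sum_congr rfl fun e _ => hg e
  · rintro _ ⟨p, rfl⟩
    exact totD_totε 𝒯 ψ hT I dI hdI hddI J dJ hdJ hddJ ℳ εM hεM hexM 𝒩 εN hεN hexN 𝒬 φ hP p

end Groth.Agent.Lib.Helper8.Seg
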