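import Groth.Agent.Lib.Helper8Seg12

/-!
# The terms of the total complex of Segre products of *injectives are `Γ_{T_+}`-acyclic (helper8)
-/

set_option autoImplicit false
set_option linter.unusedSectionVars false
set_option linter.style.haveILetI false
universe u
open TensorProduct DirectSum

noncomputable section

namespace Groth.Agent.Lib.Helper8.Seg

open Groth.Agent.Lib.Helper29GrConv Groth.Agent.Lib.Helper29LCAcyclic Groth.Agent.Lib.Helper8.Kun
  Groth.Agent.Lib.Helper8.Kun.Cpx Groth.Agent.Lib.Helper24SegreFin Groth.Agent.Lib.Helper24SegreFin2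

variable {k : Type u} [Field k] {R S T : Type u} [CommRing R] [CommRing S] [CommRing T]
  [Algebra k R] [Algebra k S] [Algebra k T]

variable {𝒜 : ℤ → Submodule k R} [GradedAlgebra 𝒜] {ℬ : ℤ → Submodule k S} [GradedAlgebra ℬ]
  (𝒯 : ℤ → Submodule k T) [GradedAlgebra 𝒯] (ψ : T →ₐ[k] R ⊗[k] S)
  (hT : GrSeg.IsSegreRing 𝒜 ℬ 𝒯 ψ)
variable (I : ℕ → GrLC.GMod.{u} 𝒜) (J : ℕ → GrLC.GMod.{u} ℬ)

/-- evaluation at a bidegree -/
def evPQ (n p q : ℕ) : ↥(totSub 𝒯 ψ hT I J n) →ₗ[T] TP ψ (I p).carrier (J q).carrier :=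
  (LinearMap.proj q ∘ₗ LinearMap.proj p) ∘ₗ (totSub 𝒯 ψ hT I J n).subtype

theorem evPQ_apply (n p q : ℕ) (f : ↥(totSub 𝒯 ψ hT I J n)) :
    evPQ 𝒯 ψ hT I J n p q f = f.1 p q := rfl

/-- insertion at a bidegree -/
def singlePQ (p q : ℕ) : TP ψ (I p).carrier (J q).carrier →ₗ[T] TotM ψ I J :=
  LinearMap.single T (fun p => ∀ q, TP ψ (I p).carrier (J q).carrier) p ∘ₗ
    LinearMap.single T (fun q => TP ψ (I p).carrier (J q).carrier) q

theorem singlePQ_same (p q : ℕ) (z : TP ψ (I p).carrier (J q).carrier) :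
    singlePQ ψ I J p q z p q = z := by
  show (Pi.single p (Pi.single q z) : TotM ψ I J) p q = z
  rw [Pi.single_eq_same, Pi.single_eq_same]

theorem singlePQ_of_ne (p q : ℕ) (z : TP ψ (I p).carrier (J q).carrier) (p' q' : ℕ)
    (h : ¬ (p' = p ∧ q' = q)) : singlePQ ψ I J p q z p' q' = 0 := by
  show (Pi.single p (Pi.single q z) : TotM ψ I J) p' q' = 0
  by_cases hp : p' = p
  · subst hp
    have hq : q' ≠ q := fun hq => h ⟨rfl, hq⟩
    rw [Pi.single_eq_same, Pi.single_eq_of_ne hq]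
  · rw [Pi.single_eq_of_ne hp]
    rfl

/-- insertion at a bidegree, after the diagonal retraction -/
def insPQ (n p q : ℕ) (hpq : p + q = n) :
    TP ψ (I p).carrier (J q).carrier →ₗ[T] ↥(totSub 𝒯 ψ hT I J n) :=
  LinearMap.codRestrict (totSub 𝒯 ψ hT I J n)
    (singlePQ ψ I J p q ∘ₗ rhoT 𝒜 ℬ 𝒯 ψ hT (I p).gr (J q).gr)
    (fun z => by
      refine ⟨fun p' q' h => ?_, fun p' q' => ?_⟩
      · apply singlePQ_of_ne
        rintro ⟨rfl, rfl⟩
        exact h hpq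
      · by_cases h : p' = p ∧ q' = q
        · obtain ⟨rfl, rfl⟩ := h
          rw [LinearMap.comp_apply, singlePQ_same]
          exact rhoT_mem_segK 𝒜 ℬ 𝒯 ψ hT _ _ z
        · rw [LinearMap.comp_apply, singlePQ_of_ne ψ I J p q _ p' q' h]
          exact zero_mem _)

theorem insPQ_same (n p q : ℕ) (hpq : p + q = n) (z : TP ψ (I p).carrier (J q).carrier) :
    (insPQ 𝒯 ψ hT I J n p q hpq z).1 p q = rhoT 𝒜 ℬ 𝒯 ψ hT (I p).gr (J q).gr z :=
  singlePQ_same ψ I J p q _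

theorem insPQ_of_ne (n p q : ℕ) (hpq : p + q = n) (z : TP ψ (I p).carrier (J q).carrier)
    (p' q' : ℕ) (h : ¬ (p' = p ∧ q' = q)) : (insPQ 𝒯 ψ hT I J n p q hpq z).1 p' q' = 0 :=
  singlePQ_of_ne ψ I J p q _ p' q' h

theorem sum_insPQ_evPQ (n : ℕ) (f : ↥(totSub 𝒯 ψ hT I J n)) :
    ∑ p ∈ (Finset.range (n + 1)).attach, insPQ 𝒯 ψ hT I J n p.1 (n - p.1)
      (by have := Finset.mem_range.mp p.2; omega) (evPQ 𝒯 ψ hT I J n p.1 (n - p.1) f) = f := by
  classical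
  apply Subtype.ext
  funext p' q'
  rw [AddSubmonoidClass.coe_finsetSum, Finset.sum_apply, Finset.sum_apply]
  by_cases hpq : p' + q' = n
  · have hp' : p' ∈ Finset.range (n + 1) := Finset.mem_range.mpr (by omega)
    rw [Finset.sum_eq_single ⟨p', hp'⟩]
    · have hq' : n - p' = q' := by omega
      subst hq'
      rw [insPQ_same, evPQ_apply]
      exact rhoT_of_mem_segK 𝒜 ℬ 𝒯 ψ hT _ _ (f.2.2 p' (n - p'))
    · intro p _ hne
      apply insPQ_of_ne
      rintro ⟨h1, -⟩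
      exact hne (Subtype.ext h1.symm)
    · intro h
      exact absurd (Finset.mem_attach _ _) h
  · rw [f.2.1 p' q' hpq]
    apply Finset.sum_eq_zero
    intro p _
    apply insPQ_of_ne
    rintro ⟨rfl, rfl⟩
    have := Finset.mem_range.mp p.2
    omega

section Acyc

variable [IsNoetherianRing R] [IsNoetherianRing S] [IsNoetherianRing T]
  (mR : HomogeneousIdeal 𝒜)
  (hmR : mR.toIdeal = Ideal.span (⋃ n ∈ Set.Ioi (0 : ℤ), (𝒜 n : Set R)))
  (mS : HomogeneousIdeal ℬ)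
  (hmS : mS.toIdeal = Ideal.span (⋃ n ∈ Set.Ioi (0 : ℤ), (ℬ n : Set S)))
  (mT : HomogeneousIdeal 𝒯)
  (hmT : mT.toIdeal = Ideal.span (⋃ n ∈ Set.Ioi (0 : ℤ), (𝒯 n : Set T)))
  (hI : ∀ p, GrLC.IsStarInj 𝒜 (I p).gr) (hJ : ∀ q, GrLC.IsStarInj ℬ (J q).gr)

include hmR hmS hmT hI hJ in
/-- the terms of the total complex are acyclic -/
theorem totSub_acyclic (n j : ℕ) (x : LC mT.toIdeal (j + 1) ↥(totSub 𝒯 ψ hT I J n)) : x = 0 := by
  classical
  refine LC_eq_zero_of_sum mT.toIdeal (j + 1) (Finset.range (n + 1)).attach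
    (fun p => insPQ 𝒯 ψ hT I J n p.1 (n - p.1) (by have := Finset.mem_range.mp p.2; omega) ∘ₗ
      evPQ 𝒯 ψ hT I J n p.1 (n - p.1)) ?_ ?_ x
  · apply LinearMap.ext
    intro f
    rw [LinearMap.sum_apply]
    exact sum_insPQ_evPQ 𝒯 ψ hT I J n f
  · intro p _ x
    exact LCmap_eq_zero_of_factor mT.toIdeal (j + 1) _ _
      (TP_acyclic 𝒜 ℬ 𝒯 ψ hT mR hmR mS hmS mT hmT (I p.1).gr (J (n - p.1)).gr (hI p.1)
        (hJ (n - p.1)) j) x

end Acyc

end Groth.Agent.Lib.Helper8.Seg
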