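import Groth.Agent.Lib.Helper8Seg13
import Groth.Agent.Lib.Helper29GrGam

/-!
# Torsion homogeneous elements of the total complex of Segre products (helper8)
-/

set_option autoImplicit false
set_option linter.unusedSectionVars false
set_option linter.style.haveILetI false
universe u
open TensorProduct DirectSum

noncomputable section

namespace Groth.Agent.Lib.Helper8.Seg

open Groth.Agent.Lib.Helper29GrConv Groth.Agent.Lib.Helper29LCAcyclic Groth.Agent.Lib.Helper8.Kun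
  Groth.Agent.Lib.Helper8.Kun.Cpx Groth.Agent.Lib.Helper24SegreFin Groth.Agent.Lib.Helper24SegreFin2

section Gam

variable {R : Type u} [CommRing R] (a : Ideal R) {L L' : Type u} [AddCommGroup L] [Module R L]
  [AddCommGroup L'] [Module R L']

theorem map_mem_gam (β : L →ₗ[R] L') {x : L} (hx : x ∈ GrLC.gam a L) : β x ∈ GrLC.gam a L' := by
  obtain ⟨n, hn⟩ := hx
  exact ⟨n, fun r hr => by rw [← map_smul, hn r hr, map_zero]⟩

end Gam

variable {k : Type u} [Field k] {R S T : Type u} [CommRing R] [CommRing S] [CommRing T]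
  [Algebra k R] [Algebra k S] [Algebra k T]

section GenW

variable {A B A' B' : Type u} [AddCommGroup A] [Module k A] [AddCommGroup B] [Module k B]
  [AddCommGroup A'] [Module k A'] [AddCommGroup B'] [Module k B']

theorem gen_left (U : Submodule k A) (iA : A →ₗ[k] A') (iB : B →ₗ[k] B')
    (Wt : Submodule k (A' ⊗[k] B')) (h : ∀ x ∈ U, ∀ y : B, iA x ⊗ₜ[k] iB y ∈ Wt)
    (u : ↥U ⊗[k] B) :
    TensorProduct.map iA iB (TensorProduct.map U.subtype LinearMap.id u) ∈ Wt := by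
  induction u using TensorProduct.induction_on with
  | zero => rw [map_zero, map_zero]; exact zero_mem _
  | add a b ha hb => rw [map_add, map_add]; exact add_mem ha hb
  | tmul x y =>
    rw [TensorProduct.map_tmul, TensorProduct.map_tmul]
    exact h x.1 x.2 y

theorem gen_right (U : Submodule k B) (iA : A →ₗ[k] A') (iB : B →ₗ[k] B')
    (Wt : Submodule k (A' ⊗[k] B')) (h : ∀ x : A, ∀ y ∈ U, iA x ⊗ₜ[k] iB y ∈ Wt)
    (v : A ⊗[k] ↥U) :
    TensorProduct.map iA iB (TensorProduct.map LinearMap.id U.subtype v) ∈ Wt := by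
  induction v using TensorProduct.induction_on with
  | zero => rw [map_zero, map_zero]; exact zero_mem _
  | add a b ha hb => rw [map_add, map_add]; exact add_mem ha hb
  | tmul x y =>
    rw [TensorProduct.map_tmul, TensorProduct.map_tmul]
    exact h x y.1 y.2

end GenW

section One

variable {𝒜 : ℤ → Submodule k R} [GradedAlgebra 𝒜]
variable (I : ℕ → GrLC.GMod.{u} 𝒜) (dI : ∀ p, (I p).carrier →ₗ[R] (I (p + 1)).carrier)
  (hdI : ∀ p, GrLC.IsGrHom (I p).gr (I (p + 1)).gr (dI p))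
  (hddI : ∀ (p : ℕ) (x : (I p).carrier), dI (p + 1) (dI p x) = 0)
  (mR : HomogeneousIdeal 𝒜)

/-- the `Γ_m` part of the degree `e` part of a complex of graded modules -/
def gamSub (e : ℤ) : SubCpx (cpxE I dI hdI hddI e) where
  U := fun p => Submodule.comap (pieceK (I p) e).subtype
    ((GrLC.gam mR.toIdeal (I p).carrier).restrictScalars k)
  stable := fun p _ hx => map_mem_gam mR.toIdeal (dI p) hx

theorem mem_gamSub_U {e : ℤ} {p : ℕ} {x : ↥(pieceK (I p) e)} :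
    x ∈ (gamSub I dI hdI hddI mR e).U p ↔ (x : (I p).carrier) ∈ GrLC.gam mR.toIdeal (I p).carrier :=
  Iff.rfl

theorem pr_mem_gam (X : GrLC.GMod.{u} 𝒜) (e : ℤ) {x : X.carrier}
    (hx : x ∈ GrLC.gam mR.toIdeal X.carrier) :
    pr X.gr (kstable 𝒜 X.gr) e x ∈ GrLC.gam mR.toIdeal X.carrier := by
  rw [pr_apply]
  haveI gs : SetLike.GradedSMul (asGr 𝒜) X.gr := (toAS 𝒜 X).gsmul
  exact Groth.Agent.Lib.Helper29GrGam.gam_isHomogeneous (asGr 𝒜) X.gr (idealAS 𝒜 mR) e hx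

end One

section Tot

variable {𝒜 : ℤ → Submodule k R} [GradedAlgebra 𝒜] {ℬ : ℤ → Submodule k S} [GradedAlgebra ℬ]
  (𝒯 : ℤ → Submodule k T) [GradedAlgebra 𝒯] (ψ : T →ₐ[k] R ⊗[k] S)
  (hT : GrSeg.IsSegreRing 𝒜 ℬ 𝒯 ψ)
variable (I : ℕ → GrLC.GMod.{u} 𝒜) (dI : ∀ p, (I p).carrier →ₗ[R] (I (p + 1)).carrier)
  (hdI : ∀ p, GrLC.IsGrHom (I p).gr (I (p + 1)).gr (dI p))
  (hddI : ∀ (p : ℕ) (x : (I p).carrier), dI (p + 1) (dI p x) = 0)
variable (J : ℕ → GrLC.GMod.{u} ℬ) (dJ : ∀ q, (J q).carrier →ₗ[S] (J (q + 1)).carrier)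
  (hdJ : ∀ q, GrLC.IsGrHom (J q).gr (J (q + 1)).gr (dJ q))
  (hddJ : ∀ (q : ℕ) (x : (J q).carrier), dJ (q + 1) (dJ q x) = 0)
variable (mR : HomogeneousIdeal 𝒜)
  (hmR : mR.toIdeal = Ideal.span (⋃ n ∈ Set.Ioi (0 : ℤ), (𝒜 n : Set R)))
  (mS : HomogeneousIdeal ℬ)
  (hmS : mS.toIdeal = Ideal.span (⋃ n ∈ Set.Ioi (0 : ℤ), (ℬ n : Set S)))
  (mT : HomogeneousIdeal 𝒯)
  (hmT : mT.toIdeal = Ideal.span (⋃ n ∈ Set.Ioi (0 : ℤ), (𝒯 n : Set T)))

/-- an element of the total complex all of whose components are torsion is torsion -/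
theorem mem_gam_of_components (n : ℕ) (f : ↥(totSub 𝒯 ψ hT I J n))
    (hf : ∀ p q, f.1 p q ∈ GrLC.gam mT.toIdeal (TP ψ (I p).carrier (J q).carrier)) :
    f ∈ GrLC.gam mT.toIdeal ↥(totSub 𝒯 ψ hT I J n) := by
  rw [← sum_insPQ_evPQ 𝒯 ψ hT I J n f]
  refine Submodule.sum_mem _ fun p _ => ?_
  exact map_mem_gam mT.toIdeal _ (hf p.1 (n - p.1))

theorem components_mem_gam (n : ℕ) (f : ↥(totSub 𝒯 ψ hT I J n))
    (hf : f ∈ GrLC.gam mT.toIdeal ↥(totSub 𝒯 ψ hT I J n)) (p q : ℕ) :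
    f.1 p q ∈ GrLC.gam mT.toIdeal (TP ψ (I p).carrier (J q).carrier) :=
  map_mem_gam mT.toIdeal (evPQ 𝒯 ψ hT I J n p q) hf

/-- the torsion elements of `I^p ⊗ J^q`, as a `k`-subspace of the plain tensor product -/
def gamK (p q : ℕ) : Submodule k ((cpxK I dI hddI).X p ⊗[k] (cpxK J dJ hddJ).X q) :=
  Submodule.comap (toTP ψ (I p).carrier (J q).carrier).toLinearMap
    ((GrLC.gam mT.toIdeal (TP ψ (I p).carrier (J q).carrier)).restrictScalars k)

theorem mem_gamK {p q : ℕ} {z : (cpxK I dI hddI).X p ⊗[k] (cpxK J dJ hddJ).X q} :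
    z ∈ gamK 𝒯 ψ I dI hddI J dJ hddJ mT p q ↔
      toTP ψ (I p).carrier (J q).carrier z ∈
        GrLC.gam mT.toIdeal (TP ψ (I p).carrier (J q).carrier) := Iff.rfl

include hT hmR hmT in
/-- elements of `Γ_m(I^p)_e ⊗ J^q_e` are torsion -/
theorem left_mem_gam (e : ℤ) (p q : ℕ)
    (u : ↥((gamSub I dI hdI hddI mR e).U p) ⊗[k] (cpxE J dJ hdJ hddJ e).X q) :
    TensorProduct.map ((inclE I dI hdI hddI e).f p) ((inclE J dJ hdJ hddJ e).f q)
        (TensorProduct.map ((gamSub I dI hdI hddI mR e).U p).subtype LinearMap.id u) ∈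
      gamK 𝒯 ψ I dI hddI J dJ hddJ mT p q := by
  apply gen_left
  intro (x : ↥(pieceK (I p) e)) hx (y : ↥(pieceK (J q) e))
  rw [mem_gamK]
  have h1 : toTP ψ (I p).carrier (J q).carrier
      ((x : (I p).carrier) ⊗ₜ[k] (y : (J q).carrier)) =
      tpMap ψ (GrLC.gam mR.toIdeal (I p).carrier).subtype
        (LinearMap.id : (J q).carrier →ₗ[S] (J q).carrier)
        (toTP ψ _ _ ((⟨(x : (I p).carrier), hx⟩ :
          ↥(GrLC.gam mR.toIdeal (I p).carrier)) ⊗ₜ[k] (y : (J q).carrier))) := rfl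
  show toTP ψ (I p).carrier (J q).carrier
      ((x : (I p).carrier) ⊗ₜ[k] (y : (J q).carrier)) ∈ _
  rw [h1]
  exact map_mem_gam mT.toIdeal _ (mem_gam_of_left 𝒜 ℬ 𝒯 ψ hT mR hmR mT hmT _)

include hT hmS hmT in
/-- elements of `I^p_e ⊗ Γ_n(J^q)_e` are torsion -/
theorem right_mem_gam (e : ℤ) (p q : ℕ)
    (v : (cpxE I dI hdI hddI e).X p ⊗[k] ↥((gamSub J dJ hdJ hddJ mS e).U q)) :
    TensorProduct.map ((inclE I dI hdI hddI e).f p) ((inclE J dJ hdJ hddJ e).f q)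
        (TensorProduct.map LinearMap.id ((gamSub J dJ hdJ hddJ mS e).U q).subtype v) ∈
      gamK 𝒯 ψ I dI hddI J dJ hddJ mT p q := by
  apply gen_right
  intro (x : ↥(pieceK (I p) e)) (y : ↥(pieceK (J q) e)) hy
  rw [mem_gamK]
  have h1 : toTP ψ (I p).carrier (J q).carrier
      ((x : (I p).carrier) ⊗ₜ[k] (y : (J q).carrier)) =
      tpMap ψ (LinearMap.id : (I p).carrier →ₗ[R] (I p).carrier)
        (GrLC.gam mS.toIdeal (J q).carrier).subtype
        (toTP ψ _ _ ((x : (I p).carrier) ⊗ₜ[k]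
          (⟨(y : (J q).carrier), hy⟩ : ↥(GrLC.gam mS.toIdeal (J q).carrier)))) := rfl
  show toTP ψ (I p).carrier (J q).carrier
      ((x : (I p).carrier) ⊗ₜ[k] (y : (J q).carrier)) ∈ _
  rw [h1]
  exact map_mem_gam mT.toIdeal _ (mem_gam_of_right 𝒜 ℬ 𝒯 ψ hT mS hmS mT hmT _)

include hT hmR hmS hmT in
/-- elements coming from `W` are torsion -/
theorem pushE_mem_gam (n : ℕ) (e : ℤ)
    (w : Tot (cpxE I dI hdI hddI e) (cpxE J dJ hdJ hddJ e))
    (hw : w ∈ Wsub (gamSub I dI hdI hddI mR e) (gamSub J dJ hdJ hddJ mS e) n) :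
    pushE 𝒯 ψ hT I dI hdI hddI J dJ hdJ hddJ n e w hw.1 ∈
      GrLC.gam mT.toIdeal ↥(totSub 𝒯 ψ hT I J n) := by
  apply mem_gam_of_components
  intro p q
  obtain ⟨z1, ⟨u, rfl⟩, z2, ⟨v, rfl⟩, hz⟩ := Submodule.mem_sup.mp (hw.2 p q)
  have h1 : (pushE 𝒯 ψ hT I dI hdI hddI J dJ hdJ hddJ n e w hw.1).1 p q =
      toTP ψ (I p).carrier (J q).carrier
        (TensorProduct.map ((inclE I dI hdI hddI e).f p) ((inclE J dJ hdJ hddJ e).f q)
          (w p q)) := rfl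
  rw [h1, ← mem_gamK 𝒯 ψ I dI hddI J dJ hddJ mT, ← hz, map_add]
  exact add_mem (left_mem_gam 𝒯 ψ hT I dI hdI hddI J dJ hdJ hddJ mR hmR mT hmT e p q u)
    (right_mem_gam 𝒯 ψ hT I dI hdI hddI J dJ hdJ hddJ mS hmS mT hmT e p q v)

end Tot

end Groth.Agent.Lib.Helper8.Seg
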