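import Groth.Agent.Lib.Helper8Seg14

/-!
# Homogeneous torsion elements of the total complex come from `W` (helper8)
-/

set_option autoImplicit false
set_option linter.unusedSectionVars false
set_option linter.style.haveILetI false
universe u
open TensorProduct DirectSum

noncomputable section

namespace Groth.Agent.Lib.Helper8.Seg

open Groth.Agent.Lib.Helper29GrConv Groth.Agent.Lib.Helper29LCAcyclic Groth.Agent.Lib.Helper8.Kun
  Groth.Agent.Lib.Helper8.Kun.Cpx Groth.Agent.Lib.Helper24SegreFin Groth.Agent.Lib.Helper24SegreFin2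

section GenE

variable {k : Type u} [Field k]
variable {A B A' B' G : Type u} [AddCommGroup A] [Module k A] [AddCommGroup B] [Module k B]
  [AddCommGroup A'] [Module k A'] [AddCommGroup B'] [Module k B'] [AddCommGroup G] [Module k G]

theorem gen_exists_left (g : G →ₗ[k] A') (U : Submodule k A) (iA : A →ₗ[k] A') (iB : B →ₗ[k] B')
    (prA : A' →ₗ[k] A') (prB : B' →ₗ[k] B')
    (h : ∀ (x : G) (y : B'), ∃ x' : A, x' ∈ U ∧ ∃ y' : B, iA x' = prA (g x) ∧ iB y' = prB y)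
    (z : G ⊗[k] B') :
    ∃ u : ↥U ⊗[k] B, TensorProduct.map iA iB (TensorProduct.map U.subtype LinearMap.id u) =
      TensorProduct.map prA prB (TensorProduct.map g LinearMap.id z) := by
  induction z using TensorProduct.induction_on with
  | zero => exact ⟨0, by rw [map_zero, map_zero, map_zero, map_zero]⟩
  | add a b ha hb =>
    obtain ⟨u, hu⟩ := ha
    obtain ⟨v, hv⟩ := hb
    exact ⟨u + v, by rw [map_add, map_add, hu, hv, map_add, map_add]⟩
  | tmul x y =>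
    obtain ⟨x', hx', y', h1, h2⟩ := h x y
    refine ⟨(⟨x', hx'⟩ : ↥U) ⊗ₜ[k] y', ?_⟩
    rw [TensorProduct.map_tmul, TensorProduct.map_tmul, TensorProduct.map_tmul,
      TensorProduct.map_tmul, Submodule.subtype_apply, LinearMap.id_apply, LinearMap.id_apply,
      h1, h2]

theorem gen_exists_right (g : G →ₗ[k] B') (U : Submodule k B) (iA : A →ₗ[k] A') (iB : B →ₗ[k] B')
    (prA : A' →ₗ[k] A') (prB : B' →ₗ[k] B')
    (h : ∀ (x : A') (y : G), ∃ x' : A, ∃ y' : B, y' ∈ U ∧ iA x' = prA x ∧ iB y' = prB (g y))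
    (z : A' ⊗[k] G) :
    ∃ v : A ⊗[k] ↥U, TensorProduct.map iA iB (TensorProduct.map LinearMap.id U.subtype v) =
      TensorProduct.map prA prB (TensorProduct.map LinearMap.id g z) := by
  induction z using TensorProduct.induction_on with
  | zero => exact ⟨0, by rw [map_zero, map_zero, map_zero, map_zero]⟩
  | add a b ha hb =>
    obtain ⟨u, hu⟩ := ha
    obtain ⟨v, hv⟩ := hb
    exact ⟨u + v, by rw [map_add, map_add, hu, hv, map_add, map_add]⟩
  | tmul x y =>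
    obtain ⟨x', y', hy', h1, h2⟩ := h x y
    refine ⟨x' ⊗ₜ[k] (⟨y', hy'⟩ : ↥U), ?_⟩
    rw [TensorProduct.map_tmul, TensorProduct.map_tmul, TensorProduct.map_tmul,
      TensorProduct.map_tmul, Submodule.subtype_apply, LinearMap.id_apply, LinearMap.id_apply,
      h1, h2]

end GenE

variable {k : Type u} [Field k] {R S T : Type u} [CommRing R] [CommRing S] [CommRing T]
  [Algebra k R] [Algebra k S] [Algebra k T]

variable {𝒜 : ℤ → Submodule k R} [GradedAlgebra 𝒜] {ℬ : ℤ → Submodule k S} [GradedAlgebra ℬ]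
  (𝒯 : ℤ → Submodule k T) [GradedAlgebra 𝒯] (ψ : T →ₐ[k] R ⊗[k] S)
  (hT : GrSeg.IsSegreRing 𝒜 ℬ 𝒯 ψ)
variable (I : ℕ → GrLC.GMod.{u} 𝒜) (dI : ∀ p, (I p).carrier →ₗ[R] (I (p + 1)).carrier)
  (hdI : ∀ p, GrLC.IsGrHom (I p).gr (I (p + 1)).gr (dI p))
  (hddI : ∀ (p : ℕ) (x : (I p).carrier), dI (p + 1) (dI p x) = 0)
variable (J : ℕ → GrLC.GMod.{u} ℬ) (dJ : ∀ q, (J q).carrier →ₗ[S] (J (q + 1)).carrier)
  (hdJ : ∀ q, GrLC.IsGrHom (J q).gr (J (q + 1)).gr (dJ q))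
  (hddJ : ∀ (q : ℕ) (x : (J q).carrier), dJ (q + 1) (dJ q x) = 0)
variable (mR : HomogeneousIdeal 𝒜)
  (hmR : mR.toIdeal = Ideal.span (⋃ n ∈ Set.Ioi (0 : ℤ), (𝒜 n : Set R)))
  (mS : HomogeneousIdeal ℬ)
  (hmS : mS.toIdeal = Ideal.span (⋃ n ∈ Set.Ioi (0 : ℤ), (ℬ n : Set S)))
  (mT : HomogeneousIdeal 𝒯)
  (hmT : mT.toIdeal = Ideal.span (⋃ n ∈ Set.Ioi (0 : ℤ), (𝒯 n : Set T)))

/-- the degree `e` part of `Γ_m(I^p) ⊗ J^q` comes from `Γ_m(I^p)_e ⊗ J^q_e` -/
theorem exists_left (e : ℤ) (p q : ℕ) (y : TP ψ ↥(GrLC.gam mR.toIdeal (I p).carrier) (J q).carrier) :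
    ∃ u : ↥((gamSub I dI hdI hddI mR e).U p) ⊗[k] (cpxE J dJ hdJ hddJ e).X q,
      toTP ψ (I p).carrier (J q).carrier
        (TensorProduct.map ((inclE I dI hdI hddI e).f p) ((inclE J dJ hdJ hddJ e).f q)
          (TensorProduct.map ((gamSub I dI hdI hddI mR e).U p).subtype LinearMap.id u)) =
      P 𝒜 ℬ ψ (I p).gr (J q).gr e (tpMap ψ (GrLC.gam mR.toIdeal (I p).carrier).subtype
        (LinearMap.id : (J q).carrier →ₗ[S] (J q).carrier) y) := by
  have key := gen_exists_left (k := k) (A := ↥(pieceK (I p) e)) (B := ↥(pieceK (J q) e))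
    (A' := (I p).carrier) (B' := (J q).carrier) (G := ↥(GrLC.gam mR.toIdeal (I p).carrier))
    ((GrLC.gam mR.toIdeal (I p).carrier).subtype.restrictScalars k)
    (Submodule.comap (pieceK (I p) e).subtype
      ((GrLC.gam mR.toIdeal (I p).carrier).restrictScalars k))
    (pieceK (I p) e).subtype (pieceK (J q) e).subtype
    (pr (I p).gr (kstable 𝒜 (I p).gr) e) (pr (J q).gr (kstable ℬ (J q).gr) e)
    (fun x y => ⟨⟨pr (I p).gr (kstable 𝒜 (I p).gr) e (x : (I p).carrier),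
        pr_mem (I p).gr (kstable 𝒜 (I p).gr) e _⟩,
      pr_mem_gam mR (I p) e x.2,
      ⟨pr (J q).gr (kstable ℬ (J q).gr) e y, pr_mem (J q).gr (kstable ℬ (J q).gr) e _⟩, rfl, rfl⟩)
    (ofTP ψ _ _ y)
  obtain ⟨u, hu⟩ := key
  exact ⟨u, hu⟩

/-- the degree `e` part of `I^p ⊗ Γ_n(J^q)` comes from `I^p_e ⊗ Γ_n(J^q)_e` -/
theorem exists_right (e : ℤ) (p q : ℕ)
    (y : TP ψ (I p).carrier ↥(GrLC.gam mS.toIdeal (J q).carrier)) :
    ∃ v : (cpxE I dI hdI hddI e).X p ⊗[k] ↥((gamSub J dJ hdJ hddJ mS e).U q),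
      toTP ψ (I p).carrier (J q).carrier
        (TensorProduct.map ((inclE I dI hdI hddI e).f p) ((inclE J dJ hdJ hddJ e).f q)
          (TensorProduct.map LinearMap.id ((gamSub J dJ hdJ hddJ mS e).U q).subtype v)) =
      P 𝒜 ℬ ψ (I p).gr (J q).gr e (tpMap ψ (LinearMap.id : (I p).carrier →ₗ[R] (I p).carrier)
        (GrLC.gam mS.toIdeal (J q).carrier).subtype y) := by
  have key := gen_exists_right (k := k) (A := ↥(pieceK (I p) e)) (B := ↥(pieceK (J q) e))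
    (A' := (I p).carrier) (B' := (J q).carrier) (G := ↥(GrLC.gam mS.toIdeal (J q).carrier))
    ((GrLC.gam mS.toIdeal (J q).carrier).subtype.restrictScalars k)
    (Submodule.comap (pieceK (J q) e).subtype
      ((GrLC.gam mS.toIdeal (J q).carrier).restrictScalars k))
    (pieceK (I p) e).subtype (pieceK (J q) e).subtype
    (pr (I p).gr (kstable 𝒜 (I p).gr) e) (pr (J q).gr (kstable ℬ (J q).gr) e)
    (fun x y => ⟨⟨pr (I p).gr (kstable 𝒜 (I p).gr) e x,
        pr_mem (I p).gr (kstable 𝒜 (I p).gr) e _⟩,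
      ⟨pr (J q).gr (kstable ℬ (J q).gr) e (y : (J q).carrier),
        pr_mem (J q).gr (kstable ℬ (J q).gr) e _⟩,
      pr_mem_gam mS (J q) e y.2, rfl, rfl⟩)
    (ofTP ψ _ _ y)
  obtain ⟨v, hv⟩ := key
  exact ⟨v, hv⟩

variable [IsNoetherianRing R] [IsNoetherianRing S] [IsNoetherianRing T]
  (hI : ∀ p, GrLC.IsStarInj 𝒜 (I p).gr) (hJ : ∀ q, GrLC.IsStarInj ℬ (J q).gr)

include hmR hmS hmT hI hJ in
/-- homogeneous torsion elements of the total complex come from `W` -/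
theorem exists_Wsub_of_mem_gam (n : ℕ) (e : ℤ) (f : ↥(totSub 𝒯 ψ hT I J n))
    (hf : f ∈ totGr 𝒯 ψ hT I J n e)
    (hfg : f ∈ GrLC.gam mT.toIdeal ↥(totSub 𝒯 ψ hT I J n)) :
    ∃ (w : Tot (cpxE I dI hdI hddI e) (cpxE J dJ hdJ hddJ e))
      (hw : w ∈ Wsub (gamSub I dI hdI hddI mR e) (gamSub J dJ hdJ hddJ mS e) n),
      pushE 𝒯 ψ hT I dI hdI hddI J dJ hdJ hddJ n e w hw.1 = f := by
  have h : ∀ p q, ∃ wpq : (cpxE I dI hdI hddI e).X p ⊗[k] (cpxE J dJ hdJ hddJ e).X q,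
      wpq ∈ W (gamSub I dI hdI hddI mR e) (gamSub J dJ hdJ hddJ mS e) p q ∧
      (p + q ≠ n → wpq = 0) ∧
      toTP ψ (I p).carrier (J q).carrier
        (TensorProduct.map ((inclE I dI hdI hddI e).f p) ((inclE J dJ hdJ hddJ e).f q) wpq) =
        f.1 p q := by
    intro p q
    by_cases hpq : p + q = n
    · have hz := components_mem_gam 𝒯 ψ hT I J mT n f hfg p q
      have hsup := mem_sup_of_mem_gam 𝒜 ℬ 𝒯 ψ hT mR hmR mS hmS mT hmT (I p).gr (J q).gr (hI p)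
        (hJ q) (f.1 p q) hz
      obtain ⟨z1, ⟨y1, rfl⟩, z2, ⟨y2, rfl⟩, hz12⟩ := Submodule.mem_sup.mp hsup
      obtain ⟨u, hu⟩ := exists_left ψ I dI hdI hddI J dJ hdJ hddJ mR e p q y1
      obtain ⟨v, hv⟩ := exists_right ψ I dI hdI hddI J dJ hdJ hddJ mS e p q y2
      refine ⟨TensorProduct.map ((gamSub I dI hdI hddI mR e).U p).subtype LinearMap.id u +
        TensorProduct.map LinearMap.id ((gamSub J dJ hdJ hddJ mS e).U q).subtype v,
        add_mem (Submodule.mem_sup_left ⟨u, rfl⟩) (Submodule.mem_sup_right ⟨v, rfl⟩),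
        fun h => absurd hpq h, ?_⟩
      rw [map_add]
      refine (map_add (toTP ψ (I p).carrier (J q).carrier) _ _).trans ?_
      refine (congrArg₂ (· + ·) hu hv).trans ?_
      refine (map_add (P 𝒜 ℬ ψ (I p).gr (J q).gr e) _ _).symm.trans ?_
      rw [hz12]
      exact P_of_mem_same 𝒜 ℬ ψ _ _ (hf p q)
    · refine ⟨0, zero_mem _, fun _ => rfl, ?_⟩
      rw [map_zero]
      exact (map_zero (toTP ψ (I p).carrier (J q).carrier)).trans (f.2.1 p q hpq).symm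
  choose w hw1 hw2 hw3 using h
  have hw : w ∈ Wsub (gamSub I dI hdI hddI mR e) (gamSub J dJ hdJ hddJ mS e) n :=
    ⟨fun p q hpq => hw2 p q hpq, hw1⟩
  refine ⟨w, hw, Subtype.ext ?_⟩
  funext p q
  exact hw3 p q

end Groth.Agent.Lib.Helper8.Seg
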