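import Groth.Agent.Lib.Helper8Seg15
import Groth.Agent.Lib.Helper8GrCmp

/-!
# Graded local cohomology of a Segre product of modules via the total complex (helper8)
-/

set_option autoImplicit false
set_option linter.unusedSectionVars false
set_option linter.style.haveILetI false
universe u
open TensorProduct DirectSum

noncomputable section

namespace Groth.Agent.Lib.Helper8.Seg

open Groth.Agent.Lib.Helper29GrConv Groth.Agent.Lib.Helper29LCAcyclic Groth.Agent.Lib.Helper8.Kun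
  Groth.Agent.Lib.Helper8.Kun.Cpx Groth.Agent.Lib.Helper24SegreFin Groth.Agent.Lib.Helper24SegreFin2

variable {k : Type u} [Field k] {R S T : Type u} [CommRing R] [CommRing S] [CommRing T]
  [Algebra k R] [Algebra k S] [Algebra k T]

variable {𝒜 : ℤ → Submodule k R} [GradedAlgebra 𝒜] {ℬ : ℤ → Submodule k S} [GradedAlgebra ℬ]
  (𝒯 : ℤ → Submodule k T) [GradedAlgebra 𝒯] (ψ : T →ₐ[k] R ⊗[k] S)
  (hT : GrSeg.IsSegreRing 𝒜 ℬ 𝒯 ψ)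
variable (I : ℕ → GrLC.GMod.{u} 𝒜) (dI : ∀ p, (I p).carrier →ₗ[R] (I (p + 1)).carrier)
  (hdI : ∀ p, GrLC.IsGrHom (I p).gr (I (p + 1)).gr (dI p))
  (hddI : ∀ (p : ℕ) (x : (I p).carrier), dI (p + 1) (dI p x) = 0)
  (hexI : ∀ p, LinearMap.ker (dI (p + 1)) = LinearMap.range (dI p))
variable (J : ℕ → GrLC.GMod.{u} ℬ) (dJ : ∀ q, (J q).carrier →ₗ[S] (J (q + 1)).carrier)
  (hdJ : ∀ q, GrLC.IsGrHom (J q).gr (J (q + 1)).gr (dJ q))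
  (hddJ : ∀ (q : ℕ) (x : (J q).carrier), dJ (q + 1) (dJ q x) = 0)
  (hexJ : ∀ q, LinearMap.ker (dJ (q + 1)) = LinearMap.range (dJ q))
variable {M : Type u} [AddCommGroup M] [Module R M] [Module k M] [IsScalarTower k R M]
  (ℳ : ℤ → AddSubgroup M) [DirectSum.Decomposition ℳ] [SetLike.GradedSMul 𝒜 ℳ]
  (εM : M →ₗ[R] (I 0).carrier) (hεM : GrLC.IsGrHom ℳ (I 0).gr εM)
  (hεMinj : Function.Injective εM) (hexM : LinearMap.ker (dI 0) = LinearMap.range εM)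
variable {N : Type u} [AddCommGroup N] [Module S N] [Module k N] [IsScalarTower k S N]
  (𝒩 : ℤ → AddSubgroup N) [DirectSum.Decomposition 𝒩] [SetLike.GradedSMul ℬ 𝒩]
  (εN : N →ₗ[S] (J 0).carrier) (hεN : GrLC.IsGrHom 𝒩 (J 0).gr εN)
  (hεNinj : Function.Injective εN) (hexN : LinearMap.ker (dJ 0) = LinearMap.range εN)
variable {P : Type u} [AddCommGroup P] [Module T P] [Module k P] [IsScalarTower k T P]
  (𝒬 : ℤ → AddSubgroup P) [DirectSum.Decomposition 𝒬] [SetLike.GradedSMul 𝒯 𝒬]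
  (φ : P →ₗ[k] M ⊗[k] N) (hP : GrSeg.IsSegreMod ψ ℳ 𝒩 𝒬 φ)
variable (mR : HomogeneousIdeal 𝒜)
  (hmR : mR.toIdeal = Ideal.span (⋃ n ∈ Set.Ioi (0 : ℤ), (𝒜 n : Set R)))
  (mS : HomogeneousIdeal ℬ)
  (hmS : mS.toIdeal = Ideal.span (⋃ n ∈ Set.Ioi (0 : ℤ), (ℬ n : Set S)))
  (mT : HomogeneousIdeal 𝒯)
  (hmT : mT.toIdeal = Ideal.span (⋃ n ∈ Set.Ioi (0 : ℤ), (𝒯 n : Set T)))
variable (EP : GrLC.StarInjRes 𝒯 𝒬)

/-- the data of a comparison map from the total complex to a *injective resolution -/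
structure Cmp where
  /-- the chain map -/
  θ : ∀ n, ↥(totSub 𝒯 ψ hT I J n) →ₗ[T] (EP.X n).carrier
  hom : ∀ (n : ℕ) (e : ℤ) (f : ↥(totSub 𝒯 ψ hT I J n)), f ∈ totGr 𝒯 ψ hT I J n e →
    θ n f ∈ (EP.X n).gr e
  comm : ∀ (n : ℕ) (f : ↥(totSub 𝒯 ψ hT I J n)),
    θ (n + 1) (totD 𝒯 ψ hT I dI hdI hddI J dJ hdJ hddJ n f) = EP.d n (θ n f)
  inj0 : ∀ f : ↥(totSub 𝒯 ψ hT I J 0), f ∈ GrLC.gam mT.toIdeal ↥(totSub 𝒯 ψ hT I J 0) →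
    totD 𝒯 ψ hT I dI hdI hddI J dJ hdJ hddJ 0 f = 0 → θ 0 f = 0 → f = 0
  injS : ∀ (n : ℕ) (e : ℤ) (f : ↥(totSub 𝒯 ψ hT I J (n + 1))),
    f ∈ GrLC.gam mT.toIdeal ↥(totSub 𝒯 ψ hT I J (n + 1)) →
    totD 𝒯 ψ hT I dI hdI hddI J dJ hdJ hddJ (n + 1) f = 0 → f ∈ totGr 𝒯 ψ hT I J (n + 1) e →
    θ (n + 1) f ∈ EP.cobdy mT (n + 1) →
    ∃ y : ↥(totSub 𝒯 ψ hT I J n), y ∈ GrLC.gam mT.toIdeal ↥(totSub 𝒯 ψ hT I J n) ∧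
      y ∈ totGr 𝒯 ψ hT I J n e ∧ totD 𝒯 ψ hT I dI hdI hddI J dJ hdJ hddJ n y = f
  surj : ∀ (p : ℕ) (e : ℤ) (z : (EP.X p).carrier), z ∈ EP.cocyc mT p → z ∈ (EP.X p).gr e →
    ∃ x : ↥(totSub 𝒯 ψ hT I J p), x ∈ GrLC.gam mT.toIdeal ↥(totSub 𝒯 ψ hT I J p) ∧
      totD 𝒯 ψ hT I dI hdI hddI J dJ hdJ hddJ p x = 0 ∧ x ∈ totGr 𝒯 ψ hT I J p e ∧
      z - θ p x ∈ EP.cobdy mT p

variable [IsNoetherianRing R] [IsNoetherianRing S] [IsNoetherianRing T]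
  (hI : ∀ p, GrLC.IsStarInj 𝒜 (I p).gr) (hJ : ∀ q, GrLC.IsStarInj ℬ (J q).gr)

include hexI hexJ hεMinj hεNinj hexM hexN hmR hmS hmT hI hJ εM εN hεM hεN hP in
theorem nonempty_cmp :
    Nonempty (Cmp 𝒯 ψ hT I dI hdI hddI J dJ hdJ hddJ 𝒬 mT EP) := by
  obtain ⟨θ, h1, -, h3, h4, h5, h6⟩ := Groth.Agent.Lib.Helper8.GrCmp.exists_graded_comparison
    (asGr 𝒯) (idealAS 𝒯 mT) (asGr 𝒬) (TotG 𝒯 ψ hT I J)
    (totD 𝒯 ψ hT I dI hdI hddI J dJ hdJ hddJ)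
    (totε 𝒯 ψ hT I J ℳ εM hεM 𝒩 εN hεN 𝒬 φ hP)
    (totD_isGrHom 𝒯 ψ hT I dI hdI hddI J dJ hdJ hddJ)
    (totε_isGrHom 𝒯 ψ hT I J ℳ εM hεM 𝒩 εN hεN 𝒬 φ hP)
    (totD_exact_zero 𝒯 ψ hT I dI hdI hddI J dJ hdJ hddJ ℳ εM hεM hεMinj hexM 𝒩 εN hεN hεNinj
      hexN 𝒬 φ hP)
    (totD_exact_succ 𝒯 ψ hT I dI hdI hddI J dJ hdJ hddJ hexI hexJ)
    (totε_injective 𝒯 ψ hT I J ℳ εM hεM hεMinj 𝒩 εN hεN hεNinj 𝒬 φ hP)
    (totSub_acyclic 𝒯 ψ hT I J mR hmR mS hmS mT hmT hI hJ)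
    (resAS EP)
  have hcob : ∀ p, (resAS EP).cobdy (idealAS 𝒯 mT) p = EP.cobdy mT p := cobdy_resAS EP mT
  refine ⟨⟨θ, h1, h3, h4, ?_, ?_⟩⟩
  · intro n e f hf hdf hfe hθ
    exact h5 n e f hf hdf hfe (by rw [hcob]; exact hθ)
  · intro p e z hz hze
    obtain ⟨x, hx1, hx2, hx3, hx4⟩ := h6 p e z hz hze
    exact ⟨x, hx1, hx2, hx3, by rw [← hcob]; exact hx4⟩

end Groth.Agent.Lib.Helper8.Seg
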