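import Groth.Agent.Lib.Helper8Seg16

/-!
# Graded local cohomology of a Segre product of modules: the degree `d` piece is `HW` (helper8)
-/

set_option autoImplicit false
set_option linter.unusedSectionVars false
set_option linter.style.haveILetI false
universe u
open TensorProduct DirectSum

noncomputable section

namespace Groth.Agent.Lib.Helper8.Seg

open Groth.Agent.Lib.Helper29GrConv Groth.Agent.Lib.Helper29LCAcyclic Groth.Agent.Lib.Helper8.Kun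
  Groth.Agent.Lib.Helper8.Kun.Cpx Groth.Agent.Lib.Helper24SegreFin Groth.Agent.Lib.Helper24SegreFin2

variable {k : Type u} [Field k] {R S T : Type u} [CommRing R] [CommRing S] [CommRing T]
  [Algebra k R] [Algebra k S] [Algebra k T]

variable {𝒜 : ℤ → Submodule k R} [GradedAlgebra 𝒜] {ℬ : ℤ → Submodule k S} [GradedAlgebra ℬ]
  (𝒯 : ℤ → Submodule k T) [GradedAlgebra 𝒯] (ψ : T →ₐ[k] R ⊗[k] S)
  (hT : GrSeg.IsSegreRing 𝒜 ℬ 𝒯 ψ)
variable (I : ℕ → GrLC.GMod.{u} 𝒜) (dI : ∀ p, (I p).carrier →ₗ[R] (I (p + 1)).carrier)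
  (hdI : ∀ p, GrLC.IsGrHom (I p).gr (I (p + 1)).gr (dI p))
  (hddI : ∀ (p : ℕ) (x : (I p).carrier), dI (p + 1) (dI p x) = 0)
variable (J : ℕ → GrLC.GMod.{u} ℬ) (dJ : ∀ q, (J q).carrier →ₗ[S] (J (q + 1)).carrier)
  (hdJ : ∀ q, GrLC.IsGrHom (J q).gr (J (q + 1)).gr (dJ q))
  (hddJ : ∀ (q : ℕ) (x : (J q).carrier), dJ (q + 1) (dJ q x) = 0)

/-- `pushE` as a semilinear map -/
def pushL (n : ℕ) (e : ℤ) :
    ↥(supp (cpxE I dI hdI hddI e) (cpxE J dJ hdJ hddJ e) n) →ₛₗ[algebraMap k T]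
      ↥(totSub 𝒯 ψ hT I J n) where
  toFun g := pushE 𝒯 ψ hT I dI hdI hddI J dJ hdJ hddJ n e g.1 g.2
  map_add' g g' := by
    apply Subtype.ext
    show (ofTotM ψ I dI hddI J dJ hddJ).symm (totInclE I dI hdI hddI J dJ hdJ hddJ e (g.1 + g'.1)) =
      (ofTotM ψ I dI hddI J dJ hddJ).symm (totInclE I dI hdI hddI J dJ hdJ hddJ e g.1) +
      (ofTotM ψ I dI hddI J dJ hddJ).symm (totInclE I dI hdI hddI J dJ hdJ hddJ e g'.1)
    rw [map_add, map_add]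
  map_smul' c g := by
    apply Subtype.ext
    show (ofTotM ψ I dI hddI J dJ hddJ).symm
        (totInclE I dI hdI hddI J dJ hdJ hddJ e (c • g.1)) =
      algebraMap k T c •
        (ofTotM ψ I dI hddI J dJ hddJ).symm (totInclE I dI hdI hddI J dJ hdJ hddJ e g.1)
    rw [map_smul, map_smul, algebraMap_smul]

theorem pushL_apply (n : ℕ) (e : ℤ)
    (g : ↥(supp (cpxE I dI hdI hddI e) (cpxE J dJ hdJ hddJ e) n)) :
    pushL 𝒯 ψ hT I dI hdI hddI J dJ hdJ hddJ n e g =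
      pushE 𝒯 ψ hT I dI hdI hddI J dJ hdJ hddJ n e g.1 g.2 := rfl

theorem pushE_eq_zero (n : ℕ) (e : ℤ) (g : Tot (cpxE I dI hdI hddI e) (cpxE J dJ hdJ hddJ e))
    (hg : g ∈ supp (cpxE I dI hdI hddI e) (cpxE J dJ hdJ hddJ e) n) (h0 : g = 0) :
    pushE 𝒯 ψ hT I dI hdI hddI J dJ hdJ hddJ n e g hg = 0 := by
  have h : (⟨g, hg⟩ : ↥(supp (cpxE I dI hdI hddI e) (cpxE J dJ hdJ hddJ e) n)) = 0 :=
    Subtype.ext h0
  have := congrArg (pushL 𝒯 ψ hT I dI hdI hddI J dJ hdJ hddJ n e) h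
  rw [map_zero] at this
  exact this

theorem eq_zero_of_pushE_eq_zero (n : ℕ) (e : ℤ)
    (g : Tot (cpxE I dI hdI hddI e) (cpxE J dJ hdJ hddJ e))
    (hg : g ∈ supp (cpxE I dI hdI hddI e) (cpxE J dJ hdJ hddJ e) n)
    (h0 : pushE 𝒯 ψ hT I dI hdI hddI J dJ hdJ hddJ n e g hg = 0) : g = 0 := by
  refine pushE_injective 𝒯 ψ hT I dI hdI hddI J dJ hdJ hddJ n e g 0 hg (zero_mem _) ?_
  rw [h0, pushE_eq_zero 𝒯 ψ hT I dI hdI hddI J dJ hdJ hddJ n e 0 (zero_mem _) rfl]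

variable {P : Type u} [AddCommGroup P] [Module T P]
  (𝒬 : ℤ → AddSubgroup P) [DirectSum.Decomposition 𝒬] [SetLike.GradedSMul 𝒯 𝒬]
variable (mR : HomogeneousIdeal 𝒜)
  (hmR : mR.toIdeal = Ideal.span (⋃ n ∈ Set.Ioi (0 : ℤ), (𝒜 n : Set R)))
  (mS : HomogeneousIdeal ℬ)
  (hmS : mS.toIdeal = Ideal.span (⋃ n ∈ Set.Ioi (0 : ℤ), (ℬ n : Set S)))
  (mT : HomogeneousIdeal 𝒯)
  (hmT : mT.toIdeal = Ideal.span (⋃ n ∈ Set.Ioi (0 : ℤ), (𝒯 n : Set T)))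
variable (EP : GrLC.StarInjRes 𝒯 𝒬)
variable (C : Cmp 𝒯 ψ hT I dI hdI hddI J dJ hdJ hddJ 𝒬 mT EP)
variable [IsNoetherianRing R] [IsNoetherianRing S] [IsNoetherianRing T]
  (hI : ∀ p, GrLC.IsStarInj 𝒜 (I p).gr) (hJ : ∀ q, GrLC.IsStarInj ℬ (J q).gr)

include hmR hmS hmT in
/-- cocycles of `W` go to cocycles -/
theorem theta_pushE_mem_cocyc (q : ℕ) (d : ℤ)
    (w : Tot (cpxE I dI hdI hddI d) (cpxE J dJ hdJ hddJ d))
    (hw : w ∈ ZW (gamSub I dI hdI hddI mR d) (gamSub J dJ hdJ hddJ mS d) q) :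
    C.θ q (pushE 𝒯 ψ hT I dI hdI hddI J dJ hdJ hddJ q d w hw.1.1) ∈ EP.cocyc mT q := by
  refine ⟨map_mem_gam mT.toIdeal (C.θ q)
    (pushE_mem_gam 𝒯 ψ hT I dI hdI hddI J dJ hdJ hddJ mR hmR mS hmS mT hmT q d w hw.1), ?_⟩
  show EP.d q (C.θ q (pushE 𝒯 ψ hT I dI hdI hddI J dJ hdJ hddJ q d w hw.1.1)) = 0
  rw [← C.comm, totD_pushE, pushE_eq_zero 𝒯 ψ hT I dI hdI hddI J dJ hdJ hddJ _ d _ _ hw.2, map_zero]

include hmR hmS hmT in
/-- coboundaries of `W` go to coboundaries -/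
theorem theta_pushE_mem_cobdy (q : ℕ) (d : ℤ)
    (w : Tot (cpxE I dI hdI hddI d) (cpxE J dJ hdJ hddJ d))
    (hw : w ∈ supp (cpxE I dI hdI hddI d) (cpxE J dJ hdJ hddJ d) q)
    (hwB : w ∈ BW (gamSub I dI hdI hddI mR d) (gamSub J dJ hdJ hddJ mS d) q) :
    C.θ q (pushE 𝒯 ψ hT I dI hdI hddI J dJ hdJ hddJ q d w hw) ∈ EP.cobdy mT q := by
  cases q with
  | zero =>
    have h0 : w = 0 := (Submodule.mem_bot k).mp hwB
    rw [pushE_eq_zero 𝒯 ψ hT I dI hdI hddI J dJ hdJ hddJ _ d _ _ h0, map_zero]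
    exact zero_mem _
  | succ n =>
    obtain ⟨w', hw', rfl⟩ := hwB
    have h1 : pushE 𝒯 ψ hT I dI hdI hddI J dJ hdJ hddJ (n + 1) d
        (Dt (cpxE I dI hdI hddI d) (cpxE J dJ hdJ hddJ d) w') hw =
        totD 𝒯 ψ hT I dI hdI hddI J dJ hdJ hddJ n
          (pushE 𝒯 ψ hT I dI hdI hddI J dJ hdJ hddJ n d w' hw'.1) :=
      (totD_pushE 𝒯 ψ hT I dI hdI hddI J dJ hdJ hddJ n d w' hw'.1).symm
    rw [h1, C.comm]
    exact ⟨_, map_mem_gam mT.toIdeal (C.θ n)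
      (pushE_mem_gam 𝒯 ψ hT I dI hdI hddI J dJ hdJ hddJ mR hmR mS hmS mT hmT n d w' hw'), rfl⟩

include hmR hmS hmT hI hJ in
/-- cocycles of `W` going to coboundaries are coboundaries -/
theorem mem_BW_of_theta_pushE_mem_cobdy (q : ℕ) (d : ℤ)
    (w : Tot (cpxE I dI hdI hddI d) (cpxE J dJ hdJ hddJ d))
    (hw : w ∈ ZW (gamSub I dI hdI hddI mR d) (gamSub J dJ hdJ hddJ mS d) q)
    (hθ : C.θ q (pushE 𝒯 ψ hT I dI hdI hddI J dJ hdJ hddJ q d w hw.1.1) ∈ EP.cobdy mT q) :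
    w ∈ BW (gamSub I dI hdI hddI mR d) (gamSub J dJ hdJ hddJ mS d) q := by
  have hgam := pushE_mem_gam 𝒯 ψ hT I dI hdI hddI J dJ hdJ hddJ mR hmR mS hmS mT hmT q d w hw.1
  have hd0 : totD 𝒯 ψ hT I dI hdI hddI J dJ hdJ hddJ q
      (pushE 𝒯 ψ hT I dI hdI hddI J dJ hdJ hddJ q d w hw.1.1) = 0 := by
    rw [totD_pushE, pushE_eq_zero 𝒯 ψ hT I dI hdI hddI J dJ hdJ hddJ _ d _ _ hw.2]
  cases q with
  | zero =>
    have hθ0 : C.θ 0 (pushE 𝒯 ψ hT I dI hdI hddI J dJ hdJ hddJ 0 d w hw.1.1) = 0 :=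
      (Submodule.mem_bot T).mp hθ
    have h0 := C.inj0 _ hgam hd0 hθ0
    have hw0 := eq_zero_of_pushE_eq_zero 𝒯 ψ hT I dI hdI hddI J dJ hdJ hddJ 0 d w hw.1.1 h0
    rw [hw0]
    exact zero_mem _
  | succ n =>
    obtain ⟨y, hy1, hy2, hy3⟩ := C.injS n d _ hgam hd0
      (pushE_mem 𝒯 ψ hT I dI hdI hddI J dJ hdJ hddJ (n + 1) d w hw.1.1) hθ
    obtain ⟨w', hw', rfl⟩ := exists_Wsub_of_mem_gam 𝒯 ψ hT I dI hdI hddI J dJ hdJ hddJ mR hmR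
      mS hmS mT hmT hI hJ n d y hy2 hy1
    rw [totD_pushE] at hy3
    have := pushE_injective 𝒯 ψ hT I dI hdI hddI J dJ hdJ hddJ (n + 1) d _ _ _ _ hy3
    exact ⟨w', hw', this⟩

include hmR hmS hmT hI hJ in
/-- homogeneous classes come from cocycles of `W` -/
theorem exists_ZW_of_mem_cocyc (q : ℕ) (d : ℤ) (z : (EP.X q).carrier) (hz : z ∈ EP.cocyc mT q)
    (hzd : z ∈ (EP.X q).gr d) :
    ∃ (w : Tot (cpxE I dI hdI hddI d) (cpxE J dJ hdJ hddJ d))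
      (hw : w ∈ ZW (gamSub I dI hdI hddI mR d) (gamSub J dJ hdJ hddJ mS d) q),
      z - C.θ q (pushE 𝒯 ψ hT I dI hdI hddI J dJ hdJ hddJ q d w hw.1.1) ∈ EP.cobdy mT q := by
  obtain ⟨x, hx1, hx2, hx3, hx4⟩ := C.surj q d z hz hzd
  obtain ⟨w, hw, rfl⟩ := exists_Wsub_of_mem_gam 𝒯 ψ hT I dI hdI hddI J dJ hdJ hddJ mR hmR
    mS hmS mT hmT hI hJ q d x hx3 hx1
  rw [totD_pushE] at hx2
  have hDt := eq_zero_of_pushE_eq_zero 𝒯 ψ hT I dI hdI hddI J dJ hdJ hddJ (q + 1) d _ _ hx2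
  exact ⟨w, ⟨hw, hDt⟩, hx4⟩

include hmR hmS hmT hI hJ C in
/-- the degree `d` piece of the graded local cohomology of the Segre product is `HW` -/
theorem rank_Hcomp_eq_rank_HW [Nontrivial T]
    (hk : ∀ t ∈ 𝒯 0, ∃ c : k, algebraMap k T c = t) (q : ℕ) (d : ℤ) :
    Module.rank (GrLC.deg0 𝒯) ↥(EP.Hcomp mT q d) =
      Module.rank k (HW (gamSub I dI hdI hddI mR d) (gamSub J dJ hdJ hddJ mS d) q) := by
  classical
  let ιZ : ↥(ZW (gamSub I dI hdI hddI mR d) (gamSub J dJ hdJ hddJ mS d) q) →ₗ[k] ↥(supp (cpxE I dI hdI hddI d) (cpxE J dJ hdJ hddJ d) q) :=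
    Submodule.inclusion (fun w hw => hw.1.1)
  let F : ↥(ZW (gamSub I dI hdI hddI mR d) (gamSub J dJ hdJ hddJ mS d) q) →ₛₗ[algebraMap k T] (EP.X q).carrier :=
    ((C.θ q).comp (pushL 𝒯 ψ hT I dI hdI hddI J dJ hdJ hddJ q d)).comp ιZ
  have hF : ∀ w : ↥(ZW (gamSub I dI hdI hddI mR d) (gamSub J dJ hdJ hddJ mS d) q),
      F w = C.θ q (pushE 𝒯 ψ hT I dI hdI hddI J dJ hdJ hddJ q d w.1 w.2.1.1) := fun w => rfl
  let Fc : ↥(ZW (gamSub I dI hdI hddI mR d) (gamSub J dJ hdJ hddJ mS d) q) →ₛₗ[algebraMap k T] ↥(EP.cocyc mT q) :=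
    F.codRestrict (EP.cocyc mT q) (fun w =>
      theta_pushE_mem_cocyc 𝒯 ψ hT I dI hdI hddI J dJ hdJ hddJ 𝒬 mR hmR mS hmS mT hmT EP C q d w.1 w.2)
  let Θ : ↥(ZW (gamSub I dI hdI hddI mR d) (gamSub J dJ hdJ hddJ mS d) q) →ₛₗ[algebraMap k T] EP.H mT q := (EP.toH mT q).comp Fc
  have hker : (BW (gamSub I dI hdI hddI mR d) (gamSub J dJ hdJ hddJ mS d) q).comap (ZW (gamSub I dI hdI hddI mR d) (gamSub J dJ hdJ hddJ mS d) q).subtype ≤ LinearMap.ker Θ := by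
    intro w hw
    rw [LinearMap.mem_ker]
    show EP.toH mT q (Fc w) = 0
    rw [Submodule.mkQ_apply, Submodule.Quotient.mk_eq_zero]
    exact theta_pushE_mem_cobdy 𝒯 ψ hT I dI hdI hddI J dJ hdJ hddJ 𝒬 mR hmR mS hmS mT hmT EP C q d w.1 w.2.1.1 hw
  let Λ : HW (gamSub I dI hdI hddI mR d) (gamSub J dJ hdJ hddJ mS d) q →ₛₗ[algebraMap k T] EP.H mT q := Submodule.liftQ _ Θ hker
  have hΛ : ∀ w, Λ (Submodule.Quotient.mk w) = EP.toH mT q (Fc w) := fun w => rfl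
  have hΛmem : ∀ x, Λ x ∈ EP.Hcomp mT q d := by
    intro x
    obtain ⟨w, rfl⟩ := Submodule.Quotient.mk_surjective _ x
    exact ⟨Fc w, C.hom q d _ (pushE_mem 𝒯 ψ hT I dI hdI hddI J dJ hdJ hddJ q d w.1 w.2.1.1), rfl⟩
  let j₀ : HW (gamSub I dI hdI hddI mR d) (gamSub J dJ hdJ hddJ mS d) q →+ ↥(EP.Hcomp mT q d) :=
    { toFun := fun x => ⟨Λ x, hΛmem x⟩
      map_zero' := Subtype.ext (map_zero Λ)
      map_add' := fun x y => Subtype.ext (map_add Λ x y) }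
  have hj₀ : Function.Bijective j₀ := by
    constructor
    · rw [injective_iff_map_eq_zero]
      intro x hx
      have hx' : Λ x = 0 := congrArg Subtype.val hx
      obtain ⟨w, rfl⟩ := Submodule.Quotient.mk_surjective _ x
      rw [hΛ, Submodule.mkQ_apply, Submodule.Quotient.mk_eq_zero] at hx'
      rw [Submodule.Quotient.mk_eq_zero]
      exact mem_BW_of_theta_pushE_mem_cobdy 𝒯 ψ hT I dI hdI hddI J dJ hdJ hddJ 𝒬 mR hmR mS hmS mT hmT EP C hI hJ q d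
        w.1 w.2 hx'
    · rintro ⟨y, z, hzd, rfl⟩
      obtain ⟨w, hw, hwz⟩ := exists_ZW_of_mem_cocyc 𝒯 ψ hT I dI hdI hddI J dJ hdJ hddJ 𝒬 mR hmR mS hmS mT hmT EP C hI hJ
        q d z.1 z.2 hzd
      refine ⟨Submodule.Quotient.mk ⟨w, hw⟩, Subtype.ext ?_⟩
      show Λ (Submodule.Quotient.mk ⟨w, hw⟩) = EP.toH mT q z
      rw [hΛ, Submodule.mkQ_apply, Submodule.mkQ_apply, Submodule.Quotient.eq]
      have h1 : C.θ q (pushE 𝒯 ψ hT I dI hdI hddI J dJ hdJ hddJ q d w hw.1.1) - (z : (EP.X q).carrier) ∈ EP.cobdy mT q := by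
        rw [← neg_sub]; exact neg_mem hwz
      exact h1
  let i₀ : k → ↥(GrLC.deg0 𝒯) := fun c =>
    ⟨algebraMap k T c, SetLike.algebraMap_mem_graded 𝒯 c⟩
  have hi₀ : Function.Bijective i₀ :=
    ⟨fun c c' h => (algebraMap k T).injective (congrArg Subtype.val h), fun t => by
      obtain ⟨c, hc⟩ := hk t.1 t.2
      exact ⟨c, Subtype.ext hc⟩⟩
  have hc : ∀ (c : k) (x : HW (gamSub I dI hdI hddI mR d) (gamSub J dJ hdJ hddJ mS d) q),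
      (AddEquiv.ofBijective j₀ hj₀) (c • x) = i₀ c • (AddEquiv.ofBijective j₀ hj₀) x := by
    intro c x
    apply Subtype.ext
    show Λ (c • x) = algebraMap k T c • Λ x
    exact Λ.map_smulₛₗ c x
  exact (rank_eq_of_equiv_equiv i₀ (AddEquiv.ofBijective j₀ hj₀) hi₀ hc).symm

end Groth.Agent.Lib.Helper8.Seg
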