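import Groth.Agent.Lib.Helper8Seg17

/-!
# One-variable identifications: the degree `d` part of `Γ_m` of a *injective resolution (helper8)
-/

set_option autoImplicit false
set_option linter.unusedSectionVars false
set_option linter.style.haveILetI false
universe u
open TensorProduct DirectSum

noncomputable section

namespace Groth.Agent.Lib.Helper8.Seg

open Groth.Agent.Lib.Helper29GrConv Groth.Agent.Lib.Helper29LCAcyclic Groth.Agent.Lib.Helper8.Kun
  Groth.Agent.Lib.Helper8.Kun.Cpx Groth.Agent.Lib.Helper24SegreFin Groth.Agent.Lib.Helper24SegreFin2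

variable {k : Type u} [Field k] {R : Type u} [CommRing R] [Algebra k R]
variable {𝒜 : ℤ → Submodule k R} [GradedAlgebra 𝒜]
variable {M : Type u} [AddCommGroup M] [Module R M] [Module k M] [IsScalarTower k R M]
  (ℳ : ℤ → AddSubgroup M) [DirectSum.Decomposition ℳ] [SetLike.GradedSMul 𝒜 ℳ]
  (EM : GrLC.StarInjRes 𝒜 ℳ) (mR : HomogeneousIdeal 𝒜)

theorem res_d_d (p : ℕ) (x : (EM.X p).carrier) : EM.d (p + 1) (EM.d p x) = 0 := by
  have h : EM.d p x ∈ LinearMap.ker (EM.d (p + 1)) := by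
    rw [EM.exact_succ p]; exact ⟨x, rfl⟩
  exact h

/-- boundaries of the degree `d` part of `Γ_m(E)` are coboundaries -/
theorem coe_mem_cobdy_of_mem_bdy (i : ℕ) (d : ℤ)
    (z : (gamSub EM.X EM.d EM.d_grHom (res_d_d ℳ EM) mR d).cpx.X i)
    (hz : z ∈ (gamSub EM.X EM.d EM.d_grHom (res_d_d ℳ EM) mR d).cpx.bdy i) :
    (z.1.1 : (EM.X i).carrier) ∈ EM.cobdy mR i := by
  cases i with
  | zero =>
    have h0 : z = 0 := (Submodule.mem_bot k).mp hz
    rw [h0]
    exact zero_mem _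
  | succ n =>
    obtain ⟨y, rfl⟩ := hz
    exact ⟨(y.1.1 : (EM.X n).carrier), y.2, rfl⟩

/-- and conversely -/
theorem mem_bdy_of_coe_mem_cobdy (i : ℕ) (d : ℤ)
    (z : (gamSub EM.X EM.d EM.d_grHom (res_d_d ℳ EM) mR d).cpx.X i)
    (hz : (z.1.1 : (EM.X i).carrier) ∈ EM.cobdy mR i) :
    z ∈ (gamSub EM.X EM.d EM.d_grHom (res_d_d ℳ EM) mR d).cpx.bdy i := by
  cases i with
  | zero =>
    have h0 : (z.1.1 : (EM.X 0).carrier) = (0 : (EM.X 0).carrier) :=
      (Submodule.mem_bot (R := R) (M := (EM.X 0).carrier)).mp hz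
    have h1 : z = 0 := Subtype.ext (Subtype.ext h0)
    rw [h1]
    exact zero_mem _
  | succ n =>
    obtain ⟨y, hy, hyz⟩ := hz
    let y' : (EM.X n).carrier := pr (EM.X n).gr (kstable 𝒜 (EM.X n).gr) d y
    have hy'1 : y' ∈ pieceK (EM.X n) d := pr_mem (EM.X n).gr (kstable 𝒜 (EM.X n).gr) d y
    have hy'2 : y' ∈ GrLC.gam mR.toIdeal (EM.X n).carrier := pr_mem_gam mR (EM.X n) d hy
    have h1 : EM.d n y' = (z.1.1 : (EM.X (n + 1)).carrier) := by
      show EM.d n (pr (EM.X n).gr (kstable 𝒜 (EM.X n).gr) d y) = _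
      rw [pr_apply, ← Groth.Agent.Lib.Helper29GrHom.decompose_map (EM.X (n + 1)).gr (EM.X n).gr
        (EM.d n) (EM.d_grHom n) y d, hyz]
      exact DirectSum.decompose_of_mem_same _ z.1.2
    exact ⟨⟨⟨y', hy'1⟩, hy'2⟩, Subtype.ext (Subtype.ext h1)⟩

/-- the degree `d` piece of graded local cohomology is the cohomology of the degree `d` part of
`Γ_m` of the resolution -/
theorem rank_gamSub_H [Nontrivial R] (hk : ∀ r ∈ 𝒜 0, ∃ c : k, algebraMap k R c = r)
    (i : ℕ) (d : ℤ) :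
    Module.rank k ((gamSub EM.X EM.d EM.d_grHom (res_d_d ℳ EM) mR d).cpx.H i) = Module.rank (GrLC.deg0 𝒜) ↥(EM.Hcomp mR i d) := by
  classical
  let F : ↥((gamSub EM.X EM.d EM.d_grHom (res_d_d ℳ EM) mR d).cpx.cyc i) →ₛₗ[algebraMap k R] (EM.X i).carrier :=
    { toFun := fun z => (z.1.1.1 : (EM.X i).carrier)
      map_add' := fun _ _ => rfl
      map_smul' := fun _ _ => rfl }
  have hFmem : ∀ z, F z ∈ EM.cocyc mR i := by
    intro z
    refine ⟨z.1.2, ?_⟩
    have h1 : (gamSub EM.X EM.d EM.d_grHom (res_d_d ℳ EM) mR d).cpx.d i z.1 = 0 := z.2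
    have h2 : (((gamSub EM.X EM.d EM.d_grHom (res_d_d ℳ EM) mR d).cpx.d i z.1).1.1 : (EM.X (i + 1)).carrier) = 0 := by
      rw [h1]; rfl
    exact h2
  let Fc : ↥((gamSub EM.X EM.d EM.d_grHom (res_d_d ℳ EM) mR d).cpx.cyc i) →ₛₗ[algebraMap k R] ↥(EM.cocyc mR i) :=
    F.codRestrict (EM.cocyc mR i) hFmem
  let Θ : ↥((gamSub EM.X EM.d EM.d_grHom (res_d_d ℳ EM) mR d).cpx.cyc i) →ₛₗ[algebraMap k R] EM.H mR i := (EM.toH mR i).comp Fc
  have hker : ((gamSub EM.X EM.d EM.d_grHom (res_d_d ℳ EM) mR d).cpx.bdy i).comap ((gamSub EM.X EM.d EM.d_grHom (res_d_d ℳ EM) mR d).cpx.cyc i).subtype ≤ LinearMap.ker Θ := by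
    intro z hz
    rw [LinearMap.mem_ker]
    show EM.toH mR i (Fc z) = 0
    rw [Submodule.mkQ_apply, Submodule.Quotient.mk_eq_zero]
    exact coe_mem_cobdy_of_mem_bdy ℳ EM mR i d z.1 hz
  let Λ : (gamSub EM.X EM.d EM.d_grHom (res_d_d ℳ EM) mR d).cpx.H i →ₛₗ[algebraMap k R] EM.H mR i := Submodule.liftQ _ Θ hker
  have hΛ : ∀ z, Λ (Submodule.Quotient.mk z) = EM.toH mR i (Fc z) := fun z => rfl
  have hΛmem : ∀ x, Λ x ∈ EM.Hcomp mR i d := by
    intro x
    obtain ⟨z, rfl⟩ := Submodule.Quotient.mk_surjective _ x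
    exact ⟨Fc z, z.1.1.2, rfl⟩
  let j₀ : (gamSub EM.X EM.d EM.d_grHom (res_d_d ℳ EM) mR d).cpx.H i →+ ↥(EM.Hcomp mR i d) :=
    { toFun := fun x => ⟨Λ x, hΛmem x⟩
      map_zero' := Subtype.ext (map_zero Λ)
      map_add' := fun x y => Subtype.ext (map_add Λ x y) }
  have hj₀ : Function.Bijective j₀ := by
    constructor
    · rw [injective_iff_map_eq_zero]
      intro x hx
      have hx' : Λ x = 0 := congrArg Subtype.val hx
      obtain ⟨z, rfl⟩ := Submodule.Quotient.mk_surjective _ x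
      rw [hΛ, Submodule.mkQ_apply, Submodule.Quotient.mk_eq_zero] at hx'
      rw [Submodule.Quotient.mk_eq_zero]
      exact mem_bdy_of_coe_mem_cobdy ℳ EM mR i d z.1 hx'
    · rintro ⟨y, z, hzd, rfl⟩
      have hz2 : EM.d i (z : (EM.X i).carrier) = 0 := z.2.2
      refine ⟨Submodule.Quotient.mk ⟨⟨⟨(z : (EM.X i).carrier), hzd⟩, z.2.1⟩,
        Subtype.ext (Subtype.ext hz2)⟩, Subtype.ext ?_⟩
      rfl
  let i₀ : k → ↥(GrLC.deg0 𝒜) := fun c =>
    ⟨algebraMap k R c, SetLike.algebraMap_mem_graded 𝒜 c⟩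
  have hi₀ : Function.Bijective i₀ :=
    ⟨fun c c' h => (algebraMap k R).injective (congrArg Subtype.val h), fun t => by
      obtain ⟨c, hc⟩ := hk t.1 t.2
      exact ⟨c, Subtype.ext hc⟩⟩
  have hc : ∀ (c : k) (x : (gamSub EM.X EM.d EM.d_grHom (res_d_d ℳ EM) mR d).cpx.H i),
      (AddEquiv.ofBijective j₀ hj₀) (c • x) = i₀ c • (AddEquiv.ofBijective j₀ hj₀) x := by
    intro c x
    apply Subtype.ext
    show Λ (c • x) = algebraMap k R c • Λ x
    exact Λ.map_smulₛₗ c x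
  exact rank_eq_of_equiv_equiv i₀ (AddEquiv.ofBijective j₀ hj₀) hi₀ hc

/-- the degree `d` piece of the module is the `H^0` of the degree `d` part of the resolution -/
theorem rank_cpxE_H_zero [Nontrivial R] (hk : ∀ r ∈ 𝒜 0, ∃ c : k, algebraMap k R c = r)
    (d : ℤ) :
    Module.rank k ((cpxE EM.X EM.d EM.d_grHom (res_d_d ℳ EM) d).H 0) = Module.rank (GrLC.deg0 𝒜) ↥(GrLC.comp 𝒜 ℳ d) := by
  classical
  let e0 : ↥(GrLC.comp 𝒜 ℳ d) → (cpxE EM.X EM.d EM.d_grHom (res_d_d ℳ EM) d).X 0 := fun m =>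
    (⟨EM.ε m.1, EM.ε_grHom d m.1 m.2⟩ : ↥(pieceK (EM.X 0) d))
  have he0 : ∀ m, ((e0 m).1 : (EM.X 0).carrier) = EM.ε m.1 := fun m => rfl
  have hcyc : ∀ m : ↥(GrLC.comp 𝒜 ℳ d), e0 m ∈ (cpxE EM.X EM.d EM.d_grHom (res_d_d ℳ EM) d).cyc 0 := by
    intro m
    show (cpxE EM.X EM.d EM.d_grHom (res_d_d ℳ EM) d).d 0 (e0 m) = 0
    apply Subtype.ext
    show EM.d 0 (EM.ε m.1) = 0
    have h : EM.ε m.1 ∈ LinearMap.ker (EM.d 0) := by rw [EM.exact_zero]; exact ⟨m.1, rfl⟩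
    exact h
  let j' : ↥(GrLC.comp 𝒜 ℳ d) →+ (cpxE EM.X EM.d EM.d_grHom (res_d_d ℳ EM) d).H 0 :=
    { toFun := fun m => Submodule.Quotient.mk ⟨e0 m, hcyc m⟩
      map_zero' := by
        rw [← Submodule.Quotient.mk_zero]
        exact congrArg _ (Subtype.ext (Subtype.ext (map_zero EM.ε)))
      map_add' := fun m m' => by
        rw [← Submodule.Quotient.mk_add]
        exact congrArg _ (Subtype.ext (Subtype.ext (map_add EM.ε m.1 m'.1))) }
  have hj' : Function.Bijective j' := by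
    constructor
    · rw [injective_iff_map_eq_zero]
      intro m hm
      have h1 : (⟨e0 m, hcyc m⟩ : ↥((cpxE EM.X EM.d EM.d_grHom (res_d_d ℳ EM) d).cyc 0)) ∈
          ((cpxE EM.X EM.d EM.d_grHom (res_d_d ℳ EM) d).bdy 0).comap ((cpxE EM.X EM.d EM.d_grHom (res_d_d ℳ EM) d).cyc 0).subtype := (Submodule.Quotient.mk_eq_zero _).mp hm
      have h2 : e0 m = 0 := (Submodule.mem_bot k).mp h1
      have h3 : EM.ε m.1 = 0 := by rw [← he0, h2]; rfl
      exact Subtype.ext (EM.ε_injective (h3.trans (map_zero EM.ε).symm))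
    · intro x
      obtain ⟨w, rfl⟩ := Submodule.Quotient.mk_surjective _ x
      have hw : (cpxE EM.X EM.d EM.d_grHom (res_d_d ℳ EM) d).d 0 w.1 = 0 := w.2
      have hw0 : EM.d 0 (w.1.1 : (EM.X 0).carrier) = 0 := by
        have h := congrArg (fun z => (z.1 : (EM.X 1).carrier)) hw
        exact h
      have hw1 : (w.1.1 : (EM.X 0).carrier) ∈ LinearMap.range EM.ε := by
        rw [← EM.exact_zero]; exact hw0
      obtain ⟨m, hm⟩ := hw1
      have hmd : m ∈ ℳ d := mem_of_map_mem ℳ (EM.X 0).gr EM.ε EM.ε_grHom EM.ε_injective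
        (by rw [hm]; exact w.1.2)
      refine ⟨⟨m, hmd⟩, ?_⟩
      exact congrArg _ (Subtype.ext (Subtype.ext hm))
  let i₀ : k → ↥(GrLC.deg0 𝒜) := fun c =>
    ⟨algebraMap k R c, SetLike.algebraMap_mem_graded 𝒜 c⟩
  have hi₀ : Function.Bijective i₀ :=
    ⟨fun c c' h => (algebraMap k R).injective (congrArg Subtype.val h), fun t => by
      obtain ⟨c, hc⟩ := hk t.1 t.2
      exact ⟨c, Subtype.ext hc⟩⟩
  have hc' : ∀ (c : k) (m : ↥(GrLC.comp 𝒜 ℳ d)), j' (i₀ c • m) = c • j' m := by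
    intro c m
    show Submodule.Quotient.mk _ = c • Submodule.Quotient.mk _
    rw [← Submodule.Quotient.mk_smul]
    refine congrArg _ (Subtype.ext (Subtype.ext ?_))
    show EM.ε (algebraMap k R c • m.1) = algebraMap k R c • EM.ε m.1
    exact map_smul EM.ε _ _
  have hc : ∀ (c : k) (x : (cpxE EM.X EM.d EM.d_grHom (res_d_d ℳ EM) d).H 0),
      (AddEquiv.ofBijective j' hj').symm (c • x) =
        i₀ c • (AddEquiv.ofBijective j' hj').symm x := by
    intro c x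
    apply (AddEquiv.ofBijective j' hj').injective
    rw [AddEquiv.apply_symm_apply]
    have h := hc' c ((AddEquiv.ofBijective j' hj').symm x)
    have h2 : j' ((AddEquiv.ofBijective j' hj').symm x) = x :=
      (AddEquiv.ofBijective j' hj').apply_symm_apply x
    rw [h2] at h
    exact h.symm
  exact rank_eq_of_equiv_equiv i₀ (AddEquiv.ofBijective j' hj').symm hi₀ hc

end Groth.Agent.Lib.Helper8.Seg
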