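import Groth.Agent.Lib.Helper8Seg18
import Groth.Agent.Lib.Helper29GrPieceFin
import Groth.Agent.S13226

/-!
# Finiteness of the pieces of graded local cohomology for `Submodule`-valued gradings (helper8)
-/

set_option autoImplicit false
set_option linter.unusedSectionVars false
set_option linter.style.haveILetI false
universe u
open TensorProduct DirectSum Cardinal

noncomputable section

namespace Groth.Agent.Lib.Helper8.Seg

open Groth.Agent.Lib.Helper29GrConv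

variable {k : Type u} [Field k] {R : Type u} [CommRing R] [Algebra k R]
variable {𝒜 : ℤ → Submodule k R} [GradedAlgebra 𝒜]
variable {M : Type u} [AddCommGroup M] [Module R M]
  (ℳ : ℤ → AddSubgroup M) [DirectSum.Decomposition ℳ] [SetLike.GradedSMul 𝒜 ℳ]
  (EM : GrLC.StarInjRes 𝒜 ℳ) (mR : HomogeneousIdeal 𝒜)

theorem rank_Hcomp_resAS (i : ℕ) (n : ℤ) :
    Module.rank (GrLC.deg0 (asGr 𝒜)) ↥((resAS EM).Hcomp (idealAS 𝒜 mR) i n) =
      Module.rank (GrLC.deg0 𝒜) ↥(EM.Hcomp mR i n) := by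
  cases i with
  | zero =>
    exact rank_eq_of_equiv_equiv (fun r => ⟨r.1, r.2⟩)
      { toFun := fun x => ⟨x.1, x.2⟩
        invFun := fun x => ⟨x.1, x.2⟩
        left_inv := fun _ => rfl
        right_inv := fun _ => rfl
        map_add' := fun _ _ => rfl }
      ⟨fun a b h => Subtype.ext (congrArg Subtype.val h), fun r => ⟨⟨r.1, r.2⟩, rfl⟩⟩
      (fun _ _ => rfl)
  | succ j =>
    exact rank_eq_of_equiv_equiv (fun r => ⟨r.1, r.2⟩)
      { toFun := fun x => ⟨x.1, x.2⟩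
        invFun := fun x => ⟨x.1, x.2⟩
        left_inv := fun _ => rfl
        right_inv := fun _ => rfl
        map_add' := fun _ _ => rfl }
      ⟨fun a b h => Subtype.ext (congrArg Subtype.val h), fun r => ⟨⟨r.1, r.2⟩, rfl⟩⟩
      (fun _ _ => rfl)

theorem rank_comp_asGr (n : ℤ) :
    Module.rank (GrLC.deg0 (asGr 𝒜)) ↥(GrLC.comp (asGr 𝒜) (asGr ℳ) n) =
      Module.rank (GrLC.deg0 𝒜) ↥(GrLC.comp 𝒜 ℳ n) := by
  exact rank_eq_of_equiv_equiv (fun r => ⟨r.1, r.2⟩)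
    { toFun := fun x => ⟨x.1, x.2⟩
      invFun := fun x => ⟨x.1, x.2⟩
      left_inv := fun _ => rfl
      right_inv := fun _ => rfl
      map_add' := fun _ _ => rfl }
    ⟨fun a b h => Subtype.ext (congrArg Subtype.val h), fun r => ⟨⟨r.1, r.2⟩, rfl⟩⟩
    (fun _ _ => rfl)

variable [Nontrivial R] [IsNoetherianRing R] [Module.Finite R M]
  (hposR : ∀ n : ℤ, n < 0 → 𝒜 n = ⊥)
  (hmR : mR.toIdeal = Ideal.span (⋃ n ∈ Set.Ioi (0 : ℤ), (𝒜 n : Set R)))

include hposR hmR in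
theorem rank_Hcomp_lt_aleph0 (i : ℕ) (n : ℤ) :
    Module.rank (GrLC.deg0 𝒜) ↥(EM.Hcomp mR i n) < ℵ₀ := by
  have hpos' : ∀ n : ℤ, n < 0 → asGr 𝒜 n = ⊥ := by
    intro n hn
    ext x
    rw [mem_asGr, hposR n hn]
    rfl
  haveI := Groth.Agent.S13226.result R (asGr 𝒜) hpos' (idealAS 𝒜 mR) hmR M (asGr ℳ) (resAS EM) i n
  rw [← rank_Hcomp_resAS ℳ EM mR i n]
  exact Module.rank_lt_aleph0 _ _

theorem rank_comp_lt_aleph0 (n : ℤ) :
    Module.rank (GrLC.deg0 𝒜) ↥(GrLC.comp 𝒜 ℳ n) < ℵ₀ := by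
  haveI : IsNoetherian R M := isNoetherian_of_isNoetherianRing_of_finite R M
  haveI := Groth.Agent.Lib.Helper29GrPieceFin.finite_comp (asGr 𝒜) (asGr ℳ) n
  rw [← rank_comp_asGr ℳ n]
  exact Module.rank_lt_aleph0 _ _

end Groth.Agent.Lib.Helper8.Seg
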