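import Groth.Agent.Lib.Helper8Seg1

/-!
# Bidegree pieces of `X ⊗ Y`, the Segre submodule and the diagonal retraction (helper8)
-/

set_option autoImplicit false
set_option linter.unusedSectionVars false
set_option linter.style.haveILetI false
universe u
open TensorProduct DirectSum

noncomputable section

namespace Groth.Agent.Lib.Helper8.Seg

open Groth.Agent.Lib.Helper24SegreFin Groth.Agent.Lib.Helper24SegreFin2

section DecOfProj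

variable {V : Type u} [AddCommGroup V] (𝒱 : ℤ → AddSubgroup V) (P : ℤ → V →+ V)
  (h1 : ∀ e v, v ∈ 𝒱 e → P e v = v) (h2 : ∀ e e' v, e' ≠ e → v ∈ 𝒱 e' → P e v = 0)
  (h3 : ∀ v, v ∈ ⨆ e, 𝒱 e)

include h1 h2 in
theorem P_coe (x : ⨁ e, 𝒱 e) (e : ℤ) : P e (DirectSum.coeAddMonoidHom 𝒱 x) = (x e : V) := by
  classical
  induction x using DirectSum.induction_on with
  | zero => rw [map_zero, map_zero]; rfl
  | of e' v =>
    rw [DirectSum.coeAddMonoidHom_of]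
    by_cases h : e' = e
    · subst h
      rw [h1 e' v v.2, DirectSum.of_eq_same]
    · rw [h2 e e' v h v.2, DirectSum.of_eq_of_ne _ _ _ (Ne.symm h)]
      rfl
  | add x y hx hy =>
    rw [map_add, map_add, hx, hy, DirectSum.add_apply]
    rfl

include h1 h2 h3 in
theorem isInternal_of_proj : DirectSum.IsInternal 𝒱 := by
  classical
  constructor
  · rw [injective_iff_map_eq_zero]
    intro x hx
    apply DFinsupp.ext
    intro e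
    apply Subtype.ext
    rw [← P_coe 𝒱 P h1 h2 x e, hx, map_zero]
    rfl
  · intro v
    refine AddSubgroup.iSup_induction 𝒱 (C := fun v => ∃ x, DirectSum.coeAddMonoidHom 𝒱 x = v)
      (h3 v) ?_ ?_ ?_
    · intro e w hw
      exact ⟨DirectSum.of (fun e => 𝒱 e) e ⟨w, hw⟩, DirectSum.coeAddMonoidHom_of _ _ _⟩
    · exact ⟨0, map_zero _⟩
    · rintro _ _ ⟨x, rfl⟩ ⟨y, rfl⟩
      exact ⟨x + y, map_add _ _ _⟩

include h1 h2 in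
theorem decompose_eq_proj [DirectSum.Decomposition 𝒱] (v : V) (e : ℤ) :
    ((DirectSum.decompose 𝒱 v) e : V) = P e v := by
  have h := P_coe 𝒱 P h1 h2 (DirectSum.decompose 𝒱 v) e
  rw [← h]
  congr 1
  exact ((DirectSum.decompose 𝒱).symm_apply_apply v)

end DecOfProj

variable {k : Type u} [Field k] {R S T : Type u} [CommRing R] [CommRing S] [CommRing T]
  [Algebra k R] [Algebra k S] [Algebra k T]

section Seg

variable (𝒜 : ℤ → Submodule k R) [GradedAlgebra 𝒜] (ℬ : ℤ → Submodule k S) [GradedAlgebra ℬ]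
  (𝒯 : ℤ → Submodule k T) [GradedAlgebra 𝒯] (ψ : T →ₐ[k] R ⊗[k] S)
  (hT : GrSeg.IsSegreRing 𝒜 ℬ 𝒯 ψ)
variable {X Y : Type u} [AddCommGroup X] [Module R X] [Module k X] [IsScalarTower k R X]
  [AddCommGroup Y] [Module S Y] [Module k Y] [IsScalarTower k S Y]
  (𝒳 : ℤ → AddSubgroup X) [DirectSum.Decomposition 𝒳] [SetLike.GradedSMul 𝒜 𝒳]
  (𝒴 : ℤ → AddSubgroup Y) [DirectSum.Decomposition 𝒴] [SetLike.GradedSMul ℬ 𝒴]

/-- the degree `e` piece `X_e ⊗ Y_e` inside `X ⊗ Y` -/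
def piece (e : ℤ) : Submodule k (TP ψ X Y) :=
  (GrSeg.segrePiece k 𝒳 𝒴 e).comap (ofTP ψ X Y).toLinearMap

theorem mem_piece {e : ℤ} {z : TP ψ X Y} :
    z ∈ piece ψ 𝒳 𝒴 e ↔ ofTP ψ X Y z ∈ GrSeg.segrePiece k 𝒳 𝒴 e := Iff.rfl

theorem tmul_mem_piece {e : ℤ} {x : X} (hx : x ∈ 𝒳 e) {y : Y} (hy : y ∈ 𝒴 e) :
    toTP ψ X Y (x ⊗ₜ[k] y) ∈ piece ψ 𝒳 𝒴 e := by
  rw [mem_piece, ofTP_toTP]
  exact Submodule.subset_span ⟨x, hx, y, hy, rfl⟩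

/-- induction principle for elements of a piece -/
theorem piece_induction {e : ℤ} {motive : TP ψ X Y → Prop} {z : TP ψ X Y}
    (hz : z ∈ piece ψ 𝒳 𝒴 e)
    (tmul : ∀ x ∈ 𝒳 e, ∀ y ∈ 𝒴 e, motive (toTP ψ X Y (x ⊗ₜ[k] y)))
    (zero : motive 0) (add : ∀ z w, motive z → motive w → motive (z + w))
    (smul : ∀ (c : k) z, motive z → motive (c • z)) : motive z := by
  have h : ∀ w : X ⊗[k] Y, w ∈ GrSeg.segrePiece k 𝒳 𝒴 e → motive (toTP ψ X Y w) := by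
    intro w hw
    have hw' : w ∈ Submodule.span k {x : X ⊗[k] Y | ∃ a ∈ 𝒳 e, ∃ b ∈ 𝒴 e, x = a ⊗ₜ[k] b} := hw
    refine Submodule.span_induction (p := fun w _ => motive (toTP ψ X Y w)) ?_ ?_ ?_ ?_ hw'
    · rintro w ⟨x, hx, y, hy, rfl⟩
      exact tmul x hx y hy
    · rw [map_zero]; exact zero
    · intro a b _ _ ha hb
      rw [map_add]; exact add _ _ ha hb
    · intro c a _ ha
      rw [map_smul]; exact smul c _ ha
  exact h (ofTP ψ X Y z) hz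

include 𝒜 ℬ in
theorem act_mem_segrePiece {a e : ℤ} {b : R ⊗[k] S} (hb : b ∈ GrSeg.segrePiece k 𝒜 ℬ a)
    {z : X ⊗[k] Y} (hz : z ∈ GrSeg.segrePiece k 𝒳 𝒴 e) :
    GrSeg.act k R S X Y b z ∈ GrSeg.segrePiece k 𝒳 𝒴 (a + e) := by
  have hb' : b ∈ Submodule.span k {x : R ⊗[k] S | ∃ r ∈ 𝒜 a, ∃ s ∈ ℬ a, x = r ⊗ₜ[k] s} := hb
  have hz' : z ∈ Submodule.span k {x : X ⊗[k] Y | ∃ r ∈ 𝒳 e, ∃ s ∈ 𝒴 e, x = r ⊗ₜ[k] s} := hz
  refine Submodule.span_induction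
    (p := fun b _ => GrSeg.act k R S X Y b z ∈ GrSeg.segrePiece k 𝒳 𝒴 (a + e)) ?_ ?_ ?_ ?_ hb'
  · rintro b ⟨r, hr, s, hs, rfl⟩
    refine Submodule.span_induction
      (p := fun z _ => GrSeg.act k R S X Y (r ⊗ₜ[k] s) z ∈ GrSeg.segrePiece k 𝒳 𝒴 (a + e))
      ?_ ?_ ?_ ?_ hz'
    · rintro z ⟨x, hx, y, hy, rfl⟩
      rw [GrSeg.act_tmul]
      have h1 := SetLike.GradedSMul.smul_mem (A := 𝒜) (B := 𝒳) hr hx
      have h2 := SetLike.GradedSMul.smul_mem (A := ℬ) (B := 𝒴) hs hy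
      rw [vadd_eq_add] at h1 h2
      exact Submodule.subset_span ⟨r • x, h1, s • y, h2, rfl⟩
    · rw [map_zero]; exact zero_mem _
    · intro x y _ _ hx hy
      rw [map_add]; exact add_mem hx hy
    · intro c x _ hx
      rw [map_smul]; exact Submodule.smul_mem _ c hx
  · rw [map_zero, LinearMap.zero_apply]; exact zero_mem _
  · intro x y _ _ hx hy
    rw [map_add, LinearMap.add_apply]; exact add_mem hx hy
  · intro c x _ hx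
    rw [map_smul, LinearMap.smul_apply]; exact Submodule.smul_mem _ c hx

include 𝒜 ℬ hT in
theorem smul_mem_piece {a e : ℤ} {t : T} (ht : t ∈ 𝒯 a) {z : TP ψ X Y} (hz : z ∈ piece ψ 𝒳 𝒴 e) :
    t • z ∈ piece ψ 𝒳 𝒴 (a + e) := by
  rw [mem_piece, ofTP_smul]
  have hb : ψ t ∈ GrSeg.segrePiece k 𝒜 ℬ a := by
    rw [← hT.2 a]
    exact ⟨t, ht, rfl⟩
  exact act_mem_segrePiece 𝒜 ℬ 𝒳 𝒴 hb hz

/-- the `k`-span of all pieces -/
def segK : Submodule k (TP ψ X Y) := ⨆ e, piece ψ 𝒳 𝒴 e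

theorem piece_le_segK (e : ℤ) : piece ψ 𝒳 𝒴 e ≤ segK ψ 𝒳 𝒴 := le_iSup (piece ψ 𝒳 𝒴) e

include 𝒜 ℬ hT in
theorem smul_mem_segK_of_mem {a : ℤ} {t : T} (ht : t ∈ 𝒯 a) (z : TP ψ X Y)
    (hz : z ∈ segK ψ 𝒳 𝒴) : t • z ∈ segK ψ 𝒳 𝒴 := by
  refine Submodule.iSup_induction (fun e => piece ψ 𝒳 𝒴 e)
    (motive := fun z => t • z ∈ segK ψ 𝒳 𝒴) hz ?_ ?_ ?_
  · intro e w hw
    exact piece_le_segK ψ 𝒳 𝒴 (a + e) (smul_mem_piece 𝒜 ℬ 𝒯 ψ hT 𝒳 𝒴 ht hw)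
  · rw [smul_zero]; exact zero_mem _
  · intro x y hx hy
    rw [smul_add]; exact add_mem hx hy

include 𝒜 ℬ hT in
theorem smul_mem_segK (t : T) (z : TP ψ X Y) (hz : z ∈ segK ψ 𝒳 𝒴) : t • z ∈ segK ψ 𝒳 𝒴 := by
  induction t using DirectSum.Decomposition.inductionOn 𝒯 with
  | zero => rw [zero_smul]; exact zero_mem _
  | homogeneous t => exact smul_mem_segK_of_mem 𝒜 ℬ 𝒯 ψ hT 𝒳 𝒴 t.2 z hz
  | add t t' ht ht' => rw [add_smul]; exact add_mem ht ht'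

/-- the projection onto bidegree `(e, e)` -/
def P (e : ℤ) : TP ψ X Y →ₗ[k] TP ψ X Y :=
  (toTP ψ X Y).toLinearMap ∘ₗ
    TensorProduct.map (pr 𝒳 (kstable 𝒜 𝒳) e) (pr 𝒴 (kstable ℬ 𝒴) e) ∘ₗ (ofTP ψ X Y).toLinearMap

theorem P_tmul (e : ℤ) (x : X) (y : Y) :
    P 𝒜 ℬ ψ 𝒳 𝒴 e (toTP ψ X Y (x ⊗ₜ[k] y)) =
      toTP ψ X Y (pr 𝒳 (kstable 𝒜 𝒳) e x ⊗ₜ[k] pr 𝒴 (kstable ℬ 𝒴) e y) := rfl

theorem P_mem_piece (e : ℤ) (z : TP ψ X Y) : P 𝒜 ℬ ψ 𝒳 𝒴 e z ∈ piece ψ 𝒳 𝒴 e := by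
  induction z using TP_induction ψ with
  | zero => rw [map_zero]; exact zero_mem _
  | tmul x y =>
    rw [P_tmul]
    exact tmul_mem_piece ψ 𝒳 𝒴 (pr_mem 𝒳 _ e x) (pr_mem 𝒴 _ e y)
  | add z w hz hw => rw [map_add]; exact add_mem hz hw

theorem P_of_mem_same {e : ℤ} {z : TP ψ X Y} (hz : z ∈ piece ψ 𝒳 𝒴 e) : P 𝒜 ℬ ψ 𝒳 𝒴 e z = z := by
  refine piece_induction ψ 𝒳 𝒴 (motive := fun z => P 𝒜 ℬ ψ 𝒳 𝒴 e z = z) hz ?_ ?_ ?_ ?_
  · intro x hx y hy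
    rw [P_tmul, pr_of_mem_same 𝒳 _ hx, pr_of_mem_same 𝒴 _ hy]
  · exact map_zero _
  · intro x y hx hy
    rw [map_add, hx, hy]
  · intro c x hx
    rw [map_smul, hx]

theorem P_of_mem_ne {e e' : ℤ} (h : e' ≠ e) {z : TP ψ X Y} (hz : z ∈ piece ψ 𝒳 𝒴 e') :
    P 𝒜 ℬ ψ 𝒳 𝒴 e z = 0 := by
  refine piece_induction ψ 𝒳 𝒴 (motive := fun z => P 𝒜 ℬ ψ 𝒳 𝒴 e z = 0) hz ?_ ?_ ?_ ?_
  · intro x hx y hy
    rw [P_tmul, pr_of_mem_ne 𝒳 _ hx h, TensorProduct.zero_tmul, map_zero]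
  · exact map_zero _
  · intro x y hx hy
    rw [map_add, hx, hy, add_zero]
  · intro c x hx
    rw [map_smul, hx, smul_zero]

include ℬ in
theorem pr_smul_of_mem {a : ℤ} {s : S} (hs : s ∈ ℬ a) (i : ℤ) (y : Y) :
    pr 𝒴 (kstable ℬ 𝒴) (a + i) (s • y) = s • pr 𝒴 (kstable ℬ 𝒴) i y := by
  induction y using DirectSum.Decomposition.inductionOn 𝒴 with
  | zero => rw [smul_zero, map_zero, map_zero, smul_zero]
  | homogeneous y =>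
    rename_i j
    have h2 : s • (y : Y) ∈ 𝒴 (a + j) := by
      have := SetLike.GradedSMul.smul_mem (A := ℬ) (B := 𝒴) hs y.2
      rwa [vadd_eq_add] at this
    by_cases hij : j = i
    · subst hij
      rw [pr_of_mem_same 𝒴 _ h2, pr_of_mem_same 𝒴 _ y.2]
    · rw [pr_of_mem_ne 𝒴 _ h2 (by omega), pr_of_mem_ne 𝒴 _ y.2 hij, smul_zero]
  | add y y' hy hy' => rw [smul_add, map_add, hy, hy', map_add, smul_add]

/-- the diagonal projection on `X ⊗ Y` -/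
def rhoK : X ⊗[k] Y →ₗ[k] X ⊗[k] Y := rho 𝒳 (kstable 𝒜 𝒳) 𝒴 (kstable ℬ 𝒴)

theorem rhoK_act {a : ℤ} {b : R ⊗[k] S} (hb : b ∈ GrSeg.segrePiece k 𝒜 ℬ a) (z : X ⊗[k] Y) :
    rhoK 𝒜 ℬ 𝒳 𝒴 (GrSeg.act k R S X Y b z) = GrSeg.act k R S X Y b (rhoK 𝒜 ℬ 𝒳 𝒴 z) := by
  have hb' : b ∈ Submodule.span k {x : R ⊗[k] S | ∃ r ∈ 𝒜 a, ∃ s ∈ ℬ a, x = r ⊗ₜ[k] s} := hb
  refine Submodule.span_induction
    (p := fun b _ => rhoK 𝒜 ℬ 𝒳 𝒴 (GrSeg.act k R S X Y b z) =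
      GrSeg.act k R S X Y b (rhoK 𝒜 ℬ 𝒳 𝒴 z)) ?_ ?_ ?_ ?_ hb'
  · rintro b ⟨r, hr, s, hs, rfl⟩
    induction z using TensorProduct.induction_on with
    | zero => rw [map_zero, map_zero, map_zero]
    | add z z' hz hz' => rw [map_add, map_add, hz, hz', map_add, map_add]
    | tmul x y =>
      induction x using DirectSum.Decomposition.inductionOn 𝒳 with
      | zero => rw [TensorProduct.zero_tmul, map_zero, map_zero, map_zero]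
      | add x x' hx hx' =>
        rw [TensorProduct.add_tmul, map_add, map_add, hx, hx', map_add, map_add]
      | homogeneous x =>
        rename_i i
        have h2 : r • (x : X) ∈ 𝒳 (a + i) := by
          have := SetLike.GradedSMul.smul_mem (A := 𝒜) (B := 𝒳) hr x.2
          rwa [vadd_eq_add] at this
        unfold rhoK
        rw [GrSeg.act_tmul, rho_tmul_of_mem 𝒳 _ 𝒴 _ h2, rho_tmul_of_mem 𝒳 _ 𝒴 _ x.2,
          GrSeg.act_tmul, pr_smul_of_mem ℬ 𝒴 hs]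
  · rw [map_zero, LinearMap.zero_apply, LinearMap.zero_apply, map_zero]
  · intro b b' _ _ hb hb'
    rw [map_add, LinearMap.add_apply, LinearMap.add_apply, map_add, hb, hb']
  · intro c b _ hb
    rw [map_smul, LinearMap.smul_apply, LinearMap.smul_apply, map_smul, hb]

include hT in
theorem rhoK_act_psi (t : T) (z : X ⊗[k] Y) :
    rhoK 𝒜 ℬ 𝒳 𝒴 (GrSeg.act k R S X Y (ψ t) z) =
      GrSeg.act k R S X Y (ψ t) (rhoK 𝒜 ℬ 𝒳 𝒴 z) := by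
  induction t using DirectSum.Decomposition.inductionOn 𝒯 with
  | zero => rw [map_zero, map_zero, LinearMap.zero_apply, LinearMap.zero_apply, map_zero]
  | homogeneous t =>
    rename_i a
    have hb : ψ t ∈ GrSeg.segrePiece k 𝒜 ℬ a := by
      rw [← hT.2 a]
      exact ⟨t, t.2, rfl⟩
    exact rhoK_act 𝒜 ℬ 𝒳 𝒴 hb z
  | add t t' ht ht' =>
    rw [map_add, map_add, LinearMap.add_apply, LinearMap.add_apply, map_add, ht, ht']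

/-- the `T`-linear diagonal retraction of `X ⊗ Y` onto the Segre product -/
def rhoT : TP ψ X Y →ₗ[T] TP ψ X Y where
  toFun z := toTP ψ X Y (rhoK 𝒜 ℬ 𝒳 𝒴 (ofTP ψ X Y z))
  map_add' z w := by rw [map_add, map_add, map_add]
  map_smul' t z := by
    apply ofTP_injective
    rw [RingHom.id_apply, ofTP_toTP, ofTP_smul, ofTP_smul, ofTP_toTP,
      rhoK_act_psi 𝒜 ℬ 𝒯 ψ hT 𝒳 𝒴]

theorem rhoT_mem_segK (z : TP ψ X Y) : rhoT 𝒜 ℬ 𝒯 ψ hT 𝒳 𝒴 z ∈ segK ψ 𝒳 𝒴 := by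
  have h := rho_mem 𝒳 (kstable 𝒜 𝒳) 𝒴 (kstable ℬ 𝒴)
    ((segK ψ 𝒳 𝒴).map (ofTP ψ X Y).toLinearMap)
    (fun n w hw => ⟨toTP ψ X Y w, piece_le_segK ψ 𝒳 𝒴 n hw, rfl⟩) (ofTP ψ X Y z)
  obtain ⟨w, hw, hwz⟩ := h
  have : rhoT 𝒜 ℬ 𝒯 ψ hT 𝒳 𝒴 z = w := by
    apply ofTP_injective
    exact hwz.symm
  rw [this]
  exact hw

theorem rhoT_of_mem_piece {e : ℤ} {z : TP ψ X Y} (hz : z ∈ piece ψ 𝒳 𝒴 e) :
    rhoT 𝒜 ℬ 𝒯 ψ hT 𝒳 𝒴 z = z := by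
  apply ofTP_injective
  exact rho_of_mem_segrePiece 𝒳 (kstable 𝒜 𝒳) 𝒴 (kstable ℬ 𝒴) hz

theorem rhoT_of_mem_segK {z : TP ψ X Y} (hz : z ∈ segK ψ 𝒳 𝒴) :
    rhoT 𝒜 ℬ 𝒯 ψ hT 𝒳 𝒴 z = z := by
  refine Submodule.iSup_induction (fun e => piece ψ 𝒳 𝒴 e)
    (motive := fun z => rhoT 𝒜 ℬ 𝒯 ψ hT 𝒳 𝒴 z = z) hz ?_ ?_ ?_
  · intro e w hw
    exact rhoT_of_mem_piece 𝒜 ℬ 𝒯 ψ hT 𝒳 𝒴 hw
  · exact map_zero _
  · intro x y hx hy
    rw [map_add, hx, hy]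

end Seg

end Groth.Agent.Lib.Helper8.Seg
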