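import Groth.Agent.Lib.Helper8Seg19
import Groth.Agent.S18646

/-!
# The Künneth formula for graded local cohomology of Segre products of modules (helper8)
-/

set_option autoImplicit false
set_option linter.unusedSectionVars false
set_option linter.style.haveILetI false
universe u
open TensorProduct DirectSum Cardinal

noncomputable section

namespace Groth.Agent.Lib.Helper8.Seg

open Groth.Agent.Lib.Helper29GrConv Groth.Agent.Lib.Helper29LCAcyclic Groth.Agent.Lib.Helper8.Kun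
  Groth.Agent.Lib.Helper8.Kun.Cpx Groth.Agent.Lib.Helper24SegreFin Groth.Agent.Lib.Helper24SegreFin2

section One

variable {k : Type u} [Field k] {R : Type u} [CommRing R] [Algebra k R]
variable {𝒜 : ℤ → Submodule k R} [GradedAlgebra 𝒜]
variable {M : Type u} [AddCommGroup M] [Module R M] [Module k M] [IsScalarTower k R M]
  (ℳ : ℤ → AddSubgroup M) [DirectSum.Decomposition ℳ] [SetLike.GradedSMul 𝒜 ℳ]
  (EM : GrLC.StarInjRes 𝒜 ℳ) (mR : HomogeneousIdeal 𝒜)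

theorem exists_algebraMap_of_span (h0R : 𝒜 0 = Submodule.span k {(1 : R)}) :
    ∀ r ∈ 𝒜 0, ∃ c : k, algebraMap k R c = r := by
  intro r hr
  rw [h0R] at hr
  obtain ⟨c, hc⟩ := Submodule.mem_span_singleton.mp hr
  exact ⟨c, by rw [Algebra.algebraMap_eq_smul_one, hc]⟩

/-- if `H^0_m(M)_d = 0` then the degree `d` part of `Γ_m(E^0)` has no cocycles -/
theorem gamSub_cyc_zero (d : ℤ) (h : EM.Hcomp mR 0 d = ⊥) :
    (gamSub EM.X EM.d EM.d_grHom (res_d_d ℳ EM) mR d).cpx.cyc 0 = ⊥ := by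
  rw [eq_bot_iff]
  intro x hx
  have hx' : (gamSub EM.X EM.d EM.d_grHom (res_d_d ℳ EM) mR d).cpx.d 0 x = 0 := hx
  have hx2 : EM.d 0 (x.1.1 : (EM.X 0).carrier) = 0 := by
    have h2 : (((gamSub EM.X EM.d EM.d_grHom (res_d_d ℳ EM) mR d).cpx.d 0 x).1.1 :
        (EM.X 1).carrier) = 0 := by
      rw [hx']; rfl
    exact h2
  have h1 : (x.1.1 : (EM.X 0).carrier) ∈ EM.cocyc mR 0 := ⟨x.2, hx2⟩
  have h3 := (Hcomp_eq_bot_iff_forall EM mR 0 d).mp h _ h1 x.1.2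
  have h4 : (x.1.1 : (EM.X 0).carrier) = (0 : (EM.X 0).carrier) :=
    (Submodule.mem_bot (R := R) (M := (EM.X 0).carrier)).mp h3
  exact (Submodule.mem_bot k).mpr (Subtype.ext (Subtype.ext h4))

end One

section Main

variable {k : Type u} [Field k] {R S T : Type u} [CommRing R] [CommRing S] [CommRing T]
  [Algebra k R] [Algebra k S] [Algebra k T]
variable {𝒜 : ℤ → Submodule k R} [GradedAlgebra 𝒜] {ℬ : ℤ → Submodule k S} [GradedAlgebra ℬ]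
  (𝒯 : ℤ → Submodule k T) [GradedAlgebra 𝒯] (ψ : T →ₐ[k] R ⊗[k] S)
  (hT : GrSeg.IsSegreRing 𝒜 ℬ 𝒯 ψ)

include hT in
theorem exists_algebraMap_segre (h0R : 𝒜 0 = Submodule.span k {(1 : R)})
    (h0S : ℬ 0 = Submodule.span k {(1 : S)}) :
    ∀ t ∈ 𝒯 0, ∃ c : k, algebraMap k T c = t := by
  intro t ht
  have h1 : ψ t ∈ GrSeg.segrePiece k 𝒜 ℬ 0 := by
    rw [← hT.2 0]; exact ⟨t, ht, rfl⟩
  have h2 : ∀ z ∈ GrSeg.segrePiece k 𝒜 ℬ 0, ∃ c : k, z = c • (1 : R ⊗[k] S) := by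
    intro z hz
    refine Submodule.span_induction (p := fun z _ => ∃ c : k, z = c • (1 : R ⊗[k] S))
      ?_ ?_ ?_ ?_ hz
    · rintro _ ⟨a, ha, b, hb, rfl⟩
      obtain ⟨c, rfl⟩ := exists_algebraMap_of_span h0R a ha
      obtain ⟨c', rfl⟩ := exists_algebraMap_of_span h0S b hb
      refine ⟨c * c', ?_⟩
      rw [Algebra.algebraMap_eq_smul_one, Algebra.algebraMap_eq_smul_one,
        TensorProduct.smul_tmul_smul]
      rfl
    · exact ⟨0, (zero_smul _ _).symm⟩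
    · rintro x y _ _ ⟨c, rfl⟩ ⟨c', rfl⟩
      exact ⟨c + c', (add_smul _ _ _).symm⟩
    · rintro a x _ ⟨c, rfl⟩
      exact ⟨a * c, smul_smul a c _⟩
  obtain ⟨c, hc⟩ := h2 _ h1
  refine ⟨c, hT.1 ?_⟩
  rw [AlgHom.commutes, hc, Algebra.algebraMap_eq_smul_one]

include hT in
/-- The Künneth formula for the graded local cohomology of a Segre product of modules, degree
by degree. -/
theorem finrank_Hcomp_segre [Nontrivial R] [Nontrivial S]
    (hposR : ∀ n : ℤ, n < 0 → 𝒜 n = ⊥) (h0R : 𝒜 0 = Submodule.span k {(1 : R)})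
    [Algebra.FiniteType k R]
    (hposS : ∀ n : ℤ, n < 0 → ℬ n = ⊥) (h0S : ℬ 0 = Submodule.span k {(1 : S)})
    [Algebra.FiniteType k S]
    (mR : HomogeneousIdeal 𝒜)
    (hmR : mR.toIdeal = Ideal.span (⋃ n ∈ Set.Ioi (0 : ℤ), (𝒜 n : Set R)))
    (mS : HomogeneousIdeal ℬ)
    (hmS : mS.toIdeal = Ideal.span (⋃ n ∈ Set.Ioi (0 : ℤ), (ℬ n : Set S)))
    (mT : HomogeneousIdeal 𝒯)
    (hmT : mT.toIdeal = Ideal.span (⋃ n ∈ Set.Ioi (0 : ℤ), (𝒯 n : Set T)))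
    {M : Type u} [AddCommGroup M] [Module R M] [Module k M] [IsScalarTower k R M]
    (ℳ : ℤ → AddSubgroup M) [DirectSum.Decomposition ℳ] [SetLike.GradedSMul 𝒜 ℳ]
    [Module.Finite R M] (EM : GrLC.StarInjRes 𝒜 ℳ)
    {N : Type u} [AddCommGroup N] [Module S N] [Module k N] [IsScalarTower k S N]
    (𝒩 : ℤ → AddSubgroup N) [DirectSum.Decomposition 𝒩] [SetLike.GradedSMul ℬ 𝒩]
    [Module.Finite S N] (EN : GrLC.StarInjRes ℬ 𝒩)
    {P : Type u} [AddCommGroup P] [Module T P] [Module k P] [IsScalarTower k T P]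
    (𝒬 : ℤ → AddSubgroup P) [DirectSum.Decomposition 𝒬] [SetLike.GradedSMul 𝒯 𝒬]
    (φ : P →ₗ[k] M ⊗[k] N) (hP : GrSeg.IsSegreMod ψ ℳ 𝒩 𝒬 φ) (EP : GrLC.StarInjRes 𝒯 𝒬)
    (d : ℤ) (hM : EM.Hcomp mR 0 d = ⊥) (hN : EN.Hcomp mS 0 d = ⊥) (q : ℕ) :
    Module.finrank (GrLC.deg0 𝒯) (EP.Hcomp mT q d) =
      Module.finrank (GrLC.deg0 𝒜) (GrLC.comp 𝒜 ℳ d) *
          Module.finrank (GrLC.deg0 ℬ) (EN.Hcomp mS q d) +
        Module.finrank (GrLC.deg0 𝒜) (EM.Hcomp mR q d) *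
          Module.finrank (GrLC.deg0 ℬ) (GrLC.comp ℬ 𝒩 d) +
        (Finset.range (q + 2)).sum (fun i => Module.finrank (GrLC.deg0 𝒜) (EM.Hcomp mR i d) *
          Module.finrank (GrLC.deg0 ℬ) (EN.Hcomp mS (q + 1 - i) d)) := by
  classical
  haveI : IsNoetherianRing R := Algebra.FiniteType.isNoetherianRing k R
  haveI : IsNoetherianRing S := Algebra.FiniteType.isNoetherianRing k S
  haveI : IsNoetherianRing T :=
    Groth.Agent.S18646.result k R 𝒜 hposR h0R S ℬ hposS h0S T 𝒯 ψ hT.1 hT.2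
  haveI : Nontrivial (R ⊗[k] S) :=
    Algebra.TensorProduct.nontrivial_of_algebraMap_injective_of_flat_left k R S
      (algebraMap k S).injective
  haveI : Nontrivial T := ψ.toRingHom.domain_nontrivial
  have hkR := exists_algebraMap_of_span (𝒜 := 𝒜) h0R
  have hkS := exists_algebraMap_of_span (𝒜 := ℬ) h0S
  have hkT := exists_algebraMap_segre 𝒯 ψ hT h0R h0S
  obtain ⟨C⟩ := nonempty_cmp 𝒯 ψ hT EM.X EM.d EM.d_grHom (res_d_d ℳ EM) EM.exact_succ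
    EN.X EN.d EN.d_grHom (res_d_d 𝒩 EN) EN.exact_succ ℳ EM.ε EM.ε_grHom EM.ε_injective
    EM.exact_zero 𝒩 EN.ε EN.ε_grHom EN.ε_injective EN.exact_zero 𝒬 φ hP mR hmR mS hmS mT hmT EP
    EM.starInj EN.starInj
  have h1 := rank_Hcomp_eq_rank_HW 𝒯 ψ hT EM.X EM.d EM.d_grHom (res_d_d ℳ EM)
    EN.X EN.d EN.d_grHom (res_d_d 𝒩 EN) 𝒬 mR hmR mS hmS mT hmT EP C EM.starInj EN.starInj hkT q d
  haveI : ∀ p, Module.Finite k ((gamSub EM.X EM.d EM.d_grHom (res_d_d ℳ EM) mR d).cpx.H p) := fun p =>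
    Module.rank_lt_aleph0_iff.mp (by
      rw [rank_gamSub_H ℳ EM mR hkR p d]
      exact rank_Hcomp_lt_aleph0 ℳ EM mR hposR hmR p d)
  haveI : ∀ p, Module.Finite k ((gamSub EN.X EN.d EN.d_grHom (res_d_d 𝒩 EN) mS d).cpx.H p) := fun p =>
    Module.rank_lt_aleph0_iff.mp (by
      rw [rank_gamSub_H 𝒩 EN mS hkS p d]
      exact rank_Hcomp_lt_aleph0 𝒩 EN mS hposS hmS p d)
  haveI : Module.Finite k ((cpxE EM.X EM.d EM.d_grHom (res_d_d ℳ EM) d).H 0) :=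
    Module.rank_lt_aleph0_iff.mp (by
      rw [rank_cpxE_H_zero ℳ EM hkR d]
      exact rank_comp_lt_aleph0 ℳ d)
  haveI : Module.Finite k ((cpxE EN.X EN.d EN.d_grHom (res_d_d 𝒩 EN) d).H 0) :=
    Module.rank_lt_aleph0_iff.mp (by
      rw [rank_cpxE_H_zero 𝒩 EN hkS d]
      exact rank_comp_lt_aleph0 𝒩 d)
  have h2 := finrank_HW_eq (gamSub EM.X EM.d EM.d_grHom (res_d_d ℳ EM) mR d) (gamSub EN.X EN.d EN.d_grHom (res_d_d 𝒩 EN) mS d)
    (cpxE_exact EM.X EM.d EM.d_grHom (res_d_d ℳ EM) EM.exact_succ d)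
    (cpxE_exact EN.X EN.d EN.d_grHom (res_d_d 𝒩 EN) EN.exact_succ d)
    (gamSub_cyc_zero ℳ EM mR d hM) (gamSub_cyc_zero 𝒩 EN mS d hN) q
  have e0 : Module.finrank (GrLC.deg0 𝒯) (EP.Hcomp mT q d) =
      Module.finrank k (HW (gamSub EM.X EM.d EM.d_grHom (res_d_d ℳ EM) mR d) (gamSub EN.X EN.d EN.d_grHom (res_d_d 𝒩 EN) mS d) q) := congrArg Cardinal.toNat h1
  have e1 : ∀ i, Module.finrank k ((gamSub EM.X EM.d EM.d_grHom (res_d_d ℳ EM) mR d).cpx.H i) =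
      Module.finrank (GrLC.deg0 𝒜) (EM.Hcomp mR i d) := fun i =>
    congrArg Cardinal.toNat (rank_gamSub_H ℳ EM mR hkR i d)
  have e2 : ∀ i, Module.finrank k ((gamSub EN.X EN.d EN.d_grHom (res_d_d 𝒩 EN) mS d).cpx.H i) =
      Module.finrank (GrLC.deg0 ℬ) (EN.Hcomp mS i d) := fun i =>
    congrArg Cardinal.toNat (rank_gamSub_H 𝒩 EN mS hkS i d)
  have e3 : Module.finrank k ((cpxE EM.X EM.d EM.d_grHom (res_d_d ℳ EM) d).H 0) = Module.finrank (GrLC.deg0 𝒜) (GrLC.comp 𝒜 ℳ d) :=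
    congrArg Cardinal.toNat (rank_cpxE_H_zero ℳ EM hkR d)
  have e4 : Module.finrank k ((cpxE EN.X EN.d EN.d_grHom (res_d_d 𝒩 EN) d).H 0) = Module.finrank (GrLC.deg0 ℬ) (GrLC.comp ℬ 𝒩 d) :=
    congrArg Cardinal.toNat (rank_cpxE_H_zero 𝒩 EN hkS d)
  rw [e0, h2, e1 q, e2 q, e3, e4,
    add_comm (Module.finrank (GrLC.deg0 𝒜) (EM.Hcomp mR q d) * _) _]
  congr 1
  exact Finset.sum_congr rfl (fun i _ => by rw [e1 i, e2 (q + 1 - i)])

end Main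

end Groth.Agent.Lib.Helper8.Seg
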