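import Groth.Agent.Lib.Helper8Seg20

/-!
# The Künneth formula for the graded local cohomology of a Segre product of rings (helper8)
-/

set_option autoImplicit false
set_option linter.unusedSectionVars false
set_option linter.style.haveILetI false
universe u
open TensorProduct DirectSum Cardinal

noncomputable section

namespace Groth.Agent.Lib.Helper8.Seg

open Groth.Agent.Lib.Helper29GrConv

section Self

variable {k : Type u} [Field k] {R : Type u} [CommRing R] [Algebra k R]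
variable (𝒜 : ℤ → Submodule k R) [GradedAlgebra 𝒜]

/-- a graded ring as a graded module over itself, with `AddSubgroup`-valued pieces -/
theorem gsmulSelf : SetLike.GradedSMul 𝒜 (asGr 𝒜) where
  smul_mem := fun {_ _ _ _} ha hb => SetLike.GradedMonoid.toGradedMul.mul_mem ha hb

scoped instance instGsmulSelf : SetLike.GradedSMul 𝒜 (asGr 𝒜) := gsmulSelf 𝒜

variable {𝒜}

/-- a *injective resolution of the ring, as a resolution of the ring with `AddSubgroup`-valued
pieces -/
def selfRes (I : GrLC.StarInjRes 𝒜 𝒜) : GrLC.StarInjRes 𝒜 (asGr 𝒜) where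
  X := I.X
  d := I.d
  ε := I.ε
  d_grHom := I.d_grHom
  ε_grHom := fun g m hm => I.ε_grHom g m hm
  ε_injective := I.ε_injective
  exact_zero := I.exact_zero
  exact_succ := I.exact_succ
  starInj := I.starInj

theorem selfRes_Hcomp (I : GrLC.StarInjRes 𝒜 𝒜) (a : HomogeneousIdeal 𝒜) (i : ℕ) (d : ℤ) :
    (selfRes I).Hcomp a i d = I.Hcomp a i d := rfl

variable (𝒜)

/-- the pieces of the ring over the degree zero subring and over the base field -/
theorem finrank_comp_self [Nontrivial R] (hk : ∀ r ∈ 𝒜 0, ∃ c : k, algebraMap k R c = r) (d : ℤ) :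
    Module.finrank (GrLC.deg0 𝒜) (GrLC.comp 𝒜 (asGr 𝒜) d) = Module.finrank k (𝒜 d) := by
  let i₀ : k → ↥(GrLC.deg0 𝒜) := fun c =>
    ⟨algebraMap k R c, SetLike.algebraMap_mem_graded 𝒜 c⟩
  have hi₀ : Function.Bijective i₀ :=
    ⟨fun c c' h => (algebraMap k R).injective (congrArg Subtype.val h), fun t => by
      obtain ⟨c, hc⟩ := hk t.1 t.2
      exact ⟨c, Subtype.ext hc⟩⟩
  let j : ↥(𝒜 d) ≃+ ↥(GrLC.comp 𝒜 (asGr 𝒜) d) :=
    { toFun := fun x => ⟨x.1, x.2⟩
      invFun := fun x => ⟨x.1, x.2⟩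
      left_inv := fun _ => rfl
      right_inv := fun _ => rfl
      map_add' := fun _ _ => rfl }
  have hc : ∀ (c : k) (x : ↥(𝒜 d)), j (c • x) = i₀ c • j x := by
    intro c x
    apply Subtype.ext
    show c • (x : R) = algebraMap k R c * (x : R)
    rw [Algebra.smul_def]
  exact (congrArg Cardinal.toNat (rank_eq_of_equiv_equiv i₀ j hi₀ hc)).symm

end Self

section Main

variable {k : Type u} [Field k] {R S T : Type u} [CommRing R] [CommRing S] [CommRing T]
  [Algebra k R] [Algebra k S] [Algebra k T]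

theorem act_self (b z : R ⊗[k] S) : GrSeg.act k R S R S b z = b * z := by
  induction b using TensorProduct.induction_on with
  | zero => rw [map_zero, LinearMap.zero_apply, zero_mul]
  | add b b' hb hb' => rw [map_add, LinearMap.add_apply, hb, hb', add_mul]
  | tmul r s =>
    induction z using TensorProduct.induction_on with
    | zero => rw [map_zero, mul_zero]
    | add z z' hz hz' => rw [map_add, hz, hz', mul_add]
    | tmul m n =>
      rw [GrSeg.act_tmul, Algebra.TensorProduct.tmul_mul_tmul, smul_eq_mul, smul_eq_mul]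

variable {𝒜 : ℤ → Submodule k R} [GradedAlgebra 𝒜] {ℬ : ℤ → Submodule k S} [GradedAlgebra ℬ]
  (𝒯 : ℤ → Submodule k T) [GradedAlgebra 𝒯] (ψ : T →ₐ[k] R ⊗[k] S)
  (hT : GrSeg.IsSegreRing 𝒜 ℬ 𝒯 ψ)

include hT in
theorem isSegreMod_self : GrSeg.IsSegreMod ψ (asGr 𝒜) (asGr ℬ) (asGr 𝒯) ψ.toLinearMap where
  injective := hT.1
  image_piece := fun n => by
    have h := congrArg (fun W : Submodule k (R ⊗[k] S) => (W : Set (R ⊗[k] S))) (hT.2 n)
    exact h
  map_smul := fun t p => by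
    show ψ (t * p) = _
    rw [map_mul, act_self]
    rfl

include hT in
/-- The Künneth formula for the graded local cohomology of a Segre product of rings, degree by
degree. -/
theorem finrank_Hcomp_segre_ring [Nontrivial R] [Nontrivial S]
    (hposR : ∀ n : ℤ, n < 0 → 𝒜 n = ⊥) (h0R : 𝒜 0 = Submodule.span k {(1 : R)})
    [Algebra.FiniteType k R]
    (hposS : ∀ n : ℤ, n < 0 → ℬ n = ⊥) (h0S : ℬ 0 = Submodule.span k {(1 : S)})
    [Algebra.FiniteType k S]
    (mR : HomogeneousIdeal 𝒜)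
    (hmR : mR.toIdeal = Ideal.span (⋃ n ∈ Set.Ioi (0 : ℤ), (𝒜 n : Set R)))
    (I : GrLC.StarInjRes 𝒜 𝒜)
    (mS : HomogeneousIdeal ℬ)
    (hmS : mS.toIdeal = Ideal.span (⋃ n ∈ Set.Ioi (0 : ℤ), (ℬ n : Set S)))
    (J : GrLC.StarInjRes ℬ ℬ)
    (mT : HomogeneousIdeal 𝒯)
    (hmT : mT.toIdeal = Ideal.span (⋃ n ∈ Set.Ioi (0 : ℤ), (𝒯 n : Set T)))
    (IT : GrLC.StarInjRes 𝒯 𝒯)
    (d : ℤ) (hR : I.Hcomp mR 0 d = ⊥) (hS : J.Hcomp mS 0 d = ⊥) (q : ℕ) :
    Module.finrank (GrLC.deg0 𝒯) (IT.Hcomp mT q d) =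
      Module.finrank k (𝒜 d) * Module.finrank (GrLC.deg0 ℬ) (J.Hcomp mS q d) +
        Module.finrank (GrLC.deg0 𝒜) (I.Hcomp mR q d) * Module.finrank k (ℬ d) +
        (Finset.range (q + 2)).sum (fun i => Module.finrank (GrLC.deg0 𝒜) (I.Hcomp mR i d) *
          Module.finrank (GrLC.deg0 ℬ) (J.Hcomp mS (q + 1 - i) d)) := by
  have h := finrank_Hcomp_segre 𝒯 ψ hT hposR h0R hposS h0S mR hmR mS hmS mT hmT
    (asGr 𝒜) (selfRes I) (asGr ℬ) (selfRes J) (asGr 𝒯) ψ.toLinearMap
    (isSegreMod_self 𝒯 ψ hT) (selfRes IT) d hR hS q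
  rw [finrank_comp_self 𝒜 (exists_algebraMap_of_span h0R) d,
    finrank_comp_self ℬ (exists_algebraMap_of_span h0S) d] at h
  exact h

end Main

end Groth.Agent.Lib.Helper8.Seg
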