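import Groth.Agent.Lib.Helper8Seg23
import Groth.Agent.Lib.Helper29EndDeg

/-!
# Standard graded algebras: nonvanishing of the pieces, and the sign of the end (helper8)
-/

set_option autoImplicit false
set_option linter.unusedSectionVars false
set_option linter.style.haveILetI false
universe u
open TensorProduct DirectSum Cardinal

noncomputable section

namespace Groth.Agent.Lib.Helper8.Seg

open Groth.Agent.Lib.Helper29GrConv Groth.Agent.Lib.Helper8.GrCMk

section End

variable {M : Type u} [AddCommGroup M] (ℳ : ℤ → AddSubgroup M)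

theorem endDeg_lt_zero_iff : GrLC.endDeg ℳ < 0 ↔ ∀ n : ℤ, 0 ≤ n → ℳ n = ⊥ := by
  have h00 : (0 : WithBot (WithTop ℤ)) = (((0 : ℤ) : WithTop ℤ) : WithBot (WithTop ℤ)) := rfl
  constructor
  · intro h n hn
    by_contra hne
    have h1 := Groth.Agent.Lib.Helper29EndDeg.le_endDeg ℳ hne
    have h2 := lt_of_le_of_lt h1 h
    rw [h00, WithBot.coe_lt_coe, WithTop.coe_lt_coe] at h2
    omega
  · intro h
    have h1 : GrLC.endDeg ℳ ≤ (((-1 : ℤ) : WithTop ℤ) : WithBot (WithTop ℤ)) := by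
      rw [Groth.Agent.Lib.Helper29EndDeg.endDeg_le_iff]
      intro n hn
      rw [Groth.Agent.Lib.Helper29EndDeg.coe_le_coe_iff]
      by_contra hlt
      exact hn (h n (by omega))
    refine lt_of_le_of_lt h1 ?_
    rw [h00, WithBot.coe_lt_coe, WithTop.coe_lt_coe]
    omega

end End

section Std

variable {k : Type u} [Field k] {R : Type u} [CommRing R] [Algebra k R]
  (𝒜 : ℤ → Submodule k R) [GradedAlgebra 𝒜]
  (hpos : ∀ n : ℤ, n < 0 → 𝒜 n = ⊥) (h0 : 𝒜 0 = Submodule.span k {(1 : R)})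
  (hstd : Ideal.span (⋃ n ∈ Set.Ioi (0 : ℤ), (𝒜 n : Set R)) =
    Ideal.span ((𝒜 1 : Submodule k R) : Set R))

include hpos h0 in
/-- the irrelevant ideal is maximal -/
theorem irr_isMaximal [Nontrivial R] [IsNoetherianRing R] :
    (Ideal.span (⋃ n ∈ Set.Ioi (0 : ℤ), (𝒜 n : Set R))).IsMaximal := by
  have hm := isStarLocal_asGr 𝒜 hpos h0 (irr 𝒜) (irr_toIdeal 𝒜)
  exact Groth.Agent.Lib.Helper8.GrField.isMaximal (asGr 𝒜) (asGr_pos 𝒜 hpos)
    (isField_deg0 𝒜 h0) (idealAS 𝒜 (irr 𝒜)) hm (irr_toIdeal 𝒜)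

include hpos h0 hstd in
/-- a standard graded algebra of positive dimension has no vanishing piece in degrees `≥ 0` -/
theorem piece_ne_bot_of_std [IsNoetherianRing R] (hdim : 1 ≤ ringKrullDim R) (n : ℤ)
    (hn : 0 ≤ n) : 𝒜 n ≠ ⊥ := by
  intro hbot
  have hnt : Nontrivial R := by
    by_contra hnt
    rw [not_nontrivial_iff_subsingleton] at hnt
    rw [ringKrullDim_eq_bot_of_subsingleton] at hdim
    exact absurd hdim (by simp)
  obtain ⟨d, rfl⟩ := Int.eq_ofNat_of_zero_le hn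
  -- every element of `𝒜 1` is nilpotent
  have hnil : ∀ x ∈ 𝒜 1, x ^ d = 0 := by
    intro x hx
    have h1 := SetLike.pow_mem_graded d hx
    have h2 : (d • (1 : ℤ)) = (d : ℤ) := by simp
    rw [h2, hbot] at h1
    exact (Submodule.mem_bot k).mp h1
  have hle : Ideal.span (⋃ n ∈ Set.Ioi (0 : ℤ), (𝒜 n : Set R)) ≤ nilradical R := by
    rw [hstd, Ideal.span_le]
    intro x hx
    exact ⟨d, hnil x hx⟩
  have hmax := irr_isMaximal 𝒜 hpos h0
  have hK : Ring.KrullDimLE 0 R := by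
    rw [Ring.krullDimLE_zero_iff]
    intro P hP
    have h1 : Ideal.span (⋃ n ∈ Set.Ioi (0 : ℤ), (𝒜 n : Set R)) ≤ P :=
      hle.trans (nilradical_le_prime P)
    rw [← hmax.eq_of_le hP.ne_top h1]
    exact hmax
  have h3 : ringKrullDim R ≤ 0 := by
    have := (Ring.krullDimLE_iff (n := 0) (R := R)).mp hK
    exact_mod_cast this
  have h4 := le_trans hdim h3
  exact absurd h4 (by norm_num)

end Std

end Groth.Agent.Lib.Helper8.Seg
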