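import Groth.Agent.Lib.Helper8Seg25
import Groth.Agent.Lib.Helper8Kun7

/-!
# The Künneth formula for Segre products in the top range (helper8)
-/

set_option autoImplicit false
set_option linter.unusedSectionVars false
set_option linter.style.haveILetI false
universe u
open TensorProduct DirectSum Cardinal

noncomputable section

namespace Groth.Agent.Lib.Helper8.Seg

open Groth.Agent.Lib.Helper29GrConv Groth.Agent.Lib.Helper29LCAcyclic Groth.Agent.Lib.Helper8.Kun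
  Groth.Agent.Lib.Helper8.Kun.Cpx Groth.Agent.Lib.Helper24SegreFin Groth.Agent.Lib.Helper24SegreFin2

section Main

variable {k : Type u} [Field k] {R S T : Type u} [CommRing R] [CommRing S] [CommRing T]
  [Algebra k R] [Algebra k S] [Algebra k T]
variable {𝒜 : ℤ → Submodule k R} [GradedAlgebra 𝒜] {ℬ : ℤ → Submodule k S} [GradedAlgebra ℬ]
  (𝒯 : ℤ → Submodule k T) [GradedAlgebra 𝒯] (ψ : T →ₐ[k] R ⊗[k] S)
  (hT : GrSeg.IsSegreRing 𝒜 ℬ 𝒯 ψ)

include hT in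
/-- The Künneth formula in the top range: no depth hypothesis, but the graded local cohomology
of `M` and `N` vanishes in degree `d` from the index `q` on. -/
theorem finrank_Hcomp_segre_top [Nontrivial R] [Nontrivial S]
    (hposR : ∀ n : ℤ, n < 0 → 𝒜 n = ⊥) (h0R : 𝒜 0 = Submodule.span k {(1 : R)})
    [Algebra.FiniteType k R]
    (hposS : ∀ n : ℤ, n < 0 → ℬ n = ⊥) (h0S : ℬ 0 = Submodule.span k {(1 : S)})
    [Algebra.FiniteType k S]
    (mR : HomogeneousIdeal 𝒜)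
    (hmR : mR.toIdeal = Ideal.span (⋃ n ∈ Set.Ioi (0 : ℤ), (𝒜 n : Set R)))
    (mS : HomogeneousIdeal ℬ)
    (hmS : mS.toIdeal = Ideal.span (⋃ n ∈ Set.Ioi (0 : ℤ), (ℬ n : Set S)))
    (mT : HomogeneousIdeal 𝒯)
    (hmT : mT.toIdeal = Ideal.span (⋃ n ∈ Set.Ioi (0 : ℤ), (𝒯 n : Set T)))
    {M : Type u} [AddCommGroup M] [Module R M] [Module k M] [IsScalarTower k R M]
    (ℳ : ℤ → AddSubgroup M) [DirectSum.Decomposition ℳ] [SetLike.GradedSMul 𝒜 ℳ]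
    [Module.Finite R M] (EM : GrLC.StarInjRes 𝒜 ℳ)
    {N : Type u} [AddCommGroup N] [Module S N] [Module k N] [IsScalarTower k S N]
    (𝒩 : ℤ → AddSubgroup N) [DirectSum.Decomposition 𝒩] [SetLike.GradedSMul ℬ 𝒩]
    [Module.Finite S N] (EN : GrLC.StarInjRes ℬ 𝒩)
    {P : Type u} [AddCommGroup P] [Module T P] [Module k P] [IsScalarTower k T P]
    (𝒬 : ℤ → AddSubgroup P) [DirectSum.Decomposition 𝒬] [SetLike.GradedSMul 𝒯 𝒬]
    (φ : P →ₗ[k] M ⊗[k] N) (hP : GrSeg.IsSegreMod ψ ℳ 𝒩 𝒬 φ) (EP : GrLC.StarInjRes 𝒯 𝒬)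
    (d : ℤ) (q : ℕ) (hM : ∀ p, q ≤ p → EM.Hcomp mR p d = ⊥)
    (hN : ∀ p, q ≤ p → EN.Hcomp mS p d = ⊥) :
    Module.finrank (GrLC.deg0 𝒯) (EP.Hcomp mT q d) =
        (Finset.range (q + 2)).sum (fun i => Module.finrank (GrLC.deg0 𝒜) (EM.Hcomp mR i d) *
          Module.finrank (GrLC.deg0 ℬ) (EN.Hcomp mS (q + 1 - i) d)) := by
  classical
  haveI : IsNoetherianRing R := Algebra.FiniteType.isNoetherianRing k R
  haveI : IsNoetherianRing S := Algebra.FiniteType.isNoetherianRing k S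
  haveI : IsNoetherianRing T :=
    Groth.Agent.S18646.result k R 𝒜 hposR h0R S ℬ hposS h0S T 𝒯 ψ hT.1 hT.2
  haveI : Nontrivial (R ⊗[k] S) :=
    Algebra.TensorProduct.nontrivial_of_algebraMap_injective_of_flat_left k R S
      (algebraMap k S).injective
  haveI : Nontrivial T := ψ.toRingHom.domain_nontrivial
  have hkR := exists_algebraMap_of_span (𝒜 := 𝒜) h0R
  have hkS := exists_algebraMap_of_span (𝒜 := ℬ) h0S
  have hkT := exists_algebraMap_segre 𝒯 ψ hT h0R h0S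
  obtain ⟨C⟩ := nonempty_cmp 𝒯 ψ hT EM.X EM.d EM.d_grHom (res_d_d ℳ EM) EM.exact_succ
    EN.X EN.d EN.d_grHom (res_d_d 𝒩 EN) EN.exact_succ ℳ EM.ε EM.ε_grHom EM.ε_injective
    EM.exact_zero 𝒩 EN.ε EN.ε_grHom EN.ε_injective EN.exact_zero 𝒬 φ hP mR hmR mS hmS mT hmT EP
    EM.starInj EN.starInj
  have h1 := rank_Hcomp_eq_rank_HW 𝒯 ψ hT EM.X EM.d EM.d_grHom (res_d_d ℳ EM)
    EN.X EN.d EN.d_grHom (res_d_d 𝒩 EN) 𝒬 mR hmR mS hmS mT hmT EP C EM.starInj EN.starInj hkT q d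
  haveI : ∀ p, Module.Finite k ((gamSub EM.X EM.d EM.d_grHom (res_d_d ℳ EM) mR d).cpx.H p) := fun p =>
    Module.rank_lt_aleph0_iff.mp (by
      rw [rank_gamSub_H ℳ EM mR hkR p d]
      exact rank_Hcomp_lt_aleph0 ℳ EM mR hposR hmR p d)
  haveI : ∀ p, Module.Finite k ((gamSub EN.X EN.d EN.d_grHom (res_d_d 𝒩 EN) mS d).cpx.H p) := fun p =>
    Module.rank_lt_aleph0_iff.mp (by
      rw [rank_gamSub_H 𝒩 EN mS hkS p d]
      exact rank_Hcomp_lt_aleph0 𝒩 EN mS hposS hmS p d)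
  haveI : Module.Finite k ((cpxE EM.X EM.d EM.d_grHom (res_d_d ℳ EM) d).H 0) :=
    Module.rank_lt_aleph0_iff.mp (by
      rw [rank_cpxE_H_zero ℳ EM hkR d]
      exact rank_comp_lt_aleph0 ℳ d)
  haveI : Module.Finite k ((cpxE EN.X EN.d EN.d_grHom (res_d_d 𝒩 EN) d).H 0) :=
    Module.rank_lt_aleph0_iff.mp (by
      rw [rank_cpxE_H_zero 𝒩 EN hkS d]
      exact rank_comp_lt_aleph0 𝒩 d)
  have e1 : ∀ i, Module.finrank k ((gamSub EM.X EM.d EM.d_grHom (res_d_d ℳ EM) mR d).cpx.H i) =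
      Module.finrank (GrLC.deg0 𝒜) (EM.Hcomp mR i d) := fun i =>
    congrArg Cardinal.toNat (rank_gamSub_H ℳ EM mR hkR i d)
  have e2 : ∀ i, Module.finrank k ((gamSub EN.X EN.d EN.d_grHom (res_d_d 𝒩 EN) mS d).cpx.H i) =
      Module.finrank (GrLC.deg0 ℬ) (EN.Hcomp mS i d) := fun i =>
    congrArg Cardinal.toNat (rank_gamSub_H 𝒩 EN mS hkS i d)
  have ha : ∀ p, q ≤ p →
      Subsingleton ((gamSub EM.X EM.d EM.d_grHom (res_d_d ℳ EM) mR d).cpx.H p) := by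
    intro p hp
    rw [← Module.finrank_zero_iff (R := k), e1 p, hM p hp]
    exact finrank_bot _ _
  have hb : ∀ p, q ≤ p →
      Subsingleton ((gamSub EN.X EN.d EN.d_grHom (res_d_d 𝒩 EN) mS d).cpx.H p) := by
    intro p hp
    rw [← Module.finrank_zero_iff (R := k), e2 p, hN p hp]
    exact finrank_bot _ _
  have h2 := finrank_HW_top (gamSub EM.X EM.d EM.d_grHom (res_d_d ℳ EM) mR d) (gamSub EN.X EN.d EN.d_grHom (res_d_d 𝒩 EN) mS d)
    (cpxE_exact EM.X EM.d EM.d_grHom (res_d_d ℳ EM) EM.exact_succ d)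
    (cpxE_exact EN.X EN.d EN.d_grHom (res_d_d 𝒩 EN) EN.exact_succ d) q ha hb
  have e0 : Module.finrank (GrLC.deg0 𝒯) (EP.Hcomp mT q d) =
      Module.finrank k (HW (gamSub EM.X EM.d EM.d_grHom (res_d_d ℳ EM) mR d) (gamSub EN.X EN.d EN.d_grHom (res_d_d 𝒩 EN) mS d) q) := congrArg Cardinal.toNat h1
  rw [e0, h2]
  exact Finset.sum_congr rfl (fun i _ => by rw [e1 i, e2 (q + 1 - i)])

include hT in
/-- the top graded local cohomology of a Segre product of rings of dimensions `r, s ≥ 2` -/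
theorem finrank_Hcomp_segre_ring_top [Nontrivial R] [Nontrivial S]
    (hposR : ∀ n : ℤ, n < 0 → 𝒜 n = ⊥) (h0R : 𝒜 0 = Submodule.span k {(1 : R)})
    [Algebra.FiniteType k R]
    (hposS : ∀ n : ℤ, n < 0 → ℬ n = ⊥) (h0S : ℬ 0 = Submodule.span k {(1 : S)})
    [Algebra.FiniteType k S]
    (mR : HomogeneousIdeal 𝒜)
    (hmR : mR.toIdeal = Ideal.span (⋃ n ∈ Set.Ioi (0 : ℤ), (𝒜 n : Set R)))
    (I : GrLC.StarInjRes 𝒜 𝒜)
    (mS : HomogeneousIdeal ℬ)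
    (hmS : mS.toIdeal = Ideal.span (⋃ n ∈ Set.Ioi (0 : ℤ), (ℬ n : Set S)))
    (J : GrLC.StarInjRes ℬ ℬ)
    (mT : HomogeneousIdeal 𝒯)
    (hmT : mT.toIdeal = Ideal.span (⋃ n ∈ Set.Ioi (0 : ℤ), (𝒯 n : Set T)))
    (IT : GrLC.StarInjRes 𝒯 𝒯) (r s : ℕ) (hr : ringKrullDim R = r) (hs : ringKrullDim S = s)
    (h2r : 2 ≤ r) (h2s : 2 ≤ s) (d : ℤ) :
    Module.finrank (GrLC.deg0 𝒯) (IT.Hcomp mT (r + s - 1) d) =
      Module.finrank (GrLC.deg0 𝒜) (I.Hcomp mR r d) *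
        Module.finrank (GrLC.deg0 ℬ) (J.Hcomp mS s d) := by
  haveI : IsNoetherianRing R := Algebra.FiniteType.isNoetherianRing k R
  haveI : IsNoetherianRing S := Algebra.FiniteType.isNoetherianRing k S
  have hvR : ∀ p, r < p → I.Hcomp mR p d = ⊥ := fun p hp =>
    Groth.Agent.Lib.Helper8.GrCMk.Hcomp_eq_bot_of_dim_lt 𝒜 mR r hr I p hp d
  have hvS : ∀ p, s < p → J.Hcomp mS p d = ⊥ := fun p hp =>
    Groth.Agent.Lib.Helper8.GrCMk.Hcomp_eq_bot_of_dim_lt ℬ mS s hs J p hp d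
  have h := finrank_Hcomp_segre_top 𝒯 ψ hT hposR h0R hposS h0S mR hmR mS hmS mT hmT
    (asGr 𝒜) (selfRes I) (asGr ℬ) (selfRes J) (asGr 𝒯) ψ.toLinearMap
    (isSegreMod_self 𝒯 ψ hT) (selfRes IT) d (r + s - 1)
    (fun p hp => hvR p (by omega)) (fun p hp => hvS p (by omega))
  refine Eq.trans h ?_
  rw [Finset.sum_eq_single r]
  · have e : r + s - 1 + 1 - r = s := by omega
    rw [e]
    rfl
  · intro i _ hir
    rcases Nat.lt_or_ge r i with h1 | h1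
    · have e1 : (selfRes I).Hcomp mR i d = ⊥ := hvR i h1
      rw [e1, finrank_bot, zero_mul]
    · have e2 : (selfRes J).Hcomp mS (r + s - 1 + 1 - i) d = ⊥ :=
        hvS (r + s - 1 + 1 - i) (by omega)
      rw [e2, finrank_bot, mul_zero]
  · intro h1
    exact absurd (Finset.mem_range.mpr (by omega)) h1

end Main

end Groth.Agent.Lib.Helper8.Seg
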