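import Groth.Agent.Lib.Helper8Seg27
import Groth.Agent.Lib.Helper8Kun9

/-!
# Multiplication by homogeneous elements on the degree parts of a complex of graded modules, and
its compatibility with the total complex of Segre products (helper8)
-/

set_option autoImplicit false
set_option linter.unusedSectionVars false
set_option linter.style.haveILetI false
universe u
open TensorProduct DirectSum

noncomputable section

namespace Groth.Agent.Lib.Helper8.Seg

open Groth.Agent.Lib.Helper29GrConv Groth.Agent.Lib.Helper29LCAcyclic Groth.Agent.Lib.Helper8.Kun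
  Groth.Agent.Lib.Helper8.Kun.Cpx Groth.Agent.Lib.Helper24SegreFin Groth.Agent.Lib.Helper24SegreFin2

variable {k : Type u} [Field k] {R S T : Type u} [CommRing R] [CommRing S] [CommRing T]
  [Algebra k R] [Algebra k S] [Algebra k T]

section One

variable {𝒜 : ℤ → Submodule k R} [GradedAlgebra 𝒜]
variable (I : ℕ → GrLC.GMod.{u} 𝒜) (dI : ∀ p, (I p).carrier →ₗ[R] (I (p + 1)).carrier)
  (hdI : ∀ p, GrLC.IsGrHom (I p).gr (I (p + 1)).gr (dI p))
  (hddI : ∀ (p : ℕ) (x : (I p).carrier), dI (p + 1) (dI p x) = 0)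
  (mR : HomogeneousIdeal 𝒜)

/-- multiplication by a homogeneous element on a piece -/
def mulPiece (X : GrLC.GMod.{u} 𝒜) {j : ℤ} (a : R) (ha : a ∈ 𝒜 j) (e : ℤ) :
    ↥(pieceK X e) →ₗ[k] ↥(pieceK X (j + e)) where
  toFun x := ⟨a • (x : X.carrier), by
    have h := SetLike.GradedSMul.smul_mem (A := 𝒜) (B := X.gr) ha (mem_pieceK.mp x.2)
    exact h⟩
  map_add' x y := Subtype.ext (smul_add a (x : X.carrier) (y : X.carrier))
  map_smul' c x := Subtype.ext (by
    show a • (c • (x : X.carrier)) = c • (a • (x : X.carrier))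
    rw [gmodK_smul, gmodK_smul, smul_comm])

theorem mulPiece_coe (X : GrLC.GMod.{u} 𝒜) {j : ℤ} (a : R) (ha : a ∈ 𝒜 j) (e : ℤ)
    (x : ↥(pieceK X e)) : ((mulPiece X a ha e x : ↥(pieceK X (j + e))) : X.carrier) =
      a • (x : X.carrier) := rfl

/-- multiplication by a homogeneous element of degree `j`, from degree `e` to degree `j + e` -/
def mulE {j : ℤ} (a : R) (ha : a ∈ 𝒜 j) (e : ℤ) :
    Hom (cpxE I dI hdI hddI e) (cpxE I dI hdI hddI (j + e)) where
  f := fun p => mulPiece (I p) a ha e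
  comm := fun p (x : ↥(pieceK (I p) e)) => Subtype.ext (by
    show a • dI p (x : (I p).carrier) = dI p (a • (x : (I p).carrier))
    rw [map_smul])

theorem mulE_mem_gamSub {j : ℤ} (a : R) (ha : a ∈ 𝒜 j) (e : ℤ) (p : ℕ)
    (x : (cpxE I dI hdI hddI e).X p) (hx : x ∈ (gamSub I dI hdI hddI mR e).U p) :
    (mulE I dI hdI hddI a ha e).f p x ∈ (gamSub I dI hdI hddI mR (j + e)).U p := by
  have h : (Subtype.val (p := fun y => y ∈ pieceK (I p) e) x : (I p).carrier) ∈
      GrLC.gam mR.toIdeal (I p).carrier := hx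
  exact (GrLC.gam mR.toIdeal (I p).carrier).smul_mem a h

end One

section Push

variable {𝒜 : ℤ → Submodule k R} [GradedAlgebra 𝒜] {ℬ : ℤ → Submodule k S} [GradedAlgebra ℬ]
  (𝒯 : ℤ → Submodule k T) [GradedAlgebra 𝒯] (ψ : T →ₐ[k] R ⊗[k] S)
  (hT : GrSeg.IsSegreRing 𝒜 ℬ 𝒯 ψ)
variable (I : ℕ → GrLC.GMod.{u} 𝒜) (dI : ∀ p, (I p).carrier →ₗ[R] (I (p + 1)).carrier)
  (hdI : ∀ p, GrLC.IsGrHom (I p).gr (I (p + 1)).gr (dI p))
  (hddI : ∀ (p : ℕ) (x : (I p).carrier), dI (p + 1) (dI p x) = 0)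
variable (J : ℕ → GrLC.GMod.{u} ℬ) (dJ : ∀ q, (J q).carrier →ₗ[S] (J (q + 1)).carrier)
  (hdJ : ∀ q, GrLC.IsGrHom (J q).gr (J (q + 1)).gr (dJ q))
  (hddJ : ∀ (q : ℕ) (x : (J q).carrier), dJ (q + 1) (dJ q x) = 0)

/-- the action of an element of `T` whose image is a pure tensor of homogeneous elements, on
the elements coming from the degree parts -/
theorem smul_pushE {t : T} {j : ℤ} {a : R} {b : S} (ha : a ∈ 𝒜 j) (hb : b ∈ ℬ j)
    (ht : ψ t = a ⊗ₜ[k] b) (n : ℕ) (e : ℤ)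
    (g : Tot (cpxE I dI hdI hddI e) (cpxE J dJ hdJ hddJ e))
    (hg : g ∈ supp (cpxE I dI hdI hddI e) (cpxE J dJ hdJ hddJ e) n) :
    t • pushE 𝒯 ψ hT I dI hdI hddI J dJ hdJ hddJ n e g hg =
      pushE 𝒯 ψ hT I dI hdI hddI J dJ hdJ hddJ n (j + e)
        (totMap (mulE I dI hdI hddI a ha e) (mulE J dJ hdJ hddJ b hb e) g)
        (totMap_mem_supp _ _ hg) := by
  apply Subtype.ext
  funext p q
  show t • toTP ψ (I p).carrier (J q).carrier (totInclE I dI hdI hddI J dJ hdJ hddJ e g p q) =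
    toTP ψ (I p).carrier (J q).carrier (totInclE I dI hdI hddI J dJ hdJ hddJ (j + e)
      (totMap (mulE I dI hdI hddI a ha e) (mulE J dJ hdJ hddJ b hb e) g) p q)
  rw [smul_eq_tpMap ψ ht]
  apply ofTP_injective
  rw [ofTP_tpMap]
  show TensorProduct.map _ _ (TensorProduct.map ((inclE I dI hdI hddI e).f p)
      ((inclE J dJ hdJ hddJ e).f q) (g p q)) =
    TensorProduct.map ((inclE I dI hdI hddI (j + e)).f p) ((inclE J dJ hdJ hddJ (j + e)).f q)
      (TensorProduct.map ((mulE I dI hdI hddI a ha e).f p) ((mulE J dJ hdJ hddJ b hb e).f q)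
        (g p q))
  rw [TensorProduct.map_map, TensorProduct.map_map]
  rfl

end Push

end Groth.Agent.Lib.Helper8.Seg
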