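import Groth.Agent.Lib.Helper8Seg28

/-!
# The comparison map from the cohomology of `W` to graded local cohomology, and its
compatibility with multiplication (helper8)
-/

set_option autoImplicit false
set_option linter.unusedSectionVars false
set_option linter.style.haveILetI false
universe u
open TensorProduct DirectSum

noncomputable section

namespace Groth.Agent.Lib.Helper8.Seg

open Groth.Agent.Lib.Helper29GrConv Groth.Agent.Lib.Helper29LCAcyclic Groth.Agent.Lib.Helper8.Kun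
  Groth.Agent.Lib.Helper8.Kun.Cpx Groth.Agent.Lib.Helper24SegreFin Groth.Agent.Lib.Helper24SegreFin2

variable {k : Type u} [Field k] {R S T : Type u} [CommRing R] [CommRing S] [CommRing T]
  [Algebra k R] [Algebra k S] [Algebra k T]

variable {𝒜 : ℤ → Submodule k R} [GradedAlgebra 𝒜] {ℬ : ℤ → Submodule k S} [GradedAlgebra ℬ]
  (𝒯 : ℤ → Submodule k T) [GradedAlgebra 𝒯] (ψ : T →ₐ[k] R ⊗[k] S)
  (hT : GrSeg.IsSegreRing 𝒜 ℬ 𝒯 ψ)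
variable (I : ℕ → GrLC.GMod.{u} 𝒜) (dI : ∀ p, (I p).carrier →ₗ[R] (I (p + 1)).carrier)
  (hdI : ∀ p, GrLC.IsGrHom (I p).gr (I (p + 1)).gr (dI p))
  (hddI : ∀ (p : ℕ) (x : (I p).carrier), dI (p + 1) (dI p x) = 0)
variable (J : ℕ → GrLC.GMod.{u} ℬ) (dJ : ∀ q, (J q).carrier →ₗ[S] (J (q + 1)).carrier)
  (hdJ : ∀ q, GrLC.IsGrHom (J q).gr (J (q + 1)).gr (dJ q))
  (hddJ : ∀ (q : ℕ) (x : (J q).carrier), dJ (q + 1) (dJ q x) = 0)
variable {P : Type u} [AddCommGroup P] [Module T P]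
  (𝒬 : ℤ → AddSubgroup P) [DirectSum.Decomposition 𝒬] [SetLike.GradedSMul 𝒯 𝒬]
variable (mR : HomogeneousIdeal 𝒜)
  (hmR : mR.toIdeal = Ideal.span (⋃ n ∈ Set.Ioi (0 : ℤ), (𝒜 n : Set R)))
  (mS : HomogeneousIdeal ℬ)
  (hmS : mS.toIdeal = Ideal.span (⋃ n ∈ Set.Ioi (0 : ℤ), (ℬ n : Set S)))
  (mT : HomogeneousIdeal 𝒯)
  (hmT : mT.toIdeal = Ideal.span (⋃ n ∈ Set.Ioi (0 : ℤ), (𝒯 n : Set T)))
variable (EP : GrLC.StarInjRes 𝒯 𝒬)
variable (C : Cmp 𝒯 ψ hT I dI hdI hddI J dJ hdJ hddJ 𝒬 mT EP)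
variable [IsNoetherianRing R] [IsNoetherianRing S] [IsNoetherianRing T]
  (hI : ∀ p, GrLC.IsStarInj 𝒜 (I p).gr) (hJ : ∀ q, GrLC.IsStarInj ℬ (J q).gr)

/-- cocycles of `W` to cocycles of the resolution -/
def lamZ (q : ℕ) (d : ℤ) :
    ↥(ZW (gamSub I dI hdI hddI mR d) (gamSub J dJ hdJ hddJ mS d) q) →ₛₗ[algebraMap k T]
      ↥(EP.cocyc mT q) :=
  LinearMap.codRestrict (EP.cocyc mT q)
    (((C.θ q).comp (pushL 𝒯 ψ hT I dI hdI hddI J dJ hdJ hddJ q d)).comp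
      (Submodule.inclusion (fun _ hw => hw.1.1) :
        ↥(ZW (gamSub I dI hdI hddI mR d) (gamSub J dJ hdJ hddJ mS d) q) →ₗ[k]
          ↥(supp (cpxE I dI hdI hddI d) (cpxE J dJ hdJ hddJ d) q)))
    (fun w => theta_pushE_mem_cocyc 𝒯 ψ hT I dI hdI hddI J dJ hdJ hddJ 𝒬 mR hmR mS hmS mT hmT EP
      C q d w.1 w.2)

theorem lamZ_coe (q : ℕ) (d : ℤ)
    (w : ↥(ZW (gamSub I dI hdI hddI mR d) (gamSub J dJ hdJ hddJ mS d) q)) :
    (lamZ 𝒯 ψ hT I dI hdI hddI J dJ hdJ hddJ 𝒬 mR hmR mS hmS mT hmT EP C q d w :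
        (EP.X q).carrier) =
      C.θ q (pushE 𝒯 ψ hT I dI hdI hddI J dJ hdJ hddJ q d w.1 w.2.1.1) := rfl

/-- the comparison map `H^q(W_d) → H^q_{T_+}(P)` -/
def lamH (q : ℕ) (d : ℤ) :
    HW (gamSub I dI hdI hddI mR d) (gamSub J dJ hdJ hddJ mS d) q →ₛₗ[algebraMap k T]
      EP.H mT q :=
  Submodule.liftQ _
    ((EP.toH mT q).comp (lamZ 𝒯 ψ hT I dI hdI hddI J dJ hdJ hddJ 𝒬 mR hmR mS hmS mT hmT EP C q d))
    (by
      intro w hw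
      rw [LinearMap.mem_ker]
      show EP.toH mT q (lamZ 𝒯 ψ hT I dI hdI hddI J dJ hdJ hddJ 𝒬 mR hmR mS hmS mT hmT EP C q d w)
        = 0
      rw [Submodule.mkQ_apply, Submodule.Quotient.mk_eq_zero]
      exact theta_pushE_mem_cobdy 𝒯 ψ hT I dI hdI hddI J dJ hdJ hddJ 𝒬 mR hmR mS hmS mT hmT EP C
        q d w.1 w.2.1.1 hw)

theorem lamH_mk (q : ℕ) (d : ℤ)
    (w : ↥(ZW (gamSub I dI hdI hddI mR d) (gamSub J dJ hdJ hddJ mS d) q)) :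
    lamH 𝒯 ψ hT I dI hdI hddI J dJ hdJ hddJ 𝒬 mR hmR mS hmS mT hmT EP C q d
        (Submodule.Quotient.mk w) =
      EP.toH mT q (lamZ 𝒯 ψ hT I dI hdI hddI J dJ hdJ hddJ 𝒬 mR hmR mS hmS mT hmT EP C q d w) :=
  rfl

theorem lamH_mem (q : ℕ) (d : ℤ)
    (x : HW (gamSub I dI hdI hddI mR d) (gamSub J dJ hdJ hddJ mS d) q) :
    lamH 𝒯 ψ hT I dI hdI hddI J dJ hdJ hddJ 𝒬 mR hmR mS hmS mT hmT EP C q d x ∈
      EP.Hcomp mT q d := by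
  obtain ⟨w, rfl⟩ := Submodule.Quotient.mk_surjective _ x
  exact ⟨lamZ 𝒯 ψ hT I dI hdI hddI J dJ hdJ hddJ 𝒬 mR hmR mS hmS mT hmT EP C q d w,
    C.hom q d _ (pushE_mem 𝒯 ψ hT I dI hdI hddI J dJ hdJ hddJ q d w.1 w.2.1.1), rfl⟩

include hI hJ in
theorem lamH_injective (q : ℕ) (d : ℤ) :
    Function.Injective
      (lamH 𝒯 ψ hT I dI hdI hddI J dJ hdJ hddJ 𝒬 mR hmR mS hmS mT hmT EP C q d) := by
  intro x y hxy
  have h0 : lamH 𝒯 ψ hT I dI hdI hddI J dJ hdJ hddJ 𝒬 mR hmR mS hmS mT hmT EP C q d (x - y) = 0 := by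
    rw [map_sub, hxy, sub_self]
  obtain ⟨w, hw⟩ := Submodule.Quotient.mk_surjective _ (x - y)
  rw [← hw, lamH_mk, Submodule.mkQ_apply, Submodule.Quotient.mk_eq_zero] at h0
  have h1 : (Submodule.Quotient.mk w :
      HW (gamSub I dI hdI hddI mR d) (gamSub J dJ hdJ hddJ mS d) q) = 0 := by
    rw [Submodule.Quotient.mk_eq_zero]
    exact mem_BW_of_theta_pushE_mem_cobdy 𝒯 ψ hT I dI hdI hddI J dJ hdJ hddJ 𝒬 mR hmR mS hmS mT hmT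
      EP C hI hJ q d w.1 w.2 h0
  rw [hw] at h1
  exact sub_eq_zero.mp h1

include hI hJ in
theorem lamH_surjective (q : ℕ) (d : ℤ) (y : EP.H mT q) (hy : y ∈ EP.Hcomp mT q d) :
    ∃ x, lamH 𝒯 ψ hT I dI hdI hddI J dJ hdJ hddJ 𝒬 mR hmR mS hmS mT hmT EP C q d x = y := by
  obtain ⟨z, hzd, rfl⟩ := hy
  obtain ⟨w, hw, hwz⟩ := exists_ZW_of_mem_cocyc 𝒯 ψ hT I dI hdI hddI J dJ hdJ hddJ 𝒬 mR hmR mS hmS
    mT hmT EP C hI hJ q d z.1 z.2 hzd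
  refine ⟨Submodule.Quotient.mk ⟨w, hw⟩, ?_⟩
  rw [lamH_mk, Submodule.mkQ_apply, Submodule.mkQ_apply, Submodule.Quotient.eq]
  have h1 : C.θ q (pushE 𝒯 ψ hT I dI hdI hddI J dJ hdJ hddJ q d w hw.1.1) -
      (z : (EP.X q).carrier) ∈ EP.cobdy mT q := by
    rw [← neg_sub]; exact neg_mem hwz
  exact h1

/-- the comparison map is compatible with multiplication by elements of `T` whose image is a
pure tensor of homogeneous elements -/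
theorem smul_lamH {t : T} {j : ℤ} {a : R} {b : S} (ha : a ∈ 𝒜 j) (hb : b ∈ ℬ j)
    (ht : ψ t = a ⊗ₜ[k] b) (q : ℕ) (d : ℤ)
    (x : HW (gamSub I dI hdI hddI mR d) (gamSub J dJ hdJ hddJ mS d) q) :
    t • lamH 𝒯 ψ hT I dI hdI hddI J dJ hdJ hddJ 𝒬 mR hmR mS hmS mT hmT EP C q d x =
      lamH 𝒯 ψ hT I dI hdI hddI J dJ hdJ hddJ 𝒬 mR hmR mS hmS mT hmT EP C q (j + d)
        (HWmap (gamSub I dI hdI hddI mR d) (gamSub J dJ hdJ hddJ mS d)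
          (gamSub I dI hdI hddI mR (j + d)) (gamSub J dJ hdJ hddJ mS (j + d))
          (mulE I dI hdI hddI a ha d) (mulE J dJ hdJ hddJ b hb d)
          (mulE_mem_gamSub I dI hdI hddI mR a ha d) (mulE_mem_gamSub J dJ hdJ hddJ mS b hb d)
          q x) := by
  obtain ⟨w, rfl⟩ := Submodule.Quotient.mk_surjective _ x
  rw [lamH_mk, HWmap_mk, lamH_mk, ← map_smul]
  congr 1
  apply Subtype.ext
  rw [Submodule.coe_smul, lamZ_coe, lamZ_coe, ← map_smul,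
    smul_pushE 𝒯 ψ hT I dI hdI hddI J dJ hdJ hddJ ha hb ht]

end Groth.Agent.Lib.Helper8.Seg
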