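import Groth.Agent.Lib.Helper8LocDual
import Groth.Agent.Lib.Helper29Cone

/-!
# Abstract vanishing lemmas for local cohomology (helper8)

Vanishing of `H^j_I(Z)` from a decomposition of the identity of `Z` into endomorphisms that factor
through acyclic modules, or are idempotents divisible by an element of `I`.
-/

set_option autoImplicit false
set_option linter.unusedSectionVars false
universe u
open CategoryTheory

noncomputable section

namespace Groth.Agent.Lib.Helper8.Seg

open Groth.Agent.Lib.Helper8.LC Groth.Agent.Lib.Helper29LCAcyclic Groth.Agent.Lib.Helper8.LocDual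

variable {T : Type u} [CommRing T] (I : Ideal T)

section Factor

variable {Z : Type u} [AddCommGroup Z] [Module T Z]

/-- the map induced on local cohomology by a linear map -/
def LCmap (j : ℕ) {Z Z' : Type u} [AddCommGroup Z] [Module T Z] [AddCommGroup Z'] [Module T Z']
    (f : Z →ₗ[T] Z') : LC I j Z →ₗ[T] LC I j Z' :=
  ((localCohomology I j).map (ModuleCat.ofHom f)).hom

theorem LCmap_comp (j : ℕ) {Z Z' Z'' : Type u} [AddCommGroup Z] [Module T Z] [AddCommGroup Z']
    [Module T Z'] [AddCommGroup Z''] [Module T Z''] (f : Z →ₗ[T] Z') (g : Z' →ₗ[T] Z'')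
    (x : LC I j Z) : LCmap I j (g ∘ₗ f) x = LCmap I j g (LCmap I j f x) := by
  have h : ModuleCat.ofHom (g ∘ₗ f) = ModuleCat.ofHom f ≫ ModuleCat.ofHom g := rfl
  unfold LCmap
  rw [h]
  exact H_map_comp I j (ModuleCat.ofHom f) (ModuleCat.ofHom g) x

theorem LCmap_id (j : ℕ) (x : LC I j Z) : LCmap I j (LinearMap.id : Z →ₗ[T] Z) x = x := by
  have h : ModuleCat.ofHom (LinearMap.id : Z →ₗ[T] Z) = 𝟙 (ModuleCat.of T Z) := rfl
  unfold LCmap
  rw [h, CategoryTheory.Functor.map_id]
  rfl

theorem LCmap_sum (j : ℕ) {Z' : Type u} [AddCommGroup Z'] [Module T Z'] {ι : Type}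
    (s : Finset ι) (f : ι → (Z →ₗ[T] Z')) (x : LC I j Z) :
    LCmap I j (∑ i ∈ s, f i) x = ∑ i ∈ s, LCmap I j (f i) x := by
  have h : ModuleCat.ofHom (∑ i ∈ s, f i) = ∑ i ∈ s, ModuleCat.ofHom (f i) := by
    classical
    induction s using Finset.induction_on with
    | empty => rw [Finset.sum_empty, Finset.sum_empty]; rfl
    | insert a s ha ih => rw [Finset.sum_insert ha, Finset.sum_insert ha, ← ih]; rfl
  unfold LCmap
  rw [h]
  exact H_map_sum I j s (fun i => ModuleCat.ofHom (f i)) x

theorem LCmap_zero (j : ℕ) {Z' : Type u} [AddCommGroup Z'] [Module T Z'] (x : LC I j Z) :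
    LCmap I j (0 : Z →ₗ[T] Z') x = 0 := by
  have h := LCmap_sum I j (∅ : Finset Unit) (fun _ => (0 : Z →ₗ[T] Z')) x
  rwa [Finset.sum_empty, Finset.sum_empty] at h

theorem LCmap_add (j : ℕ) {Z' : Type u} [AddCommGroup Z'] [Module T Z'] (f g : Z →ₗ[T] Z')
    (x : LC I j Z) : LCmap I j (f + g) x = LCmap I j f x + LCmap I j g x := by
  have h := LCmap_sum I j (Finset.univ : Finset Bool) (fun b => if b then f else g) x
  rw [Fintype.sum_bool, Fintype.sum_bool] at h
  exact h

theorem LCmap_lsmul (j : ℕ) (h : T) (x : LC I j Z) :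
    LCmap I j (LinearMap.lsmul T Z h) x = h • x :=
  H_map_lsmul I j Z h x

/-- If the identity of `Z` is a finite sum of endomorphisms each of which kills `H^j_I(Z)`, then
`H^j_I(Z) = 0`. -/
theorem LC_eq_zero_of_sum (j : ℕ) {ι : Type} (s : Finset ι) (u : ι → (Z →ₗ[T] Z))
    (hsum : ∑ i ∈ s, u i = LinearMap.id)
    (hu : ∀ i ∈ s, ∀ x : LC I j Z, LCmap I j (u i) x = 0) (x : LC I j Z) : x = 0 := by
  rw [← LCmap_id I j x, ← hsum, LCmap_sum]
  exact Finset.sum_eq_zero fun i hi => hu i hi x

/-- An endomorphism factoring through a module with vanishing `H^j_I` kills `H^j_I`. -/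
theorem LCmap_eq_zero_of_factor (j : ℕ) {Y : Type u} [AddCommGroup Y] [Module T Y]
    (b : Z →ₗ[T] Y) (a : Y →ₗ[T] Z) (hY : ∀ y : LC I j Y, y = 0) (x : LC I j Z) :
    LCmap I j (a ∘ₗ b) x = 0 := by
  rw [LCmap_comp, hY (LCmap I j b x), map_zero]

/-- An idempotent endomorphism of the form `h • V` with `h ∈ I` kills `H^j_I`. -/
theorem LCmap_eq_zero_of_idem (j : ℕ) (u V : Z →ₗ[T] Z) (h : T) (hh : h ∈ I)
    (huV : ∀ z, u z = h • V z) (hidem : ∀ z, u (u z) = u z) (x : LC I j Z) :
    LCmap I j u x = 0 := by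
  obtain ⟨n, hn⟩ := isPowerTorsion_H I j (ModuleCat.of T Z) x
  have h1 : h ^ n • x = 0 := hn _ (Ideal.pow_mem_pow hh n)
  clear hn
  have hcomm : u ∘ₗ V = V ∘ₗ u := by
    apply LinearMap.ext
    intro z
    rw [LinearMap.comp_apply, LinearMap.comp_apply, huV, huV, map_smul]
  have hu1 : u = V ∘ₗ LinearMap.lsmul T Z h := by
    apply LinearMap.ext
    intro z
    rw [LinearMap.comp_apply, LinearMap.lsmul_apply, map_smul, huV]
  have hu2 : u ∘ₗ u = u := LinearMap.ext hidem
  induction n generalizing x with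
  | zero =>
    rw [pow_zero, one_smul] at h1
    rw [h1, map_zero]
  | succ n ih =>
    have h2 : h ^ n • (h • x) = 0 := by rw [← mul_smul, ← pow_succ]; exact h1
    have h3 := ih (h • x) h2
    have h4 : LCmap I j u x = LCmap I j V (h • x) := by
      conv_lhs => rw [hu1]
      rw [LCmap_comp, LCmap_lsmul]
    calc LCmap I j u x = LCmap I j (u ∘ₗ u) x := by rw [hu2]
      _ = LCmap I j u (LCmap I j u x) := LCmap_comp I j u u x
      _ = LCmap I j u (LCmap I j V (h • x)) := by rw [h4]
      _ = LCmap I j (u ∘ₗ V) (h • x) := (LCmap_comp I j V u (h • x)).symm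
      _ = LCmap I j (V ∘ₗ u) (h • x) := by rw [hcomm]
      _ = LCmap I j V (LCmap I j u (h • x)) := LCmap_comp I j u V (h • x)
      _ = 0 := by rw [h3, map_zero]

/-- For an idempotent of the form `h • V` with `h ∈ I`, torsion elements are killed. -/
theorem idem_eq_zero_of_mem_gam (u V : Z →ₗ[T] Z) (h : T) (hh : h ∈ I)
    (huV : ∀ z, u z = h • V z) (hidem : ∀ z, u (u z) = u z) (z : Z)
    (hz : z ∈ GrLC.gam I Z) : u z = 0 := by
  obtain ⟨n, hn⟩ := hz
  have h1 : h ^ n • z = 0 := hn _ (Ideal.pow_mem_pow hh n)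
  clear hn
  induction n generalizing z with
  | zero =>
    rw [pow_zero, one_smul] at h1
    rw [h1, map_zero]
  | succ n ih =>
    have h2 : h ^ n • (h • z) = 0 := by rw [← mul_smul, ← pow_succ]; exact h1
    have h3 := ih (h • z) h2
    calc u z = u (u z) := (hidem z).symm
      _ = u (h • V z) := by rw [huV z]
      _ = V (u (h • z)) := by rw [map_smul, huV (V z), huV (h • z), map_smul, map_smul, map_smul]
      _ = 0 := by rw [h3, map_zero]

end Factor

section Torsion

variable [IsNoetherianRing T] {Z : Type u} [AddCommGroup Z] [Module T Z]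

/-- higher local cohomology of a torsion module vanishes -/
theorem LC_succ_eq_zero_of_torsion (hZ : ∀ z : Z, z ∈ GrLC.gam I Z) (j : ℕ)
    (x : LC I (j + 1) Z) : x = 0 := by
  have hZ' : DRing.torsionSub I Z = ⊤ := by
    rw [eq_top_iff]
    intro z _
    exact hZ z
  exact H_succ_eq_zero_of_torsion I j Z hZ' x

end Torsion

end Groth.Agent.Lib.Helper8.Seg
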