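import Groth.Agent.Lib.Helper8Seg29

/-!
# The degree parts of `Γ_m` of a *injective resolution compute the pieces of graded local
cohomology, compatibly with multiplication (helper8)
-/

set_option autoImplicit false
set_option linter.unusedSectionVars false
set_option linter.style.haveILetI false
universe u
open TensorProduct DirectSum

noncomputable section

namespace Groth.Agent.Lib.Helper8.Seg

open Groth.Agent.Lib.Helper29GrConv Groth.Agent.Lib.Helper29LCAcyclic Groth.Agent.Lib.Helper8.Kun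
  Groth.Agent.Lib.Helper8.Kun.Cpx Groth.Agent.Lib.Helper24SegreFin Groth.Agent.Lib.Helper24SegreFin2

variable {k : Type u} [Field k] {R : Type u} [CommRing R] [Algebra k R]
variable {𝒜 : ℤ → Submodule k R} [GradedAlgebra 𝒜]
variable {M : Type u} [AddCommGroup M] [Module R M] [Module k M] [IsScalarTower k R M]
  (ℳ : ℤ → AddSubgroup M) [DirectSum.Decomposition ℳ] [SetLike.GradedSMul 𝒜 ℳ]
  (EM : GrLC.StarInjRes 𝒜 ℳ) (mR : HomogeneousIdeal 𝒜)

/-- cocycles of the degree `d` part of `Γ_m(E)` as cocycles of `Γ_m(E)` -/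
def iotaZ (i : ℕ) (d : ℤ) :
    ↥((gamSub EM.X EM.d EM.d_grHom (res_d_d ℳ EM) mR d).cpx.cyc i) →ₛₗ[algebraMap k R]
      ↥(EM.cocyc mR i) :=
  LinearMap.codRestrict (EM.cocyc mR i)
    ({ toFun := fun z => (z.1.1.1 : (EM.X i).carrier)
       map_add' := fun _ _ => rfl
       map_smul' := fun _ _ => rfl } :
      ↥((gamSub EM.X EM.d EM.d_grHom (res_d_d ℳ EM) mR d).cpx.cyc i) →ₛₗ[algebraMap k R]
        (EM.X i).carrier)
    (by
      intro z
      refine ⟨z.1.2, ?_⟩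
      have h1 : (gamSub EM.X EM.d EM.d_grHom (res_d_d ℳ EM) mR d).cpx.d i z.1 = 0 := z.2
      have h2 : (((gamSub EM.X EM.d EM.d_grHom (res_d_d ℳ EM) mR d).cpx.d i z.1).1.1 :
          (EM.X (i + 1)).carrier) = 0 := by
        rw [h1]; rfl
      exact h2)

theorem iotaZ_coe (i : ℕ) (d : ℤ)
    (z : ↥((gamSub EM.X EM.d EM.d_grHom (res_d_d ℳ EM) mR d).cpx.cyc i)) :
    (iotaZ ℳ EM mR i d z : (EM.X i).carrier) = (z.1.1.1 : (EM.X i).carrier) := rfl

/-- the comparison map `H^i(Γ_m(E)_d) → H^i_m(M)` -/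
def iotaH (i : ℕ) (d : ℤ) :
    (gamSub EM.X EM.d EM.d_grHom (res_d_d ℳ EM) mR d).cpx.H i →ₛₗ[algebraMap k R] EM.H mR i :=
  Submodule.liftQ _ ((EM.toH mR i).comp (iotaZ ℳ EM mR i d))
    (by
      intro z hz
      rw [LinearMap.mem_ker]
      show EM.toH mR i (iotaZ ℳ EM mR i d z) = 0
      rw [Submodule.mkQ_apply, Submodule.Quotient.mk_eq_zero]
      exact coe_mem_cobdy_of_mem_bdy ℳ EM mR i d z.1 hz)

theorem iotaH_mk (i : ℕ) (d : ℤ)
    (z : ↥((gamSub EM.X EM.d EM.d_grHom (res_d_d ℳ EM) mR d).cpx.cyc i)) :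
    iotaH ℳ EM mR i d (Submodule.Quotient.mk z) = EM.toH mR i (iotaZ ℳ EM mR i d z) := rfl

theorem iotaH_mem (i : ℕ) (d : ℤ)
    (x : (gamSub EM.X EM.d EM.d_grHom (res_d_d ℳ EM) mR d).cpx.H i) :
    iotaH ℳ EM mR i d x ∈ EM.Hcomp mR i d := by
  obtain ⟨z, rfl⟩ := Submodule.Quotient.mk_surjective _ x
  exact ⟨iotaZ ℳ EM mR i d z, z.1.1.2, rfl⟩

theorem iotaH_injective (i : ℕ) (d : ℤ) : Function.Injective (iotaH ℳ EM mR i d) := by
  intro x y hxy
  have h0 : iotaH ℳ EM mR i d (x - y) = 0 := by rw [map_sub, hxy, sub_self]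
  obtain ⟨z, hz⟩ := Submodule.Quotient.mk_surjective _ (x - y)
  rw [← hz, iotaH_mk, Submodule.mkQ_apply, Submodule.Quotient.mk_eq_zero] at h0
  have h1 : (Submodule.Quotient.mk z :
      (gamSub EM.X EM.d EM.d_grHom (res_d_d ℳ EM) mR d).cpx.H i) = 0 := by
    rw [Submodule.Quotient.mk_eq_zero]
    exact mem_bdy_of_coe_mem_cobdy ℳ EM mR i d z.1 h0
  rw [hz] at h1
  exact sub_eq_zero.mp h1

theorem iotaH_surjective (i : ℕ) (d : ℤ) (y : EM.H mR i) (hy : y ∈ EM.Hcomp mR i d) :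
    ∃ x, iotaH ℳ EM mR i d x = y := by
  obtain ⟨z, hzd, rfl⟩ := hy
  have hz2 : EM.d i (z : (EM.X i).carrier) = 0 := z.2.2
  exact ⟨Submodule.Quotient.mk ⟨⟨⟨(z : (EM.X i).carrier), hzd⟩, z.2.1⟩,
    Subtype.ext (Subtype.ext hz2)⟩, rfl⟩

/-- compatibility with multiplication by homogeneous elements -/
theorem smul_iotaH {j : ℤ} {a : R} (ha : a ∈ 𝒜 j) (i : ℕ) (d : ℤ)
    (x : (gamSub EM.X EM.d EM.d_grHom (res_d_d ℳ EM) mR d).cpx.H i) :
    a • iotaH ℳ EM mR i d x =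
      iotaH ℳ EM mR i (j + d)
        (Hmap (resHom (gamSub EM.X EM.d EM.d_grHom (res_d_d ℳ EM) mR d)
          (gamSub EM.X EM.d EM.d_grHom (res_d_d ℳ EM) mR (j + d))
          (mulE EM.X EM.d EM.d_grHom (res_d_d ℳ EM) a ha d)
          (mulE_mem_gamSub EM.X EM.d EM.d_grHom (res_d_d ℳ EM) mR a ha d)) i x) := by
  obtain ⟨z, rfl⟩ := Submodule.Quotient.mk_surjective _ x
  rw [iotaH_mk, Hmap_mk, iotaH_mk, ← map_smul]
  rfl

end Groth.Agent.Lib.Helper8.Seg
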