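import Groth.Agent.Lib.Helper8Seg30
import Groth.Agent.Lib.Helper8Kun10

/-!
# The cross product into the top graded local cohomology of a Segre product (helper8)
-/

set_option autoImplicit false
set_option linter.unusedSectionVars false
set_option linter.style.haveILetI false
universe u
open TensorProduct DirectSum Cardinal

noncomputable section

namespace Groth.Agent.Lib.Helper8.Seg

open Groth.Agent.Lib.Helper29GrConv Groth.Agent.Lib.Helper29LCAcyclic Groth.Agent.Lib.Helper8.Kun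
  Groth.Agent.Lib.Helper8.Kun.Cpx Groth.Agent.Lib.Helper24SegreFin Groth.Agent.Lib.Helper24SegreFin2

section Abbrev

variable {k : Type u} [Field k] {R : Type u} [CommRing R] [Algebra k R]
variable {𝒜 : ℤ → Submodule k R} [GradedAlgebra 𝒜]
variable {M : Type u} [AddCommGroup M] [Module R M] [Module k M] [IsScalarTower k R M]
  (ℳ : ℤ → AddSubgroup M) [DirectSum.Decomposition ℳ] [SetLike.GradedSMul 𝒜 ℳ]
  (EM : GrLC.StarInjRes 𝒜 ℳ) (mR : HomogeneousIdeal 𝒜)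

/-- the degree `d` part of `Γ_m` of the resolution -/
abbrev gamRes (d : ℤ) : SubCpx (cpxE EM.X EM.d EM.d_grHom (res_d_d ℳ EM) d) :=
  gamSub EM.X EM.d EM.d_grHom (res_d_d ℳ EM) mR d

/-- multiplication by a homogeneous element on the cohomology of the degree parts -/
abbrev mulH {j : ℤ} (a : R) (ha : a ∈ 𝒜 j) (i : ℕ) (d : ℤ) :
    (gamRes ℳ EM mR d).cpx.H i →ₗ[k] (gamRes ℳ EM mR (j + d)).cpx.H i :=
  Hmap (resHom (gamRes ℳ EM mR d) (gamRes ℳ EM mR (j + d))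
    (mulE EM.X EM.d EM.d_grHom (res_d_d ℳ EM) a ha d)
    (mulE_mem_gamSub EM.X EM.d EM.d_grHom (res_d_d ℳ EM) mR a ha d)) i

theorem smul_iotaH' {j : ℤ} {a : R} (ha : a ∈ 𝒜 j) (i : ℕ) (d : ℤ)
    (x : (gamRes ℳ EM mR d).cpx.H i) :
    a • iotaH ℳ EM mR i d x = iotaH ℳ EM mR i (j + d) (mulH ℳ EM mR a ha i d x) :=
  smul_iotaH ℳ EM mR ha i d x

end Abbrev

section Main

variable {k : Type u} [Field k] {R S T : Type u} [CommRing R] [CommRing S] [CommRing T]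
  [Algebra k R] [Algebra k S] [Algebra k T]
variable {𝒜 : ℤ → Submodule k R} [GradedAlgebra 𝒜] {ℬ : ℤ → Submodule k S} [GradedAlgebra ℬ]
  (𝒯 : ℤ → Submodule k T) [GradedAlgebra 𝒯] (ψ : T →ₐ[k] R ⊗[k] S)
  (hT : GrSeg.IsSegreRing 𝒜 ℬ 𝒯 ψ)

include hT in
/-- The cross product `H^p_m(M)_d ⊗ H^{q+1}_n(N)_d → H^{p+q}_{T_+}(M # N)_d`, an isomorphism
compatible with multiplication, in the top range. -/
theorem exists_cross [Nontrivial R] [Nontrivial S]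
    (hposR : ∀ n : ℤ, n < 0 → 𝒜 n = ⊥) (h0R : 𝒜 0 = Submodule.span k {(1 : R)})
    [Algebra.FiniteType k R]
    (hposS : ∀ n : ℤ, n < 0 → ℬ n = ⊥) (h0S : ℬ 0 = Submodule.span k {(1 : S)})
    [Algebra.FiniteType k S]
    (mR : HomogeneousIdeal 𝒜)
    (hmR : mR.toIdeal = Ideal.span (⋃ n ∈ Set.Ioi (0 : ℤ), (𝒜 n : Set R)))
    (mS : HomogeneousIdeal ℬ)
    (hmS : mS.toIdeal = Ideal.span (⋃ n ∈ Set.Ioi (0 : ℤ), (ℬ n : Set S)))
    (mT : HomogeneousIdeal 𝒯)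
    (hmT : mT.toIdeal = Ideal.span (⋃ n ∈ Set.Ioi (0 : ℤ), (𝒯 n : Set T)))
    {M : Type u} [AddCommGroup M] [Module R M] [Module k M] [IsScalarTower k R M]
    (ℳ : ℤ → AddSubgroup M) [DirectSum.Decomposition ℳ] [SetLike.GradedSMul 𝒜 ℳ]
    [Module.Finite R M] (EM : GrLC.StarInjRes 𝒜 ℳ)
    {N : Type u} [AddCommGroup N] [Module S N] [Module k N] [IsScalarTower k S N]
    (𝒩 : ℤ → AddSubgroup N) [DirectSum.Decomposition 𝒩] [SetLike.GradedSMul ℬ 𝒩]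
    [Module.Finite S N] (EN : GrLC.StarInjRes ℬ 𝒩)
    {P : Type u} [AddCommGroup P] [Module T P] [Module k P] [IsScalarTower k T P]
    (𝒬 : ℤ → AddSubgroup P) [DirectSum.Decomposition 𝒬] [SetLike.GradedSMul 𝒯 𝒬]
    (φ : P →ₗ[k] M ⊗[k] N) (hP : GrSeg.IsSegreMod ψ ℳ 𝒩 𝒬 φ) (EP : GrLC.StarInjRes 𝒯 𝒬)
    (p q : ℕ)
    (hM : ∀ (d : ℤ) (i : ℕ), p + q ≤ i → EM.Hcomp mR i d = ⊥)
    (hN : ∀ (d : ℤ) (i : ℕ), p + q ≤ i → EN.Hcomp mS i d = ⊥)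
    (hone : ∀ (d : ℤ) (i : ℕ), i ≤ p + (q + 1) → i ≠ p →
      EM.Hcomp mR i d = ⊥ ∨ EN.Hcomp mS (p + (q + 1) - i) d = ⊥) :
    ∃ Ξ : ∀ d : ℤ, ((gamRes ℳ EM mR d).cpx.H p ⊗[k] (gamRes 𝒩 EN mS d).cpx.H (q + 1))
        →ₛₗ[algebraMap k T] EP.H mT (p + q),
      (∀ d, Function.Injective (Ξ d)) ∧
      (∀ d ζ, Ξ d ζ ∈ EP.Hcomp mT (p + q) d) ∧
      (∀ d y, y ∈ EP.Hcomp mT (p + q) d → ∃ ζ, Ξ d ζ = y) ∧
      (∀ (t : T) (j : ℤ) (a : R) (b : S) (ha : a ∈ 𝒜 j) (hb : b ∈ ℬ j), ψ t = a ⊗ₜ[k] b →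
        ∀ d ζ, t • Ξ d ζ = Ξ (j + d)
          (TensorProduct.map (mulH ℳ EM mR a ha p d) (mulH 𝒩 EN mS b hb (q + 1) d) ζ)) := by
  classical
  haveI : IsNoetherianRing R := Algebra.FiniteType.isNoetherianRing k R
  haveI : IsNoetherianRing S := Algebra.FiniteType.isNoetherianRing k S
  haveI : IsNoetherianRing T :=
    Groth.Agent.S18646.result k R 𝒜 hposR h0R S ℬ hposS h0S T 𝒯 ψ hT.1 hT.2
  haveI : Nontrivial (R ⊗[k] S) :=
    Algebra.TensorProduct.nontrivial_of_algebraMap_injective_of_flat_left k R S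
      (algebraMap k S).injective
  haveI : Nontrivial T := ψ.toRingHom.domain_nontrivial
  have hkR := exists_algebraMap_of_span (𝒜 := 𝒜) h0R
  have hkS := exists_algebraMap_of_span (𝒜 := ℬ) h0S
  obtain ⟨C⟩ := nonempty_cmp 𝒯 ψ hT EM.X EM.d EM.d_grHom (res_d_d ℳ EM) EM.exact_succ
    EN.X EN.d EN.d_grHom (res_d_d 𝒩 EN) EN.exact_succ ℳ EM.ε EM.ε_grHom EM.ε_injective
    EM.exact_zero 𝒩 EN.ε EN.ε_grHom EN.ε_injective EN.exact_zero 𝒬 φ hP mR hmR mS hmS mT hmT EP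
    EM.starInj EN.starInj
  haveI hfinM : ∀ d i, Module.Finite k ((gamRes ℳ EM mR d).cpx.H i) := fun d i =>
    Module.rank_lt_aleph0_iff.mp (by
      rw [rank_gamSub_H ℳ EM mR hkR i d]
      exact rank_Hcomp_lt_aleph0 ℳ EM mR hposR hmR i d)
  haveI hfinN : ∀ d i, Module.Finite k ((gamRes 𝒩 EN mS d).cpx.H i) := fun d i =>
    Module.rank_lt_aleph0_iff.mp (by
      rw [rank_gamSub_H 𝒩 EN mS hkS i d]
      exact rank_Hcomp_lt_aleph0 𝒩 EN mS hposS hmS i d)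
  haveI : ∀ d, Module.Finite k ((cpxE EM.X EM.d EM.d_grHom (res_d_d ℳ EM) d).H 0) := fun d =>
    Module.rank_lt_aleph0_iff.mp (by
      rw [rank_cpxE_H_zero ℳ EM hkR d]
      exact rank_comp_lt_aleph0 ℳ d)
  haveI : ∀ d, Module.Finite k ((cpxE EN.X EN.d EN.d_grHom (res_d_d 𝒩 EN) d).H 0) := fun d =>
    Module.rank_lt_aleph0_iff.mp (by
      rw [rank_cpxE_H_zero 𝒩 EN hkS d]
      exact rank_comp_lt_aleph0 𝒩 d)
  have e1 : ∀ d i, Module.finrank k ((gamRes ℳ EM mR d).cpx.H i) =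
      Module.finrank (GrLC.deg0 𝒜) (EM.Hcomp mR i d) := fun d i =>
    congrArg Cardinal.toNat (rank_gamSub_H ℳ EM mR hkR i d)
  have e2 : ∀ d i, Module.finrank k ((gamRes 𝒩 EN mS d).cpx.H i) =
      Module.finrank (GrLC.deg0 ℬ) (EN.Hcomp mS i d) := fun d i =>
    congrArg Cardinal.toNat (rank_gamSub_H 𝒩 EN mS hkS i d)
  have sM : ∀ d i, EM.Hcomp mR i d = ⊥ → Subsingleton ((gamRes ℳ EM mR d).cpx.H i) := by
    intro d i h
    rw [← Module.finrank_zero_iff (R := k), e1 d i, h]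
    exact finrank_bot _ _
  have sN : ∀ d i, EN.Hcomp mS i d = ⊥ → Subsingleton ((gamRes 𝒩 EN mS d).cpx.H i) := by
    intro d i h
    rw [← Module.finrank_zero_iff (R := k), e2 d i, h]
    exact finrank_bot _ _
  -- the connecting isomorphisms
  have hδex : ∀ d : ℤ, ∃ δ : HW (gamRes ℳ EM mR d) (gamRes 𝒩 EN mS d) (p + q) ≃ₗ[k]
      Htot (gamRes ℳ EM mR d).cpx (gamRes 𝒩 EN mS d).cpx (p + q + 1),
      IsDelta (gamRes ℳ EM mR d) (gamRes 𝒩 EN mS d) (p + q) δ := fun d =>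
    exists_deltaEquiv_top (gamRes ℳ EM mR d) (gamRes 𝒩 EN mS d)
      (cpxE_exact EM.X EM.d EM.d_grHom (res_d_d ℳ EM) EM.exact_succ d)
      (cpxE_exact EN.X EN.d EN.d_grHom (res_d_d 𝒩 EN) EN.exact_succ d) (p + q)
      (fun i hi => sM d i (hM d i hi)) (fun i hi => sN d i (hN d i hi))
  choose δ hδ using hδex
  -- the cross products
  have hcross : ∀ d : ℤ, Function.Bijective
      (cross (C := (gamRes ℳ EM mR d).cpx) (D := (gamRes 𝒩 EN mS d).cpx) p (q + 1)) := fun d =>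
    cross_bijective p (q + 1) (fun i hi hip => by
      rcases hone d i hi hip with h | h
      · exact Or.inl (sM d i h)
      · exact Or.inr (sN d _ h))
  -- the composite
  let Ξ : ∀ d : ℤ, ((gamRes ℳ EM mR d).cpx.H p ⊗[k] (gamRes 𝒩 EN mS d).cpx.H (q + 1))
      →ₛₗ[algebraMap k T] EP.H mT (p + q) := fun d =>
    (lamH 𝒯 ψ hT EM.X EM.d EM.d_grHom (res_d_d ℳ EM) EN.X EN.d EN.d_grHom (res_d_d 𝒩 EN) 𝒬
      mR hmR mS hmS mT hmT EP C (p + q) d).comp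
      (((δ d).symm.toLinearMap).comp
        (cross (C := (gamRes ℳ EM mR d).cpx) (D := (gamRes 𝒩 EN mS d).cpx) p (q + 1)))
  have hΞ : ∀ d ζ, Ξ d ζ = lamH 𝒯 ψ hT EM.X EM.d EM.d_grHom (res_d_d ℳ EM) EN.X EN.d EN.d_grHom
      (res_d_d 𝒩 EN) 𝒬 mR hmR mS hmS mT hmT EP C (p + q) d ((δ d).symm (cross p (q + 1) ζ)) :=
    fun d ζ => rfl
  refine ⟨Ξ, ?_, ?_, ?_, ?_⟩
  · intro d ζ ζ' h
    rw [hΞ, hΞ] at h
    have h1 := lamH_injective 𝒯 ψ hT EM.X EM.d EM.d_grHom (res_d_d ℳ EM) EN.X EN.d EN.d_grHom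
      (res_d_d 𝒩 EN) 𝒬 mR hmR mS hmS mT hmT EP C EM.starInj EN.starInj (p + q) d h
    exact (hcross d).1 ((δ d).symm.injective h1)
  · intro d ζ
    rw [hΞ]
    exact lamH_mem 𝒯 ψ hT EM.X EM.d EM.d_grHom (res_d_d ℳ EM) EN.X EN.d EN.d_grHom
      (res_d_d 𝒩 EN) 𝒬 mR hmR mS hmS mT hmT EP C (p + q) d _
  · intro d y hy
    obtain ⟨x, hx⟩ := lamH_surjective 𝒯 ψ hT EM.X EM.d EM.d_grHom (res_d_d ℳ EM) EN.X EN.d
      EN.d_grHom (res_d_d 𝒩 EN) 𝒬 mR hmR mS hmS mT hmT EP C EM.starInj EN.starInj (p + q) d y hy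
    obtain ⟨ζ, hζ⟩ := (hcross d).2 (δ d x)
    refine ⟨ζ, ?_⟩
    rw [hΞ, hζ, LinearEquiv.symm_apply_apply, hx]
  · intro t j a b ha hb ht d ζ
    rw [hΞ, hΞ, smul_lamH 𝒯 ψ hT EM.X EM.d EM.d_grHom (res_d_d ℳ EM) EN.X EN.d EN.d_grHom
      (res_d_d 𝒩 EN) 𝒬 mR hmR mS hmS mT hmT EP C ha hb ht]
    congr 1
    apply (δ (j + d)).injective
    rw [LinearEquiv.apply_symm_apply]
    have hnat := delta_natural (gamRes ℳ EM mR d) (gamRes 𝒩 EN mS d) (gamRes ℳ EM mR (j + d))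
      (gamRes 𝒩 EN mS (j + d)) (mulE EM.X EM.d EM.d_grHom (res_d_d ℳ EM) a ha d)
      (mulE EN.X EN.d EN.d_grHom (res_d_d 𝒩 EN) b hb d)
      (mulE_mem_gamSub EM.X EM.d EM.d_grHom (res_d_d ℳ EM) mR a ha d)
      (mulE_mem_gamSub EN.X EN.d EN.d_grHom (res_d_d 𝒩 EN) mS b hb d) (p + q) (δ d) (hδ d)
      (δ (j + d)) (hδ (j + d)) ((δ d).symm (cross p (q + 1) ζ))
    rw [hnat, LinearEquiv.apply_symm_apply]
    exact cross_natural _ _ p (q + 1) ζ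

end Main

end Groth.Agent.Lib.Helper8.Seg
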