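import Mathlib

/-!
# The tensor product of two perfect pairings is perfect (helper8)

`β_i : V_i → Dual M_i` restricting to a perfect pairing between `V_i` (finite dimensional) and a
subspace `W_i ⊆ M_i`; then `V_1 ⊗ V_2 → Dual (M_1 ⊗ M_2)` restricts to a perfect pairing with the span
of the tensors `w_1 ⊗ w_2`.
-/

set_option autoImplicit false
set_option linter.unusedSectionVars false
set_option linter.style.haveILetI false
universe u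
open TensorProduct

noncomputable section

namespace Groth.Agent.Lib.Helper8.Seg.TP

variable {k : Type u} [Field k]
  {V₁ V₂ M₁ M₂ : Type u} [AddCommGroup V₁] [Module k V₁] [AddCommGroup V₂] [Module k V₂]
  [AddCommGroup M₁] [Module k M₁] [AddCommGroup M₂] [Module k M₂]
  [Module.Finite k V₁] [Module.Finite k V₂]
  (β₁ : V₁ →ₗ[k] Module.Dual k M₁) (β₂ : V₂ →ₗ[k] Module.Dual k M₂)
  (W₁ : Submodule k M₁) (W₂ : Submodule k M₂)

/-- the product pairing -/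
def prodPair : V₁ ⊗[k] V₂ →ₗ[k] Module.Dual k (M₁ ⊗[k] M₂) :=
  (TensorProduct.dualDistrib k M₁ M₂).comp (TensorProduct.map β₁ β₂)

theorem prodPair_tmul (v₁ : V₁) (v₂ : V₂) (m₁ : M₁) (m₂ : M₂) :
    prodPair β₁ β₂ (v₁ ⊗ₜ[k] v₂) (m₁ ⊗ₜ[k] m₂) = β₁ v₁ m₁ * β₂ v₂ m₂ := rfl

/-- the restricted pairing map `V → Dual W` -/
def resPair {V M : Type u} [AddCommGroup V] [Module k V] [AddCommGroup M] [Module k M]
    (β : V →ₗ[k] Module.Dual k M) (W : Submodule k M) : V →ₗ[k] Module.Dual k W :=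
  (W.subtype.dualMap).comp β

theorem resPair_apply {V M : Type u} [AddCommGroup V] [Module k V] [AddCommGroup M] [Module k M]
    (β : V →ₗ[k] Module.Dual k M) (W : Submodule k M) (v : V) (w : W) :
    resPair β W v w = β v (w : M) := rfl

theorem resPair_bijective {V M : Type u} [AddCommGroup V] [Module k V] [AddCommGroup M]
    [Module k M] (β : V →ₗ[k] Module.Dual k M) (W : Submodule k M)
    (hn : ∀ v : V, (∀ w ∈ W, β v w = 0) → v = 0)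
    (hr : ∀ lam : Module.Dual k M, ∃ v : V, ∀ w ∈ W, β v w = lam w) :
    Function.Bijective (resPair β W) := by
  constructor
  · rw [injective_iff_map_eq_zero]
    intro v hv
    apply hn v
    intro w hw
    exact LinearMap.congr_fun hv ⟨w, hw⟩
  · intro mu
    obtain ⟨lam, hlam⟩ := LinearMap.exists_extend mu
    obtain ⟨v, hv⟩ := hr lam
    refine ⟨v, ?_⟩
    apply LinearMap.ext
    intro w
    rw [resPair_apply, hv w.1 w.2]
    exact LinearMap.congr_fun hlam w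

variable (hn₁ : ∀ v : V₁, (∀ w ∈ W₁, β₁ v w = 0) → v = 0)
  (hr₁ : ∀ lam : Module.Dual k M₁, ∃ v : V₁, ∀ w ∈ W₁, β₁ v w = lam w)
  (hn₂ : ∀ v : V₂, (∀ w ∈ W₂, β₂ v w = 0) → v = 0)
  (hr₂ : ∀ lam : Module.Dual k M₂, ∃ v : V₂, ∀ w ∈ W₂, β₂ v w = lam w)

include hn₁ hr₁ hn₂ hr₂ in
/-- the equivalence `V₁ ⊗ V₂ ≃ Dual (W₁ ⊗ W₂)` -/
theorem exists_equiv :
    ∃ Φ : V₁ ⊗[k] V₂ ≃ₗ[k] Module.Dual k (W₁ ⊗[k] W₂),
      ∀ (ζ : V₁ ⊗[k] V₂) (w₁ : W₁) (w₂ : W₂),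
        Φ ζ (w₁ ⊗ₜ[k] w₂) = prodPair β₁ β₂ ζ ((w₁ : M₁) ⊗ₜ[k] (w₂ : M₂)) := by
  let e₁ : V₁ ≃ₗ[k] Module.Dual k W₁ :=
    LinearEquiv.ofBijective (resPair β₁ W₁) (resPair_bijective β₁ W₁ hn₁ hr₁)
  let e₂ : V₂ ≃ₗ[k] Module.Dual k W₂ :=
    LinearEquiv.ofBijective (resPair β₂ W₂) (resPair_bijective β₂ W₂ hn₂ hr₂)
  haveI : Module.Finite k (Module.Dual k W₁) := Module.Finite.equiv e₁
  haveI : Module.Finite k (Module.Dual k W₂) := Module.Finite.equiv e₂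
  haveI : Module.Finite k W₁ := (Module.finite_dual_iff k).mp inferInstance
  haveI : Module.Finite k W₂ := (Module.finite_dual_iff k).mp inferInstance
  refine ⟨(TensorProduct.congr e₁ e₂).trans (TensorProduct.dualDistribEquiv k W₁ W₂), ?_⟩
  intro ζ w₁ w₂
  induction ζ using TensorProduct.induction_on with
  | zero => simp
  | tmul v₁ v₂ =>
    rw [LinearEquiv.trans_apply, TensorProduct.congr_tmul, prodPair_tmul]
    rfl
  | add x y hx hy =>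
    rw [map_add, map_add, LinearMap.add_apply, LinearMap.add_apply, hx, hy]

include hn₁ hr₁ hn₂ hr₂ in
/-- nondegeneracy on `V₁ ⊗ V₂` -/
theorem eq_zero_of_forall (ζ : V₁ ⊗[k] V₂)
    (h : ∀ w₁ ∈ W₁, ∀ w₂ ∈ W₂, prodPair β₁ β₂ ζ (w₁ ⊗ₜ[k] w₂) = 0) : ζ = 0 := by
  obtain ⟨Φ, hΦ⟩ := exists_equiv β₁ β₂ W₁ W₂ hn₁ hr₁ hn₂ hr₂
  apply Φ.injective
  rw [map_zero]
  apply TensorProduct.ext'
  intro w₁ w₂
  rw [hΦ, LinearMap.zero_apply]
  exact h w₁.1 w₁.2 w₂.1 w₂.2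

include hn₁ hr₁ hn₂ hr₂ in
/-- representability of functionals -/
theorem exists_repr (lam : Module.Dual k (M₁ ⊗[k] M₂)) :
    ∃ ζ : V₁ ⊗[k] V₂, ∀ w₁ ∈ W₁, ∀ w₂ ∈ W₂,
      prodPair β₁ β₂ ζ (w₁ ⊗ₜ[k] w₂) = lam (w₁ ⊗ₜ[k] w₂) := by
  obtain ⟨Φ, hΦ⟩ := exists_equiv β₁ β₂ W₁ W₂ hn₁ hr₁ hn₂ hr₂
  refine ⟨Φ.symm (lam.comp (TensorProduct.map W₁.subtype W₂.subtype)), ?_⟩
  intro w₁ hw₁ w₂ hw₂
  have h := hΦ (Φ.symm (lam.comp (TensorProduct.map W₁.subtype W₂.subtype))) ⟨w₁, hw₁⟩ ⟨w₂, hw₂⟩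
  rw [LinearEquiv.apply_symm_apply] at h
  rw [← h]
  rfl

end Groth.Agent.Lib.Helper8.Seg.TP
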