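import Groth.Agent.Lib.Helper8Seg27

/-!
# The `k`-valued perfect pairing `K_R × H^n_m(R) → k` of a *canonical module (helper8)
-/

set_option autoImplicit false
set_option linter.unusedSectionVars false
set_option linter.style.haveILetI false
universe u
open TensorProduct DirectSum Cardinal

noncomputable section

namespace Groth.Agent.Lib.Helper8.Seg

open Groth.Agent.Lib.Helper29GrConv Groth.Agent.Lib.Helper8.GrCMk

/-- A perfect graded balanced pairing between a graded module and top graded local cohomology. -/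
structure IsPerfPair {k : Type u} [Field k] {R : Type u} [CommRing R] [Algebra k R]
    (𝒜 : ℤ → Submodule k R) [GradedAlgebra 𝒜]
    {C : Type u} [AddCommGroup C] [Module R C] [Module k C] (𝒞 : ℤ → AddSubgroup C)
    (m : HomogeneousIdeal 𝒜) (n : ℕ) (I : GrLC.StarInjRes 𝒜 𝒜)
    (pk : C → I.H m n → k) : Prop where
  add_left : ∀ c c' h, pk (c + c') h = pk c h + pk c' h
  add_right : ∀ c h h', pk c (h + h') = pk c h + pk c h'
  smul : ∀ (r : R) c h, pk (r • c) h = pk c (r • h)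
  smul_k : ∀ (a : k) c h, pk (algebraMap k R a • c) h = a * pk c h
  graded : ∀ (i d : ℤ), i + d ≠ 0 → ∀ c, c ∈ 𝒞 i → ∀ h, h ∈ I.Hgr m n d → pk c h = 0
  nondeg : ∀ (d : ℤ) h, h ∈ I.Hgr m n d → (∀ c ∈ 𝒞 (-d), pk c h = 0) → h = 0
  repr : ∀ (d : ℤ) (lam : C →ₗ[k] k), ∃ h ∈ I.Hgr m n d, ∀ c ∈ 𝒞 (-d), pk c h = lam c

section Exists

variable {k : Type u} [Field k] {R : Type u} [CommRing R] [Algebra k R]
  (𝒜 : ℤ → Submodule k R) [GradedAlgebra 𝒜]
  (hpos : ∀ n : ℤ, n < 0 → 𝒜 n = ⊥) (h0 : 𝒜 0 = Submodule.span k {(1 : R)})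
  {E' : Type u} [AddCommGroup E'] [Module R E'] (𝓔 : ℤ → AddSubgroup E')
  [DirectSum.Decomposition 𝓔] [SetLike.GradedSMul 𝒜 𝓔]
  {C : Type u} [AddCommGroup C] [Module R C] [Module k C] [IsScalarTower k R C]
  (𝒞 : ℤ → AddSubgroup C)
  [DirectSum.Decomposition 𝒞] [SetLike.GradedSMul 𝒜 𝒞]
  (m : HomogeneousIdeal 𝒜)
  (hmsp : m.toIdeal = Ideal.span (⋃ n ∈ Set.Ioi (0 : ℤ), (𝒜 n : Set R)))

include hpos h0 hmsp in
/-- a *canonical module has a perfect pairing with the top graded local cohomology -/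
theorem exists_perfPair [Nontrivial R] [IsNoetherianRing R] (n : ℕ)
    (I : GrLC.StarInjRes 𝒜 𝒜) (e : (R ⧸ m.toIdeal) →ₗ[R] E')
    (he : GrLC.IsStarInjHull 𝒜 (GrLC.quotGr 𝒜 m) 𝓔 e)
    (hC : GrLC.IsStarCanonical 𝒜 𝒞 𝓔 m (n + 1) I) :
    ∃ pk : C → I.H m (n + 1) → k, IsPerfPair 𝒜 𝒞 m (n + 1) I pk := by
  classical
  have hposA := asGr_pos 𝒜 hpos
  have hF := isField_deg0 𝒜 h0
  have hm := isStarLocal_asGr 𝒜 hpos h0 m hmsp
  have hmne : (idealAS 𝒜 m).toIdeal ≠ ⊤ :=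
    Groth.Agent.Lib.Helper29GrStarLocal.toIdeal_ne_top (asGr 𝒜) (idealAS 𝒜 m) hm
  have he' := isStarInjHull_asGr 𝒜 𝓔 m e he
  obtain ⟨hfin, ψ, hψ⟩ := isStarCanonical_asGr 𝒜 𝓔 𝒞 m n I hC
  haveI := hfin
  have hmspA : (idealAS 𝒜 m).toIdeal =
      Ideal.span (⋃ n ∈ Set.Ioi (0 : ℤ), (asGr 𝒜 n : Set R)) := hmsp
  let κ := deg0Equiv 𝒜 h0
  have hκ : ∀ a : k, ((κ a : GrLC.deg0 (asGr 𝒜)) : R) = algebraMap k R a := fun a => rfl
  obtain ⟨pr, hpr⟩ : ∃ pr : C → (resAS I).H (idealAS 𝒜 m) (n + 1) → ↥(GrLC.deg0 (asGr 𝒜)),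
      pr = Groth.Agent.Lib.Helper8.CanonPairing.pair (asGr 𝒜) hposA hF (idealAS 𝒜 m) hmne hmspA
        𝓔 e he' (n + 1) (resAS I) ψ := ⟨_, rfl⟩
  have p_al : ∀ c c' h, pr (c + c') h = pr c h + pr c' h := by
    intro c c' h
    rw [hpr]
    exact Groth.Agent.Lib.Helper8.CanonPairing.pair_add_left (asGr 𝒜) hposA hF (idealAS 𝒜 m) hmne
      hmspA 𝓔 e he' (n + 1) (resAS I) ψ c c' h
  have p_ar : ∀ c h h', pr c (h + h') = pr c h + pr c h' := by
    intro c h h'
    rw [hpr]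
    exact Groth.Agent.Lib.Helper8.CanonPairing.pair_add_right (asGr 𝒜) hposA hF (idealAS 𝒜 m) hmne
      hmspA 𝓔 e he' (n + 1) (resAS I) ψ c h h'
  have p_s : ∀ (r : R) c h, pr (r • c) h = pr c (r • h) := by
    intro r c h
    rw [hpr]
    exact Groth.Agent.Lib.Helper8.CanonPairing.pair_smul (asGr 𝒜) hposA hF (idealAS 𝒜 m) hmne
      hmspA 𝓔 e he' (n + 1) (resAS I) ψ r c h
  have p_sl : ∀ (t : ↥(GrLC.deg0 (asGr 𝒜))) c h, pr ((t : R) • c) h = t * pr c h := by
    intro t c h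
    rw [hpr]
    exact Groth.Agent.Lib.Helper8.CanonPairing.pair_smul_left (asGr 𝒜) hposA hF (idealAS 𝒜 m) hmne
      hmspA 𝓔 e he' (n + 1) (resAS I) ψ t c h
  have p_gr : ∀ (i d : ℤ), i + d ≠ 0 → ∀ c, c ∈ 𝒞 i → ∀ h,
      h ∈ (resAS I).Hgr (idealAS 𝒜 m) (n + 1) d → pr c h = 0 := by
    intro i d hid c hc h hh
    rw [hpr]
    exact Groth.Agent.Lib.Helper8.CanonPairing.pair_eq_zero_of_ne (asGr 𝒜) hposA hF (idealAS 𝒜 m)
      hmne hmspA 𝓔 e he' 𝒞 (n + 1) (resAS I) ψ hψ hid hc hh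
  have p_inj : ∀ (i : ℤ) (h : (resAS I).H (idealAS 𝒜 m) (n + 1)),
      h ∈ (resAS I).Hcomp (idealAS 𝒜 m) (n + 1) (-i) → (∀ c ∈ 𝒞 i, pr c h = 0) → h = 0 := by
    intro i h hh hz
    have h1 := Groth.Agent.Lib.Helper8.CanonPairing.rho_injective (asGr 𝒜) hposA hF (idealAS 𝒜 m)
      hmne hmspA 𝓔 e he' 𝒞 (n + 1) (resAS I) ψ hψ i
    have h2 : (⟨h, hh⟩ : ↥((resAS I).Hcomp (idealAS 𝒜 m) (n + 1) (-i))) = 0 := by
      apply h1
      rw [map_zero]
      apply LinearMap.ext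
      intro v
      rw [Groth.Agent.Lib.Helper8.CanonPairing.rho_apply, LinearMap.zero_apply, ← hpr]
      exact hz v.1 v.2
    exact congrArg Subtype.val h2
  have p_surj : ∀ (i : ℤ) (lam : Module.Dual ↥(GrLC.deg0 (asGr 𝒜)) ↥(GrLC.comp (asGr 𝒜) 𝒞 i)),
      ∃ h : (resAS I).H (idealAS 𝒜 m) (n + 1),
        h ∈ (resAS I).Hcomp (idealAS 𝒜 m) (n + 1) (-i) ∧
        ∀ (c : C) (hc : c ∈ 𝒞 i), pr c h = lam ⟨c, hc⟩ := by
    intro i lam
    obtain ⟨h, hh⟩ := Groth.Agent.Lib.Helper8.CanonPairing.rho_surjective (asGr 𝒜) hposA hF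
      (idealAS 𝒜 m) hmne hmspA 𝓔 e he' 𝒞 (n + 1) (resAS I) ψ hψ i lam
    refine ⟨h.1, h.2, fun c hc => ?_⟩
    rw [← hh, Groth.Agent.Lib.Helper8.CanonPairing.rho_apply, hpr]
  clear hpr
  refine ⟨fun c h => κ.symm (pr c h), ?_⟩
  refine
    { add_left := fun c c' h => by
        show κ.symm (pr (c + c') h) = κ.symm (pr c h) + κ.symm (pr c' h)
        rw [p_al, map_add]
      add_right := fun c h h' => by
        show κ.symm (pr c (h + h')) = κ.symm (pr c h) + κ.symm (pr c h')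
        rw [← map_add, ← p_ar]
        rfl
      smul := fun r c h => by
        show κ.symm (pr (r • c) h) = κ.symm (pr c (r • h))
        rw [p_s]
        rfl
      smul_k := fun a c h => by
        show κ.symm (pr (algebraMap k R a • c) h) = a * κ.symm (pr c h)
        rw [← hκ a, p_sl, map_mul, RingEquiv.symm_apply_apply]
      graded := fun i d hid c hc h hh => by
        show κ.symm (pr c h) = 0
        rw [p_gr i d hid c hc h hh, map_zero]
      nondeg := fun d h hh hz => by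
        refine p_inj (-d) h ?_ ?_
        · rw [neg_neg]
          exact hh
        · intro c hc
          have h1 : κ.symm (pr c h) = 0 := hz c hc
          rw [← map_zero κ.symm] at h1
          exact κ.symm.injective h1
      repr := fun d lam => by
        let lam' : Module.Dual ↥(GrLC.deg0 (asGr 𝒜)) ↥(GrLC.comp (asGr 𝒜) 𝒞 (-d)) :=
          { toFun := fun v => κ (lam (v : C))
            map_add' := fun v w => by
              rw [Submodule.coe_add, map_add, map_add]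
            map_smul' := fun t v => by
              obtain ⟨a, rfl⟩ := κ.surjective t
              have h1 : (((κ a : GrLC.deg0 (asGr 𝒜)) • v : ↥(GrLC.comp (asGr 𝒜) 𝒞 (-d))) : C) =
                  a • (v : C) := by
                rw [← algebraMap_smul R a (v : C)]
                rfl
              rw [h1, map_smul, smul_eq_mul, map_mul]
              rfl }
        obtain ⟨h, hh, hl⟩ := p_surj (-d) lam'
        refine ⟨h, ?_, fun c hc => ?_⟩
        · rw [neg_neg] at hh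
          exact hh
        · show κ.symm (pr c h) = lam c
          rw [hl c hc]
          exact κ.symm_apply_apply _ }

end Exists

end Groth.Agent.Lib.Helper8.Seg
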