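import Groth.Agent.Lib.Helper8Seg33
import Groth.Agent.Lib.Helper8PerfCanon

/-!
# A perfect `k`-valued pairing with top local cohomology exhibits a *canonical module (helper8)
-/

set_option autoImplicit false
set_option linter.unusedSectionVars false
set_option linter.style.haveILetI false
universe u
open TensorProduct DirectSum Cardinal

noncomputable section

namespace Groth.Agent.Lib.Helper8.Seg

open Groth.Agent.Lib.Helper29GrConv Groth.Agent.Lib.Helper8.GrCMk

section Internal

variable {k : Type u} [Field k] {R : Type u} [CommRing R] [Algebra k R]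
  (𝒜 : ℤ → Submodule k R) [GradedAlgebra 𝒜]

/-- the pieces of graded local cohomology form a decomposition (gradings by `k`-subspaces) -/
theorem isInternal_Hgr [IsNoetherianRing R] (I : GrLC.StarInjRes 𝒜 𝒜) (a : HomogeneousIdeal 𝒜)
    (i : ℕ) : DirectSum.IsInternal (I.Hgr a i) := by
  cases i with
  | zero =>
    exact Groth.Agent.S13225.result R (asGr 𝒜) (idealAS 𝒜 a) R (asGr 𝒜) (resAS I) 0
  | succ n =>
    exact Groth.Agent.S13225.result R (asGr 𝒜) (idealAS 𝒜 a) R (asGr 𝒜) (resAS I) (n + 1)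

end Internal

section Main

variable {k : Type u} [Field k] {R : Type u} [CommRing R] [Algebra k R]
  (𝒜 : ℤ → Submodule k R) [GradedAlgebra 𝒜]
  (hpos : ∀ n : ℤ, n < 0 → 𝒜 n = ⊥) (h0 : 𝒜 0 = Submodule.span k {(1 : R)})
  {E' : Type u} [AddCommGroup E'] [Module R E'] (𝓔 : ℤ → AddSubgroup E')
  [DirectSum.Decomposition 𝓔] [SetLike.GradedSMul 𝒜 𝓔]
  {C : Type u} [AddCommGroup C] [Module R C] [Module k C] [IsScalarTower k R C]
  (𝒞 : ℤ → AddSubgroup C)
  [DirectSum.Decomposition 𝒞] [SetLike.GradedSMul 𝒜 𝒞]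
  (m : HomogeneousIdeal 𝒜)
  (hmsp : m.toIdeal = Ideal.span (⋃ n ∈ Set.Ioi (0 : ℤ), (𝒜 n : Set R)))

include hpos h0 hmsp in
/-- a finitely generated graded module with a perfect pairing against the top graded local
cohomology is a *canonical module -/
theorem isStarCanonical_of_perfPair [Nontrivial R] [IsNoetherianRing R] [Module.Finite R C] (n : ℕ)
    (I : GrLC.StarInjRes 𝒜 𝒜) (e : (R ⧸ m.toIdeal) →ₗ[R] E')
    (he : GrLC.IsStarInjHull 𝒜 (GrLC.quotGr 𝒜 m) 𝓔 e)
    (pk : C → I.H m n → k) (hpk : IsPerfPair 𝒜 𝒞 m n I pk) :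
    GrLC.IsStarCanonical 𝒜 𝒞 𝓔 m n I := by
  classical
  have hposA := asGr_pos 𝒜 hpos
  have hF := isField_deg0 𝒜 h0
  have hm := isStarLocal_asGr 𝒜 hpos h0 m hmsp
  have hmne : (idealAS 𝒜 m).toIdeal ≠ ⊤ :=
    Groth.Agent.Lib.Helper29GrStarLocal.toIdeal_ne_top (asGr 𝒜) (idealAS 𝒜 m) hm
  have he' := isStarInjHull_asGr 𝒜 𝓔 m e he
  have hmspA : (idealAS 𝒜 m).toIdeal =
      Ideal.span (⋃ n ∈ Set.Ioi (0 : ℤ), (asGr 𝒜 n : Set R)) := hmsp
  let κ := deg0Equiv 𝒜 h0
  have hκ : ∀ a : k, ((κ a : GrLC.deg0 (asGr 𝒜)) : R) = algebraMap k R a := fun a => rfl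
  letI decH : DirectSum.Decomposition (I.Hgr m n) := (isInternal_Hgr 𝒜 I m n).chooseDecomposition
  have hex := Groth.Agent.Lib.Helper8.PerfCanon.exists_equiv (asGr 𝒜) hposA hF (idealAS 𝒜 m) hmne
    hmspA 𝓔 e he' 𝒞 (I.Hgr m n) (fun c h => κ (pk c h))
    (fun c c' h => by
      show κ (pk (c + c') h) = κ (pk c h) + κ (pk c' h)
      rw [hpk.add_left, map_add])
    (fun c h h' => by
      show κ (pk c (h + h')) = κ (pk c h) + κ (pk c h')
      rw [hpk.add_right, map_add])
    (fun r c h => by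
      show κ (pk (r • c) h) = κ (pk c (r • h))
      rw [hpk.smul])
    (fun t c h => by
      show κ (pk ((t : R) • c) h) = t * κ (pk c h)
      obtain ⟨a, rfl⟩ := κ.surjective t
      rw [hκ a, hpk.smul_k, map_mul])
    (fun {i d} hid {c} hc {h} hh => by
      show κ (pk c h) = 0
      rw [hpk.graded i d hid c hc h hh, map_zero])
    (fun d y hy hz => by
      apply hpk.nondeg d y hy
      intro c hc
      have h1 : κ (pk c y) = 0 := hz c hc
      rw [← map_zero κ] at h1
      exact κ.injective h1)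
    (fun d lam => by
      let W : Submodule k C :=
        { carrier := (𝒞 (-d) : Set C)
          add_mem' := fun ha hb => add_mem ha hb
          zero_mem' := zero_mem _
          smul_mem' := fun a c hc => by
            have h1 := SetLike.GradedSMul.smul_mem (A := 𝒜) (B := 𝒞)
              (SetLike.algebraMap_mem_graded 𝒜 a) hc
            rw [vadd_eq_add, zero_add, algebraMap_smul] at h1
            exact h1 }
      let f : W →ₗ[k] k :=
        { toFun := fun w => κ.symm (lam ⟨w.1, w.2⟩)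
          map_add' := fun v w => by
            rw [← map_add, ← map_add]
            rfl
          map_smul' := fun a w => by
            have h1 : (⟨((a • w : W) : C), (a • w : W).2⟩ : ↥(GrLC.comp (asGr 𝒜) 𝒞 (-d))) =
                κ a • (⟨w.1, w.2⟩ : ↥(GrLC.comp (asGr 𝒜) 𝒞 (-d))) := by
              apply Subtype.ext
              show a • (w : C) = ((κ a : GrLC.deg0 (asGr 𝒜)) : R) • (w : C)
              rw [hκ a, algebraMap_smul]
            rw [h1, map_smul, smul_eq_mul, map_mul, RingEquiv.symm_apply_apply]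
            rfl }
      obtain ⟨lamk, hlamk⟩ := LinearMap.exists_extend f
      obtain ⟨y, hy, hyl⟩ := hpk.repr d lamk
      refine ⟨y, hy, fun c hc => ?_⟩
      show κ (pk c y) = lam ⟨c, hc⟩
      rw [hyl c hc]
      have h2 : lamk c = f ⟨c, hc⟩ := LinearMap.congr_fun hlamk ⟨c, hc⟩
      rw [h2]
      exact κ.apply_symm_apply _)
  obtain ⟨ψ, hψ⟩ := hex
  exact ⟨inferInstance, ψ, fun d f hf => hψ d f hf⟩

end Main

end Groth.Agent.Lib.Helper8.Seg
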