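import Groth.Agent.Lib.Helper8Seg31
import Groth.Agent.Lib.Helper8Seg32
import Groth.Agent.Lib.Helper8Seg34

/-!
# The factor pairings on the degree parts of `Γ_m` of the resolution (helper8)
-/

set_option autoImplicit false
set_option linter.unusedSectionVars false
set_option linter.style.haveILetI false
universe u
open TensorProduct DirectSum Cardinal

noncomputable section

namespace Groth.Agent.Lib.Helper8.Seg

open Groth.Agent.Lib.Helper29GrConv Groth.Agent.Lib.Helper29LCAcyclic Groth.Agent.Lib.Helper8.Kun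
  Groth.Agent.Lib.Helper8.Kun.Cpx

section Beta

variable {k : Type u} [Field k] {R : Type u} [CommRing R] [Algebra k R]
  {𝒜 : ℤ → Submodule k R} [GradedAlgebra 𝒜]
  {C : Type u} [AddCommGroup C] [Module R C] [Module k C] [IsScalarTower k R C]
  {𝒞 : ℤ → AddSubgroup C}
  {m : HomogeneousIdeal 𝒜} {n : ℕ} {I : GrLC.StarInjRes 𝒜 𝒜}
  {pk : C → I.H m n → k} (hpk : IsPerfPair 𝒜 𝒞 m n I pk)

/-- the pairing map on the cohomology of the degree `d` part -/
def beta (d : ℤ) :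
    (gamRes (asGr 𝒜) (selfRes I) m d).cpx.H n →ₗ[k] Module.Dual k C where
  toFun u :=
    { toFun := fun x => pk x (iotaH (asGr 𝒜) (selfRes I) m n d u)
      map_add' := fun x y => hpk.add_left x y _
      map_smul' := fun a x => by
        rw [← algebraMap_smul R a x, hpk.smul_k]
        rfl }
  map_add' u v := by
    apply LinearMap.ext
    intro x
    show pk x (iotaH (asGr 𝒜) (selfRes I) m n d (u + v)) =
      pk x (iotaH (asGr 𝒜) (selfRes I) m n d u) + pk x (iotaH (asGr 𝒜) (selfRes I) m n d v)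
    rw [map_add]
    exact hpk.add_right x _ _
  map_smul' a u := by
    apply LinearMap.ext
    intro x
    show pk x (iotaH (asGr 𝒜) (selfRes I) m n d (a • u)) =
      a * pk x (iotaH (asGr 𝒜) (selfRes I) m n d u)
    rw [map_smulₛₗ]
    exact (hpk.smul _ x _).symm.trans (hpk.smul_k a x _)

theorem beta_apply (d : ℤ) (u : (gamRes (asGr 𝒜) (selfRes I) m d).cpx.H n) (x : C) :
    beta hpk d u x = pk x (iotaH (asGr 𝒜) (selfRes I) m n d u) := rfl

/-- the degree `-d` piece of the module as a `k`-subspace -/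
def degK (𝒜 : ℤ → Submodule k R) [GradedAlgebra 𝒜] (𝒞 : ℤ → AddSubgroup C)
    [SetLike.GradedSMul 𝒜 𝒞] (i : ℤ) : Submodule k C where
  carrier := (𝒞 i : Set C)
  add_mem' := fun ha hb => add_mem ha hb
  zero_mem' := zero_mem _
  smul_mem' := fun a c hc => by
    have h1 := SetLike.GradedSMul.smul_mem (A := 𝒜) (B := 𝒞)
      (SetLike.algebraMap_mem_graded 𝒜 a) hc
    rw [vadd_eq_add, zero_add, algebraMap_smul] at h1
    exact h1

theorem mem_degK [SetLike.GradedSMul 𝒜 𝒞] {i : ℤ} {c : C} :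
    c ∈ degK 𝒜 𝒞 i ↔ c ∈ 𝒞 i := Iff.rfl

theorem beta_graded (i d : ℤ) (hid : i + d ≠ 0)
    (u : (gamRes (asGr 𝒜) (selfRes I) m d).cpx.H n) (x : C) (hx : x ∈ 𝒞 i) :
    beta hpk d u x = 0 :=
  hpk.graded i d hid x hx _ (iotaH_mem (asGr 𝒜) (selfRes I) m n d u)

theorem beta_nondeg [SetLike.GradedSMul 𝒜 𝒞] (d : ℤ)
    (u : (gamRes (asGr 𝒜) (selfRes I) m d).cpx.H n)
    (h : ∀ w ∈ degK 𝒜 𝒞 (-d), beta hpk d u w = 0) : u = 0 := by
  apply iotaH_injective (asGr 𝒜) (selfRes I) m n d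
  rw [map_zero]
  exact hpk.nondeg d _ (iotaH_mem (asGr 𝒜) (selfRes I) m n d u) (fun c hc => h c hc)

theorem beta_repr [SetLike.GradedSMul 𝒜 𝒞] (d : ℤ) (lam : Module.Dual k C) :
    ∃ u : (gamRes (asGr 𝒜) (selfRes I) m d).cpx.H n,
      ∀ w ∈ degK 𝒜 𝒞 (-d), beta hpk d u w = lam w := by
  obtain ⟨h, hh, hl⟩ := hpk.repr d lam
  obtain ⟨u, rfl⟩ := iotaH_surjective (asGr 𝒜) (selfRes I) m n d h hh
  exact ⟨u, fun w hw => hl w hw⟩

theorem beta_mul {j : ℤ} {a : R} (ha : a ∈ 𝒜 j) (d : ℤ)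
    (u : (gamRes (asGr 𝒜) (selfRes I) m d).cpx.H n) (x : C) :
    beta hpk (j + d) (mulH (asGr 𝒜) (selfRes I) m a ha n d u) x = beta hpk d u (a • x) := by
  rw [beta_apply, beta_apply, ← smul_iotaH' (asGr 𝒜) (selfRes I) m ha n d u]
  exact (hpk.smul a x _).symm

end Beta

end Groth.Agent.Lib.Helper8.Seg
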