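import Groth.Agent.Lib.Helper8Seg35

/-!
# The pairing `(K_R # K_S) × H^{r+s-1}_{T_+}(R # S) → k` (helper8)

From the cross product isomorphisms `Ξ_d` and perfect pairings of the two factors we build a
perfect balanced pairing of the Segre module with the top graded local cohomology of the Segre
product.
-/

set_option autoImplicit false
set_option linter.unusedSectionVars false
set_option linter.style.haveILetI false
universe u
open TensorProduct DirectSum Cardinal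

noncomputable section

namespace Groth.Agent.Lib.Helper8.Seg

open Groth.Agent.Lib.Helper29GrConv Groth.Agent.Lib.Helper29LCAcyclic Groth.Agent.Lib.Helper8.Kun
  Groth.Agent.Lib.Helper8.Kun.Cpx

section Abstract

variable {k : Type u} [Field k] {R S T : Type u} [CommRing R] [CommRing S] [CommRing T]
  [Algebra k R] [Algebra k S] [Algebra k T]
variable {𝒜 : ℤ → Submodule k R} [GradedAlgebra 𝒜] {ℬ : ℤ → Submodule k S} [GradedAlgebra ℬ]
  {𝒯 : ℤ → Submodule k T} [GradedAlgebra 𝒯] {ψ : T →ₐ[k] R ⊗[k] S}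
  (hT : GrSeg.IsSegreRing 𝒜 ℬ 𝒯 ψ)
  {mR : HomogeneousIdeal 𝒜} {I : GrLC.StarInjRes 𝒜 𝒜}
  {mS : HomogeneousIdeal ℬ} {J : GrLC.StarInjRes ℬ ℬ}
  {mT : HomogeneousIdeal 𝒯} {IT : GrLC.StarInjRes 𝒯 𝒯}
  {nR nS nT : ℕ}
  {CR : Type u} [AddCommGroup CR] [Module R CR] [Module k CR] [IsScalarTower k R CR]
  {𝒞R : ℤ → AddSubgroup CR} [DirectSum.Decomposition 𝒞R] [SetLike.GradedSMul 𝒜 𝒞R]
  {CS : Type u} [AddCommGroup CS] [Module S CS] [Module k CS] [IsScalarTower k S CS]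
  {𝒞S : ℤ → AddSubgroup CS} [DirectSum.Decomposition 𝒞S] [SetLike.GradedSMul ℬ 𝒞S]
  {P : Type u} [AddCommGroup P] [Module T P] [Module k P] [IsScalarTower k T P]
  {𝒬 : ℤ → AddSubgroup P} [DirectSum.Decomposition 𝒬] [SetLike.GradedSMul 𝒯 𝒬]
  {φ : P →ₗ[k] CR ⊗[k] CS} (hP : GrSeg.IsSegreMod ψ 𝒞R 𝒞S 𝒬 φ)
  {pR : CR → I.H mR nR → k} (hpR : IsPerfPair 𝒜 𝒞R mR nR I pR)
  {pS : CS → J.H mS nS → k} (hpS : IsPerfPair ℬ 𝒞S mS nS J pS)
  [DirectSum.Decomposition (IT.Hgr mT nT)]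
  (Ξ : ∀ d : ℤ, ((gamRes (asGr 𝒜) (selfRes I) mR d).cpx.H nR ⊗[k]
      (gamRes (asGr ℬ) (selfRes J) mS d).cpx.H nS) →ₛₗ[algebraMap k T] IT.H mT nT)
  (hΞi : ∀ d, Function.Injective (Ξ d))
  (hΞm : ∀ d ζ, Ξ d ζ ∈ IT.Hcomp mT nT d)
  (hΞs : ∀ d y, y ∈ IT.Hcomp mT nT d → ∃ ζ, Ξ d ζ = y)
  (hΞt : ∀ (t : T) (j : ℤ) (a : R) (b : S) (ha : a ∈ 𝒜 j) (hb : b ∈ ℬ j), ψ t = a ⊗ₜ[k] b →
    ∀ d ζ, t • Ξ d ζ = Ξ (j + d)
      (TensorProduct.map (mulH (asGr 𝒜) (selfRes I) mR a ha nR d)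
        (mulH (asGr ℬ) (selfRes J) mS b hb nS d) ζ))

/-- the product pairing map in degree `d` -/
def bigB (d : ℤ) : ((gamRes (asGr 𝒜) (selfRes I) mR d).cpx.H nR ⊗[k]
    (gamRes (asGr ℬ) (selfRes J) mS d).cpx.H nS) →ₗ[k] Module.Dual k (CR ⊗[k] CS) :=
  TP.prodPair (beta hpR d) (beta hpS d)

theorem bigB_tmul (d : ℤ) (u : (gamRes (asGr 𝒜) (selfRes I) mR d).cpx.H nR)
    (v : (gamRes (asGr ℬ) (selfRes J) mS d).cpx.H nS) (x : CR) (y : CS) :
    bigB hpR hpS d (u ⊗ₜ[k] v) (x ⊗ₜ[k] y) = beta hpR d u x * beta hpS d v y := rfl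

/-- compatibility of the product pairings with multiplication by a pure tensor -/
theorem bigB_mul {j : ℤ} {a : R} {b : S} (ha : a ∈ 𝒜 j) (hb : b ∈ ℬ j) (d : ℤ)
    (ζ : (gamRes (asGr 𝒜) (selfRes I) mR d).cpx.H nR ⊗[k]
      (gamRes (asGr ℬ) (selfRes J) mS d).cpx.H nS) (z : CR ⊗[k] CS) :
    bigB hpR hpS (j + d) (TensorProduct.map (mulH (asGr 𝒜) (selfRes I) mR a ha nR d)
        (mulH (asGr ℬ) (selfRes J) mS b hb nS d) ζ) z =
      bigB hpR hpS d ζ (GrSeg.act k R S CR CS (a ⊗ₜ[k] b) z) := by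
  induction ζ using TensorProduct.induction_on with
  | zero => simp
  | tmul u v =>
    induction z using TensorProduct.induction_on with
    | zero => simp
    | tmul x y =>
      rw [TensorProduct.map_tmul, bigB_tmul, GrSeg.act_tmul, bigB_tmul, beta_mul, beta_mul]
    | add z z' hz hz' => rw [map_add, map_add, map_add, hz, hz']
  | add ζ ζ' hζ hζ' =>
    rw [map_add, map_add, map_add, LinearMap.add_apply, LinearMap.add_apply, hζ, hζ']

/-- the product pairing vanishes off the diagonal -/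
theorem bigB_graded (i d : ℤ) (hid : i + d ≠ 0)
    (ζ : (gamRes (asGr 𝒜) (selfRes I) mR d).cpx.H nR ⊗[k]
      (gamRes (asGr ℬ) (selfRes J) mS d).cpx.H nS) (z : CR ⊗[k] CS)
    (hz : z ∈ GrSeg.segrePiece k 𝒞R 𝒞S i) : bigB hpR hpS d ζ z = 0 := by
  induction ζ using TensorProduct.induction_on with
  | zero => simp
  | tmul u v =>
    refine Submodule.span_induction (p := fun z _ => bigB hpR hpS d (u ⊗ₜ[k] v) z = 0)
      ?_ ?_ ?_ ?_ hz
    · rintro _ ⟨x, hx, y, hy, rfl⟩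
      rw [bigB_tmul, beta_graded hpR i d hid u x hx, zero_mul]
    · exact map_zero _
    · intro z z' _ _ h h'
      rw [map_add, h, h', add_zero]
    · intro a z _ h
      rw [map_smul, h, smul_zero]
  | add ζ ζ' hζ hζ' =>
    rw [map_add, LinearMap.add_apply, hζ, hζ', add_zero]

/-- the cross product as an additive equivalence onto the degree `d` piece -/
def xiEquiv (d : ℤ) : ((gamRes (asGr 𝒜) (selfRes I) mR d).cpx.H nR ⊗[k]
    (gamRes (asGr ℬ) (selfRes J) mS d).cpx.H nS) ≃+ ↥(IT.Hgr mT nT d) :=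
  AddEquiv.ofBijective
    ((Ξ d).toAddMonoidHom.codRestrict (IT.Hgr mT nT d) (hΞm d))
    ⟨fun ζ ζ' h => hΞi d (congrArg Subtype.val h), fun y => by
      obtain ⟨ζ, hζ⟩ := hΞs d y.1 y.2
      exact ⟨ζ, Subtype.ext hζ⟩⟩

theorem xiEquiv_symm_apply (d : ℤ) (ζ : (gamRes (asGr 𝒜) (selfRes I) mR d).cpx.H nR ⊗[k]
    (gamRes (asGr ℬ) (selfRes J) mS d).cpx.H nS) :
    (xiEquiv Ξ hΞi hΞm hΞs d).symm ⟨Ξ d ζ, hΞm d ζ⟩ = ζ := by
  rw [AddEquiv.symm_apply_eq]
  rfl

/-- the functional attached to a class, additive in the class -/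
def Theta : IT.H mT nT →+ Module.Dual k (CR ⊗[k] CS) :=
  (DirectSum.toAddMonoid (fun d => (bigB hpR hpS d).toAddMonoidHom.comp
    (xiEquiv Ξ hΞi hΞm hΞs d).symm.toAddMonoidHom)).comp
    (DirectSum.decomposeAddEquiv (IT.Hgr mT nT)).toAddMonoidHom

theorem Theta_xi (d : ℤ) (ζ : (gamRes (asGr 𝒜) (selfRes I) mR d).cpx.H nR ⊗[k]
    (gamRes (asGr ℬ) (selfRes J) mS d).cpx.H nS) :
    Theta hpR hpS Ξ hΞi hΞm hΞs (Ξ d ζ) = bigB hpR hpS d ζ := by
  show DirectSum.toAddMonoid _ (DirectSum.decompose (IT.Hgr mT nT) (Ξ d ζ)) = _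
  rw [DirectSum.decompose_of_mem (IT.Hgr mT nT) (hΞm d ζ), DirectSum.toAddMonoid_of]
  show bigB hpR hpS d ((xiEquiv Ξ hΞi hΞm hΞs d).symm ⟨Ξ d ζ, hΞm d ζ⟩) = _
  rw [xiEquiv_symm_apply]

/-- `Theta` is semilinear over `k → T` -/
theorem Theta_algebraMap_smul (a : k) (h : IT.H mT nT) :
    Theta hpR hpS Ξ hΞi hΞm hΞs (algebraMap k T a • h) = a • Theta hpR hpS Ξ hΞi hΞm hΞs h := by
  induction h using DirectSum.Decomposition.inductionOn (IT.Hgr mT nT) with
  | zero => rw [smul_zero, map_zero, smul_zero]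
  | @homogeneous d y =>
    obtain ⟨ζ, hζ⟩ := hΞs d y.1 y.2
    rw [← hζ, ← map_smulₛₗ (Ξ d) a ζ, Theta_xi, Theta_xi, map_smul]
  | add h h' hh hh' => rw [smul_add, map_add, map_add, hh, hh', smul_add]

/-- the pairing -/
def bigPair (c : P) (h : IT.H mT nT) : k := Theta hpR hpS Ξ hΞi hΞm hΞs h (φ c)

theorem bigPair_xi (c : P) (d : ℤ) (ζ : (gamRes (asGr 𝒜) (selfRes I) mR d).cpx.H nR ⊗[k]
    (gamRes (asGr ℬ) (selfRes J) mS d).cpx.H nS) :
    bigPair (φ := φ) hpR hpS Ξ hΞi hΞm hΞs c (Ξ d ζ) = bigB hpR hpS d ζ (φ c) := by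
  unfold bigPair
  rw [Theta_xi]

include hΞt hP in
/-- the core of balancedness: multiplication by a preimage of a pure tensor -/
theorem bigPair_smul_pure (t : T) (j : ℤ) (a : R) (b : S) (ha : a ∈ 𝒜 j) (hb : b ∈ ℬ j)
    (ht : ψ t = a ⊗ₜ[k] b) (c : P) (h : IT.H mT nT) :
    bigPair (φ := φ) hpR hpS Ξ hΞi hΞm hΞs (t • c) h =
      bigPair (φ := φ) hpR hpS Ξ hΞi hΞm hΞs c (t • h) := by
  induction h using DirectSum.Decomposition.inductionOn (IT.Hgr mT nT) with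
  | zero =>
    unfold bigPair
    rw [smul_zero, map_zero, LinearMap.zero_apply, LinearMap.zero_apply]
  | @homogeneous d y =>
    obtain ⟨ζ, hζ⟩ := hΞs d y.1 y.2
    rw [← hζ, hΞt t j a b ha hb ht d ζ, bigPair_xi, bigPair_xi, bigB_mul, hP.map_smul, ht]
  | add h h' hh hh' =>
    unfold bigPair at hh hh' ⊢
    rw [smul_add, map_add, map_add, LinearMap.add_apply, LinearMap.add_apply, hh, hh']


include hT hΞt hP in
/-- the pairing is balanced over `T` -/
theorem bigPair_smul (t : T) (c : P) (h : IT.H mT nT) :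
    bigPair (φ := φ) hpR hpS Ξ hΞi hΞm hΞs (t • c) h =
      bigPair (φ := φ) hpR hpS Ξ hΞi hΞm hΞs c (t • h) := by
  let 𝔖 : Submodule k T :=
    { carrier := {t | ∀ (c : P) (h : IT.H mT nT),
        bigPair (φ := φ) hpR hpS Ξ hΞi hΞm hΞs (t • c) h =
          bigPair (φ := φ) hpR hpS Ξ hΞi hΞm hΞs c (t • h)}
      zero_mem' := fun c h => by
        unfold bigPair
        rw [zero_smul, zero_smul, map_zero, map_zero, map_zero, LinearMap.zero_apply]
      add_mem' := fun {t t'} ht ht' c h => by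
        have h1 := ht c h
        have h2 := ht' c h
        unfold bigPair at h1 h2 ⊢
        rw [add_smul, add_smul, map_add, map_add, map_add, LinearMap.add_apply, h1, h2]
      smul_mem' := fun a t ht c h => by
        have h1 := ht c h
        have e1 : (a • t) • h = algebraMap k T a • (t • h) := by
          rw [Algebra.smul_def, mul_smul]
        unfold bigPair at h1 ⊢
        rw [smul_assoc, map_smul, map_smul, h1, e1, Theta_algebraMap_smul,
          LinearMap.smul_apply] }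
  have hpiece : ∀ j, 𝒯 j ≤ 𝔖 := by
    intro j
    have h1 : (𝒯 j).map ψ.toLinearMap ≤ 𝔖.map ψ.toLinearMap := by
      rw [hT.2 j]
      apply Submodule.span_le.mpr
      rintro _ ⟨a, ha, b, hb, rfl⟩
      have h2 : a ⊗ₜ[k] b ∈ (𝒯 j).map ψ.toLinearMap := by
        rw [hT.2 j]
        exact Submodule.subset_span ⟨a, ha, b, hb, rfl⟩
      obtain ⟨t, _, ht⟩ := h2
      exact ⟨t, fun c h => bigPair_smul_pure hP hpR hpS Ξ hΞi hΞm hΞs hΞt t j a b ha hb ht c h, ht⟩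
    exact (Submodule.map_le_map_iff_of_injective (f := ψ.toLinearMap) hT.1 _ _).mp h1
  have hall : ∀ t : T, t ∈ 𝔖 := by
    intro t
    induction t using DirectSum.Decomposition.inductionOn 𝒯 with
    | zero => exact 𝔖.zero_mem
    | @homogeneous j y => exact hpiece j y.2
    | add t t' ht ht' => exact 𝔖.add_mem ht ht'
  exact hall t c h

variable [∀ d, Module.Finite k ((gamRes (asGr 𝒜) (selfRes I) mR d).cpx.H nR)]
  [∀ d, Module.Finite k ((gamRes (asGr ℬ) (selfRes J) mS d).cpx.H nS)]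

include hT hΞt hP in
/-- the pairing is perfect -/
theorem isPerfPair_bigPair :
    IsPerfPair 𝒯 𝒬 mT nT IT (bigPair (φ := φ) hpR hpS Ξ hΞi hΞm hΞs) where
  add_left c c' h := by
    unfold bigPair
    rw [map_add, map_add]
  add_right c h h' := by
    unfold bigPair
    rw [map_add, LinearMap.add_apply]
  smul := bigPair_smul hT hP hpR hpS Ξ hΞi hΞm hΞs hΞt
  smul_k a c h := by
    unfold bigPair
    rw [algebraMap_smul, map_smul, map_smul]
    rfl
  graded i d hid c hc h hh := by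
    obtain ⟨ζ, rfl⟩ := hΞs d h hh
    rw [bigPair_xi]
    apply bigB_graded hpR hpS i d hid
    rw [← SetLike.mem_coe, ← hP.image_piece i]
    exact ⟨c, hc, rfl⟩
  nondeg d h hh hz := by
    obtain ⟨ζ, rfl⟩ := hΞs d h hh
    have hζ : ζ = 0 := TP.eq_zero_of_forall (beta hpR d) (beta hpS d) (degK 𝒜 𝒞R (-d))
      (degK ℬ 𝒞S (-d)) (beta_nondeg hpR d) (beta_repr hpR d) (beta_nondeg hpS d)
      (beta_repr hpS d) ζ (fun w₁ hw₁ w₂ hw₂ => by
        have h1 : w₁ ⊗ₜ[k] w₂ ∈ (GrSeg.segrePiece k 𝒞R 𝒞S (-d) : Set (CR ⊗[k] CS)) :=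
          Submodule.subset_span ⟨w₁, hw₁, w₂, hw₂, rfl⟩
        rw [← hP.image_piece (-d)] at h1
        obtain ⟨c, hc, hcφ⟩ := h1
        have h2 := hz c hc
        rw [bigPair_xi, hcφ] at h2
        exact h2)
    rw [hζ, map_zero]
  repr d lam := by
    obtain ⟨g, hg⟩ := LinearMap.exists_leftInverse_of_injective φ
      (LinearMap.ker_eq_bot.mpr hP.injective)
    obtain ⟨ζ, hζ⟩ := TP.exists_repr (beta hpR d) (beta hpS d) (degK 𝒜 𝒞R (-d))
      (degK ℬ 𝒞S (-d)) (beta_nondeg hpR d) (beta_repr hpR d) (beta_nondeg hpS d)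
      (beta_repr hpS d) (lam.comp g)
    refine ⟨Ξ d ζ, hΞm d ζ, fun c hc => ?_⟩
    rw [bigPair_xi]
    have h1 : φ c ∈ GrSeg.segrePiece k 𝒞R 𝒞S (-d) := by
      rw [← SetLike.mem_coe, ← hP.image_piece (-d)]
      exact ⟨c, hc, rfl⟩
    have h2 : ∀ z ∈ GrSeg.segrePiece k 𝒞R 𝒞S (-d),
        bigB hpR hpS d ζ z = (lam.comp g) z := by
      intro z hz
      refine Submodule.span_induction
        (p := fun z _ => bigB hpR hpS d ζ z = (lam.comp g) z) ?_ ?_ ?_ ?_ hz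
      · rintro _ ⟨x, hx, y, hy, rfl⟩
        exact hζ x hx y hy
      · rw [map_zero, map_zero]
      · intro z z' _ _ hz hz'
        rw [map_add, map_add, hz, hz']
      · intro a z _ hz
        rw [map_smul, map_smul, hz]
    rw [h2 _ h1]
    show lam (g (φ c)) = lam c
    exact congrArg lam (LinearMap.congr_fun hg c)


end Abstract

end Groth.Agent.Lib.Helper8.Seg
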