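import Groth.Agent.Lib.Helper8Seg36
import Groth.Agent.Lib.Helper24SegreFin3

/-!
# `K_{R # S} ≅ K_R # K_S` (helper8)

The Segre product of *canonical modules of two graded `k`-algebras of dimensions `≥ 2` is a
*canonical module of the Segre product.
-/

set_option autoImplicit false
set_option linter.unusedSectionVars false
set_option linter.style.haveILetI false
universe u
open TensorProduct DirectSum Cardinal

noncomputable section

namespace Groth.Agent.Lib.Helper8.Seg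

open Groth.Agent.Lib.Helper29GrConv Groth.Agent.Lib.Helper29LCAcyclic Groth.Agent.Lib.Helper8.Kun
  Groth.Agent.Lib.Helper8.Kun.Cpx

section Main

variable {k : Type u} [Field k] {R S T : Type u} [CommRing R] [CommRing S] [CommRing T]
  [Algebra k R] [Algebra k S] [Algebra k T]
variable {𝒜 : ℤ → Submodule k R} [GradedAlgebra 𝒜] {ℬ : ℤ → Submodule k S} [GradedAlgebra ℬ]
  (𝒯 : ℤ → Submodule k T) [GradedAlgebra 𝒯] (ψ : T →ₐ[k] R ⊗[k] S)
  (hT : GrSeg.IsSegreRing 𝒜 ℬ 𝒯 ψ)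

include hT in
/-- a Segre module with perfect pairings on the two factors is a *canonical module of the Segre
product -/
theorem isStarCanonical_segre_of_perfPair [Nontrivial R] [Nontrivial S]
    (hposR : ∀ n : ℤ, n < 0 → 𝒜 n = ⊥) (h0R : 𝒜 0 = Submodule.span k {(1 : R)})
    [Algebra.FiniteType k R]
    (hposS : ∀ n : ℤ, n < 0 → ℬ n = ⊥) (h0S : ℬ 0 = Submodule.span k {(1 : S)})
    [Algebra.FiniteType k S]
    (hposT : ∀ n : ℤ, n < 0 → 𝒯 n = ⊥) (h0T : 𝒯 0 = Submodule.span k {(1 : T)})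
    (mR : HomogeneousIdeal 𝒜)
    (hmR : mR.toIdeal = Ideal.span (⋃ n ∈ Set.Ioi (0 : ℤ), (𝒜 n : Set R)))
    (I : GrLC.StarInjRes 𝒜 𝒜)
    (mS : HomogeneousIdeal ℬ)
    (hmS : mS.toIdeal = Ideal.span (⋃ n ∈ Set.Ioi (0 : ℤ), (ℬ n : Set S)))
    (J : GrLC.StarInjRes ℬ ℬ)
    (mT : HomogeneousIdeal 𝒯)
    (hmT : mT.toIdeal = Ideal.span (⋃ n ∈ Set.Ioi (0 : ℤ), (𝒯 n : Set T)))
    (IT : GrLC.StarInjRes 𝒯 𝒯) (p q : ℕ)
    (hr : ringKrullDim R = ((p + 1 : ℕ) : WithBot ℕ∞))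
    (hs : ringKrullDim S = ((q + 1 : ℕ) : WithBot ℕ∞)) (hp : 1 ≤ p) (hq : 1 ≤ q)
    {ET : Type u} [AddCommGroup ET] [Module T ET] (𝓔T : ℤ → AddSubgroup ET)
    [DirectSum.Decomposition 𝓔T] [SetLike.GradedSMul 𝒯 𝓔T] (eT : (T ⧸ mT.toIdeal) →ₗ[T] ET)
    (heT : GrLC.IsStarInjHull 𝒯 (GrLC.quotGr 𝒯 mT) 𝓔T eT)
    {CR : Type u} [AddCommGroup CR] [Module R CR] [Module k CR] [IsScalarTower k R CR]
    (𝒞R : ℤ → AddSubgroup CR) [DirectSum.Decomposition 𝒞R] [SetLike.GradedSMul 𝒜 𝒞R]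
    [Module.Finite R CR]
    {CS : Type u} [AddCommGroup CS] [Module S CS] [Module k CS] [IsScalarTower k S CS]
    (𝒞S : ℤ → AddSubgroup CS) [DirectSum.Decomposition 𝒞S] [SetLike.GradedSMul ℬ 𝒞S]
    [Module.Finite S CS]
    {P : Type u} [AddCommGroup P] [Module T P] [Module k P] [IsScalarTower k T P]
    (𝒬 : ℤ → AddSubgroup P) [DirectSum.Decomposition 𝒬] [SetLike.GradedSMul 𝒯 𝒬]
    (φ : P →ₗ[k] CR ⊗[k] CS) (hP : GrSeg.IsSegreMod ψ 𝒞R 𝒞S 𝒬 φ)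
    (pR : CR → I.H mR (p + 1) → k) (hpR : IsPerfPair 𝒜 𝒞R mR (p + 1) I pR)
    (pS : CS → J.H mS (q + 1) → k) (hpS : IsPerfPair ℬ 𝒞S mS (q + 1) J pS) :
    GrLC.IsStarCanonical 𝒯 𝒬 𝓔T mT (p + 1 + q) IT := by
  classical
  haveI : IsNoetherianRing R := Algebra.FiniteType.isNoetherianRing k R
  haveI : IsNoetherianRing S := Algebra.FiniteType.isNoetherianRing k S
  haveI : IsNoetherianRing T :=
    Groth.Agent.S18646.result k R 𝒜 hposR h0R S ℬ hposS h0S T 𝒯 ψ hT.1 hT.2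
  haveI : Nontrivial (R ⊗[k] S) :=
    Algebra.TensorProduct.nontrivial_of_algebraMap_injective_of_flat_left k R S
      (algebraMap k S).injective
  haveI : Nontrivial T := ψ.toRingHom.domain_nontrivial
  haveI : Module.Finite T P :=
    Groth.Agent.Lib.Helper24SegreFin3.s19747 k R 𝒜 hposR h0R S ℬ hposS h0S T 𝒯 ψ hT CR 𝒞R CS 𝒞S
      P 𝒬 φ hP
  have hkR := exists_algebraMap_of_span (𝒜 := 𝒜) h0R
  have hkS := exists_algebraMap_of_span (𝒜 := ℬ) h0S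
  have hvR : ∀ (d : ℤ) (i : ℕ), p + 1 < i → I.Hcomp mR i d = ⊥ := fun d i hi =>
    Groth.Agent.Lib.Helper8.GrCMk.Hcomp_eq_bot_of_dim_lt 𝒜 mR (p + 1) hr I i hi d
  have hvS : ∀ (d : ℤ) (i : ℕ), q + 1 < i → J.Hcomp mS i d = ⊥ := fun d i hi =>
    Groth.Agent.Lib.Helper8.GrCMk.Hcomp_eq_bot_of_dim_lt ℬ mS (q + 1) hs J i hi d
  obtain ⟨Ξ, hΞi, hΞm, hΞs, hΞt⟩ := exists_cross 𝒯 ψ hT hposR h0R hposS h0S mR hmR mS hmS mT hmT
    (asGr 𝒜) (selfRes I) (asGr ℬ) (selfRes J) (asGr 𝒯) ψ.toLinearMap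
    (isSegreMod_self 𝒯 ψ hT) (selfRes IT) (p + 1) q
    (fun d i hi => hvR d i (by omega)) (fun d i hi => hvS d i (by omega))
    (fun d i hi hne => by
      rcases Nat.lt_or_ge (p + 1) i with h1 | h1
      · exact Or.inl (hvR d i h1)
      · exact Or.inr (hvS d _ (by omega)))
  haveI hfinM : ∀ d, Module.Finite k ((gamRes (asGr 𝒜) (selfRes I) mR d).cpx.H (p + 1)) :=
    fun d => Module.rank_lt_aleph0_iff.mp (by
      rw [rank_gamSub_H (asGr 𝒜) (selfRes I) mR hkR (p + 1) d]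
      exact rank_Hcomp_lt_aleph0 (asGr 𝒜) (selfRes I) mR hposR hmR (p + 1) d)
  haveI hfinN : ∀ d, Module.Finite k ((gamRes (asGr ℬ) (selfRes J) mS d).cpx.H (q + 1)) :=
    fun d => Module.rank_lt_aleph0_iff.mp (by
      rw [rank_gamSub_H (asGr ℬ) (selfRes J) mS hkS (q + 1) d]
      exact rank_Hcomp_lt_aleph0 (asGr ℬ) (selfRes J) mS hposS hmS (q + 1) d)
  letI decH : DirectSum.Decomposition (IT.Hgr mT (p + 1 + q)) :=
    (isInternal_Hgr 𝒯 IT mT (p + 1 + q)).chooseDecomposition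
  exact isStarCanonical_of_perfPair 𝒯 hposT h0T 𝓔T 𝒬 mT hmT (p + 1 + q) IT eT heT
    (bigPair (φ := φ) hpR hpS Ξ hΞi hΞm hΞs)
    (isPerfPair_bigPair hT hP hpR hpS Ξ hΞi hΞm hΞs hΞt)

end Main

end Groth.Agent.Lib.Helper8.Seg
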