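import Groth.Agent.Lib.Helper8VerRing
import Groth.Agent.Lib.Helper8GrCanonDeg
import Groth.Agent.Lib.Helper29GrQuot
import Groth.Agent.Lib.Helper29GrShift
import Groth.Agent.Lib.Helper5GorEquidim
import Groth.Agent.S0299
import Groth.Agent.S13213
import Groth.Agent.S13244

/-!
# Tools for Gorenstein Veronese subrings (helper8)

* positivity and the degree-zero field of a Veronese subring;
* the irrelevant ideal of a positively graded ring over a field is *maximal and the ring is *local;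
* existence of a *injective hull of `R/m`;
* a Gorenstein graded ring over a field has the *canonical module `R(a)`;
* the number of generators of a graded module generated by its lowest piece.
-/

set_option autoImplicit false
set_option linter.style.haveILetI false
set_option linter.unusedSectionVars false
universe u
open DirectSum

noncomputable section

namespace Groth.Agent.Lib.Helper8.VerGor

open Groth.Agent.Lib.Helper8.Veronese Groth.Agent.Lib.Helper29GrShift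
  Groth.Agent.Lib.Helper29GrEss

section Ver

variable {R : Type u} [CommRing R] {𝒜 : ℤ → AddSubgroup R} [GradedRing 𝒜]
variable {R' : Type u} [CommRing R'] {𝒜' : ℤ → AddSubgroup R'} [GradedRing 𝒜']
variable (D : VerData 𝒜 𝒜') (hφ : Function.Injective D.φ)
  (hsurj : ∀ j : ℤ, ∀ x ∈ 𝒜 (j * D.q), ∃ a ∈ 𝒜' j, D.φ a = x)

include hφ in
theorem hpos_veronese (hpos : ∀ n : ℤ, n < 0 → 𝒜 n = ⊥) : ∀ n : ℤ, n < 0 → 𝒜' n = ⊥ := by
  intro k hk
  have hqz : (0 : ℤ) < D.q := by exact_mod_cast D.hq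
  rw [eq_bot_iff]
  intro x hx
  have h1 : D.φ x ∈ 𝒜 (k * D.q) := D.hdeg k x hx
  have h2 : D.φ x ∈ (⊥ : AddSubgroup R) := (hpos (k * D.q) (mul_neg_of_neg_of_pos hk hqz)) ▸ h1
  have h3 : D.φ x = 0 := AddSubgroup.mem_bot.mp h2
  exact AddSubgroup.mem_bot.mpr (hφ (h3.trans (map_zero D.φ).symm))

/-- The degree-zero ring map. -/
def deg0Hom : ↥(GrLC.deg0 𝒜') →+* ↥(GrLC.deg0 𝒜) :=
  D.φ.restrict (GrLC.deg0 𝒜') (GrLC.deg0 𝒜) (fun x hx => by
    have h : D.φ x ∈ 𝒜 ((0 : ℤ) * D.q) := D.hdeg 0 x hx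
    rw [zero_mul] at h
    exact h)

include hφ hsurj in
theorem deg0Hom_bijective : Function.Bijective (deg0Hom D) := by
  constructor
  · intro a b h
    exact Subtype.ext (hφ (congrArg Subtype.val h))
  · intro s
    obtain ⟨a, ha, has⟩ := hsurj 0 (s : R) (by rw [zero_mul]; exact s.2)
    exact ⟨⟨a, ha⟩, Subtype.ext has⟩

/-- The degree-zero ring isomorphism. -/
def deg0Equiv : ↥(GrLC.deg0 𝒜') ≃+* ↥(GrLC.deg0 𝒜) :=
  RingEquiv.ofBijective (deg0Hom D) (deg0Hom_bijective D hφ hsurj)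

theorem coe_deg0Equiv (t : ↥(GrLC.deg0 𝒜')) :
    ((deg0Equiv D hφ hsurj t : ↥(GrLC.deg0 𝒜)) : R) = D.φ (t : R') := rfl

include hφ hsurj in
theorem isField_deg0_veronese (h0 : IsField (GrLC.deg0 𝒜)) : IsField ↥(GrLC.deg0 𝒜') :=
  MulEquiv.isField h0 (deg0Equiv D hφ hsurj).toMulEquiv

end Ver

section Irr

variable {R : Type u} [CommRing R] (𝒜 : ℤ → AddSubgroup R) [GradedRing 𝒜]

/-- The irrelevant ideal, as a homogeneous ideal. -/
def irr : HomogeneousIdeal 𝒜 :=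
  ⟨Ideal.span (⋃ n ∈ Set.Ioi (0 : ℤ), (𝒜 n : Set R)), by
    apply Ideal.homogeneous_span
    intro x hx
    obtain ⟨n, _, hxn⟩ := Set.mem_iUnion₂.mp hx
    exact ⟨n, hxn⟩⟩

theorem irr_toIdeal :
    (irr 𝒜).toIdeal = Ideal.span (⋃ n ∈ Set.Ioi (0 : ℤ), (𝒜 n : Set R)) := rfl

variable (hpos : ∀ n : ℤ, n < 0 → 𝒜 n = ⊥) (h0 : IsField (GrLC.deg0 𝒜))
  (m : HomogeneousIdeal 𝒜)
  (hmsp : m.toIdeal = Ideal.span (⋃ n ∈ Set.Ioi (0 : ℤ), (𝒜 n : Set R)))

include hpos hmsp in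
/-- Elements of `R_+` have no multiples with a degree-zero component. -/
theorem decompose_zero_of_mem {x : R} (hx : x ∈ m.toIdeal) (r : R) :
    ((decompose 𝒜 (r * x)) 0 : R) = 0 := by
  rw [hmsp] at hx
  induction hx using Submodule.span_induction generalizing r with
  | mem s hs =>
    obtain ⟨n, hn, hsn⟩ := Set.mem_iUnion₂.mp hs
    have h1 := decompose_smul_of_mem_right 𝒜 𝒜 hsn r 0
    rw [smul_eq_mul] at h1
    rw [h1]
    have hn0 : (0 : ℤ) - n < 0 := by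
      have : 0 < n := hn
      omega
    have h2 : ((decompose 𝒜 r) (0 - n) : R) ∈ (⊥ : AddSubgroup R) :=
      (hpos _ hn0) ▸ SetLike.coe_mem _
    rw [AddSubgroup.mem_bot.mp h2, zero_smul]
  | zero => rw [mul_zero, DirectSum.decompose_zero]; rfl
  | add a b _ _ ha hb =>
    rw [mul_add, DirectSum.decompose_add, DirectSum.add_apply, AddSubgroup.coe_add, ha, hb,
      add_zero]
  | smul a b _ hb =>
    rw [smul_eq_mul, ← mul_assoc]
    exact hb (r * a)

include hpos h0 hmsp in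
theorem irr_ne_top : m.toIdeal ≠ ⊤ := by
  intro h
  have h1 : (1 : R) ∈ m.toIdeal := by rw [h]; trivial
  have h2 := decompose_zero_of_mem 𝒜 hpos m hmsp h1 1
  rw [mul_one, DirectSum.decompose_of_mem_same 𝒜 (SetLike.GradedOne.one_mem : (1 : R) ∈ 𝒜 0)] at h2
  have hnt : Nontrivial (GrLC.deg0 𝒜) := h0.nontrivial
  have h3 : (1 : GrLC.deg0 𝒜) = 0 := Subtype.ext h2
  exact one_ne_zero h3

include hpos h0 hmsp in
/-- Every proper homogeneous ideal lies in `R_+`. -/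
theorem le_irr_of_ne_top (J : Ideal R) (hJh : J.IsHomogeneous 𝒜) (hJ : J ≠ ⊤) :
    J ≤ m.toIdeal := by
  classical
  intro x hx
  rw [← DirectSum.sum_support_decompose 𝒜 x]
  apply Ideal.sum_mem
  intro i _
  have hxi : ((decompose 𝒜 x) i : R) ∈ J := hJh i hx
  rcases lt_trichotomy i 0 with hi | hi | hi
  · have h2 : ((decompose 𝒜 x) i : R) ∈ (⊥ : AddSubgroup R) := (hpos i hi) ▸ SetLike.coe_mem _
    rw [AddSubgroup.mem_bot.mp h2]
    exact zero_mem _
  · subst hi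
    by_contra hne
    have hne0 : ((decompose 𝒜 x) 0 : R) ≠ 0 := fun h => hne (h ▸ zero_mem _)
    have hne' : (⟨((decompose 𝒜 x) 0 : R), SetLike.coe_mem _⟩ : GrLC.deg0 𝒜) ≠ 0 :=
      fun h => hne0 (congrArg Subtype.val h)
    obtain ⟨s, hs⟩ := h0.mul_inv_cancel hne'
    have h1 : ((decompose 𝒜 x) 0 : R) * (s : R) = 1 := congrArg Subtype.val hs
    apply hJ
    rw [Ideal.eq_top_iff_one, ← h1]
    exact J.mul_mem_right _ hxi
  · rw [hmsp]
    exact Ideal.subset_span (Set.mem_iUnion₂.mpr ⟨i, hi, SetLike.coe_mem _⟩)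

include hpos h0 hmsp in
/-- A positively graded ring over a field is *local with *maximal ideal `R_+`. -/
theorem isStarLocal_of_span : GrLC.IsStarLocal 𝒜 m := by
  have hne : m ≠ ⊤ := by
    intro h
    apply irr_ne_top 𝒜 hpos h0 m hmsp
    rw [h, HomogeneousIdeal.toIdeal_top]
  have hle : ∀ J : HomogeneousIdeal 𝒜, J ≠ ⊤ → J ≤ m := by
    intro J hJ
    have hJ' : J.toIdeal ≠ ⊤ := by
      intro h
      apply hJ
      apply HomogeneousIdeal.toIdeal_injective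
      rw [h, HomogeneousIdeal.toIdeal_top]
    exact le_irr_of_ne_top 𝒜 hpos h0 m hmsp J.toIdeal J.isHomogeneous hJ'
  refine ⟨⟨hne, fun b hb => ?_⟩, fun n hn => ?_⟩
  · by_contra hbt
    exact absurd (hle b hbt) (not_le_of_gt hb)
  · have h1 : n ≤ m := hle n hn.1
    by_contra hnm
    have h2 : n < m := lt_of_le_of_ne h1 hnm
    exact hne (hn.2 m h2)

end Irr

section Hull

variable {R : Type u} [CommRing R] [IsNoetherianRing R] (𝒜 : ℤ → AddSubgroup R) [GradedRing 𝒜]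

theorem quotGr_eq (m : HomogeneousIdeal 𝒜) : GrLC.quotGr 𝒜 m =
    Groth.Agent.Lib.Helper29GrQuot.quotGr 𝒜 (m.toIdeal : Submodule R R) := by
  funext g
  ext x
  constructor
  · rintro ⟨r, hr, rfl⟩
    exact ⟨r, hr, rfl⟩
  · rintro ⟨r, hr, rfl⟩
    exact ⟨r, hr, rfl⟩

/-- Existence of a *injective hull of `R/m`. -/
theorem exists_starInjHull (m : HomogeneousIdeal 𝒜) :
    ∃ (E : GrLC.GMod.{u} 𝒜) (e : (R ⧸ m.toIdeal) →ₗ[R] E.carrier),
      GrLC.IsStarInjHull 𝒜 (GrLC.quotGr 𝒜 m) E.gr e := by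
  classical
  obtain ⟨E₀, i1, i2, f, hf⟩ := Groth.Agent.S0299.result R (R ⧸ m.toIdeal)
  haveI hinjmod : Module.Injective R E₀ := hf.isInjective
  have hp : (m.toIdeal : Submodule R R).IsHomogeneous 𝒜 := m.isHomogeneous
  letI decQ : DirectSum.Decomposition
      (Groth.Agent.Lib.Helper29GrQuot.quotGr 𝒜 (m.toIdeal : Submodule R R)) :=
    Groth.Agent.Lib.Helper29GrQuot.quotDecomposition 𝒜 _ hp
  haveI gsQ : SetLike.GradedSMul 𝒜
      (Groth.Agent.Lib.Helper29GrQuot.quotGr 𝒜 (m.toIdeal : Submodule R R)) :=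
    Groth.Agent.Lib.Helper29GrQuot.quot_gradedSMul 𝒜 _ 𝒜
  obtain ⟨E, e, he, -⟩ := Groth.Agent.S13213.result R 𝒜 (R ⧸ m.toIdeal)
    (Groth.Agent.Lib.Helper29GrQuot.quotGr 𝒜 (m.toIdeal : Submodule R R)) E₀ f hf.injective
  refine ⟨E, e, ?_⟩
  rw [quotGr_eq]
  exact he

end Hull

section Canon

variable {R : Type u} [CommRing R] (𝒜 : ℤ → AddSubgroup R) [GradedRing 𝒜]

/-- The shifted module `R(a)`, bundled. -/
def shiftMod (a : ℤ) : GrLC.GMod.{u} 𝒜 :=
  { carrier := R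
    gr := shiftGr 𝒜 a
    dec := shiftDecomposition 𝒜 a
    gsmul := shift_gradedSMul 𝒜 𝒜 a }

/-- A Gorenstein graded ring over a field has `R(a)` as a *canonical module, `a` its
a-invariant. -/
theorem isStarCanonical_shiftMod [hG : LocCoh.IsGorensteinRing R]
    (hpos : ∀ n : ℤ, n < 0 → 𝒜 n = ⊥) (h0 : IsField (GrLC.deg0 𝒜))
    (m : HomogeneousIdeal 𝒜) (hm : GrLC.IsStarLocal 𝒜 m)
    (hmsp : m.toIdeal = Ideal.span (⋃ n ∈ Set.Ioi (0 : ℤ), (𝒜 n : Set R)))
    (n : ℕ) (hn : ringKrullDim R = n) (I : GrLC.StarInjRes 𝒜 𝒜)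
    (E' : Type u) [AddCommGroup E'] [Module R E'] (𝓔 : ℤ → AddSubgroup E')
    [DirectSum.Decomposition 𝓔] [SetLike.GradedSMul 𝒜 𝓔]
    (e : (R ⧸ m.toIdeal) →ₗ[R] E') (he : GrLC.IsStarInjHull 𝒜 (GrLC.quotGr 𝒜 m) 𝓔 e) :
    ∃ a : ℤ, GrLC.IsStarCanonical 𝒜 (shiftMod 𝒜 a).gr 𝓔 m n I ∧
      GrLC.endDeg (I.Hgr m n) = ((a : WithTop ℤ) : WithBot (WithTop ℤ)) := by
  classical
  haveI hNoeth : IsNoetherianRing R := inferInstance
  haveI hCM : LocCoh.IsCohenMacaulayRing R :=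
    Groth.Agent.Lib.Helper5.GorUnmixed.isCohenMacaulayRing_of_isGorensteinRing R
  have hht : m.toIdeal.height = n :=
    Groth.Agent.Lib.Helper8.GrField.height_eq 𝒜 hpos h0 m hm hmsp n hn
  have hmne : m.toIdeal ≠ ⊤ := Groth.Agent.Lib.Helper29GrStarLocal.toIdeal_ne_top 𝒜 m hm
  obtain ⟨g₀, θ, hθ⟩ := Groth.Agent.S13244.result R 𝒜 m hm n hht I E' 𝓔 e he
  have hint := Groth.Agent.S13225.result R 𝒜 m R 𝒜 I n
  letI decH : DirectSum.Decomposition (I.Hgr m n) := hint.chooseDecomposition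
  letI decS : DirectSum.Decomposition (shiftGr 𝓔 g₀) := shiftDecomposition 𝓔 g₀
  let ψ : ((shiftMod 𝒜 (-g₀)).carrier →ₗ[R] E') ≃ₗ[R] I.H m n :=
    (LinearMap.ringLmapEquivSelf R R E').trans θ.symm
  have hψ : GrLC.IsGrHom (fun d => (GrLC.homDeg 𝒜 (shiftMod 𝒜 (-g₀)).gr 𝓔 d).toAddSubgroup)
      (I.Hgr m n) ψ.toLinearMap := by
    intro d f hf
    have hf' : GrLC.IsGrHomDeg (shiftGr 𝒜 (-g₀)) 𝓔 f d := hf
    have h1 : (1 : R) ∈ shiftGr 𝒜 (-g₀) g₀ := by
      show (1 : R) ∈ 𝒜 (g₀ + -g₀)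
      rw [add_neg_cancel]
      exact SetLike.GradedOne.one_mem
    have h2 : f (1 : R) ∈ 𝓔 (g₀ + d) := hf' g₀ (1 : R) h1
    show θ.symm (f (1 : R)) ∈ I.Hgr m n d
    refine Groth.Agent.Lib.Helper29GrTorsBound.mem_of_map_mem (I.Hgr m n) (shiftGr 𝓔 g₀)
      θ.toLinearMap (fun g x hx => hθ g x hx) θ.injective ?_
    show θ (θ.symm (f (1 : R))) ∈ 𝓔 (d + g₀)
    rw [LinearEquiv.apply_symm_apply, add_comm]
    exact h2
  have hC : GrLC.IsStarCanonical 𝒜 (shiftMod 𝒜 (-g₀)).gr 𝓔 m n I :=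
    ⟨Module.Finite.self R, ψ, hψ⟩
  refine ⟨-g₀, hC, ?_⟩
  have hid : GrLC.IsGrHomDeg 𝒜 (shiftMod 𝒜 (-g₀)).gr
      (LinearMap.id : R →ₗ[R] (shiftMod 𝒜 (-g₀)).carrier) g₀ := by
    intro g x hx
    show x ∈ 𝒜 (g + g₀ + -g₀)
    rw [add_neg_cancel_right]
    exact hx
  have := Groth.Agent.Lib.Helper8.GrCanonDeg.endDeg_eq 𝒜 hpos m hmne hmsp 𝓔 e he
    (shiftMod 𝒜 (-g₀)).gr n I hC LinearMap.id Function.bijective_id g₀ hid
  exact this

end Canon

section MinGen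

variable {R : Type u} [CommRing R] [IsNoetherianRing R] (𝒜 : ℤ → AddSubgroup R) [GradedRing 𝒜]
  (hpos : ∀ n : ℤ, n < 0 → 𝒜 n = ⊥)
  (m : HomogeneousIdeal 𝒜) [hmax : m.toIdeal.IsMaximal]
  (hmsp : m.toIdeal = Ideal.span (⋃ n ∈ Set.Ioi (0 : ℤ), (𝒜 n : Set R)))
  {C : Type u} [AddCommGroup C] [Module R C] (𝒞 : ℤ → AddSubgroup C)
  [DirectSum.Decomposition 𝒞] [SetLike.GradedSMul 𝒜 𝒞]
  (j₀ : ℤ) (hlow : ∀ j : ℤ, j < j₀ → 𝒞 j = ⊥)
  (hgen : Submodule.span R ((𝒞 j₀ : AddSubgroup C) : Set C) = ⊤)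

include hpos hmsp hlow in
/-- Elements of `m C` have no component in the lowest degree. -/
theorem decompose_low_of_mem_smul {c : C} (hc : c ∈ m.toIdeal • (⊤ : Submodule R C)) :
    ((decompose 𝒞 c) j₀ : C) = 0 := by
  induction hc using Submodule.smul_induction_on' with
  | smul r hr c' _ =>
    -- `(r c')_{j₀} = Σ_i r_i (c')_{j₀ - i}`; only `i = 0` could contribute, and `r_0 = 0`.
    have key : ∀ (r : R), r ∈ m.toIdeal → ∀ c' : C, ((decompose 𝒞 (r • c')) j₀ : C) = 0 := by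
      intro r hr c'
      induction c' using DirectSum.Decomposition.inductionOn 𝒞 with
      | zero => rw [smul_zero, DirectSum.decompose_zero]; rfl
      | @homogeneous i c' =>
        rw [decompose_smul_of_mem_right 𝒜 𝒞 c'.2 r j₀]
        rcases lt_trichotomy i j₀ with hi | hi | hi
        · have h2 : (c' : C) ∈ (⊥ : AddSubgroup C) := (hlow i hi) ▸ c'.2
          rw [AddSubgroup.mem_bot.mp h2, smul_zero]
        · subst hi
          rw [sub_self]
          have := decompose_zero_of_mem 𝒜 hpos m hmsp hr 1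
          rw [one_mul] at this
          rw [this, zero_smul]
        · have hneg : j₀ - i < 0 := by omega
          have h2 : ((decompose 𝒜 r) (j₀ - i) : R) ∈ (⊥ : AddSubgroup R) :=
            (hpos _ hneg) ▸ SetLike.coe_mem _
          rw [AddSubgroup.mem_bot.mp h2, zero_smul]
      | add a b ha hb =>
        rw [smul_add, DirectSum.decompose_add, DirectSum.add_apply, AddSubgroup.coe_add, ha, hb,
          add_zero]
    exact key r hr c'
  | add x _ y _ hx hy =>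
    rw [DirectSum.decompose_add, DirectSum.add_apply, AddSubgroup.coe_add, hx, hy, add_zero]

include hpos hmsp hlow hgen in
/-- The number of generators of a graded module generated by its lowest piece. -/
theorem finrank_tensor_of_generated :
    Module.finrank (R ⧸ m.toIdeal) (TensorProduct R (R ⧸ m.toIdeal) C) =
      Module.finrank (GrLC.deg0 𝒜) (GrLC.comp 𝒜 𝒞 j₀) := by
  classical
  let i₀ : ↥(GrLC.deg0 𝒜) →+* (R ⧸ m.toIdeal) :=
    (Ideal.Quotient.mk m.toIdeal).comp (GrLC.deg0 𝒜).subtype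
  have hmk : ∀ r : R, Ideal.Quotient.mk m.toIdeal r =
      Ideal.Quotient.mk m.toIdeal ((decompose 𝒜 r) 0 : R) := by
    intro r
    rw [Ideal.Quotient.eq]
    apply Groth.Agent.Lib.Helper8.GrField.mem_of_component_zero 𝒜 hpos m hmsp
    rw [DirectSum.decompose_sub, DirectSum.sub_apply, AddSubgroup.coe_sub,
      DirectSum.decompose_of_mem_same 𝒜 (SetLike.coe_mem ((decompose 𝒜 r) 0)), sub_self]
  have hi₀ : Function.Bijective i₀ := by
    constructor
    · rw [injective_iff_map_eq_zero]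
      intro t ht
      have h1 : (t : R) ∈ m.toIdeal := Ideal.Quotient.eq_zero_iff_mem.mp ht
      have h2 := decompose_zero_of_mem 𝒜 hpos m hmsp h1 1
      rw [one_mul, DirectSum.decompose_of_mem_same 𝒜 t.2] at h2
      exact Subtype.ext h2
    · intro x
      obtain ⟨r, rfl⟩ := Ideal.Quotient.mk_surjective x
      exact ⟨⟨((decompose 𝒜 r) 0 : R), SetLike.coe_mem _⟩, (hmk r).symm⟩
  let jfun : ↥(GrLC.comp 𝒜 𝒞 j₀) →+ TensorProduct R (R ⧸ m.toIdeal) C :=
    { toFun := fun w => (1 : R ⧸ m.toIdeal) ⊗ₜ[R] (w : C)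
      map_zero' := by
        show (1 : R ⧸ m.toIdeal) ⊗ₜ[R] (0 : C) = 0
        rw [TensorProduct.tmul_zero]
      map_add' := fun v w => by
        show (1 : R ⧸ m.toIdeal) ⊗ₜ[R] ((v : C) + (w : C)) = _
        rw [TensorProduct.tmul_add] }
  have hjinj : Function.Injective jfun := by
    rw [injective_iff_map_eq_zero]
    intro w hw
    have h1 : TensorProduct.quotTensorEquivQuotSMul C m.toIdeal
        ((Ideal.Quotient.mk m.toIdeal 1) ⊗ₜ[R] (w : C)) = 0 := by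
      have : (Ideal.Quotient.mk m.toIdeal 1) ⊗ₜ[R] (w : C) = jfun w := rfl
      rw [this, hw, map_zero]
    rw [TensorProduct.quotTensorEquivQuotSMul_mk_tmul, one_smul,
      Submodule.Quotient.mk_eq_zero] at h1
    have h2 := decompose_low_of_mem_smul 𝒜 hpos m hmsp 𝒞 j₀ hlow h1
    rw [DirectSum.decompose_of_mem_same 𝒞 w.2] at h2
    exact Subtype.ext h2
  have htmul : ∀ (r : R) (c : C), (Ideal.Quotient.mk m.toIdeal r) ⊗ₜ[R] c =
      (1 : R ⧸ m.toIdeal) ⊗ₜ[R] (r • c) := by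
    intro r c
    have h1 : Ideal.Quotient.mk m.toIdeal r = r • (1 : R ⧸ m.toIdeal) := by
      rw [Algebra.smul_def, mul_one, Ideal.Quotient.algebraMap_eq]
    rw [h1, TensorProduct.smul_tmul]
  have hjsurj : Function.Surjective jfun := by
    intro z
    have hrange : ∀ c : C, ∃ w, jfun w = (1 : R ⧸ m.toIdeal) ⊗ₜ[R] c := by
      intro c
      have hc : c ∈ Submodule.span R ((𝒞 j₀ : AddSubgroup C) : Set C) := by rw [hgen]; trivial
      induction hc using Submodule.span_induction with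
      | mem x hx => exact ⟨⟨x, hx⟩, rfl⟩
      | zero => exact ⟨0, by rw [map_zero, TensorProduct.tmul_zero]⟩
      | add a b _ _ ha hb =>
        obtain ⟨v, hv⟩ := ha
        obtain ⟨w, hw⟩ := hb
        exact ⟨v + w, by rw [map_add, hv, hw, TensorProduct.tmul_add]⟩
      | smul r x _ hx =>
        obtain ⟨v, hv⟩ := hx
        refine ⟨(⟨((decompose 𝒜 r) 0 : R), SetLike.coe_mem _⟩ : GrLC.deg0 𝒜) • v, ?_⟩
        show (1 : R ⧸ m.toIdeal) ⊗ₜ[R] (((decompose 𝒜 r) 0 : R) • (v : C)) = _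
        rw [← htmul, ← hmk, htmul]
        have hv' : (1 : R ⧸ m.toIdeal) ⊗ₜ[R] (v : C) = (1 : R ⧸ m.toIdeal) ⊗ₜ[R] x := hv
        rw [TensorProduct.tmul_smul, hv', ← TensorProduct.tmul_smul]
    induction z using TensorProduct.induction_on with
    | zero => exact ⟨0, map_zero _⟩
    | tmul t c =>
      obtain ⟨r, rfl⟩ := Ideal.Quotient.mk_surjective t
      rw [htmul]
      exact hrange _
    | add a b ha hb =>
      obtain ⟨v, hv⟩ := ha
      obtain ⟨w, hw⟩ := hb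
      exact ⟨v + w, by rw [map_add, hv, hw]⟩
  let j : ↥(GrLC.comp 𝒜 𝒞 j₀) ≃+ TensorProduct R (R ⧸ m.toIdeal) C :=
    AddEquiv.ofBijective jfun ⟨hjinj, hjsurj⟩
  have hc : ∀ (t : ↥(GrLC.deg0 𝒜)) (w : ↥(GrLC.comp 𝒜 𝒞 j₀)), j (t • w) = i₀ t • j w := by
    intro t w
    show (1 : R ⧸ m.toIdeal) ⊗ₜ[R] ((t : R) • (w : C)) =
      (Ideal.Quotient.mk m.toIdeal (t : R)) • ((1 : R ⧸ m.toIdeal) ⊗ₜ[R] (w : C))
    rw [TensorProduct.smul_tmul', smul_eq_mul, mul_one, htmul]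
  have hrank := rank_eq_of_equiv_equiv i₀ j hi₀ hc
  unfold Module.finrank
  rw [hrank]

end MinGen

end Groth.Agent.Lib.Helper8.VerGor
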