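import Groth.Agent.Lib.Helper8Seg37
import Groth.Agent.Lib.Helper8VerGor
import Groth.Agent.Lib.Helper29GrConv2
import Groth.Agent.S18638
import Groth.Agent.S18647

/-!
# The Segre product of Gorenstein graded rings with equal a-invariants (helper8)
-/

set_option autoImplicit false
set_option linter.unusedSectionVars false
set_option linter.style.haveILetI false
universe u
open TensorProduct DirectSum Cardinal

noncomputable section

namespace Groth.Agent.Lib.Helper8.Seg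

open Groth.Agent.Lib.Helper29GrConv Groth.Agent.Lib.Helper29GrConv2
  Groth.Agent.Lib.Helper29GrShift Groth.Agent.Lib.Helper8.GrCMk

section Shift

variable {k : Type u} [Field k] {R : Type u} [CommRing R] [Algebra k R]
  (𝒜 : ℤ → Submodule k R) [GradedAlgebra 𝒜]

/-- the shifted ring `R(a)` with `AddSubgroup`-valued pieces -/
abbrev shiftK (a : ℤ) : ℤ → AddSubgroup R := shiftGr (asGr 𝒜) a

theorem mem_shiftK {a n : ℤ} {x : R} : x ∈ shiftK 𝒜 a n ↔ x ∈ 𝒜 (n + a) := Iff.rfl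

scoped instance instDecShiftK (a : ℤ) : DirectSum.Decomposition (shiftK 𝒜 a) :=
  shiftDecomposition (asGr 𝒜) a

theorem gsmul_shiftK (a : ℤ) : SetLike.GradedSMul 𝒜 (shiftK 𝒜 a) where
  smul_mem := by
    intro i j x y hx hy
    show x * y ∈ 𝒜 (i + j + a)
    rw [add_assoc]
    exact SetLike.GradedMonoid.toGradedMul.mul_mem hx hy

scoped instance instGsmulShiftK (a : ℤ) : SetLike.GradedSMul 𝒜 (shiftK 𝒜 a) := gsmul_shiftK 𝒜 a

/-- existence of a *injective hull of `R/m` (gradings by `k`-subspaces) -/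
theorem exists_starInjHull_k [IsNoetherianRing R] (m : HomogeneousIdeal 𝒜) :
    ∃ (E : GrLC.GMod.{u} 𝒜) (e : (R ⧸ m.toIdeal) →ₗ[R] E.carrier),
      GrLC.IsStarInjHull 𝒜 (GrLC.quotGr 𝒜 m) E.gr e := by
  obtain ⟨E, e, he⟩ := Groth.Agent.Lib.Helper8.VerGor.exists_starInjHull (asGr 𝒜) (idealAS 𝒜 m)
  refine ⟨ofAS 𝒜 E, e, ?_⟩
  exact
    { injective := he.injective
      grHom := fun g x hx => he.grHom g x hx
      essential := he.essential
      starInj := isStarInj_ofAS 𝒜 E he.starInj }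

variable (hpos : ∀ n : ℤ, n < 0 → 𝒜 n = ⊥) (h0 : 𝒜 0 = Submodule.span k {(1 : R)})
  (m : HomogeneousIdeal 𝒜)
  (hmsp : m.toIdeal = Ideal.span (⋃ n ∈ Set.Ioi (0 : ℤ), (𝒜 n : Set R)))

include hpos h0 hmsp in
/-- a Gorenstein graded `k`-algebra has the *canonical module `R(a)`, `a` the a-invariant -/
theorem exists_isStarCanonical_shiftK [Nontrivial R] [LocCoh.IsGorensteinRing R] (n : ℕ)
    (hn : ringKrullDim R = ((n + 1 : ℕ) : WithBot ℕ∞)) (I : GrLC.StarInjRes 𝒜 𝒜)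
    {E' : Type u} [AddCommGroup E'] [Module R E'] (𝓔 : ℤ → AddSubgroup E')
    [DirectSum.Decomposition 𝓔] [SetLike.GradedSMul 𝒜 𝓔]
    (e : (R ⧸ m.toIdeal) →ₗ[R] E') (he : GrLC.IsStarInjHull 𝒜 (GrLC.quotGr 𝒜 m) 𝓔 e) :
    ∃ a : ℤ, GrLC.IsStarCanonical 𝒜 (shiftK 𝒜 a) 𝓔 m (n + 1) I ∧
      GrLC.endDeg (I.Hgr m (n + 1)) = ((a : WithTop ℤ) : WithBot (WithTop ℤ)) := by
  have hposA := asGr_pos 𝒜 hpos
  have hF := isField_deg0 𝒜 h0
  have hm := isStarLocal_asGr 𝒜 hpos h0 m hmsp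
  have he' := isStarInjHull_asGr 𝒜 𝓔 m e he
  have hmspA : (idealAS 𝒜 m).toIdeal =
      Ideal.span (⋃ n ∈ Set.Ioi (0 : ℤ), (asGr 𝒜 n : Set R)) := hmsp
  obtain ⟨a, ⟨hfin, φ, hφ⟩, ha⟩ := Groth.Agent.Lib.Helper8.VerGor.isStarCanonical_shiftMod (asGr 𝒜)
    hposA hF (idealAS 𝒜 m) hm hmspA (n + 1) hn (resAS I) E' 𝓔 e he'
  exact ⟨a, ⟨hfin, φ, fun d f hf => hφ d f hf⟩, ha⟩

end Shift

section Gor

variable {k : Type u} [Field k] {R S T : Type u} [CommRing R] [CommRing S] [CommRing T]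
  [Algebra k R] [Algebra k S] [Algebra k T]
variable {𝒜 : ℤ → Submodule k R} [GradedAlgebra 𝒜] {ℬ : ℤ → Submodule k S} [GradedAlgebra ℬ]
  (𝒯 : ℤ → Submodule k T) [GradedAlgebra 𝒯] (ψ : T →ₐ[k] R ⊗[k] S)
  (hT : GrSeg.IsSegreRing 𝒜 ℬ 𝒯 ψ)

include hT in
/-- `T(a)` is the Segre product of `R(a)` and `S(a)` -/
theorem isSegreMod_shiftK (a : ℤ) :
    GrSeg.IsSegreMod ψ (shiftK 𝒜 a) (shiftK ℬ a) (shiftK 𝒯 a) ψ.toLinearMap where
  injective := hT.1
  image_piece := fun n => by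
    have h := congrArg (fun W : Submodule k (R ⊗[k] S) => (W : Set (R ⊗[k] S))) (hT.2 (n + a))
    exact h
  map_smul := fun t p => by
    show ψ (t * p) = _
    rw [map_mul, act_self]
    rfl

include hT in
/-- the Segre product of Gorenstein graded rings of dimensions `≥ 2` with the same a-invariant is
Gorenstein as soon as it is Cohen–Macaulay -/
theorem isGorensteinRing_segre
    (hposR : ∀ n : ℤ, n < 0 → 𝒜 n = ⊥) (h0R : 𝒜 0 = Submodule.span k {(1 : R)})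
    [Algebra.FiniteType k R]
    (hposS : ∀ n : ℤ, n < 0 → ℬ n = ⊥) (h0S : ℬ 0 = Submodule.span k {(1 : S)})
    [Algebra.FiniteType k S]
    [LocCoh.IsGorensteinRing R] [LocCoh.IsGorensteinRing S]
    (mR : HomogeneousIdeal 𝒜)
    (hmR : mR.toIdeal = Ideal.span (⋃ n ∈ Set.Ioi (0 : ℤ), (𝒜 n : Set R)))
    (I : GrLC.StarInjRes 𝒜 𝒜)
    (mS : HomogeneousIdeal ℬ)
    (hmS : mS.toIdeal = Ideal.span (⋃ n ∈ Set.Ioi (0 : ℤ), (ℬ n : Set S)))
    (J : GrLC.StarInjRes ℬ ℬ) (r s : ℕ) (hr : ringKrullDim R = r) (hs : ringKrullDim S = s)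
    (h2r : 2 ≤ r) (h2s : 2 ≤ s)
    (haeq : GrLC.endDeg (I.Hgr mR r) = GrLC.endDeg (J.Hgr mS s))
    [LocCoh.IsCohenMacaulayRing T] : LocCoh.IsGorensteinRing T := by
  classical
  have hNtR : Nontrivial R := by
    by_contra hnt
    rw [not_nontrivial_iff_subsingleton] at hnt
    rw [ringKrullDim_eq_bot_of_subsingleton] at hr
    exact WithBot.bot_ne_coe hr
  have hNtS : Nontrivial S := by
    by_contra hnt
    rw [not_nontrivial_iff_subsingleton] at hnt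
    rw [ringKrullDim_eq_bot_of_subsingleton] at hs
    exact WithBot.bot_ne_coe hs
  have hNR : IsNoetherianRing R := Algebra.FiniteType.isNoetherianRing k R
  have hNS : IsNoetherianRing S := Algebra.FiniteType.isNoetherianRing k S
  have hNT : IsNoetherianRing T :=
    Groth.Agent.S18646.result k R 𝒜 hposR h0R S ℬ hposS h0S T 𝒯 ψ hT.1 hT.2
  have hNtRS : Nontrivial (R ⊗[k] S) :=
    Algebra.TensorProduct.nontrivial_of_algebraMap_injective_of_flat_left k R S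
      (algebraMap k S).injective
  have hNtT : Nontrivial T := ψ.toRingHom.domain_nontrivial
  have hposT := segre_pos 𝒯 ψ hT hposR
  have h0T := segre_zero 𝒯 ψ hT h0R h0S
  obtain ⟨r', rfl⟩ : ∃ r', r = r' + 1 := ⟨r - 1, by omega⟩
  obtain ⟨s', rfl⟩ : ∃ s', s = s' + 1 := ⟨s - 1, by omega⟩
  -- the data for `T`
  obtain ⟨IT⟩ := exists_res (𝒜 := 𝒯) (ℳ := 𝒯)
  have hmT : (irr 𝒯).toIdeal = Ideal.span (⋃ n ∈ Set.Ioi (0 : ℤ), (𝒯 n : Set T)) := irr_toIdeal 𝒯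
  -- *injective hulls
  obtain ⟨ER, eR, heR⟩ := exists_starInjHull_k 𝒜 mR
  obtain ⟨ES, eS, heS⟩ := exists_starInjHull_k ℬ mS
  obtain ⟨ET, eT, heT⟩ := exists_starInjHull_k 𝒯 (irr 𝒯)
  -- *canonical modules of the factors
  obtain ⟨a, hCR, haR⟩ := exists_isStarCanonical_shiftK 𝒜 hposR h0R mR hmR r' hr I ER.gr eR heR
  obtain ⟨b, hCS, hbS⟩ := exists_isStarCanonical_shiftK ℬ hposS h0S mS hmS s' hs J ES.gr eS heS
  have hab : a = b := by
    rw [haR, hbS] at haeq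
    exact WithTop.coe_injective (WithBot.coe_injective haeq)
  subst hab
  obtain ⟨pR, hpR⟩ := exists_perfPair 𝒜 hposR h0R ER.gr (shiftK 𝒜 a) mR hmR r' I eR heR hCR
  obtain ⟨pS, hpS⟩ := exists_perfPair ℬ hposS h0S ES.gr (shiftK ℬ a) mS hmS s' J eS heS hCS
  have hCT : GrLC.IsStarCanonical 𝒯 (shiftK 𝒯 a) ET.gr (irr 𝒯) (r' + 1 + s') IT :=
    isStarCanonical_segre_of_perfPair 𝒯 ψ hT hposR h0R hposS h0S hposT h0T mR hmR I mS hmS J
      (irr 𝒯) hmT IT r' s' hr hs (by omega) (by omega) ET.gr eT heT (shiftK 𝒜 a) (shiftK ℬ a)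
      (shiftK 𝒯 a) ψ.toLinearMap (isSegreMod_shiftK 𝒯 ψ hT a) pR hpR pS hpS
  have hq : r' + 1 + s' = (r' + s') + 1 := by omega
  rw [hq] at hCT
  have hCT' := isStarCanonical_asGr 𝒯 ET.gr (shiftK 𝒯 a) (irr 𝒯) (r' + s') IT hCT
  have hposA := asGr_pos 𝒯 hposT
  have hF := isField_deg0 𝒯 h0T
  have hm := isStarLocal_asGr 𝒯 hposT h0T (irr 𝒯) hmT
  have he' := isStarInjHull_asGr 𝒯 ET.gr (irr 𝒯) eT heT
  have hmspA : (idealAS 𝒯 (irr 𝒯)).toIdeal =
      Ideal.span (⋃ n ∈ Set.Ioi (0 : ℤ), (asGr 𝒯 n : Set T)) := hmT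
  have hdim : ringKrullDim T = ((r' + s' + 1 : ℕ) : WithBot ℕ∞) := by
    have h := Groth.Agent.S18647.result k R 𝒜 hposR h0R S ℬ hposS h0S T 𝒯 ψ hT.1 hT.2
      (r' + 1) (s' + 1) hr hs (by omega) (by omega)
    rw [h]
    congr 1
  haveI : SetLike.GradedSMul (asGr 𝒯) (shiftK 𝒯 a) := shift_gradedSMul (asGr 𝒯) (asGr 𝒯) a
  refine (Groth.Agent.S18638.result T (asGr 𝒯) hposA hF (idealAS 𝒯 (irr 𝒯)) hm hmspA
    (r' + s' + 1) hdim (resAS IT) ET.carrier ET.gr eT he' T (shiftK 𝒯 a) hCT').mpr ?_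
  refine ⟨-a, LinearMap.id, Function.bijective_id, ?_⟩
  intro g x hx
  show x ∈ 𝒯 (g + -a + a)
  rw [neg_add_cancel_right]
  exact hx

end Gor

end Groth.Agent.Lib.Helper8.Seg
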