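import Groth.Agent.Lib.Helper29GrSummand
import Groth.Agent.Lib.Helper29GrShiftInj
import Groth.Agent.Lib.Helper29GrBaer

/-!
# Splitting a *injective module along homogeneous elements (helper8)

For a *injective graded module `E` over a Noetherian graded ring and homogeneous elements
`f_1, …, f_r`, the identity of `E` is a sum of endomorphisms: a retraction onto the submodule of
elements that are `f_i`-power torsion for all `i`, and idempotents of the form `f_i • V`.
-/

set_option autoImplicit false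
set_option linter.unusedSectionVars false
set_option linter.style.haveILetI false
universe u
open DirectSum

noncomputable section

namespace Groth.Agent.Lib.Helper8.Seg

open Groth.Agent.Lib.Helper29GrSub Groth.Agent.Lib.Helper29GrSummand
  Groth.Agent.Lib.Helper29GrShift Groth.Agent.Lib.Helper29GrShiftInj Groth.Agent.Lib.Helper29GrEss

variable {R : Type u} [CommRing R] (𝒜 : ℤ → AddSubgroup R) [GradedRing 𝒜]
variable {E : Type u} [AddCommGroup E] [Module R E] (ℰ : ℤ → AddSubgroup E)
  [DirectSum.Decomposition ℰ] [SetLike.GradedSMul 𝒜 ℰ]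

/-- the elements that are `f`-power torsion for every `f` in the list -/
def tors (l : List R) : Submodule R E where
  carrier := {x | ∀ f ∈ l, ∃ n : ℕ, f ^ n • x = 0}
  zero_mem' := fun _ _ => ⟨0, smul_zero _⟩
  add_mem' := by
    intro x y hx hy f hf
    obtain ⟨n, hn⟩ := hx f hf
    obtain ⟨m, hm⟩ := hy f hf
    refine ⟨n + m, ?_⟩
    rw [smul_add, pow_add, mul_smul, mul_smul, hm, smul_zero, smul_comm, hn, smul_zero, add_zero]
  smul_mem' := by
    intro c x hx f hf
    obtain ⟨n, hn⟩ := hx f hf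
    exact ⟨n, by rw [smul_comm, hn, smul_zero]⟩

theorem mem_tors {l : List R} {x : E} : x ∈ tors (E := E) l ↔ ∀ f ∈ l, ∃ n : ℕ, f ^ n • x = 0 :=
  Iff.rfl

theorem tors_cons_le (f : R) (l : List R) : tors (E := E) (f :: l) ≤ tors l :=
  fun _ hx g hg => hx g (List.mem_cons_of_mem f hg)

theorem pow_mem_graded' {f : R} {a : ℤ} (hf : f ∈ 𝒜 a) (n : ℕ) : f ^ n ∈ 𝒜 (n • a) :=
  SetLike.pow_mem_graded n hf

include 𝒜 in
theorem tors_isHomogeneous (l : List R) (hl : ∀ f ∈ l, ∃ a, f ∈ 𝒜 a) :
    (tors (E := E) l).IsHomogeneous ℰ := by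
  intro e x hx f hf
  obtain ⟨n, hn⟩ := hx f hf
  obtain ⟨a, ha⟩ := hl f hf
  refine ⟨n, ?_⟩
  have h := decompose_smul_of_mem 𝒜 ℰ (pow_mem_graded' 𝒜 ha n) x (e + n • a)
  rw [hn, DirectSum.decompose_zero, add_sub_cancel_right] at h
  exact h.symm

section Div

include 𝒜 in
/-- If a homogeneous `f` acts injectively on a homogeneous submodule `C` of a *injective module
`E`, then some endomorphism `g` of `E` satisfies `g (f c) = c` on `C`. -/
theorem exists_div (hE : GrLC.IsStarInj 𝒜 ℰ) (C : Submodule R E) (hC : C.IsHomogeneous ℰ)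
    {f : R} {a : ℤ} (hf : f ∈ 𝒜 a) (hinj : ∀ c ∈ C, f • c = 0 → c = 0) :
    ∃ g : E →ₗ[R] E, ∀ c ∈ C, g (f • c) = c := by
  letI decC : DirectSum.Decomposition (subGr ℰ C) := subDecomposition ℰ C hC
  haveI gsC : SetLike.GradedSMul 𝒜 (subGr ℰ C) := sub_gradedSMul ℰ C 𝒜
  letI decC' : DirectSum.Decomposition (shiftGr (subGr ℰ C) (-a)) :=
    shiftDecomposition (subGr ℰ C) (-a)
  haveI gsC' : SetLike.GradedSMul 𝒜 (shiftGr (subGr ℰ C) (-a)) :=
    shift_gradedSMul 𝒜 (subGr ℰ C) (-a)
  let A : GrLC.GMod.{u} 𝒜 := GrLC.GMod.of 𝒜 ↥C (shiftGr (subGr ℰ C) (-a))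
  let B : GrLC.GMod.{u} 𝒜 := GrLC.GMod.of 𝒜 E ℰ
  have hE' := isStarInj_shift 𝒜 B (-a) hE
  let j : ↥C →ₗ[R] E := (LinearMap.lsmul R E f) ∘ₗ C.subtype
  have hj : GrLC.IsGrHom A.gr B.gr j := by
    intro e c hc
    have hc' : (c : E) ∈ ℰ (e + -a) := hc
    have h := SetLike.GradedSMul.smul_mem (A := 𝒜) (B := ℰ) hf hc'
    rw [vadd_eq_add, add_neg_cancel_comm_assoc] at h
    exact h
  have hjinj : Function.Injective j := by
    rw [injective_iff_map_eq_zero]
    intro c hc
    exact Subtype.ext (hinj c.1 c.2 hc)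
  have hφ : GrLC.IsGrHom A.gr (shiftGMod 𝒜 B (-a)).gr C.subtype := by
    intro e c hc
    exact hc
  obtain ⟨g, -, hg⟩ := hE' A B j hj hjinj C.subtype hφ
  refine ⟨g, fun c hc => ?_⟩
  exact LinearMap.congr_fun hg ⟨c, hc⟩

end Div

section Ess

variable [IsNoetherianRing R]

include 𝒜 in
/-- A *essential extension of `tors l` inside `E` is contained in `tors l`. -/
theorem le_tors_of_essOver (l : List R) (hl : ∀ f ∈ l, ∃ a, f ∈ 𝒜 a) (X : Submodule R E)
    (hX : EssOver ℰ (tors l) X) : X ≤ tors l := by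
  classical
  obtain ⟨hXhom, -, hess⟩ := hX
  -- homogeneous elements
  have key : ∀ (g : ℤ) (x : E), x ∈ X → x ∈ ℰ g → x ∈ tors (E := E) l := by
    intro g x hxX hxg f hf
    obtain ⟨a, ha⟩ := hl f hf
    let K : ℕ →o Submodule R R :=
      ⟨fun n => LinearMap.ker (LinearMap.toSpanSingleton R E (f ^ n • x)), by
        intro n m hnm r hr
        rw [LinearMap.mem_ker, LinearMap.toSpanSingleton_apply] at hr ⊢
        obtain ⟨d, rfl⟩ := Nat.exists_eq_add_of_le hnm
        rw [pow_add, mul_comm, mul_smul, smul_comm, hr, smul_zero]⟩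
    obtain ⟨n, hn⟩ := monotone_stabilizes_iff_noetherian.mpr inferInstance K
    refine ⟨n, ?_⟩
    by_contra hne
    have hyX : f ^ n • x ∈ X := X.smul_mem _ hxX
    have hyg : f ^ n • x ∈ ℰ (n • a + g) :=
      SetLike.GradedSMul.smul_mem (A := 𝒜) (B := ℰ) (pow_mem_graded' 𝒜 ha n) hxg
    obtain ⟨r, hr0, hrM⟩ := hess _ _ hyX hyg hne
    obtain ⟨m, hm⟩ := hrM f hf
    have h1 : r ∈ K (n + m) := by
      show r ∈ LinearMap.ker (LinearMap.toSpanSingleton R E (f ^ (n + m) • x))
      rw [LinearMap.mem_ker, LinearMap.toSpanSingleton_apply, pow_add, mul_comm, mul_smul,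
        smul_comm]
      exact hm
    have h2 : r ∈ K n := by
      rw [hn (n + m) (Nat.le_add_right n m)]
      exact h1
    have h3 : r • (f ^ n • x) = 0 := by
      have : r ∈ LinearMap.ker (LinearMap.toSpanSingleton R E (f ^ n • x)) := h2
      rwa [LinearMap.mem_ker, LinearMap.toSpanSingleton_apply] at this
    exact hr0 h3
  intro x hx
  rw [← DirectSum.sum_support_decompose ℰ x]
  refine Submodule.sum_mem _ fun e _ => ?_
  exact key e _ (hXhom e hx) (SetLike.coe_mem _)

include 𝒜 in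
/-- A homogeneous retraction of a *injective module onto `tors l`. -/
theorem exists_retraction (hE : GrLC.IsStarInj 𝒜 ℰ) (l : List R) (hl : ∀ f ∈ l, ∃ a, f ∈ 𝒜 a) :
    ∃ p : E →ₗ[R] E, GrLC.IsGrHom ℰ ℰ p ∧ (∀ x, p x ∈ tors (E := E) l) ∧
      ∀ x ∈ tors (E := E) l, p x = x := by
  obtain ⟨X, Q, h, hX, -, -, hh, hrange, hid⟩ :=
    exists_summand 𝒜 ℰ hE (tors l) (tors_isHomogeneous 𝒜 ℰ l hl)
  have hXle : X ≤ tors l := le_tors_of_essOver 𝒜 ℰ l hl X hX
  refine ⟨h, hh, fun x => hXle ?_, fun x hx => hid x (hX.2.1 hx)⟩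
  rw [← hrange]
  exact ⟨x, rfl⟩

end Ess

section Split

variable [IsNoetherianRing R]

/-- an endomorphism is good for `l` if it is an idempotent of the form `f • V` with `f ∈ l` -/
def IsGood (l : List R) (u : Module.End R E) : Prop :=
  IsIdempotentElem u ∧ ∃ f ∈ l, ∃ V : Module.End R E, u = f • V

theorem IsGood.mono {l : List R} {u : Module.End R E} (f : R) (h : IsGood l u) :
    IsGood (f :: l) u :=
  ⟨h.1, by
    obtain ⟨g, hg, V, hV⟩ := h.2
    exact ⟨g, List.mem_cons_of_mem f hg, V, hV⟩⟩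

include 𝒜 in
theorem exists_split_aux (hE : GrLC.IsStarInj 𝒜 ℰ) (l : List R) (hl : ∀ f ∈ l, ∃ a, f ∈ 𝒜 a) :
    ∃ (q : Module.End R E) (L : List (Module.End R E)), q + L.sum = 1 ∧
      GrLC.IsGrHom ℰ ℰ q ∧ (∀ x, q x ∈ tors (E := E) l) ∧ (∀ x ∈ tors (E := E) l, q x = x) ∧
      ∀ u ∈ L, IsGood l u := by
  induction l with
  | nil =>
    refine ⟨1, [], by rw [List.sum_nil, add_zero], fun _ _ hx => hx, fun x f hf => ?_,
      fun x _ => rfl, fun u hu => ?_⟩
    · exact absurd hf List.not_mem_nil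
    · exact absurd hu List.not_mem_nil
  | cons f l ih =>
    obtain ⟨q', L', hsum, hq'gr, hq'mem, hq'id, hL'⟩ :=
      ih (fun g hg => hl g (List.mem_cons_of_mem f hg))
    obtain ⟨p, hpgr, hpmem, hpid⟩ := exists_retraction 𝒜 ℰ hE (f :: l) hl
    obtain ⟨a, ha⟩ := hl f List.mem_cons_self
    -- the new idempotent
    let u : Module.End R E := q' - p * q'
    have hq'q' : q' * q' = q' := by
      apply LinearMap.ext
      intro x
      exact hq'id _ (hq'mem x)
    have hpp : p * p = p := by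
      apply LinearMap.ext
      intro x
      exact hpid _ (hpmem x)
    have hq'p : q' * p = p := by
      apply LinearMap.ext
      intro x
      exact hq'id _ (tors_cons_le f l (hpmem x))
    have hu_idem : IsIdempotentElem u := by
      show u * u = u
      show (q' - p * q') * (q' - p * q') = q' - p * q'
      have h1 : q' * (p * q') = p * q' := by rw [← mul_assoc, hq'p]
      have h2 : p * q' * q' = p * q' := by rw [mul_assoc, hq'q']
      have h3 : p * q' * (p * q') = p * q' := by
        rw [mul_assoc, h1, ← mul_assoc, hpp]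
      rw [sub_mul, mul_sub, mul_sub, hq'q', h1, h2, h3]
      abel
    have hu_mem : ∀ x, u x ∈ tors (E := E) l := by
      intro x
      show q' x - p (q' x) ∈ tors (E := E) l
      exact Submodule.sub_mem _ (hq'mem x) (tors_cons_le f l (hpmem _))
    let C : Submodule R E := LinearMap.range u
    have hugr : GrLC.IsGrHom ℰ ℰ u := by
      intro e x hx
      show q' x - p (q' x) ∈ ℰ e
      exact sub_mem (hq'gr e x hx) (hpgr e _ (hq'gr e x hx))
    have hChom : C.IsHomogeneous ℰ := by
      rintro e _ ⟨x, rfl⟩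
      refine ⟨((decompose ℰ x) e : E), ?_⟩
      exact (Groth.Agent.Lib.Helper29GrHom.decompose_map ℰ ℰ u hugr x e).symm
    have huC : ∀ c ∈ C, u c = c := by
      rintro _ ⟨x, rfl⟩
      show (u * u) x = u x
      rw [hu_idem.eq]
    have hinj : ∀ c ∈ C, f • c = 0 → c = 0 := by
      intro c hc hfc
      have hcl : c ∈ tors (E := E) l := by
        obtain ⟨x, rfl⟩ := hc
        exact hu_mem x
      have hcfl : c ∈ tors (E := E) (f :: l) := by
        intro g hg
        rcases List.mem_cons.mp hg with rfl | hg'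
        · exact ⟨1, by rw [pow_one]; exact hfc⟩
        · exact hcl g hg'
      have h1 : u c = 0 := by
        show q' c - p (q' c) = 0
        rw [hq'id c hcl, hpid c hcfl, sub_self]
      rw [← huC c hc, h1]
    obtain ⟨g, hg⟩ := exists_div 𝒜 ℰ hE C hChom ha hinj
    have hV : u = f • (u * g * u) := by
      apply LinearMap.ext
      intro x
      have hux : u x ∈ C := ⟨x, rfl⟩
      show u x = f • u (g (u x))
      rw [← map_smul, ← map_smul, hg (u x) hux, huC (u x) hux]
    refine ⟨p * q', u :: L', ?_, ?_, ?_, ?_, ?_⟩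
    · rw [List.sum_cons, ← add_assoc]
      show p * q' + (q' - p * q') + L'.sum = 1
      rw [add_sub_cancel, hsum]
    · intro e x hx
      exact hpgr e _ (hq'gr e x hx)
    · intro x
      exact hpmem _
    · intro x hx
      show p (q' x) = x
      rw [hq'id x (tors_cons_le f l hx), hpid x hx]
    · intro v hv
      rcases List.mem_cons.mp hv with rfl | hv'
      · exact ⟨hu_idem, f, List.mem_cons_self, u * g * u, hV⟩
      · exact (hL' v hv').mono f

include 𝒜 in
/-- The splitting: the identity of a *injective module is a sum of endomorphisms each of which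
either has image in `tors l` or is good. -/
theorem exists_split (hE : GrLC.IsStarInj 𝒜 ℰ) (l : List R) (hl : ∀ f ∈ l, ∃ a, f ∈ 𝒜 a) :
    ∃ L : List (Module.End R E), L.sum = 1 ∧
      ∀ u ∈ L, (∀ x, u x ∈ tors (E := E) l) ∨ IsGood l u := by
  obtain ⟨q, L, hsum, -, hq, -, hL⟩ := exists_split_aux 𝒜 ℰ hE l hl
  refine ⟨q :: L, by rw [List.sum_cons, hsum], fun u hu => ?_⟩
  rcases List.mem_cons.mp hu with rfl | hu'
  · exact Or.inl hq
  · exact Or.inr (hL u hu')

end Split

end Groth.Agent.Lib.Helper8.Seg
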