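import Groth.Agent.Lib.Helper8Seg41
import Groth.Agent.Lib.Helper24Segre2
import Groth.Agent.S18640

/-!
# The type of a Cohen–Macaulay Segre product of Gorenstein standard graded algebras (helper8)
-/

set_option autoImplicit false
set_option linter.unusedSectionVars false
set_option linter.style.haveILetI false
universe u
open TensorProduct DirectSum Cardinal

noncomputable section

namespace Groth.Agent.Lib.Helper8.Seg

open Groth.Agent.Lib.Helper29GrConv Groth.Agent.Lib.Helper29GrConv2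
  Groth.Agent.Lib.Helper29GrShift Groth.Agent.Lib.Helper8.GrCMk

section Residue

variable {k : Type u} [Field k] {T : Type u} [CommRing T] [Algebra k T]
  (𝒯 : ℤ → Submodule k T) [GradedAlgebra 𝒯]
  (hposT : ∀ n : ℤ, n < 0 → 𝒯 n = ⊥) (h0T : 𝒯 0 = Submodule.span k {(1 : T)})
  (mT : HomogeneousIdeal 𝒯)
  (hmT : mT.toIdeal = Ideal.span (⋃ n ∈ Set.Ioi (0 : ℤ), (𝒯 n : Set T)))

include hposT h0T hmT in
/-- the residue field of the irrelevant ideal is `k` -/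
theorem algebraMap_quot_bijective [IsNoetherianRing T] [mT.toIdeal.IsMaximal] :
    Function.Bijective (algebraMap k (T ⧸ mT.toIdeal)) := by
  classical
  letI : Field (T ⧸ mT.toIdeal) := Ideal.Quotient.field mT.toIdeal
  refine ⟨(algebraMap k (T ⧸ mT.toIdeal)).injective, fun κ => ?_⟩
  obtain ⟨t, rfl⟩ := Ideal.Quotient.mk_surjective κ
  have hposA := asGr_pos 𝒯 hposT
  have hmspA : (idealAS 𝒯 mT).toIdeal =
      Ideal.span (⋃ n ∈ Set.Ioi (0 : ℤ), (asGr 𝒯 n : Set T)) := hmT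
  obtain ⟨c, hc⟩ := exists_algebraMap_of_span (𝒜 := 𝒯) h0T ((decompose (asGr 𝒯) t) 0 : T)
    (SetLike.coe_mem _)
  refine ⟨c, ?_⟩
  have h1 : t - algebraMap k T c ∈ mT.toIdeal := by
    apply Groth.Agent.Lib.Helper8.GrField.mem_of_component_zero (asGr 𝒯) hposA (idealAS 𝒯 mT) hmspA
    rw [hc, DirectSum.decompose_sub, DirectSum.sub_apply, AddSubgroup.coe_sub,
      DirectSum.decompose_coe, DirectSum.of_eq_same, sub_self]
  rw [IsScalarTower.algebraMap_apply k T (T ⧸ mT.toIdeal)]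
  exact ((Ideal.Quotient.eq).mpr h1).symm

include hposT h0T hmT in
/-- the number of generators over the residue field and over `k` -/
theorem finrank_quot_tensor [IsNoetherianRing T] [mT.toIdeal.IsMaximal]
    {P : Type u} [AddCommGroup P] [Module T P] [Module k P] [IsScalarTower k T P] :
    Module.finrank (T ⧸ mT.toIdeal) ((T ⧸ mT.toIdeal) ⊗[T] P) =
      Module.finrank k (P ⧸ (mT.toIdeal • (⊤ : Submodule T P))) := by
  have hbij := algebraMap_quot_bijective 𝒯 hposT h0T mT hmT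
  let j : (P ⧸ (mT.toIdeal • (⊤ : Submodule T P))) ≃+ ((T ⧸ mT.toIdeal) ⊗[T] P) :=
    (TensorProduct.quotTensorEquivQuotSMul P mT.toIdeal).symm.toAddEquiv
  have hc : ∀ (c : k) (v : P ⧸ (mT.toIdeal • (⊤ : Submodule T P))),
      j (c • v) = algebraMap k (T ⧸ mT.toIdeal) c • j v := by
    intro c v
    have h1 : c • v = algebraMap k T c • v := (algebraMap_smul T c v).symm
    rw [h1]
    show (TensorProduct.quotTensorEquivQuotSMul P mT.toIdeal).symm (algebraMap k T c • v) = _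
    rw [map_smul, IsScalarTower.algebraMap_apply k T (T ⧸ mT.toIdeal)]
    exact (algebraMap_smul (T ⧸ mT.toIdeal) (algebraMap k T c) _).symm
  exact (congrArg Cardinal.toNat
    (rank_eq_of_equiv_equiv (algebraMap k (T ⧸ mT.toIdeal)) j hbij hc)).symm

end Residue

section BassType

variable {k : Type u} [Field k] {R S T : Type u} [CommRing R] [CommRing S] [CommRing T]
  [Algebra k R] [Algebra k S] [Algebra k T]
variable {𝒜 : ℤ → Submodule k R} [GradedAlgebra 𝒜] {ℬ : ℤ → Submodule k S} [GradedAlgebra ℬ]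
  (𝒯 : ℤ → Submodule k T) [GradedAlgebra 𝒯] (ψ : T →ₐ[k] R ⊗[k] S)
  (hT : GrSeg.IsSegreRing 𝒜 ℬ 𝒯 ψ)

include hT in
/-- the type of a Cohen–Macaulay Segre product of standard graded Gorenstein algebras -/
theorem bassNum_segre
    (hposR : ∀ n : ℤ, n < 0 → 𝒜 n = ⊥) (h0R : 𝒜 0 = Submodule.span k {(1 : R)})
    [Algebra.FiniteType k R]
    (hposS : ∀ n : ℤ, n < 0 → ℬ n = ⊥) (h0S : ℬ 0 = Submodule.span k {(1 : S)})
    [Algebra.FiniteType k S]
    [LocCoh.IsGorensteinRing R] [LocCoh.IsGorensteinRing S]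
    (mR : HomogeneousIdeal 𝒜)
    (hmR : mR.toIdeal = Ideal.span (⋃ n ∈ Set.Ioi (0 : ℤ), (𝒜 n : Set R)))
    (hstdR : Ideal.span (⋃ n ∈ Set.Ioi (0 : ℤ), (𝒜 n : Set R)) =
      Ideal.span ((𝒜 1 : Submodule k R) : Set R))
    (I : GrLC.StarInjRes 𝒜 𝒜)
    (mS : HomogeneousIdeal ℬ)
    (hmS : mS.toIdeal = Ideal.span (⋃ n ∈ Set.Ioi (0 : ℤ), (ℬ n : Set S)))
    (hstdS : Ideal.span (⋃ n ∈ Set.Ioi (0 : ℤ), (ℬ n : Set S)) =
      Ideal.span ((ℬ 1 : Submodule k S) : Set S))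
    (J : GrLC.StarInjRes ℬ ℬ) (r s : ℕ) (hr : ringKrullDim R = r) (hs : ringKrullDim S = s)
    (h2r : 2 ≤ r) (h2s : 2 ≤ s) (a b : ℤ)
    (ha : GrLC.endDeg (I.Hgr mR r) = ((a : WithTop ℤ) : WithBot (WithTop ℤ)))
    (hb : GrLC.endDeg (J.Hgr mS s) = ((b : WithTop ℤ) : WithBot (WithTop ℤ))) (hab : b ≤ a)
    [LocCoh.IsCohenMacaulayRing T] (mT : HomogeneousIdeal 𝒯) [mT.toIdeal.IsMaximal]
    (hmT : mT.toIdeal = Ideal.span (⋃ n ∈ Set.Ioi (0 : ℤ), (𝒯 n : Set T))) :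
    GrLC.bassNum mT.toIdeal T (r + s - 1) = (Module.finrank k (𝒜 (a - b)) : ℕ∞) := by
  classical
  have hNtR : Nontrivial R := by
    by_contra hnt
    rw [not_nontrivial_iff_subsingleton] at hnt
    rw [ringKrullDim_eq_bot_of_subsingleton] at hr
    exact WithBot.bot_ne_coe hr
  have hNtS : Nontrivial S := by
    by_contra hnt
    rw [not_nontrivial_iff_subsingleton] at hnt
    rw [ringKrullDim_eq_bot_of_subsingleton] at hs
    exact WithBot.bot_ne_coe hs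
  have hNR : IsNoetherianRing R := Algebra.FiniteType.isNoetherianRing k R
  have hNS : IsNoetherianRing S := Algebra.FiniteType.isNoetherianRing k S
  have hNT : IsNoetherianRing T :=
    Groth.Agent.S18646.result k R 𝒜 hposR h0R S ℬ hposS h0S T 𝒯 ψ hT.1 hT.2
  have hNtRS : Nontrivial (R ⊗[k] S) :=
    Algebra.TensorProduct.nontrivial_of_algebraMap_injective_of_flat_left k R S
      (algebraMap k S).injective
  have hNtT : Nontrivial T := ψ.toRingHom.domain_nontrivial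
  have hposT := segre_pos 𝒯 ψ hT hposR
  have h0T := segre_zero 𝒯 ψ hT h0R h0S
  obtain ⟨r', rfl⟩ : ∃ r', r = r' + 1 := ⟨r - 1, by omega⟩
  obtain ⟨s', rfl⟩ : ∃ s', s = s' + 1 := ⟨s - 1, by omega⟩
  obtain ⟨IT⟩ := exists_res (𝒜 := 𝒯) (ℳ := 𝒯)
  -- *injective hulls
  obtain ⟨ER, eR, heR⟩ := exists_starInjHull_k 𝒜 mR
  obtain ⟨ES, eS, heS⟩ := exists_starInjHull_k ℬ mS
  obtain ⟨ET, eT, heT⟩ := exists_starInjHull_k 𝒯 mT
  -- *canonical modules of the factors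
  obtain ⟨a', hCR, haR⟩ := exists_isStarCanonical_shiftK 𝒜 hposR h0R mR hmR r' hr I ER.gr eR heR
  obtain ⟨b', hCS, hbS⟩ := exists_isStarCanonical_shiftK ℬ hposS h0S mS hmS s' hs J ES.gr eS heS
  have haa : a' = a := by
    rw [haR] at ha
    exact WithTop.coe_injective (WithBot.coe_injective ha)
  have hbb : b' = b := by
    rw [hbS] at hb
    exact WithTop.coe_injective (WithBot.coe_injective hb)
  subst haa
  subst hbb
  obtain ⟨pR, hpR⟩ := exists_perfPair 𝒜 hposR h0R ER.gr (shiftK 𝒜 a') mR hmR r' I eR heR hCR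
  obtain ⟨pS, hpS⟩ := exists_perfPair ℬ hposS h0S ES.gr (shiftK ℬ b') mS hmS s' J eS heS hCS
  have hP := isSegreMod_segMod 𝒜 ℬ 𝒯 ψ hT (shiftK 𝒜 a') (shiftK ℬ b')
  have hCT : GrLC.IsStarCanonical 𝒯 (segGr 𝒜 ℬ 𝒯 ψ hT (shiftK 𝒜 a') (shiftK ℬ b')) ET.gr mT
      (r' + 1 + s') IT :=
    isStarCanonical_segre_of_perfPair 𝒯 ψ hT hposR h0R hposS h0S hposT h0T mR hmR I mS hmS J
      mT hmT IT r' s' hr hs (by omega) (by omega) ET.gr eT heT (shiftK 𝒜 a') (shiftK ℬ b')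
      (segGr 𝒜 ℬ 𝒯 ψ hT (shiftK 𝒜 a') (shiftK ℬ b'))
      (segPhi 𝒜 ℬ 𝒯 ψ hT (shiftK 𝒜 a') (shiftK ℬ b')) hP pR hpR pS hpS
  have hq : r' + 1 + s' = (r' + s') + 1 := by omega
  rw [hq] at hCT
  have hCT' := isStarCanonical_asGr 𝒯 ET.gr (segGr 𝒜 ℬ 𝒯 ψ hT (shiftK 𝒜 a') (shiftK ℬ b')) mT
    (r' + s') IT hCT
  have hposA := asGr_pos 𝒯 hposT
  have hF := isField_deg0 𝒯 h0T
  have hm := isStarLocal_asGr 𝒯 hposT h0T mT hmT
  have he' := isStarInjHull_asGr 𝒯 ET.gr mT eT heT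
  have hmspA : (idealAS 𝒯 mT).toIdeal =
      Ideal.span (⋃ n ∈ Set.Ioi (0 : ℤ), (asGr 𝒯 n : Set T)) := hmT
  have hdim : ringKrullDim T = ((r' + s' + 1 : ℕ) : WithBot ℕ∞) := by
    have h := Groth.Agent.S18647.result k R 𝒜 hposR h0R S ℬ hposS h0S T 𝒯 ψ hT.1 hT.2
      (r' + 1) (s' + 1) hr hs (by omega) (by omega)
    rw [h]
    congr 1
  haveI hmax : (idealAS 𝒯 mT).toIdeal.IsMaximal := ‹mT.toIdeal.IsMaximal›
  have h1 := (Groth.Agent.S18640.result T (asGr 𝒯) hposA hF (idealAS 𝒯 mT) hm hmspA (r' + s' + 1)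
    hdim (resAS IT) ET.carrier ET.gr eT he' (SegMod 𝒜 ℬ 𝒯 ψ hT (shiftK 𝒜 a') (shiftK ℬ b'))
    (segGr 𝒜 ℬ 𝒯 ψ hT (shiftK 𝒜 a') (shiftK ℬ b')) hCT').2
  have hidx : r' + 1 + (s' + 1) - 1 = r' + s' + 1 := by omega
  rw [hidx]
  refine Eq.trans h1 ?_
  congr 1
  have h2 := finrank_quot_tensor 𝒯 hposT h0T mT hmT
    (P := SegMod 𝒜 ℬ 𝒯 ψ hT (shiftK 𝒜 a') (shiftK ℬ b'))
  refine Eq.trans h2 ?_
  exact Groth.Agent.Lib.Helper24Segre2.s19750 k R 𝒜 hposR h0R S ℬ hposS h0S T 𝒯 ψ hT hstdR hstdS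
    (by rw [hr]; exact_mod_cast (by omega : 1 ≤ r' + 1))
    (by rw [hs]; exact_mod_cast (by omega : 1 ≤ s' + 1)) mT hmT a' b' hab
    (SegMod 𝒜 ℬ 𝒯 ψ hT (shiftK 𝒜 a') (shiftK ℬ b'))
    (segGr 𝒜 ℬ 𝒯 ψ hT (shiftK 𝒜 a') (shiftK ℬ b'))
    (segPhi 𝒜 ℬ 𝒯 ψ hT (shiftK 𝒜 a') (shiftK ℬ b'))
    ⟨hP.injective, fun n => hP.image_piece n, hP.map_smul⟩

end BassType

end Groth.Agent.Lib.Helper8.Seg
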