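import Groth.Agent.Lib.Helper8Seg2
import Groth.Agent.Lib.Helper8Seg3
import Groth.Agent.Lib.Helper8Seg4

/-!
# Acyclicity and torsion of `E ⊗ F` over the Segre product, for *injective `E`, `F` (helper8)
-/

set_option autoImplicit false
set_option linter.unusedSectionVars false
set_option linter.style.haveILetI false
universe u
open TensorProduct DirectSum

noncomputable section

namespace Groth.Agent.Lib.Helper8.Seg

open Groth.Agent.Lib.Helper29GrConv Groth.Agent.Lib.Helper29LCAcyclic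

section Gens

variable {R : Type u} [CommRing R] [IsNoetherianRing R] {σ : Type u} [SetLike σ R]
  [AddSubgroupClass σ R] (𝒜 : ℤ → σ) [GradedRing 𝒜] (m : HomogeneousIdeal 𝒜)
  (hm : m.toIdeal = Ideal.span (⋃ n ∈ Set.Ioi (0 : ℤ), (𝒜 n : Set R)))

include hm in
/-- a finite list of homogeneous generators of positive degrees of the irrelevant ideal -/
theorem exists_gens : ∃ l : List R, (∀ f ∈ l, ∃ a : ℤ, 0 < a ∧ f ∈ 𝒜 a) ∧
    Ideal.span {f | f ∈ l} = m.toIdeal := by
  classical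
  have hfg : (Ideal.span (⋃ n ∈ Set.Ioi (0 : ℤ), (𝒜 n : Set R))).FG :=
    (isNoetherianRing_iff_ideal_fg R).mp inferInstance _
  obtain ⟨s', hs's, hss'⟩ := (Submodule.fg_span_iff_fg_span_finset_subset _).mp hfg
  refine ⟨s'.toList, fun f hf => ?_, ?_⟩
  · have h1 : f ∈ (⋃ n ∈ Set.Ioi (0 : ℤ), (𝒜 n : Set R)) := hs's (Finset.mem_toList.mp hf)
    simp only [Set.mem_iUnion, Set.mem_Ioi, SetLike.mem_coe] at h1
    obtain ⟨a, ha, hfa⟩ := h1
    exact ⟨a, ha, hfa⟩
  · rw [hm]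
    have : {f | f ∈ s'.toList} = (s' : Set R) := by
      ext f
      simp
    rw [this]
    exact hss'.symm

theorem tors_eq_gam {E : Type u} [AddCommGroup E] [Module R E] (l : List R)
    (hl : Ideal.span {f | f ∈ l} = m.toIdeal) :
    tors (E := E) l = GrLC.gam m.toIdeal E := by
  apply le_antisymm
  · intro x hx
    have h1 : m.toIdeal ≤ Ideal.radical (LinearMap.ker (LinearMap.toSpanSingleton R E x)) := by
      rw [← hl, Ideal.span_le]
      intro f hf
      obtain ⟨n, hn⟩ := hx f hf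
      exact ⟨n, by rw [LinearMap.mem_ker, LinearMap.toSpanSingleton_apply]; exact hn⟩
    obtain ⟨N, hN⟩ := Ideal.exists_pow_le_of_le_radical_of_fg h1
      ((isNoetherianRing_iff_ideal_fg R).mp inferInstance _)
    refine ⟨N, fun r hr => ?_⟩
    have := hN hr
    rwa [LinearMap.mem_ker, LinearMap.toSpanSingleton_apply] at this
  · rintro x ⟨n, hn⟩ f hf
    have hfm : f ∈ m.toIdeal := by
      rw [← hl]
      exact Ideal.subset_span hf
    exact ⟨n, hn _ (Ideal.pow_mem_pow hfm n)⟩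

end Gens

section EndPow

variable {R : Type u} [CommRing R] {E : Type u} [AddCommGroup E] [Module R E]

theorem good_pow {u V : Module.End R E} {f : R} (hu : IsIdempotentElem u) (huV : u = f • V)
    (n : ℕ) (hn : 0 < n) : u = f ^ n • V ^ n := by
  obtain ⟨m, rfl⟩ := Nat.exists_eq_succ_of_ne_zero hn.ne'
  have h1 : u ^ (m + 1) = u := hu.pow_succ_eq m
  rw [← smul_pow, ← huV, h1]

end EndPow

variable {k : Type u} [Field k] {R S T : Type u} [CommRing R] [CommRing S] [CommRing T]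
  [Algebra k R] [Algebra k S] [Algebra k T]

section Closure

variable (ψ : T →ₐ[k] R ⊗[k] S) {X Y X' Y' : Type u}
  [AddCommGroup X] [Module R X] [Module k X] [IsScalarTower k R X]
  [AddCommGroup Y] [Module S Y] [Module k Y] [IsScalarTower k S Y]
  [AddCommGroup X'] [Module R X'] [Module k X'] [IsScalarTower k R X']
  [AddCommGroup Y'] [Module S Y'] [Module k Y'] [IsScalarTower k S Y']

theorem tpMap_list_mem (𝒩 : AddSubmonoid (TP ψ X Y →ₗ[T] TP ψ X' Y'))
    (L : List (X →ₗ[R] X')) (L' : List (Y →ₗ[S] Y'))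
    (h : ∀ u ∈ L, ∀ w ∈ L', tpMap ψ u w ∈ 𝒩) : tpMap ψ L.sum L'.sum ∈ 𝒩 := by
  have h1 : ∀ (u : X →ₗ[R] X'), (∀ w ∈ L', tpMap ψ u w ∈ 𝒩) → tpMap ψ u L'.sum ∈ 𝒩 := by
    intro u hu
    induction L' with
    | nil =>
      have : tpMap ψ u (0 : Y →ₗ[S] Y') = 0 := LinearMap.ext (tpMap_zero_right ψ u)
      rw [List.sum_nil, this]
      exact zero_mem _
    | cons w L' ih =>
      have : tpMap ψ u (w + L'.sum) = tpMap ψ u w + tpMap ψ u L'.sum :=
        LinearMap.ext (tpMap_add_right ψ u w L'.sum)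
      rw [List.sum_cons, this]
      exact add_mem (hu w List.mem_cons_self)
        (ih (fun u' hu' w' hw' => h u' hu' w' (List.mem_cons_of_mem w hw'))
          (fun w' hw' => hu w' (List.mem_cons_of_mem w hw')))
  induction L with
  | nil =>
    have : tpMap ψ (0 : X →ₗ[R] X') L'.sum = 0 := LinearMap.ext (tpMap_zero_left ψ L'.sum)
    rw [List.sum_nil, this]
    exact zero_mem _
  | cons u L ih =>
    have : tpMap ψ (u + L.sum) L'.sum = tpMap ψ u L'.sum + tpMap ψ L.sum L'.sum :=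
      LinearMap.ext (tpMap_add_left ψ u L.sum L'.sum)
    rw [List.sum_cons, this]
    exact add_mem (h1 u (fun w hw => h u List.mem_cons_self w hw))
      (ih (fun u' hu' w' hw' => h u' (List.mem_cons_of_mem u hu') w' hw'))

end Closure

section Main

variable (𝒜 : ℤ → Submodule k R) [GradedAlgebra 𝒜] (ℬ : ℤ → Submodule k S) [GradedAlgebra ℬ]
  (𝒯 : ℤ → Submodule k T) [GradedAlgebra 𝒯] (ψ : T →ₐ[k] R ⊗[k] S)
  (hT : GrSeg.IsSegreRing 𝒜 ℬ 𝒯 ψ)
  (mR : HomogeneousIdeal 𝒜)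
  (hmR : mR.toIdeal = Ideal.span (⋃ n ∈ Set.Ioi (0 : ℤ), (𝒜 n : Set R)))
  (mS : HomogeneousIdeal ℬ)
  (hmS : mS.toIdeal = Ideal.span (⋃ n ∈ Set.Ioi (0 : ℤ), (ℬ n : Set S)))
  (mT : HomogeneousIdeal 𝒯)
  (hmT : mT.toIdeal = Ideal.span (⋃ n ∈ Set.Ioi (0 : ℤ), (𝒯 n : Set T)))
variable {X Y : Type u} [AddCommGroup X] [Module R X] [Module k X] [IsScalarTower k R X]
  [AddCommGroup Y] [Module S Y] [Module k Y] [IsScalarTower k S Y]

/-- the annihilator in `R ⊗ S` of an element of `X ⊗ Y` -/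
def annTP (z : X ⊗[k] Y) : Ideal (R ⊗[k] S) where
  carrier := {b | GrSeg.act k R S X Y b z = 0}
  zero_mem' := by show GrSeg.act k R S X Y 0 z = 0; rw [map_zero, LinearMap.zero_apply]
  add_mem' := by
    intro b b' hb hb'
    show GrSeg.act k R S X Y (b + b') z = 0
    rw [map_add, LinearMap.add_apply, hb, hb', add_zero]
  smul_mem' := by
    intro c b hb
    show GrSeg.act k R S X Y (c • b) z = 0
    have hb' : GrSeg.act k R S X Y b z = 0 := hb
    rw [smul_eq_mul, ← actHom_apply, map_mul, Module.End.mul_apply, actHom_apply X Y b, hb',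
      map_zero]

theorem mem_annTP {z : X ⊗[k] Y} {b : R ⊗[k] S} :
    b ∈ annTP (R := R) (S := S) z ↔ GrSeg.act k R S X Y b z = 0 := Iff.rfl

include hT hmR hmT in
theorem psi_mem_map_left (n : ℕ) (t : T) (ht : t ∈ mT.toIdeal ^ n) :
    ψ t ∈ Ideal.map (Algebra.TensorProduct.includeLeft : R →ₐ[k] R ⊗[k] S) (mR.toIdeal ^ n) := by
  have h1 : mT.toIdeal ≤ Ideal.comap ψ
      (Ideal.map (Algebra.TensorProduct.includeLeft : R →ₐ[k] R ⊗[k] S) mR.toIdeal) := by
    rw [hmT, Ideal.span_le]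
    intro t ht
    simp only [Set.mem_iUnion, Set.mem_Ioi, SetLike.mem_coe] at ht
    obtain ⟨a, ha, hta⟩ := ht
    have hb : ψ t ∈ GrSeg.segrePiece k 𝒜 ℬ a := by
      rw [← hT.2 a]
      exact ⟨t, hta, rfl⟩
    have hle : GrSeg.segrePiece k 𝒜 ℬ a ≤ (Ideal.map
        (Algebra.TensorProduct.includeLeft : R →ₐ[k] R ⊗[k] S) mR.toIdeal).restrictScalars k := by
      unfold GrSeg.segrePiece
      rw [Submodule.span_le]
      rintro _ ⟨r, hr, s, hs, rfl⟩
      have hrm : r ∈ mR.toIdeal := by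
        rw [hmR]
        apply Ideal.subset_span
        simp only [Set.mem_iUnion, Set.mem_Ioi, SetLike.mem_coe]
        exact ⟨a, ha, hr⟩
      have h2 : r ⊗ₜ[k] s = (Algebra.TensorProduct.includeLeft : R →ₐ[k] R ⊗[k] S) r *
          ((1 : R) ⊗ₜ[k] s) := by
        rw [Algebra.TensorProduct.includeLeft_apply, Algebra.TensorProduct.tmul_mul_tmul,
          mul_one, one_mul]
      show r ⊗ₜ[k] s ∈ Ideal.map _ _
      rw [h2]
      exact Ideal.mul_mem_right _ _ (Ideal.mem_map_of_mem _ hrm)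
    exact hle hb
  have h2 := Ideal.pow_right_mono h1 n ht
  have h3 := Ideal.le_comap_pow (ψ : T →+* R ⊗[k] S) n h2
  rw [Ideal.mem_comap, ← Ideal.map_pow] at h3
  exact h3

include hT hmS hmT in
theorem psi_mem_map_right (n : ℕ) (t : T) (ht : t ∈ mT.toIdeal ^ n) :
    ψ t ∈ Ideal.map (Algebra.TensorProduct.includeRight : S →ₐ[k] R ⊗[k] S)
      (mS.toIdeal ^ n) := by
  have h1 : mT.toIdeal ≤ Ideal.comap ψ
      (Ideal.map (Algebra.TensorProduct.includeRight : S →ₐ[k] R ⊗[k] S) mS.toIdeal) := by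
    rw [hmT, Ideal.span_le]
    intro t ht
    simp only [Set.mem_iUnion, Set.mem_Ioi, SetLike.mem_coe] at ht
    obtain ⟨a, ha, hta⟩ := ht
    have hb : ψ t ∈ GrSeg.segrePiece k 𝒜 ℬ a := by
      rw [← hT.2 a]
      exact ⟨t, hta, rfl⟩
    have hle : GrSeg.segrePiece k 𝒜 ℬ a ≤ (Ideal.map
        (Algebra.TensorProduct.includeRight : S →ₐ[k] R ⊗[k] S) mS.toIdeal).restrictScalars k := by
      unfold GrSeg.segrePiece
      rw [Submodule.span_le]
      rintro _ ⟨r, hr, s, hs, rfl⟩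
      have hsm : s ∈ mS.toIdeal := by
        rw [hmS]
        apply Ideal.subset_span
        simp only [Set.mem_iUnion, Set.mem_Ioi, SetLike.mem_coe]
        exact ⟨a, ha, hs⟩
      have h2 : r ⊗ₜ[k] s = (Algebra.TensorProduct.includeRight : S →ₐ[k] R ⊗[k] S) s *
          (r ⊗ₜ[k] (1 : S)) := by
        rw [Algebra.TensorProduct.includeRight_apply, Algebra.TensorProduct.tmul_mul_tmul,
          mul_one, one_mul]
      show r ⊗ₜ[k] s ∈ Ideal.map _ _
      rw [h2]
      exact Ideal.mul_mem_right _ _ (Ideal.mem_map_of_mem _ hsm)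
    exact hle hb
  have h2 := Ideal.pow_right_mono h1 n ht
  have h3 := Ideal.le_comap_pow (ψ : T →+* R ⊗[k] S) n h2
  rw [Ideal.mem_comap, ← Ideal.map_pow] at h3
  exact h3

include 𝒜 ℬ 𝒯 hT hmR hmT in
/-- `Γ_m(X) ⊗ Y` is `T_+`-torsion -/
theorem mem_gam_of_left (z : TP ψ ↥(GrLC.gam mR.toIdeal X) Y) :
    z ∈ GrLC.gam mT.toIdeal (TP ψ ↥(GrLC.gam mR.toIdeal X) Y) := by
  induction z using TP_induction ψ with
  | zero => exact zero_mem _
  | add z w hz hw => exact add_mem hz hw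
  | tmul x y =>
    obtain ⟨n, hn⟩ := x.2
    refine ⟨n, fun t ht => ?_⟩
    apply ofTP_injective
    rw [ofTP_smul, ofTP_toTP, map_zero]
    have h1 := psi_mem_map_left 𝒜 ℬ 𝒯 ψ hT mR hmR mT hmT n t ht
    have h2 : Ideal.map (Algebra.TensorProduct.includeLeft : R →ₐ[k] R ⊗[k] S)
        (mR.toIdeal ^ n) ≤ annTP (R := R) (S := S) (x ⊗ₜ[k] y) := by
      rw [Ideal.map_le_iff_le_comap]
      intro r hr
      rw [Ideal.mem_comap, mem_annTP]
      show GrSeg.act k R S _ Y (r ⊗ₜ[k] (1 : S)) (x ⊗ₜ[k] y) = 0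
      rw [GrSeg.act_tmul]
      have : r • x = 0 := Subtype.ext (hn r hr)
      rw [this, TensorProduct.zero_tmul]
    exact h2 h1

include 𝒜 ℬ 𝒯 hT hmS hmT in
/-- `X ⊗ Γ_n(Y)` is `T_+`-torsion -/
theorem mem_gam_of_right (z : TP ψ X ↥(GrLC.gam mS.toIdeal Y)) :
    z ∈ GrLC.gam mT.toIdeal (TP ψ X ↥(GrLC.gam mS.toIdeal Y)) := by
  induction z using TP_induction ψ with
  | zero => exact zero_mem _
  | add z w hz hw => exact add_mem hz hw
  | tmul x y =>
    obtain ⟨n, hn⟩ := y.2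
    refine ⟨n, fun t ht => ?_⟩
    apply ofTP_injective
    rw [ofTP_smul, ofTP_toTP, map_zero]
    have h1 := psi_mem_map_right 𝒜 ℬ 𝒯 ψ hT mS hmS mT hmT n t ht
    have h2 : Ideal.map (Algebra.TensorProduct.includeRight : S →ₐ[k] R ⊗[k] S)
        (mS.toIdeal ^ n) ≤ annTP (R := R) (S := S) (x ⊗ₜ[k] y) := by
      rw [Ideal.map_le_iff_le_comap]
      intro s hs
      rw [Ideal.mem_comap, mem_annTP]
      show GrSeg.act k R S X _ ((1 : R) ⊗ₜ[k] s) (x ⊗ₜ[k] y) = 0
      rw [GrSeg.act_tmul]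
      have : s • y = 0 := Subtype.ext (hn s hs)
      rw [this, TensorProduct.tmul_zero]
    exact h2 h1

end Main

end Groth.Agent.Lib.Helper8.Seg
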