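import Groth.Agent.Lib.Helper8Seg5

/-!
# `E ⊗ F` is `Γ_{T_+}`-acyclic for *injective `E`, `F`; its torsion (helper8)
-/

set_option autoImplicit false
set_option linter.unusedSectionVars false
set_option linter.style.haveILetI false
universe u
open TensorProduct DirectSum

noncomputable section

namespace Groth.Agent.Lib.Helper8.Seg

open Groth.Agent.Lib.Helper29GrConv Groth.Agent.Lib.Helper29LCAcyclic

variable {k : Type u} [Field k] {R S T : Type u} [CommRing R] [CommRing S] [CommRing T]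
  [Algebra k R] [Algebra k S] [Algebra k T]

variable (𝒜 : ℤ → Submodule k R) [GradedAlgebra 𝒜] (ℬ : ℤ → Submodule k S) [GradedAlgebra ℬ]
  (𝒯 : ℤ → Submodule k T) [GradedAlgebra 𝒯] (ψ : T →ₐ[k] R ⊗[k] S)
  (hT : GrSeg.IsSegreRing 𝒜 ℬ 𝒯 ψ)
  (mR : HomogeneousIdeal 𝒜)
  (hmR : mR.toIdeal = Ideal.span (⋃ n ∈ Set.Ioi (0 : ℤ), (𝒜 n : Set R)))
  (mS : HomogeneousIdeal ℬ)
  (hmS : mS.toIdeal = Ideal.span (⋃ n ∈ Set.Ioi (0 : ℤ), (ℬ n : Set S)))
  (mT : HomogeneousIdeal 𝒯)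
  (hmT : mT.toIdeal = Ideal.span (⋃ n ∈ Set.Ioi (0 : ℤ), (𝒯 n : Set T)))
variable {E F : Type u} [AddCommGroup E] [Module R E] [Module k E] [IsScalarTower k R E]
  [AddCommGroup F] [Module S F] [Module k F] [IsScalarTower k S F]

include hT hmT in
theorem exists_T_elt {f : R} {a : ℤ} (ha : 0 < a) (hf : f ∈ 𝒜 a) {g : S} {b : ℤ} (hb : 0 < b)
    (hg : g ∈ ℬ b) : ∃ t ∈ mT.toIdeal, ψ t = (f ^ b.toNat) ⊗ₜ[k] (g ^ a.toNat) := by
  have h1 : f ^ b.toNat ∈ 𝒜 (a * b) := by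
    have h := SetLike.pow_mem_graded b.toNat hf
    rw [nsmul_eq_mul, Int.toNat_of_nonneg hb.le, mul_comm] at h
    exact h
  have h2 : g ^ a.toNat ∈ ℬ (a * b) := by
    have h := SetLike.pow_mem_graded a.toNat hg
    rw [nsmul_eq_mul, Int.toNat_of_nonneg ha.le] at h
    exact h
  have h3 : (f ^ b.toNat) ⊗ₜ[k] (g ^ a.toNat) ∈ GrSeg.segrePiece k 𝒜 ℬ (a * b) :=
    Submodule.subset_span ⟨_, h1, _, h2, rfl⟩
  rw [← hT.2 (a * b)] at h3
  obtain ⟨t, ht, hψt⟩ := h3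
  refine ⟨t, ?_, hψt⟩
  rw [hmT]
  apply Ideal.subset_span
  simp only [Set.mem_iUnion, Set.mem_Ioi, SetLike.mem_coe]
  exact ⟨a * b, mul_pos ha hb, ht⟩

include hT hmT in
/-- the tensor product of two good idempotents is an idempotent divisible by an element of
`T_+` -/
theorem good_good {lR : List R} (hlR : ∀ f ∈ lR, ∃ a : ℤ, 0 < a ∧ f ∈ 𝒜 a) {lS : List S}
    (hlS : ∀ g ∈ lS, ∃ b : ℤ, 0 < b ∧ g ∈ ℬ b) {u : Module.End R E} (hu : IsGood lR u)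
    {w : Module.End S F} (hw : IsGood lS w) :
    ∃ t ∈ mT.toIdeal, ∃ V : TP ψ E F →ₗ[T] TP ψ E F, (∀ z, tpMap ψ u w z = t • V z) ∧
      ∀ z, tpMap ψ u w (tpMap ψ u w z) = tpMap ψ u w z := by
  obtain ⟨hu1, f, hf, Vu, hVu⟩ := hu
  obtain ⟨hw1, g, hg, Vw, hVw⟩ := hw
  obtain ⟨a, ha, hfa⟩ := hlR f hf
  obtain ⟨b, hb, hgb⟩ := hlS g hg
  obtain ⟨t, ht, hψt⟩ := exists_T_elt 𝒜 ℬ 𝒯 ψ hT mT hmT ha hfa hb hgb
  have hbn : 0 < b.toNat := by
    have : ((b.toNat : ℕ) : ℤ) = b := Int.toNat_of_nonneg hb.le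
    omega
  have han : 0 < a.toNat := by
    have : ((a.toNat : ℕ) : ℤ) = a := Int.toNat_of_nonneg ha.le
    omega
  have hu2 := good_pow hu1 hVu b.toNat hbn
  have hw2 := good_pow hw1 hVw a.toNat han
  refine ⟨t, ht, tpMap ψ (Vu ^ b.toNat) (Vw ^ a.toNat), fun z => ?_, fun z => ?_⟩
  · rw [smul_eq_tpMap ψ hψt, tpMap_comp]
    have e1 : u = LinearMap.lsmul R E (f ^ b.toNat) ∘ₗ Vu ^ b.toNat := by
      conv_lhs => rw [hu2]
      rfl
    have e2 : w = LinearMap.lsmul S F (g ^ a.toNat) ∘ₗ Vw ^ a.toNat := by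
      conv_lhs => rw [hw2]
      rfl
    rw [← e1, ← e2]
  · rw [tpMap_comp]
    have e1 : u ∘ₗ u = u := hu1.eq
    have e2 : w ∘ₗ w = w := hw1.eq
    rw [e1, e2]

section Acyc

variable [IsNoetherianRing R] [IsNoetherianRing S] [IsNoetherianRing T]
variable (ℰ : ℤ → AddSubgroup E) [DirectSum.Decomposition ℰ] [SetLike.GradedSMul 𝒜 ℰ]
  (ℱ : ℤ → AddSubgroup F) [DirectSum.Decomposition ℱ] [SetLike.GradedSMul ℬ ℱ]

include 𝒜 hmR in
/-- the splitting of a *injective module over a `Submodule`-graded ring -/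
theorem exists_split' (hE : GrLC.IsStarInj 𝒜 ℰ) :
    ∃ lR : List R, (∀ f ∈ lR, ∃ a : ℤ, 0 < a ∧ f ∈ 𝒜 a) ∧
      ∃ L : List (Module.End R E), L.sum = 1 ∧
        ∀ u ∈ L, (∀ x, u x ∈ GrLC.gam mR.toIdeal E) ∨ IsGood lR u := by
  obtain ⟨lR, hlR, hspan⟩ := exists_gens 𝒜 mR hmR
  haveI gs : SetLike.GradedSMul (asGr 𝒜) ℰ :=
    ⟨fun {_ _ _ _} ha hb => SetLike.GradedSMul.smul_mem (A := 𝒜) (B := ℰ) ha hb⟩
  have hE' : GrLC.IsStarInj (asGr 𝒜) ℰ := isStarInj_toAS 𝒜 (GrLC.GMod.of 𝒜 E ℰ) hE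
  obtain ⟨L, hsum, hL⟩ := exists_split (asGr 𝒜) ℰ hE' lR (fun f hf => by
    obtain ⟨a, -, hfa⟩ := hlR f hf
    exact ⟨a, hfa⟩)
  refine ⟨lR, hlR, L, hsum, fun u hu => ?_⟩
  rcases hL u hu with h | h
  · left
    intro x
    rw [← tors_eq_gam 𝒜 mR lR hspan]
    exact h x
  · exact Or.inr h

include 𝒜 ℬ 𝒯 hT hmR hmS hmT in
/-- `E ⊗ F` is `Γ_{T_+}`-acyclic for *injective `E`, `F`. -/
theorem TP_acyclic (hE : GrLC.IsStarInj 𝒜 ℰ) (hF : GrLC.IsStarInj ℬ ℱ) (j : ℕ)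
    (x : LC mT.toIdeal (j + 1) (TP ψ E F)) : x = 0 := by
  obtain ⟨lR, hlR, LE, hLE, hLE'⟩ := exists_split' 𝒜 mR hmR ℰ hE
  obtain ⟨lS, hlS, LF, hLF, hLF'⟩ := exists_split' ℬ mS hmS ℱ hF
  let 𝒩 : AddSubmonoid (TP ψ E F →ₗ[T] TP ψ E F) :=
    { carrier := {U | ∀ x : LC mT.toIdeal (j + 1) (TP ψ E F), LCmap mT.toIdeal (j + 1) U x = 0}
      zero_mem' := fun x => LCmap_zero mT.toIdeal (j + 1) x
      add_mem' := fun {U U'} hU hU' x => by
        rw [LCmap_add, hU x, hU' x, add_zero] }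
  have hmem : tpMap ψ LE.sum LF.sum ∈ 𝒩 := by
    apply tpMap_list_mem
    intro u hu w hw
    rcases hLE' u hu with h1 | h1
    · -- `u` has torsion image
      intro x
      have hfac : tpMap ψ u w = tpMap ψ (GrLC.gam mR.toIdeal E).subtype (LinearMap.id : F →ₗ[S] F) ∘ₗ
          tpMap ψ (u.codRestrict (GrLC.gam mR.toIdeal E) h1) w := by
        apply LinearMap.ext
        intro z
        rw [LinearMap.comp_apply, tpMap_comp]
        rfl
      rw [hfac]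
      exact LCmap_eq_zero_of_factor mT.toIdeal (j + 1) _ _
        (LC_succ_eq_zero_of_torsion mT.toIdeal
          (mem_gam_of_left 𝒜 ℬ 𝒯 ψ hT mR hmR mT hmT) j) x
    · rcases hLF' w hw with h2 | h2
      · intro x
        have hfac : tpMap ψ u w = tpMap ψ (LinearMap.id : E →ₗ[R] E)
            (GrLC.gam mS.toIdeal F).subtype ∘ₗ
            tpMap ψ u (w.codRestrict (GrLC.gam mS.toIdeal F) h2) := by
          apply LinearMap.ext
          intro z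
          rw [LinearMap.comp_apply, tpMap_comp]
          rfl
        rw [hfac]
        exact LCmap_eq_zero_of_factor mT.toIdeal (j + 1) _ _
          (LC_succ_eq_zero_of_torsion mT.toIdeal
            (mem_gam_of_right 𝒜 ℬ 𝒯 ψ hT mS hmS mT hmT) j) x
      · intro x
        obtain ⟨t, ht, V, hV, hidem⟩ := good_good 𝒜 ℬ 𝒯 ψ hT mT hmT hlR hlS h1 h2
        exact LCmap_eq_zero_of_idem mT.toIdeal (j + 1) _ V t ht hV hidem x
  rw [hLE, hLF] at hmem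
  have hid : tpMap ψ (1 : Module.End R E) (1 : Module.End S F) = LinearMap.id :=
    LinearMap.ext (tpMap_id ψ)
  rw [hid] at hmem
  rw [← LCmap_id mT.toIdeal (j + 1) x]
  exact hmem x

include 𝒜 ℬ 𝒯 hT hmR hmS hmT in
/-- the `T_+`-torsion of `E ⊗ F` lies in `Γ_m(E) ⊗ F + E ⊗ Γ_n(F)`. -/
theorem mem_sup_of_mem_gam (hE : GrLC.IsStarInj 𝒜 ℰ) (hF : GrLC.IsStarInj ℬ ℱ)
    (z : TP ψ E F) (hz : z ∈ GrLC.gam mT.toIdeal (TP ψ E F)) :
    z ∈ LinearMap.range (tpMap ψ (GrLC.gam mR.toIdeal E).subtype (LinearMap.id : F →ₗ[S] F)) ⊔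
      LinearMap.range (tpMap ψ (LinearMap.id : E →ₗ[R] E) (GrLC.gam mS.toIdeal F).subtype) := by
  obtain ⟨lR, hlR, LE, hLE, hLE'⟩ := exists_split' 𝒜 mR hmR ℰ hE
  obtain ⟨lS, hlS, LF, hLF, hLF'⟩ := exists_split' ℬ mS hmS ℱ hF
  set W := LinearMap.range (tpMap ψ (GrLC.gam mR.toIdeal E).subtype (LinearMap.id : F →ₗ[S] F)) ⊔
      LinearMap.range (tpMap ψ (LinearMap.id : E →ₗ[R] E) (GrLC.gam mS.toIdeal F).subtype) with hW
  let 𝒩 : AddSubmonoid (TP ψ E F →ₗ[T] TP ψ E F) :=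
    { carrier := {U | U z ∈ W}
      zero_mem' := by
        show (0 : TP ψ E F →ₗ[T] TP ψ E F) z ∈ W
        rw [LinearMap.zero_apply]; exact zero_mem _
      add_mem' := fun {U U'} hU hU' => by
        show (U + U') z ∈ W
        rw [LinearMap.add_apply]; exact add_mem hU hU' }
  have hmem : tpMap ψ LE.sum LF.sum ∈ 𝒩 := by
    apply tpMap_list_mem
    intro u hu w hw
    rcases hLE' u hu with h1 | h1
    · show tpMap ψ u w z ∈ W
      have hfac : tpMap ψ u w z = tpMap ψ (GrLC.gam mR.toIdeal E).subtype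
          (LinearMap.id : F →ₗ[S] F) (tpMap ψ (u.codRestrict (GrLC.gam mR.toIdeal E) h1) w z) := by
        rw [tpMap_comp]
        rfl
      rw [hfac]
      exact Submodule.mem_sup_left ⟨_, rfl⟩
    · rcases hLF' w hw with h2 | h2
      · show tpMap ψ u w z ∈ W
        have hfac : tpMap ψ u w z = tpMap ψ (LinearMap.id : E →ₗ[R] E)
            (GrLC.gam mS.toIdeal F).subtype
            (tpMap ψ u (w.codRestrict (GrLC.gam mS.toIdeal F) h2) z) := by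
          rw [tpMap_comp]
          rfl
        rw [hfac]
        exact Submodule.mem_sup_right ⟨_, rfl⟩
      · show tpMap ψ u w z ∈ W
        obtain ⟨t, ht, V, hV, hidem⟩ := good_good 𝒜 ℬ 𝒯 ψ hT mT hmT hlR hlS h1 h2
        rw [idem_eq_zero_of_mem_gam mT.toIdeal _ V t ht hV hidem z hz]
        exact zero_mem _
  rw [hLE, hLF] at hmem
  have h1 : tpMap ψ (1 : Module.End R E) (1 : Module.End S F) z = z := tpMap_id ψ z
  have h2 : tpMap ψ (1 : Module.End R E) (1 : Module.End S F) z ∈ W := hmem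
  rwa [h1] at h2

end Acyc

end Groth.Agent.Lib.Helper8.Seg
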