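import Groth.Agent.Lib.Helper8Seg6
import Groth.Agent.Lib.Helper8Kun6

/-!
# The total complex of Segre products of two complexes of graded modules (helper8)
-/

set_option autoImplicit false
set_option linter.unusedSectionVars false
set_option linter.style.haveILetI false
universe u
open TensorProduct DirectSum

noncomputable section

namespace Groth.Agent.Lib.Helper8.Seg

open Groth.Agent.Lib.Helper29GrConv Groth.Agent.Lib.Helper29LCAcyclic Groth.Agent.Lib.Helper8.Kun
  Groth.Agent.Lib.Helper8.Kun.Cpx Groth.Agent.Lib.Helper24SegreFin Groth.Agent.Lib.Helper24SegreFin2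

variable {k : Type u} [Field k] {R S T : Type u} [CommRing R] [CommRing S] [CommRing T]
  [Algebra k R] [Algebra k S] [Algebra k T]

section GModK

variable {𝒜 : ℤ → Submodule k R} [GradedAlgebra 𝒜]

/-- the `k`-structure on a graded `R`-module -/
scoped instance gmodK (X : GrLC.GMod.{u} 𝒜) : Module k X.carrier :=
  Module.compHom X.carrier (algebraMap k R)

theorem gmodK_smul (X : GrLC.GMod.{u} 𝒜) (c : k) (x : X.carrier) :
    c • x = algebraMap k R c • x := rfl

scoped instance gmodK_tower (X : GrLC.GMod.{u} 𝒜) : IsScalarTower k R X.carrier :=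
  ⟨fun c r x => by
    show (c • r) • x = algebraMap k R c • (r • x)
    rw [Algebra.smul_def, mul_smul]⟩

end GModK

section Tot

variable {𝒜 : ℤ → Submodule k R} [GradedAlgebra 𝒜] {ℬ : ℤ → Submodule k S} [GradedAlgebra ℬ]
  (𝒯 : ℤ → Submodule k T) [GradedAlgebra 𝒯] (ψ : T →ₐ[k] R ⊗[k] S)
  (hT : GrSeg.IsSegreRing 𝒜 ℬ 𝒯 ψ)
variable (I : ℕ → GrLC.GMod.{u} 𝒜) (dI : ∀ p, (I p).carrier →ₗ[R] (I (p + 1)).carrier)
  (hdI : ∀ p, GrLC.IsGrHom (I p).gr (I (p + 1)).gr (dI p))
  (hddI : ∀ (p : ℕ) (x : (I p).carrier), dI (p + 1) (dI p x) = 0)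
variable (J : ℕ → GrLC.GMod.{u} ℬ) (dJ : ∀ q, (J q).carrier →ₗ[S] (J (q + 1)).carrier)
  (hdJ : ∀ q, GrLC.IsGrHom (J q).gr (J (q + 1)).gr (dJ q))
  (hddJ : ∀ (q : ℕ) (x : (J q).carrier), dJ (q + 1) (dJ q x) = 0)

/-- a complex of graded modules as a complex of vector spaces -/
def cpxK : Cpx k where
  X := fun p => (I p).carrier
  d := fun p => (dI p).restrictScalars k
  d_d := hddI

/-- the ambient `T`-module of the total complex -/
abbrev TotM : Type u := ∀ p q, TP ψ (I p).carrier (J q).carrier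

/-- forget the `T`-structure -/
def ofTotM : TotM ψ I J ≃ₗ[k] Tot (cpxK I dI hddI) (cpxK J dJ hddJ) where
  toFun f := fun p q => ofTP ψ _ _ (f p q)
  invFun f := fun p q => toTP ψ _ _ (f p q)
  left_inv _ := rfl
  right_inv _ := rfl
  map_add' _ _ := rfl
  map_smul' _ _ := rfl

theorem ofTotM_apply (f : TotM ψ I J) (p q : ℕ) :
    ofTotM ψ I dI hddI J dJ hddJ f p q = ofTP ψ _ _ (f p q) := rfl

theorem ofTotM_symm_apply (f : Tot (cpxK I dI hddI) (cpxK J dJ hddJ)) (p q : ℕ) :
    (ofTotM ψ I dI hddI J dJ hddJ).symm f p q = toTP ψ _ _ (f p q) := rfl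

/-- the total differential in terms of `T`-linear maps -/
theorem Dt_eq (f : TotM ψ I J) (p q : ℕ) :
    (ofTotM ψ I dI hddI J dJ hddJ).symm
      (Dt (cpxK I dI hddI) (cpxK J dJ hddJ) (ofTotM ψ I dI hddI J dJ hddJ f)) p q =
    (match p with
      | 0 => (0 : TP ψ (I 0).carrier (J q).carrier)
      | p' + 1 => tpMap ψ (dI p') (LinearMap.id : (J q).carrier →ₗ[S] (J q).carrier) (f p' q)) +
    (match q with
      | 0 => (0 : TP ψ (I p).carrier (J 0).carrier)
      | q' + 1 => ((-1 : k) ^ p) •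
          tpMap ψ (LinearMap.id : (I p).carrier →ₗ[R] (I p).carrier) (dJ q') (f p q')) := by
  rw [ofTotM_symm_apply, Dt_apply, map_add]
  congr 1
  · cases p with
    | zero => rfl
    | succ p => rfl
  · cases q with
    | zero => rfl
    | succ q => rfl

/-- the total differential as a `T`-linear map -/
def DtT : TotM ψ I J →ₗ[T] TotM ψ I J where
  toFun f := (ofTotM ψ I dI hddI J dJ hddJ).symm
    (Dt (cpxK I dI hddI) (cpxK J dJ hddJ) (ofTotM ψ I dI hddI J dJ hddJ f))
  map_add' f g := by rw [map_add, map_add, map_add]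
  map_smul' t f := by
    funext p q
    have h1 := Dt_eq ψ I dI hddI J dJ hddJ (t • f) p q
    have h2 := Dt_eq ψ I dI hddI J dJ hddJ f p q
    show (ofTotM ψ I dI hddI J dJ hddJ).symm (Dt (cpxK I dI hddI) (cpxK J dJ hddJ)
      (ofTotM ψ I dI hddI J dJ hddJ (t • f))) p q = t • ((ofTotM ψ I dI hddI J dJ hddJ).symm
      (Dt (cpxK I dI hddI) (cpxK J dJ hddJ) (ofTotM ψ I dI hddI J dJ hddJ f)) p q)
    rw [h1, h2, smul_add]
    congr 1
    · cases p with
      | zero => exact (smul_zero t).symm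
      | succ p =>
        show tpMap ψ (dI p) LinearMap.id (t • f p q) = t • tpMap ψ (dI p) LinearMap.id (f p q)
        rw [map_smul]
    · cases q with
      | zero => exact (smul_zero t).symm
      | succ q =>
        show ((-1 : k) ^ p) • tpMap ψ LinearMap.id (dJ q) (t • f p q) =
          t • (((-1 : k) ^ p) • tpMap ψ LinearMap.id (dJ q) (f p q))
        rw [map_smul, smul_comm]

theorem ofTotM_DtT (f : TotM ψ I J) :
    ofTotM ψ I dI hddI J dJ hddJ (DtT ψ I dI hddI J dJ hddJ f) =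
      Dt (cpxK I dI hddI) (cpxK J dJ hddJ) (ofTotM ψ I dI hddI J dJ hddJ f) := rfl

theorem DtT_DtT (f : TotM ψ I J) :
    DtT ψ I dI hddI J dJ hddJ (DtT ψ I dI hddI J dJ hddJ f) = 0 := by
  apply (ofTotM ψ I dI hddI J dJ hddJ).injective
  rw [ofTotM_DtT, ofTotM_DtT, Dt_Dt, map_zero]

end Tot

end Groth.Agent.Lib.Helper8.Seg
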