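import Groth.Agent.Lib.Helper8Seg7

/-!
# The total complex of Segre products as a complex of graded `T`-modules (helper8)
-/

set_option autoImplicit false
set_option linter.unusedSectionVars false
set_option linter.style.haveILetI false
universe u
open TensorProduct DirectSum

noncomputable section

namespace Groth.Agent.Lib.Helper8.Seg

open Groth.Agent.Lib.Helper29GrConv Groth.Agent.Lib.Helper29LCAcyclic Groth.Agent.Lib.Helper8.Kun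
  Groth.Agent.Lib.Helper8.Kun.Cpx Groth.Agent.Lib.Helper24SegreFin Groth.Agent.Lib.Helper24SegreFin2

variable {k : Type u} [Field k] {R S T : Type u} [CommRing R] [CommRing S] [CommRing T]
  [Algebra k R] [Algebra k S] [Algebra k T]

section Sum

variable {V : Type u} [AddCommGroup V] (𝒱 : ℤ → AddSubgroup V) (P : ℤ → V →+ V)

theorem mem_iSup_of_sum (h0 : ∀ e v, P e v ∈ 𝒱 e) (v : V) (s : Finset ℤ)
    (hs : ∑ e ∈ s, P e v = v) : v ∈ ⨆ e, 𝒱 e := by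
  rw [← hs]
  exact AddSubgroup.sum_mem _ fun e _ => (le_iSup 𝒱 e) (h0 e v)

end Sum

section Gen

variable (𝒜 : ℤ → Submodule k R) [GradedAlgebra 𝒜] (ℬ : ℤ → Submodule k S) [GradedAlgebra ℬ]
  (ψ : T →ₐ[k] R ⊗[k] S)
variable {X Y X' Y' : Type u}
  [AddCommGroup X] [Module R X] [Module k X] [IsScalarTower k R X]
  [AddCommGroup Y] [Module S Y] [Module k Y] [IsScalarTower k S Y]
  [AddCommGroup X'] [Module R X'] [Module k X'] [IsScalarTower k R X']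
  [AddCommGroup Y'] [Module S Y'] [Module k Y'] [IsScalarTower k S Y']
  (𝒳 : ℤ → AddSubgroup X) [DirectSum.Decomposition 𝒳] [SetLike.GradedSMul 𝒜 𝒳]
  (𝒴 : ℤ → AddSubgroup Y) [DirectSum.Decomposition 𝒴] [SetLike.GradedSMul ℬ 𝒴]
  (𝒳' : ℤ → AddSubgroup X') [DirectSum.Decomposition 𝒳'] [SetLike.GradedSMul 𝒜 𝒳']
  (𝒴' : ℤ → AddSubgroup Y') [DirectSum.Decomposition 𝒴'] [SetLike.GradedSMul ℬ 𝒴']

theorem tpMap_mem_piece (α : X →ₗ[R] X') (hα : GrLC.IsGrHom 𝒳 𝒳' α) (β : Y →ₗ[S] Y')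
    (hβ : GrLC.IsGrHom 𝒴 𝒴' β) {e : ℤ} {z : TP ψ X Y} (hz : z ∈ piece ψ 𝒳 𝒴 e) :
    tpMap ψ α β z ∈ piece ψ 𝒳' 𝒴' e := by
  refine piece_induction ψ 𝒳 𝒴 (motive := fun z => tpMap ψ α β z ∈ piece ψ 𝒳' 𝒴' e) hz ?_ ?_ ?_ ?_
  · intro x hx y hy
    rw [tpMap_toTP_tmul]
    exact tmul_mem_piece ψ 𝒳' 𝒴' (hα e x hx) (hβ e y hy)
  · rw [map_zero]; exact zero_mem _
  · intro z w hz hw
    rw [map_add]; exact add_mem hz hw
  · intro c z hz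
    have : tpMap ψ α β (c • z) = c • tpMap ψ α β z := by
      apply ofTP_injective
      rw [ofTP_tpMap, map_smul, map_smul, map_smul, ofTP_tpMap]
    rw [this]
    exact Submodule.smul_mem _ c hz

theorem tpMap_mem_segK (α : X →ₗ[R] X') (hα : GrLC.IsGrHom 𝒳 𝒳' α) (β : Y →ₗ[S] Y')
    (hβ : GrLC.IsGrHom 𝒴 𝒴' β) {z : TP ψ X Y} (hz : z ∈ segK ψ 𝒳 𝒴) :
    tpMap ψ α β z ∈ segK ψ 𝒳' 𝒴' := by
  refine Submodule.iSup_induction (fun e => piece ψ 𝒳 𝒴 e)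
    (motive := fun z => tpMap ψ α β z ∈ segK ψ 𝒳' 𝒴') hz ?_ ?_ ?_
  · intro e w hw
    exact piece_le_segK ψ 𝒳' 𝒴' e (tpMap_mem_piece ψ 𝒳 𝒴 𝒳' 𝒴' α hα β hβ hw)
  · rw [map_zero]; exact zero_mem _
  · intro x y hx hy
    rw [map_add]; exact add_mem hx hy

theorem exists_finset_sum_P {z : TP ψ X Y} (hz : z ∈ segK ψ 𝒳 𝒴) :
    ∃ s : Finset ℤ, ∀ s' : Finset ℤ, s ⊆ s' → ∑ e ∈ s', P 𝒜 ℬ ψ 𝒳 𝒴 e z = z := by
  classical
  refine Submodule.iSup_induction (fun e => piece ψ 𝒳 𝒴 e)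
    (motive := fun z => ∃ s : Finset ℤ, ∀ s' : Finset ℤ, s ⊆ s' →
      ∑ e ∈ s', P 𝒜 ℬ ψ 𝒳 𝒴 e z = z) hz ?_ ?_ ?_
  · intro e0 w hw
    refine ⟨{e0}, fun s' hs' => ?_⟩
    rw [Finset.sum_eq_single e0]
    · exact P_of_mem_same 𝒜 ℬ ψ 𝒳 𝒴 hw
    · intro e _ hne
      exact P_of_mem_ne 𝒜 ℬ ψ 𝒳 𝒴 (Ne.symm hne) hw
    · intro h
      exact absurd (hs' (Finset.mem_singleton_self e0)) h
  · exact ⟨∅, fun s' _ => by simp⟩
  · rintro x y ⟨s1, h1⟩ ⟨s2, h2⟩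
    refine ⟨s1 ∪ s2, fun s' hs' => ?_⟩
    simp only [map_add, Finset.sum_add_distrib]
    rw [h1 s' (Finset.union_subset_left hs'), h2 s' (Finset.union_subset_right hs')]

end Gen

section Tot

variable {𝒜 : ℤ → Submodule k R} [GradedAlgebra 𝒜] {ℬ : ℤ → Submodule k S} [GradedAlgebra ℬ]
  (𝒯 : ℤ → Submodule k T) [GradedAlgebra 𝒯] (ψ : T →ₐ[k] R ⊗[k] S)
  (hT : GrSeg.IsSegreRing 𝒜 ℬ 𝒯 ψ)
variable (I : ℕ → GrLC.GMod.{u} 𝒜) (dI : ∀ p, (I p).carrier →ₗ[R] (I (p + 1)).carrier)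
  (hdI : ∀ p, GrLC.IsGrHom (I p).gr (I (p + 1)).gr (dI p))
  (hddI : ∀ (p : ℕ) (x : (I p).carrier), dI (p + 1) (dI p x) = 0)
variable (J : ℕ → GrLC.GMod.{u} ℬ) (dJ : ∀ q, (J q).carrier →ₗ[S] (J (q + 1)).carrier)
  (hdJ : ∀ q, GrLC.IsGrHom (J q).gr (J (q + 1)).gr (dJ q))
  (hddJ : ∀ (q : ℕ) (x : (J q).carrier), dJ (q + 1) (dJ q x) = 0)

include hT in
/-- the elements of total degree `n` of the total complex of Segre products -/
def totSub (n : ℕ) : Submodule T (TotM ψ I J) where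
  carrier := {f | (∀ p q, p + q ≠ n → f p q = 0) ∧ ∀ p q, f p q ∈ segK ψ (I p).gr (J q).gr}
  zero_mem' := ⟨fun _ _ _ => rfl, fun _ _ => zero_mem _⟩
  add_mem' := by
    rintro f g ⟨hf1, hf2⟩ ⟨hg1, hg2⟩
    refine ⟨fun p q h => ?_, fun p q => add_mem (hf2 p q) (hg2 p q)⟩
    show f p q + g p q = 0
    rw [hf1 p q h, hg1 p q h, add_zero]
  smul_mem' := by
    rintro t f ⟨hf1, hf2⟩
    refine ⟨fun p q h => ?_, fun p q => smul_mem_segK 𝒜 ℬ 𝒯 ψ hT _ _ t (f p q) (hf2 p q)⟩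
    show t • f p q = 0
    rw [hf1 p q h, smul_zero]

theorem mem_totSub {n : ℕ} {f : TotM ψ I J} : f ∈ totSub 𝒯 ψ hT I J n ↔
    (∀ p q, p + q ≠ n → f p q = 0) ∧ ∀ p q, f p q ∈ segK ψ (I p).gr (J q).gr := Iff.rfl

/-- the pieces of the total complex -/
def totGr (n : ℕ) (e : ℤ) : AddSubgroup ↥(totSub 𝒯 ψ hT I J n) where
  carrier := {f | ∀ p q, f.1 p q ∈ piece ψ (I p).gr (J q).gr e}
  zero_mem' := fun _ _ => zero_mem _
  add_mem' := fun hf hg p q => add_mem (hf p q) (hg p q)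
  neg_mem' := fun hf p q => neg_mem (hf p q)

theorem mem_totGr {n : ℕ} {e : ℤ} {f : ↥(totSub 𝒯 ψ hT I J n)} :
    f ∈ totGr 𝒯 ψ hT I J n e ↔ ∀ p q, f.1 p q ∈ piece ψ (I p).gr (J q).gr e := Iff.rfl

/-- the projection onto the degree `e` piece of the total complex -/
def totP (n : ℕ) (e : ℤ) : ↥(totSub 𝒯 ψ hT I J n) →+ ↥(totSub 𝒯 ψ hT I J n) where
  toFun f := ⟨fun p q => P 𝒜 ℬ ψ (I p).gr (J q).gr e (f.1 p q), fun p q h => by
      show P 𝒜 ℬ ψ (I p).gr (J q).gr e (f.1 p q) = 0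
      rw [f.2.1 p q h, map_zero],
    fun p q => piece_le_segK ψ _ _ e (P_mem_piece 𝒜 ℬ ψ _ _ e _)⟩
  map_zero' := by
    apply Subtype.ext
    funext p q
    exact map_zero _
  map_add' f g := by
    apply Subtype.ext
    funext p q
    exact map_add _ _ _

theorem totP_apply (n : ℕ) (e : ℤ) (f : ↥(totSub 𝒯 ψ hT I J n)) (p q : ℕ) :
    (totP 𝒯 ψ hT I J n e f).1 p q = P 𝒜 ℬ ψ (I p).gr (J q).gr e (f.1 p q) := rfl

theorem totP_mem (n : ℕ) (e : ℤ) (f : ↥(totSub 𝒯 ψ hT I J n)) :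
    totP 𝒯 ψ hT I J n e f ∈ totGr 𝒯 ψ hT I J n e :=
  fun _ _ => P_mem_piece 𝒜 ℬ ψ _ _ e _

theorem totP_of_mem_same (n : ℕ) (e : ℤ) (f : ↥(totSub 𝒯 ψ hT I J n))
    (hf : f ∈ totGr 𝒯 ψ hT I J n e) : totP 𝒯 ψ hT I J n e f = f := by
  apply Subtype.ext
  funext p q
  exact P_of_mem_same 𝒜 ℬ ψ _ _ (hf p q)

theorem totP_of_mem_ne (n : ℕ) (e e' : ℤ) (f : ↥(totSub 𝒯 ψ hT I J n)) (h : e' ≠ e)
    (hf : f ∈ totGr 𝒯 ψ hT I J n e') : totP 𝒯 ψ hT I J n e f = 0 := by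
  apply Subtype.ext
  funext p q
  exact P_of_mem_ne 𝒜 ℬ ψ _ _ h (hf p q)

theorem exists_sum_totP (n : ℕ) (f : ↥(totSub 𝒯 ψ hT I J n)) :
    ∃ s : Finset ℤ, ∑ e ∈ s, totP 𝒯 ψ hT I J n e f = f := by
  classical
  choose s hs using fun p q => exists_finset_sum_P 𝒜 ℬ ψ (I p).gr (J q).gr (f.2.2 p q)
  refine ⟨(Finset.range (n + 1)).biUnion (fun p => s p (n - p)), ?_⟩
  apply Subtype.ext
  funext p q
  rw [AddSubmonoidClass.coe_finsetSum, Finset.sum_apply, Finset.sum_apply]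
  simp only [totP_apply]
  by_cases hpq : p + q = n
  · apply hs p q
    intro e he
    refine Finset.mem_biUnion.mpr ⟨p, Finset.mem_range.mpr (by omega), ?_⟩
    have : n - p = q := by omega
    rw [this]
    exact he
  · rw [f.2.1 p q hpq]
    simp

/-- the total complex is graded -/
@[instance_reducible]
def totDec (n : ℕ) : DirectSum.Decomposition (totGr 𝒯 ψ hT I J n) :=
  (isInternal_of_proj (totGr 𝒯 ψ hT I J n) (totP 𝒯 ψ hT I J n)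
    (fun e f hf => totP_of_mem_same 𝒯 ψ hT I J n e f hf)
    (fun e e' f h hf => totP_of_mem_ne 𝒯 ψ hT I J n e e' f h hf)
    (fun f => by
      obtain ⟨s, hs⟩ := exists_sum_totP 𝒯 ψ hT I J n f
      exact mem_iSup_of_sum _ _ (totP_mem 𝒯 ψ hT I J n) f s hs)).chooseDecomposition

theorem totGr_gradedSMul (n : ℕ) : SetLike.GradedSMul (asGr 𝒯) (totGr 𝒯 ψ hT I J n) where
  smul_mem := by
    intro a e t f ht hf p q
    exact smul_mem_piece 𝒜 ℬ 𝒯 ψ hT _ _ ht (hf p q)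

/-- the terms of the total complex as graded `T`-modules -/
def TotG (n : ℕ) : GrLC.GMod.{u} (asGr 𝒯) :=
  { carrier := ↥(totSub 𝒯 ψ hT I J n)
    gr := totGr 𝒯 ψ hT I J n
    dec := totDec 𝒯 ψ hT I J n
    gsmul := totGr_gradedSMul 𝒯 ψ hT I J n }

end Tot

end Groth.Agent.Lib.Helper8.Seg
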