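import Groth.Agent.Lib.Helper8Seg8

/-!
# The differential of the total complex of Segre products and its exactness (helper8)
-/

set_option autoImplicit false
set_option linter.unusedSectionVars false
set_option linter.style.haveILetI false
universe u
open TensorProduct DirectSum

noncomputable section

namespace Groth.Agent.Lib.Helper8.Seg

open Groth.Agent.Lib.Helper29GrConv Groth.Agent.Lib.Helper29LCAcyclic Groth.Agent.Lib.Helper8.Kun
  Groth.Agent.Lib.Helper8.Kun.Cpx Groth.Agent.Lib.Helper24SegreFin Groth.Agent.Lib.Helper24SegreFin2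

variable {k : Type u} [Field k] {R S T : Type u} [CommRing R] [CommRing S] [CommRing T]
  [Algebra k R] [Algebra k S] [Algebra k T]

section Range

variable {X Y : Type u} [AddCommGroup X] [Module k X] [AddCommGroup Y] [Module k Y]
  (𝒳 : ℤ → AddSubgroup X) (h𝒳 : ∀ (i : ℤ) (c : k) (x : X), x ∈ 𝒳 i → c • x ∈ 𝒳 i)
  (𝒴 : ℤ → AddSubgroup Y) (h𝒴 : ∀ (i : ℤ) (c : k) (x : Y), x ∈ 𝒴 i → c • x ∈ 𝒴 i)

theorem segrePiece_eq_range (e : ℤ) :
    GrSeg.segrePiece k 𝒳 𝒴 e =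
      LinearMap.range (TensorProduct.map (subm 𝒳 h𝒳 e).subtype (subm 𝒴 h𝒴 e).subtype) := by
  apply le_antisymm
  · unfold GrSeg.segrePiece
    rw [Submodule.span_le]
    rintro _ ⟨x, hx, y, hy, rfl⟩
    exact ⟨(⟨x, hx⟩ : ↥(subm 𝒳 h𝒳 e)) ⊗ₜ[k] (⟨y, hy⟩ : ↥(subm 𝒴 h𝒴 e)), rfl⟩
  · rintro _ ⟨z, rfl⟩
    induction z using TensorProduct.induction_on with
    | zero => rw [map_zero]; exact zero_mem _
    | tmul x y =>
      rw [TensorProduct.map_tmul]
      exact Submodule.subset_span ⟨x.1, x.2, y.1, y.2, rfl⟩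
    | add a b ha hb => rw [map_add]; exact add_mem ha hb

end Range

section Tot

variable {𝒜 : ℤ → Submodule k R} [GradedAlgebra 𝒜] {ℬ : ℤ → Submodule k S} [GradedAlgebra ℬ]
  (𝒯 : ℤ → Submodule k T) [GradedAlgebra 𝒯] (ψ : T →ₐ[k] R ⊗[k] S)
  (hT : GrSeg.IsSegreRing 𝒜 ℬ 𝒯 ψ)
variable (I : ℕ → GrLC.GMod.{u} 𝒜) (dI : ∀ p, (I p).carrier →ₗ[R] (I (p + 1)).carrier)
  (hdI : ∀ p, GrLC.IsGrHom (I p).gr (I (p + 1)).gr (dI p))
  (hddI : ∀ (p : ℕ) (x : (I p).carrier), dI (p + 1) (dI p x) = 0)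
variable (J : ℕ → GrLC.GMod.{u} ℬ) (dJ : ∀ q, (J q).carrier →ₗ[S] (J (q + 1)).carrier)
  (hdJ : ∀ q, GrLC.IsGrHom (J q).gr (J (q + 1)).gr (dJ q))
  (hddJ : ∀ (q : ℕ) (x : (J q).carrier), dJ (q + 1) (dJ q x) = 0)

theorem DtT_apply (f : TotM ψ I J) (p q : ℕ) :
    DtT ψ I dI hddI J dJ hddJ f p q =
    (match p with
      | 0 => (0 : TP ψ (I 0).carrier (J q).carrier)
      | p' + 1 => tpMap ψ (dI p') (LinearMap.id : (J q).carrier →ₗ[S] (J q).carrier) (f p' q)) +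
    (match q with
      | 0 => (0 : TP ψ (I p).carrier (J 0).carrier)
      | q' + 1 => ((-1 : k) ^ p) •
          tpMap ψ (LinearMap.id : (I p).carrier →ₗ[R] (I p).carrier) (dJ q') (f p q')) :=
  Dt_eq ψ I dI hddI J dJ hddJ f p q

theorem isGrHom_id {X : Type u} [AddCommGroup X] [Module R X] (𝒳 : ℤ → AddSubgroup X) :
    GrLC.IsGrHom 𝒳 𝒳 (LinearMap.id : X →ₗ[R] X) := fun _ _ hx => hx

include hdI hdJ in
theorem DtT_mem_piece {f : TotM ψ I J} {e : ℤ}
    (hf : ∀ p q, f p q ∈ piece ψ (I p).gr (J q).gr e) (p q : ℕ) :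
    DtT ψ I dI hddI J dJ hddJ f p q ∈ piece ψ (I p).gr (J q).gr e := by
  rw [DtT_apply]
  apply add_mem
  · cases p with
    | zero => exact zero_mem _
    | succ p =>
      exact tpMap_mem_piece ψ _ _ _ _ (dI p) (hdI p) LinearMap.id (isGrHom_id _) (hf p q)
  · cases q with
    | zero => exact zero_mem _
    | succ q =>
      exact Submodule.smul_mem _ _
        (tpMap_mem_piece ψ _ _ _ _ LinearMap.id (isGrHom_id _) (dJ q) (hdJ q) (hf p q))

include hdI hdJ in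
theorem DtT_mem_segK {f : TotM ψ I J}
    (hf : ∀ p q, f p q ∈ segK ψ (I p).gr (J q).gr) (p q : ℕ) :
    DtT ψ I dI hddI J dJ hddJ f p q ∈ segK ψ (I p).gr (J q).gr := by
  rw [DtT_apply]
  apply add_mem
  · cases p with
    | zero => exact zero_mem _
    | succ p =>
      exact tpMap_mem_segK ψ _ _ _ _ (dI p) (hdI p) LinearMap.id (isGrHom_id _) (hf p q)
  · cases q with
    | zero => exact zero_mem _
    | succ q =>
      exact Submodule.smul_mem _ _
        (tpMap_mem_segK ψ _ _ _ _ LinearMap.id (isGrHom_id _) (dJ q) (hdJ q) (hf p q))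

include hdI hdJ in
theorem DtT_mem_totSub {n : ℕ} {f : TotM ψ I J} (hf : f ∈ totSub 𝒯 ψ hT I J n) :
    DtT ψ I dI hddI J dJ hddJ f ∈ totSub 𝒯 ψ hT I J (n + 1) := by
  refine ⟨fun p q h => ?_, DtT_mem_segK ψ I dI hdI hddI J dJ hdJ hddJ hf.2⟩
  have h1 : ofTotM ψ I dI hddI J dJ hddJ f ∈ supp (cpxK I dI hddI) (cpxK J dJ hddJ) n := by
    intro p q h
    rw [ofTotM_apply, hf.1 p q h]
    exact map_zero _
  have h2 := Dt_mem_supp h1 p q h
  apply ofTP_injective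
  rw [map_zero]
  exact h2

/-- the differential of the total complex -/
def totD (n : ℕ) : ↥(totSub 𝒯 ψ hT I J n) →ₗ[T] ↥(totSub 𝒯 ψ hT I J (n + 1)) :=
  (DtT ψ I dI hddI J dJ hddJ).restrict
    (fun _ hf => DtT_mem_totSub 𝒯 ψ hT I dI hdI hddI J dJ hdJ hddJ hf)

theorem totD_coe (n : ℕ) (f : ↥(totSub 𝒯 ψ hT I J n)) :
    (totD 𝒯 ψ hT I dI hdI hddI J dJ hdJ hddJ n f).1 = DtT ψ I dI hddI J dJ hddJ f.1 := rfl

theorem totD_isGrHom (n : ℕ) :
    GrLC.IsGrHom (totGr 𝒯 ψ hT I J n) (totGr 𝒯 ψ hT I J (n + 1))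
      (totD 𝒯 ψ hT I dI hdI hddI J dJ hdJ hddJ n) :=
  fun _ _ hf => DtT_mem_piece ψ I dI hdI hddI J dJ hdJ hddJ hf

theorem totD_totD (n : ℕ) (f : ↥(totSub 𝒯 ψ hT I J n)) :
    totD 𝒯 ψ hT I dI hdI hddI J dJ hdJ hddJ (n + 1)
      (totD 𝒯 ψ hT I dI hdI hddI J dJ hdJ hddJ n f) = 0 :=
  Subtype.ext (DtT_DtT ψ I dI hddI J dJ hddJ f.1)

/-! ### the degree `e` part as an abstract total complex -/

/-- the degree `e` piece of a graded module as a `k`-subspace -/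
def pieceK (X : GrLC.GMod.{u} 𝒜) (e : ℤ) : Submodule k X.carrier :=
  subm X.gr (kstable 𝒜 X.gr) e

theorem mem_pieceK {X : GrLC.GMod.{u} 𝒜} {e : ℤ} {x : X.carrier} :
    x ∈ pieceK X e ↔ x ∈ X.gr e := Iff.rfl

/-- the degree `e` part of a complex of graded modules -/
def cpxE (e : ℤ) : Cpx k :=
  (cpxK I dI hddI).sub (fun p => pieceK (I p) e) (fun p x hx => hdI p e x hx)

/-- its inclusion -/
def inclE (e : ℤ) : Hom (cpxE I dI hdI hddI e) (cpxK I dI hddI) :=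
  (cpxK I dI hddI).incl (fun p => pieceK (I p) e) (fun p x hx => hdI p e x hx)

theorem inclE_injective (e : ℤ) (p : ℕ) : Function.Injective ((inclE I dI hdI hddI e).f p) :=
  Submodule.injective_subtype _

/-- the inclusion of the abstract total complex of the degree `e` parts -/
def totInclE (e : ℤ) : Tot (cpxE I dI hdI hddI e) (cpxE J dJ hdJ hddJ e) →ₗ[k]
    Tot (cpxK I dI hddI) (cpxK J dJ hddJ) :=
  totMap (inclE I dI hdI hddI e) (inclE J dJ hdJ hddJ e)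

theorem totInclE_injective (e : ℤ) : Function.Injective (totInclE I dI hdI hddI J dJ hdJ hddJ e) :=
  totMap_injective _ _ (inclE_injective I dI hdI hddI e) (inclE_injective J dJ hdJ hddJ e)

theorem totInclE_apply_mem (e : ℤ) (g : Tot (cpxE I dI hdI hddI e) (cpxE J dJ hdJ hddJ e))
    (p q : ℕ) : totInclE I dI hdI hddI J dJ hdJ hddJ e g p q ∈
      GrSeg.segrePiece k (I p).gr (J q).gr e := by
  rw [segrePiece_eq_range (I p).gr (kstable 𝒜 (I p).gr) (J q).gr (kstable ℬ (J q).gr)]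
  exact ⟨g p q, rfl⟩

/-- homogeneous elements come from the abstract total complex -/
theorem exists_totInclE_eq {e : ℤ} {f : TotM ψ I J}
    (hf : ∀ p q, f p q ∈ piece ψ (I p).gr (J q).gr e) :
    ∃ g : Tot (cpxE I dI hdI hddI e) (cpxE J dJ hdJ hddJ e),
      totInclE I dI hdI hddI J dJ hdJ hddJ e g = ofTotM ψ I dI hddI J dJ hddJ f := by
  have h : ∀ p q, ∃ z : ↥(pieceK (I p) e) ⊗[k] ↥(pieceK (J q) e),
      TensorProduct.map (pieceK (I p) e).subtype (pieceK (J q) e).subtype z =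
        ofTP ψ _ _ (f p q) := by
    intro p q
    have h1 := hf p q
    rw [mem_piece,
      segrePiece_eq_range (I p).gr (kstable 𝒜 (I p).gr) (J q).gr (kstable ℬ (J q).gr)] at h1
    exact h1
  choose g hg using h
  exact ⟨g, funext fun p => funext fun q => hg p q⟩

end Tot

end Groth.Agent.Lib.Helper8.Seg
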