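import Mathlib
import Groth.Agent.Lib.Helper8TFDual4
import Groth.Agent.Lib.Helper29Gorenstein

/-!
# Duality over a one-dimensional Gorenstein local domain (helper8), part 5

`Ext¹(M, M) ≃+ Hom(M⁻¹, O / M⁻¹)` for an overring `O ⊆ M ⊆ O~`.
-/

set_option autoImplicit false
set_option linter.style.haveILetI false
set_option linter.unusedSectionVars false
open CategoryTheory

namespace Groth.Agent.Lib.Helper8.TFDual

universe u

/-- `Ext` is invariant under isomorphisms in both variables. -/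
theorem nonempty_ext_addEquiv_of_iso {C : Type*} [Category C] [Abelian C] [HasExt.{u} C]
    {X X' Y Y' : C} (e : X ≅ X') (e' : Y ≅ Y') (n : ℕ) :
    Nonempty (Abelian.Ext.{u} X Y n ≃+ Abelian.Ext.{u} X' Y' n) := by
  let i1 : AddCommGrpCat.of (Abelian.Ext.{u} X Y n) ≅ AddCommGrpCat.of (Abelian.Ext.{u} X' Y n) :=
    ((Abelian.extFunctor.{u} n).mapIso e.symm.op).app Y
  let i2 : AddCommGrpCat.of (Abelian.Ext.{u} X' Y n) ≅
      AddCommGrpCat.of (Abelian.Ext.{u} X' Y' n) :=
    ((Abelian.extFunctor.{u} n).obj (Opposite.op X')).mapIso e'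
  exact ⟨(i1 ≪≫ i2).addCommGroupIsoToAddEquiv⟩

section Sub

variable {O : Type u} [CommRing O] [IsNoetherianRing O] {V : Type*} [AddCommGroup V] [Module O V]

theorem fg_of_le_fg {N A : Submodule O V} (hA : A.FG) (hN : N ≤ A) : N.FG := by
  haveI : IsNoetherian O ↥A := isNoetherian_of_fg_of_noetherian A hA
  have h1 : Submodule.map A.subtype (Submodule.comap A.subtype N) = N := by
    rw [Submodule.map_comap_subtype]
    exact inf_eq_right.mpr hN
  rw [← h1]
  exact (IsNoetherian.noetherian _).map _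

end Sub

section HomDiv

variable {O : Type u} [CommRing O] [IsDomain O] {K : Type u} [Field K] [Algebra O K]
  [IsFractionRing O K]

/-- every linear map between submodules of the fraction field is a multiplication. -/
theorem exists_mul_eq (A B : Submodule O K) (φ : ↥A →ₗ[O] ↥B) (a₀ : K) (ha₀ : a₀ ∈ A)
    (ha₀0 : a₀ ≠ 0) (a : ↥A) : (φ a : K) = (φ ⟨a₀, ha₀⟩ : K) * a₀⁻¹ * a := by
  obtain ⟨s, t, hs, hst⟩ := exists_smul_eq_smul (O := O) K (a : K) a₀ ha₀0
  have h1 : s • φ a = t • φ ⟨a₀, ha₀⟩ := by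
    rw [← map_smul, ← map_smul]
    congr 1
    exact Subtype.ext hst
  have h2 : s • (φ a : K) = t • (φ ⟨a₀, ha₀⟩ : K) := congrArg Subtype.val h1
  rw [Algebra.smul_def, Algebra.smul_def] at h2 hst
  have hs' : algebraMap O K s ≠ 0 := by
    intro h
    exact hs ((IsFractionRing.injective O K) (h.trans (map_zero _).symm))
  field_simp
  apply mul_left_cancel₀ hs'
  linear_combination a₀ * h2 - (φ ⟨a₀, ha₀⟩ : K) * hst

/-- multiplication by an element of `B / A` as a linear map `A → B`. -/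
noncomputable def mulHom (A B : Submodule O K) : ↥(B / A) →ₗ[O] (↥A →ₗ[O] ↥B) where
  toFun c := LinearMap.codRestrict B ((LinearMap.mulLeft O (c : K)) ∘ₗ A.subtype)
    (fun a => c.2 a a.2)
  map_add' c c' := by
    apply LinearMap.ext
    intro a
    apply Subtype.ext
    change ((c + c' : ↥(B / A)) : K) * a = (c : K) * a + (c' : K) * a
    rw [Submodule.coe_add, add_mul]
  map_smul' r c := by
    apply LinearMap.ext
    intro a
    apply Subtype.ext
    change ((r • c : ↥(B / A)) : K) * a = r • ((c : K) * a)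
    rw [Submodule.coe_smul, smul_mul_assoc]

theorem mulHom_apply (A B : Submodule O K) (c : ↥(B / A)) (a : ↥A) :
    ((mulHom A B c a : ↥B) : K) = (c : K) * a := rfl

theorem mulHom_bijective (A B : Submodule O K) (hA : A ≠ ⊥) :
    Function.Bijective (mulHom (O := O) A B) := by
  obtain ⟨a₀, ha₀, ha₀0⟩ := Submodule.exists_mem_ne_zero_of_ne_bot hA
  constructor
  · rw [injective_iff_map_eq_zero]
    intro c hc
    have h1 : ((mulHom A B c ⟨a₀, ha₀⟩ : ↥B) : K) = 0 := by
      rw [hc]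
      rfl
    rw [mulHom_apply] at h1
    apply Subtype.ext
    rcases mul_eq_zero.mp h1 with h | h
    · exact h
    · exact absurd h ha₀0
  · intro φ
    have hmem : (φ ⟨a₀, ha₀⟩ : K) * a₀⁻¹ ∈ B / A := by
      rw [Submodule.mem_div_iff_forall_mul_mem]
      intro y hy
      rw [← exists_mul_eq A B φ a₀ ha₀ ha₀0 ⟨y, hy⟩]
      exact (φ ⟨y, hy⟩).2
    refine ⟨⟨_, hmem⟩, ?_⟩
    apply LinearMap.ext
    intro a
    apply Subtype.ext
    rw [mulHom_apply]
    exact (exists_mul_eq A B φ a₀ ha₀ ha₀0 a).symm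

theorem one_div_ne_bot (N : Submodule O K) (hN : N.FG) : (1 : Submodule O K) / N ≠ ⊥ := by
  obtain ⟨d, hd, hdb⟩ := FractionalIdeal.isFractional_of_fg (S := nonZeroDivisors O) hN
  have hd0 : d ≠ 0 := nonZeroDivisors.ne_zero hd
  have hmem : algebraMap O K d ∈ (1 : Submodule O K) / N := by
    rw [Submodule.mem_div_iff_forall_mul_mem]
    intro b hb
    obtain ⟨r, hr⟩ := hdb b hb
    rw [Submodule.mem_one]
    exact ⟨r, by rw [hr, Algebra.smul_def]⟩
  intro h
  rw [h, Submodule.mem_bot] at hmem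
  exact hd0 ((IsFractionRing.injective O K) (hmem.trans (map_zero _).symm))

end HomDiv

section Gor

variable {O : Type u} [CommRing O] [IsDomain O] [LocCoh.IsGorensteinLocalRing O]
  {K : Type u} [Field K] [Algebra O K] [IsFractionRing O K]

/-- `O ≃ O·1 ⊆ K`. -/
noncomputable def oneEquiv : O ≃ₗ[O] ↥(1 : Submodule O K) :=
  (LinearEquiv.ofInjective (Algebra.linearMap O K) (IsFractionRing.injective O K)).trans
    (LinearEquiv.ofEq _ _ Submodule.one_eq_range.symm)

theorem oneEquiv_coe (r : O) : ((oneEquiv (O := O) (K := K) r : ↥(1 : Submodule O K)) : K) =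
    algebraMap O K r := rfl

theorem hasInjDim_one (hdim : ringKrullDim O = 1) :
    HasInjectiveDimensionLT (ModuleCat.of O ↥(1 : Submodule O K)) 2 := by
  haveI := (Groth.Agent.Lib.Helper29Gorenstein.depth_eq_and_hasInjectiveDimensionLT O 1
    (by rw [hdim]; rfl)).2
  exact hasInjectiveDimensionLT_of_iso (oneEquiv (O := O) (K := K)).toModuleIso 2

/-- **`Ext¹(M, M) ≃+ Hom(M⁻¹, O / M⁻¹)`** for an overring `M` of a one-dimensional Gorenstein
local domain. -/
theorem ext_one_overring (hdim : ringKrullDim O = 1)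
    (hfin : Module.Finite O ↥(integralClosure O K)) (M : Subalgebra O K)
    (hM : M ≤ integralClosure O K) :
    Nonempty (Abelian.Ext (ModuleCat.of O ↥M) (ModuleCat.of O ↥M) 1 ≃+
      (↥((1 : Submodule O K) / Subalgebra.toSubmodule M) →ₗ[O]
        (O ⧸ Submodule.comap (Algebra.linearMap O K)
          ((1 : Submodule O K) / Subalgebra.toSubmodule M)))) := by
  set ω : Submodule O K := 1 with hω
  set M' : Submodule O K := Subalgebra.toSubmodule M with hM'
  haveI : HasInjectiveDimensionLT (ModuleCat.of O ↥ω) 2 := hasInjDim_one hdim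
  haveI : Module.Finite O ↥ω := Module.Finite.equiv (oneEquiv (O := O) (K := K))
  haveI : Nontrivial ↥ω := (oneEquiv (O := O) (K := K)).symm.toEquiv.nontrivial
  have hOtfg : (Subalgebra.toSubmodule (integralClosure O K)).FG := Module.Finite.iff_fg.mp hfin
  have hM'fg : M'.FG := fg_of_le_fg hOtfg hM
  have h1M : (1 : Submodule O K) ≤ M' := Submodule.one_le.mpr M.one_mem
  have hM'0 : M' ≠ ⊥ := by
    intro h
    have : (1 : K) ∈ M' := M.one_mem
    rw [h, Submodule.mem_bot] at this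
    exact one_ne_zero this
  haveI : Module.Finite O ↥M' := Module.Finite.iff_fg.mpr hM'fg
  haveI : Module.IsTorsionFree O K := inferInstance
  haveI : Module.IsTorsionFree O ↥M' := inferInstance
  haveI : Module.IsTorsionFree O ↥ω := inferInstance
  set cK : Submodule O K := ω / M' with hcK
  have hcle : cK ≤ ω := by
    intro x hx
    have := hx 1 M.one_mem
    rwa [mul_one] at this
  have hωfg : ω.FG := Module.Finite.iff_fg.mp inferInstance
  have hcfg : cK.FG := fg_of_le_fg hωfg hcle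
  have hc0 : cK ≠ ⊥ := one_div_ne_bot M' hM'fg
  haveI : Module.Finite O ↥cK := Module.Finite.iff_fg.mpr hcfg
  haveI : Module.IsTorsionFree O ↥cK := inferInstance
  have hrk := hrk_submodule (O := O) ω
  -- step (a)
  obtain ⟨ea⟩ := nonempty_ext_addEquiv ↥ω hdim hrk 1 ↥M' ↥M'
  -- step (b)
  let E : ↥cK ≃ₗ[O] (↥M' →ₗ[O] ↥ω) :=
    LinearEquiv.ofBijective (mulHom M' ω) (mulHom_bijective M' ω hM'0)
  have iE : ModuleCat.of O (↥M' →ₗ[O] ↥ω) ≅ ModuleCat.of O ↥cK := E.symm.toModuleIso
  obtain ⟨eb⟩ := nonempty_ext_addEquiv_of_iso iE iE 1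
  -- step (c)
  let f : ↥cK →ₗ[O] ↥ω := Submodule.inclusion hcle
  have hf : Function.Injective f := Submodule.inclusion_injective hcle
  have hS := sesInj_shortExact f hf
  have hdd : ω / cK = M' := div_div_eq ω hdim M' hM'fg hM'0
  let δ := hS.extClass.postcomp (ModuleCat.of O ↥cK) (rfl : 0 + 1 = 0 + 1)
  have hδs : Function.Surjective δ := by
    intro x₁
    have hsub : Subsingleton (Abelian.Ext (ModuleCat.of O ↥cK) (sesInj f).X₂ 1) :=
      subsingleton_ext ↥cK (ModuleCat.of O ↥ω) 1 le_rfl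
    exact Abelian.Ext.covariant_sequence_exact₁ _ hS x₁ (hsub.elim _ _) rfl
  have hδi : Function.Injective δ := by
    rw [injective_iff_map_eq_zero]
    intro x₃ hx₃
    obtain ⟨x₂, rfl⟩ := Abelian.Ext.covariant_sequence_exact₃ _ hS x₃ rfl hx₃
    obtain ⟨ψ', rfl⟩ := (Abelian.Ext.mk₀_bijective _ _).2 x₂
    obtain ⟨c, hc⟩ := (mulHom_bijective cK ω hc0).2 ψ'.hom
    have hcM : (c : K) ∈ M' := by
      rw [← hdd]
      exact c.2
    let ψ₀ : ↥cK →ₗ[O] ↥cK := LinearMap.codRestrict cK
      ((LinearMap.mulLeft O (c : K)) ∘ₗ cK.subtype) (by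
        intro x
        change (c : K) * (x : K) ∈ ω / M'
        rw [Submodule.mem_div_iff_forall_mul_mem]
        intro m hm
        have h1 : (c : K) * (x : K) * m = (x : K) * ((c : K) * m) := by ring
        rw [h1]
        exact x.2 _ (M.mul_mem hcM hm))
    have hfac : ψ' = (ModuleCat.ofHom ψ₀ : ModuleCat.of O ↥cK ⟶ (sesInj f).X₁) ≫
        (sesInj f).f := by
      apply ModuleCat.hom_ext
      rw [← hc]
      apply LinearMap.ext
      intro x
      apply Subtype.ext
      rfl
    have h0 : ∀ z : Abelian.Ext (ModuleCat.of O ↥cK) (sesInj f).X₁ 0,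
        (z.comp (Abelian.Ext.mk₀ (sesInj f).f) (add_zero 0)).comp
          (Abelian.Ext.mk₀ (sesInj f).g) (add_zero 0) = 0 := by
      intro z
      rw [Abelian.Ext.comp_assoc_of_second_deg_zero, Abelian.Ext.mk₀_comp_mk₀, (sesInj f).zero,
        Abelian.Ext.mk₀_zero, Abelian.Ext.comp_zero]
    have hψ : Abelian.Ext.mk₀ ψ' =
        (Abelian.Ext.mk₀ (X := ModuleCat.of O ↥cK) (Y := (sesInj f).X₁)
          (ModuleCat.ofHom ψ₀)).comp (Abelian.Ext.mk₀ (sesInj f).f) (add_zero 0) := by
      rw [Abelian.Ext.mk₀_comp_mk₀]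
      exact congrArg Abelian.Ext.mk₀ hfac
    rw [hψ]
    exact h0 _
  let ec : Abelian.Ext (ModuleCat.of O ↥cK) (sesInj f).X₃ 0 ≃+
      Abelian.Ext (ModuleCat.of O ↥cK) (ModuleCat.of O ↥cK) 1 :=
    AddEquiv.ofBijective δ ⟨hδi, hδs⟩
  -- step (d)
  let I : Submodule O O := Submodule.comap (Algebra.linearMap O K) cK
  have hmap : I.map (oneEquiv (O := O) (K := K)).toLinearMap = LinearMap.range f := by
    ext y
    constructor
    · rintro ⟨r, hr, rfl⟩
      exact ⟨⟨algebraMap O K r, hr⟩, Subtype.ext rfl⟩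
    · rintro ⟨x, rfl⟩
      obtain ⟨r, hr⟩ := Submodule.mem_one.mp (hcle x.2)
      refine ⟨r, ?_, Subtype.ext ?_⟩
      · change algebraMap O K r ∈ cK
        rw [hr]
        exact x.2
      · exact hr
  let q : (O ⧸ I) ≃ₗ[O] (↥ω ⧸ LinearMap.range f) :=
    Submodule.Quotient.equiv I (LinearMap.range f) (oneEquiv (O := O) (K := K)) hmap
  let ed : Abelian.Ext (ModuleCat.of O ↥cK) (sesInj f).X₃ 0 ≃+ (↥cK →ₗ[O] (O ⧸ I)) :=
    Abelian.Ext.addEquiv₀.trans
      ((ModuleCat.homAddEquiv (M := ModuleCat.of O ↥cK)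
        (N := ModuleCat.of O (↥ω ⧸ LinearMap.range f))).trans
        (LinearEquiv.congrRight q.symm).toAddEquiv)
  exact ⟨(ea.trans eb).trans (ec.symm.trans ed)⟩

end Gor

end Groth.Agent.Lib.Helper8.TFDual
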