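import Groth.Prelude.Def_Wider
import Mathlib

set_option autoImplicit false
universe u
open CategoryTheory AlgebraicGeometry TopologicalSpace Opposite

namespace Groth.Agent.Lib.Helper8.Tilde

variable {R : Type u} [CommRing R] {M : Type u} [AddCommGroup M] [Module R M]

variable (R M) in
/-- sections of `M~` over `U` (type-level structure sheaf). -/
abbrev Sec (U : Opens (PrimeSpectrum.Top R)) : Type u := (structureSheafInType R M).obj.obj (op U)

theorem sec_ext {U : Opens (PrimeSpectrum.Top R)} {s t : Sec R M U} (h : ∀ x : U, s.1 x = t.1 x) :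
    s = t := Subtype.ext (funext h)

@[simp] theorem zero_apply {U : Opens (PrimeSpectrum.Top R)} (x : U) : (0 : Sec R M U).1 x = 0 := rfl

@[simp] theorem toOpenₗ_apply (U : Opens (PrimeSpectrum.Top R)) (m : M) (x : U) :
    (StructureSheaf.toOpenₗ R M U m).1 x = LocalizedModule.mk m 1 := rfl

theorem mem_puncturedOpen {a : Ideal R} {x : PrimeSpectrum R} :
    (x : PrimeSpectrum.Top R) ∈ LocCoh.puncturedOpen R a ↔ ∃ f ∈ a, f ∉ x.asIdeal := by
  have h : ((x : PrimeSpectrum.Top R) ∈ LocCoh.puncturedOpen R a) ↔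
      ¬ (x ∈ PrimeSpectrum.zeroLocus (a : Set R)) := Iff.rfl
  rw [h, PrimeSpectrum.mem_zeroLocus, Set.not_subset]
  rfl

/-- `mk m s = 0` in a localization at a prime iff some element outside the prime kills `m`. -/
theorem mk_eq_zero_iff {x : PrimeSpectrum.Top R} (m : M) (s : x.asIdeal.primeCompl) :
    (LocalizedModule.mk m s : LocalizedModule x.asIdeal.primeCompl M) = 0 ↔
      ∃ u : R, u ∉ x.asIdeal ∧ u • m = 0 := by
  rw [← LocalizedModule.zero_mk s, LocalizedModule.mk_eq]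
  constructor
  · rintro ⟨u, hu⟩
    refine ⟨u * s, (u * s).2, ?_⟩
    rw [smul_zero, smul_zero] at hu
    rw [mul_smul]
    exact hu
  · rintro ⟨u, hu, hum⟩
    refine ⟨⟨u, hu⟩, ?_⟩
    rw [smul_zero, smul_zero, smul_comm]
    change s • u • m = 0
    rw [hum, smul_zero]

/-- pointwise vanishing outside `V(b)` implies being killed by a power of `b`. -/
theorem exists_pow_kills (b : Ideal R) (hb : b.FG) (m : M)
    (h : ∀ y : PrimeSpectrum R, (∃ f ∈ b, f ∉ y.asIdeal) → ∃ u : R, u ∉ y.asIdeal ∧ u • m = 0) :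
    ∃ n : ℕ, ∀ c ∈ b ^ n, c • m = 0 := by
  let K : Ideal R := LinearMap.ker (LinearMap.toSpanSingleton R M m)
  have hK : ∀ c, c ∈ K ↔ c • m = 0 := fun c => by
    rw [LinearMap.mem_ker, LinearMap.toSpanSingleton_apply]
  have hsub : PrimeSpectrum.zeroLocus (K : Set R) ⊆ PrimeSpectrum.zeroLocus (b : Set R) := by
    intro y hy
    by_contra hyb
    rw [PrimeSpectrum.mem_zeroLocus, Set.not_subset] at hyb
    obtain ⟨f, hfb, hfy⟩ := hyb
    obtain ⟨u, huy, hum⟩ := h y ⟨f, hfb, hfy⟩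
    exact huy (hy ((hK u).mpr hum))
  rw [PrimeSpectrum.zeroLocus_subset_zeroLocus_iff] at hsub
  obtain ⟨n, hn⟩ := Ideal.exists_pow_le_of_le_radical_of_fg hsub hb
  exact ⟨n, fun c hc => (hK c).mp (hn hc)⟩

theorem exists_pow_smul_eq_zero (g : R) (m : M)
    (h : ∀ y : PrimeSpectrum R, g ∉ y.asIdeal → ∃ u : R, u ∉ y.asIdeal ∧ u • m = 0) :
    ∃ n : ℕ, g ^ n • m = 0 := by
  obtain ⟨n, hn⟩ := exists_pow_kills (Ideal.span {g}) ⟨{g}, by simp⟩ m (by
    rintro y ⟨f, hf, hfy⟩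
    apply h y
    intro hg
    apply hfy
    obtain ⟨c, rfl⟩ := Ideal.mem_span_singleton'.mp hf
    exact Ideal.mul_mem_left _ _ hg)
  exact ⟨n, hn _ (Ideal.pow_mem_pow (Ideal.mem_span_singleton_self g) n)⟩

/-- (F1) -/
theorem toOpenₗ_eq_zero_iff (a : Ideal R) (ha : a.FG) (m : M) :
    StructureSheaf.toOpenₗ R M (LocCoh.puncturedOpen R a) m = 0 ↔ ∃ n : ℕ, ∀ c ∈ a ^ n, c • m = 0 := by
  constructor
  · intro h
    apply exists_pow_kills a ha m
    intro y hy
    have hyU : y ∈ LocCoh.puncturedOpen R a := mem_puncturedOpen.mpr hy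
    have h1 := congrArg (fun s => s.1 ⟨y, hyU⟩) h
    simp only [toOpenₗ_apply, zero_apply] at h1
    exact (mk_eq_zero_iff m 1).mp h1
  · rintro ⟨n, hn⟩
    apply sec_ext
    intro x
    rw [toOpenₗ_apply, zero_apply, mk_eq_zero_iff]
    obtain ⟨f, hfa, hfx⟩ := mem_puncturedOpen.mp x.2
    exact ⟨f ^ n, fun h => hfx (x.1.isPrime.mem_of_pow_mem n h), hn _ (Ideal.pow_mem_pow hfa n)⟩

/-- (F2) -/
theorem eq_zero_of_pow_smul_eq_zero (a : Ideal R) (s : Sec R M (LocCoh.puncturedOpen R a)) (n : ℕ)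
    (h : ∀ c ∈ a ^ n, c • s = 0) : s = 0 := by
  apply sec_ext
  intro x
  obtain ⟨f, hfa, hfx⟩ := mem_puncturedOpen.mp x.2
  have h1 := congrArg (fun t => t.1 x) (h _ (Ideal.pow_mem_pow hfa n))
  simp only [structureSheafInType.smul_apply, zero_apply] at h1
  have hfn : f ^ n ∈ x.1.asIdeal.primeCompl := fun h => hfx (x.1.isPrime.mem_of_pow_mem n h)
  have := IsLocalizedModule.smul_injective
    (LocalizedModule.mkLinearMap x.1.asIdeal.primeCompl M) ⟨f ^ n, hfn⟩
  apply this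
  change f ^ n • s.1 x = f ^ n • (0 : LocalizedModule x.1.asIdeal.primeCompl M)
  rw [h1, smul_zero]

/-- (N) finite cover by basic opens on which `s` is a constant fraction. -/
theorem exists_finite_cover [IsNoetherianRing R] (U : Opens (PrimeSpectrum.Top R)) (s : Sec R M U) :
    ∃ t : Finset (R × M),
      (∀ p ∈ t, ∀ (y : PrimeSpectrum.Top R) (hy : p.1 ∉ y.asIdeal),
        ∃ hyU : y ∈ U, s.1 ⟨y, hyU⟩ = LocalizedModule.mk p.2 ⟨p.1, hy⟩) ∧
      ∀ x ∈ U, ∃ p ∈ t, p.1 ∉ (x : PrimeSpectrum.Top R).asIdeal := by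
  classical
  choose g hxg igU f H using fun x : U => StructureSheaf.exists_const U s x.1 x.2
  have hcompact : IsCompact (U.1 : Set (PrimeSpectrum R)) :=
    TopologicalSpace.NoetherianSpace.isCompact (α := PrimeSpectrum R) _
  obtain ⟨t₀, ht₀⟩ := hcompact.elim_finite_subcover
    (fun i : U => (PrimeSpectrum.basicOpen (g i) : Set (PrimeSpectrum R)))
    (fun _ => (PrimeSpectrum.basicOpen _).2) (fun x hx => Set.mem_iUnion_of_mem ⟨x, hx⟩ (hxg _))
  refine ⟨t₀.image (fun i => (g i, f i)), ?_, ?_⟩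
  · intro p hp y hy
    obtain ⟨i, -, rfl⟩ := Finset.mem_image.mp hp
    have hyg : y ∈ PrimeSpectrum.basicOpen (g i) := hy
    refine ⟨igU i hyg, ?_⟩
    have := congrArg (fun t => t.1 ⟨y, hyg⟩) (H i)
    exact this.symm
  · intro x hx
    obtain ⟨i, hi, hxi⟩ := Set.mem_iUnion₂.mp (ht₀ hx)
    exact ⟨_, Finset.mem_image_of_mem _ hi, hxi⟩

/-- (F3) -/
theorem exists_pow_smul_mem_range [IsNoetherianRing R] (a : Ideal R)
    (s : Sec R M (LocCoh.puncturedOpen R a)) :
    ∃ n : ℕ, ∀ c ∈ a ^ n,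
      c • s ∈ LinearMap.range (StructureSheaf.toOpenₗ R M (LocCoh.puncturedOpen R a)) := by
  classical
  obtain ⟨t, ht, hcov⟩ := exists_finite_cover _ s
  have hcross : ∀ p ∈ t, ∀ q ∈ t, ∃ k : ℕ, (p.1 * q.1) ^ k • (q.1 • p.2 - p.1 • q.2) = 0 := by
    intro p hp q hq
    apply exists_pow_smul_eq_zero
    intro y hy
    have hpy : p.1 ∉ y.asIdeal := fun h => hy (Ideal.mul_mem_right _ _ h)
    have hqy : q.1 ∉ y.asIdeal := fun h => hy (Ideal.mul_mem_left _ _ h)
    obtain ⟨hyU, h1⟩ := ht p hp y hpy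
    obtain ⟨_, h2⟩ := ht q hq y hqy
    have h3 := h1.symm.trans h2
    rw [LocalizedModule.mk_eq] at h3
    obtain ⟨u, hu⟩ := h3
    refine ⟨u, u.2, ?_⟩
    rw [smul_sub]
    exact sub_eq_zero.mpr hu
  choose! k hk using hcross
  let N := (t ×ˢ t).sup (fun pq => k pq.1 pq.2)
  have hN : ∀ p ∈ t, ∀ q ∈ t, (p.1 * q.1) ^ N • (q.1 • p.2 - p.1 • q.2) = 0 := by
    intro p hp q hq
    have hle : k p q ≤ N :=
      Finset.le_sup (f := fun pq : (R × M) × (R × M) => k pq.1 pq.2) (b := (p, q))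
        (Finset.mem_product.mpr ⟨hp, hq⟩)
    rw [← Nat.sub_add_cancel hle, pow_add, mul_smul, hk p hp q hq, smul_zero]
  have hJ : ∀ p ∈ t, p.1 ^ (N + 1) • s =
      StructureSheaf.toOpenₗ R M (LocCoh.puncturedOpen R a) (p.1 ^ N • p.2) := by
    intro p hp
    apply sec_ext
    intro x
    obtain ⟨q, hq, hqx⟩ := hcov x.1 x.2
    obtain ⟨_, h1⟩ := ht q hq x.1 hqx
    rw [structureSheafInType.smul_apply, toOpenₗ_apply]
    have h2 : s.1 x = LocalizedModule.mk q.2 ⟨q.1, hqx⟩ := h1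
    rw [h2, LocalizedModule.smul'_mk, LocalizedModule.mk_eq]
    refine ⟨⟨q.1 ^ N, fun h => hqx (x.1.isPrime.mem_of_pow_mem N h)⟩, ?_⟩
    have h3 := hN p hp q hq
    simp only [Submonoid.smul_def, one_smul]
    rw [mul_pow, smul_sub] at h3
    have h4 := sub_eq_zero.mp h3
    calc q.1 ^ N • p.1 ^ (N + 1) • q.2 = (p.1 ^ N * q.1 ^ N) • p.1 • q.2 := by
          module
      _ = (p.1 ^ N * q.1 ^ N) • q.1 • p.2 := h4.symm
      _ = q.1 ^ N • q.1 • p.1 ^ N • p.2 := by
          module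
  let J : Ideal R := (LinearMap.range (StructureSheaf.toOpenₗ R M (LocCoh.puncturedOpen R a))).comap
    (LinearMap.toSpanSingleton R (Sec R M (LocCoh.puncturedOpen R a)) s)
  have hJmem : ∀ c, c ∈ J ↔
      c • s ∈ LinearMap.range (StructureSheaf.toOpenₗ R M (LocCoh.puncturedOpen R a)) := by
    intro c
    rw [Submodule.mem_comap, LinearMap.toSpanSingleton_apply]
  have hsub : PrimeSpectrum.zeroLocus (J : Set R) ⊆ PrimeSpectrum.zeroLocus (a : Set R) := by
    intro y hy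
    by_contra hya
    have hyU : (y : PrimeSpectrum.Top R) ∈ LocCoh.puncturedOpen R a := hya
    obtain ⟨q, hq, hqy⟩ := hcov y hyU
    apply hqy
    have : q.1 ^ (N + 1) ∈ J := (hJmem _).mpr ⟨_, (hJ q hq).symm⟩
    exact y.isPrime.mem_of_pow_mem _ (hy this)
  rw [PrimeSpectrum.zeroLocus_subset_zeroLocus_iff] at hsub
  obtain ⟨n, hn⟩ := Ideal.exists_pow_le_of_le_radical_of_fg hsub (IsNoetherian.noetherian a)
  exact ⟨n, fun c hc => (hJmem c).mp (hn hc)⟩

theorem mem_iSup_torsionBy (a : Ideal R) {N : Type u} [AddCommGroup N] [Module R N] (x : N) :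
    x ∈ ⨆ n : ℕ, LocCoh.torsionBy (a ^ n) N ↔ ∃ n : ℕ, ∀ c ∈ a ^ n, c • x = 0 := by
  rw [Submodule.mem_iSup_of_directed]
  · constructor
    · rintro ⟨n, hn⟩
      refine ⟨n, fun c hc => ?_⟩
      exact (Submodule.mem_torsionBySet_iff _ _).mp hn ⟨c, hc⟩
    · rintro ⟨n, hn⟩
      refine ⟨n, ?_⟩
      rw [LocCoh.torsionBy, Submodule.mem_torsionBySet_iff]
      rintro ⟨c, hc⟩
      exact hn c hc
  · apply Monotone.directed_le
    apply monotone_nat_of_le_succ
    intro n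
    apply Submodule.torsionBySet_le_torsionBySet_of_subset
    exact fun c hc => Ideal.pow_le_pow_right (Nat.le_succ n) hc

/-- the linear identification of the module of sections of `tilde M` with `Sec`. -/
noncomputable def secEquiv (U : Opens (PrimeSpectrum.Top R)) :
    ↑((modulesSpecToSheaf.obj (tilde (R := CommRingCat.of R) (ModuleCat.of R M))).presheaf.obj
      (op U)) ≃ₗ[R] Sec R M U :=
  ((tilde.modulesSpecToSheafIso (R := CommRingCat.of R) (ModuleCat.of R M)).app (op U)).toLinearEquiv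

theorem secEquiv_apply (U : Opens (PrimeSpectrum.Top R))
    (x : ↑((modulesSpecToSheaf.obj (tilde (R := CommRingCat.of R) (ModuleCat.of R M))).presheaf.obj
      (op U))) : (secEquiv U x : Sec R M U) = x := rfl

theorem secEquiv_toOpen (U : Opens (PrimeSpectrum.Top R)) (m : M) :
    secEquiv U ((tilde.toOpen (R := CommRingCat.of R) (ModuleCat.of R M) U).hom m) =
      StructureSheaf.toOpenₗ R M U m := rfl

end Groth.Agent.Lib.Helper8.Tilde
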