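import Mathlib
import Groth.Agent.Lib.Helper8ValSemi1
import Groth.Agent.Lib.Helper8TFDual2

/-!
# Closed subalgebras of `k[[t]]` with cofinite value semigroup (helper8), part 2

Value set of the dual `(ω : M)` with respect to a canonical ideal `A ⊆ ω ⊆ k[[t]]`.
-/

set_option autoImplicit false
set_option linter.style.haveILetI false
set_option linter.unusedSectionVars false

namespace Groth.Agent.Lib.Helper8.ValSemi

universe u

open PowerSeries CategoryTheory Groth.Agent.Lib.Helper8.TFDual

variable {k : Type u} [Field k] (A : Subalgebra k (PowerSeries k))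
  (hA : Module.Finite ↥A (PowerSeries k))
  (hcl : ∀ f : PowerSeries k,
    (∀ n : ℕ, ∃ g ∈ A, (n : ℕ∞) ≤ PowerSeries.order (f - g)) → f ∈ A)
  (c : ℕ) (hc : ∀ n : ℕ, c ≤ n → ∃ f ∈ A, PowerSeries.order f = n) (hc0 : c ≠ 0)
  (hc1 : ¬ ∃ f ∈ A, PowerSeries.order f = ((c - 1 : ℕ) : ℕ∞))
  (ω : Submodule ↥A (PowerSeries k)) (hω1 : (1 : PowerSeries k) ∈ ω) (hωfg : ω.FG)
  (hωinj : HasInjectiveDimensionLT (ModuleCat.of ↥A ↥ω) 2)

include hA hcl hc hc0 hc1 hω1 hωfg hωinj

theorem valueSet_dual (M : Submodule ↥A (PowerSeries k)) (hMfg : M.FG)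
    (hM1 : (1 : PowerSeries k) ∈ M) (n : ℕ) :
    (∃ u : PowerSeries k, PowerSeries.order u = n ∧ ∀ m ∈ M, u * m ∈ ω) ↔
      (c ≤ n ∨ ¬ ∃ m ∈ M, PowerSeries.order m = ((c - 1 - n : ℕ) : ℕ∞)) := by
  haveI : IsLocalRing ↥A := isLocalRing A hcl c hc
  haveI : IsNoetherianRing ↥A := isNoetherianRing A hcl c hc hA
  have hdim : ringKrullDim ↥A = 1 := ringKrullDim_eq_one A hcl c hc hc0
  haveI : Module.Finite ↥A ↥ω := Module.Finite.iff_fg.mpr hωfg
  haveI : Nontrivial ↥ω := ⟨⟨⟨1, hω1⟩, 0, fun h => one_ne_zero (congrArg Subtype.val h)⟩⟩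
  haveI : Module.IsTorsionFree ↥A ↥ω := inferInstance
  haveI := hωinj
  have hAω : ∀ a ∈ A, a ∈ ω := by
    intro a ha
    have : (⟨a, ha⟩ : ↥A) • (1 : PowerSeries k) ∈ ω := ω.smul_mem _ hω1
    change a * 1 ∈ ω at this
    rwa [mul_one] at this
  have hTA : ∀ h : PowerSeries k, (c : ℕ∞) ≤ PowerSeries.order h → h ∈ A :=
    mem_of_le_order A hcl c hc
  have hTω : ∀ h : PowerSeries k, (c : ℕ∞) ≤ PowerSeries.order h → h ∈ ω :=
    fun h hh => hAω h (hTA h hh)
  have hXc : ∀ y : PowerSeries k, (PowerSeries.X : PowerSeries k) ^ c * y ∈ A := by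
    intro y
    apply hTA
    rw [PowerSeries.order_mul, PowerSeries.order_X_pow]
    exact le_self_add
  have hXc0 : (PowerSeries.X : PowerSeries k) ^ c ≠ 0 := pow_ne_zero c PowerSeries.X_ne_zero
  have hrk : ∀ w₀ w : ↥ω, w₀ ≠ 0 → ∃ s t : ↥A, s ≠ 0 ∧ s • w = t • w₀ := by
    intro w₀ w hw₀
    refine ⟨⟨_, hXc (w₀ : PowerSeries k)⟩, ⟨_, hXc (w : PowerSeries k)⟩, ?_, ?_⟩
    · intro h
      have h1 : (PowerSeries.X : PowerSeries k) ^ c * (w₀ : PowerSeries k) = 0 :=
        congrArg Subtype.val h
      rcases mul_eq_zero.mp h1 with h2 | h2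
      · exact hXc0 h2
      · exact hw₀ (Subtype.ext h2)
    · apply Subtype.ext
      change (PowerSeries.X : PowerSeries k) ^ c * (w₀ : PowerSeries k) * (w : PowerSeries k) =
        (PowerSeries.X : PowerSeries k) ^ c * (w : PowerSeries k) * (w₀ : PowerSeries k)
      ring
  -- (6a) homomorphisms are multiplications
  have hom_eq : ∀ (N : Submodule ↥A (PowerSeries k)) (φ : ↥N →ₗ[↥A] ↥ω) (x y : ↥N),
      (y : PowerSeries k) * (φ x : PowerSeries k) = (x : PowerSeries k) * (φ y : PowerSeries k) := by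
    intro N φ x y
    have h1 : (⟨_, hXc (y : PowerSeries k)⟩ : ↥A) • x = (⟨_, hXc (x : PowerSeries k)⟩ : ↥A) • y := by
      apply Subtype.ext
      change (PowerSeries.X : PowerSeries k) ^ c * (y : PowerSeries k) * (x : PowerSeries k) =
        (PowerSeries.X : PowerSeries k) ^ c * (x : PowerSeries k) * (y : PowerSeries k)
      ring
    have h2 := congrArg φ h1
    rw [map_smul, map_smul] at h2
    have h3 : (PowerSeries.X : PowerSeries k) ^ c * (y : PowerSeries k) * (φ x : PowerSeries k) =
        (PowerSeries.X : PowerSeries k) ^ c * (x : PowerSeries k) * (φ y : PowerSeries k) :=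
      congrArg Subtype.val h2
    apply mul_left_cancel₀ hXc0
    rw [← mul_assoc, ← mul_assoc]
    exact h3
  -- (6c)
  have div_top : ∀ x : PowerSeries k, (∀ p : PowerSeries k, x * p ∈ ω) →
      (c : ℕ∞) ≤ PowerSeries.order x := by
    intro x hx
    have hxA : ∀ p : PowerSeries k, x * p ∈ A := by
      intro p
      let μ : ↥ω →ₗ[↥A] ↥ω :=
        LinearMap.codRestrict ω ((LinearMap.mulLeft ↥A (x * p)) ∘ₗ ω.subtype) (fun w => by
          change x * p * (w : PowerSeries k) ∈ ω
          rw [mul_assoc]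
          exact hx _)
      obtain ⟨r, hr⟩ := (lsmul_bijective ↥ω hdim hrk).2 μ
      have h2 := LinearMap.congr_fun hr ⟨1, hω1⟩
      have h3 : (r : PowerSeries k) * 1 = x * p * 1 := congrArg Subtype.val h2
      rw [mul_one, mul_one] at h3
      rw [← h3]
      exact r.2
    by_contra hlt
    push Not at hlt
    have hx0 : x ≠ 0 := by
      intro h
      rw [h, PowerSeries.order_zero] at hlt
      exact not_top_lt hlt
    set a := (PowerSeries.order x).toNat
    have hax : PowerSeries.order x = a := (PowerSeries.coe_toNat_order hx0).symm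
    have hac : a < c := by
      rw [hax] at hlt
      exact_mod_cast hlt
    set e := PowerSeries.divXPowOrder x
    have hxe : PowerSeries.X ^ a * e = x := PowerSeries.X_pow_order_mul_divXPowOrder
    have he0 : PowerSeries.constantCoeff e ≠ 0 := fun h0 =>
      hx0 (PowerSeries.constantCoeff_divXPowOrder_eq_zero_iff.mp h0)
    have h1 : x * (e⁻¹ * PowerSeries.X ^ (c - 1 - a)) = PowerSeries.X ^ (c - 1) := by
      have h3 : e * e⁻¹ = 1 := PowerSeries.mul_inv_cancel e he0
      calc x * (e⁻¹ * PowerSeries.X ^ (c - 1 - a))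
          = PowerSeries.X ^ a * e * (e⁻¹ * PowerSeries.X ^ (c - 1 - a)) := by rw [hxe]
        _ = (e * e⁻¹) * (PowerSeries.X ^ a * PowerSeries.X ^ (c - 1 - a)) := by ring
        _ = PowerSeries.X ^ (c - 1) := by
          rw [h3, one_mul, ← pow_add]
          congr 1
          omega
    exact hc1 ⟨_, h1 ▸ hxA _, PowerSeries.order_X_pow (c - 1)⟩
  -- (6d)
  have no_pred : ∀ w ∈ ω, PowerSeries.order w ≠ ((c - 1 : ℕ) : ℕ∞) := by
    intro w hw hwc
    have h1 : ∀ p : PowerSeries k, w * p ∈ ω := by
      intro p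
      set l := PowerSeries.constantCoeff p
      have h2 : w * p = (⟨PowerSeries.C l, A.algebraMap_mem l⟩ : ↥A) • w +
          w * (p - PowerSeries.C l) := by
        change w * p = PowerSeries.C l * w + w * (p - PowerSeries.C l)
        ring
      rw [h2]
      refine ω.add_mem (ω.smul_mem _ hw) (hTω _ ?_)
      rw [PowerSeries.order_mul, hwc]
      have h3 : (1 : ℕ∞) ≤ PowerSeries.order (p - PowerSeries.C l) := by
        rw [PowerSeries.one_le_order_iff_constCoeff_eq_zero, map_sub,
          PowerSeries.constantCoeff_C, sub_self]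
      calc (c : ℕ∞) = ((c - 1 : ℕ) : ℕ∞) + 1 := by
            have : c = c - 1 + 1 := by omega
            exact_mod_cast this
        _ ≤ _ := by gcongr
    have := div_top w h1
    rw [hwc] at this
    have h4 : c ≤ c - 1 := by exact_mod_cast this
    omega
  -- (6b) biduality inside `P`
  have bidual : ∀ (M : Submodule ↥A (PowerSeries k)), M.FG → (1 : PowerSeries k) ∈ M →
      ∀ x : PowerSeries k, (∀ u : PowerSeries k, (∀ m ∈ M, u * m ∈ ω) → x * u ∈ ω) → x ∈ M := by
    intro M hMfg hM1 x hx
    haveI : Module.Finite ↥A ↥M := Module.Finite.iff_fg.mpr hMfg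
    haveI : Module.IsTorsionFree ↥A ↥M := inferInstance
    have hφ1 : ∀ (φ : ↥M →ₗ[↥A] ↥ω) (m : ↥M),
        (φ m : PowerSeries k) = (m : PowerSeries k) * (φ ⟨1, hM1⟩ : PowerSeries k) := by
      intro φ m
      have := hom_eq M φ m ⟨1, hM1⟩
      change (1 : PowerSeries k) * _ = _ at this
      rw [one_mul] at this
      exact this
    let Φ : (↥M →ₗ[↥A] ↥ω) →ₗ[↥A] ↥ω :=
      { toFun := fun φ => ⟨x * (φ ⟨1, hM1⟩ : PowerSeries k), hx _ (fun m hm => by
          rw [mul_comm, ← hφ1 φ ⟨m, hm⟩]
          exact (φ ⟨m, hm⟩).2)⟩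
        map_add' := by
          intro φ ψ
          apply Subtype.ext
          change x * ((φ ⟨1, hM1⟩ + ψ ⟨1, hM1⟩ : ↥ω) : PowerSeries k) = _
          rw [Submodule.coe_add, mul_add]
          rfl
        map_smul' := by
          intro r φ
          apply Subtype.ext
          change x * ((r • φ ⟨1, hM1⟩ : ↥ω) : PowerSeries k) =
            (r : PowerSeries k) * (x * (φ ⟨1, hM1⟩ : PowerSeries k))
          rw [Submodule.coe_smul]
          change x * ((r : PowerSeries k) * _) = _
          ring }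
    obtain ⟨m₀, hm₀⟩ := applyₗ_surjective ↥ω hdim hrk ↥M Φ
    let φc : ↥M →ₗ[↥A] ↥ω :=
      LinearMap.codRestrict ω ((LinearMap.mulLeft ↥A ((PowerSeries.X : PowerSeries k) ^ c)) ∘ₗ
        M.subtype) (fun m => hAω _ (hXc _))
    have h1 := LinearMap.congr_fun hm₀ φc
    have h2 : (PowerSeries.X : PowerSeries k) ^ c * (m₀ : PowerSeries k) =
        x * ((PowerSeries.X : PowerSeries k) ^ c * 1) := congrArg Subtype.val h1
    have h3 : (m₀ : PowerSeries k) = x := by
      apply mul_left_cancel₀ hXc0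
      rw [h2]
      ring
    rw [← h3]
    exact m₀.2
  constructor
  · rintro ⟨u, hun, hu⟩
    by_contra hcon
    push Not at hcon
    obtain ⟨hnc, m, hm, hmo⟩ := hcon
    have h1 := hu m hm
    apply no_pred _ h1
    rw [PowerSeries.order_mul, hun, hmo]
    have : n + (c - 1 - n) = c - 1 := by omega
    exact_mod_cast this
  · rintro (hcn | hno)
    · refine ⟨PowerSeries.X ^ n, PowerSeries.order_X_pow n, fun m _ => hTω _ ?_⟩
      rw [PowerSeries.order_mul, PowerSeries.order_X_pow]
      calc (c : ℕ∞) ≤ n := by exact_mod_cast hcn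
        _ ≤ _ := le_self_add
    · by_cases hcn : c ≤ n
      · refine ⟨PowerSeries.X ^ n, PowerSeries.order_X_pow n, fun m _ => hTω _ ?_⟩
        rw [PowerSeries.order_mul, PowerSeries.order_X_pow]
        calc (c : ℕ∞) ≤ n := by exact_mod_cast hcn
          _ ≤ _ := le_self_add
      push Not at hcn
      set j := c - 1 - n with hj
      have hM'fg : (M ⊔ T A j).FG := hMfg.sup (T_fg A hA j)
      have hM''fg : (M ⊔ T A (j + 1)).FG := hMfg.sup (T_fg A hA (j + 1))
      have hex : ∃ u : PowerSeries k, (∀ m ∈ M ⊔ T A (j + 1), u * m ∈ ω) ∧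
          ¬ (∀ m ∈ M ⊔ T A j, u * m ∈ ω) := by
        by_contra hcon
        push Not at hcon
        have hXj' : (PowerSeries.X : PowerSeries k) ^ j ∈ M ⊔ T A j :=
          (le_sup_right : T A j ≤ M ⊔ T A j) (by
            rw [mem_T, PowerSeries.order_X_pow])
        have hXj'' : (PowerSeries.X : PowerSeries k) ^ j ∈ M ⊔ T A (j + 1) := by
          apply bidual _ hM''fg ((le_sup_left : M ≤ _) hM1)
          intro u hu
          rw [mul_comm]
          exact hcon u hu _ hXj'
        obtain ⟨m, hm, h, hh, hmh⟩ := Submodule.mem_sup.mp hXj''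
        rw [mem_T] at hh
        apply hno
        refine ⟨m, hm, ?_⟩
        have hm' : m = PowerSeries.X ^ j - h := by rw [← hmh]; ring
        rw [PowerSeries.order_eq_nat]
        constructor
        · rw [hm', map_sub, PowerSeries.coeff_X_pow_self, PowerSeries.coeff_of_lt_order j
            (lt_of_lt_of_le (by exact_mod_cast Nat.lt_succ_self j) hh), sub_zero]
          exact one_ne_zero
        · intro i hi
          rw [hm', map_sub, PowerSeries.coeff_X_pow, if_neg (by omega),
            PowerSeries.coeff_of_lt_order i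
              (lt_of_lt_of_le (by exact_mod_cast (by omega : i < j + 1)) hh), sub_zero]
      obtain ⟨u, hu'', hu'⟩ := hex
      have hu0 : u ≠ 0 := by
        intro h
        apply hu'
        intro m _
        rw [h, zero_mul]
        exact ω.zero_mem
      set a := (PowerSeries.order u).toNat
      have hau : PowerSeries.order u = a := (PowerSeries.coe_toNat_order hu0).symm
      have hge : n ≤ a := by
        have h1 : ∀ p : PowerSeries k, u * PowerSeries.X ^ (j + 1) * p ∈ ω := by
          intro p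
          rw [mul_assoc]
          apply hu''
          apply (le_sup_right : T A (j + 1) ≤ M ⊔ T A (j + 1))
          rw [mem_T, PowerSeries.order_mul, PowerSeries.order_X_pow]
          exact le_self_add
        have h2 := div_top _ h1
        rw [PowerSeries.order_mul, PowerSeries.order_X_pow, hau] at h2
        have h3 : c ≤ a + (j + 1) := by exact_mod_cast h2
        omega
      have hle : a ≤ n := by
        by_contra hlt
        push Not at hlt
        apply hu'
        intro m' hm'
        obtain ⟨m, hm, h, hh, rfl⟩ := Submodule.mem_sup.mp hm'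
        rw [mem_T] at hh
        rw [mul_add]
        refine ω.add_mem (hu'' m ((le_sup_left : M ≤ _) hm)) (hTω _ ?_)
        rw [PowerSeries.order_mul, hau]
        calc (c : ℕ∞) ≤ ((a + j : ℕ) : ℕ∞) := by exact_mod_cast (by omega : c ≤ a + j)
          _ = (a : ℕ∞) + (j : ℕ∞) := by push_cast; rfl
          _ ≤ _ := by gcongr
      refine ⟨u, ?_, fun m hm => hu'' m ((le_sup_left : M ≤ _) hm)⟩
      rw [hau]
      exact_mod_cast le_antisymm hle hge

end Groth.Agent.Lib.Helper8.ValSemi
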