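import Mathlib
import Groth.Agent.Lib.Helper8ValSemi4

/-!
# Closed subalgebras of `k[[t]]` (helper8), part 5

Normal form of rank-one torsion-free modules: `t^{2δ} P ⊆ M' ⊆ P` with `dim P/M' = δ`.
-/

set_option autoImplicit false
set_option linter.style.haveILetI false
set_option linter.unusedSectionVars false

namespace Groth.Agent.Lib.Helper8.ValSemi

universe u

open PowerSeries

variable {k : Type u} [Field k] (A : Subalgebra k (PowerSeries k))

theorem exists_normalForm (hA : Module.Finite ↥A (PowerSeries k))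
    (hcl : ∀ f : PowerSeries k,
      (∀ n : ℕ, ∃ g ∈ A, (n : ℕ∞) ≤ PowerSeries.order (f - g)) → f ∈ A)
    (hbir : ∀ f : PowerSeries k, ∃ a ∈ A, a ≠ 0 ∧ a * f ∈ A) (Γ : Set ℕ)
    (hΓ : ∀ n : ℕ, n ∈ Γ ↔ ∃ f ∈ A, PowerSeries.order f = n)
    (M : Type u) [AddCommGroup M] [Module ↥A M] [Module.Finite ↥A M] [NoZeroSMulDivisors ↥A M]
    (hrk : Module.finrank (FractionRing ↥A) (TensorProduct ↥A (FractionRing ↥A) M) = 1) :
    ∃ M' : Submodule ↥A (PowerSeries k),
      (Ideal.span {(PowerSeries.X : PowerSeries k) ^ (2 * Γᶜ.ncard)}).restrictScalars ↥A ≤ M' ∧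
        Nonempty (M ≃ₗ[↥A] ↥M') ∧
          Module.finrank k (PowerSeries k ⧸ M'.restrictScalars k) = Γᶜ.ncard := by
  classical
  -- conductor bound
  obtain ⟨r, sp, hsp⟩ := Module.Finite.exists_fin (R := ↥A) (M := PowerSeries k)
  choose a ha ha0 hap using fun i => hbir (sp i)
  set a₀ := ∏ i, a i with ha₀
  have ha₀0 : a₀ ≠ 0 := Finset.prod_ne_zero_iff.mpr (fun i _ => ha0 i)
  have hmul : ∀ f : PowerSeries k, a₀ * f ∈ A := by
    intro f
    have hf : f ∈ Submodule.span ↥A (Set.range sp) := by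
      rw [hsp]
      exact Submodule.mem_top
    induction hf using Submodule.span_induction with
    | mem x hx =>
      obtain ⟨i, rfl⟩ := hx
      have h1 : a₀ * sp i = (∏ j ∈ Finset.univ.erase i, a j) * (a i * sp i) := by
        rw [ha₀, ← Finset.mul_prod_erase Finset.univ a (Finset.mem_univ i)]
        ring
      rw [h1]
      exact A.mul_mem (Subalgebra.prod_mem A (fun j _ => ha j)) (hap i)
    | zero =>
      rw [mul_zero]
      exact A.zero_mem
    | add x y _ _ hx hy =>
      rw [mul_add]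
      exact A.add_mem hx hy
    | smul b x _ hx =>
      change a₀ * ((b : PowerSeries k) * x) ∈ A
      rw [mul_left_comm]
      exact A.mul_mem b.2 hx
  set c₀ := (PowerSeries.order a₀).toNat with hc₀
  have hc₀' : PowerSeries.order a₀ = c₀ := (PowerSeries.coe_toNat_order ha₀0).symm
  have hXn : ∀ n : ℕ, c₀ ≤ n → (PowerSeries.X : PowerSeries k) ^ n ∈ A := by
    intro n hn
    set e := PowerSeries.divXPowOrder a₀
    have hae : PowerSeries.X ^ c₀ * e = a₀ := PowerSeries.X_pow_order_mul_divXPowOrder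
    have he0 : PowerSeries.constantCoeff e ≠ 0 := fun h0 =>
      ha₀0 (PowerSeries.constantCoeff_divXPowOrder_eq_zero_iff.mp h0)
    have h3 : e * e⁻¹ = 1 := PowerSeries.mul_inv_cancel e he0
    have h4 : (PowerSeries.X : PowerSeries k) ^ n = a₀ * (e⁻¹ * PowerSeries.X ^ (n - c₀)) := by
      calc (PowerSeries.X : PowerSeries k) ^ n
          = (e * e⁻¹) * (PowerSeries.X ^ c₀ * PowerSeries.X ^ (n - c₀)) := by
            rw [h3, one_mul, ← pow_add]
            congr 1
            omega
        _ = (PowerSeries.X ^ c₀ * e) * (e⁻¹ * PowerSeries.X ^ (n - c₀)) := by ring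
        _ = _ := by rw [hae]
    rw [h4]
    exact hmul _
  have hc : ∀ n : ℕ, c₀ ≤ n → ∃ f ∈ A, PowerSeries.order f = n :=
    fun n hn => ⟨_, hXn n hn, PowerSeries.order_X_pow n⟩
  have hΓfin : Γᶜ.Finite := by
    apply (Set.finite_lt_nat c₀).subset
    intro i hi
    by_contra hlt
    exact hi ((hΓ i).mpr (hc i (not_lt.mp hlt)))
  -- embed `M` in `P`
  obtain ⟨φ, hφ⟩ := exists_injective_to_ring M hrk
  let ψ : M →ₗ[↥A] PowerSeries k := (Algebra.linearMap ↥A (PowerSeries k)) ∘ₗ φ
  have hψ : Function.Injective ψ := fun x y h => hφ (Subtype.ext h)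
  set M₁ : Submodule ↥A (PowerSeries k) := LinearMap.range ψ with hM₁
  let e₁ : M ≃ₗ[↥A] ↥M₁ := LinearEquiv.ofInjective ψ hψ
  have hMnt : Nontrivial M := by
    by_contra hcon
    rw [not_nontrivial_iff_subsingleton] at hcon
    haveI := hcon
    have : Module.finrank (FractionRing ↥A) (TensorProduct ↥A (FractionRing ↥A) M) = 0 := by
      haveI : Subsingleton (TensorProduct ↥A (FractionRing ↥A) M) := inferInstance
      exact Module.finrank_zero_of_subsingleton
    rw [this] at hrk
    exact zero_ne_one hrk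
  obtain ⟨m₀, hm₀⟩ := exists_ne (0 : M)
  have hS : ∃ n : ℕ, ∃ g ∈ M₁, PowerSeries.order g = n := by
    have h0 : ψ m₀ ≠ 0 := fun h => hm₀ (hψ (h.trans (map_zero ψ).symm))
    exact ⟨(PowerSeries.order (ψ m₀)).toNat, ψ m₀, ⟨m₀, rfl⟩,
      (PowerSeries.coe_toNat_order h0).symm⟩
  set av := Nat.find hS with hav
  obtain ⟨g, hg, hga⟩ := Nat.find_spec hS
  have hg0 : g ≠ 0 := by
    intro h
    rw [h, PowerSeries.order_zero] at hga
    exact ENat.top_ne_natCast _ hga
  have hmin : ∀ f ∈ M₁, (av : ℕ∞) ≤ PowerSeries.order f := by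
    intro f hf
    by_cases hf0 : f = 0
    · rw [hf0, PowerSeries.order_zero]
      exact le_top
    · have : Nat.find hS ≤ (PowerSeries.order f).toNat :=
        Nat.find_min' hS ⟨f, hf, (PowerSeries.coe_toNat_order hf0).symm⟩
      rw [← PowerSeries.coe_toNat_order hf0]
      exact_mod_cast this
  -- normalize: `M₂ = g⁻¹ M₁ ∋ 1`
  set M₂ : Submodule ↥A (PowerSeries k) :=
    Submodule.comap (LinearMap.mulLeft ↥A g) M₁ with hM₂
  have h1M₂ : (1 : PowerSeries k) ∈ M₂ := by
    change g * 1 ∈ M₁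
    rw [mul_one]
    exact hg
  let θ₀ : ↥M₂ →ₗ[↥A] ↥M₁ := (LinearMap.mulLeft ↥A g).restrict (p := M₂) (q := M₁)
    (fun x hx => hx)
  have hθ₀ : Function.Bijective θ₀ := by
    constructor
    · intro x y hxy
      have h1 : g * (x : PowerSeries k) = g * (y : PowerSeries k) := congrArg Subtype.val hxy
      exact Subtype.ext (mul_left_cancel₀ hg0 h1)
    · intro m₁
      set e := PowerSeries.divXPowOrder g
      have hge : PowerSeries.X ^ av * e = g := by
        have := PowerSeries.X_pow_order_mul_divXPowOrder (f := g)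
        rw [hga] at this
        exact this
      have he0 : PowerSeries.constantCoeff e ≠ 0 := fun h0 =>
        hg0 (PowerSeries.constantCoeff_divXPowOrder_eq_zero_iff.mp h0)
      have h3 : e * e⁻¹ = 1 := PowerSeries.mul_inv_cancel e he0
      have hdvd : (PowerSeries.X : PowerSeries k) ^ av ∣ (m₁ : PowerSeries k) := by
        rw [PowerSeries.X_pow_dvd_iff]
        intro i hi
        apply PowerSeries.coeff_of_lt_order
        exact lt_of_lt_of_le (by exact_mod_cast hi) (hmin _ m₁.2)
      obtain ⟨w, hw⟩ := hdvd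
      have h4 : g * (e⁻¹ * w) = (m₁ : PowerSeries k) := by
        calc g * (e⁻¹ * w) = (PowerSeries.X ^ av * e) * (e⁻¹ * w) := by rw [hge]
          _ = (e * e⁻¹) * (PowerSeries.X ^ av * w) := by ring
          _ = _ := by rw [h3, one_mul, ← hw]
      refine ⟨⟨e⁻¹ * w, ?_⟩, Subtype.ext h4⟩
      change g * (e⁻¹ * w) ∈ M₁
      rw [h4]
      exact m₁.2
  let e₂ : ↥M₂ ≃ₗ[↥A] ↥M₁ := LinearEquiv.ofBijective θ₀ hθ₀
  haveI : Module.Finite ↥A ↥M₂ := Module.Finite.equiv (e₁.trans e₂.symm)
  have hM₂fg : M₂.FG := Module.Finite.iff_fg.mp inferInstance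
  -- value sets
  set D : Set ℕ := {i | ∃ h ∈ M₂, PowerSeries.order h = (i : ℕ∞)} with hD
  have hAM₂ : ∀ f ∈ A, f ∈ M₂ := by
    intro f hf
    have : (⟨f, hf⟩ : ↥A) • (1 : PowerSeries k) ∈ M₂ := M₂.smul_mem _ h1M₂
    change f * 1 ∈ M₂ at this
    rwa [mul_one] at this
  have hΓD : Γ ⊆ D := by
    intro i hi
    obtain ⟨f, hf, hfi⟩ := (hΓ i).mp hi
    exact ⟨f, hAM₂ f hf, hfi⟩
  have hDfin : Dᶜ.Finite := hΓfin.subset (Set.compl_subset_compl.mpr hΓD)
  have hGD : ∀ x ∈ Γ, ∀ y ∈ D, x + y ∈ D := by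
    intro x hx y hy
    obtain ⟨f, hf, hfx⟩ := (hΓ x).mp hx
    obtain ⟨h, hh, hhy⟩ := hy
    refine ⟨f * h, M₂.smul_mem ⟨f, hf⟩ hh, ?_⟩
    rw [PowerSeries.order_mul, hfx, hhy]
    push_cast
    rfl
  set δ := Γᶜ.ncard with hδ
  set δ₂ := Dᶜ.ncard with hδ₂
  have hδle : δ₂ ≤ δ := Set.ncard_le_ncard (Set.compl_subset_compl.mpr hΓD) hΓfin
  have hTM₂ : T A (δ + δ₂) ≤ M₂ := by
    apply T_le_of_orders A hcl hA M₂ hM₂fg
    intro n hn
    exact mem_of_count Γ D hGD hΓfin hDfin n hn
  set d := δ - δ₂ with hd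
  -- the normal form
  have hXd0 : (PowerSeries.X : PowerSeries k) ^ d ≠ 0 := pow_ne_zero d PowerSeries.X_ne_zero
  have hinjd : Function.Injective (LinearMap.mulLeft ↥A ((PowerSeries.X : PowerSeries k) ^ d)) :=
    fun x y h => mul_left_cancel₀ hXd0 h
  set M' : Submodule ↥A (PowerSeries k) :=
    Submodule.map (LinearMap.mulLeft ↥A ((PowerSeries.X : PowerSeries k) ^ d)) M₂ with hM'
  let e₃ : ↥M₂ ≃ₗ[↥A] ↥M' := Submodule.equivMapOfInjective _ hinjd M₂
  have hmemM' : ∀ w : PowerSeries k, (PowerSeries.X : PowerSeries k) ^ (2 * δ) * w ∈ M' := by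
    intro w
    refine ⟨PowerSeries.X ^ (δ + δ₂) * w, hTM₂ ?_, ?_⟩
    · rw [mem_T, PowerSeries.order_mul, PowerSeries.order_X_pow]
      exact le_self_add
    · change PowerSeries.X ^ d * (PowerSeries.X ^ (δ + δ₂) * w) = _
      rw [← mul_assoc, ← pow_add]
      congr 2
      omega
  refine ⟨M', ?_, ⟨(e₁.trans e₂.symm).trans e₃⟩, ?_⟩
  · intro x hx
    rw [Submodule.restrictScalars_mem, Ideal.mem_span_singleton] at hx
    obtain ⟨w, rfl⟩ := hx
    exact hmemM' w
  · have hTk : Tk k (2 * δ) ≤ M'.restrictScalars k := by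
      intro x hx
      rw [mem_Tk] at hx
      have hdvd : (PowerSeries.X : PowerSeries k) ^ (2 * δ) ∣ x := by
        rw [PowerSeries.X_pow_dvd_iff]
        intro i hi
        apply PowerSeries.coeff_of_lt_order
        exact lt_of_lt_of_le (by exact_mod_cast hi) hx
      obtain ⟨w, rfl⟩ := hdvd
      rw [Submodule.restrictScalars_mem]
      exact hmemM' w
    obtain ⟨_, hrank, _⟩ := gap_count (2 * δ) (M'.restrictScalars k) hTk
    rw [hrank]
    have hgaps : gaps (M'.restrictScalars k) = Set.Iio d ∪ (fun j => d + j) '' Dᶜ := by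
      ext i
      constructor
      · intro hi
        by_cases hid : i < d
        · exact Or.inl hid
        · right
          refine ⟨i - d, ?_, by show d + (i - d) = i; omega⟩
          intro hj
          obtain ⟨h, hh, hhj⟩ := hj
          apply hi
          refine ⟨PowerSeries.X ^ d * h, (Submodule.restrictScalars_mem k M' _).mpr ⟨h, hh, rfl⟩, ?_⟩
          rw [PowerSeries.order_mul, PowerSeries.order_X_pow, hhj]
          have : d + (i - d) = i := by omega
          exact_mod_cast this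
      · rintro (hid | ⟨j, hj, rfl⟩)
        · rintro ⟨g', hg', hgi⟩
          rw [Submodule.restrictScalars_mem] at hg'
          obtain ⟨h, hh, rfl⟩ := hg'
          change PowerSeries.order (PowerSeries.X ^ d * h) = _ at hgi
          rw [PowerSeries.order_mul, PowerSeries.order_X_pow] at hgi
          have h5 : (d : ℕ∞) ≤ i := by
            rw [← hgi]
            exact le_self_add
          have : d ≤ i := by exact_mod_cast h5
          exact absurd hid (not_lt.mpr this)
        · rintro ⟨g', hg', hgi⟩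
          rw [Submodule.restrictScalars_mem] at hg'
          obtain ⟨h, hh, rfl⟩ := hg'
          change PowerSeries.order (PowerSeries.X ^ d * h) = _ at hgi
          rw [PowerSeries.order_mul, PowerSeries.order_X_pow] at hgi
          apply hj
          refine ⟨h, hh, ?_⟩
          have h6 : (d : ℕ∞) + PowerSeries.order h = (d : ℕ∞) + (j : ℕ∞) := by
            rw [hgi]
            push_cast
            rfl
          exact ENat.add_right_injective_of_ne_top (ENat.natCast_ne_top d) h6
    rw [hgaps, Set.ncard_union_eq ?_ (Set.finite_Iio d) (hDfin.image _),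
      Set.ncard_image_of_injective _ (add_right_injective d)]
    · have : (Set.Iio d).ncard = d := by
        rw [← Finset.coe_range, Set.ncard_coe_finset, Finset.card_range]
      rw [this]
      omega
    · rw [Set.disjoint_left]
      rintro i hid ⟨j, _, rfl⟩
      have : d + j < d := hid
      omega

end Groth.Agent.Lib.Helper8.ValSemi
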