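import Groth.Agent.Lib.Helper8VerFinite
import Groth.Agent.Lib.Helper25FinQuotSk
import Groth.Agent.Lib.Helper28FGDim
import Groth.Agent.Lib.Helper29HLVT

/-!
# Cohen–Macaulayness descends to the Veronese subring (helper8)

Variant of helper25's retract argument (`Helper25FinQuotSk`) with the going-down hypothesis
replaced by the inequality `ht (Q ∩ B) ≤ ht Q`, which for a Cohen–Macaulay graded ring over a field
follows from the dimension formula.
-/

set_option autoImplicit false
set_option linter.style.haveILetI false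
set_option linter.unusedSectionVars false
universe u
open DirectSum

noncomputable section

namespace Groth.Agent.Lib.Helper8.VerCM

open CategoryTheory Abelian Groth.Agent.Lib

section General

variable {B R : Type u} [CommRing B] [CommRing R] [Algebra B R] [IsNoetherianRing B]
  [IsNoetherianRing R] [Module.Finite B R]
  (hht : ∀ (Q : Ideal R) [Q.IsPrime], (Q.under B).height ≤ Q.height)

include hht in
theorem le_idealDepth_of_hasSk (r : ℕ) (hR : LocCoh.HasSk r R R) (p : Ideal B) [p.IsPrime]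
    (n : ℕ) (hnr : n ≤ r) (hnp : (n : ℕ∞) ≤ p.height) :
    (n : ℕ∞) ≤ LocCoh.idealDepth p R := by
  rw [Helper28.idealDepth_restrictScalars_eq_idealDepth_map (B := R) p R,
    Helper28.idealDepth_eq_iInf_depth_localization]
  refine le_iInf₂ fun Q hQ => ?_
  have hpQ : p ≤ Q.asIdeal.under B := Ideal.map_le_iff_le_comap.mp hQ
  have h1 : p.height ≤ (Q.asIdeal.under B).height := Ideal.height_mono hpQ
  have h2 : (Q.asIdeal.under B).height ≤ Q.asIdeal.height := hht Q.asIdeal
  have h3 := hR Q.asIdeal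
  rw [Module.supportDim_eq_of_equiv (Helper28.localizedModuleSelfEquiv Q.asIdeal),
    Helper28.supportDim_localization_self] at h3
  have h4 : ((n : ℕ∞) : WithBot ℕ∞) ≤
      min (r : WithBot ℕ∞) ((Q.asIdeal.height : ℕ∞) : WithBot ℕ∞) :=
    le_min (by exact_mod_cast hnr) (WithBot.coe_le_coe.mpr (hnp.trans (h1.trans h2)))
  exact WithBot.coe_le_coe.mp (h4.trans h3)

include hht in
theorem height_le_idealDepth_of_isCohenMacaulayRing (hR : LocCoh.IsCohenMacaulayRing R)
    (p : Ideal B) [p.IsPrime] : p.height ≤ LocCoh.idealDepth p R := by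
  obtain ⟨n, hn⟩ := ENat.ne_top_iff_exists.mp (Ideal.height_ne_top_of_isPrime (I := p))
  rw [← hn]
  exact le_idealDepth_of_hasSk hht n (Helper28.SFC.hasSk_of_isCohenMacaulayRing n R hR) p n le_rfl
    (le_of_eq hn)

variable (E : R →ₗ[B] B) (hE : ∀ b : B, E (algebraMap B R b) = b)

include hE in
/-- depth passes to a module retract -/
theorem le_idealDepth_self_of_retract (I : Ideal B) (n : ℕ)
    (h : (n : ℕ∞) ≤ LocCoh.idealDepth I R) : (n : ℕ∞) ≤ LocCoh.idealDepth I B := by
  rw [Helper28.natCast_le_idealDepth_iff_ext'] at h ⊢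
  intro i hi
  refine Helper25.FinQuotSk.subsingleton_ext_of_retract (ModuleCat.ofHom (Algebra.linearMap B R))
    (ModuleCat.ofHom E) ?_ i (h i hi)
  ext
  have h1 := hE 1
  rw [map_one] at h1
  simpa using h1

include hht hE in
/-- Cohen–Macaulayness descends to a module retract along a finite extension with
`ht (Q ∩ B) ≤ ht Q`. -/
theorem isCohenMacaulayRing_of_retract (hR : LocCoh.IsCohenMacaulayRing R) :
    LocCoh.IsCohenMacaulayRing B := by
  refine ⟨fun p _ => ?_⟩
  rw [Helper5.CMLocusOpen.cm_iff_height_eq_depth p]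
  apply le_antisymm _ (Helper5.CMLocusOpen.depth_le_height p)
  obtain ⟨n, hn⟩ := ENat.ne_top_iff_exists.mp (Ideal.height_ne_top_of_isPrime (I := p))
  have h1 : (n : ℕ∞) ≤ LocCoh.idealDepth p R := by
    rw [hn]
    exact height_le_idealDepth_of_isCohenMacaulayRing hht hR p
  have h2 := le_idealDepth_self_of_retract E hE p n h1
  rw [← hn, ← Helper28.depth_localizedModule_self]
  exact h2.trans (Helper28.idealDepth_le_depth_localization p B le_rfl)

end General

section Graded

variable {R : Type u} [CommRing R] [hR : LocCoh.IsCohenMacaulayRing R]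
  (𝒜 : ℤ → AddSubgroup R) [GradedRing 𝒜]
  (hpos : ∀ n : ℤ, n < 0 → 𝒜 n = ⊥) (h0 : IsField (GrLC.deg0 𝒜))
  (m : HomogeneousIdeal 𝒜) (hm : GrLC.IsStarLocal 𝒜 m)
  (hmsp : m.toIdeal = Ideal.span (⋃ n ∈ Set.Ioi (0 : ℤ), (𝒜 n : Set R)))

include hpos h0 hm hmsp in
/-- every maximal ideal of a Cohen–Macaulay graded ring over a field has height `dim R`. -/
theorem height_eq_of_isMaximal (n : ℕ) (hn : ringKrullDim R = n) (𝔫 : Ideal R)
    (h𝔫 : 𝔫.IsMaximal) : 𝔫.height = n := by
  letI F : Field (GrLC.deg0 𝒜) := h0.toField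
  letI A : Algebra (GrLC.deg0 𝒜) R := RingHom.toAlgebra (GrLC.deg0 𝒜).subtype
  haveI FT : Algebra.FiniteType (GrLC.deg0 𝒜) R :=
    Groth.Agent.Lib.Helper8.GrField.finiteType 𝒜 hpos m hmsp
  haveI hmax := Groth.Agent.Lib.Helper8.GrField.isMaximal 𝒜 hpos h0 m hm hmsp
  haveI := h𝔫
  have h𝔫p : 𝔫.IsPrime := h𝔫.isPrime
  haveI : (Ideal.homogeneousCore 𝒜 𝔫).toIdeal.IsPrime := Ideal.IsPrime.homogeneousCore h𝔫p
  have hq𝔫 : (Ideal.homogeneousCore 𝒜 𝔫).toIdeal ≤ 𝔫 := Ideal.toIdeal_homogeneousCore_le 𝒜 𝔫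
  have hqm : (Ideal.homogeneousCore 𝒜 𝔫).toIdeal ≤ m.toIdeal :=
    Groth.Agent.Lib.Helper29GrStarLocal.le_of_ne_top 𝒜 m hm _
      (Ideal.homogeneousCore 𝒜 𝔫).isHomogeneous (Ideal.IsPrime.ne_top inferInstance)
  have h1 := Groth.Agent.Lib.Helper8.GrField.height_eq_of_le_of_le (GrLC.deg0 𝒜)
    (Ideal.homogeneousCore 𝒜 𝔫).toIdeal m.toIdeal 𝔫 hqm hq𝔫
  rw [← h1]
  exact Groth.Agent.Lib.Helper8.GrField.height_eq 𝒜 hpos h0 m hm hmsp n hn

open Groth.Agent.Lib.Helper8.Veronese

variable {R' : Type u} [CommRing R'] {𝒜' : ℤ → AddSubgroup R'} [GradedRing 𝒜']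
  (D : VerData 𝒜 𝒜') (hφ : Function.Injective D.φ)
  (hsurj : ∀ j : ℤ, ∀ x ∈ 𝒜 (j * D.q), ∃ a ∈ 𝒜' j, D.φ a = x)

include hφ hsurj in
/-- The Veronese subring has the same dimension. -/
theorem ringKrullDim_veronese : ringKrullDim R' = ringKrullDim R := by
  letI : Algebra R' R := D.φ.toAlgebra
  haveI hint : Algebra.IsIntegral R' R := ⟨isIntegral_of_veronese D hsurj⟩
  exact (Helper5.ringKrullDim_eq_of_isIntegral_of_injective R' R hφ).symm

include hpos h0 hm hmsp hφ hsurj in
/-- `ht (Q ∩ R') ≤ ht Q`. -/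
theorem height_comap_le (n : ℕ) (hn : ringKrullDim R = n) (Q : Ideal R) [hQ : Q.IsPrime] :
    (Q.comap D.φ).height ≤ Q.height := by
  letI : Algebra R' R := D.φ.toAlgebra
  haveI hint : Algebra.IsIntegral R' R := ⟨isIntegral_of_veronese D hsurj⟩
  have hdim' : ringKrullDim R' = n := by
    rw [← hn]
    exact ringKrullDim_veronese 𝒜 D hφ hsurj
  have h1 : ((Q.height : ℕ∞) : WithBot ℕ∞) + ringKrullDim (R ⧸ Q) = n :=
    Groth.Agent.Lib.Helper28.height_add_ringKrullDim_quotient_eq_of_forall_isMaximal_height_eq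
      n (fun 𝔫 h𝔫 => height_eq_of_isMaximal 𝒜 hpos h0 m hm hmsp n hn 𝔫 h𝔫) Q
  have h2 : ringKrullDim (R' ⧸ Q.comap (algebraMap R' R)) = ringKrullDim (R ⧸ Q) :=
    Groth.Agent.Lib.Helper29.HLVT.ringKrullDim_quotient_comap_of_isIntegral R' R Q
  have hQ' : (Q.comap D.φ).IsPrime := Ideal.comap_isPrime _ _
  have h3 : (((Q.comap D.φ).height : ℕ∞) : WithBot ℕ∞) + ringKrullDim (R' ⧸ Q.comap D.φ) ≤
      ringKrullDim R' := Groth.Agent.Lib.Helper28.height_add_ringKrullDim_quotient_le _ hQ'.ne_top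
  have h2' : ringKrullDim (R' ⧸ Q.comap D.φ) = ringKrullDim (R ⧸ Q) := h2
  rw [h2', hdim'] at h3
  have hnt : Nontrivial (R ⧸ Q) := Ideal.Quotient.nontrivial_iff.mpr hQ.ne_top
  have hbot : ringKrullDim (R ⧸ Q) ≠ ⊥ := by
    intro h
    have := ringKrullDim_nonneg_of_nontrivial (R := R ⧸ Q)
    rw [h] at this
    exact absurd this (by simp)
  obtain ⟨d, hd⟩ : ∃ d : ℕ∞, ringKrullDim (R ⧸ Q) = (d : WithBot ℕ∞) :=
    ⟨_, (WithBot.coe_unbot _ hbot).symm⟩
  rw [hd] at h1 h3
  have h1' : Q.height + d = (n : ℕ∞) := by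
    apply WithBot.coe_injective
    rw [WithBot.coe_add]
    exact h1
  have h3' : (Q.comap D.φ).height + d ≤ (n : ℕ∞) := by
    apply WithBot.coe_le_coe.mp
    rw [WithBot.coe_add]
    exact h3
  have hdtop : d ≠ ⊤ := by
    intro h
    rw [h, add_top] at h1'
    exact ENat.top_ne_natCast n h1'
  rw [← h1'] at h3'
  exact (ENat.add_le_add_iff_right hdtop).mp h3'

include hpos h0 hm hmsp hφ hsurj in
/-- The Veronese subring of a Cohen–Macaulay graded ring over a field is Cohen–Macaulay. -/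
theorem isCohenMacaulayRing_of_veronese (n : ℕ) (hn : ringKrullDim R = n) :
    LocCoh.IsCohenMacaulayRing R' := by
  letI : Algebra R' R := D.φ.toAlgebra
  haveI : IsNoetherianRing R := inferInstance
  haveI : IsNoetherianRing R' := isNoetherianRing_of_veronese D hφ hsurj
  haveI : Module.Finite R' R := finite_of_veronese D hsurj hpos m hmsp
  choose Ef hch using rhoR_mem_range D hsurj
  let E : R →ₗ[R'] R' :=
    { toFun := Ef
      map_add' := fun r s => by
        apply hφ
        have h1 : D.φ (Ef (r + s)) = rhoR D r + rhoR D s :=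
          (hch (r + s)).trans (map_add (rhoR D) r s)
        have h2 : D.φ (Ef r + Ef s) = rhoR D r + rhoR D s := by rw [map_add, hch r, hch s]
        exact h1.trans h2.symm
      map_smul' := fun a r => by
        apply hφ
        have h1 : D.φ (Ef (a • r)) = D.φ a * rhoR D r := (hch (a • r)).trans (rhoR_mul D a r)
        have h2 : D.φ ((RingHom.id R') a • Ef r) = D.φ a * rhoR D r := by
          rw [RingHom.id_apply, smul_eq_mul, map_mul, hch r]
        exact h1.trans h2.symm }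
  have hE : ∀ b : R', E (algebraMap R' R b) = b := by
    intro b
    apply hφ
    show D.φ (Ef (D.φ b)) = D.φ b
    rw [hch]
    exact rhoR_φ D b
  exact isCohenMacaulayRing_of_retract
    (fun Q _ => height_comap_le 𝒜 hpos h0 m hm hmsp D hφ hsurj n hn Q) E hE hR

end Graded

end Groth.Agent.Lib.Helper8.VerCM
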