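import Groth.Agent.Lib.Helper8VerRing
import Groth.Agent.Lib.Helper8GrField

/-!
# A graded ring is integral and finite over its Veronese subring (helper8)
-/

set_option autoImplicit false
set_option linter.style.haveILetI false
set_option linter.unusedSectionVars false
universe u
open DirectSum

noncomputable section

namespace Groth.Agent.Lib.Helper8.Veronese

variable {R : Type u} [CommRing R] {𝒜 : ℤ → AddSubgroup R} [GradedRing 𝒜]
variable {R' : Type u} [CommRing R'] {𝒜' : ℤ → AddSubgroup R'} [GradedRing 𝒜']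
variable (D : VerData 𝒜 𝒜')
  (hsurj : ∀ j : ℤ, ∀ x ∈ 𝒜 (j * D.q), ∃ a ∈ 𝒜' j, D.φ a = x)

include hsurj in
/-- `R` is integral over its Veronese subring. -/
theorem isIntegral_of_veronese : D.φ.IsIntegral := by
  classical
  intro x
  induction x using DirectSum.Decomposition.inductionOn 𝒜 with
  | zero => exact RingHom.isIntegralElem_zero _
  | @homogeneous i x =>
    have hpow : (x : R) ^ D.q ∈ 𝒜 (i * D.q) := by
      have := SetLike.pow_mem_graded D.q x.2
      rw [nsmul_eq_mul, mul_comm] at this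
      exact this
    obtain ⟨a, _, ha⟩ := hsurj i _ hpow
    refine ⟨Polynomial.X ^ D.q - Polynomial.C a, Polynomial.monic_X_pow_sub_C a D.hq.ne', ?_⟩
    rw [Polynomial.eval₂_sub, Polynomial.eval₂_pow, Polynomial.eval₂_X, Polynomial.eval₂_C, ha,
      sub_self]
  | add a b ha hb => exact RingHom.IsIntegralElem.add D.φ ha hb

include hsurj in
/-- `R` is of finite type over its Veronese subring. -/
theorem finiteType_of_veronese [IsNoetherianRing R] (hpos : ∀ n : ℤ, n < 0 → 𝒜 n = ⊥)
    (m : HomogeneousIdeal 𝒜)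
    (hmsp : m.toIdeal = Ideal.span (⋃ n ∈ Set.Ioi (0 : ℤ), (𝒜 n : Set R))) :
    D.φ.FiniteType := by
  classical
  letI : Algebra R' R := D.φ.toAlgebra
  have hFT : Algebra.FiniteType (GrLC.deg0 𝒜) R :=
    Groth.Agent.Lib.Helper8.GrField.finiteType 𝒜 hpos m hmsp
  obtain ⟨S, hS⟩ := hFT.out
  show Algebra.FiniteType R' R
  refine ⟨⟨S, ?_⟩⟩
  rw [eq_top_iff]
  intro x hxtop
  clear hxtop
  have hx : x ∈ Algebra.adjoin (GrLC.deg0 𝒜) (S : Set R) := by
    rw [hS]
    trivial
  induction hx using Algebra.adjoin_induction with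
  | mem x hx => exact Algebra.subset_adjoin hx
  | algebraMap t =>
    obtain ⟨a, _, ha⟩ := hsurj 0 (t : R) (by rw [zero_mul]; exact t.2)
    have h1 : algebraMap (GrLC.deg0 𝒜) R t = algebraMap R' R a := ha.symm
    rw [h1]
    exact Subalgebra.algebraMap_mem _ a
  | add x y _ _ hx hy => exact add_mem hx hy
  | mul x y _ _ hx hy => exact mul_mem hx hy

include hsurj in
/-- `R` is a finite module over its Veronese subring. -/
theorem finite_of_veronese [IsNoetherianRing R] (hpos : ∀ n : ℤ, n < 0 → 𝒜 n = ⊥)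
    (m : HomogeneousIdeal 𝒜)
    (hmsp : m.toIdeal = Ideal.span (⋃ n ∈ Set.Ioi (0 : ℤ), (𝒜 n : Set R))) :
    D.φ.Finite :=
  RingHom.IsIntegral.to_finite (isIntegral_of_veronese D hsurj)
    (finiteType_of_veronese D hsurj hpos m hmsp)

end Groth.Agent.Lib.Helper8.Veronese
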