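import Groth.Agent.Lib.Helper8VerRing
import Groth.Agent.Lib.Helper29Cone
import Groth.Agent.Lib.Helper29GrCompare
import Groth.Agent.Lib.Helper29GrSub

/-! Graded local cohomology of a Veronese module: a semilinear injection
`H^p_{m'}(M^(q)) → H^p_m(M)` identifying the piece of degree `j` with the piece of degree `jq`
(helper8). -/

set_option autoImplicit false
set_option linter.style.haveILetI false
set_option linter.unusedSectionVars false
open DirectSum CategoryTheory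

noncomputable section

namespace Groth.Agent.Lib.Helper8.Veronese

open Groth.Agent.Lib.Helper29LCAcyclic Groth.Agent.Lib.Helper29Cone
  Groth.Agent.Lib.Helper29GrCompare Groth.Agent.Lib.Helper29GrHom Groth.Agent.Lib.Helper29GrGam

universe u

variable {R : Type u} [CommRing R] [IsNoetherianRing R] {𝒜 : ℤ → AddSubgroup R} [GradedRing 𝒜]
variable {R' : Type u} [CommRing R'] {𝒜' : ℤ → AddSubgroup R'} [GradedRing 𝒜']
variable (D : VerData 𝒜 𝒜') (hφ : Function.Injective D.φ)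
  (hsurj : ∀ j : ℤ, ∀ x ∈ 𝒜 (j * D.q), ∃ a ∈ 𝒜' j, D.φ a = x)
variable (m : HomogeneousIdeal 𝒜) (m' : HomogeneousIdeal 𝒜')
  (hmsp : m.toIdeal = Ideal.span (⋃ n ∈ Set.Ioi (0 : ℤ), (𝒜 n : Set R)))
  (hm'sp : m'.toIdeal = Ideal.span (⋃ j ∈ Set.Ioi (0 : ℤ), (𝒜' j : Set R')))
variable {M : Type u} [AddCommGroup M] [Module R M] (ℳ : ℤ → AddSubgroup M)
  [DirectSum.Decomposition ℳ] [SetLike.GradedSMul 𝒜 ℳ]
variable {M' : Type u} [AddCommGroup M'] [Module R' M'] (ℳ' : ℤ → AddSubgroup M')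
  [DirectSum.Decomposition ℳ'] [SetLike.GradedSMul 𝒜' ℳ']
variable (g : M' →ₛₗ[D.φ] M) (hg : Function.Injective g)
  (hgdeg : ∀ j : ℤ, (ℳ' j).map (g : M' →+ M) = ℳ (j * D.q))
variable (E : GrLC.StarInjRes 𝒜 ℳ) (F : GrLC.StarInjRes 𝒜' ℳ') (p : ℕ)

/-- The cocycles of `Γ_{m'}` of the Veronese complex. -/
def ZV : Submodule R' ↥(Vc D (E.X p)) :=
  GrLC.gam m'.toIdeal ↥(Vc D (E.X p)) ⊓ LinearMap.ker (Vd D ℳ E p)

/-- The coboundaries of `Γ_{m'}` of the Veronese complex. -/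
def BV : Submodule R' ↥(Vc D (E.X p)) :=
  cobdy m'.toIdeal (fun n => ↥(Vc D (E.X n))) (Vd D ℳ E) p

include hsurj hmsp hm'sp in
theorem coe_mem_cocyc (z : ↥(ZV D m' ℳ E p)) :
    ((z : ↥(Vc D (E.X p))) : (E.X p).carrier) ∈ E.cocyc m p := by
  refine ⟨(mem_gam_iff D (E.X p) m m' hmsp hm'sp hsurj z.1).mp z.2.1, ?_⟩
  have h : Vd D ℳ E p z.1 = 0 := z.2.2
  exact congrArg Subtype.val h

/-- The map from Veronese cocycles to cocycles. -/
def ιc (z : ↥(ZV D m' ℳ E p)) : ↥(E.cocyc m p) :=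
  ⟨((z : ↥(Vc D (E.X p))) : (E.X p).carrier), coe_mem_cocyc D hsurj m m' hmsp hm'sp ℳ E p z⟩

/-- The semilinear map from Veronese cocycles to `H^p_m(M)`. -/
def βc : ↥(ZV D m' ℳ E p) →ₛₗ[D.φ] E.H m p where
  toFun z := E.toH m p (ιc D hsurj m m' hmsp hm'sp ℳ E p z)
  map_add' z w := by
    have : ιc D hsurj m m' hmsp hm'sp ℳ E p (z + w) =
        ιc D hsurj m m' hmsp hm'sp ℳ E p z + ιc D hsurj m m' hmsp hm'sp ℳ E p w :=
      Subtype.ext rfl
    rw [this, map_add]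
  map_smul' a z := by
    have : ιc D hsurj m m' hmsp hm'sp ℳ E p (a • z) =
        D.φ a • ιc D hsurj m m' hmsp hm'sp ℳ E p z :=
      Subtype.ext rfl
    rw [this, map_smul]

include hsurj hmsp hm'sp in
theorem coe_mem_cobdy (x : ↥(Vc D (E.X p))) (hx : x ∈ BV D m' ℳ E p) :
    (x : (E.X p).carrier) ∈ E.cobdy m p := by
  cases p with
  | zero =>
    have hx0 : x = 0 := (Submodule.mem_bot R').mp hx
    rw [hx0]
    exact zero_mem _
  | succ n =>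
    obtain ⟨w, hw, rfl⟩ := hx
    exact ⟨(w : (E.X n).carrier), (mem_gam_iff D (E.X n) m m' hmsp hm'sp hsurj w).mp hw, rfl⟩

include hsurj hmsp hm'sp in
theorem mem_BV_of_coe_mem_cobdy (x : ↥(Vc D (E.X p)))
    (hx : (x : (E.X p).carrier) ∈ E.cobdy m p) : x ∈ BV D m' ℳ E p := by
  cases p with
  | zero =>
    have hx0 : (x : (E.X 0).carrier) = 0 := (Submodule.mem_bot R).mp hx
    have : x = 0 := Subtype.ext hx0
    rw [this]
    exact zero_mem _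
  | succ n =>
    obtain ⟨w, hw, hwx⟩ := hx
    have hρw : rho D (E.X n) w ∈ GrLC.gam m.toIdeal (E.X n).carrier :=
      rho_mem_of_isHomogeneous D (E.X n) _ (gam_isHomogeneous 𝒜 (E.X n).gr m) hw
    refine ⟨⟨rho D (E.X n) w, rho_mem_Vc D (E.X n) w⟩,
      (mem_gam_iff D (E.X n) m m' hmsp hm'sp hsurj _).mpr hρw, Subtype.ext ?_⟩
    show E.d n (rho D (E.X n) w) = x
    rw [← rho_map D (E.d n) (E.d_grHom n), hwx, rho_coe]

/-- The semilinear map from the cohomology of `Γ_{m'}` of the Veronese complex to `H^p_m(M)`. -/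
def β : (↥(ZV D m' ℳ E p) ⧸ (BV D m' ℳ E p).comap (ZV D m' ℳ E p).subtype) →ₛₗ[D.φ] E.H m p :=
  Submodule.liftQ _ (βc D hsurj m m' hmsp hm'sp ℳ E p) (by
    intro z hz
    rw [LinearMap.mem_ker]
    show E.toH m p (ιc D hsurj m m' hmsp hm'sp ℳ E p z) = 0
    rw [Submodule.mkQ_apply, Submodule.Quotient.mk_eq_zero]
    exact coe_mem_cobdy D hsurj m m' hmsp hm'sp ℳ E p z.1 hz)

theorem β_mk (z : ↥(ZV D m' ℳ E p)) :
    β D hsurj m m' hmsp hm'sp ℳ E p (Submodule.Quotient.mk z) =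
      E.toH m p (ιc D hsurj m m' hmsp hm'sp ℳ E p z) := rfl

theorem β_injective : Function.Injective (β D hsurj m m' hmsp hm'sp ℳ E p) := by
  rw [injective_iff_map_eq_zero]
  intro x hx
  obtain ⟨z, rfl⟩ := Submodule.Quotient.mk_surjective _ x
  rw [β_mk, Submodule.mkQ_apply, Submodule.Quotient.mk_eq_zero] at hx
  rw [Submodule.Quotient.mk_eq_zero]
  exact mem_BV_of_coe_mem_cobdy D hsurj m m' hmsp hm'sp ℳ E p z.1 hx

include hφ hsurj hmsp hm'sp hg hgdeg in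
/-- The Veronese comparison: a `φ`-semilinear injection `H^p_{m'}(M') → H^p_m(M)` carrying the
piece of degree `j` bijectively onto the piece of degree `jq`. -/
theorem exists_veronese_map :
    ∃ Λ : F.H m' p →+ E.H m p, Function.Injective Λ ∧
      (∀ (a : R') (y : F.H m' p), Λ (a • y) = D.φ a • Λ y) ∧
      (∀ (j : ℤ) (y : F.H m' p), y ∈ F.Hgr m' p j → Λ y ∈ E.Hgr m p (j * D.q)) ∧
      (∀ (j : ℤ) (z : E.H m p), z ∈ E.Hgr m p (j * D.q) → ∃ y ∈ F.Hgr m' p j, Λ y = z) := by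
  classical
  haveI : IsNoetherianRing R' := isNoetherianRing_of_veronese D hφ hsurj
  have hcmp : ∃ θ : ∀ n, ↥(Vc D (E.X n)) →ₗ[R'] (F.X n).carrier,
      (∀ n, GrLC.IsGrHom (Vgr D (E.X n)) (F.X n).gr (θ n)) ∧
      (∀ m' : M', θ 0 (Vε D ℳ ℳ' g hgdeg E m') = F.ε m') ∧
      ∀ (n : ℕ) (x : ↥(Vc D (E.X n))), θ (n + 1) (Vd D ℳ E n x) = F.d n (θ n x) :=
    exists_comparison 𝒜' ℳ' (fun n => V D (E.X n)) (Vd D ℳ E)
      (Vε D ℳ ℳ' g hgdeg E) (Vd_isGrHom D ℳ E) (Vε_isGrHom D ℳ ℳ' g hgdeg E)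
      (V_exact_zero D ℳ ℳ' g hgdeg E) (V_exact_succ D ℳ E) F (Vε_injective D ℳ ℳ' g hg hgdeg E)
  obtain ⟨θ, hθhom, hθ0, hθ⟩ := hcmp
  have hacyc : ∀ (n j : ℕ) (x : LC m'.toIdeal (j + 1) ↥(Vc D (E.X n))), x = 0 :=
    fun n j x => acyclic D (E.X n) m' (E.starInj n) j x
  have hacyc' : ∀ (n j : ℕ) (x : LC m'.toIdeal (j + 1) (F.X n).carrier), x = 0 := by
    intro n j x
    haveI := Groth.Agent.S13217.result R' 𝒜' m' (F.X n).carrier (F.X n).gr (F.starInj n) (j + 1)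
      (Nat.le_add_left 1 j)
    exact Subsingleton.elim _ _
  have hcob' : ∀ j, cobdy m'.toIdeal (fun n => (F.X n).carrier) F.d j = F.cobdy m' j := by
    intro j
    cases j <;> rfl
  have hθgam : ∀ (n : ℕ) (x : ↥(Vc D (E.X n))), x ∈ GrLC.gam m'.toIdeal ↥(Vc D (E.X n)) →
      θ n x ∈ GrLC.gam m'.toIdeal (F.X n).carrier := by
    rintro n x ⟨k, hk⟩
    exact ⟨k, fun r hr => by rw [← map_smul, hk r hr, map_zero]⟩
  have hcocyc : ∀ x ∈ ZV D m' ℳ E p, θ p x ∈ F.cocyc m' p := by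
    rintro x ⟨hx1, hx2⟩
    refine ⟨hθgam p x hx1, ?_⟩
    have hx2' : Vd D ℳ E p x = 0 := hx2
    show F.d p (θ p x) = 0
    rw [← hθ p x, hx2', map_zero]
  have hcobmap : ∀ (i : ℕ) (x : ↥(Vc D (E.X i))),
      x ∈ cobdy m'.toIdeal (fun n => ↥(Vc D (E.X n))) (Vd D ℳ E) i → θ i x ∈ F.cobdy m' i := by
    intro i x hx
    rw [← hcob']
    cases i with
    | zero =>
      have hx0 : x = 0 := (Submodule.mem_bot R').mp hx
      rw [hx0, map_zero]; exact zero_mem _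
    | succ n =>
      obtain ⟨w, hw, rfl⟩ := hx
      exact ⟨θ n w, hθgam n w hw, (hθ n w).symm⟩
  have hcobhom : ∀ i, (F.cobdy m' i).IsHomogeneous (F.X i).gr := by
    intro i
    cases i with
    | zero => exact Groth.Agent.Lib.Helper29GrSub.IsHomogeneous.bot _
    | succ n =>
      exact Groth.Agent.Lib.Helper29GrGam.map_isHomogeneous (F.X n).gr (F.X (n + 1)).gr (F.d n)
        (F.d_grHom n)
        (gam_isHomogeneous 𝒜' (F.X n).gr m')
  let θc : ↥(ZV D m' ℳ E p) →ₗ[R'] ↥(F.cocyc m' p) := (θ p).restrict hcocyc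
  have hle : (BV D m' ℳ E p).comap (ZV D m' ℳ E p).subtype ≤
      ((F.cobdy m' p).comap (F.cocyc m' p).subtype).comap θc := by
    intro x hx
    exact hcobmap p x hx
  let ψ₀ : (↥(ZV D m' ℳ E p) ⧸ (BV D m' ℳ E p).comap (ZV D m' ℳ E p).subtype) →ₗ[R']
      F.H m' p := Submodule.mapQ _ _ θc hle
  have hψ₀ : ∀ z : ↥(ZV D m' ℳ E p), ψ₀ (Submodule.Quotient.mk z) = F.toH m' p (θc z) :=
    fun z => rfl
  have hinj : Function.Injective ψ₀ := by
    rw [injective_iff_map_eq_zero]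
    intro x hx
    obtain ⟨z, rfl⟩ := Submodule.Quotient.mk_surjective _ x
    rw [hψ₀, Submodule.mkQ_apply, Submodule.Quotient.mk_eq_zero] at hx
    have hz : θ p (z : ↥(Vc D (E.X p))) ∈
        cobdy m'.toIdeal (fun n => (F.X n).carrier) F.d p := by
      rw [hcob']; exact hx
    have := comparison_inj m'.toIdeal (fun n => ↥(Vc D (E.X n))) (Vd D ℳ E)
      (Vε D ℳ ℳ' g hgdeg E) (V_exact_succ D ℳ E) (V_exact_zero D ℳ ℳ' g hgdeg E) hacyc
      (fun n => (F.X n).carrier) F.d F.ε F.exact_succ F.ε_injective F.exact_zero hacyc'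
      θ hθ0 hθ p z.1 z.2.1 z.2.2 hz
    rw [Submodule.Quotient.mk_eq_zero]
    exact this
  -- homogeneous lifting of classes
  have hstepb : ∀ (j : ℤ) (w : ↥(F.cocyc m' p)), (w : (F.X p).carrier) ∈ (F.X p).gr j →
      ∃ z : ↥(ZV D m' ℳ E p), (z : ↥(Vc D (E.X p))) ∈ Vgr D (E.X p) j ∧
        ψ₀ (Submodule.Quotient.mk z) = F.toH m' p w := by
    intro j w hw
    obtain ⟨x, hx1, hx2, hx3⟩ := comparison_surj m'.toIdeal (fun n => ↥(Vc D (E.X n)))
      (Vd D ℳ E) (Vε D ℳ ℳ' g hgdeg E) (V_exact_succ D ℳ E) (V_exact_zero D ℳ ℳ' g hgdeg E)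
      hacyc (fun n => (F.X n).carrier) F.d F.ε F.exact_succ F.ε_injective F.exact_zero hacyc'
      θ hθ0 hθ p w w.2.1 w.2.2
    rw [hcob'] at hx3
    let xj : ↥(Vc D (E.X p)) := ((decompose (Vgr D (E.X p)) x) j : ↥(Vc D (E.X p)))
    have hxj1 : xj ∈ GrLC.gam m'.toIdeal ↥(Vc D (E.X p)) :=
      gam_isHomogeneous 𝒜' (Vgr D (E.X p)) m' j hx1
    have hxj2 : Vd D ℳ E p xj = 0 := by
      have h := decompose_map (Vgr D (E.X (p + 1))) (Vgr D (E.X p)) (Vd D ℳ E p)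
        (Vd_isGrHom D ℳ E p) x j
      rw [← h, hx2, DirectSum.decompose_zero]
      rfl
    have hθxj : θ p xj = ((decompose (F.X p).gr (θ p x)) j : (F.X p).carrier) :=
      (decompose_map (F.X p).gr (Vgr D (E.X p)) (θ p) (hθhom p) x j).symm
    have hdiff : (w : (F.X p).carrier) - θ p xj ∈ F.cobdy m' p := by
      have h := hcobhom p j hx3
      rw [DirectSum.decompose_sub, DirectSum.sub_apply, AddSubgroup.coe_sub,
        DirectSum.decompose_of_mem_same _ hw, ← hθxj] at h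
      exact h
    refine ⟨⟨xj, hxj1, hxj2⟩, SetLike.coe_mem _, ?_⟩
    rw [hψ₀, Submodule.mkQ_apply, Submodule.mkQ_apply, Submodule.Quotient.eq]
    have hneg : θ p xj - (w : (F.X p).carrier) ∈ F.cobdy m' p := by
      rw [← neg_sub]; exact neg_mem hdiff
    exact hneg
  have hsur : Function.Surjective ψ₀ := by
    intro y
    obtain ⟨w, rfl⟩ := Submodule.mkQ_surjective _ y
    obtain ⟨x, hx1, hx2, hx3⟩ := comparison_surj m'.toIdeal (fun n => ↥(Vc D (E.X n)))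
      (Vd D ℳ E) (Vε D ℳ ℳ' g hgdeg E) (V_exact_succ D ℳ E) (V_exact_zero D ℳ ℳ' g hgdeg E)
      hacyc (fun n => (F.X n).carrier) F.d F.ε F.exact_succ F.ε_injective F.exact_zero hacyc'
      θ hθ0 hθ p w w.2.1 w.2.2
    refine ⟨Submodule.Quotient.mk ⟨x, hx1, hx2⟩, ?_⟩
    rw [hψ₀]
    symm
    rw [Submodule.mkQ_apply, Submodule.mkQ_apply, Submodule.Quotient.eq]
    rw [hcob'] at hx3
    exact hx3
  let Ψ := LinearEquiv.ofBijective ψ₀ ⟨hinj, hsur⟩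
  have hΨ : ∀ x, Ψ x = ψ₀ x := fun x => rfl
  let βm := β D hsurj m m' hmsp hm'sp ℳ E p
  refine ⟨βm.toAddMonoidHom.comp Ψ.symm.toLinearMap.toAddMonoidHom, ?_, ?_, ?_, ?_⟩
  · intro y y' h
    have h' : βm (Ψ.symm y) = βm (Ψ.symm y') := h
    exact Ψ.symm.injective (β_injective D hsurj m m' hmsp hm'sp ℳ E p h')
  · intro a y
    show βm (Ψ.symm (a • y)) = D.φ a • βm (Ψ.symm y)
    rw [map_smul, map_smulₛₗ]
  · rintro j y ⟨w, hw, rfl⟩
    obtain ⟨z, hz, hzw⟩ := hstepb j w hw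
    show βm (Ψ.symm (F.toH m' p w)) ∈ E.Hgr m p (j * D.q)
    rw [← hzw, ← hΨ, LinearEquiv.symm_apply_apply]
    exact ⟨ιc D hsurj m m' hmsp hm'sp ℳ E p z, hz, rfl⟩
  · rintro j _ ⟨c, hc, rfl⟩
    have hcV : (c : (E.X p).carrier) ∈ Vc D (E.X p) := mem_Vc_of_mem D (E.X p) hc
    have hz1 : (⟨c, hcV⟩ : ↥(Vc D (E.X p))) ∈ GrLC.gam m'.toIdeal ↥(Vc D (E.X p)) :=
      (mem_gam_iff D (E.X p) m m' hmsp hm'sp hsurj _).mpr c.2.1
    have hz2 : Vd D ℳ E p ⟨c, hcV⟩ = 0 := Subtype.ext c.2.2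
    let z : ↥(ZV D m' ℳ E p) := ⟨⟨c, hcV⟩, hz1, hz2⟩
    refine ⟨ψ₀ (Submodule.Quotient.mk z), ?_, ?_⟩
    · rw [hψ₀]
      exact ⟨θc z, hθhom p j _ hc, rfl⟩
    · show βm (Ψ.symm (ψ₀ (Submodule.Quotient.mk z))) = _
      rw [← hΨ, LinearEquiv.symm_apply_apply]
      rfl

end Groth.Agent.Lib.Helper8.Veronese
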