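import Groth.Agent.Lib.Helper8PerfCanon
import Groth.Agent.Lib.Helper8CanonPairing
import Groth.Agent.Lib.Helper8VerLC
import Groth.Agent.Lib.Helper8VerFinite

/-!
# The Veronese of a *canonical module is a *canonical module of the Veronese subring (helper8)
-/

set_option autoImplicit false
set_option linter.style.haveILetI false
set_option linter.unusedSectionVars false
universe u
open DirectSum

noncomputable section

namespace Groth.Agent.Lib.Helper8.VerCanon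

open Groth.Agent.Lib.Helper8.Veronese Groth.Agent.Lib.Helper8.CanonPairing

section Finite

variable {R : Type u} [CommRing R] {𝒜 : ℤ → AddSubgroup R} [GradedRing 𝒜]
variable {R' : Type u} [CommRing R'] {𝒜' : ℤ → AddSubgroup R'} [GradedRing 𝒜']
variable (D : VerData 𝒜 𝒜')
  (hsurj : ∀ j : ℤ, ∀ x ∈ 𝒜 (j * D.q), ∃ a ∈ 𝒜' j, D.φ a = x)

include hsurj in
/-- The Veronese of a finite graded module is finite over the Veronese subring. -/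
theorem finite_Vc [IsNoetherianRing R] (hpos : ∀ n : ℤ, n < 0 → 𝒜 n = ⊥)
    (m : HomogeneousIdeal 𝒜)
    (hmsp : m.toIdeal = Ideal.span (⋃ n ∈ Set.Ioi (0 : ℤ), (𝒜 n : Set R)))
    (X : GrLC.GMod.{u} 𝒜) [Module.Finite R X.carrier] : Module.Finite R' ↥(Vc D X) := by
  letI alg : Algebra R' R := D.φ.toAlgebra
  haveI hfinR : Module.Finite R' R := finite_of_veronese D hsurj hpos m hmsp
  letI modC : Module R' X.carrier := Module.compHom X.carrier D.φ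
  haveI : IsScalarTower R' R X.carrier := ⟨fun a r c => by
    show (D.φ a * r) • c = D.φ a • (r • c)
    rw [mul_smul]⟩
  haveI : Module.Finite R' X.carrier := Module.Finite.trans R X.carrier
  let π : X.carrier →ₗ[R'] ↥(Vc D X) :=
    { toFun := fun c => ⟨rho D X c, rho_mem_Vc D X c⟩
      map_add' := fun x y => Subtype.ext (map_add (rho D X) x y)
      map_smul' := fun a c => Subtype.ext (rho_smul D X a c) }
  exact Module.Finite.of_surjective π (fun x => ⟨x.1, Subtype.ext x.2⟩)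

end Finite

/-- The Veronese of a *canonical module is *canonical. -/
theorem isStarCanonical_veronese (R : Type u) [CommRing R] [IsNoetherianRing R]
    (𝒜 : ℤ → AddSubgroup R) [GradedRing 𝒜] (hpos : ∀ n : ℤ, n < 0 → 𝒜 n = ⊥)
    (h0 : IsField (GrLC.deg0 𝒜)) (m : HomogeneousIdeal 𝒜) (hmne : m.toIdeal ≠ ⊤)
    (hmsp : m.toIdeal = Ideal.span (⋃ n ∈ Set.Ioi (0 : ℤ), (𝒜 n : Set R))) (n : ℕ)
    (I : GrLC.StarInjRes 𝒜 𝒜) (E' : Type u) [AddCommGroup E'] [Module R E']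
    (𝓔 : ℤ → AddSubgroup E') [DirectSum.Decomposition 𝓔] [SetLike.GradedSMul 𝒜 𝓔]
    (e : (R ⧸ m.toIdeal) →ₗ[R] E') (he : GrLC.IsStarInjHull 𝒜 (GrLC.quotGr 𝒜 m) 𝓔 e)
    (C : Type u) [AddCommGroup C] [Module R C] (𝒞 : ℤ → AddSubgroup C)
    [DirectSum.Decomposition 𝒞] [SetLike.GradedSMul 𝒜 𝒞]
    (hC : GrLC.IsStarCanonical 𝒜 𝒞 𝓔 m n I)
    (R' : Type u) [CommRing R'] (𝒜' : ℤ → AddSubgroup R') [GradedRing 𝒜']
    (D : VerData 𝒜 𝒜') (hφ : Function.Injective D.φ)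
    (hsurj : ∀ j : ℤ, ∀ x ∈ 𝒜 (j * D.q), ∃ a ∈ 𝒜' j, D.φ a = x)
    (m' : HomogeneousIdeal 𝒜') (hmne' : m'.toIdeal ≠ ⊤)
    (hm'sp : m'.toIdeal = Ideal.span (⋃ j ∈ Set.Ioi (0 : ℤ), (𝒜' j : Set R')))
    (I' : GrLC.StarInjRes 𝒜' 𝒜') (E'' : Type u) [AddCommGroup E''] [Module R' E'']
    (𝓔'' : ℤ → AddSubgroup E'') [DirectSum.Decomposition 𝓔''] [SetLike.GradedSMul 𝒜' 𝓔'']
    (e' : (R' ⧸ m'.toIdeal) →ₗ[R'] E'')
    (he' : GrLC.IsStarInjHull 𝒜' (GrLC.quotGr 𝒜' m') 𝓔'' e') :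
    GrLC.IsStarCanonical 𝒜' (Vgr D (GrLC.GMod.of 𝒜 C 𝒞)) 𝓔'' m' n I' := by
  classical
  have hNoeth' : IsNoetherianRing R' :=
    Groth.Agent.Lib.Helper8.Veronese.isNoetherianRing_of_veronese D hφ hsurj
  have hqz : (0 : ℤ) < D.q := by exact_mod_cast D.hq
  have hpos' : ∀ n : ℤ, n < 0 → 𝒜' n = ⊥ := by
    intro k hk
    rw [eq_bot_iff]
    intro x hx
    have h1 : D.φ x ∈ 𝒜 (k * D.q) := D.hdeg k x hx
    have h2 : D.φ x ∈ (⊥ : AddSubgroup R) := (hpos (k * D.q) (mul_neg_of_neg_of_pos hk hqz)) ▸ h1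
    have h3 : D.φ x = 0 := AddSubgroup.mem_bot.mp h2
    exact AddSubgroup.mem_bot.mpr (hφ (h3.trans (map_zero D.φ).symm))
  let φ₀hom : ↥(GrLC.deg0 𝒜') →+* ↥(GrLC.deg0 𝒜) :=
    D.φ.restrict (GrLC.deg0 𝒜') (GrLC.deg0 𝒜) (fun x hx => by
      have h : D.φ x ∈ 𝒜 ((0 : ℤ) * D.q) := D.hdeg 0 x hx
      rw [zero_mul] at h
      exact h)
  have hφ₀bij : Function.Bijective φ₀hom := by
    constructor
    · intro a b h
      exact Subtype.ext (hφ (congrArg Subtype.val h))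
    · intro s
      obtain ⟨a, ha, has⟩ := hsurj 0 (s : R) (by rw [zero_mul]; exact s.2)
      exact ⟨⟨a, ha⟩, Subtype.ext has⟩
  let φ₀ : ↥(GrLC.deg0 𝒜') ≃+* ↥(GrLC.deg0 𝒜) := RingEquiv.ofBijective φ₀hom hφ₀bij
  have hφ₀ : ∀ t : ↥(GrLC.deg0 𝒜'), ((φ₀ t : ↥(GrLC.deg0 𝒜)) : R) = D.φ (t : R') := fun t => rfl
  have h0' : IsField ↥(GrLC.deg0 𝒜') := MulEquiv.isField h0 φ₀.toMulEquiv
  let φs : R' →ₛₗ[D.φ] R :=
    { toFun := D.φ
      map_add' := map_add D.φ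
      map_smul' := fun a x => map_mul D.φ a x }
  have hφs : ∀ j : ℤ, (𝒜' j).map (φs : R' →+ R) = 𝒜 (j * D.q) := by
    intro j
    apply le_antisymm
    · rintro _ ⟨a, ha, rfl⟩
      exact D.hdeg j a ha
    · intro x hx
      obtain ⟨a, ha, hax⟩ := hsurj j x hx
      exact ⟨a, ha, hax⟩
  obtain ⟨Λ, hΛinj, hΛsmul, hΛgr, hΛsur⟩ :=
    Groth.Agent.Lib.Helper8.Veronese.exists_veronese_map D hφ hsurj m m' hmsp hm'sp 𝒜 𝒜' φs hφ
      hφs I I' n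
  obtain ⟨hfin, ψ, hψ⟩ := hC
  have := hfin
  let X : GrLC.GMod.{u} 𝒜 := GrLC.GMod.of 𝒜 C 𝒞
  have hfinX : Module.Finite R X.carrier := hfin
  have hfinV : Module.Finite R' ↥(Vc D X) := finite_Vc D hsurj hpos m hmsp X
  have hint := Groth.Agent.S13225.result R' 𝒜' m' R' 𝒜' I' n
  let decH : DirectSum.Decomposition (I'.Hgr m' n) := hint.chooseDecomposition
  -- the restricted pairing
  obtain ⟨pr, hpr⟩ : ∃ pr : C → I.H m n → ↥(GrLC.deg0 𝒜),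
      pr = pair 𝒜 hpos h0 m hmne hmsp 𝓔 e he n I ψ := ⟨_, rfl⟩
  have pr_al : ∀ c c' h, pr (c + c') h = pr c h + pr c' h := by
    rw [hpr]; exact pair_add_left 𝒜 hpos h0 m hmne hmsp 𝓔 e he n I ψ
  have pr_ar : ∀ c h h', pr c (h + h') = pr c h + pr c h' := by
    rw [hpr]; exact pair_add_right 𝒜 hpos h0 m hmne hmsp 𝓔 e he n I ψ
  have pr_s : ∀ (r : R) c h, pr (r • c) h = pr c (r • h) := by
    rw [hpr]; exact pair_smul 𝒜 hpos h0 m hmne hmsp 𝓔 e he n I ψ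
  have pr_sl : ∀ (t : ↥(GrLC.deg0 𝒜)) c h, pr ((t : R) • c) h = t * pr c h := by
    rw [hpr]; exact pair_smul_left 𝒜 hpos h0 m hmne hmsp 𝓔 e he n I ψ
  have pr_gr : ∀ {i d : ℤ}, i + d ≠ 0 → ∀ {c : C}, c ∈ 𝒞 i → ∀ {h : I.H m n},
      h ∈ I.Hgr m n d → pr c h = 0 := by
    rw [hpr]
    intro i d hid c hc h hh
    exact pair_eq_zero_of_ne 𝒜 hpos h0 m hmne hmsp 𝓔 e he 𝒞 n I ψ hψ hid hc hh
  have pr_rho : ∀ (i : ℤ) (h : ↥(I.Hcomp m n (-i))) (v : ↥(GrLC.comp 𝒜 𝒞 i)),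
      rho 𝒜 hpos h0 m hmne hmsp 𝓔 e he 𝒞 n I ψ i h v = pr (v : C) (h : I.H m n) := by
    rw [hpr]
    intro i h v
    rfl
  obtain ⟨P', hP'⟩ : ∃ P' : ↥(Vc D X) → I'.H m' n → ↥(GrLC.deg0 𝒜'),
      ∀ c y, P' c y = φ₀.symm (pr c.1 (Λ y)) := ⟨fun c y => φ₀.symm (pr c.1 (Λ y)), fun _ _ => rfl⟩
  have hPal : ∀ c c' h, P' (c + c') h = P' c h + P' c' h := by
    intro c c' h
    rw [hP', hP', hP']
    exact (congrArg φ₀.symm (pr_al c.1 c'.1 (Λ h))).trans (map_add φ₀.symm _ _)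
  have hPar : ∀ c h h', P' c (h + h') = P' c h + P' c h' := by
    intro c h h'
    rw [hP', hP', hP', map_add, pr_ar, map_add]
  have hPs : ∀ (r : R') c h, P' (r • c) h = P' c (r • h) := by
    intro r c h
    rw [hP', hP', hΛsmul]
    exact congrArg φ₀.symm (pr_s (D.φ r) c.1 (Λ h))
  have hPsl : ∀ (t : ↥(GrLC.deg0 𝒜')) c h, P' ((t : R') • c) h = t * P' c h := by
    intro t c h
    rw [hP', hP']
    have h1 : pr (D.φ (t : R') • c.1) (Λ h) = φ₀ t * pr c.1 (Λ h) := pr_sl (φ₀ t) c.1 (Λ h)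
    exact (congrArg φ₀.symm h1).trans ((map_mul φ₀.symm _ _).trans
      (congrArg (· * φ₀.symm (pr c.1 (Λ h))) (φ₀.symm_apply_apply t)))
  have hPgr : ∀ {i d : ℤ}, i + d ≠ 0 → ∀ {c : ↥(Vc D X)}, c ∈ Vgr D X i →
      ∀ {h : I'.H m' n}, h ∈ I'.Hgr m' n d → P' c h = 0 := by
    intro i d hid c hc h hh
    have hid' : i * (D.q : ℤ) + d * (D.q : ℤ) ≠ 0 := by
      rw [← add_mul]
      exact mul_ne_zero hid hqz.ne'
    rw [hP']
    exact (congrArg φ₀.symm (pr_gr hid' hc (hΛgr d h hh))).trans (map_zero φ₀.symm)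
  have hndr : ∀ (d : ℤ) (y : I'.H m' n), y ∈ I'.Hgr m' n d →
      (∀ c ∈ Vgr D X (-d), P' c y = 0) → y = 0 := by
    intro d y hy hzero
    have e1 : -((-d) * (D.q : ℤ)) = d * (D.q : ℤ) := by ring
    have hΛy : Λ y ∈ I.Hcomp m n (-((-d) * (D.q : ℤ))) := by
      rw [e1]
      exact hΛgr d y hy
    have hz : rho 𝒜 hpos h0 m hmne hmsp 𝓔 e he 𝒞 n I ψ ((-d) * (D.q : ℤ)) ⟨Λ y, hΛy⟩ = 0 := by
      apply LinearMap.ext
      intro v
      rw [pr_rho, LinearMap.zero_apply]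
      have hvc : (v : C) ∈ Vc D X := mem_Vc_of_mem D X (j := -d) v.2
      have h1 := hzero ⟨(v : C), hvc⟩ v.2
      rw [hP'] at h1
      rw [← map_zero φ₀.symm] at h1
      exact φ₀.symm.injective h1
    have h3 := rho_injective 𝒜 hpos h0 m hmne hmsp 𝓔 e he 𝒞 n I ψ hψ ((-d) * (D.q : ℤ))
      (hz.trans (map_zero _).symm)
    have h4 : Λ y = 0 := congrArg Subtype.val h3
    exact hΛinj (h4.trans (map_zero Λ).symm)
  have hrepr : ∀ (d : ℤ)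
      (lam : ↥(GrLC.comp 𝒜' (Vgr D X) (-d)) →ₗ[↥(GrLC.deg0 𝒜')] ↥(GrLC.deg0 𝒜')),
      ∃ y ∈ I'.Hgr m' n d, ∀ (c : ↥(Vc D X)) (hc : c ∈ Vgr D X (-d)), P' c y = lam ⟨c, hc⟩ := by
    intro d lam
    let lam₂ : ↥(GrLC.comp 𝒜 𝒞 ((-d) * (D.q : ℤ))) →ₗ[↥(GrLC.deg0 𝒜)] ↥(GrLC.deg0 𝒜) :=
      { toFun := fun v => φ₀ (lam ⟨⟨(v : C), mem_Vc_of_mem D X (j := -d) v.2⟩, v.2⟩)
        map_add' := fun v w => by
          rw [← map_add φ₀, ← map_add lam]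
          rfl
        map_smul' := fun t v => by
          have h1 : (⟨⟨((t • v : ↥(GrLC.comp 𝒜 𝒞 ((-d) * (D.q : ℤ)))) : C),
              mem_Vc_of_mem D X (j := -d) (t • v).2⟩, (t • v).2⟩ :
              ↥(GrLC.comp 𝒜' (Vgr D X) (-d))) =
              (φ₀.symm t) • ⟨⟨(v : C), mem_Vc_of_mem D X (j := -d) v.2⟩, v.2⟩ := by
            apply Subtype.ext
            apply Subtype.ext
            show (t : R) • (v : C) = D.φ ((φ₀.symm t : ↥(GrLC.deg0 𝒜')) : R') • (v : C)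
            rw [← hφ₀, RingEquiv.apply_symm_apply]
          rw [h1, map_smul, smul_eq_mul, map_mul, RingEquiv.apply_symm_apply]
          rfl }
    obtain ⟨h, hh⟩ := rho_surjective 𝒜 hpos h0 m hmne hmsp 𝓔 e he 𝒞 n I ψ hψ
      ((-d) * (D.q : ℤ)) lam₂
    have e1 : -((-d) * (D.q : ℤ)) = d * (D.q : ℤ) := by ring
    have hh1 : (h : I.H m n) ∈ I.Hgr m n (d * (D.q : ℤ)) := by
      rw [← e1]
      exact h.2
    obtain ⟨y, hy, hyh⟩ := hΛsur d (h : I.H m n) hh1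
    refine ⟨y, hy, fun c hc => ?_⟩
    rw [hP', hyh]
    have h5 := LinearMap.congr_fun hh ⟨(c.1 : C), hc⟩
    rw [pr_rho] at h5
    have h6 : pr c.1 (h : I.H m n) = lam₂ ⟨(c.1 : C), hc⟩ := h5
    rw [h6]
    show φ₀.symm (φ₀ (lam ⟨⟨(c.1 : C), _⟩, _⟩)) = lam ⟨c, hc⟩
    rw [RingEquiv.symm_apply_apply]
  obtain ⟨ψ', hψ'⟩ := Groth.Agent.Lib.Helper8.PerfCanon.exists_equiv 𝒜' hpos' h0' m' hmne' hm'sp
    𝓔'' e' he' (Vgr D X) (I'.Hgr m' n) P' hPal hPar hPs hPsl hPgr hndr hrepr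
  exact ⟨hfinV, ψ', hψ'⟩

end Groth.Agent.Lib.Helper8.VerCanon
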