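import Groth.Agent.Lib.Helper8Veronese
import Groth.Agent.Lib.Helper8GrSubA

/-! The Veronese functor, continued: the graded `R'`-module `V X`, functoriality, and the Veronese
of a *injective resolution as an exact complex over the Veronese module (helper8). -/

set_option autoImplicit false
set_option linter.style.haveILetI false
set_option linter.unusedSectionVars false
open DirectSum

noncomputable section

namespace Groth.Agent.Lib.Helper8.Veronese

universe u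

variable {R : Type u} [CommRing R] {𝒜 : ℤ → AddSubgroup R} [GradedRing 𝒜]
variable {R' : Type u} [CommRing R'] {𝒜' : ℤ → AddSubgroup R'} [GradedRing 𝒜']
variable (D : VerData 𝒜 𝒜') (X Y : GrLC.GMod.{u} 𝒜)

theorem mulq_injective : Function.Injective (fun j : ℤ => j * (D.q : ℤ)) := by
  intro a b h
  have hq : (D.q : ℤ) ≠ 0 := by exact_mod_cast D.hq.ne'
  exact mul_right_cancel₀ hq h

/-- The pieces of the Veronese module. -/
def Vgr : ℤ → AddSubgroup ↥(Vc D X) := fun j => GrSubA.subGr X.gr (Vc D X) (j * D.q)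

theorem mem_Vgr {j : ℤ} {x : ↥(Vc D X)} : x ∈ Vgr D X j ↔ (x : X.carrier) ∈ X.gr (j * D.q) :=
  Iff.rfl

theorem subGr_eq_bot (g : ℤ) (hg : g ∉ Set.range (fun j : ℤ => j * (D.q : ℤ))) :
    GrSubA.subGr X.gr (Vc D X) g = ⊥ := by
  rw [AddSubgroup.eq_bot_iff_forall]
  intro x hx
  have hd : ¬ (D.q : ℤ) ∣ g := by
    rintro ⟨j, rfl⟩
    exact hg ⟨j, mul_comm _ _⟩
  exact Subtype.ext (eq_zero_of_mem_Vc_of_mem D X x.2 hx hd)

instance instDecV : DirectSum.Decomposition (Vgr D X) :=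
  letI := GrSubA.subDecomposition X.gr (Vc D X) (fun g _ hx => Vc_isHomogeneous D X g hx)
  VerReindex.reindexDecomposition (GrSubA.subGr X.gr (Vc D X)) (fun j : ℤ => j * (D.q : ℤ))
    (mulq_injective D) (subGr_eq_bot D X)

instance instGSMulV : SetLike.GradedSMul 𝒜' (Vgr D X) where
  smul_mem := by
    intro i j a b ha hb
    show ((a • b : ↥(Vc D X)) : X.carrier) ∈ X.gr ((i + j) * D.q)
    rw [coe_smul_Vc, add_mul]
    exact SetLike.GradedSMul.smul_mem (A := 𝒜) (B := X.gr) (D.hdeg i a ha) hb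

/-- The Veronese module as a bundled graded `R'`-module. -/
def V : GrLC.GMod.{u} 𝒜' := { carrier := ↥(Vc D X), gr := Vgr D X }

variable {X Y}

/-- The Veronese of a homogeneous map. -/
def Vmap (f : X.carrier →ₗ[R] Y.carrier) (hf : GrLC.IsGrHom X.gr Y.gr f) :
    ↥(Vc D X) →ₗ[R'] ↥(Vc D Y) where
  toFun x := ⟨f (x : X.carrier), by
    show rho D Y (f (x : X.carrier)) = f (x : X.carrier)
    rw [rho_map D f hf, rho_coe]⟩
  map_add' x y := Subtype.ext (by
    show f ((x : X.carrier) + (y : X.carrier)) = f x + f y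
    rw [map_add])
  map_smul' a x := Subtype.ext (by
    show f (D.φ a • (x : X.carrier)) = D.φ a • f (x : X.carrier)
    rw [map_smul])

theorem coe_Vmap (f : X.carrier →ₗ[R] Y.carrier) (hf : GrLC.IsGrHom X.gr Y.gr f) (x : ↥(Vc D X)) :
    ((Vmap D f hf x : ↥(Vc D Y)) : Y.carrier) = f (x : X.carrier) := rfl

theorem Vmap_isGrHom (f : X.carrier →ₗ[R] Y.carrier) (hf : GrLC.IsGrHom X.gr Y.gr f) :
    GrLC.IsGrHom (Vgr D X) (Vgr D Y) (Vmap D f hf) :=
  fun j x hx => hf (j * D.q) (x : X.carrier) hx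

section Aug

variable {M : Type u} [AddCommGroup M] [Module R M] (ℳ : ℤ → AddSubgroup M)
  [DirectSum.Decomposition ℳ] [SetLike.GradedSMul 𝒜 ℳ]
variable {M' : Type u} [AddCommGroup M'] [Module R' M'] (ℳ' : ℤ → AddSubgroup M')
  [DirectSum.Decomposition ℳ'] [SetLike.GradedSMul 𝒜' ℳ']
variable (g : M' →ₛₗ[D.φ] M) (hg : Function.Injective g)
  (hgdeg : ∀ j : ℤ, (ℳ' j).map (g : M' →+ M) = ℳ (j * D.q))

include hgdeg in
theorem g_mem_Vc (m' : M') : g m' ∈ Vc D (GrLC.GMod.of 𝒜 M ℳ) := by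
  induction m' using DirectSum.Decomposition.inductionOn ℳ' with
  | zero => rw [map_zero]; exact zero_mem _
  | @homogeneous j m =>
    apply mem_Vc_of_mem D (GrLC.GMod.of 𝒜 M ℳ) (j := j)
    show g (m : M') ∈ ℳ (j * D.q)
    rw [← hgdeg j]
    exact ⟨m, m.2, rfl⟩
  | add m m' hm hm' => rw [map_add]; exact add_mem hm hm'

/-- The identification of `M'` with the Veronese of `M`. -/
def gV : M' →ₗ[R'] ↥(Vc D (GrLC.GMod.of 𝒜 M ℳ)) where
  toFun m' := ⟨g m', g_mem_Vc D ℳ ℳ' g hgdeg m'⟩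
  map_add' x y := Subtype.ext (map_add g x y)
  map_smul' a x := Subtype.ext (by
    show g (a • x) = D.φ a • g x
    rw [map_smulₛₗ])

theorem coe_gV (m' : M') : ((gV D ℳ ℳ' g hgdeg m').1 : M) = g m' := rfl

include hg in
theorem gV_injective : Function.Injective (gV D ℳ ℳ' g hgdeg) := by
  intro x y h
  exact hg (congrArg Subtype.val h)

theorem gV_surjective : Function.Surjective (gV D ℳ ℳ' g hgdeg) := by
  intro y
  have h1 : rho D (GrLC.GMod.of 𝒜 M ℳ) y.1 ∈ (g : M' →+ M).range := by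
    apply rho_mem_of_le D (GrLC.GMod.of 𝒜 M ℳ)
    intro j x hx
    have hx' : x ∈ (ℳ' j).map (g : M' →+ M) := by rw [hgdeg j]; exact hx
    obtain ⟨m, _, rfl⟩ := hx'
    exact ⟨m, rfl⟩
  have h2 : y.1 ∈ (g : M' →+ M).range := (rho_coe D (GrLC.GMod.of 𝒜 M ℳ) y) ▸ h1
  obtain ⟨m, hm⟩ := h2
  exact ⟨m, Subtype.ext hm⟩

theorem gV_isGrHom : GrLC.IsGrHom ℳ' (Vgr D (GrLC.GMod.of 𝒜 M ℳ)) (gV D ℳ ℳ' g hgdeg) := by
  intro j m hm
  show g m ∈ ℳ (j * D.q)
  rw [← hgdeg j]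
  exact ⟨m, hm, rfl⟩

variable (E : GrLC.StarInjRes 𝒜 ℳ)

/-- Terms of the Veronese complex. -/
def VX (n : ℕ) : GrLC.GMod.{u} 𝒜' := V D (E.X n)

/-- Differentials of the Veronese complex. -/
def Vd (n : ℕ) : ↥(Vc D (E.X n)) →ₗ[R'] ↥(Vc D (E.X (n + 1))) := Vmap D (E.d n) (E.d_grHom n)

/-- Augmentation of the Veronese complex. -/
def Vε : M' →ₗ[R'] ↥(Vc D (E.X 0)) :=
  (Vmap D (X := GrLC.GMod.of 𝒜 M ℳ) E.ε E.ε_grHom).comp (gV D ℳ ℳ' g hgdeg)

theorem coe_Vε (m' : M') : ((Vε D ℳ ℳ' g hgdeg E m' : ↥(Vc D (E.X 0))) : (E.X 0).carrier) =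
    E.ε (g m') := rfl

theorem coe_Vd (n : ℕ) (x : ↥(Vc D (E.X n))) :
    ((Vd D ℳ E n x : ↥(Vc D (E.X (n + 1)))) : (E.X (n + 1)).carrier) = E.d n (x : (E.X n).carrier) :=
  rfl

theorem Vd_isGrHom (n : ℕ) : GrLC.IsGrHom (Vgr D (E.X n)) (Vgr D (E.X (n + 1))) (Vd D ℳ E n) :=
  Vmap_isGrHom D _ _

theorem Vε_isGrHom : GrLC.IsGrHom ℳ' (Vgr D (E.X 0)) (Vε D ℳ ℳ' g hgdeg E) :=
  fun j m hm => Vmap_isGrHom D (X := GrLC.GMod.of 𝒜 M ℳ) E.ε E.ε_grHom j _
    (gV_isGrHom D ℳ ℳ' g hgdeg j m hm)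

include hg in
theorem Vε_injective : Function.Injective (Vε D ℳ ℳ' g hgdeg E) := by
  intro x y h
  have h1 : E.ε (g x) = E.ε (g y) := congrArg Subtype.val h
  exact hg (E.ε_injective h1)

theorem V_exact_zero : LinearMap.ker (Vd D ℳ E 0) = LinearMap.range (Vε D ℳ ℳ' g hgdeg E) := by
  apply le_antisymm
  · intro x hx
    have hx0 : E.d 0 (x : (E.X 0).carrier) = 0 := congrArg Subtype.val (LinearMap.mem_ker.mp hx)
    have hx1 : (x : (E.X 0).carrier) ∈ LinearMap.range E.ε := by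
      rw [← E.exact_zero]; exact hx0
    obtain ⟨m, hm⟩ := hx1
    have hρ : rho D (GrLC.GMod.of 𝒜 M ℳ) m = m := by
      apply E.ε_injective
      have := rho_map D (X := GrLC.GMod.of 𝒜 M ℳ) (Y := E.X 0) E.ε E.ε_grHom m
      refine this.symm.trans ?_
      have h4 : rho D (E.X 0) (x : (E.X 0).carrier) = x := rho_coe D (E.X 0) x
      rw [← hm] at h4
      exact h4
    obtain ⟨m', hm'⟩ := gV_surjective D ℳ ℳ' g hgdeg ⟨m, hρ⟩
    refine ⟨m', Subtype.ext ?_⟩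
    rw [coe_Vε, ← hm]
    exact congrArg E.ε (congrArg Subtype.val hm')
  · rintro _ ⟨m', rfl⟩
    rw [LinearMap.mem_ker]
    apply Subtype.ext
    rw [coe_Vd, coe_Vε]
    have : E.ε (g m') ∈ LinearMap.ker (E.d 0) := by
      rw [E.exact_zero]; exact LinearMap.mem_range_self _ _
    exact this

theorem V_exact_succ (n : ℕ) :
    LinearMap.ker (Vd D ℳ E (n + 1)) = LinearMap.range (Vd D ℳ E n) := by
  apply le_antisymm
  · intro x hx
    have hx0 : E.d (n + 1) (x : (E.X (n + 1)).carrier) = 0 :=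
      congrArg Subtype.val (LinearMap.mem_ker.mp hx)
    have hx1 : (x : (E.X (n + 1)).carrier) ∈ LinearMap.range (E.d n) := by
      rw [← E.exact_succ n]; exact hx0
    obtain ⟨y, hy⟩ := hx1
    refine ⟨⟨rho D (E.X n) y, rho_mem_Vc D (E.X n) y⟩, Subtype.ext ?_⟩
    rw [coe_Vd]
    show E.d n (rho D (E.X n) y) = _
    rw [← rho_map D (E.d n) (E.d_grHom n), hy, rho_coe]
  · rintro _ ⟨y, rfl⟩
    rw [LinearMap.mem_ker]
    apply Subtype.ext
    rw [coe_Vd, coe_Vd]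
    have : E.d n (y : (E.X n).carrier) ∈ LinearMap.ker (E.d (n + 1)) := by
      rw [E.exact_succ n]; exact LinearMap.mem_range_self _ _
    exact this

end Aug

end Groth.Agent.Lib.Helper8.Veronese
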