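import Groth.Agent.Lib.Helper8CanonHilb
import Groth.Agent.Lib.Helper8LC2
import Groth.Agent.Lib.Helper8VeroneseObj
import Groth.Agent.Lib.Helper29MaxVanish

/-!
# From a Gorenstein Veronese subring back to the ring (helper8)

Let `R` be a standard graded Cohen–Macaulay ring of dimension `≥ 2` over a field with *canonical
module `C`.  If the Veronese module `C^(q)` is free of rank one over `R^(q)` with homogeneous
generator, then `C` is free of rank one over `R` with the same generator.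
-/

set_option autoImplicit false
set_option linter.style.haveILetI false
set_option linter.unusedSectionVars false
universe u
open DirectSum CategoryTheory

noncomputable section

namespace Groth.Agent.Lib.Helper8.VerGorConv

open Groth.Agent.Lib.Helper8.LC Groth.Agent.Lib.Helper29GrEss

section General

variable {R : Type u} [CommRing R] (J : Ideal R)

/-- An injective map with `H^1_J` of the source zero, no `J`-torsion in the target and
`J`-torsion cokernel is surjective. -/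
theorem surjective_of_torsion_coker {A B : Type u} [AddCommGroup A] [Module R A] [AddCommGroup B]
    [Module R B] (g : A →ₗ[R] B) (hg : Function.Injective g)
    (hH1 : ∀ y : (localCohomology J 1).obj (ModuleCat.of R A), y = 0)
    (hB : ∀ b : B, b ∈ DRing.torsionSub J B → b = 0)
    (htors : ∀ b : B, ∃ k : ℕ, ∀ a ∈ J ^ k, a • b ∈ LinearMap.range g) :
    Function.Surjective g := by
  have hex : Function.Exact g (LinearMap.range g).mkQ := by
    intro b
    rw [Submodule.mkQ_apply, Submodule.Quotient.mk_eq_zero]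
    rfl
  have hS := Sfg_shortExact g (LinearMap.range g).mkQ hg (Submodule.mkQ_surjective _) hex
  have hQ : ∀ x : B ⧸ LinearMap.range g, x = 0 := by
    intro x
    obtain ⟨b, rfl⟩ := Submodule.mkQ_surjective _ x
    have hbt : (LinearMap.range g).mkQ b ∈ DRing.torsionSub J (B ⧸ LinearMap.range g) := by
      obtain ⟨k, hk⟩ := htors b
      refine ⟨k, fun a ha => ?_⟩
      rw [← map_smul, Submodule.mkQ_apply, Submodule.Quotient.mk_eq_zero]
      exact hk a ha
    obtain ⟨z, hz⟩ := exists_Φ_eq J (ModuleCat.of R (B ⧸ LinearMap.range g)) _ hbt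
    obtain ⟨y, hy⟩ := H_exact₃ J 0 (Sfg g (LinearMap.range g).mkQ hex) hS z (hH1 _)
    have hy0 : y = 0 := by
      apply Φ_injective J (ModuleCat.of R B)
      rw [map_zero]
      exact hB _ (Φ_mem_torsionSub J (ModuleCat.of R B) y)
    rw [hy0, map_zero] at hy
    rw [← hz, ← hy, map_zero]
  intro b
  have := hQ ((LinearMap.range g).mkQ b)
  rw [Submodule.mkQ_apply, Submodule.Quotient.mk_eq_zero] at this
  exact this

end General

section Graded

variable {R : Type u} [CommRing R] (𝒜 : ℤ → AddSubgroup R) [GradedRing 𝒜]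
  (m : HomogeneousIdeal 𝒜)
  (hmsp : m.toIdeal = Ideal.span (⋃ n ∈ Set.Ioi (0 : ℤ), (𝒜 n : Set R)))
  (hstd : Ideal.span (⋃ n ∈ Set.Ioi (0 : ℤ), (𝒜 n : Set R)) =
    Ideal.span ((𝒜 1 : AddSubgroup R) : Set R))

include hmsp hstd in
/-- In a standard graded ring, `m^t` lies in the ideal generated by the piece of degree `t`. -/
theorem pow_le_span_piece (t : ℕ) :
    m.toIdeal ^ t ≤ Ideal.span ((𝒜 (t : ℤ) : AddSubgroup R) : Set R) := by
  induction t with
  | zero =>
    rw [pow_zero, Ideal.one_eq_top]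
    intro x _
    have h1 : (1 : R) ∈ Ideal.span ((𝒜 ((0 : ℕ) : ℤ) : AddSubgroup R) : Set R) :=
      Ideal.subset_span (by
        rw [Nat.cast_zero]
        exact SetLike.GradedOne.one_mem)
    rw [(Ideal.eq_top_iff_one _).mpr h1]
    trivial
  | succ t ih =>
    rw [pow_succ]
    have h1 : m.toIdeal = Ideal.span ((𝒜 1 : AddSubgroup R) : Set R) := hmsp.trans hstd
    calc m.toIdeal ^ t * m.toIdeal
        ≤ Ideal.span ((𝒜 (t : ℤ) : AddSubgroup R) : Set R) *
          Ideal.span ((𝒜 1 : AddSubgroup R) : Set R) := by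
          rw [← h1]
          exact Ideal.mul_mono_left ih
      _ ≤ Ideal.span ((𝒜 ((t + 1 : ℕ) : ℤ) : AddSubgroup R) : Set R) := by
          rw [Ideal.span_mul_span']
          apply Ideal.span_mono
          rintro _ ⟨a, ha, b, hb, rfl⟩
          have h := SetLike.GradedMul.mul_mem (A := 𝒜) ha hb
          rw [Nat.cast_succ]
          exact h

include hmsp hstd in
/-- If a submodule contains `R_t • b` then it contains `m^t • b`. -/
theorem smul_mem_of_piece {B : Type u} [AddCommGroup B] [Module R B] (N : Submodule R B) (b : B)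
    (t : ℕ) (h : ∀ s ∈ 𝒜 (t : ℤ), s • b ∈ N) : ∀ a ∈ m.toIdeal ^ t, a • b ∈ N := by
  intro a ha
  have ha' := pow_le_span_piece 𝒜 m hmsp hstd t ha
  clear ha
  induction ha' using Submodule.span_induction with
  | mem s hs => exact h s hs
  | zero => rw [zero_smul]; exact zero_mem _
  | add x y _ _ hx hy => rw [add_smul]; exact add_mem hx hy
  | smul c x _ hx => rw [smul_eq_mul, mul_smul]; exact N.smul_mem c hx

end Graded

section Main

open Groth.Agent.Lib.Helper8.Veronese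

variable {R : Type u} [CommRing R] [hR : LocCoh.IsCohenMacaulayRing R]
  (𝒜 : ℤ → AddSubgroup R) [GradedRing 𝒜]
  (hpos : ∀ n : ℤ, n < 0 → 𝒜 n = ⊥) (h0 : IsField (GrLC.deg0 𝒜))
  (m : HomogeneousIdeal 𝒜) (hm : GrLC.IsStarLocal 𝒜 m)
  (hmsp : m.toIdeal = Ideal.span (⋃ n ∈ Set.Ioi (0 : ℤ), (𝒜 n : Set R)))
  (hstd : Ideal.span (⋃ n ∈ Set.Ioi (0 : ℤ), (𝒜 n : Set R)) =
    Ideal.span ((𝒜 1 : AddSubgroup R) : Set R))
  (n : ℕ) (hn : ringKrullDim R = n) (h2 : 2 ≤ n) (I : GrLC.StarInjRes 𝒜 𝒜)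
  {E' : Type u} [AddCommGroup E'] [Module R E'] (𝓔 : ℤ → AddSubgroup E')
  [DirectSum.Decomposition 𝓔] [SetLike.GradedSMul 𝒜 𝓔]
  (e : (R ⧸ m.toIdeal) →ₗ[R] E') (he : GrLC.IsStarInjHull 𝒜 (GrLC.quotGr 𝒜 m) 𝓔 e)
  {C : Type u} [AddCommGroup C] [Module R C] (𝒞 : ℤ → AddSubgroup C)
  [DirectSum.Decomposition 𝒞] [SetLike.GradedSMul 𝒜 𝒞]
  (hC : GrLC.IsStarCanonical 𝒜 𝒞 𝓔 m n I)

include hpos h0 hm hmsp hn h2 in
/-- `H^j_m(R) = 0` for `j < 2`. -/
theorem H_eq_zero_of_lt_two (j : ℕ) (hj : j < 2)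
    (y : (localCohomology m.toIdeal j).obj (ModuleCat.of R R)) : y = 0 := by
  haveI hmax : m.toIdeal.IsMaximal :=
    Groth.Agent.Lib.Helper8.GrField.isMaximal 𝒜 hpos h0 m hm hmsp
  have hht : m.toIdeal.height = n :=
    Groth.Agent.Lib.Helper8.GrField.height_eq 𝒜 hpos h0 m hm hmsp n hn
  refine Groth.Agent.Lib.Helper29MaxVanish.H_self_eq_zero_of_lt_height m.toIdeal hR j ?_ y
  rw [hht]
  exact_mod_cast lt_of_lt_of_le hj h2

include hpos h0 hm hmsp hn h2 in
/-- `R` has no `m`-torsion. -/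
theorem torsionSub_self (x : R) (hx : x ∈ DRing.torsionSub m.toIdeal R) : x = 0 := by
  obtain ⟨z, hz⟩ := exists_Φ_eq m.toIdeal (ModuleCat.of R R) x hx
  rw [← hz, H_eq_zero_of_lt_two 𝒜 hpos h0 m hm hmsp n hn h2 0 (by norm_num) z, map_zero]

include hpos h0 hm hmsp hstd hn h2 he hC in
/-- The *canonical module has no `m`-torsion. -/
theorem torsionSub_canonical (c : C) (hc : c ∈ DRing.torsionSub m.toIdeal C) : c = 0 := by
  classical
  -- every nonzero element is moved by a linear form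
  have key : ∀ c : C, c ≠ 0 → ∃ y ∈ 𝒜 1, y • c ≠ 0 := by
    intro c hc0
    obtain ⟨j, hj⟩ := exists_component_ne_zero 𝒞 hc0
    obtain ⟨y, hy, hyc⟩ := Groth.Agent.Lib.Helper8.CanonHilb.exists_ne_zero_succ 𝒜 hpos h0 m hm
      hmsp hstd n hn h2 I 𝓔 e he 𝒞 hC j _ (SetLike.coe_mem ((decompose 𝒞 c) j)) hj
    refine ⟨y, hy, fun h => hyc ?_⟩
    have h1 := decompose_smul_of_mem 𝒜 𝒞 hy c (j + 1)
    rw [h, DirectSum.decompose_zero, add_sub_cancel_right] at h1
    exact h1.symm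
  have hm1 : ∀ y ∈ 𝒜 1, y ∈ m.toIdeal := by
    intro y hy
    rw [hmsp]
    exact Ideal.subset_span (Set.mem_iUnion₂.mpr ⟨1, by show (0 : ℤ) < 1; norm_num, hy⟩)
  have key2 : ∀ k : ℕ, ∀ c : C, c ≠ 0 → ∃ a ∈ m.toIdeal ^ k, a • c ≠ 0 := by
    intro k
    induction k with
    | zero =>
      intro c hc0
      exact ⟨1, by rw [pow_zero, Ideal.one_eq_top]; trivial, by rwa [one_smul]⟩
    | succ k ih =>
      intro c hc0
      obtain ⟨y, hy, hyc⟩ := key c hc0
      obtain ⟨a, ha, hac⟩ := ih (y • c) hyc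
      refine ⟨a * y, ?_, ?_⟩
      · rw [pow_succ]
        exact Ideal.mul_mem_mul ha (hm1 y hy)
      · rwa [mul_smul]
  by_contra hc0
  obtain ⟨k, hk⟩ := hc
  obtain ⟨a, ha, hac⟩ := key2 k c hc0
  exact hac (hk a ha)

variable {R' : Type u} [CommRing R'] {𝒜' : ℤ → AddSubgroup R'} [GradedRing 𝒜']
  (D : VerData 𝒜 𝒜') (hφ : Function.Injective D.φ)
  (hsurj : ∀ j : ℤ, ∀ x ∈ 𝒜 (j * D.q), ∃ a ∈ 𝒜' j, D.φ a = x)
  (f' : R' →ₗ[R'] ↥(Vc D (GrLC.GMod.of 𝒜 C 𝒞))) (hbij : Function.Bijective f') (a' : ℤ)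
  (hdeg : GrLC.IsGrHomDeg 𝒜' (Vgr D (GrLC.GMod.of 𝒜 C 𝒞)) f' a')

include hpos h0 hm hmsp hstd hn h2 he hC hφ hsurj hbij hdeg in
/-- If the Veronese of the *canonical module is free of rank one over the Veronese subring, the
*canonical module is free of rank one. -/
theorem exists_bijective_of_veronese :
    ∃ g : R →ₗ[R] C, Function.Bijective g ∧ GrLC.IsGrHomDeg 𝒜 𝒞 g (a' * (D.q : ℤ)) := by
  classical
  have hNoeth : IsNoetherianRing R := inferInstance
  obtain ⟨f₀, hf₀⟩ : ∃ f₀ : C, f₀ = ((f' 1 : ↥(Vc D (GrLC.GMod.of 𝒜 C 𝒞))) :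
      (GrLC.GMod.of 𝒜 C 𝒞).carrier) := ⟨_, rfl⟩
  have hf₀deg : f₀ ∈ 𝒞 (a' * (D.q : ℤ)) := by
    have h1 := hdeg 0 1 (SetLike.GradedOne.one_mem)
    rw [zero_add] at h1
    rw [hf₀]
    exact h1
  -- the values of `f'`
  have hval : ∀ r' : R', ((f' r' : ↥(Vc D (GrLC.GMod.of 𝒜 C 𝒞))) :
      (GrLC.GMod.of 𝒜 C 𝒞).carrier) = D.φ r' • f₀ := by
    intro r'
    have h1 : f' r' = r' • f' 1 := by rw [← map_smul, smul_eq_mul, mul_one]
    rw [h1, hf₀]
    rfl
  -- elements of Veronese degree are multiples of `f₀`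
  have hmult : ∀ (j : ℤ) (x : C), x ∈ 𝒞 (j * (D.q : ℤ)) → ∃ r' : R', x = D.φ r' • f₀ := by
    intro j x hx
    have hxV : x ∈ Vc D (GrLC.GMod.of 𝒜 C 𝒞) := mem_Vc_of_mem D (GrLC.GMod.of 𝒜 C 𝒞) hx
    obtain ⟨r', hr'⟩ := hbij.2 ⟨x, hxV⟩
    refine ⟨r', ?_⟩
    rw [← hval r', hr']
  let g : R →ₗ[R] C := LinearMap.toSpanSingleton R C f₀
  have hg : ∀ r, g r = r • f₀ := fun r => rfl
  have hgdeg : GrLC.IsGrHomDeg 𝒜 𝒞 g (a' * (D.q : ℤ)) := by
    intro i r hr
    rw [hg]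
    have := SetLike.GradedSMul.smul_mem (A := 𝒜) (B := 𝒞) hr hf₀deg
    rw [vadd_eq_add] at this
    exact this
  obtain ⟨q', hq'⟩ : ∃ q' : ℕ, D.q = q' + 1 := ⟨D.q - 1, (Nat.sub_add_cancel D.hq).symm⟩
  have hqz : (0 : ℤ) < D.q := by exact_mod_cast D.hq
  -- injectivity on homogeneous elements
  have hinj_hom : ∀ (i : ℤ) (r : R), r ∈ 𝒜 i → r • f₀ = 0 → r = 0 := by
    intro i r hr hrf
    rcases lt_or_ge i 0 with hneg | hnn
    · have : r ∈ (⊥ : AddSubgroup R) := (hpos i hneg) ▸ hr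
      exact AddSubgroup.mem_bot.mp this
    · obtain ⟨k, rfl⟩ := Int.eq_ofNat_of_zero_le hnn
      apply torsionSub_self 𝒜 hpos h0 m hm hmsp n hn h2
      refine ⟨k * q', ?_⟩
      have hN := smul_mem_of_piece 𝒜 m hmsp hstd (⊥ : Submodule R R) r (k * q') ?_
      · intro a ha
        exact (Submodule.mem_bot R).mp (hN a ha)
      · intro s hs
        rw [Submodule.mem_bot, smul_eq_mul]
        have hsr : s * r ∈ 𝒜 ((k : ℤ) * (D.q : ℤ)) := by
          have h := SetLike.GradedMul.mul_mem (A := 𝒜) hs hr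
          have e1 : ((k * q' : ℕ) : ℤ) + (k : ℤ) = (k : ℤ) * (D.q : ℤ) := by
            rw [hq']
            push_cast
            ring
          rw [e1] at h
          exact h
        obtain ⟨a, _, hax⟩ := hsurj (k : ℤ) (s * r) hsr
        have h1 := hval a
        rw [hax, mul_smul, hrf, smul_zero] at h1
        have h2 : f' a = 0 := Subtype.ext h1
        have h3 : a = 0 := hbij.1 (h2.trans (map_zero f').symm)
        rw [← hax, h3, map_zero]
  have hinj : Function.Injective g := by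
    rw [injective_iff_map_eq_zero]
    intro r hr
    rw [hg] at hr
    rw [← DirectSum.sum_support_decompose 𝒜 r]
    apply Finset.sum_eq_zero
    intro j _
    apply hinj_hom j _ (SetLike.coe_mem _)
    have h1 := decompose_smul_of_mem_right 𝒜 𝒞 hf₀deg r (j + a' * (D.q : ℤ))
    rw [hr, DirectSum.decompose_zero, add_sub_cancel_right] at h1
    exact h1.symm
  refine ⟨g, ⟨hinj, ?_⟩, hgdeg⟩
  -- surjectivity
  apply surjective_of_torsion_coker m.toIdeal g hinj
    (H_eq_zero_of_lt_two 𝒜 hpos h0 m hm hmsp n hn h2 1 (by norm_num))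
    (torsionSub_canonical 𝒜 hpos h0 m hm hmsp hstd n hn h2 I 𝓔 e he 𝒞 hC)
  intro c
  induction c using DirectSum.Decomposition.inductionOn 𝒞 with
  | zero => exact ⟨0, fun a _ => by rw [smul_zero]; exact zero_mem _⟩
  | @homogeneous i c =>
    obtain ⟨t, ht⟩ : ∃ t : ℕ, (D.q : ℤ) ∣ (t : ℤ) + i := by
      refine ⟨((-i) % (D.q : ℤ)).toNat, ?_⟩
      rw [Int.toNat_of_nonneg (Int.emod_nonneg _ hqz.ne')]
      have h1 := Int.emod_add_mul_ediv (-i) (D.q : ℤ)
      refine ⟨-((-i) / (D.q : ℤ)), ?_⟩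
      linarith
    refine ⟨t, ?_⟩
    apply smul_mem_of_piece 𝒜 m hmsp hstd (LinearMap.range g) (c : C) t
    intro s hs
    obtain ⟨j, hj⟩ := ht
    have hsc : s • (c : C) ∈ 𝒞 (j * (D.q : ℤ)) := by
      have h := SetLike.GradedSMul.smul_mem (A := 𝒜) (B := 𝒞) hs c.2
      rw [vadd_eq_add, hj, mul_comm] at h
      exact h
    obtain ⟨r', hr'⟩ := hmult j _ hsc
    exact ⟨D.φ r', hr'.symm⟩
  | add x y hx hy =>
    obtain ⟨k₁, h₁⟩ := hx
    obtain ⟨k₂, h₂⟩ := hy
    refine ⟨k₁ + k₂, fun a ha => ?_⟩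
    rw [smul_add]
    exact add_mem (h₁ a (Ideal.pow_le_pow_right (Nat.le_add_right k₁ k₂) ha))
      (h₂ a (Ideal.pow_le_pow_right (Nat.le_add_left k₂ k₁) ha))

end Main

end Groth.Agent.Lib.Helper8.VerGorConv
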