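import Mathlib.Algebra.DirectSum.Decomposition
import Mathlib.Data.DFinsupp.Defs

/-! Reindexing a decomposition along an injective map of index types whose range carries all
nonzero pieces (helper8). -/

set_option autoImplicit false
open DirectSum

namespace Groth.Agent.Lib.Helper8.VerReindex

universe u

variable {ι κ : Type} [DecidableEq ι] [DecidableEq κ]
variable {P : Type u} [AddCommGroup P] (𝓠 : ι → AddSubgroup P)
variable (s : κ → ι) (hs : Function.Injective s)

/-- Restriction of a finitely supported family along an injective reindexing, as an additive map. -/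
noncomputable def comapHom : (⨁ g, 𝓠 g) →+ ⨁ k, 𝓠 (s k) where
  toFun f := DFinsupp.comapDomain s hs f
  map_zero' := DFinsupp.comapDomain_zero s hs
  map_add' := DFinsupp.comapDomain_add s hs

theorem comapHom_of (k : κ) (y : 𝓠 (s k)) :
    comapHom 𝓠 s hs (DirectSum.of (fun g => 𝓠 g) (s k) y) = DirectSum.of (fun k => 𝓠 (s k)) k y :=
  DFinsupp.comapDomain_single (β := fun g => ↥(𝓠 g)) s hs k y

variable (hoff : ∀ g, g ∉ Set.range s → 𝓠 g = ⊥)

include hoff in
theorem coe_comapHom (f : ⨁ g, 𝓠 g) :
    DirectSum.coeAddMonoidHom (fun k => 𝓠 (s k)) (comapHom 𝓠 s hs f) =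
      DirectSum.coeAddMonoidHom 𝓠 f := by
  induction f using DirectSum.induction_on with
  | zero => rw [map_zero, map_zero, map_zero]
  | of g y =>
    by_cases hg : g ∈ Set.range s
    · obtain ⟨k, rfl⟩ := hg
      rw [comapHom_of, DirectSum.coeAddMonoidHom_of, DirectSum.coeAddMonoidHom_of]
    · have hy : y = 0 := by
        have h : (y : P) ∈ (⊥ : AddSubgroup P) := (hoff g hg) ▸ y.2
        exact Subtype.ext (AddSubgroup.mem_bot.mp h)
      rw [hy, map_zero, map_zero, map_zero, map_zero]
  | add x y hx hy => rw [map_add, map_add, map_add, hx, hy]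

variable [DirectSum.Decomposition 𝓠]

/-- The reindexed decomposition. -/
@[instance_reducible]
noncomputable def reindexDecomposition : DirectSum.Decomposition (fun k => 𝓠 (s k)) :=
  DirectSum.Decomposition.ofAddHom _
    ((comapHom 𝓠 s hs).comp (DirectSum.decomposeAddEquiv 𝓠).toAddMonoidHom)
    (by
      ext x
      show DirectSum.coeAddMonoidHom (fun k => 𝓠 (s k))
        (comapHom 𝓠 s hs (DirectSum.decompose 𝓠 x)) = x
      rw [coe_comapHom 𝓠 s hs hoff]
      exact DirectSum.Decomposition.left_inv x)
    (by
      apply DirectSum.addHom_ext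
      intro k y
      show comapHom 𝓠 s hs (DirectSum.decompose 𝓠
        (DirectSum.coeAddMonoidHom (fun k => 𝓠 (s k)) (DirectSum.of (fun k => 𝓠 (s k)) k y))) =
          DirectSum.of (fun k => 𝓠 (s k)) k y
      rw [DirectSum.coeAddMonoidHom_of]
      have : DirectSum.decompose 𝓠 ((y : 𝓠 (s k)) : P) = DirectSum.of (fun g => 𝓠 g) (s k) y :=
        DirectSum.decompose_coe 𝓠 y
      rw [this, comapHom_of])

end Groth.Agent.Lib.Helper8.VerReindex
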