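import Groth.Agent.Lib.Helper8WPolyCanon
import Groth.Agent.Lib.Helper8VerGor
import Groth.Agent.Lib.Helper8GrTransport
import Groth.Agent.Lib.Helper8GrSubA
import Groth.Agent.Lib.Helper8VerReindex
import Groth.Agent.Lib.Helper6Hopf12

/-!
# The standard ℤ-grading of a polynomial ring over a field (helper8)

Facts on `𝒜 = asGr (weightedHomogeneousSubmodule k (fun _ => 1))` on `k[X_1..X_s]`: positivity,
degree zero field, standard generation, Gorenstein, `a`-invariant `-s`, comparison with
`homogeneousComponent`, Hilbert function.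
-/

set_option autoImplicit false
set_option linter.style.haveILetI false
set_option linter.unusedSectionVars false
universe u
attribute [local instance] MvPolynomial.weightedGradedAlgebra
open DirectSum MvPolynomial

noncomputable section

namespace Groth.Agent.Lib.Helper8.VerPoly

open Groth.Agent.Lib.Helper29GrConv

variable (k : Type u) [Field k] (s : ℕ)

/-- constant weights one -/
def w1 : Fin s → ℤ := fun _ => 1

theorem w1_pos : ∀ i, 0 < w1 s i := fun _ => Int.one_pos

/-- the standard grading by additive subgroups -/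
abbrev stdA : ℤ → AddSubgroup (MvPolynomial (Fin s) k) :=
  asGr (weightedHomogeneousSubmodule k (w1 s))

instance instGradedRingStdA : GradedRing (stdA k s) := inferInstance

theorem mem_stdA (g : ℤ) (p : MvPolynomial (Fin s) k) :
    p ∈ stdA k s g ↔ IsWeightedHomogeneous (w1 s) p g := Iff.rfl

theorem weight_w1 (d : Fin s →₀ ℕ) :
    Finsupp.weight (w1 s) d = ((Finsupp.weight (1 : Fin s → ℕ) d : ℕ) : ℤ) := by
  rw [Finsupp.weight_apply, Finsupp.weight_apply, Finsupp.sum, Finsupp.sum, Nat.cast_sum]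
  apply Finset.sum_congr rfl
  intro i _
  show d i • (1 : ℤ) = ((d i • (1 : ℕ) : ℕ) : ℤ)
  simp

theorem isHomogeneous_iff (n : ℕ) (p : MvPolynomial (Fin s) k) :
    IsWeightedHomogeneous (w1 s) p (n : ℤ) ↔ p.IsHomogeneous n := by
  constructor
  · intro h d hd
    have h1 := h hd
    rw [weight_w1] at h1
    exact_mod_cast h1
  · intro h d hd
    have h1 : Finsupp.weight (1 : Fin s → ℕ) d = n := h hd
    rw [weight_w1, h1]

theorem hpos : ∀ n : ℤ, n < 0 → stdA k s n = ⊥ := by
  intro n hn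
  rw [eq_bot_iff]
  intro x hx
  rw [AddSubgroup.mem_bot]
  exact Groth.Agent.Lib.Helper8.WPoly.eq_zero_of_neg (w1 s) (w1_pos s) hn ((mem_stdA k s n x).mp hx)

theorem h0 : IsField (GrLC.deg0 (stdA k s)) := by
  refine ⟨⟨0, 1, fun h => ?_⟩, mul_comm, fun {a} ha => ?_⟩
  · have := congrArg Subtype.val h
    exact zero_ne_one this
  · obtain ⟨c, hCa⟩ : ∃ c : k, a.1 = MvPolynomial.C c :=
      ⟨_, Groth.Agent.Lib.Helper8.WPoly.eq_C_of_zero (w1 s) (w1_pos s)
        ((mem_stdA k s 0 a.1).mp a.2)⟩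
    have hc : c ≠ 0 := by
      intro h0
      rw [h0, map_zero] at hCa
      exact ha (Subtype.ext hCa)
    refine ⟨⟨MvPolynomial.C c⁻¹, (mem_stdA k s 0 _).mpr (isWeightedHomogeneous_C (w1 s) _)⟩, ?_⟩
    apply Subtype.ext
    show a.1 * MvPolynomial.C c⁻¹ = 1
    rw [hCa, ← map_mul, mul_inv_cancel₀ hc, map_one]

theorem X_mem (i : Fin s) : (X i : MvPolynomial (Fin s) k) ∈ stdA k s 1 :=
  (mem_stdA k s _ _).mpr (isWeightedHomogeneous_X k (w1 s) i)

theorem hstd : Ideal.span (⋃ n ∈ Set.Ioi (0 : ℤ), (stdA k s n : Set (MvPolynomial (Fin s) k))) =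
    Ideal.span ((stdA k s 1 : AddSubgroup (MvPolynomial (Fin s) k)) :
      Set (MvPolynomial (Fin s) k)) := by
  apply le_antisymm
  · apply Ideal.span_le.mpr
    intro x hx
    obtain ⟨γ, hγ, hxγ⟩ := Set.mem_iUnion₂.mp hx
    have h1 : x ∈ Ideal.span (Set.range (X : Fin s → MvPolynomial (Fin s) k)) :=
      Groth.Agent.Lib.Helper8.WPoly.mem_span_X (w1 s) (w1_pos s) (ne_of_gt hγ)
        ((mem_stdA k s γ x).mp hxγ)
    refine (Ideal.span_mono ?_) h1
    rintro _ ⟨i, rfl⟩
    exact X_mem k s i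
  · apply Ideal.span_mono
    intro x hx
    exact Set.mem_iUnion₂.mpr ⟨1, by show (0 : ℤ) < 1; norm_num, hx⟩

instance isGorenstein : LocCoh.IsGorensteinRing (MvPolynomial (Fin s) k) :=
  { isGorensteinLocalRing_localization := fun _ _ => Groth.Agent.S0342.result _ }

theorem hdim : ringKrullDim (MvPolynomial (Fin s) k) = s := by
  rw [MvPolynomial.ringKrullDim_of_isNoetherianRing, ringKrullDim_eq_zero_of_field, zero_add,
    Nat.card_fin]

/-- the `a`-invariant of the polynomial ring is `-s`. -/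
theorem endDeg_eq (m : HomogeneousIdeal (stdA k s)) (hm : GrLC.IsStarLocal (stdA k s) m)
    (hmsp : m.toIdeal = Ideal.span (⋃ n ∈ Set.Ioi (0 : ℤ),
      (stdA k s n : Set (MvPolynomial (Fin s) k))))
    (I : GrLC.StarInjRes (stdA k s) (stdA k s)) :
    GrLC.endDeg (I.Hgr m s) = (((-(s : ℤ) : ℤ) : WithTop ℤ) : WithBot (WithTop ℤ)) := by
  classical
  haveI hCM : LocCoh.IsCohenMacaulayRing (MvPolynomial (Fin s) k) :=
    Groth.Agent.Lib.Helper8.LocDualK.isCohenMacaulayRing_of_isRegularRing
  have hy : ∀ i, (X i : MvPolynomial (Fin s) k) ∈ stdA k s (w1 s i) := fun i => X_mem k s i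
  have hJle : m.toIdeal ≤ Ideal.span (Set.range (X : Fin s → MvPolynomial (Fin s) k)) := by
    rw [hmsp]
    apply Ideal.span_le.mpr
    intro x hx
    obtain ⟨γ, hγ, hxγ⟩ := Set.mem_iUnion₂.mp hx
    exact Groth.Agent.Lib.Helper8.WPoly.mem_span_X (w1 s) (w1_pos s) (ne_of_gt hγ)
      ((mem_stdA k s γ x).mp hxγ)
  have hrad : m.toIdeal ≤
      (Ideal.span (Set.range (X : Fin s → MvPolynomial (Fin s) k))).radical :=
    hJle.trans Ideal.le_radical
  have hend2 := Groth.Agent.Lib.Helper8.AInvReg.endDeg_add_eq (stdA k s) (hpos k s) (h0 k s) m hm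
    hmsp s (hdim k s) I (X : Fin s → MvPolynomial (Fin s) k) (w1 s) hy (w1_pos s)
    (Groth.Agent.Lib.Helper8.WPoly.isRegular_X (k := k) (N := s)) hrad
  have hend3 : GrLC.endDeg (Groth.Agent.Lib.Helper29GrQuot.quotGr (stdA k s)
      (Ideal.span (Set.range (X : Fin s → MvPolynomial (Fin s) k)))) =
      (((0 : ℤ) : WithTop ℤ) : WithBot (WithTop ℤ)) := by
    apply le_antisymm
    · rw [Groth.Agent.Lib.Helper29EndDeg.endDeg_le_iff]
      intro d hd
      rw [Groth.Agent.Lib.Helper29EndDeg.coe_le_coe_iff]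
      by_contra hcon
      apply hd
      rw [Groth.Agent.Lib.Helper25.AInvTop.quotGr_eq_bot_iff]
      intro x hx
      exact Groth.Agent.Lib.Helper8.WPoly.mem_span_X (w1 s) (w1_pos s) (by omega)
        ((mem_stdA k s d x).mp hx)
    · apply Groth.Agent.Lib.Helper29EndDeg.le_endDeg
      intro hbot
      rw [Groth.Agent.Lib.Helper25.AInvTop.quotGr_eq_bot_iff] at hbot
      exact Groth.Agent.Lib.Helper8.WPoly.one_notMem_span_X (k := k) (N := s)
        (hbot 1 (SetLike.GradedOne.one_mem))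
  rw [hend3] at hend2
  have h4 := Groth.Agent.Lib.Helper25.AInvPoly.eq_neg_of_add_eq_zero _ _ hend2.symm
  rw [h4]
  have hsum : (Finset.univ : Finset (Fin s)).sum (w1 s) = (s : ℤ) := by
    unfold w1
    rw [Finset.sum_const, Finset.card_univ, Fintype.card_fin, nsmul_eq_mul, mul_one]
  rw [hsum]

/-- homogeneous components lie in the pieces. -/
theorem hc_mem (n : ℕ) (p : MvPolynomial (Fin s) k) :
    homogeneousComponent n p ∈ stdA k s (n : ℤ) :=
  (mem_stdA k s _ _).mpr ((isHomogeneous_iff k s n _).mpr (homogeneousComponent_isHomogeneous n p))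

theorem decompose_natCast (p : MvPolynomial (Fin s) k) (n : ℕ) :
    ((decompose (stdA k s) p) (n : ℤ) : MvPolynomial (Fin s) k) = homogeneousComponent n p := by
  classical
  conv_lhs => rw [← sum_homogeneousComponent p]
  rw [DirectSum.decompose_sum, DFinsupp.finsetSum_apply, AddSubmonoidClass.coe_finsetSum]
  have h1 : ∀ i ∈ Finset.range (p.totalDegree + 1),
      ((decompose (stdA k s) (homogeneousComponent i p)) (n : ℤ) : MvPolynomial (Fin s) k) =
        if i = n then homogeneousComponent n p else 0 := by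
    intro i _
    by_cases hi : i = n
    · subst hi
      rw [if_pos rfl, DirectSum.decompose_of_mem_same _ (hc_mem k s i p)]
    · rw [if_neg hi, DirectSum.decompose_of_mem_ne _ (hc_mem k s i p)
        (by exact_mod_cast hi)]
  rw [Finset.sum_congr rfl h1, Finset.sum_ite_eq']
  split_ifs with hn
  · rfl
  · rw [Finset.mem_range, not_lt] at hn
    rw [homogeneousComponent_eq_zero n p (by omega)]

theorem decompose_neg (p : MvPolynomial (Fin s) k) (g : ℤ) (hg : g < 0) :
    ((decompose (stdA k s) p) g : MvPolynomial (Fin s) k) = 0 := by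
  have h2 : ((decompose (stdA k s) p) g : MvPolynomial (Fin s) k) ∈
      (⊥ : AddSubgroup (MvPolynomial (Fin s) k)) := (hpos k s g hg) ▸ SetLike.coe_mem _
  exact AddSubgroup.mem_bot.mp h2

/-- the Hilbert function of the polynomial ring. -/
theorem finrank_piece (r : ℕ) :
    Module.finrank (GrLC.deg0 (stdA k s)) (GrLC.comp (stdA k s) (stdA k s) (r : ℤ)) =
      Nat.choose (s + r - 1) r := by
  rw [← Groth.Agent.Lib.Helper6.Hopf.finrank_homogeneousSubmodule k s r]
  let i₀ : k → ↥(GrLC.deg0 (stdA k s)) := fun c =>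
    ⟨MvPolynomial.C c, (mem_stdA k s 0 _).mpr (isWeightedHomogeneous_C (w1 s) c)⟩
  have hi₀ : Function.Bijective i₀ := by
    constructor
    · intro a b h
      exact MvPolynomial.C_injective _ _ (congrArg Subtype.val h)
    · intro a
      exact ⟨coeff 0 a.1, Subtype.ext (Groth.Agent.Lib.Helper8.WPoly.eq_C_of_zero (w1 s) (w1_pos s)
        ((mem_stdA k s 0 a.1).mp a.2)).symm⟩
  let j : ↥(homogeneousSubmodule (Fin s) k r) ≃+
      ↥(GrLC.comp (stdA k s) (stdA k s) (r : ℤ)) :=
    { toFun := fun p => ⟨p.1, (mem_stdA k s _ _).mpr ((isHomogeneous_iff k s r _).mpr p.2)⟩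
      invFun := fun p => ⟨p.1, (isHomogeneous_iff k s r _).mp ((mem_stdA k s _ _).mp p.2)⟩
      left_inv := fun _ => rfl
      right_inv := fun _ => rfl
      map_add' := fun _ _ => rfl }
  have hc : ∀ (c : k) (p : ↥(homogeneousSubmodule (Fin s) k r)), j (c • p) = i₀ c • j p := by
    intro c p
    apply Subtype.ext
    show c • (p : MvPolynomial (Fin s) k) = MvPolynomial.C c * (p : MvPolynomial (Fin s) k)
    rw [MvPolynomial.smul_eq_C_mul]
  have hrank := rank_eq_of_equiv_equiv i₀ j hi₀ hc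
  unfold Module.finrank
  rw [hrank]

end Groth.Agent.Lib.Helper8.VerPoly
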