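import Groth.Agent.Lib.Helper8GrTransport
import Groth.Agent.Lib.Helper8GrSubA
import Groth.Agent.Lib.Helper8VerReindex
import Mathlib.RingTheory.GradedAlgebra.Basic

/-!
# Grading a presentation of a Veronese subring (helper8)

If `φ : R' → R` is an injective ring homomorphism into a `ℤ`-graded ring whose range is the set of
elements all of whose components in degrees not divisible by `q` vanish, then `R'` carries the
grading `R'_j = φ⁻¹ (R_{jq})`.
-/

set_option autoImplicit false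
set_option linter.unusedSectionVars false
universe u
open DirectSum

noncomputable section

namespace Groth.Agent.Lib.Helper8.VerPresent

open Groth.Agent.Lib.Helper8.GrSubA Groth.Agent.Lib.Helper8.GrTransport
  Groth.Agent.Lib.Helper8.VerReindex

variable {R : Type u} [CommRing R] (𝒜 : ℤ → AddSubgroup R) [GradedRing 𝒜]
  (q : ℕ) (hq : 0 < q) {R' : Type u} [CommRing R'] (φ : R' →+* R) (hφ : Function.Injective φ)
  (hrange : ∀ x : R, x ∈ φ.range ↔ ∀ g : ℤ, ¬ (q : ℤ) ∣ g → ((decompose 𝒜 x) g : R) = 0)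

/-- the pulled back pieces -/
def pieces : ℤ → AddSubgroup R' := fun j => (𝒜 (j * q)).comap (φ : R' →+ R)

theorem mem_pieces {j : ℤ} {x : R'} : x ∈ pieces 𝒜 q φ j ↔ φ x ∈ 𝒜 (j * q) := Iff.rfl

include hrange in
theorem mem_range_of_mem {j : ℤ} {v : R} (hv : v ∈ 𝒜 (j * q)) : v ∈ φ.range := by
  rw [hrange]
  intro g hg
  rw [DirectSum.decompose_of_mem_ne 𝒜 hv]
  intro h
  exact hg ⟨j, by rw [← h, mul_comm]⟩

include hrange in
theorem map_pieces (j : ℤ) : (pieces 𝒜 q φ j).map (φ : R' →+ R) = 𝒜 (j * q) := by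
  apply le_antisymm
  · rintro _ ⟨x, hx, rfl⟩
    exact hx
  · intro v hv
    obtain ⟨x, rfl⟩ := mem_range_of_mem 𝒜 q φ hrange hv
    exact ⟨x, hv, rfl⟩

include hq hφ hrange in
theorem exists_decomposition : Nonempty (DirectSum.Decomposition (pieces 𝒜 q φ)) := by
  classical
  let P₀ : AddSubgroup R := (φ : R' →+ R).range
  have hmemP₀ : ∀ x : R, x ∈ P₀ ↔ x ∈ φ.range := fun x => Iff.rfl
  have hP : ∀ (g : ℤ) (x : R), x ∈ P₀ → ((decompose 𝒜 x) g : R) ∈ P₀ := by
    intro g x hx
    rw [hmemP₀, hrange] at hx ⊢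
    intro g' hg'
    by_cases hgg : g = g'
    · subst hgg
      rw [hx g hg', DirectSum.decompose_zero]
      rfl
    · rw [DirectSum.decompose_of_mem_ne 𝒜 (SetLike.coe_mem _) hgg]
  let decP₀ : DirectSum.Decomposition (subGr 𝒜 P₀) := subDecomposition 𝒜 P₀ hP
  let e : R' ≃+ ↥P₀ := AddEquiv.ofBijective (φ : R' →+ R).rangeRestrict
    ⟨by
      intro a b h
      exact hφ (congrArg Subtype.val h),
     AddMonoidHom.rangeRestrict_surjective _⟩
  have he : ∀ x : R', ((e x : ↥P₀) : R) = φ x := fun x => rfl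
  let decQ : DirectSum.Decomposition (trGr e (subGr 𝒜 P₀)) := trDecomposition e (subGr 𝒜 P₀)
  let sidx : ℤ → ℤ := fun j => j * q
  have hqz : (q : ℤ) ≠ 0 := by exact_mod_cast hq.ne'
  have hs : Function.Injective sidx := fun a b h => mul_right_cancel₀ hqz h
  have hoff : ∀ g, g ∉ Set.range sidx → trGr e (subGr 𝒜 P₀) g = ⊥ := by
    intro g hg
    rw [AddSubgroup.eq_bot_iff_forall]
    intro x hx
    have hx1 : φ x ∈ 𝒜 g := hx
    have hx2 : φ x ∈ φ.range := ⟨x, rfl⟩
    rw [hrange] at hx2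
    have hgq : ¬ (q : ℤ) ∣ g := by
      rintro ⟨t, ht⟩
      exact hg ⟨t, by show t * (q : ℤ) = g; rw [ht, mul_comm]⟩
    have h3 := hx2 g hgq
    rw [DirectSum.decompose_of_mem_same 𝒜 hx1] at h3
    apply hφ
    rw [h3, map_zero]
  exact ⟨reindexDecomposition (trGr e (subGr 𝒜 P₀)) sidx hs hoff⟩

include hq hφ hrange in
/-- The graded ring structure on a presentation of the Veronese subring. -/
theorem exists_gradedRing :
    ∃ (𝒜' : ℤ → AddSubgroup R') (_ : GradedRing 𝒜'),
      ∀ j : ℤ, (𝒜' j).map (φ : R' →+ R) = 𝒜 (j * q) := by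
  obtain ⟨dec⟩ := exists_decomposition 𝒜 q hq φ hφ hrange
  have hgm : SetLike.GradedMonoid (pieces 𝒜 q φ) :=
    { one_mem := by
        show φ 1 ∈ 𝒜 ((0 : ℤ) * q)
        rw [map_one, zero_mul]
        exact SetLike.GradedOne.one_mem
      mul_mem := by
        intro i j x y hx hy
        show φ (x * y) ∈ 𝒜 ((i + j) * q)
        rw [map_mul, add_mul]
        exact SetLike.GradedMul.mul_mem hx hy }
  exact ⟨pieces 𝒜 q φ, { toGradedMonoid := hgm, toDecomposition := dec },
    map_pieces 𝒜 q φ hrange⟩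

end Groth.Agent.Lib.Helper8.VerPresent
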