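import Groth.Agent.Lib.Helper8VeroneseObj
import Groth.Agent.Lib.Helper29LCAcyclic
import Groth.Agent.S11614
import Groth.Agent.S13217

/-! Ring-theoretic input for Veronese local cohomology: the Veronese subring is Noetherian,
torsion functors agree, and the Veronese of a *injective module is `Γ`-acyclic (helper8). -/

set_option autoImplicit false
set_option linter.style.haveILetI false
set_option linter.unusedSectionVars false
open DirectSum CategoryTheory

noncomputable section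

namespace Groth.Agent.Lib.Helper8.Veronese

open Groth.Agent.Lib.Helper29LCAcyclic

universe u

variable {R : Type u} [CommRing R] {𝒜 : ℤ → AddSubgroup R} [GradedRing 𝒜]
variable {R' : Type u} [CommRing R'] {𝒜' : ℤ → AddSubgroup R'} [GradedRing 𝒜']
variable (D : VerData 𝒜 𝒜')

/-- Restriction of scalars along `φ`, as a type synonym. -/
def ResC (_φ : R' →+* R) (A : Type u) : Type u := A

instance instACG (φ : R' →+* R) (A : Type u) [AddCommGroup A] : AddCommGroup (ResC φ A) :=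
  inferInstanceAs (AddCommGroup A)

instance instModR (φ : R' →+* R) (A : Type u) [AddCommGroup A] [Module R A] :
    Module R (ResC φ A) :=
  inferInstanceAs (Module R A)

instance instModR' (φ : R' →+* R) (A : Type u) [AddCommGroup A] [Module R A] :
    Module R' (ResC φ A) :=
  Module.compHom A φ

section Gam

variable (X : GrLC.GMod.{u} 𝒜)

theorem mem_gam_map_iff (I' : Ideal R') (x : ↥(Vc D X)) :
    x ∈ GrLC.gam I' ↥(Vc D X) ↔ (x : X.carrier) ∈ GrLC.gam (I'.map D.φ) X.carrier := by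
  constructor
  · rintro ⟨n, hn⟩
    refine ⟨n, ?_⟩
    have hle : (I'.map D.φ) ^ n ≤
        LinearMap.ker (LinearMap.toSpanSingleton R X.carrier (x : X.carrier)) := by
      rw [← Ideal.map_pow, Ideal.map_le_iff_le_comap]
      intro r hr
      show D.φ r ∈ LinearMap.ker (LinearMap.toSpanSingleton R X.carrier (x : X.carrier))
      rw [LinearMap.mem_ker, LinearMap.toSpanSingleton_apply]
      exact congrArg Subtype.val (hn r hr)
    intro s hs
    have := hle hs
    rw [LinearMap.mem_ker, LinearMap.toSpanSingleton_apply] at this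
    exact this
  · rintro ⟨n, hn⟩
    refine ⟨n, fun r hr => Subtype.ext ?_⟩
    rw [coe_smul_Vc]
    apply hn
    rw [← Ideal.map_pow]
    exact Ideal.mem_map_of_mem _ hr

theorem gam_le_of_pow_le {A : Type u} [AddCommGroup A] [Module R A] {I J : Ideal R} {N : ℕ}
    (h : I ^ N ≤ J) : GrLC.gam J A ≤ GrLC.gam I A := by
  rintro x ⟨n, hn⟩
  refine ⟨N * n, fun r hr => hn r ?_⟩
  rw [pow_mul] at hr
  exact Ideal.pow_right_mono h n hr

variable (m : HomogeneousIdeal 𝒜) (m' : HomogeneousIdeal 𝒜')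
  (hmsp : m.toIdeal = Ideal.span (⋃ n ∈ Set.Ioi (0 : ℤ), (𝒜 n : Set R)))
  (hm'sp : m'.toIdeal = Ideal.span (⋃ j ∈ Set.Ioi (0 : ℤ), (𝒜' j : Set R')))

include hmsp hm'sp in
theorem map_le_irrelevant : m'.toIdeal.map D.φ ≤ m.toIdeal := by
  rw [Ideal.map_le_iff_le_comap, hm'sp, Ideal.span_le]
  intro a ha
  obtain ⟨j, hj, haj⟩ := Set.mem_iUnion₂.mp ha
  show D.φ a ∈ m.toIdeal
  rw [hmsp]
  apply Ideal.subset_span
  have hq : (0 : ℤ) < D.q := by exact_mod_cast D.hq
  exact Set.mem_iUnion₂.mpr ⟨j * D.q, mul_pos hj hq, D.hdeg j a haj⟩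

variable (hsurj : ∀ j : ℤ, ∀ x ∈ 𝒜 (j * D.q), ∃ a ∈ 𝒜' j, D.φ a = x)

include hmsp hm'sp hsurj in
theorem irrelevant_le_radical : m.toIdeal ≤ (m'.toIdeal.map D.φ).radical := by
  rw [hmsp, Ideal.span_le]
  intro x hx
  obtain ⟨n, hn, hxn⟩ := Set.mem_iUnion₂.mp hx
  have hpow : x ^ D.q ∈ 𝒜 (n * D.q) := by
    have := SetLike.pow_mem_graded D.q hxn
    rw [nsmul_eq_mul, mul_comm] at this
    exact this
  obtain ⟨a, ha, hax⟩ := hsurj n _ hpow
  refine ⟨D.q, ?_⟩
  rw [← hax]
  apply Ideal.mem_map_of_mem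
  rw [hm'sp]
  exact Ideal.subset_span (Set.mem_iUnion₂.mpr ⟨n, hn, ha⟩)

include hmsp hm'sp hsurj in
theorem mem_gam_iff [IsNoetherianRing R] (x : ↥(Vc D X)) :
    x ∈ GrLC.gam m'.toIdeal ↥(Vc D X) ↔ (x : X.carrier) ∈ GrLC.gam m.toIdeal X.carrier := by
  rw [mem_gam_map_iff]
  constructor
  · obtain ⟨N, hN⟩ := Ideal.exists_pow_le_of_le_radical_of_fg
      (irrelevant_le_radical D m m' hmsp hm'sp hsurj) (IsNoetherian.noetherian _)
    exact fun h => gam_le_of_pow_le hN h
  · have h1 : (m'.toIdeal.map D.φ) ^ 1 ≤ m.toIdeal := by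
      rw [pow_one]; exact map_le_irrelevant D m m' hmsp hm'sp
    exact fun h => gam_le_of_pow_le h1 h

end Gam

section Noeth

variable (hφ : Function.Injective D.φ)
  (hsurj : ∀ j : ℤ, ∀ x ∈ 𝒜 (j * D.q), ∃ a ∈ 𝒜' j, D.φ a = x)

/-- The Veronese retraction of the ring itself. -/
def rhoR : R →+ R := rho D (GrLC.GMod.of 𝒜 R 𝒜)

theorem rhoR_mul (a : R') (r : R) : rhoR D (D.φ a * r) = D.φ a * rhoR D r :=
  rho_smul D (GrLC.GMod.of 𝒜 R 𝒜) a r

include hsurj in
theorem rhoR_mem_range (r : R) : ∃ c : R', D.φ c = rhoR D r := by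
  have h : rhoR D r ∈ (D.φ : R' →+ R).range := by
    apply rho_mem_of_le D (GrLC.GMod.of 𝒜 R 𝒜)
    intro j x hx
    obtain ⟨a, _, rfl⟩ := hsurj j x hx
    exact ⟨a, rfl⟩
  exact h

theorem rhoR_φ (a : R') : rhoR D (D.φ a) = D.φ a := by
  induction a using DirectSum.Decomposition.inductionOn 𝒜' with
  | zero => rw [map_zero, map_zero]
  | @homogeneous j m =>
    exact mem_Vc_of_mem D (GrLC.GMod.of 𝒜 R 𝒜) (j := j) (D.hdeg j m m.2)
  | add m m' hm hm' => rw [map_add, map_add, hm, hm']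

include hφ hsurj in
theorem comap_map (I' : Ideal R') : (I'.map D.φ).comap D.φ = I' := by
  apply le_antisymm
  · intro x hx
    have hx' : D.φ x ∈ Ideal.span (D.φ '' (I' : Set R')) := hx
    have key : ∀ y ∈ Ideal.span (D.φ '' (I' : Set R')), ∀ r : R,
        ∃ b ∈ I', D.φ b = rhoR D (r * y) := by
      intro y hy
      induction hy using Submodule.span_induction with
      | mem y hy =>
        obtain ⟨a, ha, rfl⟩ := hy
        intro r
        obtain ⟨c, hc⟩ := rhoR_mem_range D hsurj r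
        refine ⟨a * c, I'.mul_mem_right c ha, ?_⟩
        rw [mul_comm r, rhoR_mul, ← hc, map_mul]
      | zero =>
        intro r
        exact ⟨0, zero_mem _, by rw [mul_zero, map_zero, map_zero]⟩
      | add y z _ _ hy hz =>
        intro r
        obtain ⟨b1, hb1, h1⟩ := hy r
        obtain ⟨b2, hb2, h2⟩ := hz r
        exact ⟨b1 + b2, add_mem hb1 hb2, by rw [mul_add, map_add, map_add, h1, h2]⟩
      | smul s y _ hy =>
        intro r
        obtain ⟨b, hb, h⟩ := hy (r * s)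
        exact ⟨b, hb, by rw [h, smul_eq_mul, mul_assoc]⟩
    obtain ⟨b, hb, h⟩ := key _ hx' 1
    rw [one_mul, rhoR_φ] at h
    rw [← hφ h]
    exact hb
  · exact Ideal.le_comap_map

include hφ hsurj in
theorem isNoetherianRing_of_veronese [IsNoetherianRing R] : IsNoetherianRing R' := by
  rw [isNoetherianRing_iff, isNoetherian_iff']
  have hmono : StrictMono (fun I' : Ideal R' => I'.map D.φ) := by
    intro I J hIJ
    refine lt_of_le_of_ne (Ideal.map_mono hIJ.le) (fun h => hIJ.ne ?_)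
    have h' : (I.map D.φ) = (J.map D.φ) := h
    rw [← comap_map D hφ hsurj I, ← comap_map D hφ hsurj J, h']
  exact hmono.wellFoundedGT

end Noeth

section Acyc

variable (X : GrLC.GMod.{u} 𝒜)

/-- Inclusion of the Veronese into the restriction of scalars. -/
def inclR : ↥(Vc D X) →ₗ[R'] ResC D.φ X.carrier where
  toFun x := (x : X.carrier)
  map_add' _ _ := rfl
  map_smul' _ _ := rfl

/-- The retraction, `R'`-linear. -/
def piR : ResC D.φ X.carrier →ₗ[R'] ↥(Vc D X) where
  toFun x := ⟨rho D X x, rho_mem_Vc D X x⟩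
  map_add' x y := Subtype.ext (map_add (rho D X) x y)
  map_smul' a x := Subtype.ext (rho_smul D X a x)

theorem piR_inclR (x : ↥(Vc D X)) : piR D X (inclR D X x) = x := Subtype.ext x.2

theorem map_isHomogeneous (a' : HomogeneousIdeal 𝒜') : (a'.toIdeal.map D.φ).IsHomogeneous 𝒜 := by
  obtain ⟨S, hS⟩ := (Ideal.IsHomogeneous.iff_exists 𝒜' a'.toIdeal).mp a'.isHomogeneous
  rw [hS, Ideal.map_span]
  apply Ideal.homogeneous_span
  rintro _ ⟨_, ⟨s, _, rfl⟩, rfl⟩
  obtain ⟨j, hj⟩ := s.2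
  exact ⟨j * D.q, D.hdeg j _ hj⟩

theorem acyclic [IsNoetherianRing R] [IsNoetherianRing R'] (a' : HomogeneousIdeal 𝒜')
    (hX : GrLC.IsStarInj 𝒜 X.gr) (i : ℕ) (x : LC a'.toIdeal (i + 1) ↥(Vc D X)) : x = 0 := by
  letI : Algebra R' R := D.φ.toAlgebra
  haveI : IsScalarTower R' R (ResC D.φ X.carrier) := ⟨fun a r y => by
    show (D.φ a * r) • (y : X.carrier) = D.φ a • (r • (y : X.carrier))
    rw [mul_smul]⟩
  let aR : HomogeneousIdeal 𝒜 := ⟨a'.toIdeal.map D.φ, map_isHomogeneous D a'⟩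
  have h1 : Subsingleton (LocCoh.H (a'.toIdeal.map D.φ) (i + 1) X.carrier) :=
    Groth.Agent.S13217.result R 𝒜 aR X.carrier X.gr hX (i + 1) (Nat.le_add_left 1 i)
  obtain ⟨e, -⟩ := Groth.Agent.S11614.result R' R a'.toIdeal (ResC D.φ X.carrier) (i + 1)
  have h2 : Subsingleton (LocCoh.H a'.toIdeal (i + 1) (ResC D.φ X.carrier)) := by
    have h3 : Subsingleton (LocCoh.H (Ideal.map (algebraMap R' R) a'.toIdeal) (i + 1)
        (ResC D.φ X.carrier)) := h1
    exact e.symm.injective.subsingleton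
  let F := localCohomology a'.toIdeal (i + 1)
  let fi : ModuleCat.of R' ↥(Vc D X) ⟶ ModuleCat.of R' (ResC D.φ X.carrier) :=
    ModuleCat.ofHom (inclR D X)
  let fp : ModuleCat.of R' (ResC D.φ X.carrier) ⟶ ModuleCat.of R' ↥(Vc D X) :=
    ModuleCat.ofHom (piR D X)
  have hcomp : fi ≫ fp = 𝟙 _ := by
    apply ModuleCat.hom_ext
    apply LinearMap.ext
    intro y
    exact piR_inclR D X y
  have hF : F.map fi ≫ F.map fp = 𝟙 _ := by rw [← F.map_comp, hcomp, F.map_id]
  have hx : x = (F.map fp).hom ((F.map fi).hom x) := by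
    have := congrArg (fun f => f.hom x) hF
    exact this.symm
  have hz : (F.map fi).hom x = 0 := Subsingleton.elim _ _
  rw [hx, hz, map_zero]

end Acyc

end Groth.Agent.Lib.Helper8.Veronese
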