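import Groth.Prelude.Def_GrLC
import Groth.Agent.Lib.Helper8VerReindex
import Groth.Agent.Lib.Helper29GrSub

/-! The Veronese functor on graded modules: for a graded ring map `φ : R' → R` multiplying degrees
by `q`, the graded `R'`-module `V X = ⊕_j X_{jq}` of a graded `R`-module `X` (helper8). -/

set_option autoImplicit false
set_option linter.style.haveILetI false
set_option linter.unusedSectionVars false
open DirectSum

noncomputable section

namespace Groth.Agent.Lib.Helper8.Veronese

universe u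

variable {R : Type u} [CommRing R] (𝒜 : ℤ → AddSubgroup R) [GradedRing 𝒜]
variable {R' : Type u} [CommRing R'] (𝒜' : ℤ → AddSubgroup R') [GradedRing 𝒜']

/-- Data of a degree-multiplying ring map. -/
structure VerData where
  φ : R' →+* R
  q : ℕ
  hq : 0 < q
  hdeg : ∀ (j : ℤ) (a : R'), a ∈ 𝒜' j → φ a ∈ 𝒜 (j * q)

variable {𝒜 𝒜'} (D : VerData 𝒜 𝒜') (X Y : GrLC.GMod.{u} 𝒜)

/-- The Veronese retraction: the sum of the components in degrees divisible by `q`. -/
def rho : X.carrier →+ X.carrier :=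
  (DirectSum.decomposeAddEquiv X.gr).symm.toAddMonoidHom.comp
    ((DFinsupp.filterAddMonoidHom (fun g => ↥(X.gr g)) (fun g : ℤ => (D.q : ℤ) ∣ g)).comp
      (DirectSum.decomposeAddEquiv X.gr).toAddMonoidHom)

theorem decompose_rho (x : X.carrier) :
    DirectSum.decompose X.gr (rho D X x) =
      DFinsupp.filter (fun g : ℤ => (D.q : ℤ) ∣ g) (DirectSum.decompose X.gr x) :=
  (DirectSum.decompose X.gr).apply_symm_apply _

theorem decompose_rho_apply (x : X.carrier) (g : ℤ) :
    ((DirectSum.decompose X.gr (rho D X x)) g : X.carrier) =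
      if (D.q : ℤ) ∣ g then ((DirectSum.decompose X.gr x) g : X.carrier) else 0 := by
  rw [decompose_rho, DFinsupp.filter_apply]
  split_ifs <;> rfl

theorem rho_of_mem {g : ℤ} {x : X.carrier} (hx : x ∈ X.gr g) :
    rho D X x = if (D.q : ℤ) ∣ g then x else 0 := by
  apply (DirectSum.decompose X.gr).injective
  rw [decompose_rho, DirectSum.decompose_of_mem X.gr hx]
  have h1 : DFinsupp.filter (fun g : ℤ => (D.q : ℤ) ∣ g)
      (DirectSum.of (fun i => ↥(X.gr i)) g ⟨x, hx⟩) =
      if (D.q : ℤ) ∣ g then DirectSum.of (fun i => ↥(X.gr i)) g ⟨x, hx⟩ else 0 :=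
    DFinsupp.filter_single (β := fun i => ↥(X.gr i)) (fun g : ℤ => (D.q : ℤ) ∣ g) g ⟨x, hx⟩
  rw [h1]
  split_ifs
  · rw [DirectSum.decompose_of_mem X.gr hx]
  · rw [DirectSum.decompose_zero]

open Classical in
theorem rho_eq_sum (x : X.carrier) :
    rho D X x = ∑ g ∈ (DirectSum.decompose X.gr x).support,
      if (D.q : ℤ) ∣ g then ((DirectSum.decompose X.gr x) g : X.carrier) else 0 := by
  classical
  conv_lhs => rw [← DirectSum.sum_support_decompose X.gr x]
  rw [map_sum]
  exact Finset.sum_congr rfl (fun g _ => rho_of_mem D X (SetLike.coe_mem _))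

theorem rho_mem_of_isHomogeneous (P : Submodule R X.carrier) (hP : P.IsHomogeneous X.gr)
    {x : X.carrier} (hx : x ∈ P) : rho D X x ∈ P := by
  classical
  rw [rho_eq_sum]
  refine Submodule.sum_mem _ (fun g _ => ?_)
  split_ifs
  · exact hP g hx
  · exact zero_mem _

theorem rho_mem_of_le (S : AddSubgroup X.carrier) (h : ∀ j : ℤ, X.gr (j * D.q) ≤ S)
    (x : X.carrier) : rho D X x ∈ S := by
  classical
  rw [rho_eq_sum]
  refine AddSubgroup.sum_mem _ (fun g _ => ?_)
  split_ifs with hg
  · obtain ⟨j, rfl⟩ := hg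
    rw [mul_comm]
    exact h j (SetLike.coe_mem _)
  · exact zero_mem _

theorem rho_rho (x : X.carrier) : rho D X (rho D X x) = rho D X x := by
  induction x using DirectSum.Decomposition.inductionOn X.gr with
  | zero => rw [map_zero, map_zero]
  | homogeneous m =>
    rw [rho_of_mem D X m.2]
    split_ifs with h
    · rw [rho_of_mem D X m.2, if_pos h]
    · rw [map_zero]
  | add m m' hm hm' => rw [map_add, map_add, hm, hm']

variable {X Y} in
theorem rho_map (f : X.carrier →ₗ[R] Y.carrier) (hf : GrLC.IsGrHom X.gr Y.gr f) (x : X.carrier) :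
    rho D Y (f x) = f (rho D X x) := by
  induction x using DirectSum.Decomposition.inductionOn X.gr with
  | zero => simp only [map_zero]
  | homogeneous m =>
    rw [rho_of_mem D X m.2, rho_of_mem D Y (hf _ _ m.2)]
    split_ifs
    · rfl
    · rw [map_zero]
  | add m m' hm hm' => rw [map_add, map_add, map_add, map_add, hm, hm']

theorem rho_smul_of_mem {j : ℤ} {a : R'} (ha : a ∈ 𝒜' j) (x : X.carrier) :
    rho D X (D.φ a • x) = D.φ a • rho D X x := by
  induction x using DirectSum.Decomposition.inductionOn X.gr with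
  | zero => rw [smul_zero, map_zero, smul_zero]
  | @homogeneous h m =>
    have hmem : D.φ a • (m : X.carrier) ∈ X.gr (j * D.q + h) :=
      SetLike.GradedSMul.smul_mem (A := 𝒜) (B := X.gr) (D.hdeg j a ha) m.2
    rw [rho_of_mem D X m.2, rho_of_mem D X hmem]
    have hiff : (D.q : ℤ) ∣ j * D.q + h ↔ (D.q : ℤ) ∣ h :=
      (Int.dvd_add_right (Dvd.intro_left j rfl))
    by_cases hd : (D.q : ℤ) ∣ h
    · rw [if_pos hd, if_pos (hiff.mpr hd)]
    · rw [if_neg hd, if_neg (fun h' => hd (hiff.mp h')), smul_zero]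
  | add m m' hm hm' => rw [smul_add, map_add, map_add, smul_add, hm, hm']

theorem rho_smul (a : R') (x : X.carrier) : rho D X (D.φ a • x) = D.φ a • rho D X x := by
  induction a using DirectSum.Decomposition.inductionOn 𝒜' with
  | zero => rw [map_zero, zero_smul, map_zero, zero_smul]
  | homogeneous m => exact rho_smul_of_mem D X m.2 x
  | add m m' hm hm' => rw [map_add, add_smul, map_add, add_smul, hm, hm']

/-- The Veronese subgroup `⊕_j X_{jq}` of `X`. -/
def Vc : AddSubgroup X.carrier where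
  carrier := {x | rho D X x = x}
  zero_mem' := map_zero _
  add_mem' := by
    intro x y hx hy
    show rho D X (x + y) = x + y
    have hx' : rho D X x = x := hx
    have hy' : rho D X y = y := hy
    rw [map_add, hx', hy']
  neg_mem' := by
    intro x hx
    show rho D X (-x) = -x
    have hx' : rho D X x = x := hx
    rw [map_neg, hx']

theorem mem_Vc {x : X.carrier} : x ∈ Vc D X ↔ rho D X x = x := Iff.rfl

theorem rho_mem_Vc (x : X.carrier) : rho D X x ∈ Vc D X := rho_rho D X x

theorem rho_coe (x : ↥(Vc D X)) : rho D X (x : X.carrier) = x := x.2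

theorem smul_mem_Vc (a : R') {x : X.carrier} (hx : x ∈ Vc D X) : D.φ a • x ∈ Vc D X := by
  have hx' : rho D X x = x := hx
  show rho D X (D.φ a • x) = D.φ a • x
  rw [rho_smul, hx']

theorem mem_Vc_of_mem {j : ℤ} {x : X.carrier} (hx : x ∈ X.gr (j * D.q)) : x ∈ Vc D X := by
  show rho D X x = x
  rw [rho_of_mem D X hx, if_pos (Dvd.intro_left j rfl)]

theorem eq_zero_of_mem_Vc_of_mem {g : ℤ} {x : X.carrier} (hx : x ∈ Vc D X) (hg : x ∈ X.gr g)
    (hd : ¬ (D.q : ℤ) ∣ g) : x = 0 := by
  have h : rho D X x = x := hx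
  rw [rho_of_mem D X hg, if_neg hd] at h
  exact h.symm

theorem decompose_eq_zero_of_mem_Vc {x : X.carrier} (hx : x ∈ Vc D X) (g : ℤ)
    (hd : ¬ (D.q : ℤ) ∣ g) : ((DirectSum.decompose X.gr x) g : X.carrier) = 0 := by
  have h : rho D X x = x := hx
  have h2 := decompose_rho_apply D X x g
  rw [h, if_neg hd] at h2
  exact h2

theorem Vc_isHomogeneous (g : ℤ) {x : X.carrier} (hx : x ∈ Vc D X) :
    ((DirectSum.decompose X.gr x) g : X.carrier) ∈ Vc D X := by
  show rho D X _ = _
  rw [rho_of_mem D X (SetLike.coe_mem _)]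
  split_ifs with hd
  · rfl
  · exact (decompose_eq_zero_of_mem_Vc D X hx g hd).symm

instance instSMulVc : SMul R' ↥(Vc D X) := ⟨fun a x => ⟨D.φ a • (x : X.carrier), smul_mem_Vc D X a x.2⟩⟩

theorem coe_smul_Vc (a : R') (x : ↥(Vc D X)) :
    ((a • x : ↥(Vc D X)) : X.carrier) = D.φ a • (x : X.carrier) := rfl

instance instModuleVc : Module R' ↥(Vc D X) where
  one_smul x := Subtype.ext (by rw [coe_smul_Vc, map_one, one_smul])
  mul_smul a b x := Subtype.ext (by rw [coe_smul_Vc, coe_smul_Vc, coe_smul_Vc, map_mul, mul_smul])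
  smul_zero a := Subtype.ext (by rw [coe_smul_Vc, AddSubgroup.coe_zero, smul_zero])
  smul_add a x y := Subtype.ext (by
    rw [coe_smul_Vc, AddSubgroup.coe_add, AddSubgroup.coe_add, coe_smul_Vc, coe_smul_Vc, smul_add])
  add_smul a b x := Subtype.ext (by
    rw [coe_smul_Vc, AddSubgroup.coe_add, coe_smul_Vc, coe_smul_Vc, map_add, add_smul])
  zero_smul x := Subtype.ext (by rw [coe_smul_Vc, map_zero, zero_smul, AddSubgroup.coe_zero])

end Groth.Agent.Lib.Helper8.Veronese
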