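import Groth.Agent.Lib.Helper9Cop
import Groth.Agent.Lib.Helper9ShfGrp
import Groth.Prelude.Def_SGA4a

/-!
# Adhesivity of sheaf topoi and the closed complement of an open
-/

namespace Groth.Agent.Lib.Helper9

open CategoryTheory Limits Opposite ToposFin

universe u

variable {C : Type u} [SmallCategory C] (J : GrothendieckTopology C)

/-- Sheaf topoi are adhesive. -/
theorem sheafAdhesive : Adhesive (Sheaf J (Type u)) :=
  adhesive_of_reflective (sheafificationAdjunction J (Type u))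

variable {J}

section Open

variable {U : Sh J} (hU : SGA4.IsOpen U)

include hU in
lemma open_hom_ext {T : Sh J} (a b : T ⟶ U) : a = b := by
  have : Mono (terminal.from U) := hU
  rw [← cancel_mono (terminal.from U)]
  exact Subsingleton.elim _ _

include hU in
lemma mono_prod_snd_of_open (X : Sh J) : Mono (prod.snd : U ⨯ X ⟶ X) := by
  refine ⟨fun {T} a b hab => ?_⟩
  apply Limits.prod.hom_ext
  · exact open_hom_ext hU _ _
  · exact hab

lemma isPullback_prod_map_snd (U : Sh J) {X X' : Sh J} (m : X ⟶ X') :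
    IsPullback (prod.snd : U ⨯ X ⟶ X) (prod.map (𝟙 U) m) m (prod.snd : U ⨯ X' ⟶ X') := by
  refine isPullback_of_exists_unique (prod.map_snd _ _).symm ?_ ?_
  · intro W a b hab
    refine ⟨prod.lift (b ≫ prod.fst) a, prod.lift_snd _ _, ?_⟩
    apply Limits.prod.hom_ext
    · rw [Category.assoc]
      refine (congrArg (fun t => _ ≫ t) (prod.map_fst _ _)).trans ?_
      rw [Category.comp_id]
      exact prod.lift_fst _ _
    · rw [Category.assoc]
      refine (congrArg (fun t => _ ≫ t) (prod.map_snd _ _)).trans ?_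
      rw [← Category.assoc]
      refine (congrArg (fun t => t ≫ m) (prod.lift_snd _ _)).trans hab
  · intro W l l' h₁ h₂
    apply Limits.prod.hom_ext
    · have h3 := congrArg (fun t => t ≫ (prod.fst : U ⨯ X' ⟶ U)) h₂
      simp only [Category.assoc] at h3
      have e : prod.map (𝟙 U) m ≫ (prod.fst : U ⨯ X' ⟶ U) = prod.fst := by
        refine (prod.map_fst _ _).trans (Category.comp_id _)
      rw [e] at h3
      exact h3
    · exact h₁

end Open

section ClosedPart

variable {U : Sh J} (hU : SGA4.IsOpen U)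

include hU in
/-- The square `X ⟶ X_CU`, `X' ⟶ X'_CU` is cartesian iff `m` is an isomorphism over `U`. -/
theorem isPullback_toClosedPart_iff {X X' : Sh J} (m : X ⟶ X')
    (k : pushout (prod.fst : U ⨯ X ⟶ U) (prod.snd : U ⨯ X ⟶ X) ⟶
      pushout (prod.fst : U ⨯ X' ⟶ U) (prod.snd : U ⨯ X' ⟶ X'))
    (hk₁ : pushout.inl (prod.fst : U ⨯ X ⟶ U) (prod.snd : U ⨯ X ⟶ X) ≫ k =
      pushout.inl (prod.fst : U ⨯ X' ⟶ U) (prod.snd : U ⨯ X' ⟶ X'))
    (hk₂ : pushout.inr (prod.fst : U ⨯ X ⟶ U) (prod.snd : U ⨯ X ⟶ X) ≫ k =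
      m ≫ pushout.inr (prod.fst : U ⨯ X' ⟶ U) (prod.snd : U ⨯ X' ⟶ X')) :
    IsPullback m (pushout.inr (prod.fst : U ⨯ X ⟶ U) (prod.snd : U ⨯ X ⟶ X))
        (pushout.inr (prod.fst : U ⨯ X' ⟶ U) (prod.snd : U ⨯ X' ⟶ X')) k ↔
      IsIso (prod.map (𝟙 U) m) := by
  have hadh : Adhesive (Sh J) := sheafAdhesive J
  have hm1 : Mono (prod.snd : U ⨯ X ⟶ X) := mono_prod_snd_of_open hU X
  have hm2 : Mono (prod.snd : U ⨯ X' ⟶ X') := mono_prod_snd_of_open hU X'
  have Htop := IsPushout.of_hasPushout (prod.fst : U ⨯ X ⟶ U) (prod.snd : U ⨯ X ⟶ X)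
  have Hbot := IsPushout.of_hasPushout (prod.fst : U ⨯ X' ⟶ U) (prod.snd : U ⨯ X' ⟶ X')
  have e1 : prod.map (𝟙 U) m ≫ (prod.fst : U ⨯ X' ⟶ U) = prod.fst :=
    (prod.map_fst _ _).trans (Category.comp_id _)
  constructor
  · intro hpb
    have P1 : IsPullback (prod.fst : U ⨯ X ⟶ U) (prod.snd : U ⨯ X ⟶ X) (pushout.inl _ _)
        (pushout.inr _ _) := Adhesive.isPullback_of_isPushout_of_mono_right Htop
    have P2 : IsPullback (prod.fst : U ⨯ X' ⟶ U) (prod.snd : U ⨯ X' ⟶ X') (pushout.inl _ _)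
        (pushout.inr _ _) := Adhesive.isPullback_of_isPushout_of_mono_right Hbot
    have P3 := P1.flip.paste_horiz hpb
    rw [hk₁] at P3
    have P4 := P2.flip
    let e := IsPullback.isoIsPullback _ _ P3 P4
    have he : e.hom = prod.map (𝟙 U) m := by
      apply P4.hom_ext
      · rw [IsPullback.isoIsPullback_hom_fst]
        exact (prod.map_snd _ _).symm
      · rw [IsPullback.isoIsPullback_hom_snd]
        exact e1.symm
    rw [← he]
    infer_instance
  · intro hiso
    have B1 : IsPullback (prod.fst : U ⨯ X ⟶ U) (prod.map (𝟙 U) m) (𝟙 U)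
        (prod.fst : U ⨯ X' ⟶ U) :=
      IsPullback.of_vert_isIso ⟨by rw [Category.comp_id]; exact e1.symm⟩
    have B2 := isPullback_prod_map_snd U m
    have hvk := Adhesive.van_kampen' Hbot
    have := (hvk (prod.fst : U ⨯ X ⟶ U) (prod.snd : U ⨯ X ⟶ X) (pushout.inl _ _)
      (pushout.inr _ _) (prod.map (𝟙 U) m) (𝟙 U) m k B1 B2
      ⟨by rw [hk₁, Category.id_comp]⟩ ⟨hk₂⟩ Htop.toCommSq).1 Htop
    exact this.2.flip

end ClosedPart

section ClosedCompl

variable {U : Sh J} (hU : SGA4.IsOpen U)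

/-- Morphisms into an object of the closed complement from an object over `U` exist. -/
lemma closedCompl_hom_exists {Z : Sh J} (hZ : SGA4.closedCompl U Z) {T : Sh J} (t : T ⟶ U) :
    Nonempty (T ⟶ Z) := by
  have : IsIso (prod.fst : U ⨯ Z ⟶ U) := hZ
  exact ⟨t ≫ inv (prod.fst : U ⨯ Z ⟶ U) ≫ prod.snd⟩

/-- Morphisms into an object of the closed complement from an object over `U` are unique. -/
lemma closedCompl_hom_ext {Z : Sh J} (hZ : SGA4.closedCompl U Z) {T : Sh J} (t : T ⟶ U)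
    (f g : T ⟶ Z) : f = g := by
  have : IsIso (prod.fst : U ⨯ Z ⟶ U) := hZ
  have h1 : prod.lift t f = prod.lift t g := by
    rw [← cancel_mono (prod.fst : U ⨯ Z ⟶ U)]
    exact (prod.lift_fst _ _).trans (prod.lift_fst _ _).symm
  have h2 := congrArg (fun s => s ≫ (prod.snd : U ⨯ Z ⟶ Z)) h1
  exact (prod.lift_snd t f).symm.trans (h2.trans (prod.lift_snd t g))

include hU in
/-- Any morphism from an object over `U` to `U ⨿_{U × X} X` factors through `U`. -/
lemma closedPart_hom_eq (X : Sh J) {T : Sh J} (t : T ⟶ U)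
    (f : T ⟶ pushout (prod.fst : U ⨯ X ⟶ U) (prod.snd : U ⨯ X ⟶ X)) :
    f = t ≫ pushout.inl _ _ := by
  let F : Bool → Sh J := fun b => cond b U X
  let π : ∀ b, F b ⟶ pushout (prod.fst : U ⨯ X ⟶ U) (prod.snd : U ⨯ X ⟶ X) := fun b =>
    match b with
    | true => pushout.inl _ _
    | false => pushout.inr _ _
  have hπ : JEpi π := by
    intro Z a b hab
    exact pushout.hom_ext (hab true) (hab false)
  have h2 := hπ.pb_snd f
  refine h2 _ _ fun b => ?_
  match b with
  | true =>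
    have h3 : pullback.fst (π true) f = pullback.snd (π true) f ≫ t := open_hom_ext hU _ _
    rw [← Category.assoc, ← h3]
    exact pullback.condition.symm
  | false =>
    have h3 : pullback.snd (π false) f ≫ f = pullback.fst (π false) f ≫ pushout.inr _ _ :=
      pullback.condition.symm
    rw [h3, ← Category.assoc]
    have h4 := congrArg (fun s => prod.lift (pullback.snd (π false) f ≫ t)
      (pullback.fst (π false) f) ≫ s)
      (pushout.condition (f := (prod.fst : U ⨯ X ⟶ U)) (g := (prod.snd : U ⨯ X ⟶ X)))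
    simp only [← Category.assoc] at h4
    have e1 : prod.lift (pullback.snd (π false) f ≫ t) (pullback.fst (π false) f) ≫
        (prod.fst : U ⨯ X ⟶ U) = pullback.snd (π false) f ≫ t := prod.lift_fst _ _
    have e2 : prod.lift (pullback.snd (π false) f ≫ t) (pullback.fst (π false) f) ≫
        (prod.snd : U ⨯ X ⟶ X) = pullback.fst (π false) f := prod.lift_snd _ _
    rw [e1, e2] at h4
    exact h4.symm

include hU in
/-- `U ⨿_{U × X} X` lies in the closed complement of `U`. -/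
lemma closedPart_mem (X : Sh J) :
    SGA4.closedCompl U (pushout (prod.fst : U ⨯ X ⟶ U) (prod.snd : U ⨯ X ⟶ X)) := by
  show IsIso (prod.fst : U ⨯ pushout (prod.fst : U ⨯ X ⟶ U) (prod.snd : U ⨯ X ⟶ X) ⟶ U)
  refine ⟨prod.lift (𝟙 U) (pushout.inl _ _), ?_, prod.lift_fst _ _⟩
  apply Limits.prod.hom_ext
  · rw [Category.assoc, Category.id_comp]
    refine (congrArg (fun s => prod.fst ≫ s) (prod.lift_fst _ _)).trans (Category.comp_id _)
  · rw [Category.assoc, Category.id_comp]
    refine (congrArg (fun s => prod.fst ≫ s) (prod.lift_snd _ _)).trans ?_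
    exact (closedPart_hom_eq hU X prod.fst prod.snd).symm

/-- Universal property of `X ⟶ U ⨿_{U × X} X`: uniqueness. -/
lemma closedPart_hom_ext {X Z : Sh J} (hZ : SGA4.closedCompl U Z)
    (a b : pushout (prod.fst : U ⨯ X ⟶ U) (prod.snd : U ⨯ X ⟶ X) ⟶ Z)
    (h : pushout.inr _ _ ≫ a = pushout.inr _ _ ≫ b) : a = b :=
  pushout.hom_ext (closedCompl_hom_ext hZ (𝟙 U) _ _) h

/-- Universal property of `X ⟶ U ⨿_{U × X} X`: existence. -/
lemma closedPart_desc_exists {X Z : Sh J} (hZ : SGA4.closedCompl U Z) (φ : X ⟶ Z) :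
    ∃ a : pushout (prod.fst : U ⨯ X ⟶ U) (prod.snd : U ⨯ X ⟶ X) ⟶ Z,
      pushout.inr _ _ ≫ a = φ := by
  obtain ⟨ψ⟩ := closedCompl_hom_exists hZ (𝟙 U)
  exact ⟨pushout.desc ψ φ (closedCompl_hom_ext hZ prod.fst _ _), pushout.inr_desc _ _ _⟩

end ClosedCompl

section Conservative

variable {U : Sh J} (hU : SGA4.IsOpen U)

include hU in
/-- A morphism which is an isomorphism over `U` and is inverted by the reflection onto the closed
complement (expressed via the universal property) is an isomorphism. -/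
theorem isIso_of_open_closed {X Y : Sh J} (m : X ⟶ Y) (h1 : IsIso (prod.map (𝟙 U) m))
    (h2 : ∀ Z : Sh J, SGA4.closedCompl U Z → Function.Bijective (fun g : Y ⟶ Z => m ≫ g)) :
    IsIso m := by
  have hw : (prod.fst : U ⨯ X ⟶ U) ≫ pushout.inl (prod.fst : U ⨯ Y ⟶ U) (prod.snd : U ⨯ Y ⟶ Y) =
      (prod.snd : U ⨯ X ⟶ X) ≫ m ≫ pushout.inr (prod.fst : U ⨯ Y ⟶ U) (prod.snd : U ⨯ Y ⟶ Y) := by
    have e1 : prod.map (𝟙 U) m ≫ (prod.fst : U ⨯ Y ⟶ U) = prod.fst :=
      (prod.map_fst _ _).trans (Category.comp_id _)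
    have e2 : prod.map (𝟙 U) m ≫ (prod.snd : U ⨯ Y ⟶ Y) = prod.snd ≫ m := prod.map_snd _ _
    rw [← e1, ← Category.assoc (prod.snd : U ⨯ X ⟶ X), ← e2, Category.assoc, Category.assoc,
      pushout.condition]
  let k : pushout (prod.fst : U ⨯ X ⟶ U) (prod.snd : U ⨯ X ⟶ X) ⟶
      pushout (prod.fst : U ⨯ Y ⟶ U) (prod.snd : U ⨯ Y ⟶ Y) :=
    pushout.desc (pushout.inl _ _) (m ≫ pushout.inr _ _) hw
  have hk₁ : pushout.inl _ _ ≫ k = pushout.inl _ _ := pushout.inl_desc _ _ _
  have hk₂ : pushout.inr _ _ ≫ k = m ≫ pushout.inr _ _ := pushout.inr_desc _ _ _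
  have hpb := (isPullback_toClosedPart_iff hU m k hk₁ hk₂).2 h1
  have hQX := closedPart_mem hU X
  have hQY := closedPart_mem hU Y
  obtain ⟨r, hr⟩ := (h2 _ hQX).2 (pushout.inr (prod.fst : U ⨯ X ⟶ U) (prod.snd : U ⨯ X ⟶ X))
  obtain ⟨s, hs⟩ := closedPart_desc_exists hQX r
  have hks : k ≫ s = 𝟙 _ := by
    apply closedPart_hom_ext hQX
    rw [← Category.assoc, hk₂, Category.assoc, hs, Category.comp_id]
    exact hr
  have hrk : r ≫ k = pushout.inr _ _ := by
    apply (h2 _ hQY).1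
    show m ≫ r ≫ k = m ≫ pushout.inr _ _
    rw [← Category.assoc]
    refine (congrArg (fun t => t ≫ k) hr).trans hk₂
  have hsk : s ≫ k = 𝟙 _ := by
    apply closedPart_hom_ext hQY
    rw [← Category.assoc, hs, Category.comp_id]
    exact hrk
  have : IsIso k := ⟨s, hks, hsk⟩
  exact hpb.isIso_fst_of_isIso

end Conservative

end Groth.Agent.Lib.Helper9
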