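/-
Helper library (helper9): a scheme finite over a projective scheme over a field is projective,
and an integral affine variety is open in an integral projective variety (normal if the
affine variety is normal).
-/
import Groth.Agent.S1497
import Groth.Agent.S17806
import Groth.Agent.S1110
import Groth.Agent.S7616
import Groth.Agent.Lib.Helper9NormProdSch
import Groth.Agent.Lib.Helper27ProjSpaceBC2
import Groth.Agent.Lib.Helper27ProjSpaceFibres

set_option autoImplicit false
set_option linter.style.haveILetI false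
universe u

open CategoryTheory CategoryTheory.Limits AlgebraicGeometry TopologicalSpace Opposite

namespace Groth.Agent.Lib.Helper9.AffProjCompl

section Finite

variable (k : Type u) [Field k]

theorem exists_isAmple_spec :
    ∃ N : (Spec (CommRingCat.of k)).Modules, CohB1.IsAmple N :=
  ⟨_, Groth.Agent.S1110.isAmple_structureModule_of_isAffine (Spec (CommRingCat.of k))⟩

set_option backward.isDefEq.respectTransparency false in
/-- A proper scheme over a field with an ample invertible module admits a closed immersion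
into a projective space. -/
theorem exists_closedImmersion_of_isAmple {Y : Scheme.{u}} (g : Y ⟶ Spec (CommRingCat.of k))
    [IsProper g] (L : Y.Modules) (hL : CohB1.IsAmple L) :
    ∃ (m : ℕ) (c : Y ⟶ CohB1.ProjSpace m k), IsClosedImmersion c ∧
      c ≫ CohB1.ProjSpace.toSpec m k = g := by
  obtain ⟨m, i, hi, -, hif⟩ := (Groth.Agent.S1497.result (exists_isAmple_spec k) g).mpr
    ⟨inferInstance, inferInstance, L, hL⟩
  haveI := hi
  have hck : (i ≫ (Groth.Agent.Lib.Helper27ProjSpaceBC.overIso m k).inv) ≫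
      CohB1.ProjSpace.toSpec m k = g := by
    rw [Category.assoc, Groth.Agent.Lib.Helper27ProjSpaceBC.overIso_inv_toSpec]
    exact hif
  haveI : IsProper (CohB1.ProjSpace.toSpec m k) :=
    Groth.Agent.Lib.Helper27ProjSpaceFibres.isProper_projSpace_toSpec m k
  haveI : IsProper ((i ≫ (Groth.Agent.Lib.Helper27ProjSpaceBC.overIso m k).inv) ≫
      CohB1.ProjSpace.toSpec m k) := hck ▸ inferInstance
  haveI : IsProper (i ≫ (Groth.Agent.Lib.Helper27ProjSpaceBC.overIso m k).inv) :=
    IsProper.of_comp _ (CohB1.ProjSpace.toSpec m k)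
  exact ⟨m, i ≫ (Groth.Agent.Lib.Helper27ProjSpaceBC.overIso m k).inv,
    (IsClosedImmersion.iff_isProper_and_mono _).mpr ⟨inferInstance, inferInstance⟩, hck⟩

set_option backward.isDefEq.respectTransparency false in
/-- A closed subscheme of a projective space over a field carries an ample invertible module. -/
theorem exists_isAmple_of_closedImmersion {Z : Scheme.{u}} (n : ℕ) (c₀ : Z ⟶ CohB1.ProjSpace n k)
    [IsClosedImmersion c₀] : ∃ L : Z.Modules, CohB1.IsAmple L := by
  have h := (Groth.Agent.S1497.result (exists_isAmple_spec k)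
    (c₀ ≫ CohB1.ProjSpace.toSpec n k)).mp
    ⟨n, c₀ ≫ (Groth.Agent.Lib.Helper27ProjSpaceBC.overIso n k).hom, inferInstance, inferInstance, by
      rw [Category.assoc]
      exact congrArg (c₀ ≫ ·) (Groth.Agent.Lib.Helper27ProjSpaceBC.overIso_hom_toBase n k)⟩
  exact h.2.2

set_option backward.isDefEq.respectTransparency false in
/-- A scheme finite over a closed subscheme of a projective space over a field admits a closed
immersion into a projective space. -/
theorem exists_closedImmersion_of_isFinite {Z Y : Scheme.{u}} (n : ℕ)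
    (c₀ : Z ⟶ CohB1.ProjSpace n k) [IsClosedImmersion c₀] (π : Y ⟶ Z) [IsFinite π] :
    ∃ (m : ℕ) (c : Y ⟶ CohB1.ProjSpace m k), IsClosedImmersion c ∧
      c ≫ CohB1.ProjSpace.toSpec m k = π ≫ c₀ ≫ CohB1.ProjSpace.toSpec n k := by
  haveI : IsProper (CohB1.ProjSpace.toSpec n k) :=
    Groth.Agent.Lib.Helper27ProjSpaceFibres.isProper_projSpace_toSpec n k
  obtain ⟨L, hL⟩ := exists_isAmple_of_closedImmersion k n c₀
  have hLY := Groth.Agent.S17806.result k (c₀ ≫ CohB1.ProjSpace.toSpec n k)
    (π ≫ c₀ ≫ CohB1.ProjSpace.toSpec n k) π rfl L hL.1 hL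
  exact exists_closedImmersion_of_isAmple k (π ≫ c₀ ≫ CohB1.ProjSpace.toSpec n k) _ hLY

end Finite

section Main

variable (k : Type u) [Field k] (X : Scheme.{u}) (f : X ⟶ Spec (CommRingCat.of k)) [IsAffine X]
  [IsIntegral X] [LocallyOfFiniteType f]

set_option backward.isDefEq.respectTransparency false in
/-- An integral affine variety is open in an integral projective variety, which can be taken
normal if the affine variety is normal. -/
theorem exists_projective_completion_of_isAffine :
    ∃ (Y : Scheme.{u}) (g : Y ⟶ Spec (CommRingCat.of k)) (n : ℕ) (c : Y ⟶ CohB1.ProjSpace n k)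
      (j : X ⟶ Y), IsIntegral Y ∧ IsClosedImmersion c ∧
      c ≫ CohB1.ProjSpace.toSpec n k = g ∧ IsOpenImmersion j ∧ j ≫ g = f ∧
      (Pi1.IsNormalScheme X → Pi1.IsNormalScheme Y) := by
  haveI : QuasiCompact f :=
    (HasAffineProperty.iff_of_isAffine (P := @QuasiCompact)).mpr inferInstance
  obtain ⟨n, i₁, hi₁, hi₁q, hi₁f⟩ := (Groth.Agent.S1497.result (exists_isAmple_spec k) f).mpr
    ⟨inferInstance, inferInstance, _, Groth.Agent.S1110.isAmple_structureModule_of_isAffine X⟩
  haveI := hi₁
  haveI := hi₁q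
  obtain ⟨i, hi, hiq, hik⟩ : ∃ i : X ⟶ CohB1.ProjSpace n k, IsImmersion i ∧ QuasiCompact i ∧
      i ≫ CohB1.ProjSpace.toSpec n k = f := by
    refine ⟨i₁ ≫ (Groth.Agent.Lib.Helper27ProjSpaceBC.overIso n k).inv, inferInstance,
      inferInstance, ?_⟩
    rw [Category.assoc, Groth.Agent.Lib.Helper27ProjSpaceBC.overIso_inv_toSpec]
    exact hi₁f
  haveI := hi
  haveI := hiq
  haveI : IsProper (CohB1.ProjSpace.toSpec n k) :=
    Groth.Agent.Lib.Helper27ProjSpaceFibres.isProper_projSpace_toSpec n k
  obtain ⟨Z, j₀, c₀, hj₀, hc₀, hjc⟩ : ∃ (Z : Scheme.{u}) (j₀ : X ⟶ Z)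
      (c₀ : Z ⟶ CohB1.ProjSpace n k),
      (IsOpenImmersion j₀ ∧ QuasiCompact j₀) ∧ IsClosedImmersion c₀ ∧ j₀ ≫ c₀ = i :=
    ⟨i.image, i.toImage, i.imageι, ⟨inferInstance, inferInstance⟩, inferInstance,
      i.toImage_imageι⟩
  haveI := hj₀.1
  haveI := hj₀.2
  haveI := hc₀
  let p : Z ⟶ Spec (CommRingCat.of k) := c₀ ≫ CohB1.ProjSpace.toSpec n k
  haveI : IsProper p := by dsimp only [p]; infer_instance
  have hj₀p : j₀ ≫ p = f := by
    dsimp only [p]
    rw [← Category.assoc, hjc, hik]
  letI : X.Over (Spec (CommRingCat.of k)) := ⟨f⟩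
  letI : Z.Over (Spec (CommRingCat.of k)) := ⟨p⟩
  haveI : LocallyOfFiniteType (X ↘ (Spec (CommRingCat.of k))) :=
    (inferInstance : LocallyOfFiniteType f)
  haveI : LocallyOfFiniteType (Z ↘ (Spec (CommRingCat.of k))) :=
    (inferInstance : LocallyOfFiniteType p)
  haveI : j₀.IsOver (Spec (CommRingCat.of k)) := ⟨hj₀p⟩
  haveI : IsFinite j₀.fromNormalization := Groth.Agent.S7616.result k Z X j₀
  obtain ⟨m, c, hc, hck⟩ := exists_closedImmersion_of_isFinite k n c₀ j₀.fromNormalization
  refine ⟨j₀.normalization, j₀.fromNormalization ≫ p, m, c, j₀.toNormalization, inferInstance,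
    hc, hck, inferInstance, ?_, fun hn => ?_⟩
  · rw [← Category.assoc, j₀.toNormalization_fromNormalization, hj₀p]
  · haveI : IsLocallyNoetherian X := LocallyOfFiniteType.isLocallyNoetherian f
    haveI : IsNoetherian X := ⟨⟩
    have hfin : LocallyFinite (fun Z : ↥(irreducibleComponents ↥X) => (Z : Set ↥X)) := by
      haveI : Finite ↥(irreducibleComponents ↥X) :=
        (NoetherianSpace.finite_irreducibleComponents (α := X)).to_subtype
      exact locallyFinite_of_finite _
    exact Groth.Agent.Lib.Helper9.NormProd.isNormalScheme_normalization j₀ hn hfin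

end Main

end Groth.Agent.Lib.Helper9.AffProjCompl
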