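import Groth.Agent.Lib.Helper9Rep
import Mathlib.CategoryTheory.Sites.Closed
import Mathlib.CategoryTheory.Sites.Canonical
import Mathlib.CategoryTheory.Limits.Shapes.DisjointCoproduct
import Mathlib.CategoryTheory.Limits.VanKampen
import Mathlib.CategoryTheory.Limits.MonoCoprod
import Mathlib.CategoryTheory.Extensive
import Mathlib.CategoryTheory.Sites.LeftExact

/-!
# Helper9Disj: coproduct decompositions of sheafified representables

Consequences of `F(X) ≃ ∏ F(Y i)` for all sheaves `F`, and the converse for the canonical topology.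
-/

set_option autoImplicit false

universe u

open CategoryTheory CategoryTheory.Limits Opposite

namespace Groth.Agent.Lib.Helper9

variable {C : Type u} [SmallCategory C] (J : GrothendieckTopology C)

/-- The sheaf of `J`-closed sieves. -/
def omegaSheaf : Sheaf J (Type u) :=
  ⟨(Functor.closedSieves J).toFunctor, (isSheaf_iff_isSheaf_of_type _ _).2 (classifier_isSheaf J)⟩

lemma omegaSheaf_map_val {X T : C} (f : T ⟶ X) (R : (omegaSheaf J).obj.obj (op X)) :
    ((omegaSheaf J).obj.map f.op R).1 = R.1.pullback f := rfl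

/-- Sections of a sheaf over an object covered by the empty sieve are unique. -/
lemma subsingleton_of_bot_mem (F : Sheaf J (Type u)) {T : C} (hT : (⊥ : Sieve T) ∈ J T)
    (a b : F.obj.obj (op T)) : a = b := by
  have hF : Presieve.IsSheaf J F.obj := (isSheaf_iff_isSheaf_of_type _ _).1 F.property
  refine (hF _ hT).isSeparatedFor.ext ?_
  intro W f hf
  exact False.elim hf

variable {J} {X : C} {ι : Type u} (Y : ι → C) (s : ∀ i, Y i ⟶ X)

/-- If restriction `Ω(X) → ∏ Ω(Y i)` is injective, the family `s` is covering. -/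
lemma ofArrows_mem_of_injective
    (hinj : Function.Injective
      (fun (t : (omegaSheaf J).obj.obj (op X)) (i : ι) => (omegaSheaf J).obj.map (s i).op t)) :
    Sieve.ofArrows Y s ∈ J X := by
  rw [← J.close_eq_top_iff_mem]
  have htop : J.IsClosed (⊤ : Sieve X) := fun W f _ => trivial
  have := @hinj ⟨J.close (Sieve.ofArrows Y s), J.close_isClosed _⟩ ⟨(⊤ : Sieve X), htop⟩ (by
    funext i
    apply Subtype.ext
    rw [omegaSheaf_map_val, omegaSheaf_map_val]
    show (J.close (Sieve.ofArrows Y s)).pullback (s i) = (⊤ : Sieve X).pullback (s i)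
    rw [← J.pullback_close, Sieve.pullback_top,
      Sieve.pullback_eq_top_of_mem _ (Sieve.ofArrows_mk Y s i), J.close_eq_top_iff_mem]
    exact J.top_mem _)
  exact congrArg Subtype.val this

/-- If restriction `Ω(X) → ∏ Ω(Y i)` is surjective, then an object mapping compatibly to two
different members of the family is covered by the empty sieve. -/
lemma bot_mem_of_surjective
    (hsurj : Function.Surjective
      (fun (t : (omegaSheaf J).obj.obj (op X)) (i : ι) => (omegaSheaf J).obj.map (s i).op t))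
    {i j : ι} (hij : i ≠ j) {T : C} (p : T ⟶ Y i) (q : T ⟶ Y j) (h : p ≫ s i = q ≫ s j) :
    (⊥ : Sieve T) ∈ J T := by
  classical
  have htop : ∀ Z : C, J.IsClosed (⊤ : Sieve Z) := fun Z W f _ => trivial
  obtain ⟨R, hR⟩ := hsurj (fun k => if k = i then ⟨(⊤ : Sieve (Y k)), htop _⟩
    else ⟨J.close (⊥ : Sieve (Y k)), J.close_isClosed _⟩)
  have hi : R.1.pullback (s i) = ⊤ := by
    have := congrArg Subtype.val (congrFun hR i)
    rw [if_pos rfl] at this
    exact this
  have hj : R.1.pullback (s j) = J.close ⊥ := by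
    have := congrArg Subtype.val (congrFun hR j)
    rw [if_neg (Ne.symm hij)] at this
    exact this
  rw [← J.close_eq_top_iff_mem]
  have e1 : R.1.pullback (p ≫ s i) = ⊤ := by
    rw [Sieve.pullback_comp, hi, Sieve.pullback_top]
  have e2 : R.1.pullback (q ≫ s j) = J.close ⊥ := by
    rw [Sieve.pullback_comp, hj, ← J.pullback_close, Sieve.pullback_bot]
  rw [← e2, ← h, e1]

/-- In a subcanonical topology, an object covered by the empty sieve is initial. -/
lemma nonempty_isInitial_of_bot_mem [J.Subcanonical] {T : C} (hT : (⊥ : Sieve T) ∈ J T) :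
    Nonempty (IsInitial T) := by
  have huniq : ∀ W : C, ∀ a b : T ⟶ W, a = b := fun W a b =>
    subsingleton_of_bot_mem J (J.yoneda.obj W) hT a b
  have hex : ∀ W : C, Nonempty (T ⟶ W) := by
    intro W
    have hF : Presieve.IsSheaf J (yoneda.obj W) :=
      (isSheaf_iff_isSheaf_of_type _ _).1 (J.yoneda.obj W).property
    let x : Presieve.FamilyOfElements (yoneda.obj W) (⊥ : Sieve T).arrows :=
      fun V f hf => False.elim hf
    have hx : x.Compatible := by
      intro W₁ W₂ W₃ g₁ g₂ f₁ f₂ h₁
      exact False.elim h₁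
    obtain ⟨t, -, -⟩ := hF _ hT x hx
    exact ⟨t⟩
  exact ⟨IsInitial.ofUniqueHom (fun W => (hex W).some) (fun W m => huniq W _ _)⟩


section Subcanonical

variable [J.Subcanonical]

/-- The bijectivity hypothesis: `F(X) ≃ ∏ F(Y i)` for every sheaf `F`. -/
def SheafBij (J : GrothendieckTopology C) {X : C} {ι : Type u} (Y : ι → C) (s : ∀ i, Y i ⟶ X) :
    Prop :=
  ∀ F : Sheaf J (Type u), Function.Bijective
    (fun (t : F.obj.obj (op X)) (i : ι) => F.obj.map (s i).op t)

variable {Y s}

/-- `(X, s)` is a coproduct in `C`. -/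
noncomputable def isColimitCofanOfSheafBij (h : SheafBij J Y s) : IsColimit (Cofan.mk X s) := by
  refine Cofan.IsColimit.mk _
    (fun t => ((h (J.yoneda.obj t.pt)).2 (fun i => t.inj i)).choose) ?_ ?_
  · intro t i
    exact congrFun ((h (J.yoneda.obj t.pt)).2 (fun i => t.inj i)).choose_spec i
  · intro t m hm
    apply (h (J.yoneda.obj t.pt)).1
    rw [((h (J.yoneda.obj t.pt)).2 (fun i => t.inj i)).choose_spec]
    funext i
    exact hm i

lemma mono_of_sheafBij (h : SheafBij J Y s) (i : ι) : Mono (s i) := by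
  have hc := ((isColimit_cofan_sheafify_iff J Y s).2 h).some
  have hmono : Mono ((presheafToSheaf J (Type u)).map (yoneda.map (s i))) :=
    MonoCoprod.mono_inj _ _ hc i
  refine ⟨fun {T} a b hab => ?_⟩
  have h1 : (presheafToSheaf J (Type u)).map (yoneda.map a) =
      (presheafToSheaf J (Type u)).map (yoneda.map b) := by
    rw [← cancel_mono ((presheafToSheaf J (Type u)).map (yoneda.map (s i))),
      ← Functor.map_comp, ← Functor.map_comp, ← Functor.map_comp, ← Functor.map_comp, hab]
  let ε := (shYonedaEquiv J (Y i) (J.yoneda.obj (Y i))).symm (𝟙 (Y i))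
  have h2 : ∀ c : T ⟶ Y i, shYonedaEquiv J T (J.yoneda.obj (Y i))
      ((presheafToSheaf J (Type u)).map (yoneda.map c) ≫ ε) = c := by
    intro c
    rw [shYonedaEquiv_map_comp, Equiv.apply_symm_apply]
    show c ≫ 𝟙 _ = c
    rw [Category.comp_id]
  rw [← h2 a, ← h2 b, h1]

lemma ofArrows_mem_of_sheafBij (h : SheafBij J Y s) : Sieve.ofArrows Y s ∈ J X :=
  ofArrows_mem_of_injective Y s (h (omegaSheaf J)).1

lemma bot_mem_of_sheafBij (h : SheafBij J Y s)
    {i j : ι} (hij : i ≠ j) {T : C} (p : T ⟶ Y i) (q : T ⟶ Y j) (hpq : p ≫ s i = q ≫ s j) :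
    (⊥ : Sieve T) ∈ J T :=
  bot_mem_of_surjective Y s (h (omegaSheaf J)).2 hij p q hpq

/-- A family of maps `z k : Z k ⟶ Z`, each a pullback of `s k`, is a coproduct. -/
theorem existsUnique_desc_of_isPullback (h : SheafBij J Y s) {Z : C} (f : Z ⟶ X)
    (Zk : ι → C) (z : ∀ k, Zk k ⟶ Z) (α : ∀ k, Zk k ⟶ Y k)
    (hpb : ∀ k, IsPullback (z k) (α k) f (s k)) :
    ∀ W : C, ∀ x : (k : ι) → (Zk k ⟶ W), ∃! d : Z ⟶ W, ∀ k, z k ≫ d = x k := by
  classical
  have hcov : Sieve.ofArrows Zk z ∈ J Z := by
    refine J.superset_covering ?_ (J.pullback_stable f (ofArrows_mem_of_sheafBij h))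
    intro T g hg
    rw [Sieve.pullback_apply, Sieve.mem_ofArrows_iff] at hg
    obtain ⟨k, a, ha⟩ := hg
    rw [Sieve.mem_ofArrows_iff]
    exact ⟨k, (hpb k).lift g a ha, ((hpb k).lift_fst g a ha).symm⟩
  have hzmono : ∀ k, Mono (z k) := by
    intro k
    have := mono_of_sheafBij h k
    exact (hpb k).mono_fst_of_mono
  have key : ∀ W : C, ∀ x : (k : ι) → (Zk k ⟶ W), ∃! d : Z ⟶ W, ∀ k, z k ≫ d = x k := by
    intro W x
    have hF : Presieve.IsSheaf J (yoneda.obj W) :=
      (isSheaf_iff_isSheaf_of_type _ _).1 (J.yoneda.obj W).property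
    have hFor : Presieve.IsSheafFor (yoneda.obj W) (Presieve.ofArrows Zk z) := by
      rw [Presieve.isSheafFor_iff_generate]
      exact hF _ hcov
    rw [Presieve.isSheafFor_arrows_iff] at hFor
    refine hFor x ?_
    intro k k' T g g' hgg'
    by_cases hkk' : k = k'
    · subst hkk'
      have : g = g' := (cancel_mono (z k)).1 hgg'
      rw [this]
    · apply subsingleton_of_bot_mem J (J.yoneda.obj W)
      refine bot_mem_of_sheafBij h hkk' (g ≫ α k) (g' ≫ α k') ?_
      rw [Category.assoc, Category.assoc, ← (hpb k).w, ← (hpb k').w, ← Category.assoc,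
        ← Category.assoc, hgg']
  exact key

/-- The three conclusions about `(X, s)` in `C` drawn from the sheaf-theoretic decomposition. -/
theorem disjoint_universal_of_sheafBij (h : SheafBij J Y s)
    [∀ (i j : ι), HasPullback (s i) (s j)] :
    Nonempty (IsColimit (Cofan.mk X s)) ∧ CoproductDisjoint Y ∧
      IsUniversalColimit (Cofan.mk X s) := by
  refine ⟨⟨isColimitCofanOfSheafBij h⟩, ?_, ?_⟩
  · have : ∀ i, Mono ((Cofan.mk X s).inj i) := fun i => mono_of_sheafBij h i
    refine CoproductDisjoint.of_cofan (isColimitCofanOfSheafBij h)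
      (fun {i j} _ => (IsPullback.of_hasPullback (s i) (s j)).cone)
      (fun {i j} _ => (IsPullback.of_hasPullback (s i) (s j)).isLimit) ?_
    intro i j hij
    exact (nonempty_isInitial_of_bot_mem
      (bot_mem_of_sheafBij h hij (pullback.fst (s i) (s j)) (pullback.snd (s i) (s j))
        pullback.condition)).some
  · intro F' c' α f hcomm _ hpb
    have key := existsUnique_desc_of_isPullback h f (fun k => F'.obj ⟨k⟩)
      (fun k => c'.ι.app ⟨k⟩) (fun k => α.app ⟨k⟩) (fun k => hpb ⟨k⟩)
    refine ⟨{ desc := fun t => (key t.pt (fun k => t.ι.app ⟨k⟩)).choose, fac := ?_, uniq := ?_ }⟩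
    · rintro t ⟨k⟩
      exact (key t.pt (fun k => t.ι.app ⟨k⟩)).choose_spec.1 k
    · intro t m hm
      exact (key t.pt (fun k => t.ι.app ⟨k⟩)).choose_spec.2 m (fun k => hm ⟨k⟩)

end Subcanonical

section Converse

variable {Y s}

/-- A covering family of monomorphisms with pairwise "empty" intersections decomposes sheaves. -/
theorem sheafBij_of_cover_mono_disj
    (hcov : Sieve.ofArrows Y s ∈ J X) (hmono : ∀ i, Mono (s i))
    (hdisj : ∀ (i j : ι), i ≠ j → ∀ (T : C) (p : T ⟶ Y i) (q : T ⟶ Y j), p ≫ s i = q ≫ s j →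
      (⊥ : Sieve T) ∈ J T) :
    SheafBij J Y s := by
  classical
  intro F
  have hF : Presieve.IsSheaf J F.obj := (isSheaf_iff_isSheaf_of_type _ _).1 F.property
  have hFor : Presieve.IsSheafFor F.obj (Presieve.ofArrows Y s) := by
    rw [Presieve.isSheafFor_iff_generate]
    exact hF _ hcov
  rw [Presieve.isSheafFor_arrows_iff] at hFor
  have hcompat : ∀ x : (i : ι) → F.obj.obj (op (Y i)),
      Presieve.Arrows.Compatible F.obj s x := by
    intro x i j Z gi gj hg
    by_cases hij : i = j
    · subst hij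
      have : gi = gj := (cancel_mono (s i)).1 hg
      rw [this]
    · exact subsingleton_of_bot_mem J F (hdisj i j hij Z gi gj hg) _ _
  constructor
  · intro t t' htt'
    obtain ⟨t₀, -, huniq⟩ := hFor _ (hcompat (fun i => F.obj.map (s i).op t))
    rw [huniq t (fun i => rfl), huniq t' (fun i => (congrFun htt' i).symm)]
  · intro x
    obtain ⟨t₀, ht₀, -⟩ := hFor x (hcompat x)
    exact ⟨t₀, funext ht₀⟩

/-- The base change of a universal coproduct `(X, s)` along `f`. -/
lemma isColimit_pullback_of_isUniversal [∀ (i : ι) (Z : C) (g : Z ⟶ X), HasPullback (s i) g]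
    (huniv : IsUniversalColimit (Cofan.mk X s)) {Z : C} (f : Z ⟶ X) :
    Nonempty (IsColimit (Cofan.mk Z (fun k => pullback.snd (s k) f))) := by
  refine huniv (Cofan.mk Z (fun k => pullback.snd (s k) f))
    (Discrete.natTrans (fun k => pullback.fst (s k.as) f)) f ?_
    (NatTrans.Equifibered.of_discrete _) ?_
  · ext ⟨k⟩
    exact pullback.condition
  · rintro ⟨k⟩
    exact (IsPullback.of_hasPullback (s k) f).flip

/-- Strictness: an object mapping compatibly into two different summands of a disjoint universal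
coproduct is initial. -/
lemma nonempty_isInitial_of_disjoint_universal
    [∀ (i : ι) (Z : C) (g : Z ⟶ X), HasPullback (s i) g]
    (hc : IsColimit (Cofan.mk X s)) (hdisj : CoproductDisjoint Y)
    (huniv : IsUniversalColimit (Cofan.mk X s))
    {i j : ι} (hij : i ≠ j) {T : C} (p : T ⟶ Y i) (q : T ⟶ Y j) (hpq : p ≫ s i = q ≫ s j) :
    Nonempty (IsInitial T) := by
  classical
  obtain ⟨hT⟩ := isColimit_pullback_of_isUniversal huniv (p ≫ s i)
  let σi : T ⟶ pullback (s i) (p ≫ s i) := pullback.lift p (𝟙 T) (by rw [Category.id_comp])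
  let σj : T ⟶ pullback (s j) (p ≫ s i) := pullback.lift q (𝟙 T) (by rw [Category.id_comp, hpq])
  have hσi : σi ≫ pullback.snd (s i) (p ≫ s i) = 𝟙 T := pullback.lift_snd _ _ _
  have hσj : σj ≫ pullback.snd (s j) (p ≫ s i) = 𝟙 T := pullback.lift_snd _ _ _
  have huniq : ∀ (W : C) (a b : T ⟶ W), a = b := by
    intro W a b
    let φ : ∀ k, pullback (s k) (p ≫ s i) ⟶ W := fun k =>
      if k = j then pullback.snd (s k) (p ≫ s i) ≫ b else pullback.snd (s k) (p ≫ s i) ≫ a
    have h1 := Cofan.IsColimit.fac hT φ i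
    have h2 := Cofan.IsColimit.fac hT φ j
    simp only [cofan_mk_inj] at h1 h2
    have h1' : pullback.snd (s i) (p ≫ s i) ≫ Cofan.IsColimit.desc hT φ =
        pullback.snd (s i) (p ≫ s i) ≫ a := by
      rw [h1]; simp only [φ]; rw [if_neg hij]
    have h2' : pullback.snd (s j) (p ≫ s i) ≫ Cofan.IsColimit.desc hT φ =
        pullback.snd (s j) (p ≫ s i) ≫ b := by
      rw [h2]; simp only [φ]; exact if_pos trivial
    have e1 := congrArg (fun t => σi ≫ t) h1'
    have e2 := congrArg (fun t => σj ≫ t) h2'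
    simp only [← Category.assoc, hσi, hσj, Category.id_comp] at e1 e2
    rw [← e1, ← e2]
  have hP : Nonempty (IsInitial (pullback (s i) (s j))) :=
    CoproductDisjoint.nonempty_isInitial_of_ne hc hij
      (IsPullback.of_hasPullback (s i) (s j)).cone (IsPullback.of_hasPullback (s i) (s j)).isLimit
  obtain ⟨hP⟩ := hP
  exact ⟨IsInitial.ofUniqueHom (fun W => pullback.lift p q hpq ≫ hP.to W)
    (fun W m => huniq W _ _)⟩

/-- A strict initial object is covered by the empty sieve for the canonical topology. -/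
lemma bot_mem_canonical_of_strict {T : C} (hT : IsInitial T)
    (hstrict : ∀ (V : C) (g : V ⟶ T), IsIso g) :
    (⊥ : Sieve T) ∈ Sheaf.canonicalTopology C T := by
  refine Sheaf.mem_finestTopology_of_forall_isSheafFor ?_
  rintro _ ⟨Z, rfl⟩ V f
  have := hstrict V f
  have hVi : IsInitial V := hT.ofIso (asIso f).symm
  rw [Sieve.pullback_bot]
  intro x hx
  refine ⟨hVi.to Z, ?_, fun t _ => hVi.hom_ext _ _⟩
  intro W g hg
  exact False.elim hg

/-- A universal coproduct family is covering for the canonical topology. -/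
lemma ofArrows_mem_canonical_of_isUniversal
    [∀ (i : ι) (Z : C) (g : Z ⟶ X), HasPullback (s i) g]
    (huniv : IsUniversalColimit (Cofan.mk X s)) :
    Sieve.ofArrows Y s ∈ Sheaf.canonicalTopology C X := by
  refine Sheaf.mem_finestTopology_of_forall_isSheafFor ?_
  rintro _ ⟨W, rfl⟩ Z f
  obtain ⟨hZ⟩ := isColimit_pullback_of_isUniversal huniv f
  have heq : (Sieve.ofArrows Y s).pullback f =
      Sieve.ofArrows (fun k => pullback (s k) f) (fun k => pullback.snd (s k) f) := by
    ext T g
    rw [Sieve.pullback_apply, Sieve.mem_ofArrows_iff, Sieve.mem_ofArrows_iff]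
    constructor
    · rintro ⟨k, a, ha⟩
      exact ⟨k, pullback.lift a g ha.symm, (pullback.lift_snd _ _ _).symm⟩
    · rintro ⟨k, b, rfl⟩
      exact ⟨k, b ≫ pullback.fst (s k) f, by rw [Category.assoc, Category.assoc, pullback.condition]⟩
  rw [heq]
  have : Presieve.IsSheafFor (yoneda.obj W)
      (Presieve.ofArrows (fun k => pullback (s k) f) (fun k => pullback.snd (s k) f)) := by
    rw [Presieve.isSheafFor_arrows_iff]
    intro x _
    refine ⟨Cofan.IsColimit.desc hZ x, fun k => Cofan.IsColimit.fac hZ x k, ?_⟩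
    intro d hd
    exact Cofan.IsColimit.hom_ext hZ _ _ (fun k => (hd k).trans (Cofan.IsColimit.fac hZ x k).symm)
  rw [Presieve.isSheafFor_iff_generate] at this
  exact this

/-- The converse: a disjoint universal coproduct in `C` decomposes canonical sheaves. -/
theorem sheafBij_canonical_of_disjoint_universal
    [∀ (i : ι) (Z : C) (g : Z ⟶ X), HasPullback (s i) g]
    (hc : IsColimit (Cofan.mk X s)) (hdisj : CoproductDisjoint Y)
    (huniv : IsUniversalColimit (Cofan.mk X s)) :
    SheafBij (Sheaf.canonicalTopology C) Y s := by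
  refine sheafBij_of_cover_mono_disj (ofArrows_mem_canonical_of_isUniversal huniv)
    (fun i => CoproductDisjoint.mono_inj hc i) ?_
  intro i j hij T p q hpq
  obtain ⟨hT⟩ := nonempty_isInitial_of_disjoint_universal hc hdisj huniv hij p q hpq
  refine bot_mem_canonical_of_strict hT ?_
  intro V g
  obtain ⟨hV⟩ := nonempty_isInitial_of_disjoint_universal hc hdisj huniv hij (g ≫ p) (g ≫ q)
    (by rw [Category.assoc, Category.assoc, hpq])
  exact ⟨⟨hT.to V, hV.hom_ext _ _, hT.hom_ext _ _⟩⟩

end Converse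

end Groth.Agent.Lib.Helper9
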