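import Groth.Agent.Lib.Helper9QC2
import Groth.Agent.Lib.Helper9Disj

/-!
# Quasi-compactness: site-level statements (SGA 4 VI 1.1, 1.2, 2.1)
-/

namespace Groth.Agent.Lib.Helper9

open CategoryTheory Limits Opposite ToposFin

universe u w

variable {C : Type u} [SmallCategory C] {J : GrothendieckTopology C}

/-- The sieve of arrows along which a section lifts to some member of the family. -/
def famImageSieve {X : Sh J} {ι : Type w} {F : ι → Sh J} (π : ∀ i, F i ⟶ X) {U : C}
    (x : X.obj.obj (op U)) : Sieve U where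
  arrows V f := ∃ (i : ι) (y : (F i).obj.obj (op V)), (π i).hom.app (op V) y = X.obj.map f.op x
  downward_closed := by
    rintro V W f ⟨i, y, hy⟩ g
    refine ⟨i, (F i).obj.map g.op y, ?_⟩
    have h1 := ConcreteCategory.congr_hom ((π i).hom.naturality g.op) y
    simp only [ConcreteCategory.comp_apply] at h1
    rw [h1, hy]
    have h2 := ConcreteCategory.congr_hom (X.obj.map_comp f.op g.op) x
    simp only [ConcreteCategory.comp_apply] at h2
    rw [← h2]
    rfl

lemma famImageSieve_pullback {X : Sh J} {ι : Type w} {F : ι → Sh J} (π : ∀ i, F i ⟶ X) {U V : C}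
    (x : X.obj.obj (op U)) (f : V ⟶ U) :
    (famImageSieve π x).pullback f = famImageSieve π (X.obj.map f.op x) := by
  ext W g
  have h2 := ConcreteCategory.congr_hom (X.obj.map_comp f.op g.op) x
  simp only [ConcreteCategory.comp_apply] at h2
  constructor
  · rintro ⟨i, y, hy⟩
    refine ⟨i, y, hy.trans ?_⟩
    exact h2
  · rintro ⟨i, y, hy⟩
    exact ⟨i, y, hy.trans h2.symm⟩

/-- Local characterisation of jointly epimorphic families of sheaves. -/
theorem jEpi_iff_famImageSieve_mem {X : Sh J} {ι : Type w} {F : ι → Sh J} (π : ∀ i, F i ⟶ X) :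
    JEpi π ↔ ∀ (U : C) (x : X.obj.obj (op U)), famImageSieve π x ∈ J U := by
  constructor
  · intro hπ U x
    -- the characteristic map of the union of the images
    let χ : X ⟶ omegaSheaf J := ⟨
      { app := fun U => TypeCat.ofHom (fun x =>
          (⟨J.close (famImageSieve π x), J.close_isClosed _⟩ : (omegaSheaf J).obj.obj U))
        naturality := by
          intro U V f
          ext x
          apply Subtype.ext
          show J.close (famImageSieve π (X.obj.map f x)) =
            (J.close (famImageSieve π x)).pullback f.unop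
          rw [← J.pullback_close, famImageSieve_pullback]
          rfl }⟩
    have htop : ∀ Z : C, J.IsClosed (⊤ : Sieve Z) := fun Z W f _ => trivial
    let τ : X ⟶ omegaSheaf J := ⟨
      { app := fun U => TypeCat.ofHom (fun _ =>
          (⟨(⊤ : Sieve U.unop), htop _⟩ : (omegaSheaf J).obj.obj U))
        naturality := by
          intro U V f
          ext x
          apply Subtype.ext
          show (⊤ : Sieve V.unop) = (⊤ : Sieve U.unop).pullback f.unop
          rw [Sieve.pullback_top] }⟩
    have hχτ : χ = τ := by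
      refine hπ χ τ fun i => ?_
      apply Sheaf.hom_ext
      ext V y
      apply Subtype.ext
      show J.close (famImageSieve π ((π i).hom.app V y)) = ⊤
      rw [J.close_eq_top_iff_mem]
      refine J.superset_covering ?_ (J.top_mem _)
      intro W g _
      refine ⟨i, (F i).obj.map g.op y, ?_⟩
      have h1 := ConcreteCategory.congr_hom ((π i).hom.naturality g.op) y
      simp only [ConcreteCategory.comp_apply] at h1
      exact h1
    have := congrArg (fun t : X ⟶ omegaSheaf J => (t.hom.app (op U) x).1) hχτ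
    rw [← J.close_eq_top_iff_mem]
    exact this
  · intro h Z a b hab
    have hZ : Presieve.IsSheaf J Z.obj := (isSheaf_iff_isSheaf_of_type _ _).1 Z.property
    have key : ∀ (U : C) (x : X.obj.obj (op U)), a.hom.app (op U) x = b.hom.app (op U) x := by
      intro U x
      refine (hZ _ (h U x)).isSeparatedFor.ext ?_
      rintro V f ⟨i, y, hy⟩
      have ha := ConcreteCategory.congr_hom (a.hom.naturality f.op) x
      have hb := ConcreteCategory.congr_hom (b.hom.naturality f.op) x
      simp only [ConcreteCategory.comp_apply] at ha hb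
      rw [← ha, ← hb, ← hy]
      have := congrArg (fun t : F i ⟶ Z => t.hom.app (op V) y) (hab i)
      exact this
    apply Sheaf.hom_ext
    ext U x
    exact key U.unop x

/-! ### Sheafified representables -/

variable (J)

/-- The canonical section of `ε X` over `X`. -/
noncomputable def etaSec (X : C) : (eps J X).obj.obj (op X) := shYonedaEquiv J X _ (𝟙 _)

/-- The map `ε V ⟶ ε X` induced by `f : V ⟶ X`. -/
noncomputable abbrev epsMap {V X : C} (f : V ⟶ X) : eps J V ⟶ eps J X :=
  (presheafToSheaf J (Type u)).map (yoneda.map f)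

lemma shYonedaEquiv_eq {X : C} {F : Sh J} (φ : eps J X ⟶ F) :
    shYonedaEquiv J X F φ = φ.hom.app (op X) (etaSec J X) := by
  have := shYonedaEquiv_comp J (𝟙 (eps J X)) φ
  rw [Category.id_comp] at this
  exact this

lemma epsMap_etaSec {V X : C} (f : V ⟶ X) :
    (epsMap J f).hom.app (op V) (etaSec J V) = (eps J X).obj.map f.op (etaSec J X) := by
  have := shYonedaEquiv_map_comp J f (eps J X) (𝟙 _)
  rw [Category.comp_id, shYonedaEquiv_eq] at this
  exact this

lemma eps_hom_ext {X : C} {F : Sh J} (a b : eps J X ⟶ F)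
    (h : a.hom.app (op X) (etaSec J X) = b.hom.app (op X) (etaSec J X)) : a = b := by
  apply (shYonedaEquiv J X F).injective
  rw [shYonedaEquiv_eq, shYonedaEquiv_eq, h]

variable {J}

/-- A family of arrows of the site is covering iff the induced family of maps of sheafified
representables is jointly epimorphic. -/
theorem jEpi_epsMap_iff {X : C} {ι : Type u} (V : ι → C) (f : ∀ i, V i ⟶ X) :
    JEpi (fun i => epsMap J (f i)) ↔ Sieve.ofArrows V f ∈ J X := by
  constructor
  · intro h
    refine ofArrows_mem_of_injective V f ?_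
    intro t t' htt'
    obtain ⟨φ, rfl⟩ := (shYonedaEquiv J X (omegaSheaf J)).surjective t
    obtain ⟨φ', rfl⟩ := (shYonedaEquiv J X (omegaSheaf J)).surjective t'
    congr 1
    refine h φ φ' fun i => ?_
    apply (shYonedaEquiv J (V i) (omegaSheaf J)).injective
    rw [shYonedaEquiv_map_comp, shYonedaEquiv_map_comp]
    exact congrFun htt' i
  · intro hcov Z a b hab
    have hZ : Presieve.IsSheaf J Z.obj := (isSheaf_iff_isSheaf_of_type _ _).1 Z.property
    apply eps_hom_ext
    refine (hZ _ hcov).isSeparatedFor.ext ?_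
    rintro W g ⟨Y, h, g', ⟨i⟩, rfl⟩
    have key : ∀ c : eps J X ⟶ Z, Z.obj.map (f i).op (c.hom.app (op X) (etaSec J X)) =
        (epsMap J (f i) ≫ c).hom.app (op (V i)) (etaSec J (V i)) := by
      intro c
      have h1 := ConcreteCategory.congr_hom (c.hom.naturality (f i).op) (etaSec J X)
      simp only [ConcreteCategory.comp_apply] at h1
      rw [← h1, ← epsMap_etaSec]
      rfl
    have h2 : ∀ c : eps J X ⟶ Z, Z.obj.map (h ≫ f i).op (c.hom.app (op X) (etaSec J X)) =
        Z.obj.map h.op (Z.obj.map (f i).op (c.hom.app (op X) (etaSec J X))) := by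
      intro c
      have := ConcreteCategory.congr_hom (Z.obj.map_comp (f i).op h.op)
        (c.hom.app (op X) (etaSec J X))
      simp only [ConcreteCategory.comp_apply] at this
      rw [← this]
      rfl
    rw [h2 a, h2 b, key a, key b, hab i]

lemma etaSec_eq (X : C) :
    etaSec J X = (toSheafify J (yoneda.obj X)).app (op X) (𝟙 X) := by
  unfold etaSec shYonedaEquiv
  simp only [Equiv.trans_apply]
  rw [Adjunction.homEquiv_unit, yonedaEquiv_apply]
  simp only [Functor.map_id, Category.comp_id]
  rfl

lemma toSheafify_app_eq {W X : C} (g : W ⟶ X) :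
    (toSheafify J (yoneda.obj X)).app (op W) g = (eps J X).obj.map g.op (etaSec J X) := by
  rw [etaSec_eq]
  have h := ConcreteCategory.congr_hom ((toSheafify J (yoneda.obj X)).naturality g.op) (𝟙 X)
  simp only [ConcreteCategory.comp_apply] at h
  refine Eq.trans ?_ h
  congr 1
  exact (Category.comp_id g).symm

lemma epsMap_apply_etaSec {W X : C} (g : W ⟶ X) :
    (epsMap J g).hom.app (op W) (etaSec J W) =
      (toSheafify J (yoneda.obj X)).app (op W) g := by
  rw [epsMap_etaSec, toSheafify_app_eq]

/-- Every sheaf is covered by sheafified representables. -/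
lemma coveredBy_eps : CoveredBy (J := J) (fun K => ∃ U : C, K = eps J U) := by
  intro X
  refine ⟨Σ U : C, X.obj.obj (op U), fun i => eps J i.1,
    fun i => (shYonedaEquiv J i.1 X).symm i.2, fun i => ⟨i.1, rfl⟩, ?_⟩
  rw [jEpi_iff_famImageSieve_mem]
  intro U x
  refine J.superset_covering ?_ (J.top_mem U)
  intro V f _
  refine ⟨⟨V, X.obj.map f.op x⟩, etaSec J V, ?_⟩
  rw [← shYonedaEquiv_eq, Equiv.apply_symm_apply]

/-- A map `ε U ⟶ ε X` is, locally on a finite cover of the quasi-compact object `U`, induced by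
morphisms of the site. -/
lemma exists_finite_rep_cover {U X : C} (hU : IsQCSite J U) (s : eps J U ⟶ eps J X) :
    ∃ (κ : Type u) (_ : Finite κ) (W : κ → C) (f : ∀ k, W k ⟶ U) (g : ∀ k, W k ⟶ X),
      JEpi (fun k => epsMap J (f k)) ∧ ∀ k, epsMap J (f k) ≫ s = epsMap J (g k) := by
  have hR := Presheaf.imageSieve_mem J (toSheafify J (yoneda.obj X))
    (s.hom.app (op U) (etaSec J U))
  obtain ⟨n, W, f, hf, hcov⟩ := hU _ hR
  choose g hg using hf
  refine ⟨ULift.{u} (Fin n), inferInstance, fun k => W k.down, fun k => f k.down,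
    fun k => g k.down, ?_, fun k => ?_⟩
  · rw [jEpi_epsMap_iff]
    refine J.superset_covering ?_ hcov
    rw [Sieve.ofArrows, Sieve.generate_le_iff]
    rintro Y h ⟨k⟩
    exact Sieve.ofArrows_mk (fun k : ULift.{u} (Fin n) => W k.down) (fun k => f k.down) ⟨k⟩
  · apply eps_hom_ext
    rw [epsMap_apply_etaSec]
    refine Eq.trans ?_ (hg k.down).symm
    show s.hom.app _ ((epsMap J (f k.down)).hom.app _ (etaSec J (W k.down))) = _
    rw [epsMap_etaSec]
    have h1 := ConcreteCategory.congr_hom (s.hom.naturality (f k.down).op) (etaSec J U)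
    simp only [ConcreteCategory.comp_apply] at h1
    exact h1

/-- `ε` preserves fibre products. -/
lemma isPullback_epsMap [HasPullbacks C] {W W' X : C} (g : W ⟶ X) (g' : W' ⟶ X) :
    IsPullback (epsMap J (pullback.fst g g')) (epsMap J (pullback.snd g g'))
      (epsMap J g) (epsMap J g') :=
  ((IsPullback.of_hasPullback g g').map yoneda).map (presheafToSheaf J (Type u))

/-- SGA 4 VI 1.2 (⇒). -/
theorem isQC_eps_of_isQCSite {X : C} (h : IsQCSite J X) : IsQC (eps J X) := by
  classical
  rw [isQC_iff]
  intro ι F π hπ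
  have hS := (jEpi_iff_famImageSieve_mem π).1 hπ X (etaSec J X)
  obtain ⟨n, V, g, hg, hcov⟩ := h _ hS
  choose idx y hy using hg
  refine ⟨Finset.univ.image idx, ?_⟩
  intro Z a b hab
  have hZ : Presieve.IsSheaf J Z.obj := (isSheaf_iff_isSheaf_of_type _ _).1 Z.property
  apply eps_hom_ext
  refine (hZ _ hcov).isSeparatedFor.ext ?_
  rintro W g' ⟨Y, h', g'', ⟨k⟩, rfl⟩
  have key : ∀ c : eps J X ⟶ Z, Z.obj.map (g k).op (c.hom.app (op X) (etaSec J X)) =
      (π (idx k) ≫ c).hom.app (op (V k)) (y k) := by
    intro c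
    have h1 := ConcreteCategory.congr_hom (c.hom.naturality (g k).op) (etaSec J X)
    simp only [ConcreteCategory.comp_apply] at h1
    rw [← h1, ← hy k]
    rfl
  have h2 : ∀ c : eps J X ⟶ Z, Z.obj.map (h' ≫ g k).op (c.hom.app (op X) (etaSec J X)) =
      Z.obj.map h'.op (Z.obj.map (g k).op (c.hom.app (op X) (etaSec J X))) := by
    intro c
    have := ConcreteCategory.congr_hom (Z.obj.map_comp (g k).op h'.op)
      (c.hom.app (op X) (etaSec J X))
    simp only [ConcreteCategory.comp_apply] at this
    rw [← this]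
    rfl
  have hk : idx k ∈ Finset.univ.image idx := Finset.mem_image_of_mem _ (Finset.mem_univ k)
  rw [h2 a, h2 b, key a, key b, hab ⟨idx k, hk⟩]

/-- SGA 4 VI 1.2 (⇐). -/
theorem isQCSite_of_isQC_eps {X : C} (h : IsQC (eps J X)) : IsQCSite J X := by
  intro S hS
  let ι : Type u := Σ V : C, {f : V ⟶ X // S f}
  have h1 : JEpi (fun i : ι => epsMap J i.2.1) := by
    refine (jEpi_epsMap_iff (fun i : ι => i.1) (fun i => i.2.1)).2 (J.superset_covering ?_ hS)
    intro V f hf
    exact Sieve.ofArrows_mk (fun i : ι => i.1) (fun i => i.2.1) ⟨V, f, hf⟩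
  obtain ⟨t, ht⟩ := (isQC_iff _).1 h _ _ _ h1
  have h2 := (jEpi_epsMap_iff (fun i : t => i.1.1) (fun i => i.1.2.1)).1 ht
  let e := t.equivFin.symm
  refine ⟨t.card, fun k => (e k).1.1, fun k => (e k).1.2.1, fun k => (e k).1.2.2,
    J.superset_covering ?_ h2⟩
  rw [Sieve.ofArrows, Sieve.generate_le_iff]
  rintro W g ⟨i⟩
  obtain ⟨k, rfl⟩ := e.surjective i
  exact Sieve.ofArrows_mk (fun k => (e k).1.1) (fun k => (e k).1.2.1) k

theorem isQCSite_iff_isQC_eps (X : C) : IsQCSite J X ↔ IsQC (eps J X) :=
  ⟨isQC_eps_of_isQCSite, isQCSite_of_isQC_eps⟩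

lemma coveredBy_eps_isQC (hC : ∀ X : C, IsQCSite J X) : CoveredBy (J := J) IsQC :=
  coveredBy_eps.mono (by rintro K ⟨U, rfl⟩; exact isQC_eps_of_isQCSite (hC U))

/-- Fibre products of sheafified representables over a sheafified representable are
quasi-compact (site with fibre products all of whose objects are quasi-compact). -/
lemma isQC_pullback_eps [HasPullbacks C] (hC : ∀ X : C, IsQCSite J X) {U U' X : C}
    (s : eps J U ⟶ eps J X) (s' : eps J U' ⟶ eps J X) : IsQC (pullback s s') := by
  obtain ⟨κ, _, W, f, g, hf, hfg⟩ := exists_finite_rep_cover (hC U) s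
  obtain ⟨κ', _, W', f', g', hf', hfg'⟩ := exists_finite_rep_cover (hC U') s'
  refine isQC_of_finite_jEpi _ (JEpi.pullback_map s s' _ _ hf hf') fun p => ?_
  exact IsQC.of_iso (isQC_eps_of_isQCSite (hC _))
    ((isPullback_epsMap (g p.1) (g' p.2)).isoPullback ≪≫
      (pullback.congrHom (hfg _) (hfg' _)).symm)

/-- SGA 4 VI 2.1-type statement: on a site with fibre products all of whose objects are
quasi-compact, sheafified representables are coherent. -/
theorem isCoherent_eps [HasPullbacks C] (hC : ∀ X : C, IsQCSite J X) (X : C) :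
    IsCoherent (eps J X) := by
  refine ⟨isQC_eps_of_isQCSite (hC X), isQS_of_generators coveredBy_eps
    (by rintro K ⟨U, rfl⟩; exact isQC_eps_of_isQCSite (hC U)) ?_⟩
  rintro K L s s' ⟨U, rfl⟩ ⟨U', rfl⟩
  exact isQC_pullback_eps hC s s'

/-! ### Inverse images of sheafified representables -/

/-- Two objects corepresenting the same "functor" are isomorphic. -/
def isoOfHomEquiv {E : Type*} [Category* E] {A B : E} (T : E → Type w)
    (tmap : ∀ {Z Z' : E}, (Z ⟶ Z') → T Z → T Z')
    (Φ : ∀ Z, (A ⟶ Z) ≃ T Z) (Ψ : ∀ Z, (B ⟶ Z) ≃ T Z)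
    (hΦ : ∀ {Z Z' : E} (φ : A ⟶ Z) (ψ : Z ⟶ Z'), Φ Z' (φ ≫ ψ) = tmap ψ (Φ Z φ))
    (hΨ : ∀ {Z Z' : E} (φ : B ⟶ Z) (ψ : Z ⟶ Z'), Ψ Z' (φ ≫ ψ) = tmap ψ (Ψ Z φ)) : A ≅ B where
  hom := (Φ B).symm (Ψ B (𝟙 B))
  inv := (Ψ A).symm (Φ A (𝟙 A))
  hom_inv_id := by
    apply (Φ A).injective
    rw [hΦ, Equiv.apply_symm_apply, ← hΨ, Category.id_comp, Equiv.apply_symm_apply]
  inv_hom_id := by
    apply (Ψ B).injective
    rw [hΨ, Equiv.apply_symm_apply, ← hΦ, Category.id_comp, Equiv.apply_symm_apply]

/-- The inverse image of a sheafified representable along a continuous functor is the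
sheafified representable of the image. -/
noncomputable def sheafPullbackEpsIso {D : Type u} [SmallCategory D] (K : GrothendieckTopology D)
    (G : C ⥤ D) [Functor.IsContinuous G J K] (U : C) :
    (G.sheafPullback (Type u) J K).obj (eps J U) ≅ eps K (G.obj U) :=
  isoOfHomEquiv (fun Z : Sh K => Z.obj.obj (op (G.obj U)))
    (fun {Z Z'} ψ => ψ.hom.app (op (G.obj U)))
    (fun Z => ((G.sheafAdjunctionContinuous (Type u) J K).homEquiv (eps J U) Z).trans
      (shYonedaEquiv J U ((G.sheafPushforwardContinuous (Type u) J K).obj Z)))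
    (fun Z => shYonedaEquiv K (G.obj U) Z)
    (fun {Z Z'} φ ψ => by
      simp only [Equiv.trans_apply]
      rw [Adjunction.homEquiv_naturality_right]
      exact shYonedaEquiv_comp J _ _)
    (fun {Z Z'} φ ψ => shYonedaEquiv_comp K φ ψ)

/-! ### Quasi-separated objects over a sheafified representable (SGA 4 VI 2.1) -/

section OverEps

variable [HasPullbacks C] (hC : ∀ X : C, IsQCSite J X)
include hC

/-- Every morphism between sheafified representables is quasi-separated. -/
lemma isQSHom_eps {U X : C} (s : eps J U ⟶ eps J X) : IsQSHom s := by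
  obtain ⟨κ, _, W, f, g, hf, hfg⟩ := exists_finite_rep_cover (hC U) s
  refine isQSHom_of_cover_of_isQS (coveredBy_eps_isQC hC) s (fun k => epsMap J (f k)) hf
    (fun k => isQC_eps_of_isQCSite (hC _)) (fun k l => ?_) (isCoherent_eps hC U).2
  exact IsQS.of_iso (isCoherent_eps hC _).2
    ((isPullback_epsMap (g k) (g l)).isoPullback ≪≫ (pullback.congrHom (hfg _) (hfg _)).symm)

/-- Fibre products of sheafified representables over a sheafified representable are
quasi-separated. -/
lemma isQS_pullback_eps {U U' X : C} (s : eps J U ⟶ eps J X) (s' : eps J U' ⟶ eps J X) :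
    IsQS (pullback s s') :=
  isQS_of_isQSHom (pullback.fst s s')
    ((qcHom (J := J)).diagonal.pullback_fst s s' (isQSHom_eps hC s')) (isCoherent_eps hC U).2

/-- Every morphism from a quasi-separated object to a sheafified representable is
quasi-separated. -/
lemma isQSHom_to_eps {G : Sh J} {X : C} (g : G ⟶ eps J X) (hG : IsQS G) : IsQSHom g := by
  obtain ⟨ι, F, π, hF, hπ⟩ := coveredBy_eps (J := J) G
  refine isQSHom_of_cover_of_isQS (coveredBy_eps_isQC hC) g π hπ
    (fun i => by obtain ⟨U, hU⟩ := hF i; rw [hU]; exact isQC_eps_of_isQCSite (hC U))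
    (fun i j => ?_) hG
  obtain ⟨U, hU⟩ := hF i
  obtain ⟨U', hU'⟩ := hF j
  generalize π i = a
  generalize π j = b
  generalize F i = A at hU a
  generalize F j = B at hU' b
  subst hU
  subst hU'
  exact isQS_pullback_eps hC (a ≫ g) (b ≫ g)

end OverEps

end Groth.Agent.Lib.Helper9
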