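import Groth.Agent.Lib.Helper9TFCoh
set_option autoImplicit false
open CategoryTheory CategoryTheory.Limits Opposite
universe u
open ToposFin
open Groth.Agent.S12106

namespace Groth.Agent.Lib.Helper9.TFTop

variable {C : Type u} [SmallCategory C] (J : GrothendieckTopology C)

@[instance_reducible]
noncomputable def uniqSec (V : Cᵒᵖ) : Unique ((⊤_ (Sh J)).obj.obj V) :=
  (Types.isTerminalEquivUnique _)
    (IsTerminal.isTerminalObj (sheafToPresheaf J (Type u) ⋙ (evaluation _ _).obj V) _ terminalIsTerminal)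

/-- the free abelian presheaf on the terminal sheaf is the constant presheaf `ULift ℤ` -/
noncomputable def freePresheafIso :
    (⊤_ (Sh J)).obj ⋙ AddCommGrpCat.free.{u} ≅ (Functor.const Cᵒᵖ).obj (AddCommGrpCat.of (ULift.{u} ℤ)) :=
  NatIso.ofComponents
    (fun V => (letI := uniqSec J V
               (FreeAbelianGroup.uniqueEquiv ((⊤_ (Sh J)).obj.obj V)).trans AddEquiv.ulift.symm).toAddCommGrpIso)
    (by
      intro V V' g
      ext x
      let _ := uniqSec J V
      let _ := uniqSec J V'
      change (((FreeAbelianGroup.uniqueEquiv ((⊤_ (Sh J)).obj.obj V')).trans AddEquiv.ulift.symm)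
          (FreeAbelianGroup.map ((⊤_ (Sh J)).obj.map g) x)) =
        ((FreeAbelianGroup.uniqueEquiv ((⊤_ (Sh J)).obj.obj V)).trans AddEquiv.ulift.symm) x
      induction x using FreeAbelianGroup.induction_on with
      | zero => simp
      | of k =>
          simp only [FreeAbelianGroup.map_of_apply, AddEquiv.trans_apply]
          rw [Subsingleton.elim ((⊤_ (Sh J)).obj.map g k) default, Subsingleton.elim k default]
          simp [FreeAbelianGroup.uniqueEquiv, FreeAbelianGroup.lift_apply_of]
      | neg k ih => simp only [map_neg, FreeAbelianGroup.map_of_apply, AddEquiv.trans_apply] at ih ⊢; rw [ih]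
      | add x y hx hy => rw [map_add, map_add, hx, hy, map_add])

/-- `ℤ[⊤] ≅` the constant sheaf `ULift ℤ` -/
noncomputable def freeTopIsoConstant :
    (Φ J).obj (⊤_ (Sh J)) ≅ (constantSheaf J AddCommGrpCat.{u}).obj (AddCommGrpCat.of (ULift.{u} ℤ)) :=
  (presheafToSheaf J AddCommGrpCat.{u}).mapIso (freePresheafIso J)

/-- `Sheaf.functorH` is Ext out of the constant sheaf -/
noncomputable def functorHIso (q : ℕ) :
    (Sheaf.functorH J q : Sheaf J AddCommGrpCat.{u} ⥤ AddCommGrpCat.{u}) ≅
      (Abelian.extFunctor.{u} q).obj (op ((constantSheaf J AddCommGrpCat.{u}).obj (AddCommGrpCat.of (ULift.{u} ℤ)))) :=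
  NatIso.ofComponents (fun F => Iso.refl _) (by
    intro F G f
    rfl)

/-- `Sheaf.functorH` is `H^q(⊤, -)` -/
noncomputable def functorHIsoTop (q : ℕ) :
    (Sheaf.functorH J q : Sheaf J AddCommGrpCat.{u} ⥤ AddCommGrpCat.{u}) ≅ HKFunctor (⊤_ (Sh J)) q :=
  functorHIso J q ≪≫ (Abelian.extFunctor.{u} q).mapIso (freeTopIsoConstant J).op

theorem preservesColimitsOfShape_functorH (hE : ToposFin.IsAlgebraic J) (hT : ToposFin.IsCoherent (⊤_ (ToposFin.Sh J)))
    (Λ : Type u) [SmallCategory Λ] [IsFiltered Λ] (q : ℕ) :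
    PreservesColimitsOfShape Λ (Sheaf.functorH J q : Sheaf J AddCommGrpCat.{u} ⥤ AddCommGrpCat.{u}) := by
  have h : PreservesColimitsOfShape Λ (HKFunctor (⊤_ (Sh J)) q) :=
    Groth.Agent.Lib.Helper9.TFCoh.preservesColimitsOfShape_ext_coherent hE (⊤_ _) hT Λ q
  exact preservesColimitsOfShape_of_natIso (functorHIsoTop J q).symm

end Groth.Agent.Lib.Helper9.TFTop
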