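import Mathlib
import Groth.Agent.Lib.Helper9TFTop
import Groth.Agent.Lib.Helper9QCSite
import Groth.Agent.Lib.Helper6TF16

/-!
# Sites with fibre products, binary products and quasi-compact objects give algebraic topoi (helper9)

* `GenData P`: a generating class `P` of coherent objects whose binary products are quasi-separated.
  Under `GenData P` the coherent objects are stable under fibre products and equalizers, hence the
  topos is algebraic (`isAlgebraic`).
* For a small site with fibre products and binary products all of whose objects are quasi-compact,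
  the sheafified representables satisfy `GenData` (`genData_eps`), the final object is
  quasi-separated (`isQS_top`), and it is coherent as soon as some sheafified representable covers it.
* `preservesColimitsOfShape_functorH`: cohomology of such a site commutes with filtered colimits.
-/

set_option autoImplicit false
set_option linter.unusedSectionVars false
universe u w
open CategoryTheory CategoryTheory.Limits Opposite

namespace Groth.Agent.Lib.Helper9.AlgSite

open ToposFin Groth.Agent.Lib.Helper6.TF

variable {C : Type u} [SmallCategory C] {J : GrothendieckTopology C}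

lemma gen_of_coveredBy {P : Sh J → Prop} (h : Groth.Agent.Lib.Helper9.CoveredBy (J := J) P) :
    Gen P := by
  intro X
  obtain ⟨ι, F, π, hF, hπ⟩ := h X
  exact ⟨ι, F, π, hF, (jepi_iff_jsep π).2 (fun Z a b hab => hπ a b hab)⟩

lemma coveredBy_of_gen {P : Sh J → Prop} (h : Gen P) :
    Groth.Agent.Lib.Helper9.CoveredBy (J := J) P := by
  intro X
  obtain ⟨ι, F, π, hF, hπ⟩ := h X
  exact ⟨ι, F, π, hF, fun Z a b hab => (jepi_iff_jsep π).1 hπ Z a b hab⟩

/-- a generating class of coherent objects with quasi-separated binary products -/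
structure GenData (P : Sh J → Prop) : Prop where
  gen : Gen P
  coh : ∀ K, P K → IsCoherent K
  prod : ∀ K L, P K → P L → IsQS (K ⨯ L)

section GenData

variable {P : Sh J → Prop}

theorem isQSHom_of_isQS (G : GenData P) {X Y : Sh J} (f : X ⟶ Y) (hX : IsQS X) : IsQSHom f :=
  isQSHom_of_qs_source G.gen G.coh G.prod f hX

theorem isQC_equalizer (G : GenData P) {K K' : Sh J} (a b : K ⟶ K') (hK : IsQC K)
    (hK' : IsQS K') : IsQC (equalizer a b) := by
  have h0 : IsQSHom (terminal.from K') := isQSHom_of_isQS G _ hK'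
  rw [Groth.Agent.Lib.Helper6.TF.isQSHom_iff] at h0
  exact h0 (equalizer.ι a b) a b (Subsingleton.elim _ _) (equalizer_eqSec a b) hK

theorem isCoherent_equalizer (G : GenData P) {K K' : Sh J} (a b : K ⟶ K') (hK : IsCoherent K)
    (hK' : IsQS K') : IsCoherent (equalizer a b) :=
  ⟨isQC_equalizer G a b hK.1 hK', Groth.Agent.Lib.Helper6.TF.isQS_of_mono (equalizer.ι a b) hK.2⟩

theorem isCoherent_pullback (G : GenData P) {K L M : Sh J} (f : K ⟶ M) (g : L ⟶ M)
    (hK : IsCoherent K) (hL : IsCoherent L) (hM : IsQS M) : IsCoherent (pullback f g) := by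
  refine ⟨hM _ _ f g hK.1 hL.1, ?_⟩
  have hg : IsQSHom g := isQSHom_of_isQS G g hL.2
  have hfst : IsQSHom (pullback.fst f g) :=
    IsQSHom.base_change (pullback_pbSec f g).flip hg
  exact Groth.Agent.Lib.Helper6.TF.isQS_of_isQSHom _ hfst hK.2

theorem isAlgebraic (G : GenData P) : IsAlgebraic J := by
  refine ⟨{K | IsCoherent K}, fun K hK => hK.1, ?_, ?_, ?_⟩
  · intro X
    obtain ⟨ι, F, π, hF, hπ⟩ := G.gen X
    exact ⟨ι, F, π, fun i => G.coh _ (hF i), (jepi_iff_jsep π).1 hπ⟩
  · intro K L M f g hK hL hM
    exact ⟨pullback f g, pullback.fst f g, pullback.snd f g,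
      isCoherent_pullback G f g hK hL hM.2, IsPullback.of_hasPullback f g⟩
  · intro K L a b hK hL
    exact ⟨equalizer a b, equalizer.ι a b, equalizer.condition a b,
      isCoherent_equalizer G a b hK hL.2, ⟨equalizerIsEqualizer a b⟩⟩

end GenData

section Site

open Groth.Agent.Lib.Helper9

variable [HasPullbacks C] [HasBinaryProducts C]

/-- `ε` preserves binary products -/
noncomputable def epsProdIsLimit (U V : C) :
    IsLimit (BinaryFan.mk (epsMap J (prod.fst : U ⨯ V ⟶ U)) (epsMap J (prod.snd : U ⨯ V ⟶ V))) :=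
  mapIsLimitOfPreservesOfIsLimit (yoneda ⋙ presheafToSheaf J (Type u)) _ _ (prodIsProd U V)

noncomputable def epsProdIso (U V : C) : eps J (U ⨯ V) ≅ eps J U ⨯ eps J V :=
  (epsProdIsLimit (J := J) U V).conePointUniqueUpToIso (limit.isLimit (pair (eps J U) (eps J V)))

theorem genData_eps (hC : ∀ X : C, IsQCSite J X) :
    GenData (J := J) (fun K => ∃ U : C, K = eps J U) where
  gen := gen_of_coveredBy coveredBy_eps
  coh := by
    rintro K ⟨U, rfl⟩
    exact isCoherent_eps hC U
  prod := by
    rintro K L ⟨U, rfl⟩ ⟨V, rfl⟩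
    exact Groth.Agent.Lib.Helper6.TF.isQS_of_iso (epsProdIso U V) (isCoherent_eps hC (U ⨯ V)).2

theorem isQS_top (hC : ∀ X : C, IsQCSite J X) : IsQS (⊤_ (Sh J)) := by
  refine isQS_of_generators coveredBy_eps
    (by rintro K ⟨U, rfl⟩; exact isQC_eps_of_isQCSite (hC U)) ?_
  rintro K L s s' ⟨U, rfl⟩ ⟨V, rfl⟩
  have h1 : IsPullback (prod.fst : eps J U ⨯ eps J V ⟶ _) prod.snd s s' := by
    have := IsPullback.of_is_product' (prodIsProd (eps J U) (eps J V)) (terminalIsTerminal (C := Sh J))
    convert this using 1 <;> exact Subsingleton.elim _ _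
  exact Groth.Agent.Lib.Helper9.IsQC.of_iso (isQC_eps_of_isQCSite (hC (U ⨯ V)))
    (epsProdIso U V ≪≫ h1.isoPullback)

theorem isCoherent_top (hC : ∀ X : C, IsQCSite J X) (U₀ : C)
    (h : Epi (terminal.from (eps J U₀))) : IsCoherent (⊤_ (Sh J)) :=
  ⟨Groth.Agent.Lib.Helper9.isQC_of_epi (terminal.from (eps J U₀)) (isQC_eps_of_isQCSite (hC U₀)),
    isQS_top hC⟩

/-- a family of objects such that every object is covered by objects mapping to a member of the
family covers the final sheaf -/
lemma jEpi_terminal_from_eps {κ : Type w} (U : κ → C)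
    (h : ∀ V : C, ∃ R ∈ J V, ∀ ⦃W : C⦄ (f : W ⟶ V), R f → ∃ k, Nonempty (W ⟶ U k)) :
    Groth.Agent.Lib.Helper9.JEpi (fun k => terminal.from (eps J (U k))) := by
  rw [jEpi_iff_famImageSieve_mem]
  intro V x
  obtain ⟨R, hR, hR'⟩ := h V
  refine J.superset_covering ?_ hR
  intro W f hf
  obtain ⟨k, ⟨g⟩⟩ := hR' f hf
  refine ⟨k, (toSheafify J (yoneda.obj (U k))).app (op W) g, ?_⟩
  haveI := Groth.Agent.Lib.Helper9.TFTop.uniqSec J (op W)
  exact Subsingleton.elim _ _

theorem isCoherent_top' (hC : ∀ X : C, IsQCSite J X) {κ : Type w} [Finite κ] (U : κ → C)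
    (h : Groth.Agent.Lib.Helper9.JEpi (fun k => terminal.from (eps J (U k)))) :
    IsCoherent (⊤_ (Sh J)) :=
  ⟨isQC_of_finite_jEpi _ h (fun k => isQC_eps_of_isQCSite (hC (U k))), isQS_top hC⟩

/-- cohomology commutes with filtered colimits on a site with fibre products and binary products
all of whose objects are quasi-compact and which has a finite weakly final family -/
theorem preservesColimitsOfShape_functorH' (hC : ∀ X : C, IsQCSite J X) {κ : Type w} [Finite κ]
    (U : κ → C) (h : ∀ V : C, ∃ R ∈ J V, ∀ ⦃W : C⦄ (f : W ⟶ V), R f → ∃ k, Nonempty (W ⟶ U k))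
    (Λ : Type u) [SmallCategory Λ] [IsFiltered Λ] (q : ℕ) :
    PreservesColimitsOfShape Λ
      (Sheaf.functorH J q : Sheaf J AddCommGrpCat.{u} ⥤ AddCommGrpCat.{u}) :=
  Groth.Agent.Lib.Helper9.TFTop.preservesColimitsOfShape_functorH J (isAlgebraic (genData_eps hC))
    (isCoherent_top' hC U (jEpi_terminal_from_eps U h)) Λ q

theorem isAlgebraic_of_site (hC : ∀ X : C, IsQCSite J X) : IsAlgebraic J :=
  isAlgebraic (genData_eps hC)

/-- cohomology commutes with filtered colimits on a site with fibre products and binary products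
all of whose objects are quasi-compact and which has a weakly final object -/
theorem preservesColimitsOfShape_functorH (hC : ∀ X : C, IsQCSite J X) (U₀ : C)
    (h : Epi (terminal.from (eps J U₀))) (Λ : Type u) [SmallCategory Λ] [IsFiltered Λ] (q : ℕ) :
    PreservesColimitsOfShape Λ
      (Sheaf.functorH J q : Sheaf J AddCommGrpCat.{u} ⥤ AddCommGrpCat.{u}) :=
  Groth.Agent.Lib.Helper9.TFTop.preservesColimitsOfShape_functorH J (isAlgebraic_of_site hC)
    (isCoherent_top hC U₀ h) Λ q

end Site

end Groth.Agent.Lib.Helper9.AlgSite
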