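import Mathlib

/-!
# Finite approximation of an empty fibre (helper9)
Tensor-free ring lemma behind "universally closed can be tested on affine spaces": if `D` is generated by the
images of `C` and `B`, `𝔞` is an ideal of `D` and `𝔮` a prime of `B` such that no prime of `D` containing `𝔞` lies over
`𝔮`, then a finite subset `F` of `B` already witnesses this: for every ring `A'` mapping to `B` with `F` in the image
and every ring `D₀` receiving `C` and `A'` and mapping compatibly to `D`, no prime of `D₀` containing the preimage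
of `𝔞` lies over the preimage of `𝔮`.
-/

set_option autoImplicit false
universe u

namespace Groth.Agent.Lib.Helper9.AnRing

variable {B C D : Type u} [CommRing B] [CommRing C] [CommRing D]

/-- `d` lifts along every approximation containing a finite set. -/
def Good (iC : C →+* D) (iB : B →+* D) (d : D) : Prop :=
  ∃ F : Finset B, ∀ (A' D₀ : Type u) [CommRing A'] [CommRing D₀] (φ : A' →+* B) (jC : C →+* D₀)
    (jA : A' →+* D₀) (Φ : D₀ →+* D), Φ.comp jC = iC → Φ.comp jA = iB.comp φ →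
    (↑F : Set B) ⊆ Set.range φ → d ∈ Set.range Φ

open Classical in
lemma good_of_closure (iC : C →+* D) (iB : B →+* D)
    (hgen : Subring.closure (Set.range iC ∪ Set.range iB) = ⊤) (d : D) : Good iC iB d := by
  have hd : d ∈ Subring.closure (Set.range iC ∪ Set.range iB) := by rw [hgen]; trivial
  induction hd using Subring.closure_induction with
  | mem x hx =>
    rcases hx with ⟨c, rfl⟩ | ⟨b, rfl⟩
    · refine ⟨∅, fun A' D₀ _ _ φ jC jA Φ h1 h2 _ => ⟨jC c, ?_⟩⟩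
      rw [← h1]; rfl
    · refine ⟨{b}, fun A' D₀ _ _ φ jC jA Φ h1 h2 hF => ?_⟩
      obtain ⟨b₀, hb₀⟩ := hF (show b ∈ (↑({b} : Finset B) : Set B) by simp)
      refine ⟨jA b₀, ?_⟩
      have := congrArg (fun k => k b₀) h2
      simp only [RingHom.comp_apply] at this
      rw [this, hb₀]
  | zero => exact ⟨∅, fun A' D₀ _ _ φ jC jA Φ _ _ _ => ⟨0, map_zero Φ⟩⟩
  | one => exact ⟨∅, fun A' D₀ _ _ φ jC jA Φ _ _ _ => ⟨1, map_one Φ⟩⟩
  | add x y _ _ hx hy =>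
    obtain ⟨Fx, hFx⟩ := hx
    obtain ⟨Fy, hFy⟩ := hy
    refine ⟨Fx ∪ Fy, fun A' D₀ _ _ φ jC jA Φ h1 h2 hF => ?_⟩
    obtain ⟨x₀, rfl⟩ := hFx A' D₀ φ jC jA Φ h1 h2
      (fun b hb => hF (by simp only [Finset.coe_union]; exact Or.inl hb))
    obtain ⟨y₀, rfl⟩ := hFy A' D₀ φ jC jA Φ h1 h2
      (fun b hb => hF (by simp only [Finset.coe_union]; exact Or.inr hb))
    exact ⟨x₀ + y₀, map_add Φ _ _⟩
  | neg x _ hx =>
    obtain ⟨Fx, hFx⟩ := hx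
    refine ⟨Fx, fun A' D₀ _ _ φ jC jA Φ h1 h2 hF => ?_⟩
    obtain ⟨x₀, rfl⟩ := hFx A' D₀ φ jC jA Φ h1 h2 hF
    exact ⟨-x₀, map_neg Φ _⟩
  | mul x y _ _ hx hy =>
    obtain ⟨Fx, hFx⟩ := hx
    obtain ⟨Fy, hFy⟩ := hy
    refine ⟨Fx ∪ Fy, fun A' D₀ _ _ φ jC jA Φ h1 h2 hF => ?_⟩
    obtain ⟨x₀, rfl⟩ := hFx A' D₀ φ jC jA Φ h1 h2
      (fun b hb => hF (by simp only [Finset.coe_union]; exact Or.inl hb))
    obtain ⟨y₀, rfl⟩ := hFy A' D₀ φ jC jA Φ h1 h2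
      (fun b hb => hF (by simp only [Finset.coe_union]; exact Or.inr hb))
    exact ⟨x₀ * y₀, map_mul Φ _ _⟩

/-- `β` lifts to an element lying in every prime over `𝔮`. -/
def Nice (iC : C →+* D) (iB : B →+* D) (𝔮 : Ideal B) (β : D) : Prop :=
  ∃ F : Finset B, ∀ (A' D₀ : Type u) [CommRing A'] [CommRing D₀] (φ : A' →+* B) (jC : C →+* D₀)
    (jA : A' →+* D₀) (Φ : D₀ →+* D), Φ.comp jC = iC → Φ.comp jA = iB.comp φ →
    (↑F : Set B) ⊆ Set.range φ → ∃ β₀ : D₀, Φ β₀ = β ∧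
      ∀ P₀ : Ideal D₀, P₀.IsPrime → P₀.comap jA = 𝔮.comap φ → β₀ ∈ P₀

open Classical in
lemma nice_of_mem_map (iC : C →+* D) (iB : B →+* D)
    (hgen : Subring.closure (Set.range iC ∪ Set.range iB) = ⊤) (𝔮 : Ideal B) (β : D)
    (hβ : β ∈ 𝔮.map iB) : Nice iC iB 𝔮 β := by
  change β ∈ Ideal.span (iB '' (𝔮 : Set B)) at hβ
  induction hβ using Submodule.span_induction with
  | mem x hx =>
    obtain ⟨q, hq, rfl⟩ := hx
    refine ⟨{q}, fun A' D₀ _ _ φ jC jA Φ h1 h2 hF => ?_⟩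
    obtain ⟨q₀, hq₀⟩ := hF (show q ∈ (↑({q} : Finset B) : Set B) by simp)
    refine ⟨jA q₀, ?_, fun P₀ _ hP₀ => ?_⟩
    · have := congrArg (fun k => k q₀) h2
      simp only [RingHom.comp_apply] at this
      rw [this, hq₀]
    · have : q₀ ∈ P₀.comap jA := by
        rw [hP₀, Ideal.mem_comap, hq₀]
        exact hq
      exact this
  | zero => exact ⟨∅, fun A' D₀ _ _ φ jC jA Φ _ _ _ => ⟨0, map_zero Φ, fun P₀ _ _ => P₀.zero_mem⟩⟩
  | add x y _ _ hx hy =>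
    obtain ⟨Fx, hFx⟩ := hx
    obtain ⟨Fy, hFy⟩ := hy
    refine ⟨Fx ∪ Fy, fun A' D₀ _ _ φ jC jA Φ h1 h2 hF => ?_⟩
    obtain ⟨x₀, rfl, hx₀⟩ := hFx A' D₀ φ jC jA Φ h1 h2
      (fun b hb => hF (by simp only [Finset.coe_union]; exact Or.inl hb))
    obtain ⟨y₀, rfl, hy₀⟩ := hFy A' D₀ φ jC jA Φ h1 h2
      (fun b hb => hF (by simp only [Finset.coe_union]; exact Or.inr hb))
    exact ⟨x₀ + y₀, map_add Φ _ _, fun P₀ hP hP₀ => P₀.add_mem (hx₀ P₀ hP hP₀) (hy₀ P₀ hP hP₀)⟩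
  | smul d x _ hx =>
    obtain ⟨Fx, hFx⟩ := hx
    obtain ⟨Fd, hFd⟩ := good_of_closure iC iB hgen d
    refine ⟨Fd ∪ Fx, fun A' D₀ _ _ φ jC jA Φ h1 h2 hF => ?_⟩
    obtain ⟨d₀, rfl⟩ := hFd A' D₀ φ jC jA Φ h1 h2
      (fun b hb => hF (by simp only [Finset.coe_union]; exact Or.inl hb))
    obtain ⟨x₀, rfl, hx₀⟩ := hFx A' D₀ φ jC jA Φ h1 h2
      (fun b hb => hF (by simp only [Finset.coe_union]; exact Or.inr hb))
    refine ⟨d₀ * x₀, ?_, fun P₀ hP hP₀ => P₀.mul_mem_left _ (hx₀ P₀ hP hP₀)⟩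
    rw [map_mul, smul_eq_mul]

open Classical in
theorem exists_finset_separating (iC : C →+* D) (iB : B →+* D)
    (hgen : Subring.closure (Set.range iC ∪ Set.range iB) = ⊤) (𝔞 : Ideal D) (𝔮 : Ideal B)
    [h𝔮 : 𝔮.IsPrime] (h : ∀ P : Ideal D, P.IsPrime → 𝔞 ≤ P → P.comap iB ≠ 𝔮) :
    ∃ F : Finset B, ∀ (A' D₀ : Type u) [CommRing A'] [CommRing D₀] (φ : A' →+* B) (jC : C →+* D₀)
      (jA : A' →+* D₀) (Φ : D₀ →+* D), Φ.comp jC = iC → Φ.comp jA = iB.comp φ →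
      (↑F : Set B) ⊆ Set.range φ → ∀ P₀ : Ideal D₀, P₀.IsPrime → 𝔞.comap Φ ≤ P₀ →
        P₀.comap jA ≠ 𝔮.comap φ := by
  -- step 1
  obtain ⟨g, hg𝔮, hg⟩ : ∃ g : B, g ∉ 𝔮 ∧ iB g ∈ 𝔮.map iB ⊔ 𝔞 := by
    set f : B →+* D ⧸ 𝔞 := (Ideal.Quotient.mk 𝔞).comp iB with hf
    have hne : (𝔮.map f).comap f ≠ 𝔮 := by
      intro he
      obtain ⟨Q, hQ, hQ𝔮⟩ := (Ideal.comap_map_eq_self_iff_of_isPrime (f := f) 𝔮).1 he
      refine h (Q.comap (Ideal.Quotient.mk 𝔞)) (Ideal.comap_isPrime _ _) ?_ ?_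
      · intro a ha
        rw [Ideal.mem_comap, Ideal.Quotient.eq_zero_iff_mem.2 ha]
        exact Q.zero_mem
      · rw [Ideal.comap_comap]
        exact hQ𝔮
    have hle : 𝔮 ≤ (𝔮.map f).comap f := Ideal.le_comap_map
    obtain ⟨g, hg1, hg2⟩ := SetLike.exists_of_lt (lt_of_le_of_ne hle (Ne.symm hne))
    refine ⟨g, hg2, ?_⟩
    rw [Ideal.mem_comap, hf, ← Ideal.map_map] at hg1
    exact Ideal.mem_quotient_iff_mem_sup.1 hg1
  obtain ⟨β, hβ, α, hα, hαβ⟩ := Submodule.mem_sup.1 hg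
  obtain ⟨Fβ, hFβ⟩ := nice_of_mem_map iC iB hgen 𝔮 β hβ
  refine ⟨insert g Fβ, fun A' D₀ _ _ φ jC jA Φ h1 h2 hF P₀ hP₀ hle heq => ?_⟩
  obtain ⟨g₀, hg₀⟩ := hF (show g ∈ (↑(insert g Fβ) : Set B) by simp)
  obtain ⟨β₀, hβ₀, hβ₀P⟩ := hFβ A' D₀ φ jC jA Φ h1 h2
    (fun b hb => hF (by simp only [Finset.coe_insert]; exact Or.inr hb))
  have hΦg : Φ (jA g₀) = iB g := by
    have := congrArg (fun k => k g₀) h2
    simp only [RingHom.comp_apply] at this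
    rw [this, hg₀]
  have hα₀ : jA g₀ - β₀ ∈ 𝔞.comap Φ := by
    rw [Ideal.mem_comap, map_sub, hΦg, hβ₀, ← hαβ, add_sub_cancel_left]
    exact hα
  have h3 : jA g₀ ∈ P₀ := by
    have := P₀.add_mem (hle hα₀) (hβ₀P P₀ hP₀ heq)
    rwa [sub_add_cancel] at this
  have h4 : g₀ ∈ P₀.comap jA := h3
  rw [heq, Ideal.mem_comap, hg₀] at h4
  exact hg𝔮 h4

end Groth.Agent.Lib.Helper9.AnRing
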