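import Mathlib
import Groth.Agent.Lib.Helper9AnRing

/-!
# Finite approximation of an empty fibre, affine schemes (helper9)
-/

set_option autoImplicit false
set_option linter.style.haveILetI false
universe u
open CategoryTheory CategoryTheory.Limits AlgebraicGeometry Opposite

namespace Groth.Agent.Lib.Helper9.AnAffine

/-- a pushout of commutative rings is generated by the two images. -/
lemma closure_eq_top_of_isPushout {A B C D : CommRingCat.{u}} {aC : A ⟶ C} {aB : A ⟶ B} {iC : C ⟶ D}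
    {iB : B ⟶ D} (h : IsPushout aC aB iC iB) :
    Subring.closure (Set.range iC.hom ∪ Set.range iB.hom) = ⊤ := by
  obtain ⟨D', hD'⟩ : ∃ D' : Subring D, D' = Subring.closure (Set.range iC.hom ∪ Set.range iB.hom) :=
    ⟨_, rfl⟩
  rw [← hD']
  let ι : CommRingCat.of D' ⟶ D := CommRingCat.ofHom D'.subtype
  let iC' : C ⟶ CommRingCat.of D' := CommRingCat.ofHom (iC.hom.codRestrict D' (fun c => by
    rw [hD']; exact Subring.subset_closure (Or.inl ⟨c, rfl⟩)))
  let iB' : B ⟶ CommRingCat.of D' := CommRingCat.ofHom (iB.hom.codRestrict D' (fun b => by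
    rw [hD']; exact Subring.subset_closure (Or.inr ⟨b, rfl⟩)))
  have hC : iC' ≫ ι = iC := by ext; rfl
  have hB : iB' ≫ ι = iB := by ext; rfl
  have hw : aC ≫ iC' = aB ≫ iB' := by
    ext a
    have := congrArg (fun k => k.hom a) h.w
    exact this
  have hr : h.desc iC' iB' hw ≫ ι = 𝟙 D := by
    apply h.hom_ext
    · rw [← Category.assoc, h.inl_desc, hC, Category.comp_id]
    · rw [← Category.assoc, h.inr_desc, hB, Category.comp_id]
  rw [eq_top_iff]
  intro d _
  have h1 : ι.hom ((h.desc iC' iB' hw).hom d) = d := by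
    have := congrArg (fun k => k.hom d) hr
    exact this
  rw [← h1]
  exact ((h.desc iC' iB' hw).hom d).2

/-- the prime of global sections attached to a point of an affine scheme. -/
noncomputable def pt (X : Scheme.{u}) [IsAffine X] (x : X) : PrimeSpectrum Γ(X, ⊤) := X.isoSpec.hom x

lemma pt_injective (X : Scheme.{u}) [IsAffine X] : Function.Injective (pt X) :=
  X.isoSpec.hom.homeomorph.injective

lemma pt_map {X Y : Scheme.{u}} [IsAffine X] [IsAffine Y] (f : X ⟶ Y) (x : X) :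
    pt Y (f x) = PrimeSpectrum.comap f.appTop.hom (pt X x) := by
  have h := Scheme.isoSpec_hom_naturality f
  have h2 := congrArg (fun k : X ⟶ Spec Γ(Y, ⊤) => k x) h
  simp only [Scheme.Hom.comp_apply] at h2
  exact h2.symm

lemma isClosed_pt_image (X : Scheme.{u}) [IsAffine X] (T : Set X) (hT : IsClosed T) :
    IsClosed (pt X '' T) :=
  X.isoSpec.hom.homeomorph.isClosedMap T hT

lemma continuous_pt (X : Scheme.{u}) [IsAffine X] : Continuous (pt X) :=
  X.isoSpec.hom.continuous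

theorem exists_finset_affineSpace {V W Z M : Scheme.{u}} [IsAffine V] [IsAffine W] [IsAffine Z]
    (gW : W ⟶ V) (g' : Z ⟶ V) (p₁ : M ⟶ W) (p₂ : M ⟶ Z) (hM : IsPullback p₁ p₂ gW g')
    (T : Set M) (hT : IsClosed T) (z : Z) (hz : z ∉ p₂ '' T) :
    ∃ F : Finset Γ(Z, ⊤), ∀ (n : Type u) (v : n → Γ(Z, ⊤)), (↑F : Set Γ(Z, ⊤)) ⊆ Set.range v →
      ∀ (M' : Scheme.{u}) (q₁ : M' ⟶ W) (q₂ : M' ⟶ 𝔸(n; V)),
        IsPullback q₁ q₂ gW (𝔸(n; V) ↘ V) → ∀ θ : M ⟶ M', θ ≫ q₁ = p₁ →
          θ ≫ q₂ = p₂ ≫ AffineSpace.homOfVector g' v →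
          AffineSpace.homOfVector g' v z ∉ q₂ '' closure (θ '' T) := by
  haveI : IsAffine M := IsAffine.of_isPullback hM
  have hpush := isPushout_appTop_of_isPullback hM
  have hgen := closure_eq_top_of_isPushout hpush
  obtain ⟨𝔞, h𝔞⟩ : ∃ 𝔞 : Ideal Γ(M, ⊤), 𝔞 = PrimeSpectrum.vanishingIdeal (pt M '' T) := ⟨_, rfl⟩
  have hzl : PrimeSpectrum.zeroLocus (𝔞 : Set Γ(M, ⊤)) = pt M '' T := by
    rw [h𝔞, PrimeSpectrum.zeroLocus_vanishingIdeal_eq_closure]
    exact (isClosed_pt_image M T hT).closure_eq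
  haveI : (pt Z z).asIdeal.IsPrime := (pt Z z).isPrime
  have hsep : ∀ P : Ideal Γ(M, ⊤), P.IsPrime → 𝔞 ≤ P → P.comap p₂.appTop.hom ≠ (pt Z z).asIdeal := by
    intro P hP hle heq
    have hmem : (⟨P, hP⟩ : PrimeSpectrum Γ(M, ⊤)) ∈ PrimeSpectrum.zeroLocus (𝔞 : Set Γ(M, ⊤)) := hle
    rw [hzl] at hmem
    obtain ⟨t, ht, htP⟩ := hmem
    apply hz
    refine ⟨t, ht, ?_⟩
    apply pt_injective Z
    rw [pt_map, htP]
    exact PrimeSpectrum.ext heq
  obtain ⟨F, hF⟩ := Groth.Agent.Lib.Helper9.AnRing.exists_finset_separating p₁.appTop.hom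
    p₂.appTop.hom hgen 𝔞 (pt Z z).asIdeal hsep
  refine ⟨F, fun n v hFv M' q₁ q₂ hM' θ hθ1 hθ2 => ?_⟩
  haveI : IsAffine M' := IsAffine.of_isPullback hM'
  rintro ⟨m', hm', hq⟩
  have h1 : θ.appTop.hom.comp q₁.appTop.hom = p₁.appTop.hom := by
    rw [← hθ1, Scheme.Hom.comp_appTop]
    rfl
  have h2 : θ.appTop.hom.comp q₂.appTop.hom =
      p₂.appTop.hom.comp (AffineSpace.homOfVector g' v).appTop.hom := by
    have := congrArg (fun k => k.appTop.hom) hθ2
    simp only [Scheme.Hom.comp_appTop, CommRingCat.hom_comp] at this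
    exact this
  have hF' : (↑F : Set Γ(Z, ⊤)) ⊆ Set.range (AffineSpace.homOfVector g' v).appTop.hom := by
    intro b hb
    obtain ⟨i, rfl⟩ := hFv hb
    exact ⟨AffineSpace.coord V i, AffineSpace.homOfVector_appTop_coord g' v i⟩
  haveI : (pt M' m').asIdeal.IsPrime := (pt M' m').isPrime
  refine hF _ _ (AffineSpace.homOfVector g' v).appTop.hom q₁.appTop.hom q₂.appTop.hom θ.appTop.hom
    h1 h2 hF' (pt M' m').asIdeal inferInstance ?_ ?_
  · -- the closure
    have hcl : pt M' m' ∈ closure (pt M' '' (θ '' T)) :=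
      image_closure_subset_closure_image (continuous_pt M') ⟨m', hm', rfl⟩
    have hsub : closure (pt M' '' (θ '' T)) ⊆
        PrimeSpectrum.zeroLocus ((𝔞.comap θ.appTop.hom : Ideal Γ(M', ⊤)) : Set Γ(M', ⊤)) := by
      apply closure_minimal _ (PrimeSpectrum.isClosed_zeroLocus _)
      rintro _ ⟨_, ⟨t, ht, rfl⟩, rfl⟩
      rw [pt_map]
      intro a ha
      have hmem : pt M t ∈ PrimeSpectrum.zeroLocus (𝔞 : Set Γ(M, ⊤)) := by
        rw [hzl]; exact ⟨t, ht, rfl⟩
      exact hmem ha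
    exact hsub hcl
  · have e1 := pt_map q₂ m'
    have e2 := pt_map (AffineSpace.homOfVector g' v) z
    rw [hq] at e1
    have := e1.symm.trans e2
    exact congrArg PrimeSpectrum.asIdeal this

end Groth.Agent.Lib.Helper9.AnAffine
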