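import Mathlib
import Groth.Agent.Lib.Helper9AnAffine
import Groth.Agent.S9874
import Groth.Agent.S10175
import Groth.Agent.S10176
import Groth.Agent.S10177

/-!
# Universally closed morphisms can be tested on affine spaces: the main lemma (helper9)
-/

set_option autoImplicit false
set_option linter.style.haveILetI false
set_option backward.isDefEq.respectTransparency false
universe u
open CategoryTheory CategoryTheory.Limits AlgebraicGeometry Opposite
open AlgSp

namespace Groth.Agent.Lib.Helper9.AnSp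

variable {S : Scheme.{u}}

/-- affine `n`-space over `V`, as a scheme over `S`. -/
noncomputable abbrev An (n : ℕ) (V : Over S) : Over S :=
  Over.mk ((𝔸(ULift.{u} (Fin n); V.left) ↘ V.left) ≫ V.hom)

/-- the projection of affine space. -/
noncomputable abbrev AnProj (n : ℕ) (V : Over S) : An n V ⟶ V :=
  Over.homMk (𝔸(ULift.{u} (Fin n); V.left) ↘ V.left)

/-- a quasi-compact sheaf has a finite family of affine étale charts, jointly surjective on points. -/
lemma exists_finite_affine_charts {X' : AlgSp.Sp S} (hqc : AlgSp.IsQuasiCompactSp X') :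
    ∃ (m : ℕ) (W : Fin m → Over S) (b : ∀ j, (AlgSp.yon S).obj (W j) ⟶ X'),
      (∀ j, IsAffine (W j).left) ∧ (∀ j, AlgSp.RepWith @Etale (b j)) ∧
      ∀ x : AlgSp.Points X', ∃ (j : Fin m) (w : (W j).left), AlgSp.Points.ofPt (b j) w = x := by
  obtain ⟨W₀, b₀, hbe, hbs, hc⟩ := hqc
  haveI : CompactSpace W₀.left := hc
  have hinv : (MorphismProperty.inverseImage (@Etale.{u}) (Over.forget S)).IsStableUnderComposition :=
    MorphismProperty.IsStableUnderComposition.inverseImage _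
  haveI : (AlgSp.RepWith (S := S) @Etale.{u}).IsStableUnderComposition :=
    MorphismProperty.relative_isStableUnderComposition _
  let 𝒱 := W₀.left.affineCover.finiteSubcover
  let e : 𝒱.I₀ ≃ Fin (Fintype.card 𝒱.I₀) := Fintype.equivFin _
  let W : Fin (Fintype.card 𝒱.I₀) → Over S := fun j => Over.mk (𝒱.f (e.symm j) ≫ W₀.hom)
  let ιW : ∀ j, W j ⟶ W₀ := fun j => Over.homMk (𝒱.f (e.symm j)) rfl
  refine ⟨Fintype.card 𝒱.I₀, W, fun j => (AlgSp.yon S).map (ιW j) ≫ b₀, fun j => ?_, fun j => ?_,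
    fun x => ?_⟩
  · change IsAffine (𝒱.X (e.symm j))
    dsimp only [𝒱, Scheme.OpenCover.finiteSubcover]
    infer_instance
  · refine MorphismProperty.comp_mem _ _ _ ?_ hbe
    rw [AlgSp.repWith_yon_map_iff]
    change Etale (𝒱.f (e.symm j))
    infer_instance
  · obtain ⟨w₀, rfl⟩ := Groth.Agent.S10177.surjective_ofPt b₀ hbs x
    obtain ⟨i, y, rfl⟩ := 𝒱.exists_eq w₀
    obtain ⟨j, rfl⟩ := e.symm.surjective i
    exact ⟨j, y, Groth.Agent.S10176.ofPt_map_comp (ιW j) b₀ y⟩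

/-- the chart of a fibre product induced by a chart of the first factor. -/
lemma exists_chart_pullback {X' P : AlgSp.Sp S} {V W A : Over S} (fV : X' ⟶ (AlgSp.yon S).obj V)
    (b : (AlgSp.yon S).obj W ⟶ X') (gW : W ⟶ V) (hgW : (AlgSp.yon S).map gW = b ≫ fV) (g : A ⟶ V)
    (fstP : P ⟶ X') (sndP : P ⟶ (AlgSp.yon S).obj A)
    (hP : IsPullback fstP sndP fV ((AlgSp.yon S).map g)) :
    ∃ m : (AlgSp.yon S).obj (pullback gW g) ⟶ P,
      IsPullback m ((AlgSp.yon S).map (pullback.fst gW g)) fstP b ∧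
      m ≫ sndP = (AlgSp.yon S).map (pullback.snd gW g) ∧
      m ≫ fstP = (AlgSp.yon S).map (pullback.fst gW g) ≫ b := by
  have hw : ((AlgSp.yon S).map (pullback.fst gW g) ≫ b) ≫ fV =
      (AlgSp.yon S).map (pullback.snd gW g) ≫ (AlgSp.yon S).map g := by
    rw [Category.assoc, ← hgW, ← Functor.map_comp, ← Functor.map_comp, pullback.condition]
  refine ⟨hP.lift _ _ hw, ?_, hP.lift_snd _ _ hw, hP.lift_fst _ _ hw⟩
  have hbig : IsPullback ((AlgSp.yon S).map (pullback.snd gW g)) ((AlgSp.yon S).map (pullback.fst gW g))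
      ((AlgSp.yon S).map g) ((AlgSp.yon S).map gW) :=
    ((IsPullback.of_hasPullback gW g).map (AlgSp.yon S)).flip
  have hbig' : IsPullback (hP.lift _ _ hw ≫ sndP) ((AlgSp.yon S).map (pullback.fst gW g))
      ((AlgSp.yon S).map g) (b ≫ fV) := by
    rw [hP.lift_snd, ← hgW]
    exact hbig
  exact IsPullback.of_right hbig' (hP.lift_fst _ _ hw) hP.flip

/-- points of `h_T` as points of `T`. -/
lemma exists_ofScheme (T : Over S) (p : AlgSp.Points ((AlgSp.yon S).obj T)) :
    ∃ t : T.left, AlgSp.Points.ofScheme T t = p :=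
  ⟨AlgSp.Points.toScheme T p, AlgSp.Points.ofScheme_toScheme T p⟩

lemma ofScheme_injective (T : Over S) : Function.Injective (AlgSp.Points.ofScheme T) :=
  (AlgSp.Points.schemeEquiv T).injective

lemma map_yon_map_ofScheme {T T' : Over S} (φ : T ⟶ T') (t : T.left) :
    AlgSp.Points.map ((AlgSp.yon S).map φ) (AlgSp.Points.ofScheme T t) =
      AlgSp.Points.ofScheme T' (φ.left t) :=
  AlgSp.Points.map_yon_map_apply φ t

lemma ofPt_yon_map {T T' : Over S} (φ : T ⟶ T') (t : T.left) :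
    AlgSp.Points.ofPt ((AlgSp.yon S).map φ) t = AlgSp.Points.ofScheme T' (φ.left t) := by
  rw [AlgSp.Points.ofPt_eq_map_ofScheme]
  exact map_yon_map_ofScheme φ t

open Classical in
/-- the main lemma: closedness after base change to affine spaces implies closedness after base change to
every affine scheme, over an affine base. -/
theorem isClosedMap_of_affineSpace {X' : AlgSp.Sp S} (hX' : AlgSp.IsAlgSpace X') {V : Over S}
    [IsAffine V.left] (fV : X' ⟶ (AlgSp.yon S).obj V) (hqc : AlgSp.IsQuasiCompactMor fV)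
    (H : ∀ (n : ℕ) (Q : AlgSp.Sp S) (fstQ : Q ⟶ X') (sndQ : Q ⟶ (AlgSp.yon S).obj (An n V)),
      IsPullback fstQ sndQ fV ((AlgSp.yon S).map (AnProj n V)) → IsClosedMap (AlgSp.Points.map sndQ))
    {Z : Over S} [IsAffine Z.left] (g₀ : Z ⟶ V) {P : AlgSp.Sp S} (fstP : P ⟶ X')
    (sndP : P ⟶ (AlgSp.yon S).obj Z) (hP : IsPullback fstP sndP fV ((AlgSp.yon S).map g₀)) :
    IsClosedMap (AlgSp.Points.map sndP) := by
  intro T hT
  haveI : (AlgSp.RepWith (S := S) @Etale.{u}).IsStableUnderBaseChange :=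
    MorphismProperty.relative_isStableUnderBaseChange _
  -- `X'` is quasi-compact
  have hVqc : AlgSp.IsQuasiCompactSp ((AlgSp.yon S).obj V) :=
    ⟨V, 𝟙 _, AlgSp.repWith_id _ V, AlgSp.repWith_id _ V, inferInstance⟩
  have hX'qc : AlgSp.IsQuasiCompactSp X' :=
    hqc (AlgSp.IsAlgSpace.yon_obj V) hVqc (𝟙 _) (𝟙 X') fV (IsPullback.id_vert fV).flip
  obtain ⟨m, W, b, hWaff, hbe, hbsurj⟩ := exists_finite_affine_charts hX'qc
  have hgW : ∀ j, ∃ gW : W j ⟶ V, (AlgSp.yon S).map gW = b j ≫ fV := fun j =>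
    (AlgSp.yon S).map_surjective _
  choose gW hgW using hgW
  -- reduce to a statement on `Z`
  rw [← (AlgSp.Points.schemeHomeo Z).isClosed_preimage, ← isOpen_compl_iff, isOpen_iff_forall_mem_open]
  intro z hz
  have hz' : AlgSp.Points.ofScheme Z z ∉ AlgSp.Points.map sndP '' T := hz
  -- the charts of `P`
  have hm : ∀ j, ∃ mj : (AlgSp.yon S).obj (pullback (gW j) g₀) ⟶ P,
      IsPullback mj ((AlgSp.yon S).map (pullback.fst (gW j) g₀)) fstP (b j) ∧
      mj ≫ sndP = (AlgSp.yon S).map (pullback.snd (gW j) g₀) ∧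
      mj ≫ fstP = (AlgSp.yon S).map (pullback.fst (gW j) g₀) ≫ b j := fun j =>
    exists_chart_pullback fV (b j) (gW j) (hgW j) g₀ fstP sndP hP
  choose mch hmpb hmsnd hmfst using hm
  have hTj : ∀ j, IsClosed (AlgSp.Points.ofPt (mch j) ⁻¹' T) := fun j =>
    hT.preimage (AlgSp.Points.continuous_ofPt _)
  have hzj : ∀ j, z ∉ (pullback.snd (gW j) g₀).left '' (AlgSp.Points.ofPt (mch j) ⁻¹' T) := by
    rintro j ⟨t, ht, htz⟩
    apply hz'
    refine ⟨AlgSp.Points.ofPt (mch j) t, ht, ?_⟩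
    rw [AlgSp.Points.map_ofPt, hmsnd, ofPt_yon_map, htz]
  have hMj : ∀ j, IsPullback (pullback.fst (gW j) g₀).left (pullback.snd (gW j) g₀).left (gW j).left
      g₀.left := fun j => (IsPullback.of_hasPullback (gW j) g₀).map (Over.forget S)
  have hFj : ∀ j, ∃ F : Finset Γ(Z.left, ⊤), ∀ (n : Type u) (v : n → Γ(Z.left, ⊤)),
      (↑F : Set Γ(Z.left, ⊤)) ⊆ Set.range v →
      ∀ (M' : Scheme.{u}) (q₁ : M' ⟶ (W j).left) (q₂ : M' ⟶ 𝔸(n; V.left)),
        IsPullback q₁ q₂ (gW j).left (𝔸(n; V.left) ↘ V.left) →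
        ∀ θ : (pullback (gW j) g₀).left ⟶ M', θ ≫ q₁ = (pullback.fst (gW j) g₀).left →
          θ ≫ q₂ = (pullback.snd (gW j) g₀).left ≫ AffineSpace.homOfVector g₀.left v →
          AffineSpace.homOfVector g₀.left v z ∉
            q₂ '' closure (θ '' (AlgSp.Points.ofPt (mch j) ⁻¹' T)) := fun j => by
    haveI := hWaff j
    exact Groth.Agent.Lib.Helper9.AnAffine.exists_finset_affineSpace (gW j).left g₀.left _ _ (hMj j)
      _ (hTj j) z (hzj j)
  choose Fj hFj using hFj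
  -- the finite set and the morphism to affine space
  obtain ⟨F, hFdef⟩ : ∃ F : Finset Γ(Z.left, ⊤), F = Finset.univ.biUnion Fj := ⟨_, rfl⟩
  obtain ⟨n, hn⟩ : ∃ n : ℕ, n = F.card := ⟨_, rfl⟩
  let v : ULift.{u} (Fin n) → Γ(Z.left, ⊤) := fun i => (F.equivFin.symm (Fin.cast hn i.down)).1
  have hFv : (↑F : Set Γ(Z.left, ⊤)) ⊆ Set.range v := by
    intro x hx
    refine ⟨⟨Fin.cast hn.symm (F.equivFin ⟨x, hx⟩)⟩, ?_⟩
    change ((F.equivFin.symm (Fin.cast hn (Fin.cast hn.symm (F.equivFin ⟨x, hx⟩)))) : F).1 = x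
    rw [Fin.cast_cast, Fin.cast_eq_self, Equiv.symm_apply_apply]
  have hFjv : ∀ j, (↑(Fj j) : Set Γ(Z.left, ⊤)) ⊆ Set.range v := fun j x hx =>
    hFv (by rw [hFdef]; exact Finset.mem_biUnion.2 ⟨j, Finset.mem_univ j, hx⟩)
  obtain ⟨φ₀, hφ₀⟩ : ∃ φ₀ : Z.left ⟶ 𝔸(ULift.{u} (Fin n); V.left),
      φ₀ = AffineSpace.homOfVector g₀.left v := ⟨_, rfl⟩
  have hφ₀over : φ₀ ≫ (𝔸(ULift.{u} (Fin n); V.left) ↘ V.left) = g₀.left := by
    rw [hφ₀]; exact AffineSpace.homOfVector_over _ _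
  obtain ⟨φ, hφl⟩ : ∃ φ : Z ⟶ An n V, φ.left = φ₀ :=
    ⟨Over.homMk φ₀ (by
      change φ₀ ≫ (𝔸(ULift.{u} (Fin n); V.left) ↘ V.left) ≫ V.hom = Z.hom
      rw [← Category.assoc, hφ₀over, Over.w]), rfl⟩
  have hφ : φ ≫ AnProj n V = g₀ := by
    apply Over.OverMorphism.ext
    change φ.left ≫ (𝔸(ULift.{u} (Fin n); V.left) ↘ V.left) = g₀.left
    rw [hφl, hφ₀over]
  -- the fibre product over affine space
  have hQ : IsPullback (pullback.fst fV ((AlgSp.yon S).map (AnProj n V)))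
      (pullback.snd fV ((AlgSp.yon S).map (AnProj n V))) fV ((AlgSp.yon S).map (AnProj n V)) :=
    IsPullback.of_hasPullback _ _
  have hcl := H n _ _ _ hQ
  have hψw : fstP ≫ fV = (sndP ≫ (AlgSp.yon S).map φ) ≫ (AlgSp.yon S).map (AnProj n V) := by
    rw [Category.assoc, ← Functor.map_comp, hφ, hP.w]
  obtain ⟨ψ, hψ⟩ : ∃ ψ : P ⟶ pullback fV ((AlgSp.yon S).map (AnProj n V)),
      ψ = hQ.lift fstP (sndP ≫ (AlgSp.yon S).map φ) hψw := ⟨_, rfl⟩
  have hψ1 : ψ ≫ pullback.fst fV ((AlgSp.yon S).map (AnProj n V)) = fstP := by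
    rw [hψ]; exact hQ.lift_fst _ _ _
  have hψ2 : ψ ≫ pullback.snd fV ((AlgSp.yon S).map (AnProj n V)) = sndP ≫ (AlgSp.yon S).map φ := by
    rw [hψ]; exact hQ.lift_snd _ _ _
  have hE₀ : IsClosed (AlgSp.Points.map (pullback.snd fV ((AlgSp.yon S).map (AnProj n V))) ''
      closure (AlgSp.Points.map ψ '' T)) := hcl _ isClosed_closure
  -- the open neighbourhood
  refine ⟨φ₀ ⁻¹' (AlgSp.Points.ofScheme (An n V) ⁻¹'
    (AlgSp.Points.map (pullback.snd fV ((AlgSp.yon S).map (AnProj n V))) ''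
      closure (AlgSp.Points.map ψ '' T))ᶜ), ?_, ?_, ?_⟩
  · -- contained in the complement
    intro o ho hoE
    obtain ⟨t, ht, hto⟩ : AlgSp.Points.ofScheme Z o ∈ AlgSp.Points.map sndP '' T := hoE
    apply ho
    refine ⟨AlgSp.Points.map ψ t, subset_closure ⟨t, ht, rfl⟩, ?_⟩
    rw [← AlgSp.Points.map_comp, hψ2, AlgSp.Points.map_comp, hto, map_yon_map_ofScheme]
    exact congrArg (fun k : Z.left ⟶ (An n V).left => AlgSp.Points.ofScheme (An n V) (k o)) hφl
  · exact (hE₀.isOpen_compl.preimage (AlgSp.Points.continuous_ofPt _)).preimage φ₀.continuous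
  · -- the claim
    rintro ⟨t₀, ht₀, ht₀z⟩
    obtain ⟨j, w, hw⟩ := hbsurj (AlgSp.Points.map (pullback.fst fV ((AlgSp.yon S).map (AnProj n V))) t₀)
    haveI := hWaff j
    -- the chart of `Q`
    obtain ⟨cj, hcpb, hcsnd, hcfst⟩ := exists_chart_pullback fV (b j) (gW j) (hgW j) (AnProj n V) _ _ hQ
    have hce : AlgSp.RepWith @Etale cj :=
      MorphismProperty.of_isPullback (P := AlgSp.RepWith @Etale) hcpb.flip (hbe j)
    obtain ⟨p, hp1, -⟩ := Groth.Agent.S10175.exists_point_of_isPullback hcpb t₀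
      (AlgSp.Points.ofScheme _ w) (by rw [← AlgSp.Points.ofPt_eq_map_ofScheme, hw])
    obtain ⟨m', rfl⟩ := exists_ofScheme _ p
    have hm't₀ : AlgSp.Points.ofPt cj m' = t₀ := by
      rw [AlgSp.Points.ofPt_eq_map_ofScheme, hp1]
    -- the morphism of charts
    obtain ⟨θ, hθ⟩ : ∃ θ : pullback (gW j) g₀ ⟶ pullback (gW j) (AnProj n V),
        θ = pullback.lift (pullback.fst (gW j) g₀) (pullback.snd (gW j) g₀ ≫ φ)
          (by rw [pullback.condition, Category.assoc, hφ]) := ⟨_, rfl⟩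
    have hθ1 : θ ≫ pullback.fst (gW j) (AnProj n V) = pullback.fst (gW j) g₀ := by
      rw [hθ]; exact pullback.lift_fst _ _ _
    have hθ2 : θ ≫ pullback.snd (gW j) (AnProj n V) = pullback.snd (gW j) g₀ ≫ φ := by
      rw [hθ]; exact pullback.lift_snd _ _ _
    have hcomm : (AlgSp.yon S).map θ ≫ cj = mch j ≫ ψ := by
      apply hQ.hom_ext
      · rw [Category.assoc, hcfst, ← Category.assoc, ← Functor.map_comp, hθ1, Category.assoc, hψ1,
          hmfst]
      · rw [Category.assoc, hcsnd, ← Functor.map_comp, hθ2, Category.assoc, hψ2, ← Category.assoc,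
          hmsnd, Functor.map_comp]
    have hα : IsPullback ((AlgSp.yon S).map θ) (mch j) cj ψ := by
      have hbig : IsPullback ((AlgSp.yon S).map θ ≫ (AlgSp.yon S).map (pullback.fst (gW j) (AnProj n V)))
          (mch j) (b j) (ψ ≫ pullback.fst fV ((AlgSp.yon S).map (AnProj n V))) := by
        rw [← Functor.map_comp, hθ1, hψ1]
        exact (hmpb j).flip
      exact IsPullback.of_right hbig hcomm hcpb.flip
    -- the closure
    have hm'cl : m' ∈ closure (θ.left '' (AlgSp.Points.ofPt (mch j) ⁻¹' T)) := by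
      have h1 : m' ∈ AlgSp.Points.ofPt cj ⁻¹' closure (AlgSp.Points.map ψ '' T) := by
        rw [Set.mem_preimage, hm't₀]; exact ht₀
      have h2 := (Groth.Agent.S10176.isOpenMap_ofPt cj hce).preimage_closure_subset_closure_preimage h1
      refine closure_mono ?_ h2
      rintro m'' ⟨t, ht, htm⟩
      obtain ⟨q, hq1, hq2⟩ := Groth.Agent.S10175.exists_point_of_isPullback hα
        (AlgSp.Points.ofScheme _ m'') t (by rw [← AlgSp.Points.ofPt_eq_map_ofScheme, htm])
      obtain ⟨μ, rfl⟩ := exists_ofScheme _ q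
      refine ⟨μ, ?_, ?_⟩
      · rw [Set.mem_preimage, AlgSp.Points.ofPt_eq_map_ofScheme, hq2]; exact ht
      · rw [map_yon_map_ofScheme] at hq1
        exact ofScheme_injective _ hq1
    have hm'z : (pullback.snd (gW j) (AnProj n V)).left m' = φ₀ z := by
      apply ofScheme_injective
      rw [← ofPt_yon_map, ← hcsnd, ← AlgSp.Points.map_ofPt, hm't₀]
      exact ht₀z
    -- contradiction
    have hM' : IsPullback (pullback.fst (gW j) (AnProj n V)).left (pullback.snd (gW j) (AnProj n V)).left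
        (gW j).left (𝔸(ULift.{u} (Fin n); V.left) ↘ V.left) :=
      (IsPullback.of_hasPullback (gW j) (AnProj n V)).map (Over.forget S)
    have hθ1' : θ.left ≫ (pullback.fst (gW j) (AnProj n V)).left = (pullback.fst (gW j) g₀).left := by
      rw [← Over.comp_left, hθ1]
    have hθ2' : θ.left ≫ (pullback.snd (gW j) (AnProj n V)).left =
        (pullback.snd (gW j) g₀).left ≫ AffineSpace.homOfVector g₀.left v := by
      rw [← Over.comp_left, hθ2, Over.comp_left, hφl, hφ₀]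
    exact hFj j (ULift.{u} (Fin n)) v (hFjv j) _ _ _ hM' θ.left hθ1' hθ2'
      ⟨m', hm'cl, hm'z.trans (by rw [hφ₀])⟩

end Groth.Agent.Lib.Helper9.AnSp
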