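import Mathlib
import Groth.Agent.Lib.Helper9AnSp
import Groth.Agent.Lib.Helper12Proper
import Groth.Agent.Lib.Helper12LargestOpen
import Groth.Agent.Lib.Helper12OpenSub2
import Groth.Agent.S9923
import Groth.Agent.S9947
import Groth.Agent.Lib.Helper12LocPCases

/-!
# Universally closed morphisms can be tested on affine spaces over an étale chart (helper9)
-/

set_option autoImplicit false
set_option linter.style.haveILetI false
set_option backward.isDefEq.respectTransparency false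
universe u
open CategoryTheory CategoryTheory.Limits AlgebraicGeometry Opposite
open AlgSp

namespace Groth.Agent.Lib.Helper9.AnCrit

open Groth.Agent.Lib.Helper9.AnSp

variable {S : Scheme.{u}}

/-- the main lemma for a morphism `f : X ⟶ Y` and an affine scheme `V₁` mapping to `Y`. -/
theorem isClosedMap_of_affineSpace' {X Y : AlgSp.Sp S} (hX : AlgSp.IsAlgSpace X)
    (hY : AlgSp.IsAlgSpace Y) (f : X ⟶ Y) (hqc : AlgSp.IsQuasiCompactMor f) {V₁ : Over S}
    [IsAffine V₁.left] (p₁ : (AlgSp.yon S).obj V₁ ⟶ Y)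
    (H : ∀ (n : ℕ) (Q : AlgSp.Sp S) (fstQ : Q ⟶ X) (sndQ : Q ⟶ (AlgSp.yon S).obj (An n V₁)),
      IsPullback fstQ sndQ f ((AlgSp.yon S).map (AnProj n V₁) ≫ p₁) →
      IsClosedMap (AlgSp.Points.map sndQ))
    {Z : Over S} [IsAffine Z.left] (g₀ : Z ⟶ V₁) {P : AlgSp.Sp S} (fstP : P ⟶ X)
    (sndP : P ⟶ (AlgSp.yon S).obj Z) (hP : IsPullback fstP sndP f ((AlgSp.yon S).map g₀ ≫ p₁)) :
    IsClosedMap (AlgSp.Points.map sndP) := by
  have base : IsPullback (pullback.fst f p₁) (pullback.snd f p₁) f p₁ := IsPullback.of_hasPullback f p₁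
  have hX' : AlgSp.IsAlgSpace (pullback f p₁) :=
    Groth.Agent.S9874.isAlgSpace_of_isPullback hY.diag hX (AlgSp.IsAlgSpace.yon_obj _) base
  have hqc' : AlgSp.IsQuasiCompactMor (pullback.snd f p₁) :=
    Groth.Agent.Lib.Helper12.Proper.isQuasiCompactMor_baseChange base hqc
  have hw : fstP ≫ f = (sndP ≫ (AlgSp.yon S).map g₀) ≫ p₁ := by rw [hP.w, Category.assoc]
  have hP' : IsPullback (base.lift fstP (sndP ≫ (AlgSp.yon S).map g₀) hw) sndP (pullback.snd f p₁)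
      ((AlgSp.yon S).map g₀) := by
    refine IsPullback.of_right ?_ (base.lift_snd _ _ hw) base
    rw [base.lift_fst]
    exact hP
  exact isClosedMap_of_affineSpace hX' (pullback.snd f p₁) hqc'
    (fun n Q fstQ sndQ hQ => H n Q _ sndQ (hQ.paste_horiz base)) g₀ _ sndP hP'

/-- closedness on points passes to the base change along an open immersion of the base. -/
lemma isClosedMap_of_open_baseChange {Q Q₁ : AlgSp.Sp S} {B B' : Over S} (α : B' ⟶ B)
    [IsOpenImmersion α.left] (s : Q ⟶ (AlgSp.yon S).obj B) (s' : Q₁ ⟶ (AlgSp.yon S).obj B')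
    (r : Q₁ ⟶ Q) (sq : IsPullback r s' s ((AlgSp.yon S).map α))
    (hs : IsClosedMap (AlgSp.Points.map s)) : IsClosedMap (AlgSp.Points.map s') := by
  haveI : (AlgSp.RepWith (S := S) @IsOpenImmersion.{u}).IsStableUnderBaseChange :=
    MorphismProperty.relative_isStableUnderBaseChange _
  have hα : AlgSp.RepWith @IsOpenImmersion ((AlgSp.yon S).map α) :=
    (AlgSp.repWith_yon_map_iff _ _).2 inferInstance
  have hr : AlgSp.RepWith @IsOpenImmersion r :=
    MorphismProperty.of_isPullback (P := AlgSp.RepWith @IsOpenImmersion) sq.flip hα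
  have hemb : Topology.IsOpenEmbedding (AlgSp.Points.map r) :=
    Topology.IsOpenEmbedding.of_continuous_injective_isOpenMap (AlgSp.Points.continuous_map _)
      (Groth.Agent.Lib.Helper12.LargestOpen.injective_map_of_open _ hr)
      (Groth.Agent.Lib.Helper12.OpenSub.isOpenMap_map_of_open _ hr)
  intro T' hT'
  have hset : AlgSp.Points.map s' '' T' = AlgSp.Points.map ((AlgSp.yon S).map α) ⁻¹'
      (AlgSp.Points.map s '' closure (AlgSp.Points.map r '' T')) := by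
    ext b'
    constructor
    · rintro ⟨t', ht', rfl⟩
      refine ⟨AlgSp.Points.map r t', subset_closure ⟨t', ht', rfl⟩, ?_⟩
      rw [← AlgSp.Points.map_comp, ← AlgSp.Points.map_comp, sq.w]
    · rintro ⟨q, hq, hqb⟩
      obtain ⟨q₁, hq₁r, hq₁s⟩ := Groth.Agent.S10175.exists_point_of_isPullback sq q b' hqb
      refine ⟨q₁, ?_, hq₁s⟩
      have h1 : q₁ ∈ AlgSp.Points.map r ⁻¹' closure (AlgSp.Points.map r '' T') := by
        rw [Set.mem_preimage, hq₁r]; exact hq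
      rw [← hemb.isInducing.closure_eq_preimage_closure_image T', hT'.closure_eq] at h1
      exact h1
  rw [hset]
  exact (hs _ isClosed_closure).preimage (AlgSp.Points.continuous_map _)

/-- the closedness hypothesis over `V` gives the one over an open subscheme `V'`. -/
lemma closed_affineSpace_of_open {X Y : AlgSp.Sp S} (f : X ⟶ Y) {V : Over S}
    (p : (AlgSp.yon S).obj V ⟶ Y)
    (H : ∀ (n : ℕ) (Q : AlgSp.Sp S) (fstQ : Q ⟶ X) (sndQ : Q ⟶ (AlgSp.yon S).obj (An n V)),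
      IsPullback fstQ sndQ f ((AlgSp.yon S).map (AnProj n V) ≫ p) →
      IsClosedMap (AlgSp.Points.map sndQ))
    (V' : V.left.Opens) (n : ℕ) (Q₁ : AlgSp.Sp S) (fst₁ : Q₁ ⟶ X)
    (snd₁ : Q₁ ⟶ (AlgSp.yon S).obj (An n (Over.mk (V'.ι ≫ V.hom))))
    (sq₁ : IsPullback fst₁ snd₁ f ((AlgSp.yon S).map (AnProj n (Over.mk (V'.ι ≫ V.hom))) ≫
      (AlgSp.yon S).map (Over.homMk V'.ι rfl : Over.mk (V'.ι ≫ V.hom) ⟶ V) ≫ p)) :
    IsClosedMap (AlgSp.Points.map snd₁) := by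
  obtain ⟨jV, hjV⟩ : ∃ jV : Over.mk (V'.ι ≫ V.hom) ⟶ V, jV = Over.homMk V'.ι rfl := ⟨_, rfl⟩
  rw [← hjV] at sq₁
  have hαw : AffineSpace.map (ULift.{u} (Fin n)) V'.ι ≫
      ((𝔸(ULift.{u} (Fin n); V.left) ↘ V.left) ≫ V.hom) =
      (𝔸(ULift.{u} (Fin n); V'.toScheme) ↘ V'.toScheme) ≫ V'.ι ≫ V.hom := by
    rw [← Category.assoc, AffineSpace.map_over, Category.assoc]
  obtain ⟨α, hα⟩ : ∃ α : An n (Over.mk (V'.ι ≫ V.hom)) ⟶ An n V,
      α.left = AffineSpace.map (ULift.{u} (Fin n)) V'.ι := ⟨Over.homMk _ hαw, rfl⟩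
  have hαπ : α ≫ AnProj n V = AnProj n (Over.mk (V'.ι ≫ V.hom)) ≫ jV := by
    apply Over.OverMorphism.ext
    rw [Over.comp_left, Over.comp_left, hα, hjV]
    exact AffineSpace.map_over _
  haveI : IsOpenImmersion α.left := by
    rw [hα]
    exact MorphismProperty.of_isPullback (P := @IsOpenImmersion)
      (AffineSpace.isPullback_map (n := ULift.{u} (Fin n)) V'.ι).flip inferInstance
  have hQ : IsPullback (pullback.fst f ((AlgSp.yon S).map (AnProj n V) ≫ p))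
      (pullback.snd f ((AlgSp.yon S).map (AnProj n V) ≫ p)) f ((AlgSp.yon S).map (AnProj n V) ≫ p) :=
    IsPullback.of_hasPullback _ _
  have hcl := H n _ _ _ hQ
  have hw : fst₁ ≫ f = (snd₁ ≫ (AlgSp.yon S).map α) ≫ ((AlgSp.yon S).map (AnProj n V) ≫ p) := by
    rw [sq₁.w, Category.assoc, ← Category.assoc ((AlgSp.yon S).map α), ← Functor.map_comp, hαπ,
      Functor.map_comp, Category.assoc]
  have hsq : IsPullback (hQ.lift fst₁ (snd₁ ≫ (AlgSp.yon S).map α) hw) snd₁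
      (pullback.snd f ((AlgSp.yon S).map (AnProj n V) ≫ p)) ((AlgSp.yon S).map α) := by
    refine IsPullback.of_right ?_ (hQ.lift_snd _ _ hw) hQ
    rw [hQ.lift_fst]
    have e : (AlgSp.yon S).map α ≫ ((AlgSp.yon S).map (AnProj n V) ≫ p) =
        (AlgSp.yon S).map (AnProj n (Over.mk (V'.ι ≫ V.hom))) ≫ (AlgSp.yon S).map jV ≫ p := by
      rw [← Category.assoc, ← Functor.map_comp, hαπ, Functor.map_comp, Category.assoc]
    rw [e]
    exact sq₁
  exact isClosedMap_of_open_baseChange α _ snd₁ _ hsq hcl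

/-- **Universally closed can be tested on affine spaces over an étale chart.** -/
theorem isUnivClosedMor_of_affineSpace {X Y : AlgSp.Space S} (f : X ⟶ Y)
    (hqc : AlgSp.IsQuasiCompactMor f.hom) {V : Over S} (p : (AlgSp.yon S).obj V ⟶ Y.obj)
    (hpe : AlgSp.RepWith @Etale p) (hps : AlgSp.RepWith @Surjective p)
    (H : ∀ (n : ℕ) (Q : AlgSp.Sp S) (fstQ : Q ⟶ X.obj) (sndQ : Q ⟶ (AlgSp.yon S).obj (An n V)),
      IsPullback fstQ sndQ f.hom ((AlgSp.yon S).map (AnProj n V) ≫ p) →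
      IsClosedMap (AlgSp.Points.map sndQ)) :
    AlgSp.IsUnivClosedMor f.hom := by
  refine (Groth.Agent.S9923.result f).2 (fun Z hZ g P fstP sndP hP => ?_)
  intro T hT
  rw [← (AlgSp.Points.schemeHomeo Z).isClosed_preimage, ← isOpen_compl_iff, isOpen_iff_forall_mem_open]
  intro z hz
  have hz' : AlgSp.Points.ofScheme Z z ∉ AlgSp.Points.map sndP '' T := hz
  -- the étale cover of `Z`
  obtain ⟨Zt, w, pr', sqZ⟩ := hpe.1 g
  obtain ⟨pr, rfl⟩ := (AlgSp.yon S).map_surjective pr'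
  haveI : Etale w.left := hpe.2 g _ w sqZ
  haveI : Surjective w.left := hps.2 g _ w sqZ
  obtain ⟨zt, hzt⟩ := w.left.surjective z
  obtain ⟨V', hV', hzV', -⟩ := exists_isAffineOpen_mem_and_subset (U := ⊤) (x := pr.left zt) trivial
  have hztV' : zt ∈ pr.left ⁻¹ᵁ V' := hzV'
  obtain ⟨Z', hZ', hztZ', hle⟩ := exists_isAffineOpen_mem_and_subset (U := pr.left ⁻¹ᵁ V') (x := zt) hztV'
  haveI : IsAffine V'.toScheme := hV'
  haveI : IsAffine Z'.toScheme := hZ'
  -- the morphism `Z' ⟶ V'`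
  have hrange : Set.range (Z'.ι ≫ pr.left) ⊆ Set.range V'.ι := by
    rintro _ ⟨y, rfl⟩
    rw [Scheme.Opens.range_ι]
    exact hle y.2
  obtain ⟨g₁l, hg₁l⟩ : ∃ g₁l : Z'.toScheme ⟶ V'.toScheme, g₁l ≫ V'.ι = Z'.ι ≫ pr.left :=
    ⟨IsOpenImmersion.lift V'.ι (Z'.ι ≫ pr.left) hrange, IsOpenImmersion.lift_fac _ _ _⟩
  obtain ⟨jV, hjV⟩ : ∃ jV : Over.mk (V'.ι ≫ V.hom) ⟶ V, jV = Over.homMk V'.ι rfl := ⟨_, rfl⟩
  obtain ⟨jZ, hjZ⟩ : ∃ jZ : Over.mk (Z'.ι ≫ Zt.hom) ⟶ Zt, jZ = Over.homMk Z'.ι rfl := ⟨_, rfl⟩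
  have hg₁w : g₁l ≫ (V'.ι ≫ V.hom) = Z'.ι ≫ Zt.hom := by
    rw [← Category.assoc, hg₁l, Category.assoc, Over.w pr]
  obtain ⟨g₁, hg₁⟩ : ∃ g₁ : Over.mk (Z'.ι ≫ Zt.hom) ⟶ Over.mk (V'.ι ≫ V.hom), g₁.left = g₁l :=
    ⟨Over.homMk g₁l hg₁w, rfl⟩
  have hg₁j : g₁ ≫ jV = jZ ≫ pr := by
    apply Over.OverMorphism.ext
    rw [Over.comp_left, Over.comp_left, hg₁, hjV, hjZ]
    exact hg₁l
  haveI : IsAffine (Over.mk (V'.ι ≫ V.hom)).left := hV'
  haveI : IsAffine (Over.mk (Z'.ι ≫ Zt.hom)).left := hZ'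
  -- the base change of `P` to `Z'`
  have hP₁ : IsPullback (pullback.fst sndP ((AlgSp.yon S).map (jZ ≫ w)))
      (pullback.snd sndP ((AlgSp.yon S).map (jZ ≫ w))) sndP ((AlgSp.yon S).map (jZ ≫ w)) :=
    IsPullback.of_hasPullback _ _
  have he : (AlgSp.yon S).map (jZ ≫ w) ≫ g =
      (AlgSp.yon S).map g₁ ≫ (AlgSp.yon S).map jV ≫ p := by
    rw [← Category.assoc ((AlgSp.yon S).map g₁), ← Functor.map_comp, hg₁j, Functor.map_comp,
      Functor.map_comp, Category.assoc, Category.assoc, sqZ.w]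
  have hP₁' : IsPullback (pullback.fst sndP ((AlgSp.yon S).map (jZ ≫ w)) ≫ fstP)
      (pullback.snd sndP ((AlgSp.yon S).map (jZ ≫ w))) f.hom
      ((AlgSp.yon S).map g₁ ≫ (AlgSp.yon S).map jV ≫ p) := by
    rw [← he]
    exact hP₁.paste_horiz hP
  have hcl₁ : IsClosedMap (AlgSp.Points.map (pullback.snd sndP ((AlgSp.yon S).map (jZ ≫ w)))) := by
    refine isClosedMap_of_affineSpace' X.property Y.property f.hom hqc
      ((AlgSp.yon S).map jV ≫ p) ?_ g₁ _ _ hP₁'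
    intro n Q₁ fst₁ snd₁ sq₁
    rw [hjV] at sq₁
    exact closed_affineSpace_of_open f.hom p H V' n Q₁ fst₁ snd₁ sq₁
  -- the closed subset over `Z'`
  obtain ⟨T₁, hT₁def⟩ : ∃ T₁ : Set (AlgSp.Points (pullback sndP ((AlgSp.yon S).map (jZ ≫ w)))),
      T₁ = AlgSp.Points.map (pullback.fst sndP ((AlgSp.yon S).map (jZ ≫ w))) ⁻¹' T := ⟨_, rfl⟩
  have hT₁ : IsClosed T₁ := by
    rw [hT₁def]; exact hT.preimage (AlgSp.Points.continuous_map _)
  have hE₁ := hcl₁ T₁ hT₁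
  haveI : Etale (jZ ≫ w).left := by
    rw [Over.comp_left, hjZ]
    change Etale (Z'.ι ≫ w.left)
    infer_instance
  refine ⟨(jZ ≫ w).left '' (AlgSp.Points.ofScheme (Over.mk (Z'.ι ≫ Zt.hom)) ⁻¹'
    (AlgSp.Points.map (pullback.snd sndP ((AlgSp.yon S).map (jZ ≫ w))) '' T₁)ᶜ), ?_, ?_, ?_⟩
  · rintro _ ⟨o₁, ho₁, rfl⟩ hoE
    obtain ⟨t, ht, hto⟩ : AlgSp.Points.ofScheme Z ((jZ ≫ w).left o₁) ∈ AlgSp.Points.map sndP '' T := hoE
    apply ho₁
    obtain ⟨t₁, ht₁r, ht₁s⟩ := Groth.Agent.S10175.exists_point_of_isPullback hP₁ t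
      (AlgSp.Points.ofScheme _ o₁) (by rw [hto, map_yon_map_ofScheme])
    exact ⟨t₁, by rw [hT₁def, Set.mem_preimage, ht₁r]; exact ht, ht₁s⟩
  · exact (jZ ≫ w).left.isOpenMap _ (hE₁.isOpen_compl.preimage (AlgSp.Points.continuous_ofPt _))
  · refine ⟨(⟨zt, hztZ'⟩ : Z'.toScheme), ?_, ?_⟩
    · rintro ⟨t₁, ht₁, ht₁z⟩
      apply hz'
      rw [hT₁def] at ht₁
      refine ⟨_, ht₁, ?_⟩
      rw [← AlgSp.Points.map_comp, hP₁.w, AlgSp.Points.map_comp, ht₁z, map_yon_map_ofScheme]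
      congr 1
      rw [Over.comp_left, hjZ]
      exact hzt
    · rw [Over.comp_left, hjZ]
      exact hzt

/-- affine space over an étale chart is locally of finite presentation over the space. -/
lemma locP_lfp_affineSpace_chart {Y : AlgSp.Sp S} (hY : AlgSp.IsAlgSpace Y) {V : Over S}
    (p : (AlgSp.yon S).obj V ⟶ Y) (hpe : AlgSp.RepWith @Etale p) (n : ℕ) :
    AlgSp.LocP @LocallyOfFinitePresentation ((AlgSp.yon S).map (AnProj n V) ≫ p) := by
  have hG := Groth.Agent.Lib.Helper12.LocPCases.good_lfp.{u}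
  haveI := hG.comp
  have h1 : AlgSp.LocP @LocallyOfFinitePresentation ((AlgSp.yon S).map (AnProj n V)) :=
    Groth.Agent.Lib.Helper12.LocPGen.locP_yon_map_of _ hG.hEt hG.hcancel (AnProj n V)
      (inferInstance : LocallyOfFinitePresentation (𝔸(ULift.{u} (Fin n); V.left) ↘ V.left))
  have h2 : AlgSp.LocP @LocallyOfFinitePresentation p :=
    Groth.Agent.S9947.locP_of_repWith_etale _ hG.hEt p hpe
  exact hG.locP_comp (AlgSp.IsAlgSpace.yon_obj V) hY _ _ h1 h2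

/-- the criterion in the form of the statement. -/
theorem univClosed_criterion {X Y : AlgSp.Space S} (f : X ⟶ Y) (hqc : AlgSp.IsQuasiCompactMor f.hom) :
    (AlgSp.IsUnivClosedMor f.hom ↔
      ∀ (Z : AlgSp.Space S) (g : Z ⟶ Y), AlgSp.LocP @LocallyOfFinitePresentation g.hom →
        ∀ (P : AlgSp.Sp S) (fst : P ⟶ X.obj) (snd : P ⟶ Z.obj), IsPullback fst snd f.hom g.hom →
          IsClosedMap (AlgSp.Points.map snd)) ∧
    (AlgSp.IsUnivClosedMor f.hom ↔
      ∃ (V : Over S) (p : (AlgSp.yon S).obj V ⟶ Y.obj), AlgSp.RepWith @Etale p ∧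
        AlgSp.RepWith @Surjective p ∧
        ∀ (n : ℕ) (P : AlgSp.Sp S) (fst : P ⟶ X.obj) (snd : P ⟶ (AlgSp.yon S).obj (An n V)),
          IsPullback fst snd f.hom ((AlgSp.yon S).map (AnProj n V) ≫ p) →
            IsClosedMap (AlgSp.Points.map snd)) := by
  have h31 : (∃ (V : Over S) (p : (AlgSp.yon S).obj V ⟶ Y.obj), AlgSp.RepWith @Etale p ∧
        AlgSp.RepWith @Surjective p ∧
        ∀ (n : ℕ) (P : AlgSp.Sp S) (fst : P ⟶ X.obj) (snd : P ⟶ (AlgSp.yon S).obj (An n V)),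
          IsPullback fst snd f.hom ((AlgSp.yon S).map (AnProj n V) ≫ p) →
            IsClosedMap (AlgSp.Points.map snd)) → AlgSp.IsUnivClosedMor f.hom := by
    rintro ⟨V, p, hpe, hps, H⟩
    exact isUnivClosedMor_of_affineSpace f hqc p hpe hps H
  refine ⟨⟨fun h Z g _ P fst snd sq => h Z.property g.hom fst snd sq, fun h => ?_⟩,
    ⟨fun h => ?_, h31⟩⟩
  · obtain ⟨V, p, hpe, hps⟩ := Y.property.atlas
    refine h31 ⟨V, p, hpe, hps, fun n P fst snd sq => ?_⟩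
    exact h ⟨(AlgSp.yon S).obj (An n V), AlgSp.IsAlgSpace.yon_obj _⟩
      (ObjectProperty.homMk ((AlgSp.yon S).map (AnProj n V) ≫ p))
      (locP_lfp_affineSpace_chart Y.property p hpe n) P fst snd sq
  · obtain ⟨V, p, hpe, hps⟩ := Y.property.atlas
    exact ⟨V, p, hpe, hps, fun n P fst snd sq => h (AlgSp.IsAlgSpace.yon_obj _) _ fst snd sq⟩

end Groth.Agent.Lib.Helper9.AnCrit
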