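import Mathlib
import Groth.Prelude.Def_EtCore
import Groth.Agent.Lib.Helper9CIStalk

/-!
# Stalks of the direct image along a closed immersion (helper9)

`stalkMap i ζ G : (i_* G)_{i ∘ ζ} ⟶ G_ζ` and its bijectivity.
-/

set_option autoImplicit false
set_option linter.style.haveILetI false
set_option backward.isDefEq.respectTransparency false

universe u

open CategoryTheory CategoryTheory.Limits AlgebraicGeometry Opposite

namespace Groth.Agent.Lib.Helper9.CIStalk

variable {Z X : Scheme.{u}} (i : Z ⟶ X) {Ω : Type u} [Field Ω] [IsSepClosed Ω]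
  (ζ : Spec (CommRingCat.of Ω) ⟶ Z) (G : EtCoh.Ab Z)

/-- the presheaf underlying `i_* G` -/
noncomputable abbrev pushPsh : X.Etaleᵒᵖ ⥤ AddCommGrpCat.{u + 1} := (EtCoh.bc i).op ⋙ G.obj

lemma push_obj : ((EtCoh.push i).obj G).obj = pushPsh i G := rfl

/-- the comparison map on stalks -/
noncomputable def stalkMap :
    (Scheme.pointSmallEtale (ζ ≫ i)).presheafFiber.obj (pushPsh i G) ⟶
      (Scheme.pointSmallEtale ζ).presheafFiber.obj G.obj :=
  (Scheme.pointSmallEtale (ζ ≫ i)).presheafFiberDesc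
    (fun U u => (Scheme.pointSmallEtale ζ).toPresheafFiber ((EtCoh.bc i).obj U)
      (liftPt i ζ U u) G.obj)
    (by
      intro U U' f u
      change G.obj.map ((EtCoh.bc i).map f).op ≫ _ = _
      rw [GrothendieckTopology.Point.toPresheafFiber_w, liftPt_map])

lemma stalkMap_germ (U : X.Etale) (u : (Scheme.pointSmallEtale (ζ ≫ i)).fiber.obj U)
    (t : (pushPsh i G).obj (op U)) :
    stalkMap i ζ G ((Scheme.pointSmallEtale (ζ ≫ i)).toPresheafFiber U u (pushPsh i G) t) =
      (Scheme.pointSmallEtale ζ).toPresheafFiber ((EtCoh.bc i).obj U) (liftPt i ζ U u) G.obj t := by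
  have h := (Scheme.pointSmallEtale (ζ ≫ i)).toPresheafFiber_presheafFiberDesc
    (P := pushPsh i G)
    (fun U u => (Scheme.pointSmallEtale ζ).toPresheafFiber ((EtCoh.bc i).obj U)
      (liftPt i ζ U u) G.obj)
    (by
      intro U U' f u
      change G.obj.map ((EtCoh.bc i).map f).op ≫ _ = _
      rw [GrothendieckTopology.Point.toPresheafFiber_w, liftPt_map]) U u
  exact congrArg (fun m => m.hom t) h

set_option maxHeartbeats 1600000 in
theorem stalkMap_bijective [IsClosedImmersion i] :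
    Function.Bijective (stalkMap i ζ G).hom := by
  haveI := preservesFilteredColimitsOfSize_shrink.{u, u + 1, u, u + 1}
    (forget AddCommGrpCat.{u + 1})
  let ΦX := Scheme.pointSmallEtale (ζ ≫ i)
  let ΦZ := Scheme.pointSmallEtale ζ
  constructor
  · rw [injective_iff_map_eq_zero]
    intro x hx
    obtain ⟨U, u, t, rfl⟩ := ΦX.toPresheafFiber_jointly_surjective (P := pushPsh i G) x
    have hx1 : ΦZ.toPresheafFiber ((EtCoh.bc i).obj U) (liftPt i ζ U u) G.obj t = 0 :=
      (stalkMap_germ i ζ G U u t).symm.trans hx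
    have hx' : ΦZ.toPresheafFiber ((EtCoh.bc i).obj U) (liftPt i ζ U u) G.obj t =
        ΦZ.toPresheafFiber ((EtCoh.bc i).obj U) (liftPt i ζ U u) G.obj 0 := by
      rw [hx1, map_zero]
    obtain ⟨W, φ, w, hw, hφt⟩ := (ΦZ.toPresheafFiber_eq_iff' _ _ t 0).1 hx'
    obtain ⟨V, k, h, v, hk, hv⟩ := exists_relative_lift i ζ U W φ w
    have h0 : (pushPsh i G).map k.op t = 0 := by
      change G.obj.map ((EtCoh.bc i).map k).op t = 0
      rw [← hk, op_comp, G.obj.map_comp]
      change G.obj.map h.op (G.obj.map φ.op t) = 0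
      rw [hφt, map_zero, map_zero]
    have hpt : ΦX.fiber.map k (projPt i ζ V v) = u := by
      rw [← projPt_map, ← hk, Functor.map_comp_apply, hv, hw, projPt_liftPt]
    have h2 := ΦX.toPresheafFiber_w_apply k (projPt i ζ V v) (pushPsh i G) t
    rw [hpt] at h2
    rw [← h2, h0, map_zero]
  · intro p
    obtain ⟨W, w, s, rfl⟩ := ΦZ.toPresheafFiber_jointly_surjective (P := G.obj) p
    let φ : W ⟶ (EtCoh.bc i).obj (EtCoh.top X) := (EtCore.bcTopIsTerminal i).from W
    obtain ⟨V, k, h, v, hk, hv⟩ := exists_relative_lift i ζ (EtCoh.top X) W φ w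
    refine ⟨ΦX.toPresheafFiber V (projPt i ζ V v) (pushPsh i G) (G.obj.map h.op s), ?_⟩
    have h3 := stalkMap_germ i ζ G V (projPt i ζ V v) (G.obj.map h.op s)
    rw [liftPt_projPt] at h3
    refine h3.trans ?_
    rw [← hv]
    exact ΦZ.toPresheafFiber_w_apply h v G.obj s

/-- the stalk of `i_* G` at `i ∘ ζ` is the stalk of `G` at `ζ` -/
theorem nonempty_stalk_iso [IsClosedImmersion i] :
    Nonempty ((Scheme.pointSmallEtale (ζ ≫ i)).presheafFiber.obj (pushPsh i G) ≅
      (Scheme.pointSmallEtale ζ).presheafFiber.obj G.obj) := by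
  haveI : IsIso (stalkMap i ζ G) :=
    (ConcreteCategory.isIso_iff_bijective _).2 (stalkMap_bijective i ζ G)
  exact ⟨asIso (stalkMap i ζ G)⟩

end Groth.Agent.Lib.Helper9.CIStalk
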