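import Groth.Agent.Lib.Helper9Colim

/-!
# The canonical topology of a sheaf topos
-/

namespace Groth.Agent.Lib.Helper9

open CategoryTheory Limits Opposite ToposFin

universe u w

variable {C : Type u} [SmallCategory C] (J : GrothendieckTopology C)

/-- Every sheaf is covered by the family of all maps from sheafified representables. -/
lemma jEpi_eps_all (Y : Sh J) : JEpi (fun i : Σ U : C, (eps J U ⟶ Y) => i.2) := by
  rw [jEpi_iff_famImageSieve_mem]
  intro U x
  refine J.superset_covering ?_ (J.top_mem U)
  intro V f _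
  refine ⟨⟨V, (shYonedaEquiv J V Y).symm (Y.obj.map f.op x)⟩, etaSec J V, ?_⟩
  show ((shYonedaEquiv J V Y).symm (Y.obj.map f.op x)).hom.app (op V) (etaSec J V) = _
  rw [← shYonedaEquiv_eq, Equiv.apply_symm_apply]

/-- The coverage on `Sh J` of small jointly epimorphic families. -/
def jEpiCoverage : Coverage (Sh J) where
  coverings X := {R | ∃ (ι : Type u) (F : ι → Sh J) (π : ∀ i, F i ⟶ X),
    JEpi π ∧ R = Presieve.ofArrows F π}
  pullback := by
    rintro X Y f R ⟨ι, F, π, hπ, rfl⟩
    refine ⟨Presieve.ofArrows (fun i => pullback (π i) f) (fun i => pullback.snd (π i) f),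
      ⟨ι, _, _, hπ.pb_snd f, rfl⟩, ?_⟩
    rintro Z g ⟨i⟩
    exact ⟨F i, pullback.fst _ _, π i, ⟨i⟩, pullback.condition⟩

variable {J}

lemma isSheafFor_yoneda_of_jEpi {X : Sh J} {ι : Type u} {F : ι → Sh J} (π : ∀ i, F i ⟶ X)
    (hπ : JEpi π) (M : Sh J) :
    Presieve.IsSheafFor (yoneda.obj M) (Presieve.ofArrows F π) := by
  rw [Presieve.isSheafFor_arrows_iff]
  intro x hx
  obtain ⟨m, hm⟩ := jEpi_desc_exists π hπ x (fun i j W a b h => hx i j W a b h)
  exact ⟨m, hm, fun m' hm' => hπ _ _ fun i => (hm' i).trans (hm i).symm⟩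

variable (J)

/-- The canonical topology of a sheaf topos is generated by small jointly epimorphic families. -/
theorem canonicalTopology_eq :
    Sheaf.canonicalTopology (Sh J) = (jEpiCoverage J).toGrothendieck := by
  apply le_antisymm
  · intro X S hS
    let ι := {i : Σ U : C, (eps J U ⟶ X) // S i.2}
    refine Coverage.mem_toGrothendieck_sieves_of_superset _
      (R := Presieve.ofArrows (fun i : ι => eps J i.1.1) (fun i => i.1.2)) ?_
      ⟨ι, _, _, ?_, rfl⟩
    · rintro Y g ⟨i⟩
      exact i.2
    · intro Z a b hab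
      have hsep := (Sheaf.isSheaf_yoneda_obj Z S hS).isSeparatedFor
      refine hsep.ext ?_
      intro Y g hg
      show g ≫ a = g ≫ b
      refine (jEpi_eps_all J Y) _ _ fun i => ?_
      have := hab ⟨⟨i.1, i.2 ≫ g⟩, S.downward_closed hg i.2⟩
      simpa using this
  · refine Sheaf.le_finestTopology _ _ ?_
    rintro P ⟨M, rfl⟩
    rw [Presieve.isSheaf_coverage]
    rintro X R ⟨ι, F, π, hπ, rfl⟩
    exact isSheafFor_yoneda_of_jEpi π hπ M

theorem isSheaf_canonical_iff (P : (Sh J)ᵒᵖ ⥤ Type w) :
    Presieve.IsSheaf (Sheaf.canonicalTopology (Sh J)) P ↔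
      ∀ (X : Sh J) (ι : Type u) (F : ι → Sh J) (π : ∀ i, F i ⟶ X), JEpi π →
        Presieve.IsSheafFor P (Presieve.ofArrows F π) := by
  rw [canonicalTopology_eq, Presieve.isSheaf_coverage]
  constructor
  · intro h X ι F π hπ
    exact h _ ⟨ι, F, π, hπ, rfl⟩
  · rintro h X R ⟨ι, F, π, hπ, rfl⟩
    exact h X ι F π hπ

variable {J}

/-- A sheaf of types for the canonical topology of a sheaf topos turns small colimits into
limits. -/
theorem preservesLimits_of_isSheaf_canonical (P : (Sh J)ᵒᵖ ⥤ Type w)
    (hP : Presieve.IsSheaf (Sheaf.canonicalTopology (Sh J)) P) :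
    PreservesLimitsOfSize.{u, u} P := by
  rw [isSheaf_canonical_iff] at hP
  refine ⟨fun {K} _ => ⟨fun {D} => ⟨fun {c} hc => ?_⟩⟩⟩
  rw [Types.isLimit_iff]
  intro s hs
  let c' := coconeLeftOpOfCone c
  have hc' : IsColimit c' := isColimitCoconeLeftOpOfCone D hc
  let π : ∀ k : K, (D.obj k).unop ⟶ c.pt.unop := fun k => (c.π.app k).unop
  have hπ : JEpi π := by
    intro Z a b hab
    exact jEpi_of_isColimit_cocone c' hc' a b fun k' => hab k'.unop
  have hsh := (Presieve.isSheafFor_arrows_iff (P := P) (π := π)).1 (hP _ K _ π hπ)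
  have hcompat : Presieve.Arrows.Compatible P π (fun k => s k) := by
    intro k l W a b hab
    let p₁ := pullback.fst (c'.ι.app (op k)) (c'.ι.app (op l))
    let p₂ := pullback.snd (c'.ι.app (op k)) (c'.ι.app (op l))
    have main : P.map p₁.op (s k) = P.map p₂.op (s l) := by
      have zz := exists_zigzag_cover c' hc'
        (fun V k' l' a b => P.map a.op (s k'.unop) = P.map b.op (s l'.unop))
        (fun V k' l' φ a => by
          have h1 : s k'.unop = P.map (D.map φ.unop) (s l'.unop) := (hs φ.unop).symm
          rw [h1]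
          have h2 : (a ≫ D.leftOp.map φ).op = D.map φ.unop ≫ a.op := rfl
          rw [h2, FunctorToTypes.map_comp_apply])
        (fun V k l a b h => h.symm)
        (fun V k l m a b d h1 h2 => h1.trans h2) (op k) (op l)
      refine (hP _ _ _ _ zz).isSeparatedFor.ext ?_
      rintro Y e ⟨i⟩
      have h3 := i.2
      simp only [op_comp, FunctorToTypes.map_comp_apply] at h3
      exact h3
    have hlift : ∃ w : W ⟶ pullback (c'.ι.app (op k)) (c'.ι.app (op l)),
        w ≫ p₁ = a ∧ w ≫ p₂ = b :=
      ⟨pullback.lift a b hab, pullback.lift_fst _ _ _, pullback.lift_snd _ _ _⟩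
    obtain ⟨w, rfl, rfl⟩ := hlift
    rw [op_comp, op_comp, FunctorToTypes.map_comp_apply, FunctorToTypes.map_comp_apply]
    exact congrArg (P.map w.op) main
  obtain ⟨t, ht, htu⟩ := hsh (fun k => s k) hcompat
  exact ⟨t, ht, htu⟩

section Cech

variable {X : Sh J} {ι : Type u} {F : ι → Sh J} (π : ∀ i, F i ⟶ X)

/-- The multispan index of the Čech diagram of a family. -/
noncomputable def cechIndex : MultispanIndex (MultispanShape.prod ι) (Sh J) where
  left p := pullback (π p.1) (π p.2)
  right i := F i
  fst p := pullback.fst _ _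
  snd p := pullback.snd _ _

/-- The multicofork of the Čech diagram. -/
noncomputable def cechCofork : Multicofork (cechIndex π) :=
  Multicofork.ofπ (cechIndex π) X π (fun _ => pullback.condition)

/-- A jointly epimorphic family exhibits its target as the colimit of its Čech diagram. -/
theorem cechCofork_isColimit (hπ : JEpi π) : Nonempty (IsColimit (cechCofork π)) := by
  have hex : ∀ E : Multicofork (cechIndex π), ∃ m : X ⟶ E.pt, ∀ i, π i ≫ m = E.π i := fun E =>
    jEpi_desc_exists π hπ (fun i => E.π i) (by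
      intro i j W a b hab
      have h1 : pullback.fst (π i) (π j) ≫ E.π i = pullback.snd (π i) (π j) ≫ E.π j :=
        E.condition (i, j)
      have e1 : pullback.lift a b hab ≫ pullback.fst (π i) (π j) = a := pullback.lift_fst _ _ _
      have e2 : pullback.lift a b hab ≫ pullback.snd (π i) (π j) = b := pullback.lift_snd _ _ _
      calc a ≫ E.π i = (pullback.lift a b hab ≫ pullback.fst (π i) (π j)) ≫ E.π i := by rw [e1]
        _ = (pullback.lift a b hab ≫ pullback.snd (π i) (π j)) ≫ E.π j := by
          rw [Category.assoc, Category.assoc, h1]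
        _ = b ≫ E.π j := by rw [e2])
  choose m hm using hex
  exact ⟨Multicofork.IsColimit.mk _ m (fun E i => hm E i)
    (fun E m' hm' => hπ _ _ fun i => (hm' i).trans (hm E i).symm)⟩

/-- A presheaf of types on a sheaf topos which turns small colimits into limits satisfies the
sheaf condition for jointly epimorphic families. -/
theorem isSheafFor_of_preservesLimits (P : (Sh J)ᵒᵖ ⥤ Type w) [PreservesLimitsOfSize.{u, u} P]
    (hπ : JEpi π) : Presieve.IsSheafFor P (Presieve.ofArrows F π) := by
  rw [Presieve.isSheafFor_arrows_iff]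
  intro x hx
  obtain ⟨hc⟩ := cechCofork_isColimit π hπ
  have hlim : IsLimit (P.mapCone (cechCofork π).op) := isLimitOfPreserves P hc.op
  have key := (Types.isLimit_iff _).1 ⟨hlim⟩
  let s : ∀ j : (WalkingMultispan (MultispanShape.prod ι))ᵒᵖ,
      ((cechIndex π).multispan.op ⋙ P).obj j := fun j =>
    match j with
    | op (WalkingMultispan.left p) => P.map (pullback.fst (π p.1) (π p.2)).op (x p.1)
    | op (WalkingMultispan.right i) => x i
  have hs : s ∈ ((cechIndex π).multispan.op ⋙ P).sections := by
    intro j j' f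
    obtain ⟨j⟩ := j
    obtain ⟨j'⟩ := j'
    obtain ⟨f⟩ := f
    change j' ⟶ j at f
    rcases f with _ | p | p
    · have : ∀ A : (WalkingMultispan (MultispanShape.prod ι))ᵒᵖ,
          (((cechIndex π).multispan.op ⋙ P).map (𝟙 A)) (s A) = s A := by
        intro A
        rw [CategoryTheory.Functor.map_id]
        rfl
      exact this _
    · rfl
    · exact (hx p.1 p.2 _ _ _ pullback.condition).symm
  obtain ⟨t, ht, htu⟩ := key s hs
  refine ⟨t, fun i => ht (op (.right i)), fun t' ht' => htu t' ?_⟩
  rintro ⟨j⟩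
  cases j with
  | left p =>
    show P.map (pullback.fst (π p.1) (π p.2) ≫ π p.1).op t' =
      P.map (pullback.fst (π p.1) (π p.2)).op (x p.1)
    rw [op_comp, FunctorToTypes.map_comp_apply, ht']
  | right i => exact ht' i

end Cech

/-- SGA 4 IV 1.?: sheaves of types for the canonical topology of a sheaf topos are exactly the
presheaves turning small colimits into limits. -/
theorem isSheaf_canonical_iff_preservesLimits_type (P : (Sh J)ᵒᵖ ⥤ Type w) :
    Presieve.IsSheaf (Sheaf.canonicalTopology (Sh J)) P ↔ PreservesLimitsOfSize.{u, u} P := by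
  constructor
  · exact preservesLimits_of_isSheaf_canonical P
  · intro h
    rw [isSheaf_canonical_iff]
    intro X ι F π hπ
    exact isSheafFor_of_preservesLimits π P hπ

end Groth.Agent.Lib.Helper9
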