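import Mathlib
import Groth.Prelude.Def_EtCech
import Groth.Agent.Lib.Helper21CechFree
import Groth.Agent.Lib.Helper13DeltaNat
import Groth.Agent.Lib.Helper9DeltaDerived
import Groth.Agent.S0665

/-!
# Čech cohomology of presheaves as an effaceable δ-functor (helper9)
-/

set_option autoImplicit false
universe w v u
open CategoryTheory CategoryTheory.Limits Opposite

namespace Groth.Agent.Lib.Helper9.CechDelta

open Groth.Agent.Lib.Helper21.CechFree

variable {C : Type u} [Category.{v} C] {U : C} [HasFiniteProducts (Over U)] {ι : Type w}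
  (Y : ι → Over U)

/-- the Čech complex functor on presheaves on `C`. -/
noncomputable abbrev G : (Cᵒᵖ ⥤ AddCommGrpCat.{w}) ⥤ CochainComplex AddCommGrpCat.{w} ℕ :=
  (Functor.whiskeringLeft (Over U)ᵒᵖ Cᵒᵖ AddCommGrpCat.{w}).obj (Over.forget U).op ⋙
    cechComplexFunctor Y

theorem cxMap_proj {P Q : Cᵒᵖ ⥤ AddCommGrpCat.{w}} (φ : P ⟶ Q) (n : ℕ) (i : Fin (n + 1) → ι) :
    ((G Y).map φ).f n ≫ proj Y Q n i = proj Y P n i ≫ φ.app _ := by
  have h : ((G Y).map φ).f n =
      Limits.Pi.map (fun (i : Fin (n + 1) → ι) => φ.app (op (fp Y i).left)) := rfl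
  rw [h]
  exact Limits.Pi.map_π _ _


instance : (G Y).Additive where
  map_add {P Q} f g := by
    ext n : 1
    apply Limits.Pi.hom_ext
    intro (i : Fin (n + 1) → ι)
    change ((G Y).map (f + g)).f n ≫ proj Y Q n i =
      (((G Y).map f).f n + ((G Y).map g).f n) ≫ proj Y Q n i
    rw [Preadditive.add_comp, cxMap_proj, cxMap_proj, cxMap_proj, ← Preadditive.comp_add]
    rfl

theorem shortExact_eval (S : ShortComplex (Cᵒᵖ ⥤ AddCommGrpCat.{w})) (hS : S.ShortExact)
    (W : Cᵒᵖ) : (S.map ((evaluation _ _).obj W)).ShortExact :=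
  hS.map_of_exact _

theorem injective_app_of_shortExact (S : ShortComplex (Cᵒᵖ ⥤ AddCommGrpCat.{w}))
    (hS : S.ShortExact) (W : Cᵒᵖ) : Function.Injective (S.f.app W).hom := by
  have := (shortExact_eval S hS W).mono_f
  exact (AddCommGrpCat.mono_iff_injective _).1 this

theorem surjective_app_of_shortExact (S : ShortComplex (Cᵒᵖ ⥤ AddCommGrpCat.{w}))
    (hS : S.ShortExact) (W : Cᵒᵖ) : Function.Surjective (S.g.app W).hom := by
  have := (shortExact_eval S hS W).epi_g
  exact (AddCommGrpCat.epi_iff_surjective _).1 this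

theorem exact_app_of_shortExact (S : ShortComplex (Cᵒᵖ ⥤ AddCommGrpCat.{w}))
    (hS : S.ShortExact) (W : Cᵒᵖ) (x : S.X₂.obj W) (hx : (S.g.app W).hom x = 0) :
    ∃ y : S.X₁.obj W, (S.f.app W).hom y = x :=
  (ShortComplex.ab_exact_iff _).1 (shortExact_eval S hS W).exact x hx

/-- the Čech complex functor is exact in each degree. -/
theorem shortExact_G_eval (S : ShortComplex (Cᵒᵖ ⥤ AddCommGrpCat.{w})) (hS : S.ShortExact)
    (n : ℕ) : ((S.map (G Y)).map (HomologicalComplex.eval _ _ n)).ShortExact := by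
  have hf : ∀ (c : ((G Y).obj S.X₁).X n) (i : Fin (n + 1) → ι),
      (proj Y S.X₂ n i).hom ((((G Y).map S.f).f n).hom c) =
        (S.f.app _).hom ((proj Y S.X₁ n i).hom c) := fun c i =>
    ConcreteCategory.congr_hom (cxMap_proj Y S.f n i) c
  have hg : ∀ (c : ((G Y).obj S.X₂).X n) (i : Fin (n + 1) → ι),
      (proj Y S.X₃ n i).hom ((((G Y).map S.g).f n).hom c) =
        (S.g.app _).hom ((proj Y S.X₂ n i).hom c) := fun c i =>
    ConcreteCategory.congr_hom (cxMap_proj Y S.g n i) c
  refine ShortComplex.ShortExact.mk' ?_ ?_ ?_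
  · rw [ShortComplex.ab_exact_iff]
    intro (c : ((G Y).obj S.X₂).X n) (hc : (((G Y).map S.g).f n).hom c = 0)
    have h1 : ∀ i, ∃ y, (S.f.app _).hom y = (proj Y S.X₂ n i).hom c := by
      intro i
      apply exact_app_of_shortExact S hS
      rw [← hg, hc, map_zero]
    choose y hy using h1
    refine ⟨mkX Y S.X₁ y, ?_⟩
    change (((G Y).map S.f).f n).hom _ = c
    apply X_ext
    intro i
    rw [hf, proj_mkX, hy]
  · rw [AddCommGrpCat.mono_iff_injective]
    intro (c : ((G Y).obj S.X₁).X n) (c' : ((G Y).obj S.X₁).X n)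
      (hcc : (((G Y).map S.f).f n).hom c = (((G Y).map S.f).f n).hom c')
    apply X_ext
    intro i
    apply injective_app_of_shortExact S hS
    rw [← hf, ← hf, hcc]
  · rw [AddCommGrpCat.epi_iff_surjective]
    intro (c : ((G Y).obj S.X₃).X n)
    have h1 : ∀ i, ∃ y, (S.g.app _).hom y = (proj Y S.X₃ n i).hom c :=
      fun i => surjective_app_of_shortExact S hS _ _
    choose y hy using h1
    refine ⟨mkX Y S.X₂ y, ?_⟩
    change (((G Y).map S.g).f n).hom _ = c
    apply X_ext
    intro i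
    rw [hg, proj_mkX, hy]

/-- the Čech complex functor is exact. -/
theorem shortExact_G (S : ShortComplex (Cᵒᵖ ⥤ AddCommGrpCat.{w})) (hS : S.ShortExact) :
    (S.map (G Y)).ShortExact :=
  HomologicalComplex.shortExact_of_degreewise_shortExact _ (shortExact_G_eval Y S hS)

open Groth.Agent.Lib.Helper9.DeltaDerived

/-- Čech cohomology as an effaceable δ-functor. -/
noncomputable def effDelta [LocallySmall.{w} C] :
    EffDelta (fun n => EtCech.cechHFunctor (C := C) Y n) where
  δ S hS n := (shortExact_G Y S hS).δ n (n + 1) rfl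
  δ_nat hS hS' φ n :=
    (Groth.Agent.Helper13DeltaNat.δ_naturality ((G Y).mapShortComplex.map φ) (shortExact_G Y _ hS)
      (shortExact_G Y _ hS') n (n + 1) rfl).symm
  comp_δ S hS n := (shortExact_G Y S hS).comp_δ n (n + 1) rfl
  exact₃ S hS n := (shortExact_G Y S hS).homology_exact₃ n (n + 1) rfl
  δ_comp S hS n := (shortExact_G Y S hS).δ_comp n (n + 1) rfl
  exact₁ S hS n := (shortExact_G Y S hS).homology_exact₁ n (n + 1) rfl
  isZero J _ n := Groth.Agent.S0665.result Y J n


/-- `Ȟ⁰` is left exact. -/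
theorem preservesFiniteLimits_cechH0 [(EtCech.cechHFunctor (C := C) Y 0).Additive] :
    PreservesFiniteLimits (EtCech.cechHFunctor (C := C) Y 0) := by
  rw [Functor.preservesFiniteLimits_iff_forall_exact_map_and_mono]
  intro S hS
  have hG := shortExact_G Y S hS
  refine ⟨hG.homology_exact₂ 0, ?_⟩
  -- monomorphism
  have hm0 : Mono (((G Y).map S.f).f 0) := (shortExact_G_eval Y S hS 0).mono_f
  have hc : Mono (HomologicalComplex.cyclesMap ((G Y).map S.f) 0) := by
    have h := HomologicalComplex.cyclesMap_i ((G Y).map S.f) 0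
    haveI : Mono (HomologicalComplex.cyclesMap ((G Y).map S.f) 0 ≫
        ((G Y).obj S.X₂).iCycles 0) := by
      rw [h]
      exact mono_comp _ _
    exact mono_of_mono _ (((G Y).obj S.X₂).iCycles 0)
  have h2 := CochainComplex.isoHomologyπ₀_inv_naturality ((G Y).map S.f)
  have h3 : HomologicalComplex.homologyMap ((G Y).map S.f) 0 =
      ((G Y).obj S.X₁).isoHomologyπ₀.inv ≫ HomologicalComplex.cyclesMap ((G Y).map S.f) 0 ≫
        ((G Y).obj S.X₂).isoHomologyπ₀.hom := by
    rw [← Category.assoc, ← h2, Category.assoc, Iso.inv_hom_id, Category.comp_id]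
  change Mono (HomologicalComplex.homologyMap ((G Y).map S.f) 0)
  rw [h3]
  infer_instance

end Groth.Agent.Lib.Helper9.CechDelta
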