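import Mathlib.CategoryTheory.Monoidal.Closed.Basic
import Mathlib.CategoryTheory.Monoidal.Cartesian.Basic
import Mathlib.CategoryTheory.Limits.Shapes.Pullback.IsPullback.Basic
import Mathlib.CategoryTheory.Adjunction.Limits

/-!
# Helper9Closed: products with a fixed object in a cartesian closed category

* `tensorLeftIsoProd U : tensorLeft U ≅ prod.functor.obj U`.
* `prod.functor.obj U` preserves colimits in a cartesian closed category.
* `isIso_prod_fst_pushout`: for a subterminal `U`, the pushout `P` of `U ⟵ U ⨯ Y ⟶ Y` satisfies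
  `U ⨯ P ≅ U` (via the first projection).
-/

set_option autoImplicit false

universe v u

open CategoryTheory CategoryTheory.Limits MonoidalCategory

namespace Groth.Agent.Lib.Helper9

variable {E : Type u} [Category.{v} E] [CartesianMonoidalCategory E]

/-- The comparison `U ⊗ W ≅ U ⨯ W`. -/
noncomputable def tensorIsoProd (U W : E) : U ⊗ W ≅ U ⨯ W :=
  IsLimit.conePointUniqueUpToIso
    (t := BinaryFan.mk (Limits.prod.fst : U ⨯ W ⟶ U) Limits.prod.snd)
    (CartesianMonoidalCategory.tensorProductIsBinaryProduct U W) (prodIsProd U W)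

@[reassoc (attr := simp)]
lemma tensorIsoProd_hom_fst (U W : E) :
    (tensorIsoProd U W).hom ≫ Limits.prod.fst = CartesianMonoidalCategory.fst U W :=
  IsLimit.conePointUniqueUpToIso_hom_comp
    (CartesianMonoidalCategory.tensorProductIsBinaryProduct U W) (prodIsProd U W)
    ⟨WalkingPair.left⟩

@[reassoc (attr := simp)]
lemma tensorIsoProd_hom_snd (U W : E) :
    (tensorIsoProd U W).hom ≫ Limits.prod.snd = CartesianMonoidalCategory.snd U W :=
  IsLimit.conePointUniqueUpToIso_hom_comp
    (CartesianMonoidalCategory.tensorProductIsBinaryProduct U W) (prodIsProd U W)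
    ⟨WalkingPair.right⟩

/-- `tensorLeft U ≅ prod.functor.obj U`. -/
noncomputable def tensorLeftIsoProd (U : E) : tensorLeft U ≅ prod.functor.obj U :=
  NatIso.ofComponents (fun W => tensorIsoProd U W) (by
    intro Y Y' f
    show (U ◁ f) ≫ (tensorIsoProd U Y').hom = (tensorIsoProd U Y).hom ≫ Limits.prod.map (𝟙 U) f
    apply Limits.prod.hom_ext
    · rw [Category.assoc, Category.assoc, tensorIsoProd_hom_fst, prod.map_fst, Category.comp_id,
        tensorIsoProd_hom_fst]
      exact CartesianMonoidalCategory.whiskerLeft_fst _ _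
    · rw [Category.assoc, Category.assoc, tensorIsoProd_hom_snd, prod.map_snd,
        tensorIsoProd_hom_snd_assoc]
      exact CartesianMonoidalCategory.whiskerLeft_snd _ _)

lemma preservesColimits_prod_functor [MonoidalClosed E] (U : E) :
    PreservesColimitsOfSize.{v, v} (prod.functor.obj U) := by
  have : PreservesColimitsOfSize.{v, v} (tensorLeft U) :=
    (ihom.adjunction U).leftAdjoint_preservesColimits
  exact preservesColimits_of_natIso (tensorLeftIsoProd U)

/-- For a subterminal object `U` of a cartesian closed category and a pushout square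
`U ⟵ U ⨯ Y ⟶ Y`, with pushout `P`, the projection `U ⨯ P ⟶ U` is an isomorphism. -/
theorem isIso_prod_fst_of_isPushout [MonoidalClosed E] {U Y P : E}
    (hU : ∀ (T : E) (a b : T ⟶ U), a = b)
    {inl : U ⟶ P} {inr : Y ⟶ P}
    (h : IsPushout (Limits.prod.fst : U ⨯ Y ⟶ U) (Limits.prod.snd : U ⨯ Y ⟶ Y) inl inr) :
    IsIso (Limits.prod.fst : U ⨯ P ⟶ U) := by
  have := preservesColimits_prod_functor (E := E) U
  have h' := h.map (prod.functor.obj U)
  have e1 : Limits.prod.map (𝟙 U) inl ≫ (Limits.prod.fst : U ⨯ P ⟶ U) ≫ prod.lift (𝟙 U) inl =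
      Limits.prod.map (𝟙 U) inl := by
    apply Limits.prod.hom_ext
    · rw [Category.assoc, Category.assoc, prod.lift_fst, Category.comp_id]
    · rw [Category.assoc, Category.assoc, prod.lift_snd, prod.map_fst_assoc, Category.id_comp,
        prod.map_snd, hU _ (Limits.prod.fst : U ⨯ U ⟶ U) Limits.prod.snd]
  have e2 : Limits.prod.map (𝟙 U) inr ≫ (Limits.prod.fst : U ⨯ P ⟶ U) ≫ prod.lift (𝟙 U) inl =
      Limits.prod.map (𝟙 U) inr := by
    apply Limits.prod.hom_ext
    · rw [Category.assoc, Category.assoc, prod.lift_fst, Category.comp_id]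
    · rw [Category.assoc, Category.assoc, prod.lift_snd, prod.map_fst_assoc, Category.id_comp,
        prod.map_snd]
      exact h.w
  refine ⟨prod.lift (𝟙 U) inl, ?_, prod.lift_fst _ _⟩
  apply h'.hom_ext
  · exact e1.trans (Category.comp_id _).symm
  · exact e2.trans (Category.comp_id _).symm

end Groth.Agent.Lib.Helper9
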