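import Mathlib
import Groth.Agent.Lib.Helper12ZarGlue
import Groth.Agent.Lib.Helper12OpenCoverSp
import Groth.Agent.Lib.Helper12ClosedDescent
import Groth.Agent.Lib.Helper12ImmDescent
import Groth.Agent.S10176
import Groth.Agent.S10177

/-!
# Descent of closed immersions along jointly surjective families of étale morphisms (helper9)

* `repWith_of_local`: `RepWith P f` (for `P` Zariski local at the target) can be checked, for every test scheme,
  on an open cover of the test scheme.
* `repWith_isClosedImmersion_of_charts`: descent of closed immersions along a jointly surjective family of étale charts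
  (from schemes).
* `repWith_isClosedImmersion_of_pieces`: the same for a pointwise family of étale morphisms from algebraic spaces.
* `isPullback_diagonal_piece`: the base change of the diagonal of `g : X ⟶ Y` to `A ×_Y B` is `A ×_X B ⟶ A ×_Y B`.
* `repWith_isImmersion_of_section`: helper12's `repWith_section` without the quasi-compactness.
-/

set_option autoImplicit false
set_option linter.style.haveILetI false
set_option backward.isDefEq.respectTransparency false
open CategoryTheory CategoryTheory.Limits AlgebraicGeometry Opposite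
universe u

namespace Groth.Agent.Lib.Helper9.ClosedFamDescent

section cat

variable {C : Type*} [Category C] [HasPullbacks C]

/-- the base change of the diagonal of `g : X ⟶ Y` to `A ×_Y B` is `A ×_X B ⟶ A ×_Y B` -/
theorem isPullback_diagonal_piece {X Y A B PX PY : C} (g : X ⟶ Y) (α : A ⟶ X) (β : B ⟶ X)
    {pA : PX ⟶ A} {pB : PX ⟶ B} (hPX : IsPullback pA pB α β)
    {qA : PY ⟶ A} {qB : PY ⟶ B} (hPY : IsPullback qA qB (α ≫ g) (β ≫ g))
    (c : PX ⟶ PY) (hcA : c ≫ qA = pA) (hcB : c ≫ qB = pB)
    (m : PY ⟶ pullback g g) (hm1 : m ≫ pullback.fst g g = qA ≫ α)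
    (hm2 : m ≫ pullback.snd g g = qB ≫ β) :
    IsPullback (pA ≫ α) c (pullback.diagonal g) m := by
  have hw : (pA ≫ α) ≫ pullback.diagonal g = c ≫ m := by
    apply pullback.hom_ext
    · rw [Category.assoc, pullback.diagonal_fst, Category.comp_id, Category.assoc, hm1,
        ← Category.assoc, hcA]
    · rw [Category.assoc, pullback.diagonal_snd, Category.comp_id, Category.assoc, hm2,
        ← Category.assoc, hcB, hPX.w]
  have key : ∀ s : PullbackCone (pullback.diagonal g) m,
      (s.snd ≫ qA) ≫ α = s.fst ∧ (s.snd ≫ qB) ≫ β = s.fst := by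
    intro s
    constructor
    · have h1 := congrArg (fun k => k ≫ pullback.fst g g) s.condition
      simp only [Category.assoc, pullback.diagonal_fst, Category.comp_id, hm1] at h1
      rw [Category.assoc]
      exact h1.symm
    · have h1 := congrArg (fun k => k ≫ pullback.snd g g) s.condition
      simp only [Category.assoc, pullback.diagonal_snd, Category.comp_id, hm2] at h1
      rw [Category.assoc]
      exact h1.symm
  refine ⟨⟨hw⟩, ⟨PullbackCone.IsLimit.mk _
    (fun s => hPX.lift (s.snd ≫ qA) (s.snd ≫ qB) ((key s).1.trans (key s).2.symm)) ?_ ?_ ?_⟩⟩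
  · intro s
    rw [← Category.assoc, hPX.lift_fst]
    exact (key s).1
  · intro s
    apply hPY.hom_ext
    · rw [Category.assoc, hcA, hPX.lift_fst]
    · rw [Category.assoc, hcB, hPX.lift_snd]
  · intro s k hk1 hk2
    apply hPX.hom_ext
    · rw [hPX.lift_fst, ← hk2, Category.assoc, hcA]
    · rw [hPX.lift_snd, ← hk2, Category.assoc, hcB]

end cat

open AlgSp Groth.Agent.Lib.Helper12

variable {S : Scheme.{u}}

/-- `RepWith P f`, for `P` Zariski-local on the target, can be checked for each test scheme on an open cover of it -/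
theorem repWith_of_local (P : MorphismProperty Scheme.{u}) [IsZariskiLocalAtTarget P]
    {F G : AlgSp.Sp S} (f : F ⟶ G)
    (h : ∀ (T : Over S) (g : (yon S).obj T ⟶ G), ∃ (ι : Type u) (Ti : ι → Over S)
      (j : ∀ i, Ti i ⟶ T), (∀ i, IsOpenImmersion (j i).left) ∧
      (∀ t : T.left, ∃ i, t ∈ Set.range (j i).left) ∧
      ∀ i, ∃ (W : Over S) (w : W ⟶ Ti i) (a : (yon S).obj W ⟶ F),
        IsPullback a ((yon S).map w) f ((yon S).map (j i) ≫ g) ∧ P w.left) :
    AlgSp.RepWith P f := by
  haveI : P.RespectsIso := inferInstance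
  haveI : (P.inverseImage (Over.forget S)).RespectsIso :=
    MorphismProperty.RespectsIso.inverseImage P _
  refine MorphismProperty.relative.of_exists (fun T g => ?_)
  obtain ⟨ι, Ti, j, hjo, hj, hloc⟩ := h T g
  haveI := hjo
  choose W w a sq hP using hloc
  obtain ⟨W₀, w₀, a₀, sq₀, hk⟩ := ZarGlue.exists_rep_of_openCover f g Ti j W w a sq hj
  choose k hk1 _ using hk
  exact ⟨W₀, a₀, w₀, sq₀, ZarGlue.property_of_openCover P w₀ Ti j hj W w k hk1 hP⟩

/-- descent of closed immersions along a jointly surjective family of étale charts -/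
theorem repWith_isClosedImmersion_of_charts {F Z : AlgSp.Sp S}
    (hZ : AlgSp.Representable (Limits.diag Z)) (f : F ⟶ Z) {ι : Type u} (T : ι → Over S)
    (p : ∀ i, (yon S).obj (T i) ⟶ Z) (hpe : ∀ i, RepWith @Etale (p i))
    (hsurj : ∀ z : Points Z, ∃ (i : ι) (t : (T i).left), Points.ofPt (p i) t = z)
    (h : ∀ i, ∃ (Pi : AlgSp.Sp S) (fst : Pi ⟶ F) (snd : Pi ⟶ (yon S).obj (T i)),
      IsPullback fst snd f (p i) ∧ RepWith @IsClosedImmersion snd) :
    RepWith @IsClosedImmersion f := by
  obtain ⟨γ, hγ⟩ := OpenCoverSp.exists_sigmaDesc T p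
  have hrep : AlgSp.Representable γ := Functor.relativelyRepresentable.of_diag hZ γ
  have hγe : RepWith @Etale γ := by
    refine OpenCoverSp.repWith_of_source_openCover @Etale γ hrep T (OpenCoverSp.sigmaι T)
      (fun x => ?_) (fun i => ?_)
    · obtain ⟨i, y, hy⟩ := OpenCoverSp.sigmaι_jointly_surjective T x
      exact ⟨i, y, hy⟩
    · rw [hγ]
      exact hpe i
  have hγs : RepWith @Surjective γ := by
    apply OpenCoverSp.repWith_surjective_of_points γ hrep
    intro z
    obtain ⟨i, t, rfl⟩ := hsurj z
    refine ⟨(OpenCoverSp.sigmaι T i).left t, ?_⟩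
    rw [← Groth.Agent.S10176.ofPt_map_comp, hγ]
  refine ClosedDescent.repWith_isClosedImmersion_of_chart f γ hγe hγs (pullback.fst f γ)
    (pullback.snd f γ) (IsPullback.of_hasPullback f γ) ?_
  apply repWith_of_local
  intro W g
  obtain ⟨g₀, rfl⟩ := (yon S).map_surjective g
  have hpb : ∀ i, IsPullback (pullback.fst g₀ (OpenCoverSp.sigmaι T i))
      (pullback.snd g₀ (OpenCoverSp.sigmaι T i)) g₀ (OpenCoverSp.sigmaι T i) :=
    fun i => IsPullback.of_hasPullback _ _
  refine ⟨ι, fun i => pullback g₀ (OpenCoverSp.sigmaι T i),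
    fun i => pullback.fst g₀ (OpenCoverSp.sigmaι T i), fun i => ?_, fun w => ?_, fun i => ?_⟩
  · exact MorphismProperty.of_isPullback (P := @IsOpenImmersion)
      ((hpb i).map (Over.forget S)).flip
      (inferInstance : IsOpenImmersion (OpenCoverSp.sigmaι T i).left)
  · obtain ⟨i, y, hy⟩ := OpenCoverSp.sigmaι_jointly_surjective T (g₀.left w)
    obtain ⟨q, hq, -⟩ := Scheme.exists_preimage_of_isPullback ((hpb i).map (Over.forget S)) w y
      hy.symm
    exact ⟨i, q, hq⟩
  · obtain ⟨Pi, fst, snd, sq, hcl⟩ := h i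
    -- the base change of `pullback.snd f γ` along `sigmaι i`
    have hw : fst ≫ f = (snd ≫ (yon S).map (OpenCoverSp.sigmaι T i)) ≫ γ := by
      rw [Category.assoc, hγ, sq.w]
    have sq1 : IsPullback (pullback.lift fst (snd ≫ (yon S).map (OpenCoverSp.sigmaι T i)) hw) snd
        (pullback.snd f γ) ((yon S).map (OpenCoverSp.sigmaι T i)) := by
      refine IsPullback.of_right ?_ (pullback.lift_snd _ _ _) (IsPullback.of_hasPullback f γ)
      rw [pullback.lift_fst, hγ]
      exact sq
    obtain ⟨W', w', a', sq2⟩ := hcl.1 ((yon S).map (pullback.snd g₀ (OpenCoverSp.sigmaι T i)))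
    haveI : IsClosedImmersion w'.left := hcl.2 _ _ w' sq2
    refine ⟨W', w', a' ≫ pullback.lift fst (snd ≫ (yon S).map (OpenCoverSp.sigmaι T i)) hw, ?_,
      inferInstance⟩
    have hcond : (yon S).map (pullback.fst g₀ (OpenCoverSp.sigmaι T i)) ≫ (yon S).map g₀ =
        (yon S).map (pullback.snd g₀ (OpenCoverSp.sigmaι T i)) ≫
          (yon S).map (OpenCoverSp.sigmaι T i) := by
      rw [← Functor.map_comp, ← Functor.map_comp, pullback.condition]
    rw [hcond]
    exact sq2.paste_horiz sq1

/-- descent of closed immersions along a pointwise family of étale morphisms from algebraic spaces -/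
theorem repWith_isClosedImmersion_of_pieces {F Z : AlgSp.Sp S} (hZ : IsAlgSpace Z) (f : F ⟶ Z)
    (h : ∀ z : Points Z, ∃ (E : AlgSp.Sp S) (_ : IsAlgSpace E) (m : E ⟶ Z) (_ : IsEtaleMor m)
      (P : AlgSp.Sp S) (fst : P ⟶ F) (snd : P ⟶ E), IsPullback fst snd f m ∧
        RepWith @IsClosedImmersion snd ∧ z ∈ Set.range (Points.map m)) :
    RepWith @IsClosedImmersion f := by
  obtain ⟨T₀, p₀, hp₀e, hp₀s⟩ := hZ.atlas
  choose E hE m hm P fst snd sq hcl hz using h
  have hy : ∀ t : T₀.left, ∃ y : Points (E (Points.ofPt p₀ t)),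
      Points.map (m (Points.ofPt p₀ t)) y = Points.ofPt p₀ t := fun t => hz _
  choose y hy using hy
  have hatl := fun t : T₀.left => (hE (Points.ofPt p₀ t)).atlas
  choose T e hee hes using hatl
  refine repWith_isClosedImmersion_of_charts hZ.diag f T (fun t => e t ≫ m (Points.ofPt p₀ t))
    (fun t => hm _ (e t) (hee t)) ?_ ?_
  · intro z
    obtain ⟨t, rfl⟩ := Groth.Agent.S10177.surjective_ofPt p₀ hp₀s z
    obtain ⟨t', ht'⟩ := Groth.Agent.S10177.surjective_ofPt (e t) (hes t) (y t)
    refine ⟨t, t', ?_⟩
    rw [← Points.map_ofPt, ht', hy]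
  · intro t
    refine ⟨pullback (snd (Points.ofPt p₀ t)) (e t),
      pullback.fst (snd (Points.ofPt p₀ t)) (e t) ≫ fst (Points.ofPt p₀ t),
      pullback.snd (snd (Points.ofPt p₀ t)) (e t), ?_, ?_⟩
    · exact (IsPullback.of_hasPullback (snd (Points.ofPt p₀ t)) (e t)).paste_horiz (sq _)
    · exact MorphismProperty.of_isPullback (P := RepWith @IsClosedImmersion)
        (IsPullback.of_hasPullback (snd (Points.ofPt p₀ t)) (e t)) (hcl _)

/-- helper12's `repWith_section` without quasi-compactness: a morphism `s` with `s ≫ f` an open immersion and `f`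
separated is an immersion -/
theorem repWith_isImmersion_of_section {X Y V : AlgSp.Sp S} (f : X ⟶ Y) (s : V ⟶ X)
    (hf : RepWith @IsClosedImmersion (pullback.diagonal f))
    (hj : RepWith @IsOpenImmersion (s ≫ f)) : RepWith @IsImmersion s := by
  have h1 := pullback_lift_diagonal_isPullback s f
  have hcl : RepWith @IsClosedImmersion (pullback.lift (𝟙 V) s (by simp) :
      V ⟶ pullback (s ≫ f) f) :=
    MorphismProperty.of_isPullback (P := RepWith @IsClosedImmersion) h1 hf
  have h2 := IsPullback.of_hasPullback (s ≫ f) f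
  have hop : RepWith @IsOpenImmersion (pullback.snd (s ≫ f) f) :=
    MorphismProperty.of_isPullback (P := RepWith @IsOpenImmersion) h2 hj
  have hs : s = pullback.lift (𝟙 V) s (by simp) ≫ pullback.snd (s ≫ f) f := by
    rw [pullback.lift_snd]
  rw [hs]
  exact (RepWith @IsImmersion).comp_mem _ _
    (ImmDescent.repWith_of_le (fun _ _ g hg => by
      haveI : IsClosedImmersion g := hg; exact (inferInstance : IsImmersion g)) hcl)
    (ImmDescent.repWith_of_le (fun _ _ g hg => by
      haveI : IsOpenImmersion g := hg; exact (inferInstance : IsImmersion g)) hop)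

end Groth.Agent.Lib.Helper9.ClosedFamDescent
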