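import Groth.Agent.Lib.Helper9Adh

/-!
# The closed complement of an open of a sheaf topos as a sheaf topos for a finer topology
-/

namespace Groth.Agent.Lib.Helper9

open CategoryTheory Limits Opposite ToposFin

universe u

variable {C : Type u} [SmallCategory C] (J : GrothendieckTopology C) (U : Cᵒᵖ ⥤ Type u)

/-- The sieve of arrows whose source carries a section of `U`. -/
def openSieve (V : C) : Sieve V where
  arrows W _ := Nonempty (U.obj (op W))
  downward_closed := by
    rintro W W' f ⟨x⟩ g
    exact ⟨U.map g.op x⟩

lemma openSieve_apply {V W : C} (f : W ⟶ V) : openSieve U V f ↔ Nonempty (U.obj (op W)) := Iff.rfl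

/-- The topology whose sheaves are the `J`-sheaves in the closed complement of `U`. -/
def closedTopology : GrothendieckTopology C where
  sieves V := {S | S ⊔ openSieve U V ∈ J V}
  top_mem' V := by
    show (⊤ : Sieve V) ⊔ openSieve U V ∈ J V
    rw [top_sup_eq]
    exact J.top_mem V
  pullback_stable' := by
    intro V W S f hS
    show S.pullback f ⊔ openSieve U W ∈ J W
    refine J.superset_covering ?_ (J.pullback_stable f hS)
    intro T g hg
    rcases hg with hg | hg
    · exact Or.inl hg
    · exact Or.inr hg
  transitive' := by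
    intro V S hS R hR
    show R ⊔ openSieve U V ∈ J V
    refine J.transitive hS _ ?_
    intro W f hf
    rcases hf with hf | hf
    · refine J.superset_covering ?_ (hR hf)
      intro T g hg
      rcases hg with hg | hg
      · exact Or.inl hg
      · exact Or.inr hg
    · have : (R ⊔ openSieve U V).pullback f = ⊤ := by
        rw [← Sieve.id_mem_iff_eq_top]
        exact Or.inr hf
      rw [this]
      exact J.top_mem W

lemma mem_closedTopology {V : C} (S : Sieve V) :
    S ∈ closedTopology J U V ↔ S ⊔ openSieve U V ∈ J V := Iff.rfl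

lemma le_closedTopology : J ≤ closedTopology J U := fun V S hS =>
  J.superset_covering (le_sup_left : S ≤ S ⊔ openSieve U V) hS

variable {J U}

/-- A `J`-sheaf with singleton sections wherever `U` has a section is a sheaf for the closed
topology. -/
lemma isSheaf_closedTopology {Z : Cᵒᵖ ⥤ Type u} (hZs : Presieve.IsSheaf J Z)
    (hZ : ∀ V : C, Nonempty (U.obj (op V)) → Nonempty (Unique (Z.obj (op V)))) :
    Presieve.IsSheaf (closedTopology J U) Z := by
  intro V S hS
  refine Presieve.isSheafFor_trans Z (S ⊔ openSieve U V) S (hZs _ hS) ?_ ?_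
  · intro W f hf
    exact (hZs _ (J.pullback_stable f hS)).isSeparatedFor
  · intro W f hf
    rcases hf with hf | hf
    · have : S.pullback f = ⊤ := by
        rw [← Sieve.id_mem_iff_eq_top]
        show S (𝟙 W ≫ f)
        rw [Category.id_comp]
        exact hf
      rw [this]
      exact Presieve.isSheafFor_top Z
    · intro x hx
      obtain ⟨hu⟩ := hZ W hf
      refine ⟨default, ?_, fun y _ => Unique.eq_default y⟩
      intro T g hg
      obtain ⟨hT⟩ := hZ T ⟨U.map g.op hf.some⟩
      exact Subsingleton.elim _ _

/-- A sheaf for the closed topology has singleton sections wherever `U` has a section. -/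
lemma unique_of_isSheaf_closedTopology {Z : Cᵒᵖ ⥤ Type u}
    (hZ : Presieve.IsSheaf (closedTopology J U) Z) (V : C) (hV : Nonempty (U.obj (op V))) :
    Nonempty (Unique (Z.obj (op V))) := by
  have hbot : (⊥ : Sieve V) ∈ closedTopology J U V := by
    show ⊥ ⊔ openSieve U V ∈ J V
    rw [bot_sup_eq]
    have : openSieve U V = ⊤ := by
      rw [← Sieve.id_mem_iff_eq_top]
      exact hV
    rw [this]
    exact J.top_mem V
  have h := hZ _ hbot
  let x : Presieve.FamilyOfElements Z (⊥ : Sieve V).arrows := fun W f hf => False.elim hf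
  have hx : x.Compatible := fun _ _ _ _ _ _ _ hf => False.elim hf
  obtain ⟨z, hz, huniq⟩ := h x hx
  exact ⟨⟨⟨z⟩, fun y => huniq y (fun W f hf => False.elim hf)⟩⟩

section Char

variable {J : GrothendieckTopology C} {U Z : Sh J}

/-- Two morphisms from an object over `U` to a sheaf with singleton sections over `U` agree. -/
lemma hom_ext_of_unique
    (hZ : ∀ V : C, Nonempty (U.obj.obj (op V)) → Nonempty (Unique (Z.obj.obj (op V))))
    {T : Sh J} (t : T ⟶ U) (f g : T ⟶ Z) : f = g := by
  apply Sheaf.hom_ext
  ext V x
  obtain ⟨h⟩ := hZ V.unop ⟨t.hom.app V x⟩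
  exact Subsingleton.elim _ _

/-- Membership in the closed complement, sectionwise. -/
lemma closedCompl_iff_unique :
    SGA4.closedCompl U Z ↔
      ∀ V : C, Nonempty (U.obj.obj (op V)) → Nonempty (Unique (Z.obj.obj (op V))) := by
  constructor
  · rintro hZ V ⟨x⟩
    let t : eps J V ⟶ U := (shYonedaEquiv J V U).symm x
    obtain ⟨f⟩ := closedCompl_hom_exists hZ t
    refine ⟨⟨⟨shYonedaEquiv J V Z f⟩, fun z => ?_⟩⟩
    have := closedCompl_hom_ext hZ t ((shYonedaEquiv J V Z).symm z) f
    show z = shYonedaEquiv J V Z f
    rw [← this, Equiv.apply_symm_apply]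
  · intro hZ
    have hsub : ∀ V : Cᵒᵖ, Nonempty (U.obj.obj V) → Subsingleton (Z.obj.obj V) := by
      intro V hV
      obtain ⟨h⟩ := hZ V.unop hV
      infer_instance
    let ψ : U ⟶ Z := ⟨
      { app := fun V => TypeCat.ofHom (fun x => (hZ V.unop ⟨x⟩).some.default)
        naturality := by
          intro V W f
          ext x
          have := hsub W ⟨U.obj.map f x⟩
          exact Subsingleton.elim _ _ }⟩
    show IsIso (prod.fst : U ⨯ Z ⟶ U)
    refine ⟨prod.lift (𝟙 U) ψ, ?_, prod.lift_fst _ _⟩
    apply Limits.prod.hom_ext
    · rw [Category.assoc, Category.id_comp]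
      exact (congrArg (fun s => prod.fst ≫ s) (prod.lift_fst _ _)).trans (Category.comp_id _)
    · rw [Category.assoc, Category.id_comp]
      refine (congrArg (fun s => prod.fst ≫ s) (prod.lift_snd _ _)).trans ?_
      exact hom_ext_of_unique hZ prod.fst _ _

end Char

section Reflector

variable (J : GrothendieckTopology C) (U : Sh J)

/-- The inclusion of sheaves for the closed topology into `J`-sheaves. -/
noncomputable def closedIncl : Sheaf (closedTopology J U.obj) (Type u) ⥤ Sh J :=
  ObjectProperty.lift (Presheaf.IsSheaf J) (sheafToPresheaf (closedTopology J U.obj) (Type u)) (fun F => by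
    rw [isSheaf_iff_isSheaf_of_type]
    exact Presieve.isSheaf_of_le _ (le_closedTopology J U.obj)
      ((isSheaf_iff_isSheaf_of_type _ _).1 F.property))

lemma closedIncl_mem (F : Sheaf (closedTopology J U.obj) (Type u)) :
    SGA4.closedCompl U ((closedIncl J U).obj F) := by
  rw [closedCompl_iff_unique]
  exact unique_of_isSheaf_closedTopology (J := J) (U := U.obj) (Z := F.obj)
    ((isSheaf_iff_isSheaf_of_type _ _).1 F.property)

/-- The reflector onto the closed complement. -/
noncomputable def closedReflector : Sh J ⥤ (SGA4.closedCompl U).FullSubcategory :=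
  (SGA4.closedCompl U).lift
    (sheafToPresheaf J (Type u) ⋙ presheafToSheaf (closedTopology J U.obj) (Type u) ⋙
      closedIncl J U) (fun X => closedIncl_mem J U _)

/-- Objects of the closed complement as sheaves for the closed topology. -/
noncomputable def closedToSheaf :
    (SGA4.closedCompl U).FullSubcategory ⥤ Sheaf (closedTopology J U.obj) (Type u) :=
  ObjectProperty.lift (Presheaf.IsSheaf (closedTopology J U.obj))
    ((SGA4.closedCompl U).ι ⋙ sheafToPresheaf J (Type u)) (fun Z => by
      rw [isSheaf_iff_isSheaf_of_type]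
      exact isSheaf_closedTopology ((isSheaf_iff_isSheaf_of_type _ _).1 Z.obj.property)
        (closedCompl_iff_unique.1 Z.property))

noncomputable def closedToSheafFullyFaithful : (closedToSheaf J U).FullyFaithful :=
  Functor.FullyFaithful.ofCompFaithful (G := sheafToPresheaf (closedTopology J U.obj) (Type u))
    (((SGA4.closedCompl U).fullyFaithfulι).comp (fullyFaithfulSheafToPresheaf J (Type u)))

/-- The reflector is left adjoint to the inclusion of the closed complement. -/
noncomputable def closedAdjunction : closedReflector J U ⊣ (SGA4.closedCompl U).ι :=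
  (sheafificationAdjunction (closedTopology J U.obj) (Type u)).restrictFullyFaithful
    (fullyFaithfulSheafToPresheaf J (Type u)) (closedToSheafFullyFaithful J U)
    (Iso.refl _) (Iso.refl _)

end Reflector

section Main

variable (J : GrothendieckTopology C) (U : Sh J)

instance closedReflector_preservesFiniteLimits : PreservesFiniteLimits (closedReflector J U) := by
  have hff := closedToSheafFullyFaithful J U
  have := hff.full
  have := hff.faithful
  have e : closedReflector J U ⋙ closedToSheaf J U ≅
      sheafToPresheaf J (Type u) ⋙ presheafToSheaf (closedTopology J U.obj) (Type u) :=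
    Iso.refl _
  have : PreservesFiniteLimits (closedReflector J U ⋙ closedToSheaf J U) :=
    preservesFiniteLimits_of_natIso e.symm
  constructor
  intro K _ _
  exact preservesLimitsOfShape_of_reflects_of_preserves (closedReflector J U) (closedToSheaf J U)

variable {J U}

/-- SGA 4 IV 9.3: the closed complement of an open is a left exact reflective subcategory, with
reflector `X ↦ U ⨿_{U × X} X`. -/
theorem closedCompl_lex_reflective (hU : SGA4.IsOpen U) :
    ∃ (L : Sh J ⥤ (SGA4.closedCompl U).FullSubcategory) (_ : L ⊣ (SGA4.closedCompl U).ι),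
      PreservesFiniteLimits L ∧
      ∀ X : Sh J, Nonempty (((SGA4.closedCompl U).ι).obj (L.obj X) ≅
        pushout (prod.fst : U ⨯ X ⟶ U) (prod.snd : U ⨯ X ⟶ X)) := by
  refine ⟨closedReflector J U, closedAdjunction J U, inferInstance, fun X => ?_⟩
  have hQ := closedPart_mem hU X
  let Q : (SGA4.closedCompl U).FullSubcategory := ⟨_, hQ⟩
  obtain ⟨a, ha⟩ := closedPart_desc_exists ((closedReflector J U).obj X).property
    ((closedAdjunction J U).unit.app X)
  let a' : Q ⟶ (closedReflector J U).obj X := ObjectProperty.homMk a
  let b : (closedReflector J U).obj X ⟶ Q :=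
    ((closedAdjunction J U).homEquiv X Q).symm (pushout.inr _ _)
  have hb : (closedAdjunction J U).unit.app X ≫ (SGA4.closedCompl U).ι.map b =
      pushout.inr _ _ := by
    exact ((closedAdjunction J U).homEquiv_unit (f := b)).symm.trans (Equiv.apply_symm_apply _ _)
  have h1 : b ≫ a' = 𝟙 _ := by
    apply ((closedAdjunction J U).homEquiv X _).injective
    rw [Adjunction.homEquiv_unit, Adjunction.homEquiv_unit, CategoryTheory.Functor.map_comp,
      ← Category.assoc, hb, CategoryTheory.Functor.map_id]
    exact ha.trans (Category.comp_id _).symm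
  have h2 : a' ≫ b = 𝟙 _ := by
    apply (SGA4.closedCompl U).ι.map_injective
    rw [CategoryTheory.Functor.map_comp, CategoryTheory.Functor.map_id]
    apply closedPart_hom_ext hQ
    rw [← Category.assoc]
    refine (congrArg (fun s => s ≫ (SGA4.closedCompl U).ι.map b) ha).trans ?_
    rw [hb]
    exact (Category.comp_id _).symm
  exact ⟨(SGA4.closedCompl U).ι.mapIso ⟨b, a', h1, h2⟩⟩

end Main

section Glue

variable {J : GrothendieckTopology C} {U : Sh J}

lemma isIso_prod_lift_of_open (hU : SGA4.IsOpen U) {Y : Sh J} (h : Y ⟶ U) :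
    IsIso (prod.lift h (𝟙 Y)) := by
  refine ⟨prod.snd, prod.lift_snd _ _, ?_⟩
  apply Limits.prod.hom_ext
  · rw [Category.assoc, Category.id_comp]
    refine (congrArg (fun s => prod.snd ≫ s) (prod.lift_fst _ _)).trans ?_
    exact open_hom_ext hU _ _
  · rw [Category.assoc, Category.id_comp]
    refine (congrArg (fun s => prod.snd ≫ s) (prod.lift_snd _ _)).trans ?_
    exact Category.comp_id _

/-- For an open `U`, the unit of `Over.forget U ⊣ Over.star U` is an isomorphism. -/
lemma isIso_forgetAdjStar_unit (hU : SGA4.IsOpen U) : IsIso (Over.forgetAdjStar U).unit := by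
  have : ∀ Y : Over U, IsIso ((Over.forgetAdjStar U).unit.app Y) := by
    intro Y
    have h1 : IsIso ((Over.forgetAdjStar U).unit.app Y).left := by
      rw [Over.forgetAdjStar_unit_app_left]
      exact isIso_prod_lift_of_open hU Y.hom
    have h2 : IsIso ((Over.forget U).map ((Over.forgetAdjStar U).unit.app Y)) := h1
    exact isIso_of_reflects_iso _ (Over.forget U)
  exact NatIso.isIso_of_isIso_app _

/-- `Over.star U` inverts every morphism between objects of the closed complement. -/
lemma isIso_star_map_of_closedCompl {Y Y' : Sh J} (hY : SGA4.closedCompl U Y)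
    (hY' : SGA4.closedCompl U Y') (g : Y ⟶ Y') : IsIso ((Over.star U).map g) := by
  have h1 : IsIso (prod.fst : U ⨯ Y ⟶ U) := hY
  have h2 : IsIso (prod.fst : U ⨯ Y' ⟶ U) := hY'
  have h3 : prod.map (𝟙 U) g ≫ (prod.fst : U ⨯ Y' ⟶ U) = prod.fst :=
    (prod.map_fst _ _).trans (Category.comp_id _)
  have h4 : IsIso (prod.map (𝟙 U) g ≫ (prod.fst : U ⨯ Y' ⟶ U)) := by rw [h3]; exact h1
  have h5 : IsIso (prod.map (𝟙 U) g) := IsIso.of_isIso_comp_right _ (prod.fst : U ⨯ Y' ⟶ U)
  have h6' : ((Over.star U).map g).left = prod.map (𝟙 U) g := Over.star_map_left U g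
  have h6 : IsIso ((Over.star U).map g).left := h6'.symm ▸ h5
  have h7 : IsIso ((Over.forget U).map ((Over.star U).map g)) := h6
  exact isIso_of_reflects_iso _ (Over.forget U)

end Glue

end Groth.Agent.Lib.Helper9
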