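import Mathlib
import Groth.Agent.Lib.Helper9SpDimFormula
import Groth.Agent.Lib.Helper4DimFormulaAD

/-!
# Relative dimension = dimension of the local ring of the fibre + transcendence degree (helper9)
-/

set_option autoImplicit false
set_option linter.style.haveILetI false
set_option backward.isDefEq.respectTransparency false
open CategoryTheory CategoryTheory.Limits AlgebraicGeometry Opposite
universe u

namespace Groth.Agent.Lib.Helper9.SpRelDimStalk

open AlgSp Groth.Agent.Lib.Helper9.SpPoint Groth.Agent.Lib.Helper9.ChartIndep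
  Groth.Agent.Lib.Helper9.ChartIndepAt Groth.Agent.Lib.Helper9.SpDimFormula

/-- scheme level: `dim_x X_y = dim O_{X_y,x} + trdeg κ(x)/κ(y)` in terms of `Dual3.resTrdeg` -/
theorem fibreDimAt_eq_stalk_add_resTrdeg {X Y : Scheme.{u}} (f : X ⟶ Y) [LocallyOfFiniteType f]
    (x : X) :
    FlatMor.fibreDimAt f x =
      ringKrullDim ((f.fiber (f x)).presheaf.stalk (f.asFiber x)) +
        ((Cardinal.toENat (Dual3.resTrdeg f x) : ℕ∞) : WithBot ℕ∞) := by
  have h1 := Groth.Agent.Lib.Helper4.DimFormula.fibreDimAt_eq_stalk_add_ptTrdeg f x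
  have h2 : Dual3.resTrdeg f x =
      ((Groth.Agent.Lib.Helper4.DimFormula.ptTrdeg f x : ℕ) : Cardinal.{u}) :=
    Groth.Agent.Lib.Helper4.DimFormula.trdeg_eq_ptTrdeg f x
  rw [h2, Cardinal.toENat_nat]
  exact h1

variable {S : Scheme.{u}}

theorem hasAtMor_resTrdeg_iff {X Y : Sp S} (f : X ⟶ Y) {U V : Over S}
    (a : (yon S).obj U ⟶ X) (b : (yon S).obj V ⟶ Y) (h : U ⟶ V) (u : U.left)
    (ha : RepWith @Etale a) (hb : RepWith @Etale b) (hcomm : a ≫ f = (yon S).map h ≫ b)
    (r : Cardinal.{u}) :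
    HasAtMor (fun _ _ h u => Dual3.resTrdeg h u = r) f (Points.ofPt a u) ↔
      Dual3.resTrdeg h.left u = r :=
  hasAtMor_iff (fun (U V : Scheme.{u}) (h : U ⟶ V) (u : U) => Dual3.resTrdeg h u)
    etSqInv_resTrdeg (fun t => t = r) f a b h u ha hb hcomm

theorem main {X Y : AlgSp.Space S} (f : X ⟶ Y)
    (hf : AlgSp.LocP @LocallyOfFiniteType f.hom) (x : AlgSp.Points X.obj) (d e : WithBot ℕ∞)
    (r : Cardinal.{u})
    (hd : AlgSp.HasAtMor (fun _ _ h u => FlatMor.fibreDimAt h u = d) f.hom x)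
    (he : AlgSp.HasAtMor (fun _ _ h u =>
      ringKrullDim ↥((h.fiber (h u)).presheaf.stalk (h.asFiber u)) = e) f.hom x)
    (hr : AlgSp.HasAtMor (fun _ _ h u => Dual3.resTrdeg h u = r) f.hom x) :
    d = e + ((Cardinal.toENat r : ℕ∞) : WithBot ℕ∞) := by
  obtain ⟨U, V, a, b, h, u, ha, hb, hcomm, rfl, he⟩ := he
  haveI : LocallyOfFiniteType h.left := hf a b h ha hb hcomm
  rw [hasAtMor_fibreDimAt_iff f.hom a b h u ha hb hcomm] at hd
  rw [hasAtMor_resTrdeg_iff f.hom a b h u ha hb hcomm] at hr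
  rw [← hd, ← he, ← hr]
  exact fibreDimAt_eq_stalk_add_resTrdeg h.left u

end Groth.Agent.Lib.Helper9.SpRelDimStalk
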