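import Mathlib
import Groth.Agent.Lib.Helper9SpDimFormula
import Groth.Agent.Lib.Helper9SpPoint6
import Groth.Agent.S9355

/-!
# Retrocompactness of the locus of relative dimension ≤ n for algebraic spaces (helper9)
-/

set_option autoImplicit false
set_option linter.style.haveILetI false
set_option backward.isDefEq.respectTransparency false
open CategoryTheory CategoryTheory.Limits AlgebraicGeometry Opposite
universe u

namespace Groth.Agent.Lib.Helper9.SpRetro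

open AlgSp Groth.Agent.Lib.Helper9.SpPoint Groth.Agent.Lib.Helper9.ChartIndep
  Groth.Agent.Lib.Helper9.ChartIndepAt Groth.Agent.Lib.Helper9.SpDimFormula

variable {S : Scheme.{u}}

/-- a chart diagram of `f` whose source chart covers `|X|` -/
theorem exists_global_chartDiagram {X Y : AlgSp.Space S} (f : X ⟶ Y) :
    ∃ (T V : Over S) (a : (yon S).obj T ⟶ X.obj) (b : (yon S).obj V ⟶ Y.obj) (k : T ⟶ V),
      RepWith @Etale a ∧ RepWith @Etale b ∧ a ≫ f.hom = (yon S).map k ≫ b ∧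
      Function.Surjective (Points.ofPt a) := by
  obtain ⟨U₀, a₀, ha₀, hs₀⟩ := X.property.atlas
  obtain ⟨V₀, b₀, hb₀, hsb₀⟩ := Y.property.atlas
  have hpb := hb₀.1.isPullback (a₀ ≫ f.hom)
  have het : Etale (hb₀.1.snd (a₀ ≫ f.hom)).left := hb₀.2 _ _ _ hpb
  have hsurj : Surjective (hb₀.1.snd (a₀ ≫ f.hom)).left := hsb₀.2 _ _ _ hpb
  refine ⟨hb₀.1.pullback (a₀ ≫ f.hom), V₀, (yon S).map (hb₀.1.snd (a₀ ≫ f.hom)) ≫ a₀, b₀,
    hb₀.1.fst' (a₀ ≫ f.hom), ?_, hb₀, ?_, ?_⟩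
  · exact (repWith_isMultiplicative (S := S) @Etale).comp_mem _ _
      ((repWith_yon_map_iff _ _).2 het) ha₀
  · rw [Category.assoc, hb₀.1.map_fst']
    exact hpb.w.symm
  · intro x
    obtain ⟨u₀, hu₀⟩ := exists_atlas_point a₀ hs₀ x
    obtain ⟨t, ht⟩ := hsurj.surj u₀
    refine ⟨t, ?_⟩
    rw [ofPt_yon_map_comp, ht, hu₀]

theorem main {X Y : AlgSp.Space S} (f : X ⟶ Y)
    (hf : AlgSp.LocP @LocallyOfFinitePresentation f.hom) (n : ℕ)
    (V : Set (AlgSp.Points X.obj)) (hV : IsOpen V) (hVc : IsCompact V) :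
    IsCompact (V ∩ {x : AlgSp.Points X.obj |
      AlgSp.HasAtMor (fun _ _ h u => FlatMor.fibreDimAt h u ≤ (n : WithBot ℕ∞)) f.hom x}) := by
  obtain ⟨T, V₀, a, b, k, ha, hb, hcomm, hsurj⟩ := exists_global_chartDiagram f
  haveI : LocallyOfFinitePresentation k.left := hf a b k ha hb hcomm
  have hπc : Continuous (Points.ofPt a) := Points.continuous_ofPt a
  have hπo : IsOpenMap (Points.ofPt a) := isOpenMap_ofPt (EtOver.mk a ha)
  have hL : ∀ t : T.left, AlgSp.HasAtMor (fun _ _ h u => FlatMor.fibreDimAt h u ≤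
      (n : WithBot ℕ∞)) f.hom (Points.ofPt a t) ↔ FlatMor.fibreDimAt k.left t ≤ n := fun t =>
    hasAtMor_iff (fun (U V : Scheme.{u}) (h : U ⟶ V) (u : U) => FlatMor.fibreDimAt h u)
      etSqInv_fibreDimAt (fun v => v ≤ (n : WithBot ℕ∞)) f.hom a b k t ha hb hcomm
  -- choose affine opens
  have hchoose : ∀ x : V, ∃ W : T.left.Opens, IsAffineOpen W ∧
      (W : Set T.left) ⊆ Points.ofPt a ⁻¹' V ∧ (x : Points X.obj) ∈ Points.ofPt a '' W := by
    rintro ⟨x, hx⟩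
    obtain ⟨t, rfl⟩ := hsurj x
    have hopen : IsOpen (Points.ofPt a ⁻¹' V) := hV.preimage hπc
    obtain ⟨W, hW, htW, hWV⟩ := (T.left.isBasis_affineOpens).exists_subset_of_mem_open
      (show t ∈ Points.ofPt a ⁻¹' V from hx) hopen
    obtain ⟨W', hW', rfl⟩ := hW
    exact ⟨W', hW', hWV, t, htW, rfl⟩
  choose W hWaff hWV hxW using hchoose
  obtain ⟨F, hF⟩ := hVc.elim_finite_subcover (fun x : V => Points.ofPt a '' (W x : Set T.left))
    (fun x => hπo _ (W x).isOpen) (fun x hx => Set.mem_iUnion.2 ⟨⟨x, hx⟩, hxW ⟨x, hx⟩⟩)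
  let K : Set T.left := ⋃ x ∈ F, (W x : Set T.left)
  have hKc : IsCompact K := F.finite_toSet.isCompact_biUnion fun x _ => (hWaff x).isCompact
  have hKo : IsOpen K := isOpen_biUnion fun x _ => (W x).isOpen
  have hret := Groth.Agent.S9355.result k.left n hKc hKo
  have himg : V ∩ {x : AlgSp.Points X.obj |
      AlgSp.HasAtMor (fun _ _ h u => FlatMor.fibreDimAt h u ≤ (n : WithBot ℕ∞)) f.hom x} =
      Points.ofPt a '' ({t : T.left | FlatMor.fibreDimAt k.left t ≤ n} ∩ K) := by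
    ext x
    constructor
    · rintro ⟨hxV, hxL⟩
      obtain ⟨i, hiF, hi⟩ := Set.mem_iUnion₂.1 (hF hxV)
      obtain ⟨t, htW, rfl⟩ := hi
      exact ⟨t, ⟨(hL t).1 hxL, Set.mem_iUnion₂.2 ⟨i, hiF, htW⟩⟩, rfl⟩
    · rintro ⟨t, ⟨htL, htK⟩, rfl⟩
      obtain ⟨i, hiF, hi⟩ := Set.mem_iUnion₂.1 htK
      exact ⟨hWV i hi, (hL t).2 htL⟩
  rw [himg]
  exact hret.image hπc

end Groth.Agent.Lib.Helper9.SpRetro
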