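import Mathlib
import Groth.Agent.Lib.Helper9SpRelDimStalk
import Groth.Agent.Lib.Helper9SpRetro
import Groth.Agent.Lib.Helper5StalkSpec
import Groth.Agent.S9686
import Groth.Agent.S9687

/-!
# Dimension formula inequalities for morphisms of algebraic spaces (helper9)
-/

set_option autoImplicit false
set_option linter.style.haveILetI false
set_option backward.isDefEq.respectTransparency false
open CategoryTheory CategoryTheory.Limits AlgebraicGeometry Opposite
universe u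

namespace Groth.Agent.Lib.Helper9.SpDimIneq

open AlgSp Groth.Agent.Lib.Helper9.SpPoint Groth.Agent.Lib.Helper9.ChartIndep
  Groth.Agent.Lib.Helper9.ChartIndepAt Groth.Agent.Lib.Helper9.SpDimFormula
  Groth.Agent.Lib.Helper9.SpRelDimStalk

theorem etInv_stalkDim :
    EtInv (fun (U : Scheme.{u}) (u : U) => ringKrullDim (U.presheaf.stalk u)) := by
  intro U U' e he u'
  exact (Groth.Agent.Lib.Helper9.EtDim.ringKrullDim_stalk_eq_of_etale e u').symm

/-- the local ring at the generic point of an irreducible component has dimension `0` -/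
theorem ringKrullDim_stalk_eq_zero_of_generic (X : Scheme.{u}) (ξ : X)
    (h : closure {ξ} ∈ irreducibleComponents X) : ringKrullDim (X.presheaf.stalk ξ) = 0 := by
  apply Groth.Agent.Lib.Helper5.StalkSpec.ringKrullDim_stalk_eq_zero_of_maximal
  intro z hz
  have h1 : closure {ξ} ⊆ closure {z} := by
    rw [specializes_iff_closure_subset] at hz
    exact hz
  have h2 : IsIrreducible (closure {z}) := isIrreducible_singleton.closure
  have h3 : closure {z} ⊆ closure {ξ} := h.2 h2 h1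
  have h4 : closure {z} = closure {ξ} := le_antisymm h3 h1
  have h5 : Inseparable z ξ := by
    rw [inseparable_iff_closure_eq]
    exact h4
  exact h5.eq

variable {S : Scheme.{u}}

theorem hasAt_stalkDim_iff {X : Sp S} {U : Over S}
    (a : (yon S).obj U ⟶ X) (u : U.left) (ha : RepWith @Etale a) (d : WithBot ℕ∞) :
    HasAt (fun U u => ringKrullDim ↥(U.presheaf.stalk u) = d) X (Points.ofPt a u) ↔
      ringKrullDim (U.left.presheaf.stalk u) = d :=
  hasAt_iff (fun (U : Scheme.{u}) (u : U) => ringKrullDim (U.presheaf.stalk u)) etInv_stalkDim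
    (fun t => t = d) a u ha

theorem add_top_of_nonneg (b : WithBot ℕ∞) (hb : 0 ≤ b) :
    b + ((⊤ : ℕ∞) : WithBot ℕ∞) = ⊤ := by
  induction b with
  | bot => exact absurd hb (by simp)
  | coe b' =>
    rw [← WithBot.coe_add, add_top]
    rfl

theorem main323 {X Y : AlgSp.Space S} (f : X ⟶ Y)
    (hY : AlgSp.IsLocNoethSp Y.obj) (hf : AlgSp.LocP @LocallyOfFiniteType f.hom)
    (x : AlgSp.Points X.obj) (E : Cardinal.{u})
    (hE : ∀ ξ : AlgSp.Points X.obj, ξ ⤳ x →
      AlgSp.HasAt (fun U u => ringKrullDim ↥(U.presheaf.stalk u) = 0) X.obj ξ →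
      ∀ s : Cardinal.{u}, AlgSp.HasAtMor (fun _ _ h u => Dual3.resTrdeg h u = s) f.hom ξ → s ≤ E)
    (a b : WithBot ℕ∞) (r : Cardinal.{u})
    (ha : AlgSp.HasAt (fun U u => ringKrullDim ↥(U.presheaf.stalk u) = a) X.obj x)
    (hb : AlgSp.HasAt (fun U u => ringKrullDim ↥(U.presheaf.stalk u) = b) Y.obj
      (AlgSp.Points.map f.hom x))
    (hr : AlgSp.HasAtMor (fun _ _ h u => Dual3.resTrdeg h u = r) f.hom x) :
    a + ((Cardinal.toENat r : ℕ∞) : WithBot ℕ∞) ≤ b + ((Cardinal.toENat E : ℕ∞) : WithBot ℕ∞) := by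
  obtain ⟨V₀, b₀, hb₀, hsb₀, hN⟩ := hY
  obtain ⟨U₀, a₀, ha₀, hs₀⟩ := X.property.atlas
  obtain ⟨u₀, rfl⟩ := exists_atlas_point a₀ hs₀ x
  obtain ⟨T, e, k, z, het, hTa, hcomm, hz1⟩ :=
    exists_chart_diagram_atlas f.hom a₀ ha₀ u₀ b₀ hb₀ hsb₀
  have hx : Points.ofPt a₀ u₀ = Points.ofPt ((yon S).map e ≫ a₀) z := by
    rw [ofPt_yon_map_comp, hz1]
  rw [hx] at ha hb hr hE
  generalize (yon S).map e ≫ a₀ = p at *
  haveI := hN
  haveI : LocallyOfFiniteType k.left := hf p b₀ k hTa hb₀ hcomm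
  rw [hasAt_stalkDim_iff p z hTa] at ha
  have hpt : Points.map f.hom (Points.ofPt p z) = Points.ofPt b₀ (k.left z) := by
    rw [Points.map_ofPt, hcomm, ofPt_yon_map_comp]
  rw [hpt, hasAt_stalkDim_iff b₀ _ hb₀] at hb
  rw [hasAtMor_resTrdeg_iff f.hom p b₀ k z hTa hb₀ hcomm] at hr
  have hr' : r = ((Groth.Agent.Lib.Helper4.DimFormula.ptTrdeg k.left z : ℕ) : Cardinal.{u}) := by
    rw [← hr]
    exact Groth.Agent.Lib.Helper4.DimFormula.trdeg_eq_ptTrdeg k.left z
  rcases lt_or_ge E Cardinal.aleph0 with hfin | hinf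
  · obtain ⟨E₀, rfl⟩ := Cardinal.lt_aleph0.1 hfin
    have key := Groth.Agent.S9687.result k.left z
      (Groth.Agent.Lib.Helper4.DimFormula.ptTrdeg k.left z) E₀
      (Groth.Agent.Lib.Helper4.DimFormula.trdeg_eq_ptTrdeg k.left z) (fun ξ hξ hsp => ?_)
    · rw [← ha, ← hb, hr', Cardinal.toENat_nat, Cardinal.toENat_nat]
      exact key
    · have h0 : HasAt (fun U u => ringKrullDim ↥(U.presheaf.stalk u) = 0) X.obj
          (Points.ofPt p ξ) :=
        ⟨T, p, ξ, hTa, rfl, ringKrullDim_stalk_eq_zero_of_generic _ ξ hξ⟩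
      have hs : Points.ofPt p ξ ⤳ Points.ofPt p z := hsp.map (Points.continuous_ofPt p)
      exact hE _ hs h0 _ ⟨T, V₀, p, b₀, k, ξ, hTa, hb₀, hcomm, rfl, rfl⟩
  · rw [Cardinal.toENat_eq_top.2 hinf, add_top_of_nonneg b]
    · exact le_top
    · rw [← hb]
      exact ringKrullDim_nonneg_of_nontrivial

theorem main324 {X Y : AlgSp.Space S} (f : X ⟶ Y)
    (hY : AlgSp.IsLocNoethSp Y.obj) (hf : AlgSp.LocP @LocallyOfFiniteType f.hom)
    (E : Cardinal.{u})
    (hE : ∀ ξ : AlgSp.Points X.obj,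
      AlgSp.HasAt (fun U u => ringKrullDim ↥(U.presheaf.stalk u) = 0) X.obj ξ →
      ∀ s : Cardinal.{u}, AlgSp.HasAtMor (fun _ _ h u => Dual3.resTrdeg h u = s) f.hom ξ → s ≤ E) :
    AlgSp.dim X.obj ≤ AlgSp.dim Y.obj + ((Cardinal.toENat E : ℕ∞) : WithBot ℕ∞) := by
  obtain ⟨V₀, b₀, hb₀, hsb₀, hN⟩ := hY
  haveI := hN
  unfold AlgSp.dim
  refine iSup_le fun U => iSup_le fun a => iSup_le fun ha => ?_
  have hpb := hb₀.1.isPullback (a ≫ f.hom)
  have het : Etale (hb₀.1.snd (a ≫ f.hom)).left := hb₀.2 _ _ _ hpb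
  have hsurj : Surjective (hb₀.1.snd (a ≫ f.hom)).left := hsb₀.2 _ _ _ hpb
  have hTa : RepWith @Etale ((yon S).map (hb₀.1.snd (a ≫ f.hom)) ≫ a) :=
    (repWith_isMultiplicative (S := S) @Etale).comp_mem _ _
      ((repWith_yon_map_iff _ _).2 het) ha
  have hcomm : ((yon S).map (hb₀.1.snd (a ≫ f.hom)) ≫ a) ≫ f.hom =
      (yon S).map (hb₀.1.fst' (a ≫ f.hom)) ≫ b₀ := by
    rw [Category.assoc, hb₀.1.map_fst']
    exact hpb.w.symm
  clear hpb
  generalize (hb₀.1.snd (a ≫ f.hom)) = e at *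
  generalize (hb₀.1.fst' (a ≫ f.hom)) = k at *
  generalize (hb₀.1.pullback (a ≫ f.hom)) = T at *
  haveI : LocallyOfFiniteType k.left := hf _ b₀ k hTa hb₀ hcomm
  have hdim : topologicalKrullDim T.left = topologicalKrullDim U.left :=
    Groth.Agent.Lib.Helper9.EtDim.topologicalKrullDim_eq_of_etale_surjective e.left
  have hV : topologicalKrullDim V₀.left ≤
      ⨆ (U : Over S) (a : (yon S).obj U ⟶ Y.obj) (_ : RepWith @Etale a),
        topologicalKrullDim ↥U.left :=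
    le_iSup_of_le V₀ (le_iSup_of_le b₀ (le_iSup_of_le hb₀ le_rfl))
  rw [← hdim]
  by_cases hT : IsEmpty T.left
  · haveI : IsEmpty (TopologicalSpace.IrreducibleCloseds ↥T.left) :=
      ⟨fun Z => isEmptyElim Z.2.nonempty.some⟩
    rw [topologicalKrullDim, Order.krullDim_eq_bot]
    exact bot_le
  · rw [not_isEmpty_iff] at hT
    obtain ⟨t₀⟩ := hT
    haveI : Nonempty V₀.left := ⟨k.left t₀⟩
    have hV0 : (0 : WithBot ℕ∞) ≤ topologicalKrullDim V₀.left :=
      Groth.Agent.Lib.Helper7.TopDim.topologicalKrullDim_nonneg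
    rcases lt_or_ge E Cardinal.aleph0 with hfin | hinf
    · obtain ⟨E₀, rfl⟩ := Cardinal.lt_aleph0.1 hfin
      have key := Groth.Agent.S9686.result k.left E₀ (fun ξ hξ => ?_)
      · rw [Cardinal.toENat_nat]
        exact key.trans (add_le_add_left hV _)
      · have h0 : HasAt (fun U u => ringKrullDim ↥(U.presheaf.stalk u) = 0) X.obj
            (Points.ofPt ((yon S).map e ≫ a) ξ) :=
          ⟨T, _, ξ, hTa, rfl, ringKrullDim_stalk_eq_zero_of_generic _ ξ hξ⟩
        exact hE _ h0 _ ⟨T, V₀, _, b₀, k, ξ, hTa, hb₀, hcomm, rfl, rfl⟩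
    · rw [Cardinal.toENat_eq_top.2 hinf, add_top_of_nonneg _ (hV0.trans hV)]
      exact le_top

end Groth.Agent.Lib.Helper9.SpDimIneq
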