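import Mathlib
import Groth.Agent.Lib.Helper9SpDimIneq
import Groth.Agent.Lib.Helper9SpQfAt
import Groth.Agent.Lib.Helper4DimFormulaAD
import Groth.Agent.Lib.Helper28DimFormula

/-!
# Fibres over points of codimension 0 (schemes) (helper9)

For `h : U ⟶ V` locally of finite type and `v ∈ V` with `dim O_{V,v} = 0`:
* `fibStalkDim_eq_of_dim_zero`: `dim O_{U_v,u} = dim O_{U,u}`;
* all points of `U` over `v` have codimension 0 iff `h` is quasi-finite at all of them, iff `h` is
  quasi-finite at those of codimension 0.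
-/

set_option autoImplicit false
set_option linter.style.haveILetI false
set_option backward.isDefEq.respectTransparency false
open CategoryTheory CategoryTheory.Limits AlgebraicGeometry Opposite IsLocalRing
universe u

namespace Groth.Agent.Lib.Helper9.CodimZeroFib

open Groth.Agent.Lib.Helper4.DimFormula Groth.Agent.Lib.Helper9.SpDimIneq

theorem fibStalkDim_eq_of_dim_zero {U V : Scheme.{u}} (h : U ⟶ V) (u : U)
    (hv : ringKrullDim (V.presheaf.stalk (h u)) = 0) :
    fibStalkDim h u = ringKrullDim (U.presheaf.stalk u) := by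
  unfold fibStalkDim
  apply Groth.Agent.Lib.Helper28.ringKrullDim_quotient_eq_of_le_nilradical
  haveI : Ring.KrullDimLE 0 (V.presheaf.stalk (h u)) := Ring.krullDimLE_iff.2 hv.le
  rw [Ideal.map_le_iff_le_comap]
  intro a ha
  rw [← Ring.KrullDimLE.nilradical_eq_maximalIdeal, mem_nilradical] at ha
  rw [Ideal.mem_comap, mem_nilradical]
  exact ha.map _

/-- a point of the fibre at which `h` is quasi-finite is closed in the fibre -/
theorem isClosed_singleton_fiber {U V : Scheme.{u}} (h : U ⟶ V) [LocallyOfFiniteType h] (s : V)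
    (z : h.fiber s) (hq : h.QuasiFiniteAt (h.fiberι s z)) : IsClosed ({z} : Set (h.fiber s)) := by
  obtain ⟨x, hx⟩ : ∃ x : U, h.fiberι s z = x := ⟨_, rfl⟩
  have hs : h x = s := by
    have := (h.fiberHomeo s z).2
    rw [← hx]
    exact this
  subst hs
  have hz : z = h.asFiber x := by
    have hinj : Function.Injective (h.fiberι (h x)) := by
      intro z₁ z₂ h12
      apply (h.fiberHomeo (h x)).injective
      exact Subtype.ext h12
    apply hinj
    rw [hx, h.fiberι_asFiber]
  rw [hz]
  rw [hx] at hq
  exact hq.isClopen_singleton_asFiber.1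

variable {U V : Scheme.{u}} (h : U ⟶ V) [LocallyOfFiniteType h] (v : V)
  (hv : ringKrullDim (V.presheaf.stalk v) = 0)

include hv

theorem stalkDim_eq_zero_of_fibreDimAt_le_zero (u : U) (hu : h u = v)
    (hq : FlatMor.fibreDimAt h u ≤ 0) : ringKrullDim (U.presheaf.stalk u) = 0 := by
  subst hu
  have h1 := fibreDimAt_eq_stalk_add_ptTrdeg h u
  rw [ringKrullDim_stalk_asFiber, fibStalkDim_eq_of_dim_zero h u hv] at h1
  apply le_antisymm _ ringKrullDim_nonneg_of_nontrivial
  refine le_trans ?_ hq
  rw [h1]
  exact le_add_of_nonneg_right (by exact_mod_cast Nat.zero_le _)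

theorem fibreDimAt_le_zero_of_forall_stalkDim_eq_zero
    (H : ∀ u : U, h u = v → ringKrullDim (U.presheaf.stalk u) = 0) (u : U) (hu : h u = v) :
    FlatMor.fibreDimAt h u ≤ 0 := by
  subst hu
  unfold FlatMor.fibreDimAt
  refine (Groth.Agent.Lib.Helper7.TopDim.localDim_le_dim _).trans ?_
  rw [Groth.Agent.Lib.Helper9.EtDim.topologicalKrullDim_le_iff]
  intro z
  have hz : h (h.fiberι (h u) z) = h u := (h.fiberHomeo (h u) z).2
  rw [ringKrullDim_stalk_fiber_eq_fibStalkDim, fibStalkDim_eq_of_dim_zero h _ (by rw [hz]; exact hv),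
    H _ hz]

theorem stalkDim_eq_zero_of_generic_qf
    (H : ∀ u : U, h u = v → ringKrullDim (U.presheaf.stalk u) = 0 → FlatMor.fibreDimAt h u ≤ 0)
    (u : U) (hu : h u = v) : ringKrullDim (U.presheaf.stalk u) = 0 := by
  subst hu
  rw [← fibStalkDim_eq_of_dim_zero h u hv, ← ringKrullDim_stalk_asFiber]
  -- the generic point of an irreducible component of the fibre through `u`
  obtain ⟨z', hz'⟩ := QuasiSober.sober (isIrreducible_irreducibleComponent (x := h.asFiber u))
    isClosed_irreducibleComponent
  have hcl : closure {z'} ∈ irreducibleComponents ↥(h.fiber (h u)) := by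
    rw [hz'.def]
    exact irreducibleComponent_mem_irreducibleComponents _
  have h0 := ringKrullDim_stalk_eq_zero_of_generic _ z' hcl
  have hfz' : h (h.fiberι (h u) z') = h u := (h.fiberHomeo (h u) z').2
  have h1 : ringKrullDim (U.presheaf.stalk (h.fiberι (h u) z')) = 0 := by
    rw [← fibStalkDim_eq_of_dim_zero h _ (by rw [hfz']; exact hv),
      ← ringKrullDim_stalk_fiber_eq_fibStalkDim, h0]
  have hq := H _ hfz' h1
  rw [← Groth.Agent.Lib.Helper3.GrpHomQF.quasiFiniteAt_iff_fibreDimAt_le_zero] at hq
  have hclosed := isClosed_singleton_fiber h (h u) z' hq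
  have hmem : h.asFiber u ∈ closure ({z'} : Set (h.fiber (h u))) := by
    rw [hz'.def]
    exact mem_irreducibleComponent
  rw [hclosed.closure_eq, Set.mem_singleton_iff] at hmem
  rw [hmem]
  exact h0

end Groth.Agent.Lib.Helper9.CodimZeroFib
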