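import Mathlib
import Groth.Prelude.Def_CohCx
import Groth.Agent.Lib.Helper9TFTop
import Groth.Agent.Lib.Helper6TF16

/-!
# Cohomology and filtered colimits for a class of quasi-compact sheaves (helper9)

Given a set `S` of quasi-compact sheaves of sets on a small site satisfying the hypotheses of the
Stacks project lemma "cohomology commutes with filtered colimits" (a member covers the final object,
refinement of epimorphisms, covers of binary products and of equalizers), the class `CC S` of sheaves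
`X` such that epimorphisms onto `X` are refined by members of `S` and equalizers of maps from members
of `S` to `X` are covered by members of `S` satisfies `ColimData`, hence `H^p` commutes with filtered
colimits.  No hypercoverings are used.
-/

set_option autoImplicit false
set_option linter.unusedSectionVars false
universe u
open CategoryTheory CategoryTheory.Limits Opposite Abelian

namespace Groth.Agent.Lib.Helper9.CohS

open ToposFin Groth.Agent.Lib.Helper6.TF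
open Groth.Agent.S12106
open Groth.Agent.Lib.Helper9.TFCartan Groth.Agent.Lib.Helper9.TFNerve Groth.Agent.Lib.Helper9.TFColim

variable {C : Type u} [SmallCategory C] {J : GrothendieckTopology C}

lemma locally_of_epi {Y X : Sh J} (f : Y ⟶ X) [Epi f] (U : C) (x : Sec X U) :
    ∃ R ∈ J U, ∀ ⦃V : C⦄ (g : V ⟶ U), R g → ∃ t : Sec Y V, ap f t = res X g x := by
  have h := jepi_of_epi.{u, 0} f
  refine ⟨_, h U x, ?_⟩
  rintro V g ⟨_, t, ht⟩
  exact ⟨t, ht⟩

lemma epi_of_locally {Y X : Sh J} (f : Y ⟶ X)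
    (h : ∀ (U : C) (x : Sec X U), ∃ R ∈ J U, ∀ ⦃V : C⦄ (g : V ⟶ U), R g →
      ∃ t : Sec Y V, ap f t = res X g x) : Epi f := by
  apply epi_of_jepi_single.{u, 0} f
  intro U x
  obtain ⟨R, hR, hR'⟩ := h U x
  refine J.superset_covering ?_ hR
  intro V g hg
  obtain ⟨t, ht⟩ := hR' g hg
  exact ⟨PUnit.unit, t, ht⟩

lemma epi_pullback_snd {X Y Z : Sh J} (f : X ⟶ Z) (g : Y ⟶ Z) [Epi f] : Epi (pullback.snd f g) :=
  Groth.Agent.Lib.Helper9.epi_of_isPullback_sheaf J (IsPullback.of_hasPullback f g).flip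

lemma epi_pullback_fst {X Y Z : Sh J} (f : X ⟶ Z) (g : Y ⟶ Z) [Epi g] : Epi (pullback.fst f g) :=
  Groth.Agent.Lib.Helper9.epi_of_isPullback_sheaf J (IsPullback.of_hasPullback f g)

variable (S : Set (Sh J))

/-- the class of objects -/
def CC (X : Sh J) : Prop :=
  (∀ (P : Sh J) (g : P ⟶ X), Epi g → ∃ (K' : Sh J) (k : K' ⟶ P), K' ∈ S ∧ Epi (k ≫ g)) ∧
  (∀ K ∈ S, ∀ (a b : K ⟶ X), ∃ (K'' : Sh J) (g : K'' ⟶ equalizer a b), K'' ∈ S ∧ Epi g)

/-- the hypotheses on the class `S` -/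
structure Hyp : Prop where
  h1 : ∃ K ∈ S, Epi (terminal.from K)
  h2 : ∀ (F K : Sh J) (g : F ⟶ K), K ∈ S → Epi g →
    ∃ (K' : Sh J) (k : K' ⟶ F), K' ∈ S ∧ Epi (k ≫ g)
  h3 : ∀ K ∈ S, ∀ K' ∈ S, ∃ (K'' : Sh J) (g : K'' ⟶ K ⨯ K'), K'' ∈ S ∧ Epi g
  h4 : ∀ K ∈ S, ∀ K' ∈ S, ∀ (a b : K ⟶ K'),
    ∃ (K'' : Sh J) (g : K'' ⟶ equalizer a b), K'' ∈ S ∧ Epi g
  h5 : ∀ K ∈ S, IsQC K

variable {S}

lemma cc_of_mem (H : Hyp S) {K : Sh J} (hK : K ∈ S) : CC S K :=
  ⟨fun P g hg => H.h2 P K g hK hg, fun K' hK' a b => H.h4 K' hK' K hK a b⟩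

lemma cc_top (H : Hyp S) : CC S (⊤_ (Sh J)) := by
  obtain ⟨K₀, hK₀, he⟩ := H.h1
  constructor
  · intro P g hg
    haveI := hg
    haveI : Epi (pullback.snd g (terminal.from K₀)) := epi_pullback_snd _ _
    obtain ⟨K', k, hK', hk⟩ := H.h2 _ K₀ (pullback.snd g (terminal.from K₀)) hK₀ inferInstance
    refine ⟨K', k ≫ pullback.fst _ _, hK', ?_⟩
    have e : (k ≫ pullback.fst g (terminal.from K₀)) ≫ g =
        (k ≫ pullback.snd g (terminal.from K₀)) ≫ terminal.from K₀ := by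
      rw [Category.assoc, Category.assoc, pullback.condition]
    rw [e]
    haveI := hk
    haveI := he
    exact epi_comp _ _
  · intro K hK a b
    obtain rfl : a = b := Subsingleton.elim _ _
    exact ⟨K, inv (equalizer.ι a a), hK, inferInstance⟩

lemma CC.of_iso {X Y : Sh J} (e : X ≅ Y) (hX : CC S X) : CC S Y := by
  constructor
  · intro P g hg
    haveI := hg
    obtain ⟨K', k, hK', hk⟩ := hX.1 P (g ≫ e.inv) (epi_comp _ _)
    refine ⟨K', k, hK', ?_⟩
    haveI := hk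
    have : k ≫ g = (k ≫ g ≫ e.inv) ≫ e.hom := by simp
    rw [this]
    exact epi_comp _ _
  · intro K hK a b
    obtain ⟨K'', g, hK'', hg⟩ := hX.2 K hK (a ≫ e.inv) (b ≫ e.inv)
    haveI := hg
    refine ⟨K'', g ≫ equalizer.lift (equalizer.ι (a ≫ e.inv) (b ≫ e.inv)) ?_, hK'', ?_⟩
    · have := equalizer.condition (a ≫ e.inv) (b ≫ e.inv)
      rw [← cancel_mono e.inv]
      simpa only [Category.assoc] using this
    · apply epi_of_locally
      intro U x
      have hx : ap a (ap (equalizer.ι a b) x) = ap b (ap (equalizer.ι a b) x) := by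
        rw [← ap_comp, ← ap_comp, equalizer.condition]
      obtain ⟨y, hy⟩ := (equalizer_eqSec (a ≫ e.inv) (b ≫ e.inv)).ex U (ap (equalizer.ι a b) x) (by
        rw [ap_comp, ap_comp, hx])
      obtain ⟨R, hR, hR'⟩ := locally_of_epi g U y
      refine ⟨R, hR, fun V f hf => ?_⟩
      obtain ⟨t, ht⟩ := hR' f hf
      refine ⟨t, ?_⟩
      apply (equalizer_eqSec a b).inj V
      rw [← ap_comp, Category.assoc, equalizer.lift_ι, ap_comp, ht, ap_res, hy, ap_res]

lemma CC.exists_cover {X : Sh J} (hX : CC S X) : ∃ (K : Sh J) (k : K ⟶ X), K ∈ S ∧ Epi k := by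
  obtain ⟨K, k, hK, hk⟩ := hX.1 X (𝟙 X) inferInstance
  rw [Category.comp_id] at hk
  exact ⟨K, k, hK, hk⟩

/-- fibre products of members of `S` over an object of the class are covered by members of `S` -/
lemma CC.pb_cover (H : Hyp S) {Z : Sh J} (hZ : CC S Z) {K₁ K₂ : Sh J} (hK₁ : K₁ ∈ S)
    (hK₂ : K₂ ∈ S) (a : K₁ ⟶ Z) (b : K₂ ⟶ Z) :
    ∃ (K'' : Sh J) (g : K'' ⟶ Limits.pullback a b), K'' ∈ S ∧ Epi g := by
  obtain ⟨K₃, g₃, hK₃, hg₃⟩ := H.h3 K₁ hK₁ K₂ hK₂
  haveI := hg₃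
  obtain ⟨a', ha'⟩ : ∃ a' : K₃ ⟶ Z, a' = g₃ ≫ prod.fst ≫ a := ⟨_, rfl⟩
  obtain ⟨b', hb'⟩ : ∃ b' : K₃ ⟶ Z, b' = g₃ ≫ prod.snd ≫ b := ⟨_, rfl⟩
  obtain ⟨K₄, g₄, hK₄, hg₄⟩ := hZ.2 K₃ hK₃ a' b'
  haveI := hg₄
  have hc : (equalizer.ι a' b' ≫ g₃ ≫ prod.fst) ≫ a = (equalizer.ι a' b' ≫ g₃ ≫ prod.snd) ≫ b := by
    have := equalizer.condition a' b'
    have e1 : (equalizer.ι a' b' ≫ g₃ ≫ prod.fst) ≫ a = equalizer.ι a' b' ≫ a' := by
      rw [ha']; simp only [Category.assoc]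
    have e2 : (equalizer.ι a' b' ≫ g₃ ≫ prod.snd) ≫ b = equalizer.ι a' b' ≫ b' := by
      rw [hb']; simp only [Category.assoc]
    rw [e1, e2, this]
  obtain ⟨m, hm⟩ : ∃ m : equalizer a' b' ⟶ Limits.pullback a b, m = pullback.lift _ _ hc := ⟨_, rfl⟩
  refine ⟨K₄, g₄ ≫ m, hK₄, ?_⟩
  haveI : Epi m := by
    obtain ⟨l, hl⟩ : ∃ l : Limits.pullback a b ⟶ K₁ ⨯ K₂,
      l = prod.lift (pullback.fst a b) (pullback.snd a b) := ⟨_, rfl⟩
    haveI : Epi (pullback.fst l g₃) := epi_pullback_fst _ _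
    have e1 : pullback.snd l g₃ ≫ g₃ = pullback.fst l g₃ ≫ l := pullback.condition.symm
    have e2 : l ≫ prod.fst = pullback.fst a b := by rw [hl]; exact prod.lift_fst _ _
    have e3 : l ≫ prod.snd = pullback.snd a b := by rw [hl]; exact prod.lift_snd _ _
    have hw : pullback.snd l g₃ ≫ a' = pullback.snd l g₃ ≫ b' := by
      rw [ha', hb', ← Category.assoc (pullback.snd l g₃) g₃, ← Category.assoc (pullback.snd l g₃) g₃,
        e1, Category.assoc, Category.assoc, ← Category.assoc l, ← Category.assoc l, e2, e3,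
        pullback.condition]
    have hfac : equalizer.lift (pullback.snd l g₃) hw ≫ m = pullback.fst l g₃ := by
      rw [hm]
      apply pullback.hom_ext
      · rw [Category.assoc, pullback.lift_fst, ← Category.assoc, equalizer.lift_ι, ← Category.assoc,
          e1, Category.assoc, e2]
      · rw [Category.assoc, pullback.lift_snd, ← Category.assoc, equalizer.lift_ι, ← Category.assoc,
          e1, Category.assoc, e3]
    exact epi_of_epi_fac hfac
  exact epi_comp _ _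

/-- the class is stable under fibre products -/
lemma CC.pb (H : Hyp S) {X Y Z : Sh J} (hX : CC S X) (hY : CC S Y) (hZ : CC S Z)
    (a : X ⟶ Z) (b : Y ⟶ Z) : CC S (Limits.pullback a b) := by
  constructor
  · intro P g hg
    haveI := hg
    obtain ⟨KX, kX, hKX, hkX⟩ := hX.exists_cover
    obtain ⟨KY, kY, hKY, hkY⟩ := hY.exists_cover
    haveI := hkX
    haveI := hkY
    obtain ⟨K'', c₀, hK'', hc₀⟩ := CC.pb_cover H hZ hKX hKY (kX ≫ a) (kY ≫ b)
    haveI := hc₀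
    obtain ⟨mm, hmm⟩ : ∃ mm : Limits.pullback (kX ≫ a) (kY ≫ b) ⟶ Limits.pullback a b,
      mm = pullback.map (kX ≫ a) (kY ≫ b) a b kX kY (𝟙 Z) (Category.comp_id _)
        (Category.comp_id _) := ⟨_, rfl⟩
    haveI : Epi mm := by
      apply epi_of_locally
      intro U w
      obtain ⟨R₁, hR₁, hR₁'⟩ := locally_of_epi kX U (ap (pullback.fst a b) w)
      obtain ⟨R₂, hR₂, hR₂'⟩ := locally_of_epi kY U (ap (pullback.snd a b) w)
      refine ⟨R₁ ⊓ R₂, J.intersection_covering hR₁ hR₂, ?_⟩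
      rintro V f ⟨hf₁, hf₂⟩
      obtain ⟨x, hx⟩ := hR₁' f hf₁
      obtain ⟨y, hy⟩ := hR₂' f hf₂
      obtain ⟨p, hp₁, hp₂⟩ := pullback_sec_ex (kX ≫ a) (kY ≫ b) x y (by
        rw [ap_comp, ap_comp, hx, hy, ← ap_res, ← ap_res, ← ap_comp, ← ap_comp, pullback.condition])
      refine ⟨p, ?_⟩
      rw [hmm]
      apply pullback_sec_ext
      · rw [← ap_comp, pullback.lift_fst, ap_comp, hp₁, hx, ap_res]
      · rw [← ap_comp, pullback.lift_snd, ap_comp, hp₂, hy, ap_res]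
    obtain ⟨c, hc⟩ : ∃ c : K'' ⟶ Limits.pullback a b, c = c₀ ≫ mm := ⟨_, rfl⟩
    haveI : Epi c := by rw [hc]; exact epi_comp _ _
    haveI : Epi (pullback.snd g c) := epi_pullback_snd _ _
    obtain ⟨K₃, k, hK₃, hk⟩ := H.h2 _ K'' (pullback.snd g c) hK'' inferInstance
    haveI := hk
    refine ⟨K₃, k ≫ pullback.fst g c, hK₃, ?_⟩
    have e : (k ≫ pullback.fst g c) ≫ g = (k ≫ pullback.snd g c) ≫ c := by
      rw [Category.assoc, Category.assoc, pullback.condition]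
    rw [e]
    exact epi_comp _ _
  · intro K hK α β
    obtain ⟨A, gA, hA, hgA⟩ := hX.2 K hK (α ≫ pullback.fst a b) (β ≫ pullback.fst a b)
    haveI := hgA
    obtain ⟨eA, heA⟩ : ∃ eA : A ⟶ K, eA = gA ≫ equalizer.ι _ _ := ⟨_, rfl⟩
    obtain ⟨B, gB, hB, hgB⟩ := hY.2 A hA (eA ≫ α ≫ pullback.snd a b) (eA ≫ β ≫ pullback.snd a b)
    haveI := hgB
    have hw : (equalizer.ι (eA ≫ α ≫ pullback.snd a b) (eA ≫ β ≫ pullback.snd a b) ≫ eA) ≫ α =
        (equalizer.ι (eA ≫ α ≫ pullback.snd a b) (eA ≫ β ≫ pullback.snd a b) ≫ eA) ≫ β := by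
      apply pullback.hom_ext
      · have := equalizer.condition (α ≫ pullback.fst a b) (β ≫ pullback.fst a b)
        rw [heA]
        simp only [Category.assoc]
        rw [this]
      · have := equalizer.condition (eA ≫ α ≫ pullback.snd a b) (eA ≫ β ≫ pullback.snd a b)
        simpa only [Category.assoc] using this
    obtain ⟨m₁, hm₁⟩ : ∃ m₁ : equalizer (eA ≫ α ≫ pullback.snd a b) (eA ≫ β ≫ pullback.snd a b) ⟶
      equalizer α β, m₁ = equalizer.lift _ hw := ⟨_, rfl⟩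
    refine ⟨B, gB ≫ m₁, hB, ?_⟩
    haveI : Epi m₁ := by
      apply epi_of_locally
      intro U z
      have hz : ap α (ap (equalizer.ι α β) z) = ap β (ap (equalizer.ι α β) z) := by
        rw [← ap_comp, ← ap_comp, equalizer.condition]
      obtain ⟨z₁, hz₁⟩ := (equalizer_eqSec (α ≫ pullback.fst a b) (β ≫ pullback.fst a b)).ex U
        (ap (equalizer.ι α β) z) (by rw [ap_comp, ap_comp, hz])
      obtain ⟨R₁, hR₁, hR₁'⟩ := locally_of_epi gA U z₁
      refine ⟨R₁, hR₁, fun V f hf => ?_⟩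
      obtain ⟨t, ht⟩ := hR₁' f hf
      have h1 : ap eA t = res K f (ap (equalizer.ι α β) z) := by
        rw [heA, ap_comp, ht, ap_res, hz₁]
      obtain ⟨t₁, ht₁⟩ := (equalizer_eqSec (eA ≫ α ≫ pullback.snd a b)
        (eA ≫ β ≫ pullback.snd a b)).ex V t (by
          rw [ap_comp, ap_comp, ap_comp, ap_comp, h1]
          simp only [ap_res]
          rw [hz])
      refine ⟨t₁, ?_⟩
      apply (equalizer_eqSec α β).inj V
      rw [← ap_comp, hm₁, equalizer.lift_ι, ap_comp, ht₁, h1, ap_res]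
    exact epi_comp _ _

section Good

variable {Λ : Type u} [SmallCategory Λ] [IsFiltered Λ]

lemma exists_factor_of_cc (H : Hyp S) {X : Sh J} (hX : CC S X) (D : Λ ⥤ Sh J)
    (f : X ⟶ colimit D) : ∃ (i : Λ) (a : X ⟶ D.obj i), a ≫ colimit.ι D i = f := by
  classical
  obtain ⟨K, k, hK, hk⟩ := hX.exists_cover
  haveI := hk
  have hcov : Helper6.TF.JEpi (fun i => pullback.snd (colimit.ι D i) (k ≫ f)) :=
    (jepi_colimit_ι D).pullback (k ≫ f) (fun i => pullback.fst (colimit.ι D i) (k ≫ f)) _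
      (fun i => IsPullback.of_hasPullback _ _)
  obtain ⟨s, hs⟩ := Helper6.TF.IsQC.exists_finset (H.h5 K hK) _ hcov
  obtain ⟨i₀, hi₀⟩ := IsFiltered.sup_objs_exists s
  let v : ∀ i : s, i.1 ⟶ i₀ := fun i => (hi₀ i.2).some
  let P : s → Sh J := fun i => Limits.pullback (colimit.ι D i.1) (k ≫ f)
  obtain ⟨σ, hσ⟩ : ∃ σ : ∐ P ⟶ K, σ = Sigma.desc (fun i : s => pullback.snd (colimit.ι D i.1) (k ≫ f)) :=
    ⟨_, rfl⟩
  haveI : Epi σ := by rw [hσ]; exact (jepi_iff_epi_desc _).1 hs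
  obtain ⟨γ, hγ'⟩ : ∃ γ : ∐ P ⟶ D.obj i₀,
    γ = Sigma.desc (fun i : s => pullback.fst (colimit.ι D i.1) (k ≫ f) ≫ D.map (v i)) := ⟨_, rfl⟩
  have hγ : γ ≫ colimit.ι D i₀ = σ ≫ k ≫ f := by
    rw [hγ', hσ]
    apply Sigma.hom_ext
    intro i
    rw [Sigma.ι_desc_assoc, Sigma.ι_desc_assoc, Category.assoc, colimit.w, pullback.condition]
  obtain ⟨K₁, k₁, hK₁, hk₁⟩ := H.h2 _ K σ hK inferInstance
  haveI := hk₁
  obtain ⟨π, hπ⟩ : ∃ π : K₁ ⟶ X, π = (k₁ ≫ σ) ≫ k := ⟨_, rfl⟩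
  haveI : Epi π := by rw [hπ]; exact epi_comp _ _
  obtain ⟨g, hg'⟩ : ∃ g : K₁ ⟶ D.obj i₀, g = k₁ ≫ γ := ⟨_, rfl⟩
  have hg : g ≫ colimit.ι D i₀ = π ≫ f := by
    rw [hg', hπ]
    simp only [Category.assoc, hγ]
  obtain ⟨K₂, c₂, hK₂, hc₂⟩ := CC.pb_cover H hX hK₁ hK₁ π π
  haveI := hc₂
  obtain ⟨j, h, hj⟩ := IsQC.eq_of_colimit_ι_eq D (H.h5 K₂ hK₂)
    ((c₂ ≫ pullback.fst π π) ≫ g) ((c₂ ≫ pullback.snd π π) ≫ g) (by
      have e1 : ((c₂ ≫ pullback.fst π π) ≫ g) ≫ colimit.ι D i₀ =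
          c₂ ≫ (pullback.fst π π ≫ π) ≫ f := by
        rw [Category.assoc, Category.assoc, hg, Category.assoc]
      have e2 : ((c₂ ≫ pullback.snd π π) ≫ g) ≫ colimit.ι D i₀ =
          c₂ ≫ (pullback.snd π π ≫ π) ≫ f := by
        rw [Category.assoc, Category.assoc, hg, Category.assoc]
      rw [e1, e2, pullback.condition])
  obtain ⟨d, hd⟩ := exists_desc_of_epi π (g ≫ D.map h) (by
    intro U x y hxy
    obtain ⟨z, hz1, hz2⟩ := pullback_sec_ex π π x y hxy
    obtain ⟨R, hR, hR'⟩ := locally_of_epi c₂ U z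
    apply sec_ext (D.obj j) hR
    intro V t ht
    obtain ⟨w, hw⟩ := hR' t ht
    have := congrArg (fun q => ap q w) hj
    simp only [ap_comp] at this
    rw [hw] at this
    simp only [ap_res] at this
    rw [hz1, hz2] at this
    exact this)
  refine ⟨j, d, ?_⟩
  rw [← cancel_epi π, ← Category.assoc, hd, Category.assoc, colimit.w, hg]

theorem goodHomE_of_cc (H : Hyp S) {X : Sh J} (hX : CC S X) {D : Λ ⥤ Sh J} (c : Cocone D)
    (hc : IsColimit c) : GoodHomE X c := by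
  let e : c.pt ≅ colimit D := hc.coconePointUniqueUpToIso (colimit.isColimit D)
  have he : ∀ i, c.ι.app i ≫ e.hom = colimit.ι D i := fun i =>
    hc.comp_coconePointUniqueUpToIso_hom (colimit.isColimit D) i
  obtain ⟨K, k, hK, hk⟩ := hX.exists_cover
  haveI := hk
  constructor
  · intro φ
    obtain ⟨i, a, ha⟩ := exists_factor_of_cc H hX D (φ ≫ e.hom)
    refine ⟨i, a, ?_⟩
    rw [← cancel_mono e.hom, Category.assoc, he, ha]
  · intro i a b hab
    obtain ⟨j, h, hj⟩ := IsQC.eq_of_colimit_ι_eq D (H.h5 K hK) (k ≫ a) (k ≫ b) (by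
      rw [Category.assoc, Category.assoc, ← he, ← Category.assoc a, ← Category.assoc b, hab])
    refine ⟨j, h, ?_⟩
    rw [← cancel_epi k]
    simpa only [Category.assoc] using hj

end Good

/-- the hypotheses `ColimData` for the class `CC S` -/
theorem colimData (H : Hyp S) : ColimData J (CC S) (CC S) where
  nerve := fun f hK hK' n =>
    cechNerve_mem (CC S) (fun e h => CC.of_iso e h) f hK'
      (fun a hY => CC.pb H hY hK' hK a f) n
  refine := fun g hK hg => by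
    obtain ⟨K', k, hK', hk⟩ := hK.1 _ g hg
    exact ⟨K', k, cc_of_mem H hK', hk⟩
  le := fun _ h => h
  trans := fun _ _ h X hX => h X hX
  good := fun X hX _ _ _ _ c hc =>
    goodHom_Φ X c (goodHomE_of_cc H hX _ (isColimitOfPreserves (Uf J) hc))

theorem preservesColimitsOfShape_functorH (H : Hyp S) (Λ : Type u) [SmallCategory Λ] [IsFiltered Λ]
    (q : ℕ) :
    PreservesColimitsOfShape Λ
      (Sheaf.functorH J q : Sheaf J AddCommGrpCat.{u} ⥤ AddCommGrpCat.{u}) := by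
  have h : PreservesColimitsOfShape Λ (HKFunctor (⊤_ (Sh J)) q) :=
    preservesColimitsOfShape_ext J (colimData H) (⊤_ _) (cc_top H) Λ q
  exact preservesColimitsOfShape_of_natIso (Groth.Agent.Lib.Helper9.TFTop.functorHIsoTop J q).symm

/-- bridge between the two notions of quasi-compact object -/
theorem isQC_of_isQcObject {K : Sh J} (hK : CohCx.IsQcObject K) : IsQC K := by
  rw [Helper6.TF.isQC_iff]
  intro ι F π hπ
  obtain ⟨t, ht⟩ := hK ι F π (fun U x => ⟨_, hπ U x, fun V g hg => hg⟩)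
  refine ⟨t, fun U x => ?_⟩
  obtain ⟨R, hR, hR'⟩ := ht U x
  exact J.superset_covering (fun V g hg => hR' V g hg) hR

end Groth.Agent.Lib.Helper9.CohS
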