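import Groth.Agent.Lib.Helper9QCSite

/-!
# Colimits in sheaf topoi: local description and descent along jointly epimorphic families
-/

namespace Groth.Agent.Lib.Helper9

open CategoryTheory Limits Opposite ToposFin

universe u w

variable {C : Type u} [SmallCategory C] {J : GrothendieckTopology C}

/-- In a colimit cocone of types, two elements with the same image are related by the equivalence
relation generated by the transition maps. -/
lemma types_colimit_eqvGen {K : Type u} [Category.{u} K] {F : K ⥤ Type u} (c : Cocone F)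
    (hc : IsColimit c) {j j' : K} (x : F.obj j) (y : F.obj j')
    (h : c.ι.app j x = c.ι.app j' y) :
    Relation.EqvGen F.ColimitTypeRel ⟨j, x⟩ ⟨j', y⟩ := by
  have h1 := (Types.isColimit_iff_coconeTypesIsColimit c).1 ⟨hc⟩
  rw [← Functor.ιColimitType_eq_iff]
  apply h1.bijective.1
  exact h

/-- Local description of equality in a colimit of sheaves: two sections with the same image in the
colimit are, locally, connected by a zigzag of transition maps. -/
theorem colimit_local_eqvGen {K : Type u} [Category.{u} K] {D : K ⥤ Sh J} (c : Cocone D)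
    (hc : IsColimit c) {V : C} {k l : K} (y : (D.obj k).obj.obj (op V))
    (z : (D.obj l).obj.obj (op V))
    (h : (c.ι.app k).hom.app (op V) y = (c.ι.app l).hom.app (op V) z) :
    ∃ S ∈ J V, ∀ ⦃W : C⦄ (g : W ⟶ V), S g →
      Relation.EqvGen (Functor.ColimitTypeRel
        ((D ⋙ sheafToPresheaf J (Type u)) ⋙ (evaluation Cᵒᵖ (Type u)).obj (op W)))
        ⟨k, (D.obj k).obj.map g.op y⟩ ⟨l, (D.obj l).obj.map g.op z⟩ := by
  let P := D ⋙ sheafToPresheaf J (Type u)
  let c' := colimit.cocone P
  let hc' : IsColimit c' := colimit.isColimit P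
  let d : c'.pt ⟶ c.pt.obj := hc'.desc ((sheafToPresheaf J (Type u)).mapCocone c)
  have hd : ∀ k, c'.ι.app k ≫ d = (c.ι.app k).hom := fun k => hc'.fac _ k
  have hW : J.W d := by
    intro Z hZ
    constructor
    · intro g g' hgg'
      have : (⟨g⟩ : c.pt ⟶ ⟨Z, hZ⟩) = ⟨g'⟩ := hc.hom_ext fun k => by
        apply Sheaf.hom_ext
        show (c.ι.app k).hom ≫ g = (c.ι.app k).hom ≫ g'
        rw [← hd, Category.assoc, Category.assoc]
        exact congrArg (fun t => c'.ι.app k ≫ t) hgg'
      exact congrArg (fun t : c.pt ⟶ ⟨Z, hZ⟩ => t.hom) this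
    · intro h
      let s : Cocone D :=
        { pt := ⟨Z, hZ⟩
          ι :=
            { app := fun k => ⟨c'.ι.app k ≫ h⟩
              naturality := by
                intro k l φ
                apply Sheaf.hom_ext
                show (D.map φ).hom ≫ c'.ι.app l ≫ h = (c'.ι.app k ≫ h) ≫ 𝟙 _
                rw [Category.comp_id, ← Category.assoc]
                exact congrArg (fun t => t ≫ h) (c'.w φ) } }
      refine ⟨(hc.desc s).hom, ?_⟩
      apply hc'.hom_ext
      intro k
      show c'.ι.app k ≫ d ≫ (hc.desc s).hom = c'.ι.app k ≫ h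
      rw [← Category.assoc, hd]
      exact congrArg (fun t : D.obj k ⟶ s.pt => t.hom) (hc.fac s k)
  have hinj : Presheaf.IsLocallyInjective J d := hW.isLocallyInjective
  have hmem := Presheaf.equalizerSieve_mem J d ((c'.ι.app k).app (op V) y)
    ((c'.ι.app l).app (op V) z) (by
      have h1 := ConcreteCategory.congr_hom
        (congrArg (fun t : P.obj k ⟶ c.pt.obj => t.app (op V)) (hd k)) y
      have h2 := ConcreteCategory.congr_hom
        (congrArg (fun t : P.obj l ⟶ c.pt.obj => t.app (op V)) (hd l)) z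
      simp only [NatTrans.comp_app, ConcreteCategory.comp_apply] at h1 h2
      rw [h1, h2]
      exact h)
  refine ⟨_, hmem, fun W g hg => ?_⟩
  have hev : IsColimit (((evaluation Cᵒᵖ (Type u)).obj (op W)).mapCocone c') :=
    isColimitOfPreserves _ hc'
  refine types_colimit_eqvGen _ hev _ _ ?_
  have n1 := ConcreteCategory.congr_hom ((c'.ι.app k).naturality g.op) y
  have n2 := ConcreteCategory.congr_hom ((c'.ι.app l).naturality g.op) z
  simp only [ConcreteCategory.comp_apply] at n1 n2
  exact n1.trans (Eq.trans hg n2.symm)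

/-- The pullback of two legs of a colimit cocone of sheaves is covered by sheafified representables
on which the two projections are connected by a zigzag; stated with an abstract relation `R`. -/
theorem exists_zigzag_cover {K : Type u} [Category.{u} K] {D : K ⥤ Sh J} (c : Cocone D)
    (hc : IsColimit c)
    (R : ∀ (V : C) (k l : K), (eps J V ⟶ D.obj k) → (eps J V ⟶ D.obj l) → Prop)
    (hmap : ∀ (V : C) (k l : K) (φ : k ⟶ l) (a : eps J V ⟶ D.obj k), R V k l a (a ≫ D.map φ))
    (hsymm : ∀ (V : C) (k l : K) (a : eps J V ⟶ D.obj k) (b : eps J V ⟶ D.obj l),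
      R V k l a b → R V l k b a)
    (htrans : ∀ (V : C) (k l m : K) (a : eps J V ⟶ D.obj k) (b : eps J V ⟶ D.obj l)
      (d : eps J V ⟶ D.obj m), R V k l a b → R V l m b d → R V k m a d)
    (k l : K) :
    JEpi (fun i : {i : Σ V : C, (eps J V ⟶ pullback (c.ι.app k) (c.ι.app l)) //
        R i.1 k l (i.2 ≫ pullback.fst _ _) (i.2 ≫ pullback.snd _ _)} => i.1.2) := by
  rw [jEpi_iff_famImageSieve_mem]
  intro U x
  let p₁ := pullback.fst (c.ι.app k) (c.ι.app l)
  let p₂ := pullback.snd (c.ι.app k) (c.ι.app l)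
  have hcond : (c.ι.app k).hom.app (op U) (p₁.hom.app (op U) x) =
      (c.ι.app l).hom.app (op U) (p₂.hom.app (op U) x) := by
    have := congrArg (fun t : pullback (c.ι.app k) (c.ι.app l) ⟶ c.pt => t.hom.app (op U) x)
      (pullback.condition (f := c.ι.app k) (g := c.ι.app l))
    exact this
  obtain ⟨S, hS, hrel⟩ := colimit_local_eqvGen c hc _ _ hcond
  refine J.superset_covering ?_ hS
  intro W g hg
  -- the general induction
  have key : ∀ p q : (Σ j : K, (D.obj j).obj.obj (op W)),
      Relation.EqvGen (Functor.ColimitTypeRel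
        ((D ⋙ sheafToPresheaf J (Type u)) ⋙ (evaluation Cᵒᵖ (Type u)).obj (op W))) p q →
      R W p.1 q.1 ((shYonedaEquiv J W _).symm p.2) ((shYonedaEquiv J W _).symm q.2) := by
    intro p q hpq
    induction hpq with
    | rel p q h =>
      obtain ⟨φ, hφ⟩ := h
      have : (shYonedaEquiv J W (D.obj q.1)).symm q.2 =
          (shYonedaEquiv J W (D.obj p.1)).symm p.2 ≫ D.map φ := by
        apply (shYonedaEquiv J W _).injective
        rw [shYonedaEquiv_comp, Equiv.apply_symm_apply, Equiv.apply_symm_apply]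
        exact hφ
      rw [this]
      exact hmap W _ _ φ _
    | refl p =>
      have := hmap W p.1 p.1 (𝟙 _) ((shYonedaEquiv J W _).symm p.2)
      rw [CategoryTheory.Functor.map_id, Category.comp_id] at this
      exact this
    | symm p q _ ih => exact hsymm _ _ _ _ _ ih
    | trans p q r _ _ ih1 ih2 => exact htrans _ _ _ _ _ _ _ ih1 ih2
  have hk := key _ _ (hrel g hg)
  let e : eps J W ⟶ pullback (c.ι.app k) (c.ι.app l) :=
    (shYonedaEquiv J W _).symm ((pullback (c.ι.app k) (c.ι.app l)).obj.map g.op x)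
  have he1 : e ≫ p₁ = (shYonedaEquiv J W (D.obj k)).symm
      ((D.obj k).obj.map g.op (p₁.hom.app (op U) x)) := by
    apply (shYonedaEquiv J W _).injective
    rw [shYonedaEquiv_comp, Equiv.apply_symm_apply, Equiv.apply_symm_apply]
    have n := ConcreteCategory.congr_hom (p₁.hom.naturality g.op) x
    simp only [ConcreteCategory.comp_apply] at n
    exact n
  have he2 : e ≫ p₂ = (shYonedaEquiv J W (D.obj l)).symm
      ((D.obj l).obj.map g.op (p₂.hom.app (op U) x)) := by
    apply (shYonedaEquiv J W _).injective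
    rw [shYonedaEquiv_comp, Equiv.apply_symm_apply, Equiv.apply_symm_apply]
    have n := ConcreteCategory.congr_hom (p₂.hom.naturality g.op) x
    simp only [ConcreteCategory.comp_apply] at n
    exact n
  refine ⟨⟨⟨W, e⟩, ?_⟩, etaSec J W, ?_⟩
  · show R W k l (e ≫ p₁) (e ≫ p₂)
    rw [he1, he2]
    exact hk
  · show e.hom.app (op W) (etaSec J W) = _
    rw [← shYonedaEquiv_eq, Equiv.apply_symm_apply]

/-- Descent of morphisms along a jointly epimorphic family in a sheaf topos (every jointly
epimorphic family is effective). -/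
theorem jEpi_desc_exists {X M : Sh J} {ι : Type u} {F : ι → Sh J} (π : ∀ i, F i ⟶ X)
    (hπ : JEpi π) (g : ∀ i, F i ⟶ M)
    (hg : ∀ (i j : ι) (W : Sh J) (a : W ⟶ F i) (b : W ⟶ F j),
      a ≫ π i = b ≫ π j → a ≫ g i = b ≫ g j) :
    ∃ m : X ⟶ M, ∀ i, π i ≫ m = g i := by
  let τ : ∐ F ⟶ X := Limits.Sigma.desc π
  have hτ : Epi τ := (jEpi_iff_epi_desc π).1 hπ
  have hreg : IsRegularEpi τ := IsRegularEpiCategory.regularEpiOfEpi τ
  let γ : ∐ F ⟶ M := Limits.Sigma.desc g
  have hιτ : ∀ i, Sigma.ι F i ≫ τ = π i := fun i => Sigma.ι_desc _ _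
  have hιγ : ∀ i, Sigma.ι F i ≫ γ = g i := fun i => Sigma.ι_desc _ _
  have hkp : pullback.fst τ τ ≫ γ = pullback.snd τ τ ≫ γ := by
    have hcov := JEpi.pullback_map τ τ (fun i => Sigma.ι F i) (fun i => Sigma.ι F i)
      (jEpi_of_isColimit _ (coproductIsCoproduct F)) (jEpi_of_isColimit _ (coproductIsCoproduct F))
    refine hcov _ _ fun p => ?_
    rw [← Category.assoc, ← Category.assoc]
    have e1 : pullback.map (Sigma.ι F p.1 ≫ τ) (Sigma.ι F p.2 ≫ τ) τ τ (Sigma.ι F p.1)
        (Sigma.ι F p.2) (𝟙 X) (Category.comp_id _) (Category.comp_id _) ≫ pullback.fst τ τ =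
        pullback.fst _ _ ≫ Sigma.ι F p.1 := pullback.lift_fst _ _ _
    have e2 : pullback.map (Sigma.ι F p.1 ≫ τ) (Sigma.ι F p.2 ≫ τ) τ τ (Sigma.ι F p.1)
        (Sigma.ι F p.2) (𝟙 X) (Category.comp_id _) (Category.comp_id _) ≫ pullback.snd τ τ =
        pullback.snd _ _ ≫ Sigma.ι F p.2 := pullback.lift_snd _ _ _
    rw [e1, e2, Category.assoc, Category.assoc, hιγ, hιγ]
    apply hg
    have := pullback.condition (f := Sigma.ι F p.1 ≫ τ) (g := Sigma.ι F p.2 ≫ τ)
    refine Eq.trans ?_ (this.trans ?_)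
    · exact congrArg (fun t => _ ≫ t) (hιτ p.1).symm
    · exact congrArg (fun t => _ ≫ t) (hιτ p.2)
  have hcoeq := (IsKernelPair.of_hasPullback τ).toCoequalizer'
  let m : X ⟶ M := Cofork.IsColimit.desc hcoeq γ hkp
  refine ⟨m, fun i => ?_⟩
  have hm : τ ≫ m = γ := Cofork.IsColimit.π_desc hcoeq
  rw [← hιτ, Category.assoc, hm, hιγ]

section Functors

variable {D' : Type u} [SmallCategory D'] {K' : GrothendieckTopology D'}

/-- A left exact functor between sheaf topoi which preserves jointly epimorphic families preserves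
small colimits. -/
theorem preservesColimit_of_lex_jEpi (f : Sh J ⥤ Sh K') [PreservesFiniteLimits f]
    (hf : ∀ (ι : Type u) (H : Sh J) (G : ι → Sh J) (g : ∀ i, G i ⟶ H),
      JEpi g → JEpi fun i => f.map (g i))
    {K : Type u} [Category.{u} K] (D : K ⥤ Sh J) : PreservesColimit D f := by
  refine ⟨fun {c} hc => ⟨IsColimit.ofExistsUnique fun μ => ?_⟩⟩
  have hcov : JEpi (fun k => f.map (c.ι.app k)) := hf _ _ _ _ (jEpi_of_isColimit_cocone c hc)
  have hex : ∃ m : f.obj c.pt ⟶ μ.pt, ∀ k, f.map (c.ι.app k) ≫ m = μ.ι.app k := by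
    refine jEpi_desc_exists (fun k => f.map (c.ι.app k)) hcov (fun k => μ.ι.app k) ?_
    intro k l W a b hab
    let p₁ := pullback.fst (c.ι.app k) (c.ι.app l)
    let p₂ := pullback.snd (c.ι.app k) (c.ι.app l)
    have hpb : IsPullback (f.map p₁) (f.map p₂) (f.map (c.ι.app k)) (f.map (c.ι.app l)) :=
      (IsPullback.of_hasPullback _ _).map f
    have main : f.map p₁ ≫ μ.ι.app k = f.map p₂ ≫ μ.ι.app l := by
      have zz := exists_zigzag_cover c hc
        (fun V k l a b => f.map a ≫ μ.ι.app k = f.map b ≫ μ.ι.app l)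
        (fun V k l φ a => by
          rw [CategoryTheory.Functor.map_comp, Category.assoc]
          exact congrArg (fun t => f.map a ≫ t) (μ.w φ).symm)
        (fun V k l a b h => h.symm)
        (fun V k l m a b d h1 h2 => h1.trans h2) k l
      refine (hf _ _ _ _ zz) _ _ fun i => ?_
      rw [← Category.assoc, ← Category.assoc, ← CategoryTheory.Functor.map_comp,
        ← CategoryTheory.Functor.map_comp]
      exact i.2
    have e1 := hpb.lift_fst a b hab
    have e2 := hpb.lift_snd a b hab
    calc a ≫ μ.ι.app k = (hpb.lift a b hab ≫ f.map p₁) ≫ μ.ι.app k := by rw [e1]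
      _ = (hpb.lift a b hab ≫ f.map p₂) ≫ μ.ι.app l := by
        rw [Category.assoc, Category.assoc, main]
      _ = b ≫ μ.ι.app l := by rw [e2]
  obtain ⟨m, hm⟩ := hex
  exact ⟨m, hm, fun m' hm' => hcov _ _ fun k => (hm' k).trans (hm k).symm⟩

/-- A colimit preserving functor between sheaf topoi is a left adjoint. -/
theorem isLeftAdjoint_of_preservesColimits_sheaf (f : Sh J ⥤ Sh K')
    [PreservesColimitsOfSize.{u, u} f] : f.IsLeftAdjoint := by
  let L : (Cᵒᵖ ⥤ Type u) ⥤ Sh K' := presheafToSheaf J (Type u) ⋙ f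
  haveI : PreservesColimitsOfSize.{u, u} L := inferInstance
  haveI : L.IsLeftAdjoint := Presheaf.isLeftAdjoint_of_preservesColimits.{u} L
  let R := L.rightAdjoint
  let adj : L ⊣ R := Adjunction.ofIsLeftAdjoint L
  have hR : ∀ G : Sh K', Presheaf.IsSheaf J (R.obj G) := by
    intro G
    rw [isSheaf_iff_isSheaf_of_type]
    intro X S hS
    rw [Presieve.isSheafFor_iff_bijective_shrinkFunctor_ι_comp.{u}, ← adj.map_comp_bijective_iff]
    have h1 : IsIso ((presheafToSheaf J (Type u)).map (Sieve.shrinkFunctor.{u} S).ι) :=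
      (J.W_iff _).1 (Sieve.W_shrinkFunctor_ι_of_mem J S hS)
    have h2 : IsIso (L.map (Sieve.shrinkFunctor.{u} S).ι) := by
      show IsIso (f.map ((presheafToSheaf J (Type u)).map (Sieve.shrinkFunctor.{u} S).ι))
      infer_instance
    constructor
    · intro a b hab
      exact (cancel_epi (L.map (Sieve.shrinkFunctor.{u} S).ι)).1 hab
    · intro h
      exact ⟨inv (L.map (Sieve.shrinkFunctor.{u} S).ι) ≫ h, by simp⟩
  let g : Sh K' ⥤ Sh J := ObjectProperty.lift (Presheaf.IsSheaf J) R hR
  let comm1 : sheafToPresheaf J (Type u) ⋙ L ≅ f ⋙ 𝟭 _ :=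
    (Functor.associator _ _ _).symm ≪≫
      Functor.isoWhiskerRight (asIso (sheafificationAdjunction J (Type u)).counit) f ≪≫
      f.leftUnitor ≪≫ f.rightUnitor.symm
  let comm2 : 𝟭 _ ⋙ R ≅ g ⋙ sheafToPresheaf J (Type u) := Iso.refl _
  exact ⟨g, ⟨adj.restrictFullyFaithful (fullyFaithfulSheafToPresheaf J (Type u))
    (Functor.FullyFaithful.id _) comm1 comm2⟩⟩

end Functors

end Groth.Agent.Lib.Helper9
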