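import Groth.Agent.Lib.Helper9QCSite

/-!
# Recognising coproducts in a sheaf topos: disjoint jointly epimorphic families of monomorphisms
-/

namespace Groth.Agent.Lib.Helper9

open CategoryTheory Limits Opposite ToposFin

universe u

variable {C : Type u} [SmallCategory C] {J : GrothendieckTopology C}

/-- A family of monomorphisms with pairwise initial intersections induces a monomorphism from the
coproduct. -/
lemma mono_sigmaDesc_of_disjoint {X : Sh J} {ι : Type u} {F : ι → Sh J} (π : ∀ i, F i ⟶ X)
    (hm : ∀ i, Mono (π i))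
    (hd : ∀ i j, i ≠ j → Nonempty (IsInitial (pullback (π i) (π j)))) :
    Mono (Limits.Sigma.desc π) := by
  classical
  have hσ : ∀ i, Sigma.ι F i ≫ Limits.Sigma.desc π = π i := fun i => Sigma.ι_desc _ _
  have hι : JEpi (Sigma.ι F) :=
    jEpi_of_isColimit (Cofan.mk (∐ F) (Sigma.ι F)) (coproductIsCoproduct F)
  have hfam := JEpi.pullback_map (Limits.Sigma.desc π) (Limits.Sigma.desc π)
    (Sigma.ι F) (Sigma.ι F) hι hι
  have key : pullback.fst (Limits.Sigma.desc π) (Limits.Sigma.desc π) =
      pullback.snd (Limits.Sigma.desc π) (Limits.Sigma.desc π) := by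
    apply hfam
    rintro ⟨i, j⟩
    by_cases hij : i = j
    · subst hij
      have h1 : pullback.fst (Sigma.ι F i ≫ Limits.Sigma.desc π)
          (Sigma.ι F i ≫ Limits.Sigma.desc π) =
          pullback.snd (Sigma.ι F i ≫ Limits.Sigma.desc π)
            (Sigma.ι F i ≫ Limits.Sigma.desc π) := by
        have : Mono (Sigma.ι F i ≫ Limits.Sigma.desc π) := by rw [hσ]; exact hm i
        rw [← cancel_mono (Sigma.ι F i ≫ Limits.Sigma.desc π)]
        exact pullback.condition
      refine (pullback.lift_fst _ _ _).trans ?_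
      refine Eq.trans ?_ (pullback.lift_snd _ _ _).symm
      exact congrArg (fun t => t ≫ Sigma.ι F i) h1
    · obtain ⟨h0⟩ := hd i j hij
      have hc : pullback.fst (Sigma.ι F i ≫ Limits.Sigma.desc π)
          (Sigma.ι F j ≫ Limits.Sigma.desc π) ≫ π i =
          pullback.snd (Sigma.ι F i ≫ Limits.Sigma.desc π)
            (Sigma.ι F j ≫ Limits.Sigma.desc π) ≫ π j := by
        have := pullback.condition (f := Sigma.ι F i ≫ Limits.Sigma.desc π)
          (g := Sigma.ι F j ≫ Limits.Sigma.desc π)
        rw [← hσ i, ← hσ j]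
        exact this
      obtain ⟨h1⟩ := isInitial_of_hom (pullback.lift _ _ hc) h0
      exact h1.hom_ext _ _
  refine ⟨fun {Z} a b hab => ?_⟩
  have h1 : pullback.lift a b hab ≫ pullback.fst _ _ = a := pullback.lift_fst _ _ _
  have h2 : pullback.lift a b hab ≫ pullback.snd _ _ = b := pullback.lift_snd _ _ _
  exact h1.symm.trans ((congrArg (fun t => pullback.lift a b hab ≫ t) key).trans h2)

/-- Recognition of coproducts: a jointly epimorphic family of monomorphisms with pairwise initial
intersections is a coproduct cofan. -/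
lemma isColimit_cofan_of_disjoint {X : Sh J} {ι : Type u} {F : ι → Sh J} (π : ∀ i, F i ⟶ X)
    (he : JEpi π) (hm : ∀ i, Mono (π i))
    (hd : ∀ i j, i ≠ j → Nonempty (IsInitial (pullback (π i) (π j)))) :
    Nonempty (IsColimit (Cofan.mk X π)) := by
  have h1 : Mono (Limits.Sigma.desc π) := mono_sigmaDesc_of_disjoint π hm hd
  have h2 : Epi (Limits.Sigma.desc π) := (jEpi_iff_epi_desc π).1 he
  have h3 : IsIso (Limits.Sigma.desc π) := isIso_of_mono_of_epi _
  refine ⟨IsColimit.ofIsoColimit (coproductIsCoproduct F) ?_⟩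
  let e : (∐ F) ≅ X := @asIso _ _ _ _ (Limits.Sigma.desc π) h3
  refine Cocones.ext e ?_
  rintro ⟨i⟩
  exact Sigma.ι_desc _ _

/-- Characterisation of coproduct cofans in a sheaf topos. -/
lemma isColimit_cofan_iff_disjoint {X : Sh J} {ι : Type u} {F : ι → Sh J} (π : ∀ i, F i ⟶ X) :
    Nonempty (IsColimit (Cofan.mk X π)) ↔
      JEpi π ∧ (∀ i, Mono (π i)) ∧
        ∀ i j, i ≠ j → Nonempty (IsInitial (pullback (π i) (π j))) := by
  constructor
  · rintro ⟨hc⟩
    exact ⟨jEpi_of_isColimit _ hc, fun i => cofan_inj_mono (Cofan.mk X π) hc i,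
      fun i j hij => cofan_isInitial_pullback (Cofan.mk X π) hc hij⟩
  · rintro ⟨he, hm, hd⟩
    exact isColimit_cofan_of_disjoint π he hm hd

/-- For a left exact functor, `F.map f` is a monomorphism iff `F` inverts the diagonal of `f`. -/
lemma mono_map_iff_isIso_map_diagonal {D D' : Type*} [Category* D] [Category* D'] (G : D ⥤ D')
    {A B : D} (f : A ⟶ B) [HasPullback f f] [PreservesLimit (cospan f f) G] :
    Mono (G.map f) ↔ IsIso (G.map (pullback.diagonal f)) := by
  have hk : IsKernelPair (G.map f) (G.map (pullback.fst f f)) (G.map (pullback.snd f f)) :=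
    (IsPullback.of_hasPullback f f).map G
  have hd : G.map (pullback.diagonal f) ≫ G.map (pullback.fst f f) = 𝟙 _ := by
    rw [← G.map_comp, pullback.diagonal_fst, G.map_id]
  constructor
  · intro h
    have : IsIso (G.map (pullback.fst f f)) := hk.isIso_of_mono
    have : IsIso (G.map (pullback.diagonal f) ≫ G.map (pullback.fst f f)) := by
      rw [hd]; infer_instance
    exact IsIso.of_isIso_comp_right _ (G.map (pullback.fst f f))
  · intro h
    have : IsIso (G.map (pullback.diagonal f) ≫ G.map (pullback.fst f f)) := by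
      rw [hd]; infer_instance
    have : IsIso (G.map (pullback.fst f f)) := IsIso.of_isIso_comp_left (G.map (pullback.diagonal f)) _
    exact hk.mono_of_isIso_fst

end Groth.Agent.Lib.Helper9
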