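import Mathlib

/-!
# A functor preserving finite coproducts and filtered colimits preserves coproducts (helper9)
-/

set_option autoImplicit false
set_option linter.style.haveILetI false
set_option backward.isDefEq.respectTransparency false
open CategoryTheory CategoryTheory.Limits Opposite
universe w v₁ v₂ u₁ u₂

namespace Groth.Agent.Lib.Helper9.Coprod

open CoproductsFromFiniteFiltered

variable {C : Type u₁} [Category.{v₁} C] {D : Type u₂} [Category.{v₂} D] (F : C ⥤ D)
  {α : Type w} [HasFiniteCoproducts C] [HasColimitsOfShape (Finset (Discrete α)) C]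
  [PreservesFiniteCoproducts F] [PreservesColimitsOfShape (Finset (Discrete α)) F]

/-- the colimit property of the image of a finite subcoproduct -/
noncomputable def isColimitFin (f : α → C) (S : Finset (Discrete α)) :
    IsColimit (F.mapCocone (colimit.cocone (Discrete.functor fun x : S => f x.1.as))) :=
  isColimitOfPreserves F (colimit.isColimit _)

theorem preservesColimit_discrete (f : α → C) [HasCoproduct f] :
    PreservesColimit (Discrete.functor f) F := by
  refine preservesColimit_of_preserves_colimit_cocone (colimit.isColimit (Discrete.functor f)) ?_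
  have E : IsColimit (F.mapCocone (finiteSubcoproductsCocone f)) :=
    isColimitOfPreserves F (isColimitFiniteSubproductsCocone f)
  have h1 : ∀ (S : Finset (Discrete α)) (x : Discrete S),
      (F.mapCocone (colimit.cocone (Discrete.functor fun x : S => f x.1.as))).ι.app x ≫
        (F.mapCocone (finiteSubcoproductsCocone f)).ι.app S = F.map (Sigma.ι f x.as.1.as) := by
    intro S x
    dsimp
    rw [← F.map_comp]
    congr 1
    simp
  have hext : ∀ {T : D} (a b : F.obj (∐ f) ⟶ T),
      (∀ j : α, F.map (Sigma.ι f j) ≫ a = F.map (Sigma.ι f j) ≫ b) → a = b := by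
    intro T a b hab
    refine E.hom_ext (fun S => ?_)
    refine (isColimitFin F f S).hom_ext (fun x => ?_)
    rw [← Category.assoc, ← Category.assoc, h1]
    exact hab _
  -- the cocone over the finite subcoproducts induced by a cocone `s`
  let dS : ∀ (s : Cocone (Discrete.functor f ⋙ F)) (S : Finset (Discrete α)),
      F.obj (∐ fun x : S => f x.1.as) ⟶ s.pt := fun s S =>
    (isColimitFin F f S).desc ⟨s.pt, Discrete.natTrans fun x => s.ι.app x.as.1⟩
  have hdS : ∀ (s : Cocone (Discrete.functor f ⋙ F)) (S : Finset (Discrete α)) (x : S),
      F.map (Sigma.ι (fun x : S => f x.1.as) x) ≫ dS s S = s.ι.app x.1 := by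
    intro s S x
    exact (isColimitFin F f S).fac ⟨s.pt, Discrete.natTrans fun x => s.ι.app x.as.1⟩ ⟨x⟩
  let t : ∀ (s : Cocone (Discrete.functor f ⋙ F)),
      Cocone (liftToFinsetObj (Discrete.functor f) ⋙ F) := fun s =>
    { pt := s.pt
      ι :=
        { app := fun S => dS s S
          naturality := by
            intro S S' h
            refine (isColimitFin F f S).hom_ext (fun x => ?_)
            dsimp
            rw [Category.comp_id, ← Category.assoc, ← F.map_comp]
            have : Sigma.ι (fun x : S => f x.1.as) x.as ≫
                (liftToFinsetObj (Discrete.functor f)).map h =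
                Sigma.ι (fun x : S' => f x.1.as) ⟨x.as.1, h.down.down x.as.2⟩ := by
              simp [liftToFinsetObj]
            rw [this, hdS s S', hdS s S] } }
  refine
    { desc := fun s => E.desc (t s)
      fac := ?_
      uniq := ?_ }
  · intro s j
    have hS : j ∈ ({j} : Finset (Discrete α)) := Finset.mem_singleton_self j
    have := h1 {j} ⟨⟨j, hS⟩⟩
    dsimp at this ⊢
    rw [← this, Category.assoc]
    have h2 := E.fac (t s) {j}
    dsimp at h2
    rw [h2]
    exact hdS s {j} ⟨j, hS⟩
  · intro s m hm
    refine hext _ _ (fun j => ?_)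
    have h3 := hm ⟨j⟩
    dsimp at h3
    rw [h3]
    have hS : (⟨j⟩ : Discrete α) ∈ ({⟨j⟩} : Finset (Discrete α)) := Finset.mem_singleton_self _
    have := h1 {⟨j⟩} ⟨⟨⟨j⟩, hS⟩⟩
    dsimp at this
    rw [← this, Category.assoc]
    have h2 := E.fac (t s) {⟨j⟩}
    dsimp at h2
    rw [h2]
    exact (hdS s {⟨j⟩} ⟨⟨j⟩, hS⟩).symm

/-- a functor preserving finite coproducts and colimits over the finite subsets of `α` preserves coproducts
indexed by `α` -/
theorem preservesColimitsOfShape_discrete [HasColimitsOfShape (Discrete α) C] :
    PreservesColimitsOfShape (Discrete α) F :=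
  haveI : ∀ f : α → C, PreservesColimit (Discrete.functor f) F := fun f => preservesColimit_discrete F f
  preservesColimitsOfShape_of_discrete F

end Groth.Agent.Lib.Helper9.Coprod
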