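/-
Helper library (helper9): normal completion of a normal algebraic curve.
Construction: immersion into `P^n` (S1667), scheme-theoretic image, relative normalization in `X`.
-/
import Groth.Agent.Lib.Helper9NormProdSch
import Groth.Agent.Lib.Helper4VarDim4
import Groth.Agent.Lib.Helper20AbsCurve
import Groth.Agent.Lib.Helper27ProjSpaceFibres
import Groth.Agent.S1667
import Groth.Agent.S7616

set_option autoImplicit false
set_option linter.style.haveILetI false
universe u

open CategoryTheory AlgebraicGeometry TopologicalSpace Opposite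

namespace Groth.Agent.Lib.Helper9.CurveCompl

attribute [local instance] Curv2.resAlgebra

section Dim

variable {X : Scheme.{u}}

/-- A quasi-compact scheme whose closed points have one-dimensional local rings has dimension at
most one. -/
theorem topologicalKrullDim_le_one [CompactSpace X]
    (hC : ∀ x : X, IsClosed ({x} : Set X) → ringKrullDim (X.presheaf.stalk x) = 1) :
    topologicalKrullDim X ≤ 1 := by
  have h2 : Order.krullDim (IrreducibleCloseds X) = Order.krullDim X :=
    Order.krullDim_eq_of_orderIso (irreducibleSetEquivPoints (α := X))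
  unfold topologicalKrullDim
  rw [h2, Order.krullDim_eq_iSup_coheight]
  refine iSup_le fun x => ?_
  rw [← ringKrullDim_stalk_eq_coheight]
  by_cases hx : IsClosed ({x} : Set X)
  · exact (hC x hx).le
  · exact (Groth.Agent.Lib.Helper20.AbsCurve.ringKrullDim_stalk_le_zero_of_not_isClosed hC x
      hx).trans zero_le_one

end Dim

section Res

variable {k : Type u} [Field k] {X Y : Scheme.{u}} [X.Over (Spec (CommRingCat.of k))]
  [Y.Over (Spec (CommRingCat.of k))]

lemma resMap_eq (x : Y) (c : k) :
    Curv2.resMap k Y x c = Y.Γevaluation x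
      ((Y ↘ Spec (CommRingCat.of k)).appTop ((Scheme.ΓSpecIso (CommRingCat.of k)).inv c)) := rfl

/-- The residue field map of a `k`-morphism is `k`-linear. -/
lemma residueFieldMap_resMap (j : X ⟶ Y)
    (hj : j ≫ (Y ↘ Spec (CommRingCat.of k)) = X ↘ Spec (CommRingCat.of k)) (x : X) (c : k) :
    j.residueFieldMap x (Curv2.resMap k Y (j x) c) = Curv2.resMap k X x c := by
  rw [resMap_eq, resMap_eq, Scheme.Γevaluation_naturality_apply]
  congr 1
  rw [← CommRingCat.comp_apply, ← Scheme.Hom.comp_appTop, hj]

/-- Transcendence degrees of residue fields agree along an open immersion over `k`. -/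
theorem trdeg_residueField_eq (j : X ⟶ Y) [IsOpenImmersion j]
    (hj : j ≫ (Y ↘ Spec (CommRingCat.of k)) = X ↘ Spec (CommRingCat.of k)) (x : X) :
    Algebra.trdeg k (Y.residueField (j x)) = Algebra.trdeg k (X.residueField x) := by
  let e₀ : Y.residueField (j x) ≃+* X.residueField x :=
    (asIso (j.residueFieldMap x)).commRingCatIsoToRingEquiv
  let e : Y.residueField (j x) ≃ₐ[k] X.residueField x :=
    AlgEquiv.ofRingEquiv (f := e₀) (fun c => residueFieldMap_resMap j hj x c)
  exact e.trdeg_eq

end Res

section Main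

variable (k : Type u) [Field k] (X : Scheme.{u}) [X.Over (Spec (CommRingCat.of k))]
  [LocallyOfFiniteType (X ↘ (Spec (CommRingCat.of k)))]
  [QuasiCompact (X ↘ (Spec (CommRingCat.of k)))] [IsSeparated (X ↘ (Spec (CommRingCat.of k)))]

set_option backward.isDefEq.respectTransparency false in
/-- A normal algebraic curve has a normal completion. -/
theorem exists_normal_completion
    (hcurve : ∀ x : X, IsClosed ({x} : Set X) → ringKrullDim (X.presheaf.stalk x) = 1)
    (hnorm : Pi1.IsNormalScheme X) :
    ∃ (Xc : Scheme.{u}) (sc : Xc ⟶ Spec (CommRingCat.of k)) (j : X ⟶ Xc), IsOpenImmersion j ∧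
      Dense (Set.range j.base) ∧
      j ≫ sc = X ↘ (Spec (CommRingCat.of k)) ∧ IsProper sc ∧ Pi1.IsNormalScheme Xc ∧
      ∀ x : Xc, IsClosed ({x} : Set Xc) → ringKrullDim (Xc.presheaf.stalk x) = 1 := by
  haveI : CompactSpace X :=
    QuasiCompact.compactSpace_of_compactSpace (X ↘ (Spec (CommRingCat.of k)))
  have hdim := topologicalKrullDim_le_one hcurve
  obtain ⟨n, i, hi, hik⟩ := Groth.Agent.S1667.result k X hdim
  haveI := hi
  haveI : IsProper (CohB1.ProjSpace.toSpec n k) :=
    Groth.Agent.Lib.Helper27ProjSpaceFibres.isProper_projSpace_toSpec n k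
  haveI : QuasiCompact (i ≫ CohB1.ProjSpace.toSpec n k) := hik ▸ inferInstance
  haveI : QuasiCompact i := QuasiCompact.of_comp i (CohB1.ProjSpace.toSpec n k)
  -- the closure of `X` in projective space
  obtain ⟨Y, j₀, c, hj₀, hc, hjc⟩ : ∃ (Y : Scheme.{u}) (j₀ : X ⟶ Y) (c : Y ⟶ CohB1.ProjSpace n k),
      (IsOpenImmersion j₀ ∧ QuasiCompact j₀) ∧ IsClosedImmersion c ∧ j₀ ≫ c = i :=
    ⟨i.image, i.toImage, i.imageι, ⟨inferInstance, inferInstance⟩, inferInstance,
      i.toImage_imageι⟩
  haveI := hj₀.1
  haveI := hj₀.2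
  haveI := hc
  let p : Y ⟶ Spec (CommRingCat.of k) := c ≫ CohB1.ProjSpace.toSpec n k
  haveI : IsProper p := by dsimp only [p]; infer_instance
  have hj₀p : j₀ ≫ p = X ↘ (Spec (CommRingCat.of k)) := by
    dsimp only [p]
    rw [← Category.assoc, hjc, hik]
  letI : Y.Over (Spec (CommRingCat.of k)) := ⟨p⟩
  haveI : LocallyOfFiniteType (Y ↘ (Spec (CommRingCat.of k))) :=
    (inferInstance : LocallyOfFiniteType p)
  haveI : j₀.IsOver (Spec (CommRingCat.of k)) := ⟨hj₀p⟩
  haveI : IsReduced X := Groth.Agent.Lib.Helper9.NormProd.isReduced_of_isNormalScheme hnorm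
  haveI : IsFinite j₀.fromNormalization := Groth.Agent.S7616.result k Y X j₀
  -- local finiteness of the components of `X`
  haveI : IsLocallyNoetherian X :=
    LocallyOfFiniteType.isLocallyNoetherian (X ↘ (Spec (CommRingCat.of k)))
  haveI : IsNoetherian X := ⟨⟩
  have hfin : LocallyFinite (fun Z : ↥(irreducibleComponents ↥X) => (Z : Set ↥X)) := by
    haveI : Finite ↥(irreducibleComponents ↥X) :=
      (NoetherianSpace.finite_irreducibleComponents (α := X)).to_subtype
    exact locallyFinite_of_finite _
  -- the completion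
  let sc : j₀.normalization ⟶ Spec (CommRingCat.of k) := j₀.fromNormalization ≫ p
  have hjsc : j₀.toNormalization ≫ sc = X ↘ (Spec (CommRingCat.of k)) := by
    dsimp only [sc]
    rw [← Category.assoc, j₀.toNormalization_fromNormalization, hj₀p]
  haveI : IsProper sc := by dsimp only [sc]; infer_instance
  refine ⟨j₀.normalization, sc, j₀.toNormalization, inferInstance,
    j₀.toNormalization.denseRange, hjsc, inferInstance,
    Groth.Agent.Lib.Helper9.NormProd.isNormalScheme_normalization j₀ hnorm hfin, ?_⟩
  -- dimensions at closed points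
  letI : (j₀.normalization).Over (Spec (CommRingCat.of k)) := ⟨sc⟩
  haveI : LocallyOfFiniteType (j₀.normalization ↘ (Spec (CommRingCat.of k))) :=
    (inferInstance : LocallyOfFiniteType sc)
  haveI : QuasiCompact (j₀.normalization ↘ (Spec (CommRingCat.of k))) :=
    (inferInstance : QuasiCompact sc)
  refine (Groth.Agent.Lib.Helper4.VarDim.trdeg_generic_eq_one_iff k j₀.normalization).mp ?_
  intro x' hx'
  obtain ⟨y, hy, rfl⟩ := Groth.Agent.S9672.result j₀ x' hx'
  rw [trdeg_residueField_eq j₀.toNormalization hjsc y]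
  exact (Groth.Agent.Lib.Helper4.VarDim.trdeg_generic_eq_one_iff k X).mpr hcurve y hy

end Main

end Groth.Agent.Lib.Helper9.CurveCompl
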