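/-
Helper library (helper9): projective completion of a reduced separated curve over a field
(enhanced version: also records dimension, integrality and normality of the completion).
-/
import Groth.Agent.Lib.Helper9CurveProjCompl

set_option autoImplicit false
set_option linter.style.haveILetI false
universe u

open CategoryTheory AlgebraicGeometry TopologicalSpace Opposite

namespace Groth.Agent.Lib.Helper9.CurveCompl

attribute [local instance] Curv2.resAlgebra

section Main

variable (k : Type u) [Field k] (X : Scheme.{u}) [X.Over (Spec (CommRingCat.of k))] [IsReduced X]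
  [IsSeparated (X ↘ (Spec (CommRingCat.of k)))]
  [LocallyOfFiniteType (X ↘ (Spec (CommRingCat.of k)))]
  [QuasiCompact (X ↘ (Spec (CommRingCat.of k)))]

set_option backward.isDefEq.respectTransparency false in
/-- A reduced separated curve over a field has a projective completion with regular boundary. -/
theorem exists_projective_completion' (hdim : topologicalKrullDim X ≤ 1) :
    ∃ (d : ℕ) (Y : Scheme.{u}) (c : Y ⟶ CohB1.ProjSpace d k) (j : X ⟶ Y), IsClosedImmersion c ∧
      IsOpenImmersion j ∧
      j ≫ c ≫ CohB1.ProjSpace.toSpec d k = X ↘ (Spec (CommRingCat.of k)) ∧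
      Dense (Set.range j.base) ∧ IsSchemeTheoreticallyDominant j ∧
      (Set.range j.base)ᶜ.Finite ∧ (∀ y ∈ (Set.range j.base)ᶜ, IsClosed ({y} : Set Y) ∧
        ∃ _ : IsDomain (Y.presheaf.stalk y), IsDiscreteValuationRing (Y.presheaf.stalk y)) ∧
      topologicalKrullDim Y ≤ 1 ∧ (IsIntegral X → IsIntegral Y) ∧
      (Pi1.IsNormalScheme X → Pi1.IsNormalScheme Y) := by
  haveI : CompactSpace X :=
    QuasiCompact.compactSpace_of_compactSpace (X ↘ (Spec (CommRingCat.of k)))
  obtain ⟨n, i, hi, hik⟩ := Groth.Agent.S1667.result k X hdim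
  haveI := hi
  haveI : IsProper (CohB1.ProjSpace.toSpec n k) :=
    Groth.Agent.Lib.Helper27ProjSpaceFibres.isProper_projSpace_toSpec n k
  haveI : QuasiCompact (i ≫ CohB1.ProjSpace.toSpec n k) := hik ▸ inferInstance
  haveI : QuasiCompact i := QuasiCompact.of_comp i (CohB1.ProjSpace.toSpec n k)
  -- the closure of `X` in projective space
  obtain ⟨Z, j₀, c₀, hj₀, hc₀, hjc⟩ : ∃ (Z : Scheme.{u}) (j₀ : X ⟶ Z)
      (c₀ : Z ⟶ CohB1.ProjSpace n k),
      (IsOpenImmersion j₀ ∧ QuasiCompact j₀) ∧ IsClosedImmersion c₀ ∧ j₀ ≫ c₀ = i :=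
    ⟨i.image, i.toImage, i.imageι, ⟨inferInstance, inferInstance⟩, inferInstance,
      i.toImage_imageι⟩
  haveI := hj₀.1
  haveI := hj₀.2
  haveI := hc₀
  let p : Z ⟶ Spec (CommRingCat.of k) := c₀ ≫ CohB1.ProjSpace.toSpec n k
  haveI : IsProper p := by dsimp only [p]; infer_instance
  have hj₀p : j₀ ≫ p = X ↘ (Spec (CommRingCat.of k)) := by
    dsimp only [p]
    rw [← Category.assoc, hjc, hik]
  letI : Z.Over (Spec (CommRingCat.of k)) := ⟨p⟩
  haveI : LocallyOfFiniteType (Z ↘ (Spec (CommRingCat.of k))) :=
    (inferInstance : LocallyOfFiniteType p)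
  haveI : j₀.IsOver (Spec (CommRingCat.of k)) := ⟨hj₀p⟩
  haveI : IsFinite j₀.fromNormalization := Groth.Agent.S7616.result k Z X j₀
  -- the completion
  let sc : j₀.normalization ⟶ Spec (CommRingCat.of k) := j₀.fromNormalization ≫ p
  have hjsc : j₀.toNormalization ≫ sc = X ↘ (Spec (CommRingCat.of k)) := by
    dsimp only [sc]
    rw [← Category.assoc, j₀.toNormalization_fromNormalization, hj₀p]
  haveI : IsProper sc := by dsimp only [sc]; infer_instance
  letI : (j₀.normalization).Over (Spec (CommRingCat.of k)) := ⟨sc⟩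
  haveI : IsProper (j₀.normalization ↘ (Spec (CommRingCat.of k))) :=
    (inferInstance : IsProper sc)
  haveI : CompactSpace j₀.normalization :=
    QuasiCompact.compactSpace_of_compactSpace (j₀.normalization ↘ (Spec (CommRingCat.of k)))
  -- transcendence degrees on the completion
  have htr : ∀ y : j₀.normalization, Algebra.trdeg k (j₀.normalization.residueField y) ≤ 1 := by
    intro y
    obtain ⟨η, hη, hηy⟩ := Groth.Agent.Lib.Helper4.VarDim.exists_generic_specializes y
    obtain ⟨ξ, hξ, rfl⟩ := Groth.Agent.S9672.result j₀ η hη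
    obtain ⟨m, n', hm, hn', hle, -⟩ :=
      Groth.Agent.Lib.Helper4.VarDim.trdeg_le_of_specializes k j₀.normalization _ y hηy
    have h1 := trdeg_le_one_of_dim_le_one k X hdim ξ
    rw [← trdeg_residueField_eq j₀.toNormalization hjsc ξ, hm] at h1
    rw [hn']
    have h2 : m ≤ 1 := by exact_mod_cast h1
    exact_mod_cast hle.trans h2
  have hmm := isMin_or_isMax_of_trdeg_le_one k j₀.normalization htr
  have hdimY : topologicalKrullDim j₀.normalization ≤ 1 :=
    topologicalKrullDim_le_one_of_isMin_or_isMax j₀.normalization hmm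
  -- projectivity
  obtain ⟨d, c, hc, hck⟩ := Groth.Agent.S1667.result k j₀.normalization hdimY
  haveI := hc
  haveI : IsProper (CohB1.ProjSpace.toSpec d k) :=
    Groth.Agent.Lib.Helper27ProjSpaceFibres.isProper_projSpace_toSpec d k
  haveI : IsProper (c ≫ CohB1.ProjSpace.toSpec d k) := hck ▸ inferInstance
  haveI : IsProper c := IsProper.of_comp c (CohB1.ProjSpace.toSpec d k)
  have hcl : IsClosedImmersion c := (IsClosedImmersion.iff_isProper_and_mono c).mpr
    ⟨inferInstance, inferInstance⟩
  -- boundary points
  have hbd : ∀ y ∈ (Set.range j₀.toNormalization.base)ᶜ, ¬ IsMax y := by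
    intro y hy hmax
    apply hy
    have hgen : closure ({y} : Set j₀.normalization) ∈ irreducibleComponents ↥j₀.normalization := by
      rw [Groth.Agent.Lib.Helper14.closure_mem_irreducibleComponents_iff]
      intro y' hy'
      have h1 : y ≤ y' := Scheme.le_iff_specializes.mpr hy'
      have h2 : y' ≤ y := hmax h1
      exact (hy'.antisymm (Scheme.le_iff_specializes.mp h2)).eq
    obtain ⟨ξ, -, hξ⟩ := Groth.Agent.S9672.result j₀ y hgen
    exact ⟨ξ, hξ⟩
  have hclosed : ∀ y ∈ (Set.range j₀.toNormalization.base)ᶜ,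
      IsClosed ({y} : Set j₀.normalization) := by
    intro y hy
    have hmin : IsMin y := (hmm y).resolve_right (hbd y hy)
    rw [← closure_subset_iff_isClosed]
    intro z hz
    have h1 : y ⤳ z := specializes_iff_mem_closure.mpr hz
    have h2 : z ≤ y := Scheme.le_iff_specializes.mpr h1
    exact ((Scheme.le_iff_specializes.mp (hmin h2)).antisymm h1).eq
  haveI : IsLocallyNoetherian j₀.normalization :=
    LocallyOfFiniteType.isLocallyNoetherian (j₀.normalization ↘ (Spec (CommRingCat.of k)))
  haveI : IsNoetherian j₀.normalization := ⟨⟩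
  refine ⟨d, j₀.normalization, c, j₀.toNormalization, hcl, inferInstance, ?_,
    j₀.toNormalization.denseRange, ⟨j₀.ker_toNormalization⟩, ?_, fun y hy => ⟨hclosed y hy, ?_⟩,
    hdimY, fun h => by haveI := h; infer_instance, fun hn => ?_⟩
  · rw [hck]; exact hjsc
  · -- finiteness of the boundary
    have hCcl : IsClosed (Set.range j₀.toNormalization.base)ᶜ :=
      j₀.toNormalization.isOpenEmbedding.isOpen_range.isClosed_compl
    obtain ⟨S, hSf, hSc, hSi, hSU⟩ :=
      NoetherianSpace.exists_finite_set_isClosed_irreducible hCcl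
    rw [hSU]
    refine hSf.sUnion fun t ht => ?_
    obtain ⟨ξ, hξ⟩ := QuasiSober.sober (hSi t ht) (hSc t ht)
    have hξt : ξ ∈ t := hξ.mem
    have hξC : ξ ∈ (Set.range j₀.toNormalization.base)ᶜ := by
      rw [hSU]; exact ⟨t, ht, hξt⟩
    have : t = {ξ} := by
      rw [← hξ.def, (hclosed ξ hξC).closure_eq]
    rw [this]
    exact Set.finite_singleton ξ
  · -- the local ring is a discrete valuation ring
    have hd1 : ringKrullDim (j₀.normalization.presheaf.stalk y) = 1 := by
      apply le_antisymm
      · exact (Helper16LocSym.ringKrullDim_stalk_le _ y).trans hdimY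
      · rw [ringKrullDim_stalk_eq_coheight]
        by_contra hlt
        have h0 : Order.coheight y = 0 := by
          by_contra hne
          apply hlt
          have : (1 : ℕ∞) ≤ Order.coheight y := Order.one_le_iff_ne_zero.mpr hne
          exact_mod_cast this
        exact hbd y hy (Order.coheight_eq_zero.mp h0)
    exact Groth.Agent.Lib.Helper9.NormDVR.isDVR_stalk_normalization j₀
      (fun U => Groth.Agent.S7616.isNagata_sections_of_locallyOfFiniteType_field k Z U.1 U.2)
      y hd1 hy
  · -- normality
    haveI : IsLocallyNoetherian X :=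
      LocallyOfFiniteType.isLocallyNoetherian (X ↘ (Spec (CommRingCat.of k)))
    haveI : IsNoetherian X := ⟨⟩
    have hfin : LocallyFinite (fun Z : ↥(irreducibleComponents ↥X) => (Z : Set ↥X)) := by
      haveI : Finite ↥(irreducibleComponents ↥X) :=
        (NoetherianSpace.finite_irreducibleComponents (α := X)).to_subtype
      exact locallyFinite_of_finite _
    exact Groth.Agent.Lib.Helper9.NormProd.isNormalScheme_normalization j₀ hn hfin

end Main

end Groth.Agent.Lib.Helper9.CurveCompl
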