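/-
Helper library (helper9): extension of morphisms from an open of a curve over a finite
boundary consisting of closed points with DVR local rings, and extension of a morphism
to a proper variety over a projective completion.
-/
import Groth.Agent.S6559
import Groth.Agent.Lib.Helper9CurveProjComplB

set_option autoImplicit false
set_option linter.style.haveILetI false
universe u

open CategoryTheory AlgebraicGeometry TopologicalSpace Opposite

namespace Groth.Agent.Lib.Helper9.CurveCompl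

section Extend

variable (k : Type u) [Field k] (X Y : Scheme.{u}) [X.Over (Spec (CommRingCat.of k))]
  [Y.Over (Spec (CommRingCat.of k))] [IsIntegral X]
  [IsSeparated (X ↘ (Spec (CommRingCat.of k)))]
  [LocallyOfFiniteType (X ↘ (Spec (CommRingCat.of k)))]
  [QuasiCompact (X ↘ (Spec (CommRingCat.of k)))]
  [IsIntegral Y] [IsProper (Y ↘ (Spec (CommRingCat.of k)))]

set_option backward.isDefEq.respectTransparency false in
/-- A morphism from a nonempty open of a curve to a proper variety extends over a finite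
boundary of closed points whose local rings are discrete valuation rings. -/
theorem exists_extension_of_finite_dvr_boundary (hdX : topologicalKrullDim X = 1)
    (U : X.Opens) (hU : (U : Set X).Nonempty) (f : (U : Scheme.{u}) ⟶ Y)
    (hf : f ≫ (Y ↘ (Spec (CommRingCat.of k))) = U.ι ≫ (X ↘ (Spec (CommRingCat.of k))))
    (hfin : ((U : Set X)ᶜ).Finite)
    (hB : ∀ x ∈ (U : Set X)ᶜ, IsClosed ({x} : Set X) ∧
      IsDiscreteValuationRing (X.presheaf.stalk x)) :
    ∃ g : X ⟶ Y, g ≫ (Y ↘ (Spec (CommRingCat.of k))) = X ↘ (Spec (CommRingCat.of k)) ∧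
      U.ι ≫ g = f := by
  have key : ∃ (U' : X.Opens) (hUU' : U ≤ U') (g : (U' : Scheme.{u}) ⟶ Y),
      (U : Set X)ᶜ ⊆ (U' : Set X) ∧
      g ≫ (Y ↘ (Spec (CommRingCat.of k))) = U'.ι ≫ (X ↘ (Spec (CommRingCat.of k))) ∧
      X.homOfLE hUU' ≫ g = f := by
    refine Set.Finite.induction_on_subset
      (motive := fun T _ => ∃ (U' : X.Opens) (hUU' : U ≤ U') (g : (U' : Scheme.{u}) ⟶ Y),
        T ⊆ (U' : Set X) ∧
        g ≫ (Y ↘ (Spec (CommRingCat.of k))) = U'.ι ≫ (X ↘ (Spec (CommRingCat.of k))) ∧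
        X.homOfLE hUU' ≫ g = f) _ hfin ?_ ?_
    · exact ⟨U, le_rfl, f, Set.empty_subset _, hf, by
        rw [AlgebraicGeometry.Scheme.homOfLE_rfl, Category.id_comp]⟩
    · intro a T haB hTB haT ⟨U', hUU', g, hTU', hg, hgf⟩
      obtain ⟨hacl, hadvr⟩ := hB a haB
      obtain ⟨U'', hU'U'', g', haU'', hg', hg'g⟩ :=
        Groth.Agent.S6559.result k X Y hdX U' (hU.mono hUU') g hg a hacl hadvr
      refine ⟨U'', hUU'.trans hU'U'', g', ?_, hg', ?_⟩
      · intro x hx
        rcases Set.mem_insert_iff.mp hx with rfl | hx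
        · exact haU''
        · exact hU'U'' (hTU' hx)
      · rw [← AlgebraicGeometry.Scheme.homOfLE_homOfLE X hUU' hU'U'', Category.assoc, hg'g, hgf]
  obtain ⟨U', hUU', g, hBU', hg, hgf⟩ := key
  have hU'top : U' = ⊤ := by
    rw [eq_top_iff]
    intro x _
    by_cases hx : x ∈ (U : Set X)
    · exact hUU' hx
    · exact hBU' hx
  subst hU'top
  refine ⟨X.topIso.inv ≫ g, ?_, ?_⟩
  · rw [Category.assoc, hg, AlgebraicGeometry.Scheme.toIso_inv_ι_assoc]
  · rw [← hgf, ← Category.assoc]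
    congr 1
    rw [← cancel_mono (⊤ : X.Opens).ι, Category.assoc, AlgebraicGeometry.Scheme.toIso_inv_ι,
      Category.comp_id, AlgebraicGeometry.Scheme.homOfLE_ι]

end Extend

section Main

variable (k : Type u) [Field k] (X Y : Scheme.{u}) [X.Over (Spec (CommRingCat.of k))]
  [Y.Over (Spec (CommRingCat.of k))] [IsIntegral X]
  [IsSeparated (X ↘ (Spec (CommRingCat.of k)))]
  [LocallyOfFiniteType (X ↘ (Spec (CommRingCat.of k)))]
  [QuasiCompact (X ↘ (Spec (CommRingCat.of k)))]
  [IsIntegral Y] [IsProper (Y ↘ (Spec (CommRingCat.of k)))]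

set_option backward.isDefEq.respectTransparency false in
/-- A morphism from a curve to a proper variety extends over a projective completion. -/
theorem exists_projective_completion_extending (hdX : topologicalKrullDim X = 1)
    (f : X ⟶ Y)
    (hf : f ≫ (Y ↘ (Spec (CommRingCat.of k))) = X ↘ (Spec (CommRingCat.of k))) :
    ∃ (Xb : Scheme.{u}) (_ : Xb.Over (Spec (CommRingCat.of k))) (j : X ⟶ Xb) (g : Xb ⟶ Y),
      IsOpenImmersion j ∧ j ≫ g = f ∧
      j ≫ (Xb ↘ (Spec (CommRingCat.of k))) = X ↘ (Spec (CommRingCat.of k)) ∧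
      g ≫ (Y ↘ (Spec (CommRingCat.of k))) = Xb ↘ (Spec (CommRingCat.of k)) ∧
      IsIntegral Xb ∧ topologicalKrullDim Xb = 1 ∧
      ∃ (n : ℕ) (i : Xb ⟶ CohB1.ProjSpace n k), IsClosedImmersion i ∧
        i ≫ CohB1.ProjSpace.toSpec n k = Xb ↘ (Spec (CommRingCat.of k)) := by
  obtain ⟨d, Xb, c, j, hc, hj, hjc, -, -, hfin, hbd, hdimY, hint, -⟩ :=
    exists_projective_completion' k X hdX.le
  haveI := hc
  haveI := hj
  haveI : IsIntegral Xb := hint inferInstance
  letI : Xb.Over (Spec (CommRingCat.of k)) := ⟨c ≫ CohB1.ProjSpace.toSpec d k⟩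
  haveI : IsProper (CohB1.ProjSpace.toSpec d k) :=
    Groth.Agent.Lib.Helper27ProjSpaceFibres.isProper_projSpace_toSpec d k
  haveI : IsProper (Xb ↘ (Spec (CommRingCat.of k))) :=
    (inferInstance : IsProper (c ≫ CohB1.ProjSpace.toSpec d k))
  have hdXb : topologicalKrullDim Xb = 1 := by
    refine le_antisymm hdimY ?_
    rw [← hdX]
    exact j.isOpenEmbedding.isEmbedding.isInducing.topologicalKrullDim_le
  have hjk : j ≫ (Xb ↘ (Spec (CommRingCat.of k))) = X ↘ (Spec (CommRingCat.of k)) := hjc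
  have hne : ((j.opensRange : Xb.Opens) : Set Xb).Nonempty := by
    obtain ⟨x⟩ := (inferInstance : Nonempty X)
    exact ⟨j x, ⟨x, rfl⟩⟩
  have hf₀ : (j.isoOpensRange.inv ≫ f) ≫ (Y ↘ (Spec (CommRingCat.of k))) =
      j.opensRange.ι ≫ (Xb ↘ (Spec (CommRingCat.of k))) := by
    rw [Category.assoc, hf, ← hjk, ← Category.assoc,
      AlgebraicGeometry.Scheme.Hom.isoOpensRange_inv_comp]
  have hcompl : ((j.opensRange : Xb.Opens) : Set Xb)ᶜ = (Set.range j.base)ᶜ := by
    rw [AlgebraicGeometry.Scheme.Hom.coe_opensRange]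
  obtain ⟨g, hg, hgf⟩ := exists_extension_of_finite_dvr_boundary k Xb Y hdXb j.opensRange hne
    (j.isoOpensRange.inv ≫ f) hf₀ (hcompl ▸ hfin) (by
      intro x hx
      rw [hcompl] at hx
      obtain ⟨hcl, _, hdvr⟩ := hbd x hx
      exact ⟨hcl, hdvr⟩)
  refine ⟨Xb, inferInstance, j, g, hj, ?_, hjk, hg, inferInstance, hdXb, d, c, hc, rfl⟩
  rw [← AlgebraicGeometry.Scheme.Hom.isoOpensRange_hom_ι j, Category.assoc, hgf,
    Iso.hom_inv_id_assoc]

end Main

end Groth.Agent.Lib.Helper9.CurveCompl
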