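import Mathlib

/-!
# Selecting curves through a point of a Noetherian domain

* `height_le_one_of_forall_mem`: a prime `𝔫` of a Noetherian domain all of whose nonzero
  sub-primes contain a fixed nonzero element has height at most one.
* `exists_prime_le_height_one`: for a prime `𝔫` of a Noetherian domain and `0 ≠ g ∈ 𝔫` there is a
  prime `p ≤ 𝔫` not containing `g` such that `𝔫 / p` has height one.
* `exists_notMem_forall_prime_eq`: for a maximal ideal `𝔪` of height `≤ 1` and `0 ≠ g ∈ 𝔪`, after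
  inverting some `h ∉ 𝔪` the only prime containing `g` is `𝔪`.
-/

namespace Groth.Agent.Lib.Helper9.CurveSel

/-- A prime of a Noetherian domain all of whose nonzero sub-primes contain a fixed nonzero
element has height at most one. -/
theorem height_le_one_of_forall_mem {D : Type*} [CommRing D] [IsDomain D] [IsNoetherianRing D]
    (𝔫 : Ideal D) [𝔫.IsPrime] (g : D) (hg0 : g ≠ 0) (hg : g ∈ 𝔫)
    (H : ∀ Q : Ideal D, Q.IsPrime → Q ≤ 𝔫 → Q ≠ ⊥ → g ∈ Q) : 𝔫.height ≤ 1 := by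
  classical
  by_cases hmin : 𝔫 ∈ (Ideal.span {g}).minimalPrimes
  · exact Ideal.height_le_one_of_isPrincipal_of_mem_minimalPrimes _ 𝔫 hmin
  exfalso
  have hfin : (Ideal.span {g}).minimalPrimes.Finite :=
    Ideal.finite_minimalPrimes_of_isNoetherianRing D _
  have hgn : Ideal.span {g} ≤ 𝔫 := (Ideal.span_singleton_le_iff_mem _).2 hg
  obtain ⟨q₀, hq₀, hq₀n⟩ := Ideal.exists_minimalPrimes_le hgn
  -- prime avoidance
  have hav : ¬ ((𝔫 : Set D) ⊆ ⋃ q ∈ ((hfin.toFinset.filter (· ≤ 𝔫) : Finset (Ideal D)) :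
      Set (Ideal D)), ((fun q : Ideal D => q) q : Set D)) := by
    rw [Ideal.subset_union_prime (R := D) (s := hfin.toFinset.filter (· ≤ 𝔫)) (f := fun q => q)
      ⊥ ⊥ (fun q hq _ _ => by
        have := (Finset.mem_filter.1 hq).1
        rw [Set.Finite.mem_toFinset] at this
        exact this.1.1)]
    rintro ⟨q, hq, hnq⟩
    have hq' := Finset.mem_filter.1 hq
    rw [Set.Finite.mem_toFinset] at hq'
    exact hmin ((le_antisymm hq'.2 hnq) ▸ hq'.1)
  rw [Set.not_subset] at hav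
  obtain ⟨h, hh𝔫, hhq⟩ := hav
  have hhq' : ∀ q ∈ (Ideal.span {g}).minimalPrimes, q ≤ 𝔫 → h ∉ q := by
    intro q hq hqn hhq1
    apply hhq
    simp only [Set.mem_iUnion]
    exact ⟨q, Finset.mem_coe.2 (Finset.mem_filter.2 ⟨hfin.mem_toFinset.2 hq, hqn⟩), hhq1⟩
  have hh0 : h ≠ 0 := by
    rintro rfl
    exact hhq' q₀ hq₀ hq₀n q₀.zero_mem
  have hhn : Ideal.span {h} ≤ 𝔫 := (Ideal.span_singleton_le_iff_mem _).2 hh𝔫
  obtain ⟨q', hq', hq'n⟩ := Ideal.exists_minimalPrimes_le hhn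
  haveI : q'.IsPrime := hq'.1.1
  have hhq'mem : h ∈ q' := hq'.1.2 (Ideal.mem_span_singleton_self h)
  have hq'bot : q' ≠ ⊥ := by
    rintro rfl
    exact hh0 ((Submodule.mem_bot D).1 hhq'mem)
  have hgq' : g ∈ q' := H q' inferInstance hq'n hq'bot
  obtain ⟨q, hq, hqq'⟩ := Ideal.exists_minimalPrimes_le
    ((Ideal.span_singleton_le_iff_mem _).2 hgq' : Ideal.span {g} ≤ q')
  haveI : q.IsPrime := hq.1.1
  have hhq1 : h ∉ q := hhq' q hq (hqq'.trans hq'n)
  have hqlt : q < q' := lt_of_le_of_ne hqq' (fun h1 => hhq1 (h1 ▸ hhq'mem))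
  have hqbot : (⊥ : Ideal D) < q := by
    rw [bot_lt_iff_ne_bot]
    rintro rfl
    exact hg0 ((Submodule.mem_bot D).1 (hq.1.2 (Ideal.mem_span_singleton_self g)))
  have h1 : q'.height ≤ 1 := Ideal.height_le_one_of_isPrincipal_of_mem_minimalPrimes _ q' hq'
  have h2 : q.height < q'.height := Ideal.height_strict_mono_of_isPrime hqlt
  have h3 : (⊥ : Ideal D).height < q.height := Ideal.height_strict_mono_of_isPrime hqbot
  have h4 : q.height < 1 := lt_of_lt_of_le h2 h1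
  have h5 : q.height = 0 := by
    exact Order.lt_one_iff.1 h4
  rw [h5] at h3
  exact not_lt_bot h3

/-- **Curve selection.** For a prime `𝔫` of a Noetherian domain and `0 ≠ g ∈ 𝔫` there is a prime
`p ≤ 𝔫` not containing `g` such that the image of `𝔫` in `B ⧸ p` has height one. -/
theorem exists_prime_le_height_one {B : Type*} [CommRing B] [IsDomain B] [IsNoetherianRing B]
    (𝔫 : Ideal B) [𝔫.IsPrime] (g : B) (hg0 : g ≠ 0) (hg : g ∈ 𝔫) :
    ∃ p : Ideal B, p.IsPrime ∧ p ≤ 𝔫 ∧ g ∉ p ∧ (𝔫.map (Ideal.Quotient.mk p)).height = 1 := by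
  let P : Set (Ideal B) := {p | p.IsPrime ∧ p ≤ 𝔫 ∧ g ∉ p}
  have hPne : P.Nonempty := ⟨⊥, Ideal.isPrime_bot, bot_le, fun h => hg0 ((Submodule.mem_bot B).1 h)⟩
  obtain ⟨p, hpP, hpmax⟩ := (set_has_maximal_iff_noetherian.2 (inferInstance : IsNoetherian B B))
    P hPne
  obtain ⟨hpprime, hpn, hgp⟩ := hpP
  haveI := hpprime
  refine ⟨p, hpprime, hpn, hgp, ?_⟩
  have hsurj : Function.Surjective (Ideal.Quotient.mk p) := Ideal.Quotient.mk_surjective
  have hker : RingHom.ker (Ideal.Quotient.mk p) ≤ 𝔫 := by rw [Ideal.mk_ker]; exact hpn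
  haveI : (𝔫.map (Ideal.Quotient.mk p)).IsPrime := Ideal.map_isPrime_of_surjective hsurj hker
  have hcomap : (𝔫.map (Ideal.Quotient.mk p)).comap (Ideal.Quotient.mk p) = 𝔫 := by
    rw [Ideal.comap_map_of_surjective _ hsurj, ← RingHom.ker_eq_comap_bot, Ideal.mk_ker]
    exact sup_eq_left.2 hpn
  have hg0' : Ideal.Quotient.mk p g ≠ 0 := fun h => hgp (Ideal.Quotient.eq_zero_iff_mem.1 h)
  have hg' : Ideal.Quotient.mk p g ∈ 𝔫.map (Ideal.Quotient.mk p) := Ideal.mem_map_of_mem _ hg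
  apply le_antisymm
  · apply height_le_one_of_forall_mem _ _ hg0' hg'
    intro Q hQ hQn hQbot
    haveI := hQ
    by_contra hgQ
    have hQ' : Q.comap (Ideal.Quotient.mk p) ∈ P := by
      refine ⟨Ideal.comap_isPrime _ _, ?_, fun h => hgQ h⟩
      calc Q.comap (Ideal.Quotient.mk p) ≤ (𝔫.map (Ideal.Quotient.mk p)).comap _ :=
            Ideal.comap_mono hQn
        _ = 𝔫 := hcomap
    have hple : p ≤ Q.comap (Ideal.Quotient.mk p) := by
      intro x hx
      rw [Ideal.mem_comap, Ideal.Quotient.eq_zero_iff_mem.2 hx]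
      exact Q.zero_mem
    have heq : Q.comap (Ideal.Quotient.mk p) = p := by
      by_contra hne
      exact hpmax _ hQ' (lt_of_le_of_ne hple (Ne.symm hne))
    apply hQbot
    rw [← Ideal.map_comap_of_surjective _ hsurj Q, heq, Ideal.map_quotient_self]
  · have hbot : (⊥ : Ideal (B ⧸ p)) < 𝔫.map (Ideal.Quotient.mk p) := by
      rw [bot_lt_iff_ne_bot]
      intro h
      rw [h] at hg'
      exact hg0' ((Submodule.mem_bot _).1 hg')
    haveI : (⊥ : Ideal (B ⧸ p)).IsPrime := Ideal.isPrime_bot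
    have h3 : (⊥ : Ideal (B ⧸ p)).height < (𝔫.map (Ideal.Quotient.mk p)).height :=
      Ideal.height_strict_mono_of_isPrime hbot
    exact Order.one_le_iff_pos.2 (lt_of_le_of_lt zero_le h3)

/-- For a maximal ideal `𝔪` of height `≤ 1` in a Noetherian domain and `0 ≠ g ∈ 𝔪`, there is
`h ∉ 𝔪` such that `𝔪` is the only prime containing `g` and not `h`. -/
theorem exists_notMem_forall_prime_eq {D : Type*} [CommRing D] [IsDomain D] [IsNoetherianRing D]
    (𝔪 : Ideal D) [𝔪.IsMaximal] (h𝔪 : 𝔪.height ≤ 1) (g : D) (hg0 : g ≠ 0) :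
    ∃ h : D, h ∉ 𝔪 ∧ ∀ Q : Ideal D, Q.IsPrime → g ∈ Q → h ∉ Q → Q = 𝔪 := by
  classical
  have hfin : (Ideal.span {g}).minimalPrimes.Finite :=
    Ideal.finite_minimalPrimes_of_isNoetherianRing D _
  have hex : ∀ q ∈ (Ideal.span {g}).minimalPrimes, q ≠ 𝔪 → ∃ x ∈ q, x ∉ 𝔪 := by
    intro q hq hne
    haveI : q.IsPrime := hq.1.1
    by_contra hcon
    push Not at hcon
    have hle : q ≤ 𝔪 := hcon
    have hlt : q < 𝔪 := lt_of_le_of_ne hle hne
    have hqbot : (⊥ : Ideal D) < q := by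
      rw [bot_lt_iff_ne_bot]
      rintro rfl
      exact hg0 ((Submodule.mem_bot D).1 (hq.1.2 (Ideal.mem_span_singleton_self g)))
    haveI : (⊥ : Ideal D).IsPrime := Ideal.isPrime_bot
    have h2 : q.height < 𝔪.height := Ideal.height_strict_mono_of_isPrime hlt
    have h3 : (⊥ : Ideal D).height < q.height := Ideal.height_strict_mono_of_isPrime hqbot
    have h4 : q.height < 1 := lt_of_lt_of_le h2 h𝔪
    have h5 : q.height = 0 := Order.lt_one_iff.1 h4
    rw [h5] at h3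
    exact not_lt_bot h3
  choose! x hxq hx𝔪 using hex
  refine ⟨∏ q ∈ hfin.toFinset.filter (· ≠ 𝔪), x q, ?_, ?_⟩
  · intro hmem
    obtain ⟨q, hq, hxq'⟩ := (Ideal.IsPrime.prod_mem_iff (hp := inferInstance)).1 hmem
    have hq' := Finset.mem_filter.1 hq
    exact hx𝔪 q (hfin.mem_toFinset.1 hq'.1) hq'.2 hxq'
  · intro Q hQ hgQ hhQ
    obtain ⟨q, hq, hqQ⟩ := Ideal.exists_minimalPrimes_le
      ((Ideal.span_singleton_le_iff_mem _).2 hgQ : Ideal.span {g} ≤ Q)
    by_cases hq𝔪 : q = 𝔪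
    · subst hq𝔪
      exact (Ideal.IsMaximal.eq_of_le inferInstance hQ.ne_top hqQ).symm
    · exfalso
      apply hhQ
      have hmemF : q ∈ hfin.toFinset.filter (· ≠ 𝔪) :=
        Finset.mem_filter.2 ⟨hfin.mem_toFinset.2 hq, hq𝔪⟩
      have hdvd : x q ∣ ∏ q ∈ hfin.toFinset.filter (· ≠ 𝔪), x q := Finset.dvd_prod_of_mem _ hmemF
      exact Q.mem_of_dvd hdvd (hqQ (hxq q hq hq𝔪))

end Groth.Agent.Lib.Helper9.CurveSel
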