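/-
Helper library (helper9): a smooth curve over an algebraically closed field is open in a smooth
projective curve.
-/
import Groth.Agent.Lib.Helper9CurveProjComplB
import Groth.Agent.Lib.Helper20NormFin
import Groth.Agent.S1561

set_option autoImplicit false
set_option linter.style.haveILetI false
universe u

open CategoryTheory AlgebraicGeometry TopologicalSpace Opposite

namespace Groth.Agent.Lib.Helper9.CurveCompl

/-- A Noetherian integrally closed local domain of dimension at most one is a principal ideal
ring. -/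
theorem isPrincipalIdealRing_of_dim_le_one (R : Type u) [CommRing R] [IsDomain R] [IsLocalRing R]
    [IsNoetherianRing R] [IsIntegrallyClosed R] (hdim : ringKrullDim R ≤ 1) :
    IsPrincipalIdealRing R := by
  haveI : Ring.KrullDimLE 1 R := Ring.krullDimLE_iff.mpr hdim
  have h := (tfae_of_isNoetherianRing_of_isLocalRing_of_isDomain R).out 3 0
  refine h.mp ⟨inferInstance, ?_⟩
  intro P hP hPp
  exact IsLocalRing.eq_maximalIdeal (hPp.isMaximal_of_ne_bot hP)

/-- The spectrum of a field is a normal scheme. -/
theorem isNormalScheme_spec_field (k : Type u) [Field k] :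
    Pi1.IsNormalScheme (Spec (CommRingCat.of k)) := by
  intro x
  letI : Algebra k ↑((Spec (.of k)).presheaf.stalk x) := StructureSheaf.stalkAlgebra k x
  haveI : IsLocalization.AtPrime ((Spec (.of k)).presheaf.stalk x) x.asIdeal :=
    StructureSheaf.IsLocalization.to_stalk k x
  haveI : IsDomain ((Spec (.of k)).presheaf.stalk x) :=
    IsLocalization.isDomain_of_le_nonZeroDivisors _ x.asIdeal.primeCompl_le_nonZeroDivisors
  exact ⟨inferInstance,
    isIntegrallyClosed_of_isLocalization _ x.asIdeal.primeCompl
      x.asIdeal.primeCompl_le_nonZeroDivisors⟩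

/-- A normal scheme of dimension at most one, locally of finite type over a perfect field, is
smooth. -/
theorem smooth_of_normal_of_dim_le_one (k : Type u) [Field k] [PerfectField k] (Y : Scheme.{u})
    [Y.Over (Spec (CommRingCat.of k))] [LocallyOfFiniteType (Y ↘ (Spec (CommRingCat.of k)))]
    (hN : Pi1.IsNormalScheme Y) (hdim : topologicalKrullDim Y ≤ 1) :
    Smooth (Y ↘ (Spec (CommRingCat.of k))) := by
  haveI : IsReduced Y := Groth.Agent.Lib.Helper9.NormProd.isReduced_of_isNormalScheme hN
  haveI : IsLocallyNoetherian Y :=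
    LocallyOfFiniteType.isLocallyNoetherian (Y ↘ (Spec (CommRingCat.of k)))
  haveI : LocallyOfFinitePresentation (Y ↘ (Spec (CommRingCat.of k))) :=
    LocallyOfFinitePresentation.iff_locallyOfFiniteType.mpr inferInstance
  have h := (Groth.Agent.S1561.result k Y).1
  rw [← Scheme.Hom.smoothLocus_eq_top_iff, eq_top_iff]
  intro y _
  rw [h y]
  obtain ⟨hd, hic⟩ := hN y
  haveI := hd
  haveI := hic
  haveI : IsPrincipalIdealRing (Y.presheaf.stalk y) :=
    isPrincipalIdealRing_of_dim_le_one _
      ((Helper16LocSym.ringKrullDim_stalk_le Y y).trans hdim)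
  infer_instance

section Main

variable (k : Type u) [Field k] [IsAlgClosed k]
  (X : Scheme.{u}) [X.Over (Spec (CommRingCat.of k))] [IsIntegral X]
  [IsSeparated (X ↘ (Spec (CommRingCat.of k)))]
  [LocallyOfFiniteType (X ↘ (Spec (CommRingCat.of k)))]
  [QuasiCompact (X ↘ (Spec (CommRingCat.of k)))] [Smooth (X ↘ (Spec (CommRingCat.of k)))]

/-- A smooth curve over an algebraically closed field is open in a smooth projective curve. -/
theorem exists_smooth_projective_completion (hdimX : topologicalKrullDim X = 1) :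
    ∃ (Y : Scheme.{u}) (_ : Y.Over (Spec (CommRingCat.of k))) (j : X ⟶ Y), IsOpenImmersion j ∧
      j ≫ (Y ↘ (Spec (CommRingCat.of k))) = X ↘ (Spec (CommRingCat.of k)) ∧ IsIntegral Y ∧
      Smooth (Y ↘ (Spec (CommRingCat.of k))) ∧ topologicalKrullDim Y = 1 ∧
      ∃ (n : ℕ) (i : Y ⟶ CohB1.ProjSpace n k), IsClosedImmersion i ∧
        i ≫ CohB1.ProjSpace.toSpec n k = Y ↘ (Spec (CommRingCat.of k)) := by
  have hnorm : Pi1.IsNormalScheme X :=
    Groth.Agent.Lib.Helper20NormFin.isNormalScheme_of_smooth (isNormalScheme_spec_field k)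
      (X ↘ (Spec (CommRingCat.of k)))
  obtain ⟨d, Y, c, j, hc, hj, hjc, -, -, -, -, hdimY, hint, hnormY⟩ :=
    exists_projective_completion' k X hdimX.le
  haveI := hc
  haveI := hj
  letI : Y.Over (Spec (CommRingCat.of k)) := ⟨c ≫ CohB1.ProjSpace.toSpec d k⟩
  haveI : IsProper (CohB1.ProjSpace.toSpec d k) :=
    Groth.Agent.Lib.Helper27ProjSpaceFibres.isProper_projSpace_toSpec d k
  haveI : LocallyOfFiniteType (Y ↘ (Spec (CommRingCat.of k))) :=
    (inferInstance : LocallyOfFiniteType (c ≫ CohB1.ProjSpace.toSpec d k))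
  refine ⟨Y, inferInstance, j, hj, hjc, hint inferInstance,
    smooth_of_normal_of_dim_le_one k Y (hnormY hnorm) hdimY, le_antisymm hdimY ?_, d, c, hc, rfl⟩
  rw [← hdimX]
  exact j.isOpenEmbedding.isEmbedding.isInducing.topologicalKrullDim_le

end Main

end Groth.Agent.Lib.Helper9.CurveCompl
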