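import Mathlib

/-!
# Ultraproducts of type-valued functors (helper9)

For an ultrafilter `𝒰` on `ι` and a family of functors `F i : C ⥤ Type w`, the functor
`ultra 𝒰 F : C ⥤ Type w` sends `V` to the set of germs along `𝒰` of partial families
`(a_i ∈ (F i).obj V)` defined `𝒰`-almost everywhere.
-/

set_option autoImplicit false
open CategoryTheory CategoryTheory.Limits Opposite Filter
universe w v u

namespace Groth.Agent.Lib.Helper9.Ultra

variable {C : Type u} [Category.{v} C] {ι : Type w} (𝒰 : Ultrafilter ι) (F : ι → C ⥤ Type w)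

/-- partial families defined almost everywhere -/
structure Pre (V : C) where
  val : ∀ i, Option ((F i).obj V)
  isSome : ∀ᶠ i in (𝒰 : Filter ι), (val i).isSome

variable {𝒰 F}

/-- the action of a morphism on partial families -/
def Pre.map {V V' : C} (f : V ⟶ V') (a : Pre 𝒰 F V) : Pre 𝒰 F V' where
  val i := (a.val i).map ((F i).map f)
  isSome := by
    filter_upwards [a.isSome] with i hi
    simpa using hi

/-- eventual equality -/
def Rel {V : C} (a b : Pre 𝒰 F V) : Prop := ∀ᶠ i in (𝒰 : Filter ι), a.val i = b.val i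

lemma Rel.map {V V' : C} (f : V ⟶ V') {a b : Pre 𝒰 F V} (h : Rel a b) : Rel (a.map f) (b.map f) := by
  unfold Rel at h ⊢
  filter_upwards [h] with i hi
  simp [Pre.map, hi]

variable (𝒰 F)

/-- eventual equality -/
def setoid (V : C) : Setoid (Pre 𝒰 F V) where
  r := Rel
  iseqv :=
    { refl := fun a => Eventually.of_forall fun _ => rfl
      symm := fun h => h.mono fun _ hi => hi.symm
      trans := fun h h' => by
        unfold Rel at h h' ⊢
        filter_upwards [h, h'] with i hi hi'
        exact hi.trans hi' }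

/-- the objects of the ultraproduct functor -/
def UObj (V : C) : Type w := Quotient (setoid 𝒰 F V)

variable {𝒰 F}

/-- the class of a partial family -/
def mk {V : C} (a : Pre 𝒰 F V) : UObj 𝒰 F V := Quotient.mk (setoid 𝒰 F V) a

lemma mk_surjective {V : C} (x : UObj 𝒰 F V) : ∃ a : Pre 𝒰 F V, mk a = x :=
  Quotient.exists_rep x

lemma mk_eq_mk_iff {V : C} (a b : Pre 𝒰 F V) :
    mk a = mk b ↔ ∀ᶠ i in (𝒰 : Filter ι), a.val i = b.val i :=
  ⟨fun h => Quotient.exact h, fun h => Quotient.sound h⟩

/-- the action of a morphism -/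
def umap {V V' : C} (f : V ⟶ V') : UObj 𝒰 F V → UObj 𝒰 F V' :=
  Quotient.lift (fun a => mk (a.map f)) (fun _ _ h => Quotient.sound (Rel.map f h))

@[simp] lemma umap_mk {V V' : C} (f : V ⟶ V') (a : Pre 𝒰 F V) : umap f (mk a) = mk (a.map f) := rfl

variable (𝒰 F)

/-- the ultraproduct functor -/
def ultra : C ⥤ Type w where
  obj V := UObj 𝒰 F V
  map {V V'} f := ↾(umap f)
  map_id V := by
    ext x
    obtain ⟨a, rfl⟩ := mk_surjective x
    refine (mk_eq_mk_iff _ _).2 (Eventually.of_forall fun i => ?_)
    cases h : a.val i <;> simp [Pre.map, h]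
  map_comp f g := by
    ext x
    obtain ⟨a, rfl⟩ := mk_surjective x
    refine (mk_eq_mk_iff _ _).2 (Eventually.of_forall fun i => ?_)
    cases h : a.val i <;> simp [Pre.map, h]

variable {𝒰 F}

@[simp] lemma ultra_map_mk {V V' : C} (f : V ⟶ V') (a : Pre 𝒰 F V) :
    (ultra 𝒰 F).map f (mk a : (ultra 𝒰 F).obj V) = mk (a.map f) := rfl

/-- a total family -/
def Pre.total {V : C} (a : ∀ i, (F i).obj V) : Pre 𝒰 F V where
  val i := some (a i)
  isSome := Eventually.of_forall fun _ => rfl

/-- a family defined on a large set, given by a choice function -/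
noncomputable def Pre.ofExists {V : C} (P : ∀ i, (F i).obj V → Prop)
    (h : ∀ᶠ i in (𝒰 : Filter ι), ∃ a, P i a) : Pre 𝒰 F V where
  val i := by
    classical
    exact if hi : ∃ a, P i a then some hi.choose else none
  isSome := by
    filter_upwards [h] with i hi
    simp [hi]

lemma Pre.ofExists_spec {V : C} (P : ∀ i, (F i).obj V → Prop)
    (h : ∀ᶠ i in (𝒰 : Filter ι), ∃ a, P i a) :
    ∀ᶠ i in (𝒰 : Filter ι), ∃ a, (Pre.ofExists P h).val i = some a ∧ P i a := by
  filter_upwards [h] with i hi
  refine ⟨hi.choose, ?_, hi.choose_spec⟩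
  simp [Pre.ofExists, hi]

/-- every partial family is almost everywhere `some` -/
lemma Pre.eventually_eq_some {V : C} (a : Pre 𝒰 F V) :
    ∀ᶠ i in (𝒰 : Filter ι), ∃ α, a.val i = some α := by
  filter_upwards [a.isSome] with i hi
  exact Option.isSome_iff_exists.1 hi

section maps

variable {G : ι → C ⥤ Type w}

/-- the action of a family of natural transformations on partial families -/
def Pre.app (τ : ∀ i, F i ⟶ G i) {V : C} (a : Pre 𝒰 F V) : Pre 𝒰 G V where
  val i := (a.val i).map ((τ i).app V)
  isSome := by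
    filter_upwards [a.isSome] with i hi
    simpa using hi

/-- the map of ultraproducts induced by a family of natural transformations -/
def ultraMap (τ : ∀ i, F i ⟶ G i) : ultra 𝒰 F ⟶ ultra 𝒰 G where
  app V := ↾(Quotient.lift (fun a => (mk (a.app τ) : UObj 𝒰 G V)) (fun a b h => by
    refine (mk_eq_mk_iff _ _).2 ?_
    have h' : Rel a b := h
    unfold Rel at h'
    filter_upwards [h'] with i hi
    simp [Pre.app, hi]))
  naturality V V' f := by
    ext x
    obtain ⟨a, rfl⟩ := mk_surjective x
    refine (mk_eq_mk_iff _ _).2 (Eventually.of_forall fun i => ?_)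
    simp only [Pre.map, Pre.app, Option.map_map]
    congr 1
    ext α
    exact NatTrans.naturality_apply (τ i) f α

lemma ultraMap_mk (τ : ∀ i, F i ⟶ G i) {V : C} (a : Pre 𝒰 F V) :
    (ultraMap τ).app V (mk a : (ultra 𝒰 F).obj V) = mk (a.app τ) := rfl

/-- the diagonal map into an ultraproduct -/
def ultraLift {H : C ⥤ Type w} (σ : ∀ i, H ⟶ F i) : H ⟶ ultra 𝒰 F where
  app V := ↾(fun x => (mk (Pre.total fun i => (σ i).app V x) : UObj 𝒰 F V))
  naturality V V' f := by
    ext x
    refine (mk_eq_mk_iff _ _).2 (Eventually.of_forall fun i => ?_)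
    simp only [Pre.total, Pre.map, Option.map_some]
    congr 1
    exact NatTrans.naturality_apply (σ i) f x

lemma ultraLift_app {H : C ⥤ Type w} (σ : ∀ i, H ⟶ F i) {V : C} (x : H.obj V) :
    (ultraLift (𝒰 := 𝒰) σ).app V x = mk (Pre.total fun i => (σ i).app V x) := rfl

end maps

end Groth.Agent.Lib.Helper9.Ultra
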