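import Mathlib
import Groth.Agent.Lib.Helper9Ultra

/-!
# Weakly flat type-valued functors, ultraproducts and sequential colimits (helper9)
-/

set_option autoImplicit false
open CategoryTheory CategoryTheory.Limits Opposite Filter
universe w v u

namespace Groth.Agent.Lib.Helper9.Ultra

variable {C : Type u} [Category.{v} C] [HasFiniteLimits C]

/-- surjectivity form of left exactness -/
structure WeakFlat (Φ : C ⥤ Type w) : Prop where
  nonempty_terminal : Nonempty (Φ.obj (⊤_ C))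
  prod_surj : ∀ (A B : C) (a : Φ.obj A) (b : Φ.obj B),
    ∃ c : Φ.obj (A ⨯ B), Φ.map prod.fst c = a ∧ Φ.map prod.snd c = b
  eq_surj : ∀ {A B : C} (f g : A ⟶ B) (a : Φ.obj A), Φ.map f a = Φ.map g a →
    ∃ c : Φ.obj (equalizer f g), Φ.map (equalizer.ι f g) c = a

lemma WeakFlat.isCofiltered {Φ : C ⥤ Type w} (h : WeakFlat Φ) : IsCofiltered Φ.Elements := by
  obtain ⟨t⟩ := h.nonempty_terminal
  haveI : Nonempty Φ.Elements := ⟨⟨⊤_ C, t⟩⟩
  refine { cone_objs := ?_, cone_maps := ?_ }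
  · rintro ⟨A, a⟩ ⟨B, b⟩
    obtain ⟨c, hca, hcb⟩ := h.prod_surj A B a b
    exact ⟨⟨A ⨯ B, c⟩, ⟨prod.fst, hca⟩, ⟨prod.snd, hcb⟩, trivial⟩
  · rintro ⟨A, a⟩ ⟨B, b⟩ ⟨f, hf⟩ ⟨g, hg⟩
    obtain ⟨c, hc⟩ := h.eq_surj f g a (hf.trans hg.symm)
    refine ⟨⟨equalizer f g, c⟩, ⟨equalizer.ι f g, hc⟩, ?_⟩
    ext
    exact equalizer.condition f g

/-- representable functors are weakly flat -/
lemma weakFlat_coyoneda {C : Type u} [Category.{w} C] [HasFiniteLimits C] (U : C) :
    WeakFlat (coyoneda.obj (op U)) where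
  nonempty_terminal := ⟨terminal.from U⟩
  prod_surj A B a b := ⟨prod.lift (a : U ⟶ A) (b : U ⟶ B), prod.lift_fst _ _, prod.lift_snd _ _⟩
  eq_surj f g a h := ⟨equalizer.lift (a : U ⟶ _) h, equalizer.lift_ι _ _⟩

/-- ultraproducts of weakly flat functors are weakly flat -/
lemma weakFlat_ultra {ι : Type w} (𝒰 : Ultrafilter ι) (F : ι → C ⥤ Type w)
    (h : ∀ i, WeakFlat (F i)) : WeakFlat (ultra 𝒰 F) where
  nonempty_terminal := ⟨mk (Pre.total fun i => (h i).nonempty_terminal.some)⟩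
  prod_surj A B x y := by
    obtain ⟨a, rfl⟩ := mk_surjective x
    obtain ⟨b, rfl⟩ := mk_surjective y
    have hex : ∀ᶠ i in (𝒰 : Filter ι), ∃ c : (F i).obj (A ⨯ B),
        a.val i = some ((F i).map prod.fst c) ∧ b.val i = some ((F i).map prod.snd c) := by
      filter_upwards [a.eventually_eq_some, b.eventually_eq_some] with i ⟨α, hα⟩ ⟨β, hβ⟩
      obtain ⟨c, hc1, hc2⟩ := (h i).prod_surj A B α β
      exact ⟨c, by rw [hα, hc1], by rw [hβ, hc2]⟩
    refine ⟨mk (Pre.ofExists _ hex), ?_, ?_⟩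
    · refine (mk_eq_mk_iff _ _).2 ?_
      filter_upwards [Pre.ofExists_spec _ hex] with i ⟨c, hc, hc1, hc2⟩
      simp [Pre.map, hc, hc1]
    · refine (mk_eq_mk_iff _ _).2 ?_
      filter_upwards [Pre.ofExists_spec _ hex] with i ⟨c, hc, hc1, hc2⟩
      simp [Pre.map, hc, hc2]
  eq_surj {A B} f g x hx := by
    obtain ⟨a, rfl⟩ := mk_surjective x
    have hx' := (mk_eq_mk_iff _ _).1 hx
    have hex : ∀ᶠ i in (𝒰 : Filter ι), ∃ c : (F i).obj (equalizer f g),
        a.val i = some ((F i).map (equalizer.ι f g) c) := by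
      filter_upwards [a.eventually_eq_some, hx'] with i ⟨α, hα⟩ hi
      simp only [Pre.map, hα, Option.map_some, Option.some.injEq] at hi
      obtain ⟨c, hc⟩ := (h i).eq_surj f g α hi
      exact ⟨c, by rw [hα, hc]⟩
    refine ⟨mk (Pre.ofExists _ hex), ?_⟩
    refine (mk_eq_mk_iff _ _).2 ?_
    filter_upwards [Pre.ofExists_spec _ hex] with i ⟨c, hc, hc1⟩
    simp [Pre.map, hc, hc1]

namespace Seq

variable {C : Type u} [Category.{v} C] (Φ : ℕ → C ⥤ Type w) (ι : ∀ k, Φ k ⟶ Φ (k + 1))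

/-- the sequence as a functor -/
noncomputable abbrev D : ℕ ⥤ (C ⥤ Type w) := Functor.ofSequence ι

/-- the colimit functor -/
noncomputable def colim : C ⥤ Type w := colimit (D Φ ι)

/-- the inclusion of the `k`-th stage -/
noncomputable def inj (k : ℕ) : Φ k ⟶ colim Φ ι := colimit.ι (D Φ ι) k

/-- the transition maps -/
noncomputable def push (k m : ℕ) (h : k ≤ m) : Φ k ⟶ Φ m := (D Φ ι).map (homOfLE h)

@[reassoc (attr := simp)]
lemma push_inj (k m : ℕ) (h : k ≤ m) : push Φ ι k m h ≫ inj Φ ι m = inj Φ ι k :=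
  colimit.w (D Φ ι) (homOfLE h)

lemma push_inj_apply (k m : ℕ) (h : k ≤ m) {V : C} (a : (Φ k).obj V) :
    (inj Φ ι m).app V ((push Φ ι k m h).app V a) = (inj Φ ι k).app V a := by
  rw [← push_inj Φ ι k m h]
  rfl

lemma push_succ (k : ℕ) : push Φ ι k (k + 1) (Nat.le_add_right k 1) = ι k :=
  Functor.ofSequence_map_homOfLE_succ ι k

lemma push_refl (k : ℕ) : push Φ ι k k le_rfl = 𝟙 _ := by
  exact (D Φ ι).map_id k

lemma push_trans (k l m : ℕ) (h : k ≤ l) (h' : l ≤ m) :
    push Φ ι k l h ≫ push Φ ι l m h' = push Φ ι k m (h.trans h') := by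
  exact ((D Φ ι).map_comp (homOfLE h) (homOfLE h')).symm

lemma push_succ' (k m : ℕ) (h : k ≤ m) :
    push Φ ι k (m + 1) (h.trans (Nat.le_add_right m 1)) = push Φ ι k m h ≫ ι m := by
  rw [← push_trans Φ ι k m (m + 1) h (Nat.le_add_right m 1), push_succ]

/-- the evaluated colimit cocone -/
noncomputable def isColimitEval (V : C) :
    IsColimit (((evaluation C (Type w)).obj V).mapCocone (colimit.cocone (D Φ ι))) :=
  isColimitOfPreserves _ (colimit.isColimit _)

lemma inj_jointly_surjective {V : C} (x : (colim Φ ι).obj V) :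
    ∃ (k : ℕ) (a : (Φ k).obj V), (inj Φ ι k).app V a = x :=
  Types.jointly_surjective_of_isColimit (isColimitEval Φ ι V) x

lemma inj_eq_iff {V : C} {k l : ℕ} (a : (Φ k).obj V) (b : (Φ l).obj V) :
    (inj Φ ι k).app V a = (inj Φ ι l).app V b ↔
      ∃ (m : ℕ) (hk : k ≤ m) (hl : l ≤ m), (push Φ ι k m hk).app V a = (push Φ ι l m hl).app V b := by
  constructor
  · intro h
    obtain ⟨m, f, g, hfg⟩ := (Types.FilteredColimit.isColimit_eq_iff _ (isColimitEval Φ ι V)).1 h
    exact ⟨m, leOfHom f, leOfHom g, hfg⟩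
  · rintro ⟨m, hk, hl, h⟩
    rw [← push_inj_apply Φ ι k m hk, ← push_inj_apply Φ ι l m hl, h]

/-- a compatible sequence of elements stays compatible under the transition maps -/
lemma push_compat {V : C} (x : ∀ k, (Φ k).obj V) (hx : ∀ k, (ι k).app V (x k) = x (k + 1))
    (k m : ℕ) (h : k ≤ m) : (push Φ ι k m h).app V (x k) = x m := by
  induction m, h using Nat.le_induction with
  | base => rw [push_refl]; rfl
  | succ m h ih =>
    rw [push_succ' Φ ι k m h]
    change (ι m).app V ((push Φ ι k m h).app V (x k)) = _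
    rw [ih, hx]

section WeakFlat

variable [HasFiniteLimits C]

lemma weakFlat_colim (h : ∀ k, WeakFlat (Φ k)) : WeakFlat (colim Φ ι) where
  nonempty_terminal := ⟨(inj Φ ι 0).app _ (h 0).nonempty_terminal.some⟩
  prod_surj A B x y := by
    obtain ⟨k, a, rfl⟩ := inj_jointly_surjective Φ ι x
    obtain ⟨l, b, rfl⟩ := inj_jointly_surjective Φ ι y
    obtain ⟨c, hc1, hc2⟩ := (h (max k l)).prod_surj A B
      ((push Φ ι k (max k l) (le_max_left k l)).app A a)
      ((push Φ ι l (max k l) (le_max_right k l)).app B b)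
    refine ⟨(inj Φ ι (max k l)).app _ c, ?_, ?_⟩
    · rw [← push_inj_apply Φ ι k (max k l) (le_max_left k l), ← hc1]
      exact (NatTrans.naturality_apply (inj Φ ι (max k l)) prod.fst c).symm
    · rw [← push_inj_apply Φ ι l (max k l) (le_max_right k l), ← hc2]
      exact (NatTrans.naturality_apply (inj Φ ι (max k l)) prod.snd c).symm
  eq_surj {A B} f g x hx := by
    obtain ⟨k, a, rfl⟩ := inj_jointly_surjective Φ ι x
    have h1 : (inj Φ ι k).app B ((Φ k).map f a) = (inj Φ ι k).app B ((Φ k).map g a) := by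
      rw [NatTrans.naturality_apply, NatTrans.naturality_apply]
      exact hx
    obtain ⟨m, hk, hl, h2⟩ := (inj_eq_iff Φ ι _ _).1 h1
    have h3 : (Φ m).map f ((push Φ ι k m hk).app A a) = (Φ m).map g ((push Φ ι k m hk).app A a) := by
      rw [← NatTrans.naturality_apply, ← NatTrans.naturality_apply]
      exact h2
    obtain ⟨c, hc⟩ := (h m).eq_surj f g _ h3
    refine ⟨(inj Φ ι m).app _ c, ?_⟩
    rw [← push_inj_apply Φ ι k m hk, ← hc]
    exact (NatTrans.naturality_apply (inj Φ ι m) (equalizer.ι f g) c).symm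

end WeakFlat

end Seq

end Groth.Agent.Lib.Helper9.Ultra
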