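import Mathlib
import Groth.Agent.Lib.Helper9UltraFlat

/-!
# Deligne's completeness theorem: the points (helper9)

For a small site `(C, J)` with finite limits all of whose covering sieves contain a finitely generated
covering sieve, and a non-covering sieve `S` of `X`, we construct a point of the site and an element of
its fibre at `X` which is not in the image of `S`. The fibre functor is an iterated ultraproduct of
representable functors.
-/

set_option autoImplicit false
open CategoryTheory CategoryTheory.Limits Opposite Filter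
universe u

namespace Groth.Agent.Lib.Helper9.Deligne

open Groth.Agent.Lib.Helper9.Ultra

variable {C : Type u} [SmallCategory C] (J : GrothendieckTopology C) {X : C} (S : Sieve X)

/-- an object over `X` is bad if the pullback of `S` does not cover it -/
def Bad (A : Over X) : Prop := S.pullback A.hom ∉ J A.left

/-- bad objects -/
def BadObj : Type u := {A : Over X // Bad J S A}

variable {J S}

/-- refinements of a bad object -/
structure Ref (U : BadObj J S) : Type u where
  obj : BadObj J S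
  hom : obj.1 ⟶ U.1

/-- the refinement relation -/
def Ref.le {U : BadObj J S} (r' r : Ref U) : Prop := ∃ q : r'.obj.1 ⟶ r.obj.1, q ≫ r.hom = r'.hom

/-- the trivial refinement -/
def Ref.id (U : BadObj J S) : Ref U := ⟨U, 𝟙 _⟩

/-- every bad object can be refined into a given covering sieve of the target of a morphism -/
lemma exists_refinement (W : BadObj J S) {V : C} (f : W.1.left ⟶ V) (R : Sieve V) (hR : R ∈ J V) :
    ∃ (Z : BadObj J S) (h : Z.1 ⟶ W.1), R (h.left ≫ f) := by
  by_contra hcon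
  push Not at hcon
  refine W.2 (J.transitive (J.pullback_stable f hR) _ ?_)
  intro Z' h' hh'
  by_contra hbad
  rw [← Sieve.pullback_comp] at hbad
  exact hcon ⟨Over.mk (h' ≫ W.1.hom), hbad⟩ (Over.homMk h' rfl) hh'

/-- dense open sets of refinements -/
def IsDenseOpen {U : BadObj J S} (D : Set (Ref U)) : Prop :=
  (∀ r, ∃ r' ∈ D, r'.le r) ∧ ∀ r ∈ D, ∀ r' : Ref U, r'.le r → r' ∈ D

lemma Ref.le_trans {U : BadObj J S} {r'' r' r : Ref U} (h : r''.le r') (h' : r'.le r) : r''.le r := by
  obtain ⟨q, hq⟩ := h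
  obtain ⟨q', hq'⟩ := h'
  exact ⟨q ≫ q', by rw [Category.assoc, hq', hq]⟩

variable (J S) in
/-- the filter generated by the dense open sets -/
def denseFilter (U : BadObj J S) : Filter (Ref U) where
  sets := {A | ∃ D ⊆ A, IsDenseOpen D}
  univ_sets := ⟨Set.univ, subset_rfl, fun r => ⟨r, trivial, 𝟙 _, Category.id_comp _⟩, fun _ _ _ _ => trivial⟩
  sets_of_superset := by
    rintro A B ⟨D, hD, hD'⟩ hAB
    exact ⟨D, hD.trans hAB, hD'⟩
  inter_sets := by
    rintro A B ⟨D, hD, hD1, hD2⟩ ⟨E, hE, hE1, hE2⟩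
    refine ⟨D ∩ E, Set.inter_subset_inter hD hE, ?_, ?_⟩
    · intro r
      obtain ⟨r1, hr1, hle1⟩ := hD1 r
      obtain ⟨r2, hr2, hle2⟩ := hE1 r1
      exact ⟨r2, ⟨hD2 r1 hr1 r2 hle2, hr2⟩, Ref.le_trans hle2 hle1⟩
    · rintro r ⟨hr1, hr2⟩ r' hle
      exact ⟨hD2 r hr1 r' hle, hE2 r hr2 r' hle⟩

instance (U : BadObj J S) : (denseFilter J S U).NeBot := by
  rw [Filter.neBot_iff]
  intro h
  have h' : (∅ : Set (Ref U)) ∈ denseFilter J S U := by rw [h]; trivial
  obtain ⟨D, hD, hD1, -⟩ := h'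
  obtain ⟨r, hr, -⟩ := hD1 (Ref.id U)
  exact hD hr

variable (J S) in
/-- a generic ultrafilter of refinements -/
noncomputable def gen (U : BadObj J S) : Ultrafilter (Ref U) := Ultrafilter.of (denseFilter J S U)

lemma eventually_of_isDenseOpen {U : BadObj J S} {D : Set (Ref U)} (hD : IsDenseOpen D) :
    ∀ᶠ r in (gen J S U : Filter (Ref U)), r ∈ D :=
  Ultrafilter.of_le (denseFilter J S U) ⟨D, subset_rfl, hD⟩

/-- the refinements solving a lifting problem form a dense open set -/
lemma isDenseOpen_solves {U : BadObj J S} {V : C} (f : U.1.left ⟶ V) {n : ℕ} (Y : Fin n → C)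
    (g : ∀ j, Y j ⟶ V) (cov : Sieve.ofArrows Y g ∈ J V) :
    IsDenseOpen {r : Ref U | ∃ (j : Fin n) (ℓ : r.obj.1.left ⟶ Y j), ℓ ≫ g j = r.hom.left ≫ f} := by
  constructor
  · intro r
    obtain ⟨Z, h, hh⟩ := exists_refinement r.obj (r.hom.left ≫ f) _ cov
    rw [Sieve.mem_ofArrows_iff] at hh
    obtain ⟨j, ℓ, hℓ⟩ := hh
    refine ⟨⟨Z, h ≫ r.hom⟩, ⟨j, ℓ, ?_⟩, h, rfl⟩
    rw [← hℓ]
    simp
  · rintro r ⟨j, ℓ, hℓ⟩ r' ⟨q, hq⟩
    refine ⟨j, q.left ≫ ℓ, ?_⟩
    rw [Category.assoc, hℓ, ← hq]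
    simp

end Groth.Agent.Lib.Helper9.Deligne
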