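import Mathlib
import Groth.Agent.Lib.Helper9DeligneGen

/-!
# Deligne's completeness theorem (helper9)

The fibre functors are iterated ultraproducts of representable functors.
-/

set_option autoImplicit false
open CategoryTheory CategoryTheory.Limits Opposite Filter
universe u

namespace Groth.Agent.Lib.Helper9.Deligne

open Groth.Agent.Lib.Helper9.Ultra

variable {C : Type u} [SmallCategory C] (J : GrothendieckTopology C) {X : C} (S : Sieve X)

/-- the stages of the fibre functor -/
noncomputable def Φ : ℕ → BadObj J S → (C ⥤ Type u)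
  | 0, U => coyoneda.obj (op U.1.left)
  | k + 1, U => ultra (gen J S U) (fun r : Ref U => Φ k r.obj)

lemma Φ_zero (U : BadObj J S) : Φ J S 0 U = coyoneda.obj (op U.1.left) := rfl

lemma Φ_succ (k : ℕ) (U : BadObj J S) :
    Φ J S (k + 1) U = ultra (gen J S U) (fun r : Ref U => Φ J S k r.obj) := rfl

/-- the transition maps -/
noncomputable def tr : ∀ (k : ℕ) (U : BadObj J S), Φ J S k U ⟶ Φ J S (k + 1) U
  | 0, U => ultraLift (𝒰 := gen J S U) (F := fun r : Ref U => Φ J S 0 r.obj)
      (H := coyoneda.obj (op U.1.left)) (fun r => coyoneda.map r.hom.left.op)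
  | k + 1, U => ultraMap (𝒰 := gen J S U) (fun r : Ref U => tr k r.obj)

/-- the marked elements -/
noncomputable def pt : ∀ (k : ℕ) (U : BadObj J S), (Φ J S k U).obj X
  | 0, U => U.1.hom
  | k + 1, U => (mk (Pre.total fun r : Ref U => pt k r.obj) :
      (ultra (gen J S U) (fun r : Ref U => Φ J S k r.obj)).obj X)

lemma tr_pt : ∀ (k : ℕ) (U : BadObj J S), (tr J S k U).app X (pt J S k U) = pt J S (k + 1) U
  | 0, U => by
    refine (mk_eq_mk_iff _ _).2 (Eventually.of_forall fun r => ?_)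
    change some (r.hom.left ≫ U.1.hom) = some r.obj.1.hom
    rw [Over.w r.hom]
  | k + 1, U => by
    refine (mk_eq_mk_iff _ _).2 (Eventually.of_forall fun r => ?_)
    change some ((tr J S k r.obj).app X (pt J S k r.obj)) = some (pt J S (k + 1) r.obj)
    rw [tr_pt k r.obj]

/-- the marked element is not in the image of `S` -/
lemma pt_not_mem : ∀ (k : ℕ) (U : BadObj J S) {Y : C} (g : Y ⟶ X) (_ : S g) (y : (Φ J S k U).obj Y),
    (Φ J S k U).map g y ≠ pt J S k U
  | 0, U, Y, g, hg, y => by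
    intro h
    have h' : (y : U.1.left ⟶ Y) ≫ g = U.1.hom := h
    refine U.2 ?_
    have : S.pullback U.1.hom = ⊤ := by
      rw [← Sieve.id_mem_iff_eq_top]
      change S (𝟙 _ ≫ U.1.hom)
      rw [Category.id_comp, ← h']
      exact S.downward_closed hg _
    rw [this]
    exact J.top_mem _
  | k + 1, U, Y, g, hg, y => by
    intro h
    obtain ⟨a, rfl⟩ := mk_surjective (𝒰 := gen J S U) (F := fun r : Ref U => Φ J S k r.obj) y
    have h1 := (mk_eq_mk_iff _ _).1 h
    obtain ⟨r, hr, α, hα⟩ := (h1.and a.eventually_eq_some).exists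
    simp only [Pre.map, Pre.total, hα, Option.map_some, Option.some.injEq] at hr
    exact pt_not_mem k r.obj g hg α hr

/-- every lifting problem against a finite covering family is solved at the next stage -/
lemma solved : ∀ (k : ℕ) (U : BadObj J S) {V : C} (v : (Φ J S k U).obj V) {n : ℕ} (Y : Fin n → C)
    (g : ∀ j, Y j ⟶ V) (_ : Sieve.ofArrows Y g ∈ J V),
    ∃ (j : Fin n) (ℓ : (Φ J S (k + 1) U).obj (Y j)),
      (Φ J S (k + 1) U).map (g j) ℓ = (tr J S k U).app V v
  | 0, U, V, v, n, Y, g, cov => by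
    have h1 := eventually_of_isDenseOpen (isDenseOpen_solves (v : U.1.left ⟶ V) Y g cov)
    simp only [Set.mem_ofPred_eq] at h1
    obtain ⟨j, hj⟩ := (Ultrafilter.eventually_exists_iff (f := gen J S U)).1 h1
    have hex : ∀ᶠ r in (gen J S U : Filter (Ref U)), ∃ ℓ : (Φ J S 0 r.obj).obj (Y j),
        (ℓ : r.obj.1.left ⟶ Y j) ≫ g j = r.hom.left ≫ (v : U.1.left ⟶ V) := hj
    refine ⟨j, (mk (Pre.ofExists _ hex) :
      (ultra (gen J S U) (fun r : Ref U => Φ J S 0 r.obj)).obj (Y j)), ?_⟩
    refine (mk_eq_mk_iff _ _).2 ?_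
    filter_upwards [Pre.ofExists_spec _ hex] with r ⟨ℓ, hℓ, hℓ'⟩
    simp only [Pre.map, hℓ, Option.map_some, Pre.total]
    exact congrArg some hℓ'
  | k + 1, U, V, v, n, Y, g, cov => by
    obtain ⟨a, rfl⟩ := mk_surjective (𝒰 := gen J S U) (F := fun r : Ref U => Φ J S k r.obj) v
    have h1 : ∀ᶠ r in (gen J S U : Filter (Ref U)), ∃ (j : Fin n),
        ∃ ℓ : (Φ J S (k + 1) r.obj).obj (Y j), ∃ α, a.val r = some α ∧
          (Φ J S (k + 1) r.obj).map (g j) ℓ = (tr J S k r.obj).app V α := by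
      filter_upwards [a.eventually_eq_some] with r ⟨α, hα⟩
      obtain ⟨j, ℓ, hℓ⟩ := solved k r.obj α Y g cov
      exact ⟨j, ℓ, α, hα, hℓ⟩
    obtain ⟨j, hex⟩ := (Ultrafilter.eventually_exists_iff (f := gen J S U)).1 h1
    refine ⟨j, (mk (Pre.ofExists _ hex) :
      (ultra (gen J S U) (fun r : Ref U => Φ J S (k + 1) r.obj)).obj (Y j)), ?_⟩
    refine (mk_eq_mk_iff _ _).2 ?_
    filter_upwards [Pre.ofExists_spec _ hex] with r ⟨ℓ, hℓ, α, hα, hℓ'⟩
    simp only [Pre.map, Pre.app, hℓ, hα, Option.map_some]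
    exact congrArg some hℓ'

variable [HasFiniteLimits C]

lemma weakFlat_Φ : ∀ (k : ℕ) (U : BadObj J S), WeakFlat (Φ J S k U)
  | 0, U => weakFlat_coyoneda _
  | k + 1, U => weakFlat_ultra _ _ (fun r => weakFlat_Φ k r.obj)

variable (hJ : ∀ (U : C) (R : Sieve U), R ∈ J U →
  ∃ (n : ℕ) (V : Fin n → C) (g : ∀ k, V k ⟶ U), (∀ k, R (g k)) ∧ Sieve.ofArrows V g ∈ J U)

/-- the fibre functor -/
noncomputable def fib (U : BadObj J S) : C ⥤ Type u :=
  Seq.colim (fun k => Φ J S k U) (fun k => tr J S k U)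

/-- the stage inclusions -/
noncomputable def inj (U : BadObj J S) (k : ℕ) : Φ J S k U ⟶ fib J S U :=
  Seq.inj (fun k => Φ J S k U) (fun k => tr J S k U) k

lemma inj_tr (U : BadObj J S) (k : ℕ) {V : C} (v : (Φ J S k U).obj V) :
    (inj J S U (k + 1)).app V ((tr J S k U).app V v) = (inj J S U k).app V v := by
  have h := Seq.push_inj_apply (fun k => Φ J S k U) (fun k => tr J S k U) k (k + 1)
    (Nat.le_add_right k 1) v
  rw [Seq.push_succ] at h
  exact h

include hJ in
lemma fib_jointly_surjective (U : BadObj J S) {V : C} (R : Sieve V) (hR : R ∈ J V)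
    (x : (fib J S U).obj V) :
    ∃ (Y : C) (f : Y ⟶ V) (_ : R f) (y : (fib J S U).obj Y), (fib J S U).map f y = x := by
  obtain ⟨n, Y, g, hg, cov⟩ := hJ V R hR
  obtain ⟨k, v, rfl⟩ := Seq.inj_jointly_surjective _ _ x
  obtain ⟨j, ℓ, hℓ⟩ := solved J S k U v Y g cov
  refine ⟨Y j, g j, hg j, (inj J S U (k + 1)).app _ ℓ, ?_⟩
  have h1 := NatTrans.naturality_apply (inj J S U (k + 1)) (g j) ℓ
  rw [hℓ, inj_tr] at h1
  exact h1.symm

/-- the point attached to a bad object -/
noncomputable def point (U : BadObj J S) : GrothendieckTopology.Point.{u} J where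
  fiber := fib J S U
  isCofiltered := (Seq.weakFlat_colim _ _ (fun k => weakFlat_Φ J S k U)).isCofiltered
  initiallySmall := initiallySmall_of_essentiallySmall _
  jointly_surjective R hR x := fib_jointly_surjective J S hJ U R hR x

lemma point_not_mem (U : BadObj J S) {Y : C} (g : Y ⟶ X) (hg : S g) (y : (fib J S U).obj Y) :
    (fib J S U).map g y ≠ (inj J S U 0).app X (pt J S 0 U) := by
  intro h
  obtain ⟨l, y', rfl⟩ := Seq.inj_jointly_surjective _ _ y
  have h1 := (NatTrans.naturality_apply (inj J S U l) g y').trans h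
  obtain ⟨m, hl, h0, hm⟩ := (Seq.inj_eq_iff _ _ _ _).1 h1
  rw [Seq.push_compat _ _ (fun k => pt J S k U) (fun k => tr_pt J S k U) 0 m h0] at hm
  refine pt_not_mem J S m U g hg
    ((Seq.push (fun k => Φ J S k U) (fun k => tr J S k U) l m hl).app Y y') ?_
  rw [← hm]
  exact (NatTrans.naturality_apply (Seq.push (fun k => Φ J S k U) (fun k => tr J S k U) l m hl)
    g y').symm

include hJ in
/-- **Deligne's completeness theorem**: a small site with finite limits whose covering sieves contain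
finitely generated covering sieves has enough points -/
theorem hasEnoughPoints : GrothendieckTopology.HasEnoughPoints.{u} J := by
  classical
  let P : ObjectProperty (GrothendieckTopology.Point.{u} J) :=
    fun Ψ => ∃ (X : C) (S : Sieve X) (U : BadObj J S), Ψ = point J S hJ U
  refine ⟨⟨P, ?_, ?_⟩⟩
  · let f : (Σ (X : C) (S : Sieve X), BadObj J S) → Subtype P :=
      fun t => ⟨point J t.2.1 hJ t.2.2, ⟨_, _, _, rfl⟩⟩
    have hf : Function.Surjective f := by
      rintro ⟨_, X, S, U, rfl⟩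
      exact ⟨⟨X, S, U⟩, rfl⟩
    exact small_of_surjective hf
  · refine ObjectProperty.IsConservativeFamilyOfPoints.mk' (fun X S hS => ?_)
    by_contra hcov
    have hbad : Bad J S (Over.mk (𝟙 X)) := by
      unfold Bad
      simpa using hcov
    obtain ⟨Y, g, hg, y, hy⟩ := hS ⟨point J S hJ ⟨_, hbad⟩, ⟨X, S, _, rfl⟩⟩
      ((inj J S ⟨_, hbad⟩ 0).app X (pt J S 0 ⟨_, hbad⟩))
    exact point_not_mem J S _ g hg y hy

end Groth.Agent.Lib.Helper9.Deligne
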