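import Mathlib
import Groth.Agent.Lib.Helper9Deligne

/-!
# Enough points: transfer along a jointly dense family of cocontinuous functors (helper9)
-/

set_option autoImplicit false
open CategoryTheory CategoryTheory.Limits Opposite
universe w v' u'

namespace Groth.Agent.Lib.Helper9.Deligne

/-- a site has points avoiding non-covering sieves -/
def HasAvoidingPoints {C : Type w} [SmallCategory C] (J : GrothendieckTopology C) : Prop :=
  ∀ ⦃X : C⦄ (S : Sieve X), S ∉ J X →
    ∃ (Φ : GrothendieckTopology.Point.{w} J) (x : Φ.fiber.obj X),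
      ∀ ⦃Y : C⦄ (g : Y ⟶ X), S g → ∀ y : Φ.fiber.obj Y, Φ.fiber.map g y ≠ x

theorem hasAvoidingPoints {C : Type w} [SmallCategory C] [HasFiniteLimits C]
    (J : GrothendieckTopology C)
    (hJ : ∀ (U : C) (R : Sieve U), R ∈ J U →
      ∃ (n : ℕ) (V : Fin n → C) (g : ∀ k, V k ⟶ U), (∀ k, R (g k)) ∧ Sieve.ofArrows V g ∈ J U) :
    HasAvoidingPoints J := by
  intro X S hS
  have hbad : Bad J S (Over.mk (𝟙 X)) := by
    unfold Bad
    simpa using hS
  exact ⟨point J S hJ ⟨_, hbad⟩, (inj J S ⟨_, hbad⟩ 0).app X (pt J S 0 ⟨_, hbad⟩),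
    fun Y g hg y => point_not_mem J S _ g hg y⟩

section Transfer

variable {D : Type u'} [Category.{v'} D] (K : GrothendieckTopology D) [LocallySmall.{w} D]
  [HasSheafify K (Type w)]
  {I : Type w} (C : I → Type w) [∀ i, SmallCategory (C i)] (J : ∀ i, GrothendieckTopology (C i))
  (F : ∀ i, C i ⥤ D) [∀ i, (F i).IsCocontinuous (J i) K]

open GrothendieckTopology.Point in
theorem hasEnoughPoints_of_family
    (hcp : ∀ (i : I) ⦃W : C i⦄ (T : Sieve W), T ∈ J i W → T.functorPushforward (F i) ∈ K ((F i).obj W))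
    (hdense : ∀ V : D, Sieve.generate (fun Z (f : Z ⟶ V) => ∃ (i : I) (W : C i) (e : Z = (F i).obj W), True) ∈ K V)
    (hpts : ∀ i, HasAvoidingPoints (J i)) :
    GrothendieckTopology.HasEnoughPoints.{w} K := by
  classical
  choose Φ x hx using hpts
  -- the index type of the family
  let Idx : Type w := Σ (i : I) (W : C i), {T : Sieve W // T ∉ J i W}
  let Ψ : Idx → GrothendieckTopology.Point.{w} K := fun t =>
    (Φ t.1 t.2.2.1 t.2.2.2).map (F t.1) K
  let P : ObjectProperty (GrothendieckTopology.Point.{w} K) := fun Θ => ∃ t : Idx, Θ = Ψ t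
  refine ⟨⟨P, ?_, ?_⟩⟩
  · let f : Idx → Subtype P := fun t => ⟨Ψ t, t, rfl⟩
    have hf : Function.Surjective f := by
      rintro ⟨_, t, rfl⟩
      exact ⟨t, rfl⟩
    exact small_of_surjective hf
  · refine ObjectProperty.IsConservativeFamilyOfPoints.mk' (fun V T hT => ?_)
    refine K.transitive (hdense V) T ?_
    rintro Z f ⟨Z', g, f₀, ⟨i, W, rfl, -⟩, rfl⟩
    rw [Sieve.pullback_comp]
    refine K.pullback_stable g ?_
    -- the sieve of arrows of `C i` mapping into `T`
    let T₀ : Sieve W :=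
      { arrows := fun W' h => T ((F i).map h ≫ f₀)
        downward_closed := by
          intro W' W'' h hh q
          change T ((F i).map (q ≫ h) ≫ f₀)
          rw [Functor.map_comp, Category.assoc]
          exact T.downward_closed hh _ }
    have hT₀ : T₀ ∈ J i W := by
      by_contra hcon
      let t : Idx := ⟨i, W, T₀, hcon⟩
      let Φ₀ := Φ i T₀ hcon
      let x₀ : Φ₀.fiber.obj W := x i T₀ hcon
      let p : Φ₀.fiber.Elements ⥤ D := CategoryOfElements.π Φ₀.fiber ⋙ F i
      -- the element of the fibre of `Ψ t` at `V`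
      let e₀ : Φ₀.fiber.Elements := Φ₀.fiber.elementsMk W x₀
      obtain ⟨Y, g', hg', y, hy⟩ := hT ⟨Ψ t, t, rfl⟩
        (ofIsCofiltered.fiberMk (p := p) (U := e₀) f₀)
      obtain ⟨e', ℓ, rfl⟩ := ofIsCofiltered.fiberMk_jointly_surjective (p := p) y
      have hy' : ofIsCofiltered.fiberMk (p := p) (ℓ ≫ g') =
          ofIsCofiltered.fiberMk (p := p) (U := e₀) f₀ :=
        (ofIsCofiltered.fiber_map_fiberMk p ℓ g').symm.trans hy
      -- pass to a common refinement
      let m := IsCofiltered.min e' e₀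
      let a : m ⟶ e' := IsCofiltered.minToLeft _ _
      let b : m ⟶ e₀ := IsCofiltered.minToRight _ _
      rw [← ofIsCofiltered.fiberMk_map_comp (p := p) a,
        ← ofIsCofiltered.fiberMk_map_comp (p := p) b f₀] at hy'
      obtain ⟨m', c, hc⟩ := ofIsCofiltered.exists_of_fiberMk_eq_fiberMk hy'
      refine hx i T₀ hcon (c ≫ b).1 ?_ m'.2 (c ≫ b).2
      change T ((F i).map (c ≫ b).1 ≫ f₀)
      have h1 : (F i).map (c ≫ b).1 ≫ f₀ = (F i).map c.1 ≫ (F i).map a.1 ≫ ℓ ≫ g' := by
        have h2 := hc.symm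
        simp only [p, Functor.comp_map, CategoryOfElements.π_map] at h2
        simp only [CategoryOfElements.comp_val, Functor.map_comp, Category.assoc]
        exact h2
      rw [h1]
      exact T.downward_closed (T.downward_closed (T.downward_closed hg' ℓ) _) _
    refine K.superset_covering ?_ (hcp i T₀ hT₀)
    rintro Z'' q ⟨W', h, q', hh, rfl⟩
    change T ((q' ≫ (F i).map h) ≫ f₀)
    rw [Category.assoc]
    exact T.downward_closed hh _

end Transfer

end Groth.Agent.Lib.Helper9.Deligne
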