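import Mathlib
import Groth.Prelude.Def_DeltaF

/-!
# Isomorphism criteria for morphisms of `ℕ`-indexed delta-functors with values in abelian groups (helper9)
-/

set_option autoImplicit false
universe w v u
open CategoryTheory CategoryTheory.Limits DeltaF

namespace Groth.Agent.Lib.Helper9.DeltaIso

variable {C : Type u} [Category.{v} C] [Abelian C]

/-- The short complex `X ⟶ Y ⟶ coker u`. -/
noncomputable abbrev ses {X Y : C} (u : X ⟶ Y) : ShortComplex C := ShortComplex.cokernelSequence u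

lemma ses_shortExact {X Y : C} (u : X ⟶ Y) [Mono u] : (ses u).ShortExact where
  exact := ShortComplex.cokernelSequence_exact u
  mono_f := (inferInstance : Mono u)
  epi_g := (inferInstance : Epi (cokernel.π u))

section

variable (T : CohDeltaFunctor C AddCommGrpCat.{w} ℕ)

/-- The connecting map of the cokernel sequence of a mono. -/
noncomputable def dl {X Y : C} (u : X ⟶ Y) [Mono u] (n : ℕ) :
    (T.F n).obj (cokernel u) ⟶ (T.F (n + 1)).obj X :=
  T.δ (ses u) (ses_shortExact u) n (n + 1) rfl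

lemma e2 {X Y : C} (u : X ⟶ Y) [Mono u] (n : ℕ) (x : (T.F n).obj Y)
    (hx : (T.F n).map (cokernel.π u) x = 0) : ∃ a : (T.F n).obj X, (T.F n).map u a = x :=
  (ShortComplex.ab_exact_iff _).1 (T.exact₂ (ses u) (ses_shortExact u) n) x hx

lemma e3 {X Y : C} (u : X ⟶ Y) [Mono u] (n : ℕ) (y : (T.F n).obj (cokernel u))
    (hy : dl T u n y = 0) : ∃ x : (T.F n).obj Y, (T.F n).map (cokernel.π u) x = y :=
  (ShortComplex.ab_exact_iff _).1 (T.exact₃ (ses u) (ses_shortExact u) n (n + 1) rfl) y hy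

lemma e1 {X Y : C} (u : X ⟶ Y) [Mono u] (n : ℕ) (a : (T.F (n + 1)).obj X)
    (ha : (T.F (n + 1)).map u a = 0) : ∃ y : (T.F n).obj (cokernel u), dl T u n y = a :=
  (ShortComplex.ab_exact_iff _).1 (T.exact₁ (ses u) (ses_shortExact u) n (n + 1) rfl) a ha

lemma c3 {X Y : C} (u : X ⟶ Y) [Mono u] (n : ℕ) (x : (T.F n).obj Y) :
    dl T u n ((T.F n).map (cokernel.π u) x) = 0 :=
  ConcreteCategory.congr_hom (T.comp_δ (ses u) (ses_shortExact u) n (n + 1) rfl) x

lemma c1 {X Y : C} (u : X ⟶ Y) [Mono u] (n : ℕ) (y : (T.F n).obj (cokernel u)) :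
    (T.F (n + 1)).map u (dl T u n y) = 0 :=
  ConcreteCategory.congr_hom (T.δ_comp (ses u) (ses_shortExact u) n (n + 1) rfl) y

lemma c2 {X Y : C} (u : X ⟶ Y) (n : ℕ) (a : (T.F n).obj X) :
    (T.F n).map (cokernel.π u) ((T.F n).map u a) = 0 := by
  have h : (T.F n).map u ≫ (T.F n).map (cokernel.π u) = 0 := by
    rw [← Functor.map_comp, cokernel.condition, Functor.map_zero]
  exact ConcreteCategory.congr_hom h a

lemma inj_of_zeroMono (hT0 : T.ZeroMono) {X Y : C} (u : X ⟶ Y) [Mono u] :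
    Function.Injective ((T.F 0).map u) :=
  (AddCommGrpCat.mono_iff_injective _).1 (hT0 (ses u) (ses_shortExact u))

end

variable {T T' : CohDeltaFunctor C AddCommGrpCat.{w} ℕ} (φ : T ⟶ T')

lemma app_dl {X Y : C} (u : X ⟶ Y) [Mono u] (n : ℕ) (y : (T.F n).obj (cokernel u)) :
    (φ.app (n + 1)).app X (dl T u n y) = dl T' u n ((φ.app n).app (cokernel u) y) :=
  ConcreteCategory.congr_hom (φ.comm (ses u) (ses_shortExact u) n (n + 1) rfl) y

lemma app_nat {X Y : C} (u : X ⟶ Y) (n : ℕ) (a : (T.F n).obj X) :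
    (φ.app n).app Y ((T.F n).map u a) = (T'.F n).map u ((φ.app n).app X a) :=
  ConcreteCategory.congr_hom ((φ.app n).naturality u) a

/-- Injectivity in degree `q + 1` from bijectivity in degree `q` and elementwise effaceability of the source. -/
lemma inj_step
    (hT : ∀ (q : ℕ) (A : C) (α : (T.F (q + 1)).obj A),
      ∃ (M : C) (u : A ⟶ M), Mono u ∧ (T.F (q + 1)).map u α = 0)
    (q : ℕ) (hq : ∀ A, Function.Bijective ((φ.app q).app A)) (A : C) :
    Function.Injective ((φ.app (q + 1)).app A) := by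
  rw [injective_iff_map_eq_zero]
  intro α hα
  obtain ⟨M, u, hu, hα0⟩ := hT q A α
  obtain ⟨β, rfl⟩ := e1 T u q α hα0
  rw [app_dl] at hα
  obtain ⟨μ', hμ'⟩ := e3 T' u q _ hα
  obtain ⟨μ, rfl⟩ := (hq M).2 μ'
  rw [← app_nat] at hμ'
  have := (hq _).1 hμ'
  rw [← this]
  exact c3 T u q μ

/-- Surjectivity in degree `q + 1` from elementwise effaceability of the target. -/
lemma surj_step_eff
    (hT' : ∀ (q : ℕ) (A : C) (α : (T'.F (q + 1)).obj A),
      ∃ (M : C) (u : A ⟶ M), Mono u ∧ (T'.F (q + 1)).map u α = 0)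
    (q : ℕ) (hq : ∀ A, Function.Bijective ((φ.app q).app A)) (A : C) :
    Function.Surjective ((φ.app (q + 1)).app A) := by
  intro α'
  obtain ⟨M, u, hu, hα0⟩ := hT' q A α'
  obtain ⟨β', rfl⟩ := e1 T' u q α' hα0
  obtain ⟨β, rfl⟩ := (hq _).2 β'
  exact ⟨dl T u q β, app_dl φ u q β⟩

/-- Surjectivity in degree `q + 1` from a class `E` of objects. -/
lemma surj_step_E (E : ObjectProperty C) (hE : ∀ A : C, ∃ (M : C) (i : A ⟶ M), Mono i ∧ E M)
    (q : ℕ) (hq : ∀ A, Function.Bijective ((φ.app q).app A))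
    (hinj : ∀ A, Function.Injective ((φ.app (q + 1)).app A))
    (hsurjE : ∀ M, E M → Function.Surjective ((φ.app (q + 1)).app M)) (A : C) :
    Function.Surjective ((φ.app (q + 1)).app A) := by
  intro α'
  obtain ⟨M, u, hu, hM⟩ := hE A
  obtain ⟨μ, hμ⟩ := hsurjE M hM ((T'.F (q + 1)).map u α')
  have h1 : (φ.app (q + 1)).app _ ((T.F (q + 1)).map (cokernel.π u) μ) = 0 := by
    rw [app_nat, hμ]
    exact c2 T' u (q + 1) α'
  have h2 : (T.F (q + 1)).map (cokernel.π u) μ = 0 := by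
    apply hinj
    rw [h1, map_zero]
  obtain ⟨α, rfl⟩ := e2 T u (q + 1) μ h2
  rw [app_nat] at hμ
  have h3 : (T'.F (q + 1)).map u ((φ.app (q + 1)).app A α - α') = 0 := by
    rw [map_sub, hμ, sub_self]
  obtain ⟨β', hβ'⟩ := e1 T' u q _ h3
  obtain ⟨β, rfl⟩ := (hq _).2 β'
  refine ⟨α - dl T u q β, ?_⟩
  rw [map_sub, app_dl, hβ']
  abel

/-- Bijectivity in degree `0` from bijectivity on a class `E`. -/
lemma zero_step (hT0 : T.ZeroMono) (hT'0 : T'.ZeroMono)
    (E : ObjectProperty C) (hE : ∀ A : C, ∃ (M : C) (i : A ⟶ M), Mono i ∧ E M)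
    (h0 : ∀ M, E M → Function.Bijective ((φ.app 0).app M)) (A : C) :
    Function.Bijective ((φ.app 0).app A) := by
  have hinj : ∀ A, Function.Injective ((φ.app 0).app A) := by
    intro A
    obtain ⟨M, u, hu, hM⟩ := hE A
    have : Function.Injective (fun a => (φ.app 0).app M ((T.F 0).map u a)) :=
      (h0 M hM).1.comp (inj_of_zeroMono T hT0 u)
    intro a b hab
    apply this
    change (φ.app 0).app M ((T.F 0).map u a) = (φ.app 0).app M ((T.F 0).map u b)
    rw [app_nat, app_nat, hab]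
  refine ⟨hinj A, ?_⟩
  intro α'
  obtain ⟨M, u, hu, hM⟩ := hE A
  obtain ⟨μ, hμ⟩ := (h0 M hM).2 ((T'.F 0).map u α')
  have h1 : (φ.app 0).app _ ((T.F 0).map (cokernel.π u) μ) = 0 := by
    rw [app_nat, hμ]
    exact c2 T' u 0 α'
  have h2 : (T.F 0).map (cokernel.π u) μ = 0 := by
    apply hinj
    rw [h1, map_zero]
  obtain ⟨α, rfl⟩ := e2 T u 0 μ h2
  rw [app_nat] at hμ
  exact ⟨α, inj_of_zeroMono T' hT'0 u hμ⟩

end Groth.Agent.Lib.Helper9.DeltaIso
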