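import Mathlib
import Groth.Prelude.Def_DeltaF
import Groth.Agent.Lib.Helper9DeltaIso

/-!
# Filtered colimits in `AddCommGrpCat.{w}` indexed by categories in another universe, and delta-functor
isomorphism criteria through filtered colimits (helper9)
-/

set_option autoImplicit false
universe w v u
open CategoryTheory CategoryTheory.Limits DeltaF

namespace Groth.Agent.Lib.Helper9.DeltaIso

section Colim

variable {J : Type v} [Category.{v} J] [IsFiltered J]

lemma colim_rep (F : J ⥤ AddCommGrpCat.{w}) (c : Cocone F) (hc : IsColimit c) (x : c.pt) :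
    ∃ (j : J) (y : F.obj j), c.ι.app j y = x := by
  let U := AddCommGrpCat.uliftFunctor.{v, w}
  have hc' : IsColimit (U.mapCocone c) := isColimitOfPreserves U hc
  haveI : PreservesFilteredColimitsOfSize.{v, v} (forget AddCommGrpCat.{max w v}) :=
    preservesFilteredColimitsOfSize_shrink.{v, max w v, v, max w v} _
  obtain ⟨j, y, hy⟩ := Concrete.isColimit_exists_rep (F ⋙ U) hc' (ULift.up x)
  exact ⟨j, y.down, congrArg ULift.down hy⟩

lemma colim_zero (F : J ⥤ AddCommGrpCat.{w}) (c : Cocone F) (hc : IsColimit c) (j : J) (y : F.obj j)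
    (h : c.ι.app j y = 0) : ∃ (k : J) (f : j ⟶ k), F.map f y = 0 := by
  let U := AddCommGrpCat.uliftFunctor.{v, w}
  have hc' : IsColimit (U.mapCocone c) := isColimitOfPreserves U hc
  haveI : PreservesFilteredColimitsOfSize.{v, v} (forget AddCommGrpCat.{max w v}) :=
    preservesFilteredColimitsOfSize_shrink.{v, max w v, v, max w v} _
  have h' : (U.mapCocone c).ι.app j (ULift.up y) = (U.mapCocone c).ι.app j (ULift.up 0) := by
    apply ULift.ext
    change c.ι.app j y = c.ι.app j 0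
    rw [h, map_zero]
  obtain ⟨k, f, g, hfg⟩ := Concrete.isColimit_exists_of_rep_eq (F ⋙ U) hc' (ULift.up y) (ULift.up 0) h'
  refine ⟨k, f, ?_⟩
  have := congrArg ULift.down hfg
  change F.map f y = F.map g 0 at this
  rw [this, map_zero]

variable {F G : J ⥤ AddCommGrpCat.{w}} (ψ : F ⟶ G) {cF : Cocone F} (hF : IsColimit cF) {cG : Cocone G}
  (hG : IsColimit cG) (f : cF.pt ⟶ cG.pt) (hf : ∀ j, cF.ι.app j ≫ f = ψ.app j ≫ cG.ι.app j)

include hF hG hf

lemma inj_of_colim (hψ : ∀ j, Function.Injective (ψ.app j)) : Function.Injective f := by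
  rw [injective_iff_map_eq_zero]
  intro x hx
  obtain ⟨j, y, rfl⟩ := colim_rep F cF hF x
  have h1 : cG.ι.app j (ψ.app j y) = 0 := by
    rw [← hx]
    exact (ConcreteCategory.congr_hom (hf j) y).symm
  obtain ⟨k, g, hg⟩ := colim_zero G cG hG j _ h1
  have h2 : ψ.app k (F.map g y) = 0 := by
    rw [← hg]
    exact ConcreteCategory.congr_hom (ψ.naturality g) y
  have h3 : F.map g y = 0 := by
    apply hψ k
    rw [h2, map_zero]
  have h4 : cF.ι.app j y = cF.ι.app k (F.map g y) :=
    (ConcreteCategory.congr_hom (cF.w g) y).symm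
  rw [h4, h3, map_zero]

omit hF in
lemma surj_of_colim (hψ : ∀ j, Function.Surjective (ψ.app j)) : Function.Surjective f := by
  intro x
  obtain ⟨j, y, rfl⟩ := colim_rep G cG hG x
  obtain ⟨z, rfl⟩ := hψ j y
  exact ⟨cF.ι.app j z, ConcreteCategory.congr_hom (hf j) z⟩

end Colim

variable {C : Type u} [Category.{v} C] [Abelian C]
variable {T T' : CohDeltaFunctor C AddCommGrpCat.{w} ℕ} (φ : T ⟶ T')

lemma inj_elem (q : ℕ) (hq : ∀ A, Function.Bijective ((φ.app q).app A)) {A M : C} (u : A ⟶ M) [Mono u]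
    (α : (T.F (q + 1)).obj A) (hα0 : (T.F (q + 1)).map u α = 0)
    (hα : (φ.app (q + 1)).app A α = 0) : α = 0 := by
  obtain ⟨β, rfl⟩ := e1 T u q α hα0
  rw [app_dl] at hα
  obtain ⟨μ', hμ'⟩ := e3 T' u q _ hα
  obtain ⟨μ, rfl⟩ := (hq M).2 μ'
  rw [← app_nat] at hμ'
  have := (hq _).1 hμ'
  rw [← this]
  exact c3 T u q μ

lemma surj_elem (q : ℕ) (hq : ∀ A, Function.Bijective ((φ.app q).app A)) {A M : C} (u : A ⟶ M) [Mono u]
    (hinjN : Function.Injective ((φ.app (q + 1)).app (cokernel u)))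
    (hsurjM : Function.Surjective ((φ.app (q + 1)).app M)) :
    Function.Surjective ((φ.app (q + 1)).app A) := by
  intro α'
  obtain ⟨μ, hμ⟩ := hsurjM ((T'.F (q + 1)).map u α')
  have h1 : (φ.app (q + 1)).app _ ((T.F (q + 1)).map (cokernel.π u) μ) = 0 := by
    rw [app_nat, hμ]
    exact c2 T' u (q + 1) α'
  have h2 : (T.F (q + 1)).map (cokernel.π u) μ = 0 := by
    apply hinjN
    rw [h1, map_zero]
  obtain ⟨α, rfl⟩ := e2 T u (q + 1) μ h2
  rw [app_nat] at hμ
  have h3 : (T'.F (q + 1)).map u ((φ.app (q + 1)).app A α - α') = 0 := by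
    rw [map_sub, hμ, sub_self]
  obtain ⟨β', hβ'⟩ := e1 T' u q _ h3
  obtain ⟨β, rfl⟩ := (hq _).2 β'
  refine ⟨α - dl T u q β, ?_⟩
  rw [map_sub, app_dl, hβ']
  abel

lemma inj_zero_elem (hT0 : T.ZeroMono) {A M : C} (u : A ⟶ M) [Mono u]
    (hM : Function.Injective ((φ.app 0).app M)) : Function.Injective ((φ.app 0).app A) := by
  have : Function.Injective (fun a => (φ.app 0).app M ((T.F 0).map u a)) :=
    hM.comp (inj_of_zeroMono T hT0 u)
  intro a b hab
  apply this
  change (φ.app 0).app M ((T.F 0).map u a) = (φ.app 0).app M ((T.F 0).map u b)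
  rw [app_nat, app_nat, hab]

lemma surj_zero_elem (hT'0 : T'.ZeroMono) {A M : C} (u : A ⟶ M) [Mono u]
    (hinjN : Function.Injective ((φ.app 0).app (cokernel u)))
    (hsurjM : Function.Surjective ((φ.app 0).app M)) :
    Function.Surjective ((φ.app 0).app A) := by
  intro α'
  obtain ⟨μ, hμ⟩ := hsurjM ((T'.F 0).map u α')
  have h1 : (φ.app 0).app _ ((T.F 0).map (cokernel.π u) μ) = 0 := by
    rw [app_nat, hμ]
    exact c2 T' u 0 α'
  have h2 : (T.F 0).map (cokernel.π u) μ = 0 := by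
    apply hinjN
    rw [h1, map_zero]
  obtain ⟨α, rfl⟩ := e2 T u 0 μ h2
  rw [app_nat] at hμ
  exact ⟨α, inj_of_zeroMono T' hT'0 u hμ⟩

section

variable [∀ n, PreservesFilteredColimitsOfSize.{v, v} (T.F n)]
  [∀ n, PreservesFilteredColimitsOfSize.{v, v} (T'.F n)]
  (D : ObjectProperty C)
  (hD : ∀ A : C, ∃ (J : Type v) (_ : SmallCategory J) (_ : IsFiltered J) (K : J ⥤ C) (c : Cocone K)
      (_ : IsColimit c), (∀ j, D (K.obj j)) ∧ Nonempty (c.pt ≅ A))

include hD

lemma inj_all_of_D (q : ℕ) (h : ∀ A, D A → Function.Injective ((φ.app q).app A)) (A : C) :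
    Function.Injective ((φ.app q).app A) := by
  obtain ⟨J, _, _, K, c, hc, hK, ⟨e⟩⟩ := hD A
  have h1 : Function.Injective ((φ.app q).app c.pt) :=
    inj_of_colim (Functor.whiskerLeft K (φ.app q)) (isColimitOfPreserves (T.F q) hc)
      (isColimitOfPreserves (T'.F q) hc) ((φ.app q).app c.pt)
      (fun j => (φ.app q).naturality (c.ι.app j)) (fun j => h _ (hK j))
  rw [injective_iff_map_eq_zero]
  intro x hx
  have h2 : (T.F q).map e.inv x = 0 := by
    apply h1
    rw [app_nat, hx, map_zero, map_zero]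
  have h3 : (T.F q).map e.hom ((T.F q).map e.inv x) = x := by
    have : (T.F q).map e.inv ≫ (T.F q).map e.hom = 𝟙 _ := by
      rw [← Functor.map_comp, e.inv_hom_id, CategoryTheory.Functor.map_id]
    exact ConcreteCategory.congr_hom this x
  rw [← h3, h2, map_zero]

lemma surj_all_of_D (q : ℕ) (h : ∀ A, D A → Function.Surjective ((φ.app q).app A)) (A : C) :
    Function.Surjective ((φ.app q).app A) := by
  obtain ⟨J, _, _, K, c, hc, hK, ⟨e⟩⟩ := hD A
  have h1 : Function.Surjective ((φ.app q).app c.pt) :=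
    surj_of_colim (cF := (T.F q).mapCocone c) (Functor.whiskerLeft K (φ.app q))
      (isColimitOfPreserves (T'.F q) hc) ((φ.app q).app c.pt)
      (fun j => (φ.app q).naturality (c.ι.app j)) (fun j => h _ (hK j))
  intro x
  obtain ⟨y, hy⟩ := h1 ((T'.F q).map e.inv x)
  refine ⟨(T.F q).map e.hom y, ?_⟩
  rw [app_nat, hy]
  have : (T'.F q).map e.inv ≫ (T'.F q).map e.hom = 𝟙 _ := by
    rw [← Functor.map_comp, e.inv_hom_id, CategoryTheory.Functor.map_id]
  exact ConcreteCategory.congr_hom this x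

theorem bijective_all (hT0 : T.ZeroMono) (hT'0 : T'.ZeroMono) (E : ObjectProperty C)
    (hE : ∀ A : C, D A → ∃ (M : C) (i : A ⟶ M), Mono i ∧ E M)
    (hEb : ∀ (q : ℕ) (M : C), E M → Function.Bijective ((φ.app q).app M)) :
    ∀ (q : ℕ) (A : C), Function.Bijective ((φ.app q).app A) := by
  intro q
  induction q with
  | zero =>
    have hinj : ∀ A, Function.Injective ((φ.app 0).app A) := by
      refine inj_all_of_D φ D hD 0 (fun A hA => ?_)
      obtain ⟨M, u, hu, hM⟩ := hE A hA
      exact inj_zero_elem φ hT0 u (hEb 0 M hM).1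
    have hsurj : ∀ A, Function.Surjective ((φ.app 0).app A) := by
      refine surj_all_of_D φ D hD 0 (fun A hA => ?_)
      obtain ⟨M, u, hu, hM⟩ := hE A hA
      exact surj_zero_elem φ hT'0 u (hinj _) (hEb 0 M hM).2
    exact fun A => ⟨hinj A, hsurj A⟩
  | succ q ih =>
    have hinj : ∀ A, Function.Injective ((φ.app (q + 1)).app A) := by
      refine inj_all_of_D φ D hD (q + 1) (fun A hA => ?_)
      obtain ⟨M, u, hu, hM⟩ := hE A hA
      rw [injective_iff_map_eq_zero]
      intro α hα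
      refine inj_elem φ q ih u α ?_ hα
      apply (hEb (q + 1) M hM).1
      rw [app_nat, hα, map_zero, map_zero]
    have hsurj : ∀ A, Function.Surjective ((φ.app (q + 1)).app A) := by
      refine surj_all_of_D φ D hD (q + 1) (fun A hA => ?_)
      obtain ⟨M, u, hu, hM⟩ := hE A hA
      exact surj_elem φ q ih u (hinj _) (hEb (q + 1) M hM).2
    exact fun A => ⟨hinj A, hsurj A⟩

end

end Groth.Agent.Lib.Helper9.DeltaIso
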