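import Mathlib
import Groth.Agent.Lib.Helper4DVRSch
import Groth.Agent.Lib.Helper4DVREx

/-!
# Discrete valuation rings through points in the closure of the image (helper9)
Scheme level: for `g : U ⟶ V` quasi-compact locally of finite type with `V` locally Noetherian and
`v` in the closure of the image, there is a discrete valuation ring `A` with `Spec A ⟶ V` sending the
closed point to `v` and `Spec (Frac A) ⟶ U` compatible.
-/

set_option autoImplicit false
set_option linter.style.haveILetI false
universe u
open CategoryTheory CategoryTheory.Limits AlgebraicGeometry Opposite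

namespace Groth.Agent.Lib.Helper9.DvrSpec

open Groth.Agent.Lib.Helper4

/-- the residue field extension of a morphism locally of finite type is essentially of finite type. -/
lemma essFiniteType_residueFieldMap {U V : Scheme.{u}} (g : U ⟶ V) [LocallyOfFiniteType g] (x : U) :
    (g.residueFieldMap x).hom.EssFiniteType := by
  obtain ⟨W, hW, hgW, -⟩ := exists_isAffineOpen_mem_and_subset (U := ⊤) (x := g x) (by simp)
  have hxW : x ∈ g ⁻¹ᵁ W := hgW
  obtain ⟨U', hU', hxU', hle⟩ := exists_isAffineOpen_mem_and_subset (U := g ⁻¹ᵁ W) (x := x) hxW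
  have h1 : (g.appLE W U' hle).hom.FiniteType := g.finiteType_appLE hW hU' hle
  have h2 := DVREx.essFiniteType_evaluation hU' x hxU'
  have h3 : V.evaluation W (g x) hgW ≫ g.residueFieldMap x =
      g.appLE W U' hle ≫ U.evaluation U' x hxU' := by
    have hle' : U' ≤ g ⁻¹ᵁ W := hle
    have h4 : g.appLE W U' hle = g.app W ≫ U.presheaf.map (homOfLE hle').op := rfl
    have h5 : U.presheaf.map (homOfLE hle').op ≫ U.evaluation U' x hxU' =
        U.evaluation (g ⁻¹ᵁ W) x hxW := by
      rw [← Scheme.germ_residue, ← Scheme.germ_residue, ← Category.assoc,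
        TopCat.Presheaf.germ_res]
    rw [Scheme.evaluation_naturality, h4, Category.assoc, h5]
  apply RingHom.EssFiniteType.of_comp (V.evaluation W (g x) hgW).hom
  rw [← CommRingCat.hom_comp, h3, CommRingCat.hom_comp]
  exact h1.essFiniteType.comp h2

theorem exists_dvr_square {U V : Scheme.{u}} [IsLocallyNoetherian V] (g : U ⟶ V)
    [LocallyOfFiniteType g] [QuasiCompact g] {v : V} (hv : v ∈ closure (Set.range g)) :
    ∃ (A : Type u) (_ : CommRing A) (_ : IsDomain A) (_ : IsDiscreteValuationRing A)
      (γ : Spec (CommRingCat.of A) ⟶ V) (δ : Spec (CommRingCat.of (FractionRing A)) ⟶ U),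
      δ ≫ g = Spec.map (CommRingCat.ofHom (algebraMap A (FractionRing A))) ≫ γ ∧
      γ (IsLocalRing.closedPoint A) = v := by
  haveI : IsLocallyNoetherian U := LocallyOfFiniteType.isLocallyNoetherian g
  obtain ⟨x, hx⟩ := DVRSch.exists_specializes_of_mem_closure_range g hv
  by_cases h : g x = v
  · -- power series over the residue field
    refine ⟨PowerSeries (U.residueField x), inferInstance, inferInstance, inferInstance,
      Spec.map (CommRingCat.ofHom (algebraMap (U.residueField x) (PowerSeries (U.residueField x)))) ≫
        U.fromSpecResidueField x ≫ g,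
      Spec.map (CommRingCat.ofHom (algebraMap (PowerSeries (U.residueField x))
        (FractionRing (PowerSeries (U.residueField x))))) ≫
        Spec.map (CommRingCat.ofHom (algebraMap (U.residueField x) (PowerSeries (U.residueField x)))) ≫
        U.fromSpecResidueField x, ?_, ?_⟩
    · simp only [Category.assoc]
    · have key : ∀ p, (Spec.map (CommRingCat.ofHom (algebraMap (U.residueField x)
          (PowerSeries (U.residueField x)))) ≫ U.fromSpecResidueField x ≫ g) p = g x := fun p => by
        rw [Scheme.Hom.comp_apply, Scheme.Hom.comp_apply, Scheme.fromSpecResidueField_apply]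
      exact (key _).trans h
  · obtain ⟨Vr, hVr, gV, h1, h2⟩ := DVRSch.exists_dvr_hom hx h (g.residueFieldMap x)
      (essFiniteType_residueFieldMap g x)
    obtain ⟨a, b, -, -, ha, -⟩ := DVREx.dvr_bridge Vr
    refine ⟨Vr, inferInstance, inferInstance, hVr, gV, Spec.map a ≫ U.fromSpecResidueField x, ?_, h2⟩
    have e1 : U.fromSpecResidueField x ≫ g =
        Spec.map (g.residueFieldMap x) ≫ V.fromSpecResidueField (g x) :=
      (Scheme.Hom.SpecMap_residueFieldMap_fromSpecResidueField g x).symm
    calc (Spec.map a ≫ U.fromSpecResidueField x) ≫ g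
        = Spec.map a ≫ (U.fromSpecResidueField x ≫ g) := Category.assoc _ _ _
      _ = Spec.map a ≫ (Spec.map (CommRingCat.ofHom Vr.subtype) ≫ gV) :=
          congrArg (fun t => Spec.map a ≫ t) (e1.trans h1.symm)
      _ = Spec.map (CommRingCat.ofHom Vr.subtype ≫ a) ≫ gV := by
          rw [Spec.map_comp, Category.assoc]
      _ = _ := by rw [ha]

end Groth.Agent.Lib.Helper9.DvrSpec
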