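import Mathlib
import Groth.Agent.Lib.Helper9DvrSpec
import Groth.Agent.S9874
import Groth.Agent.S10175
import Groth.Agent.S10176
import Groth.Agent.S10177

/-!
# Discrete valuation rings through points in the closure of the image, algebraic spaces (helper9)
-/

set_option autoImplicit false
set_option linter.style.haveILetI false
set_option backward.isDefEq.respectTransparency false
universe u
open CategoryTheory CategoryTheory.Limits AlgebraicGeometry Opposite
open AlgSp

namespace Groth.Agent.Lib.Helper9.DvrAlgSp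

variable {S : Scheme.{u}}

lemma map_schemeEquiv {T : Over S} {F : AlgSp.Sp S} (α : (AlgSp.yon S).obj T ⟶ F) (t : T.left) :
    AlgSp.Points.map α (AlgSp.Points.schemeEquiv T t) = AlgSp.Points.ofPt α t := by
  change AlgSp.Points.map α (AlgSp.Points.ofPt (𝟙 _) t) = _
  rw [AlgSp.Points.map_ofPt, Category.id_comp]

theorem exists_dvr_diagram {X Y : AlgSp.Sp S} (hX : AlgSp.IsAlgSpace X) (hYa : AlgSp.IsAlgSpace Y)
    (f : X ⟶ Y) (hft : AlgSp.IsFiniteTypeMor f) (hY : AlgSp.IsLocNoethSp Y) (y : AlgSp.Points Y)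
    (hy : y ∈ closure (Set.range (AlgSp.Points.map f))) :
    ∃ (A : Type u) (_ : CommRing A) (_ : IsDomain A) (_ : IsDiscreteValuationRing A)
      (a : Spec (CommRingCat.of A) ⟶ S)
      (α : (AlgSp.yon S).obj (Over.mk a) ⟶ Y)
      (κ : (AlgSp.yon S).obj (Over.mk (Spec.map (CommRingCat.ofHom (algebraMap A (FractionRing A))) ≫ a)) ⟶ X),
      κ ≫ f = (AlgSp.yon S).map (Over.homMk (Spec.map (CommRingCat.ofHom (algebraMap A (FractionRing A))))) ≫ α ∧
      AlgSp.Points.map α (AlgSp.Points.schemeEquiv (Over.mk a) (IsLocalRing.closedPoint A)) = y := by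
  obtain ⟨V₀, q, hqe, hqs, hV₀⟩ := hY
  obtain ⟨v₀, rfl⟩ := Groth.Agent.S10177.surjective_ofPt q hqs y
  haveI : IsLocallyNoetherian V₀.left := hV₀
  obtain ⟨V', hV', hv₀, -⟩ := exists_isAffineOpen_mem_and_subset (U := ⊤) (x := v₀) trivial
  haveI : IsAffine V'.toScheme := hV'
  obtain ⟨V, hVdef⟩ : ∃ V : Over S, V = Over.mk (V'.ι ≫ V₀.hom) := ⟨_, rfl⟩
  obtain ⟨j, hj⟩ : ∃ j : Over.mk (V'.ι ≫ V₀.hom) ⟶ V₀, j = Over.homMk V'.ι rfl := ⟨_, rfl⟩
  have hje : AlgSp.RepWith @Etale ((AlgSp.yon S).map j) := by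
    rw [AlgSp.repWith_yon_map_iff, hj]
    change Etale V'.ι
    infer_instance
  have hinv : (MorphismProperty.inverseImage (@Etale.{u}) (Over.forget S)).IsStableUnderComposition :=
    MorphismProperty.IsStableUnderComposition.inverseImage _
  haveI : (AlgSp.RepWith (S := S) @Etale.{u}).IsStableUnderComposition :=
    MorphismProperty.relative_isStableUnderComposition _
  haveI : (AlgSp.RepWith (S := S) @Etale.{u}).IsStableUnderBaseChange :=
    MorphismProperty.relative_isStableUnderBaseChange _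
  obtain ⟨p, hpdef⟩ : ∃ p : (AlgSp.yon S).obj (Over.mk (V'.ι ≫ V₀.hom)) ⟶ Y,
      p = (AlgSp.yon S).map j ≫ q := ⟨_, rfl⟩
  have hp : AlgSp.RepWith @Etale p := by
    rw [hpdef]
    exact MorphismProperty.comp_mem _ _ _ hje hqe
  -- the fibre product
  have hsq : IsPullback (pullback.fst f p) (pullback.snd f p) f p := IsPullback.of_hasPullback f p
  have hP : AlgSp.IsAlgSpace (pullback f p) :=
    Groth.Agent.S9874.isAlgSpace_of_isPullback hYa.diag hX (AlgSp.IsAlgSpace.yon_obj _) hsq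
  have hVqc : AlgSp.IsQuasiCompactSp ((AlgSp.yon S).obj (Over.mk (V'.ι ≫ V₀.hom))) :=
    ⟨_, 𝟙 _, AlgSp.repWith_id _ _, AlgSp.repWith_id _ _,
      (inferInstance : CompactSpace V'.toScheme)⟩
  obtain ⟨U, a, hae, has, hUc⟩ := hft.2 (AlgSp.IsAlgSpace.yon_obj _) hVqc p _ _ hsq
  haveI : CompactSpace U.left := hUc
  obtain ⟨g, hg⟩ := (AlgSp.yon S).map_surjective (a ≫ pullback.snd f p)
  have hfe : AlgSp.RepWith @Etale (pullback.fst f p) :=
    MorphismProperty.of_isPullback (P := AlgSp.RepWith @Etale) hsq.flip hp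
  have hlft : LocallyOfFiniteType g.left := by
    refine hft.1 (a ≫ pullback.fst f p) p g (MorphismProperty.comp_mem _ _ _ hae hfe) hp ?_
    rw [Category.assoc, pullback.condition, ← Category.assoc, hg]
  haveI : LocallyOfFiniteType g.left := hlft
  haveI : QuasiSeparatedSpace (Over.mk (V'.ι ≫ V₀.hom)).left :=
    (inferInstance : QuasiSeparatedSpace V'.toScheme)
  haveI : QuasiCompact g.left := quasiCompact_of_compactSpace g.left
  haveI : IsLocallyNoetherian (Over.mk (V'.ι ≫ V₀.hom)).left := by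
    change IsLocallyNoetherian V'.toScheme
    infer_instance
  -- the point `v`
  obtain ⟨v, hv⟩ : ∃ v : (Over.mk (V'.ι ≫ V₀.hom)).left, j.left v = v₀ := by
    refine ⟨(⟨v₀, hv₀⟩ : V'.toScheme), ?_⟩
    rw [hj]
    rfl
  have hpv : AlgSp.Points.ofPt p v = AlgSp.Points.ofPt q v₀ := by
    rw [hpdef, Groth.Agent.S10176.ofPt_map_comp, hv]
  have hsub : AlgSp.Points.ofPt p ⁻¹' Set.range (AlgSp.Points.map f) ⊆ Set.range g.left := by
    rintro t ⟨x, hx⟩
    have e : AlgSp.Points.map p (AlgSp.Points.ofScheme _ t) = AlgSp.Points.map f x := by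
      rw [← AlgSp.Points.ofPt_eq_map_ofScheme]
      exact hx.symm
    obtain ⟨π, hπ1, -⟩ := Groth.Agent.S10175.exists_point_of_isPullback hsq.flip _ _ e
    obtain ⟨u, rfl⟩ := Groth.Agent.S10177.surjective_ofPt a has π
    refine ⟨u, ?_⟩
    apply (AlgSp.Points.schemeEquiv _).injective
    change AlgSp.Points.ofPt (𝟙 _) (g.left u) = AlgSp.Points.ofScheme _ t
    rw [← hπ1, AlgSp.Points.map_ofPt, ← hg, ← Groth.Agent.S10176.ofPt_map_comp, Category.comp_id]
  have hvcl : v ∈ closure (Set.range g.left) := by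
    have h1 : v ∈ AlgSp.Points.ofPt p ⁻¹' closure (Set.range (AlgSp.Points.map f)) :=
      Set.mem_preimage.2 (by rw [hpv]; exact hy)
    exact closure_mono hsub
      ((Groth.Agent.S10176.isOpenMap_ofPt p hp).preimage_closure_subset_closure_preimage h1)
  obtain ⟨A, _, _, hA, γ, δ, hγδ, hγ⟩ := Groth.Agent.Lib.Helper9.DvrSpec.exists_dvr_square g.left hvcl
  have hδw : δ ≫ U.hom = Spec.map (CommRingCat.ofHom (algebraMap A (FractionRing A))) ≫
      γ ≫ (V'.ι ≫ V₀.hom) := by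
    rw [← Over.w g, ← Category.assoc, hγδ, Category.assoc]
    rfl
  refine ⟨A, inferInstance, inferInstance, hA, γ ≫ (V'.ι ≫ V₀.hom),
    (AlgSp.yon S).map (Over.homMk γ rfl : Over.mk (γ ≫ (V'.ι ≫ V₀.hom)) ⟶ Over.mk (V'.ι ≫ V₀.hom)) ≫ p,
    (AlgSp.yon S).map (Over.homMk δ hδw :
      Over.mk (Spec.map (CommRingCat.ofHom (algebraMap A (FractionRing A))) ≫ γ ≫ (V'.ι ≫ V₀.hom)) ⟶ U) ≫
      a ≫ pullback.fst f p, ?_, ?_⟩
  · have h1 : (AlgSp.yon S).map (Over.homMk δ hδw :
        Over.mk (Spec.map (CommRingCat.ofHom (algebraMap A (FractionRing A))) ≫ γ ≫ (V'.ι ≫ V₀.hom)) ⟶ U) ≫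
          (AlgSp.yon S).map g =
        (AlgSp.yon S).map (Over.homMk (Spec.map (CommRingCat.ofHom (algebraMap A (FractionRing A)))) rfl :
          Over.mk (Spec.map (CommRingCat.ofHom (algebraMap A (FractionRing A))) ≫ γ ≫ (V'.ι ≫ V₀.hom)) ⟶
            Over.mk (γ ≫ (V'.ι ≫ V₀.hom))) ≫
          (AlgSp.yon S).map (Over.homMk γ rfl :
            Over.mk (γ ≫ (V'.ι ≫ V₀.hom)) ⟶ Over.mk (V'.ι ≫ V₀.hom)) := by
      rw [← Functor.map_comp, ← Functor.map_comp]
      congr 1
      apply Over.OverMorphism.ext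
      exact hγδ
    calc ((AlgSp.yon S).map (Over.homMk δ hδw :
          Over.mk (Spec.map (CommRingCat.ofHom (algebraMap A (FractionRing A))) ≫ γ ≫ (V'.ι ≫ V₀.hom)) ⟶ U) ≫
          a ≫ pullback.fst f p) ≫ f
        = (AlgSp.yon S).map (Over.homMk δ hδw) ≫ a ≫ (pullback.fst f p ≫ f) := by
          simp only [Category.assoc]
      _ = (AlgSp.yon S).map (Over.homMk δ hδw) ≫ a ≫ (pullback.snd f p ≫ p) := by
          rw [pullback.condition]
      _ = (AlgSp.yon S).map (Over.homMk δ hδw) ≫ (a ≫ pullback.snd f p) ≫ p := by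
          simp only [Category.assoc]
      _ = (AlgSp.yon S).map (Over.homMk δ hδw) ≫ (AlgSp.yon S).map g ≫ p := by rw [hg]
      _ = ((AlgSp.yon S).map (Over.homMk δ hδw) ≫ (AlgSp.yon S).map g) ≫ p :=
          (Category.assoc _ _ _).symm
      _ = _ := by rw [h1, Category.assoc]
  · rw [map_schemeEquiv, Groth.Agent.S10176.ofPt_map_comp]
    exact (congrArg (AlgSp.Points.ofPt p) hγ).trans hpv

end Groth.Agent.Lib.Helper9.DvrAlgSp
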