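import Mathlib
import Groth.Agent.Lib.Helper9AnCrit
import Groth.Agent.Lib.Helper9DvrAlgSp
import Groth.Agent.Lib.Helper12Proper
import Groth.Agent.S10192

/-!
# The discrete valuative criterion for universal closedness over a locally Noetherian base (helper9)
-/

set_option autoImplicit false
set_option linter.style.haveILetI false
set_option backward.isDefEq.respectTransparency false
universe u
open CategoryTheory CategoryTheory.Limits AlgebraicGeometry Opposite
open AlgSp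

namespace Groth.Agent.Lib.Helper9.DvrUnivClosed

open Groth.Agent.Lib.Helper9.AnSp Groth.Agent.Lib.Helper12.Proper

variable {S : Scheme.{u}}

/-- a finite type morphism satisfying the existence part of the valuative criterion for discrete valuation rings is
closed after base change to a locally Noetherian scheme. -/
theorem isClosedMap_of_dvr_liftExt {X Y : AlgSp.Sp S} (hX : AlgSp.IsAlgSpace X) (hY : AlgSp.IsAlgSpace Y)
    (f : X ⟶ Y) (hft : AlgSp.IsFiniteTypeMor f)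
    (h : ∀ sq : AlgSp.ValSq f, IsDiscreteValuationRing sq.A → sq.HasLiftExt)
    {B : Over S} [IsLocallyNoetherian B.left] (β : (AlgSp.yon S).obj B ⟶ Y) {Q : AlgSp.Sp S}
    (fstQ : Q ⟶ X) (sndQ : Q ⟶ (AlgSp.yon S).obj B) (hQ : IsPullback fstQ sndQ f β) :
    IsClosedMap (AlgSp.Points.map sndQ) := by
  have hQa : AlgSp.IsAlgSpace Q :=
    Groth.Agent.S9874.isAlgSpace_of_isPullback hY.diag hX (AlgSp.IsAlgSpace.yon_obj B) hQ
  have hsndft : AlgSp.IsFiniteTypeMor sndQ :=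
    ⟨locP_lft_baseChange hX hY (AlgSp.IsAlgSpace.yon_obj B) hQ hft.1,
      isQuasiCompactMor_baseChange hQ hft.2⟩
  intro T₀ hT₀
  rw [← closure_subset_iff_isClosed]
  intro y hy
  obtain ⟨Z, i, hi, hrange, -⟩ := Groth.Agent.S10192.result ⟨Q, hQa⟩ T₀ hT₀
  have hci : AlgSp.IsFiniteTypeMor (i.hom ≫ sndQ) :=
    ⟨locP_lft_comp hQa (AlgSp.IsAlgSpace.yon_obj B) _ _
      (locP_lft_of_isClosedImmersion hQa i.hom hi) hsndft.1,
     isQuasiCompactMor_comp hQa (AlgSp.IsAlgSpace.yon_obj B) _ _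
      (isQuasiCompactMor_of_isClosedImmersion i.hom hi) hsndft.2⟩
  have hBN : AlgSp.IsLocNoethSp ((AlgSp.yon S).obj B) :=
    ⟨B, 𝟙 _, AlgSp.repWith_id _ B, AlgSp.repWith_id _ B, inferInstance⟩
  have hrg : Set.range (AlgSp.Points.map (i.hom ≫ sndQ)) = AlgSp.Points.map sndQ '' T₀ := by
    rw [← hrange]
    ext b
    constructor
    · rintro ⟨z, rfl⟩
      exact ⟨AlgSp.Points.map i.hom z, ⟨z, rfl⟩, (AlgSp.Points.map_comp _ _ z).symm⟩
    · rintro ⟨_, ⟨z, rfl⟩, rfl⟩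
      exact ⟨z, AlgSp.Points.map_comp _ _ z⟩
  rw [← hrg] at hy
  obtain ⟨A, _, _, hA, a, α, κ, hκ, hα⟩ :=
    Groth.Agent.Lib.Helper9.DvrAlgSp.exists_dvr_diagram Z.property (AlgSp.IsAlgSpace.yon_obj B)
      (i.hom ≫ sndQ) hci hBN y hy
  rw [Groth.Agent.Lib.Helper9.DvrAlgSp.map_schemeEquiv] at hα
  have hcomm : (κ ≫ i.hom ≫ fstQ) ≫ f =
      (AlgSp.yon S).map (Over.homMk (Spec.map (CommRingCat.ofHom (algebraMap A (FractionRing A)))) rfl :
        Over.mk (Spec.map (CommRingCat.ofHom (algebraMap A (FractionRing A))) ≫ a) ⟶ Over.mk a) ≫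
        (α ≫ β) := by
    calc (κ ≫ i.hom ≫ fstQ) ≫ f = κ ≫ i.hom ≫ (fstQ ≫ f) := by simp only [Category.assoc]
      _ = κ ≫ i.hom ≫ (sndQ ≫ β) := by rw [hQ.w]
      _ = (κ ≫ (i.hom ≫ sndQ)) ≫ β := by simp only [Category.assoc]
      _ = _ := by rw [hκ, Category.assoc]
  let vsq : AlgSp.ValSq f :=
    { A := A, K := FractionRing A, str := a, top := κ ≫ i.hom ≫ fstQ, bot := α ≫ β, comm := hcomm }
  obtain ⟨e, l, hl1, hl2⟩ := h vsq hA
  -- the lift to `Q`
  obtain ⟨φm, hφm⟩ : ∃ φm : e.ptA' ⟶ vsq.ptA, φm = Over.homMk (Spec.map (CommRingCat.ofHom e.φ)) rfl :=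
    ⟨_, rfl⟩
  rw [← hφm] at hl2
  have hlw : l ≫ f = ((AlgSp.yon S).map φm ≫ α) ≫ β := by
    rw [hl2, Category.assoc]
  obtain ⟨l', hl'⟩ : ∃ l' : (AlgSp.yon S).obj e.ptA' ⟶ Q, l' = hQ.lift l ((AlgSp.yon S).map φm ≫ α) hlw :=
    ⟨_, rfl⟩
  have hl'1 : l' ≫ fstQ = l := by rw [hl']; exact hQ.lift_fst _ _ _
  have hl'2 : l' ≫ sndQ = (AlgSp.yon S).map φm ≫ α := by rw [hl']; exact hQ.lift_snd _ _ _
  -- the generic point
  obtain ⟨jK, hjK⟩ : ∃ jK : e.ptK' ⟶ e.ptA',
      jK = Over.homMk (Spec.map (CommRingCat.ofHom (algebraMap e.A' e.K'))) rfl := ⟨_, rfl⟩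
  obtain ⟨ψm, hψmdef⟩ : ∃ ψm : e.ptK' ⟶ vsq.ptK,
      ψm = Over.homMk (Spec.map (CommRingCat.ofHom e.ψ)) (by
          change Spec.map _ ≫ Spec.map _ ≫ _ = Spec.map _ ≫ Spec.map _ ≫ _
          rw [← Spec.map_comp_assoc, ← Spec.map_comp_assoc, ← CommRingCat.ofHom_comp,
            ← CommRingCat.ofHom_comp, e.comm]) := ⟨_, rfl⟩
  have hψm : (AlgSp.yon S).map jK ≫ l = (AlgSp.yon S).map ψm ≫ vsq.top := by
    rw [hjK, hψmdef]; exact hl1
  have hψmj : jK ≫ φm = ψm ≫ vsq.j := by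
    rw [hjK, hφm, hψmdef]
    apply Over.OverMorphism.ext
    change Spec.map _ ≫ Spec.map _ = Spec.map _ ≫ Spec.map _
    rw [← Spec.map_comp, ← Spec.map_comp, ← CommRingCat.ofHom_comp, ← CommRingCat.ofHom_comp, e.comm]
  have hgen : (AlgSp.yon S).map jK ≫ l' = (AlgSp.yon S).map ψm ≫ κ ≫ i.hom := by
    apply hQ.hom_ext
    · rw [Category.assoc, hl'1, hψm]
      simp only [Category.assoc]
      rfl
    · rw [Category.assoc, hl'2, ← Category.assoc, ← Functor.map_comp, hψmj, Functor.map_comp]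
      simp only [Category.assoc]
      rw [← hκ]
  obtain ⟨η⟩ : Nonempty (e.ptK'.left) := inferInstanceAs (Nonempty (Spec (CommRingCat.of e.K')))
  have hηT : AlgSp.Points.ofPt l' (jK.left η) ∈ T₀ := by
    rw [← Groth.Agent.S10176.ofPt_map_comp, hgen, ← hrange, ← Category.assoc, ← AlgSp.Points.map_ofPt]
    exact ⟨_, rfl⟩
  have hspec : jK.left η ⤳ IsLocalRing.closedPoint e.A' :=
    IsLocalRing.specializes_closedPoint (R := e.A') (jK.left η)
  have hcT : AlgSp.Points.ofPt l' (IsLocalRing.closedPoint e.A') ∈ T₀ :=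
    hT₀.stableUnderSpecialization (hspec.map (AlgSp.Points.continuous_ofPt l')) hηT
  refine ⟨_, hcT, ?_⟩
  rw [AlgSp.Points.map_ofPt, hl'2, Groth.Agent.S10176.ofPt_map_comp, ← hα]
  congr 1
  rw [hφm]
  exact (IsLocalRing.isLocalHom_iff_comap_closedPoint e.φ).1 e.isLocalHom

/-- **discrete valuative criterion**: a finite type morphism to a locally Noetherian algebraic space satisfying the
existence part of the valuative criterion for discrete valuation rings is universally closed. -/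
theorem isUnivClosedMor_of_dvr_liftExt {X Y : AlgSp.Space S} (f : X ⟶ Y)
    (hft : AlgSp.IsFiniteTypeMor f.hom) (hY : AlgSp.IsLocNoethSp Y.obj)
    (h : ∀ sq : AlgSp.ValSq f.hom, IsDiscreteValuationRing sq.A → sq.HasLiftExt) :
    AlgSp.IsUnivClosedMor f.hom := by
  obtain ⟨V, p, hpe, hps, hV⟩ := hY
  haveI : IsLocallyNoetherian V.left := hV
  refine Groth.Agent.Lib.Helper9.AnCrit.isUnivClosedMor_of_affineSpace f hft.2 p hpe hps
    (fun n Q fstQ sndQ hQ => ?_)
  haveI : IsLocallyNoetherian (An n V).left :=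
    LocallyOfFiniteType.isLocallyNoetherian (𝔸(ULift.{u} (Fin n); V.left) ↘ V.left)
  exact isClosedMap_of_dvr_liftExt X.property Y.property f.hom hft h _ fstQ sndQ hQ

/-- a lift of a valuative square gives a lift of every dominating extension. -/
lemma hasLift_domExt_of_hasLift {F G : AlgSp.Sp S} {f : F ⟶ G} (sq : AlgSp.ValSq f) (e : sq.DomExt)
    (h : sq.HasLift) : e.HasLift := by
  obtain ⟨l₀, h1, h2⟩ := h
  refine ⟨(AlgSp.yon S).map (Over.homMk (Spec.map (CommRingCat.ofHom e.φ)) rfl : e.ptA' ⟶ sq.ptA) ≫ l₀,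
    ?_, ?_⟩
  · rw [← Category.assoc, ← Functor.map_comp, ← h1, ← Category.assoc, ← Functor.map_comp]
    congr 2
    apply Over.OverMorphism.ext
    change Spec.map _ ≫ Spec.map _ = Spec.map _ ≫ Spec.map _
    rw [← Spec.map_comp, ← Spec.map_comp, ← CommRingCat.ofHom_comp, ← CommRingCat.ofHom_comp, e.comm]
  · rw [Category.assoc, h2]

/-- a lift is a lift after the trivial extension. -/
lemma hasLiftExt_of_hasLift {F G : AlgSp.Sp S} {f : F ⟶ G} (sq : AlgSp.ValSq f) (h : sq.HasLift) :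
    sq.HasLiftExt :=
  ⟨{ A' := sq.A, K' := sq.K, φ := RingHom.id _, ψ := RingHom.id _,
     comm := by rw [RingHom.comp_id, RingHom.id_comp]
     isLocalHom := inferInstance }, hasLift_domExt_of_hasLift sq _ h⟩

end Groth.Agent.Lib.Helper9.DvrUnivClosed
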