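import Mathlib
import Groth.Prelude.Def_RDer
import Groth.Agent.Lib.Helper23DerCompAcyclic

/-!
# The first edge map `RDer.edgeIn Φ Ψ q X` is an isomorphism when `X` is `Φ`-acyclic (helper9)
-/

open CategoryTheory Limits HomologicalComplex

namespace Groth.Agent.Lib.Helper9.EdgeInIso

universe v₁ v₂ v₃ u₁ u₂ u₃

variable {A : Type u₁} [Category.{v₁} A] [Abelian A] [EnoughInjectives A] [HasInjectiveResolutions A]
  {B : Type u₂} [Category.{v₂} B] [Abelian B] [HasInjectiveResolutions B]
  {C : Type u₃} [Category.{v₃} C] [Abelian C]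

open Groth.Agent.Lib.Helper23DerCompAcyclic

/-- Comparison from an injective resolution to another one via `descToInjectives` induces an iso on `H^q ∘ Ψ`. -/
theorem isIso_homologyMap_desc {Y : B} (J I' : InjectiveResolution Y) (Ψ : B ⥤ C) [Ψ.Additive] (q : ℕ) :
    IsIso ((HomologicalComplex.homologyFunctor C _ q).map
      ((Ψ.mapHomologicalComplex _).map
        (RDer.descToInjectives (𝟙 Y) J.cocomplex J.ι I'.cocomplex I'.ι))) := by
  have hd' : J.ι ≫ RDer.descToInjectives (𝟙 Y) J.cocomplex J.ι I'.cocomplex I'.ι =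
      (CochainComplex.single₀ B).map (𝟙 Y) ≫ I'.ι := by
    apply HomologicalComplex.from_single_hom_ext
    rw [HomologicalComplex.comp_f, HomologicalComplex.comp_f]
    refine (RDer.ι_descToInjectives_f_zero (𝟙 Y) J.cocomplex J.ι I'.cocomplex I'.ι).trans ?_
    simp
  let e : HomotopyEquiv J.cocomplex I'.cocomplex := InjectiveResolution.homotopyEquiv J I'
  have hh : Homotopy (RDer.descToInjectives (𝟙 Y) J.cocomplex J.ι I'.cocomplex I'.ι) e.hom :=
    InjectiveResolution.descHomotopy (𝟙 Y) _ e.hom hd'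
      (InjectiveResolution.desc_commutes (𝟙 Y) I' J)
  have hh' := (Ψ.mapHomotopy hh).homologyMap_eq q
  change IsIso (HomologicalComplex.homologyMap ((Ψ.mapHomologicalComplex _).map _) q)
  rw [hh']
  exact ((Ψ.mapHomotopyEquiv e).toHomologyIso q).isIso_hom

theorem isIso_edgeIn (Φ : A ⥤ B) [Φ.Additive] [Φ.PreservesInjectiveObjects] [PreservesFiniteLimits Φ]
    (Ψ : B ⥤ C) [Ψ.Additive] (q : ℕ) (X : A)
    (h : ∀ q : ℕ, IsZero ((Φ.rightDerived (q + 1)).obj X)) :
    IsIso (RDer.edgeIn Φ Ψ q X) := by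
  have hiso := isIso_homologyMap_desc (injectiveResolution (Φ.obj X))
    (mapInjResOfAcyclic Φ (injectiveResolution X) h) Ψ q
  unfold RDer.edgeIn
  exact IsIso.comp_isIso' (Iso.isIso_hom _) (IsIso.comp_isIso' hiso (Iso.isIso_inv _))

end Groth.Agent.Lib.Helper9.EdgeInIso
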