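import Groth.Agent.Lib.Helper9ShfGrp
import Groth.Agent.Lib.Helper9QuotSh
import Groth.Prelude.Def_SGA4a
import Mathlib.CategoryTheory.Sites.Subcanonical
import Mathlib.CategoryTheory.Sites.EffectiveEpimorphic
import Mathlib.CategoryTheory.Sites.LocallySurjective
import Mathlib.CategoryTheory.Limits.Preserves.Shapes.Equalizers

/-!
# Helper9Eff: effective universal equivalence relations and the canonical topology
-/

set_option autoImplicit false

universe u

open CategoryTheory CategoryTheory.Limits Opposite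

namespace Groth.Agent.Lib.Helper9

variable {C : Type u} [SmallCategory C]

section EquivRel

variable [HasPullbacks C] {R X : C} {p₁ p₂ : R ⟶ X}

/-- The pointwise definition of an equivalence relation gives Mathlib's structure. -/
noncomputable def equivalenceRelationOfIsEquivRel (hR : SGA4.IsEquivRel p₁ p₂) :
    EquivalenceRelation p₁ p₂ := by
  have hjm : JointlyMono₂ p₁ p₂ := ⟨fun T f g h₁ h₂ => (hR T).1 (Prod.ext h₁ h₂)⟩
  have hr := (hR X).2.refl (𝟙 X)
  have hs := (hR R).2.symm ⟨𝟙 R, Category.id_comp _, Category.id_comp _⟩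
  have ht := (hR (pullback p₂ p₁)).2.trans
    ⟨pullback.fst p₂ p₁, rfl, rfl⟩ ⟨pullback.snd p₂ p₁, pullback.condition.symm, rfl⟩
  exact
    { toJointlyMono₂ := hjm
      r := hr.choose
      reflexivity₁ := hr.choose_spec.1
      reflexivity₂ := hr.choose_spec.2
      s := hs.choose
      symmetry₁ := hs.choose_spec.1
      symmetry₂ := hs.choose_spec.2
      c := pullback.cone p₂ p₁
      isLimit := pullback.isLimit p₂ p₁
      t := ht.choose
      transitivity₁ := ht.choose_spec.1
      transitivity₂ := ht.choose_spec.2 }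

end EquivRel

section Yoneda

variable (J : GrothendieckTopology C) [J.Subcanonical]

/-- `a ∘ y ≅ J.yoneda` for a subcanonical topology. -/
noncomputable def sheafifyYonedaIso :
    yoneda ⋙ presheafToSheaf J (Type u) ≅ J.yoneda :=
  Functor.isoWhiskerLeft J.yoneda (asIso (sheafificationAdjunction J (Type u)).counit) ≪≫
    Functor.rightUnitor _

lemma jointlyMono₂_yoneda_map {R X : C} {p₁ p₂ : R ⟶ X} (h : JointlyMono₂ p₁ p₂) :
    JointlyMono₂ (J.yoneda.map p₁) (J.yoneda.map p₂) := by
  refine ⟨fun G f g h₁ h₂ => ?_⟩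
  apply Sheaf.hom_ext
  ext T x
  apply h.right_cancellation
  · exact ConcreteCategory.congr_hom
      (congrArg (fun φ => NatTrans.app φ.hom T) h₁) x
  · exact ConcreteCategory.congr_hom
      (congrArg (fun φ => NatTrans.app φ.hom T) h₂) x

variable {J}

lemma epi_yoneda_map_iff {X B : C} (π : X ⟶ B) :
    Epi (J.yoneda.map π) ↔ Sieve.generate (Presieve.singleton π) ∈ J B := by
  rw [← Sheaf.isLocallySurjective_iff_epi]
  constructor
  · intro h
    have h' : Presheaf.IsLocallySurjective J (yoneda.map π) := h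
    refine J.superset_covering ?_
      (Presheaf.imageSieve_mem J (yoneda.map π) (U := op B) (𝟙 B))
    rintro T g ⟨t, ht⟩
    refine ⟨X, t, π, ⟨⟩, ?_⟩
    have : t ≫ π = g ≫ 𝟙 B := ht
    rw [this, Category.comp_id]
  · intro h
    have : Presheaf.IsLocallySurjective J (yoneda.map π) := by
      constructor
      intro V s
      refine J.superset_covering ?_ (J.pullback_stable s h)
      rintro W g ⟨W', a, b, ⟨⟩, hab⟩
      exact ⟨a, hab⟩
    exact this

end Yoneda

section Canonical

variable [HasPullbacks C]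

lemma generate_singleton_mem_canonical_iff {X B : C} (π : X ⟶ B) :
    Sieve.generate (Presieve.singleton π) ∈ Sheaf.canonicalTopology C B ↔
      ∀ (B' : C) (g : B' ⟶ B), EffectiveEpi (pullback.snd π g) := by
  have heq : ∀ (B' : C) (g : B' ⟶ B), (Sieve.generate (Presieve.singleton π)).pullback g =
      Sieve.generate (Presieve.singleton (pullback.snd π g)) := by
    intro B' g
    ext T h
    constructor
    · rintro ⟨W, a, b, ⟨⟩, hab⟩
      exact ⟨_, pullback.lift a h hab, _, ⟨⟩, pullback.lift_snd _ _ _⟩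
    · rintro ⟨W, a, b, ⟨⟩, rfl⟩
      exact ⟨X, a ≫ pullback.fst π g, π, ⟨⟩, by
        rw [Category.assoc, Category.assoc, pullback.condition]⟩
  constructor
  · intro h B' g
    rw [← Sieve.effectiveEpimorphic_singleton,
      Presieve.EffectiveEpimorphic.iff_forall_isSheafFor_yoneda]
    intro W
    rw [Presieve.isSheafFor_iff_generate, ← heq]
    exact Sheaf.isSheaf_yoneda_obj W _ ((Sheaf.canonicalTopology C).pullback_stable g h)
  · intro h
    refine Sheaf.mem_finestTopology_of_forall_isSheafFor ?_
    rintro _ ⟨W, rfl⟩ B' g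
    rw [heq, ← Presieve.isSheafFor_iff_generate]
    have := (Sieve.effectiveEpimorphic_singleton _).2 (h B' g)
    rw [Presieve.EffectiveEpimorphic.iff_forall_isSheafFor_yoneda] at this
    exact this W

/-- Main equivalence, phrased with the Yoneda functor into sheaves for the canonical topology. -/
theorem effUniv_iff_isColimit_yoneda {R X : C} (p₁ p₂ : R ⟶ X) (hR : SGA4.IsEquivRel p₁ p₂)
    (c : Cofork p₁ p₂) (hc : IsColimit c) :
    SGA4.IsEffectiveUniversalEquivRel p₁ p₂ ↔
      Nonempty (IsColimit ((Sheaf.canonicalTopology C).yoneda.mapCocone c)) := by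
  let K := Sheaf.canonicalTopology C
  let Y := K.yoneda
  constructor
  · rintro ⟨B, π, hpb, hpo, hue⟩
    have hgen := (generate_singleton_mem_canonical_iff π).2 hue
    have hepi : Epi (Y.map π) := (epi_yoneda_map_iff π).2 hgen
    have hk : IsKernelPair (Y.map π) (Y.map p₂) (Y.map p₁) := (hpb.map Y).flip
    have w : Y.map p₁ ≫ Y.map π = Y.map p₂ ≫ Y.map π := by
      rw [← Y.map_comp, ← Y.map_comp, hpo.w]
    have hiso := isIso_coequalizer_desc_of_epi (E := Sheaf K (Type u)) (Y.map p₁) (Y.map p₂)
      (Y.map π) hepi (Y.map p₂) (Y.map p₁) hk (𝟙 _) inferInstance (Category.id_comp _)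
      (Category.id_comp _) w
    have hcolY : IsColimit (Cofork.ofπ (Y.map π) w) :=
      IsColimit.ofIsoColimit (coequalizerIsCoequalizer (Y.map p₁) (Y.map p₂))
        (Cofork.ext (asIso (coequalizer.desc (Y.map π) w)) (coequalizer.π_desc _ _))
    have hπcol : IsColimit (Cofork.ofπ π hpo.w) := hpo.isLimitFork
    let e : c ≅ Cofork.ofπ π hpo.w := hc.uniqueUpToIso hπcol
    have h1 : IsColimit (Y.mapCocone (Cofork.ofπ π hpo.w)) :=
      (isColimitMapCoconeCoforkEquiv Y hpo.w).symm hcolY
    exact ⟨IsColimit.ofIsoColimit h1 ((Cocones.functoriality _ Y).mapIso e.symm)⟩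
  · rintro ⟨hcol⟩
    have hcol' : IsColimit (Y.mapCocone (Cofork.ofπ c.π c.condition)) :=
      IsColimit.ofIsoColimit hcol ((Cocones.functoriality _ Y).mapIso c.isoCoforkOfπ)
    have hcol'' := isColimitMapCoconeCoforkEquiv Y c.condition hcol'
    let e := equivalenceRelationOfIsEquivRel hR
    have : JointlyMono₂ (Y.map p₁) (Y.map p₂) := jointlyMono₂_yoneda_map K e.toJointlyMono₂
    let eY := equivalenceRelationMap Y p₁ p₂ e
    have hk := sheaf_isKernelPair_of_isColimit K eY (Y.map c.π) _ hcol''
    have hpb : IsPullback p₁ p₂ c.π c.π := IsPullback.of_map Y c.condition hk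
    have hc' : IsColimit (Cofork.ofπ c.π c.condition) := IsColimit.ofIsoColimit hc c.isoCoforkOfπ
    have hpo : IsPushout p₁ p₂ c.π c.π :=
      isPushout_of_isColimit_of_reflexive e.r e.reflexivity₁ e.reflexivity₂ c.π c.condition hc'
    have hepi : Epi (Y.map c.π) := epi_of_isColimit_cofork hcol''
    exact ⟨c.pt, c.π, hpb, hpo,
      (generate_singleton_mem_canonical_iff c.π).1 ((epi_yoneda_map_iff c.π).1 hepi)⟩

end Canonical

end Groth.Agent.Lib.Helper9
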