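import Mathlib
import Groth.Agent.Lib.Helper9ShfGrp

/-!
# Descent of morphisms along a jointly epimorphic pair in an extensive regular category (helper9)
-/

set_option autoImplicit false
set_option linter.style.haveILetI false
open CategoryTheory CategoryTheory.Limits Opposite
universe u

namespace Groth.Agent.Lib.Helper9.ElemDistPushout

open Groth.Agent.Lib.Helper9

section cat

variable {E : Type*} [Category* E] [FinitaryExtensive E] [HasPullbacks E]

/-- morphisms out of the source of a map to a coproduct are determined on the two pieces -/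
theorem hom_ext_of_coprod {X Y W' Z : E} (t : W' ⟶ X ⨿ Y) (x y : W' ⟶ Z)
    (hl : ∀ (W'' : E) (s : W'' ⟶ W') (l : W'' ⟶ X), s ≫ t = l ≫ coprod.inl → s ≫ x = s ≫ y)
    (hr : ∀ (W'' : E) (s : W'' ⟶ W') (l : W'' ⟶ Y), s ≫ t = l ≫ coprod.inr → s ≫ x = s ≫ y) :
    x = y := by
  have vk := FinitaryExtensive.vanKampen (BinaryCofan.mk (coprod.inl : X ⟶ X ⨿ Y) coprod.inr)
    (coprodIsCoprod X Y)
  rw [BinaryCofan.isVanKampen_iff] at vk
  have h1 := (vk (BinaryCofan.mk (pullback.fst t (coprod.inl : X ⟶ X ⨿ Y))
    (pullback.fst t (coprod.inr : Y ⟶ X ⨿ Y))) (pullback.snd t coprod.inl)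
    (pullback.snd t coprod.inr) t pullback.condition.symm pullback.condition.symm).2
    ⟨IsPullback.of_hasPullback t coprod.inl, IsPullback.of_hasPullback t coprod.inr⟩
  obtain ⟨hc⟩ := h1
  refine BinaryCofan.IsColimit.hom_ext hc ?_ ?_
  · exact hl _ _ _ pullback.condition
  · exact hr _ _ _ pullback.condition

end cat

section topos

variable {E : Type*} [Category* E] [FinitaryExtensive E] [ToposLike E]

/-- descent of a pair of morphisms along a jointly epimorphic pair one of whose members is a
monomorphism -/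
theorem existsUnique_desc {U V W P Z : E} (j : U ⟶ W) [Mono j] (f : V ⟶ W) (p : P ⟶ U)
    (q : P ⟶ V) (hP : IsPullback p q j f) (hepi : Epi (coprod.desc j f)) (a : U ⟶ Z) (b : V ⟶ Z)
    (hab : p ≫ a = q ≫ b)
    (hvv : ∀ (A : E) (x y : A ⟶ V), x ≫ f = y ≫ f → x ≫ b = y ≫ b) :
    ∃! h : W ⟶ Z, j ≫ h = a ∧ f ≫ h = b := by
  have huv : ∀ (A : E) (x : A ⟶ U) (y : A ⟶ V), x ≫ j = y ≫ f → x ≫ a = y ≫ b := by
    intro A x y hxy
    have h1 : hP.lift x y hxy ≫ p = x := hP.lift_fst _ _ _
    have h2 : hP.lift x y hxy ≫ q = y := hP.lift_snd _ _ _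
    rw [← h1, Category.assoc, hab, ← Category.assoc, h2]
  obtain ⟨h, hh⟩ := ToposLike.exists_desc_of_epi (coprod.desc j f) hepi (coprod.desc a b) (by
    intro W' a₁ a₂ e
    apply hom_ext_of_coprod a₁
    · intro W'' s l hs
      have e1 : s ≫ a₁ ≫ coprod.desc a b = l ≫ a := by
        rw [← Category.assoc, hs, Category.assoc, coprod.inl_desc]
      have e1' : l ≫ j = (s ≫ a₂) ≫ coprod.desc j f := by
        rw [Category.assoc, ← e, ← Category.assoc, hs, Category.assoc, coprod.inl_desc]
      rw [e1, ← Category.assoc]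
      apply hom_ext_of_coprod (s ≫ a₂)
      · intro W''' s' l' hs'
        have e2 : s' ≫ (s ≫ a₂) ≫ coprod.desc a b = l' ≫ a := by
          rw [← Category.assoc, hs', Category.assoc, coprod.inl_desc]
        rw [e2]
        have : s' ≫ l = l' := by
          rw [← cancel_mono j, Category.assoc, e1', ← Category.assoc, hs', Category.assoc,
            coprod.inl_desc]
        rw [← Category.assoc, this]
      · intro W''' s' l' hs'
        have e2 : s' ≫ (s ≫ a₂) ≫ coprod.desc a b = l' ≫ b := by
          rw [← Category.assoc, hs', Category.assoc, coprod.inr_desc]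
        rw [e2, ← Category.assoc]
        apply huv
        rw [Category.assoc, e1', ← Category.assoc, hs', Category.assoc, coprod.inr_desc]
    · intro W'' s l hs
      have e1 : s ≫ a₁ ≫ coprod.desc a b = l ≫ b := by
        rw [← Category.assoc, hs, Category.assoc, coprod.inr_desc]
      have e1' : l ≫ f = (s ≫ a₂) ≫ coprod.desc j f := by
        rw [Category.assoc, ← e, ← Category.assoc, hs, Category.assoc, coprod.inr_desc]
      rw [e1, ← Category.assoc]
      apply hom_ext_of_coprod (s ≫ a₂)
      · intro W''' s' l' hs'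
        have e2 : s' ≫ (s ≫ a₂) ≫ coprod.desc a b = l' ≫ a := by
          rw [← Category.assoc, hs', Category.assoc, coprod.inl_desc]
        rw [e2, ← Category.assoc]
        symm
        apply huv
        rw [Category.assoc, e1', ← Category.assoc, hs', Category.assoc, coprod.inl_desc]
      · intro W''' s' l' hs'
        have e2 : s' ≫ (s ≫ a₂) ≫ coprod.desc a b = l' ≫ b := by
          rw [← Category.assoc, hs', Category.assoc, coprod.inr_desc]
        rw [e2, ← Category.assoc]
        apply hvv
        rw [Category.assoc, e1', ← Category.assoc, hs', Category.assoc, coprod.inr_desc])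
  refine ⟨h, ⟨?_, ?_⟩, ?_⟩
  · rw [← coprod.inl_desc j f, Category.assoc, hh, coprod.inl_desc]
  · rw [← coprod.inr_desc j f, Category.assoc, hh, coprod.inr_desc]
  · rintro h' ⟨h1, h2⟩
    rw [← cancel_epi (coprod.desc j f), hh]
    apply coprod.hom_ext
    · rw [← Category.assoc, coprod.inl_desc, coprod.inl_desc, h1]
    · rw [← Category.assoc, coprod.inr_desc, coprod.inr_desc, h2]

end topos

end Groth.Agent.Lib.Helper9.ElemDistPushout
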