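import Mathlib
import Groth.Prelude.Def_EssFT
import Groth.Agent.Lib.Helper4DVRSch
import Groth.Agent.Lib.Helper10LocImm5

/-!
# Universally closed + essentially of finite type ⟹ of finite type

Let `f : X ⟶ S` be separated and universally closed with `X` noetherian, `g : W ⟶ S` separated
and locally of finite type, `U ⊆ X` open and `j : U ⟶ W` an `S`-monomorphism with dense range
inducing isomorphisms on all stalks (e.g. the spectrum of a localization map).  Then the range
of `j` is open in `W`.  Consequently a separated universally closed morphism of noetherian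
schemes that is essentially of finite type is of finite type.
-/

open CategoryTheory CategoryTheory.Limits AlgebraicGeometry IsLocalRing TopologicalSpace

universe u

namespace Groth.Agent.Lib.Helper9.EssFTProper

set_option backward.isDefEq.respectTransparency false

/-- The residue field map of a morphism locally of finite type is essentially of finite type. -/
lemma essFiniteType_residueFieldMap' {X Y : Scheme.{u}} (f : X ⟶ Y) [LocallyOfFiniteType f]
    (x : X) : (f.residueFieldMap x).hom.EssFiniteType := by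
  have h1 : (f.stalkMap x).hom.EssFiniteType := LocallyOfFiniteType.stalkMap f x
  have h2 : (Y.residue (f x) ≫ f.residueFieldMap x).hom.EssFiniteType := by
    rw [Scheme.residue_residueFieldMap, CommRingCat.hom_comp]
    exact h1.comp (RingHom.FiniteType.essFiniteType
      (RingHom.FiniteType.of_surjective _ (X.residue_surjective x)))
  rw [CommRingCat.hom_comp] at h2
  exact RingHom.EssFiniteType.of_comp _ h2

/-- Valuative uniqueness on one leg of a (jointly monic) commutative square: if `φ : Spec V ⟶ P`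
generically factors through `h : U ⟶ P` and `ψ : Spec V ⟶ U` lifts the first component of `φ`,
where `h ≫ p₁` is a monomorphism and the other leg `g` is separated, then `φ = ψ ≫ h`. -/
theorem eq_comp_of_valuationSubring {X S W P U : Scheme.{u}} (f : X ⟶ S) (g : W ⟶ S)
    [IsSeparated g] (p₁ : P ⟶ X) (p₂ : P ⟶ W) (hsq : p₁ ≫ f = p₂ ≫ g)
    (hext : ∀ {T : Scheme.{u}} (a b : T ⟶ P), a ≫ p₁ = b ≫ p₁ → a ≫ p₂ = b ≫ p₂ → a = b)
    (h : U ⟶ P) [Mono (h ≫ p₁)] {L : Type u} [Field L] (V : ValuationSubring L)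
    (φ : Spec (CommRingCat.of V) ⟶ P) (ψ : Spec (CommRingCat.of V) ⟶ U)
    (a : Spec (CommRingCat.of L) ⟶ U)
    (hgen : Spec.map (CommRingCat.ofHom V.subtype) ≫ φ = a ≫ h)
    (hψ : ψ ≫ h ≫ p₁ = φ ≫ p₁) : φ = ψ ≫ h := by
  have hgenψ : Spec.map (CommRingCat.ofHom V.subtype) ≫ ψ = a := by
    rw [← cancel_mono (h ≫ p₁), Category.assoc, hψ, ← Category.assoc, hgen, Category.assoc]
  have halg : Spec.map (CommRingCat.ofHom (algebraMap V L)) =
      Spec.map (CommRingCat.ofHom V.subtype) := rfl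
  let S₂ : ValuativeCommSq g :=
    { R := V, K := L, i₁ := a ≫ h ≫ p₂, i₂ := φ ≫ p₂ ≫ g,
      commSq := ⟨by rw [halg, reassoc_of% hgen]; simp only [Category.assoc]⟩ }
  have huniq := IsSeparated.valuativeCriterion g S₂
  have h2 : ψ ≫ h ≫ p₂ = φ ≫ p₂ := by
    have hh := huniq.elim ⟨ψ ≫ h ≫ p₂, by
        change Spec.map (CommRingCat.ofHom (algebraMap V L)) ≫ ψ ≫ h ≫ p₂ = a ≫ h ≫ p₂
        rw [halg, ← Category.assoc, hgenψ], by
        change (ψ ≫ h ≫ p₂) ≫ g = φ ≫ p₂ ≫ g
        rw [Category.assoc, Category.assoc, ← hsq, ← Category.assoc, ← Category.assoc,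
          Category.assoc ψ, hψ, Category.assoc, hsq]⟩
      ⟨φ ≫ p₂, by
        change Spec.map (CommRingCat.ofHom (algebraMap V L)) ≫ φ ≫ p₂ = a ≫ h ≫ p₂
        rw [halg, ← Category.assoc, hgen, Category.assoc], by
        change (φ ≫ p₂) ≫ g = φ ≫ p₂ ≫ g
        rw [Category.assoc]⟩
    exact congrArg CommSq.LiftStruct.l hh
  exact hext _ _ (by rw [Category.assoc, hψ]) (by rw [Category.assoc, h2])

/-- Specializations of points of the range of `h` stay in the range, provided DVR-points of `P`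
centred at the specialization and generically in the range factor through `h`. -/
theorem mem_range_of_specializes_of_factors {P U : Scheme.{u}} [IsLocallyNoetherian P]
    (h : U ⟶ P) [LocallyOfFiniteType h] (u' : U) (z : P) (hz : h u' ⤳ z)
    (H : ∀ (V : ValuationSubring (U.residueField u')), IsDiscreteValuationRing V →
      ∀ φ : Spec (CommRingCat.of V) ⟶ P, φ (closedPoint V) = z →
        Spec.map (CommRingCat.ofHom V.subtype) ≫ φ = U.fromSpecResidueField u' ≫ h →
        ∃ ψ : Spec (CommRingCat.of V) ⟶ U, φ = ψ ≫ h) : z ∈ Set.range h := by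
  by_cases hne : h u' = z
  · exact ⟨u', hne⟩
  have hφ : (h.residueFieldMap u').hom.EssFiniteType := essFiniteType_residueFieldMap' h u'
  obtain ⟨V, hV, gP, hgP1, hgP2⟩ := Groth.Agent.Lib.Helper4.DVRSch.exists_dvr_hom hz hne
    (L := U.residueField u') (h.residueFieldMap u') hφ
  have hj1 : Spec.map (h.residueFieldMap u') ≫ P.fromSpecResidueField (h u') =
      U.fromSpecResidueField u' ≫ h := Scheme.Hom.SpecMap_residueFieldMap_fromSpecResidueField h u'
  obtain ⟨ψ, hψ⟩ := H V hV gP hgP2 (by rw [hgP1, hj1])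
  exact ⟨ψ (closedPoint V), by rw [← Scheme.Hom.comp_apply, ← hψ, hgP2]⟩

/-- A morphism from the spectrum of a local ring whose closed point lands on `j u`, where the
stalk map of `j` at `u` is an isomorphism, factors through `j`. -/
theorem exists_lift_of_isIso_stalkMap {U W : Scheme.{u}} (j : U ⟶ W) (u : U)
    [IsIso (j.stalkMap u)] {R : CommRingCat.{u}} [IsLocalRing R] (φ : Spec R ⟶ W)
    (hφ : φ (closedPoint R) = j u) : ∃ ψ : Spec R ⟶ U, ψ ≫ j = φ := by
  obtain ⟨⟨w, σ, hσ⟩, rfl⟩ := (SpecToEquivOfLocalRing W R).symm.surjective φ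
  simp only [SpecToEquivOfLocalRing_symm_apply] at hφ ⊢
  have hw : w = j u := by
    simpa [Scheme.fromSpecStalk_closedPoint] using hφ
  subst hw
  refine ⟨Spec.map σ ≫ Spec.map (inv (j.stalkMap u)) ≫ U.fromSpecStalk u, ?_⟩
  rw [Category.assoc, Category.assoc, ← Scheme.SpecMap_stalkMap_fromSpecStalk,
    ← Spec.map_comp_assoc, ← Spec.map_comp_assoc, IsIso.hom_inv_id_assoc]

/-- A morphism from the spectrum of a local ring lands in every open containing the image of the
closed point. -/
lemma range_subset_of_closedPoint_mem' {R : Type u} [CommRing R] [IsLocalRing R] {Y : Scheme.{u}}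
    (b : Spec (CommRingCat.of R) ⟶ Y) (V : Y.Opens) (h : b (closedPoint R) ∈ V) :
    Set.range b ⊆ (V : Set Y) := by
  rintro _ ⟨z, rfl⟩
  exact ((IsLocalRing.specializes_closedPoint z).map b.continuous).mem_open V.2 h

/-- **Openness of the range.** Let `f : X ⟶ S` be separated and universally closed with `X`
noetherian, `g : W ⟶ S` separated and locally of finite type, `U ⊆ X` open and `j : U ⟶ W` a
monomorphism over `S` with dense range all of whose stalk maps are isomorphisms. Then the range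
of `j` is open. -/
theorem isOpen_range_of_universallyClosed {X S W : Scheme.{u}} [IsNoetherian X]
    (f : X ⟶ S) [IsSeparated f] [UniversallyClosed f] (g : W ⟶ S) [IsSeparated g]
    [LocallyOfFiniteType g] (U : X.Opens) (j : (U : Scheme.{u}) ⟶ W) [Mono j]
    (hj : j ≫ g = U.ι ≫ f) (hdense : DenseRange j) (hstalk : ∀ u, IsIso (j.stalkMap u)) :
    IsOpen (Set.range j) := by
  obtain ⟨p₁, hp₁⟩ : ∃ p₁, p₁ = pullback.fst f g := ⟨_, rfl⟩
  obtain ⟨p₂, hp₂⟩ : ∃ p₂, p₂ = pullback.snd f g := ⟨_, rfl⟩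
  haveI : LocallyOfFiniteType p₁ := by rw [hp₁]; infer_instance
  haveI : UniversallyClosed p₂ := by rw [hp₂]; infer_instance
  haveI : IsLocallyNoetherian (pullback f g) := LocallyOfFiniteType.isLocallyNoetherian p₁
  obtain ⟨h, hh⟩ : ∃ h : (U : Scheme.{u}) ⟶ pullback f g, h = pullback.lift U.ι j hj.symm :=
    ⟨_, rfl⟩
  have h1 : h ≫ p₁ = U.ι := by rw [hh, hp₁]; exact pullback.lift_fst _ _ _
  have h2 : h ≫ p₂ = j := by rw [hh, hp₂]; exact pullback.lift_snd _ _ _
  have hsq : p₁ ≫ f = p₂ ≫ g := by rw [hp₁, hp₂]; exact pullback.condition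
  have hext : ∀ {T : Scheme.{u}} (a b : T ⟶ pullback f g), a ≫ p₁ = b ≫ p₁ → a ≫ p₂ = b ≫ p₂ →
      a = b := by
    intro T a b e1 e2
    rw [hp₁] at e1
    rw [hp₂] at e2
    exact pullback.hom_ext e1 e2
  haveI : LocallyOfFiniteType (h ≫ p₁) := by rw [h1]; infer_instance
  haveI : LocallyOfFiniteType h := locallyOfFiniteType_of_comp h p₁
  haveI : Mono (h ≫ p₁) := by rw [h1]; infer_instance
  haveI : Mono (h ≫ p₂) := by rw [h2]; infer_instance
  haveI : NoetherianSpace (U : Scheme.{u}) := (inferInstance : NoetherianSpace (U : Set X))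
  -- (i)
  have hi : ∀ z ∈ closure (Set.range h), p₁ z ∈ U → z ∈ Set.range h := by
    intro z hz hzU
    obtain ⟨u', hu'⟩ :=
      Groth.Agent.Lib.Helper4.DVRSch.exists_specializes_of_mem_closure_range h hz
    refine mem_range_of_specializes_of_factors h u' z hu' ?_
    intro V hV φ hφz hφgen
    have hr : Set.range (φ ≫ p₁) ⊆ Set.range U.ι := by
      simpa using range_subset_of_closedPoint_mem' (φ ≫ p₁) U
        (by rw [Scheme.Hom.comp_apply, hφz]; exact hzU)
    obtain ⟨ψ, hψ⟩ : ∃ ψ, ψ ≫ U.ι = φ ≫ p₁ :=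
      ⟨IsOpenImmersion.lift U.ι (φ ≫ p₁) hr, IsOpenImmersion.lift_fac _ _ _⟩
    exact ⟨ψ, eq_comp_of_valuationSubring f g p₁ p₂ hsq hext h V φ ψ _ hφgen
      (by rw [h1, hψ])⟩
  -- (ii)
  have hii : ∀ z ∈ closure (Set.range h), p₂ z ∈ Set.range j → z ∈ Set.range h := by
    rintro z hz ⟨u, hu⟩
    obtain ⟨u', hu'⟩ :=
      Groth.Agent.Lib.Helper4.DVRSch.exists_specializes_of_mem_closure_range h hz
    refine mem_range_of_specializes_of_factors h u' z hu' ?_
    intro V hV φ hφz hφgen
    haveI := hstalk u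
    obtain ⟨ψ, hψ⟩ := exists_lift_of_isIso_stalkMap j u (φ ≫ p₂)
      (by rw [Scheme.Hom.comp_apply, hφz, hu])
    exact ⟨ψ, eq_comp_of_valuationSubring g f p₂ p₁ hsq.symm (fun a b e1 e2 => hext a b e2 e1)
      h V φ ψ _ hφgen (by rw [h2, hψ])⟩
  have hclosed : IsClosed (p₂ '' (closure (Set.range h) ∩ (p₁ ⁻¹' (U : Set X))ᶜ)) :=
    p₂.isClosedMap _ (isClosed_closure.inter
      (U.isOpen.preimage p₁.continuous).isClosed_compl)
  have hclosed' : IsClosed (p₂ '' closure (Set.range h)) := p₂.isClosedMap _ isClosed_closure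
  have hall : ∀ w : W, w ∈ p₂ '' closure (Set.range h) := by
    intro w
    have hsub : Set.range j ⊆ p₂ '' closure (Set.range h) := by
      rintro _ ⟨u, rfl⟩
      exact ⟨h u, subset_closure ⟨u, rfl⟩, by rw [← Scheme.Hom.comp_apply, h2]⟩
    have := hclosed'.closure_subset_iff.mpr hsub
    rw [hdense.closure_range] at this
    exact this (Set.mem_univ w)
  have heq : Set.range j = (p₂ '' (closure (Set.range h) ∩ (p₁ ⁻¹' (U : Set X))ᶜ))ᶜ := by
    ext w
    constructor
    · rintro ⟨u, rfl⟩ ⟨z, ⟨hzZ, hzU⟩, hzw⟩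
      apply hzU
      obtain ⟨u₂, rfl⟩ := hii z hzZ ⟨u, hzw.symm⟩
      change p₁ (h u₂) ∈ U
      rw [← Scheme.Hom.comp_apply, h1]
      exact u₂.2
    · intro hw
      obtain ⟨z, hzZ, rfl⟩ := hall w
      by_cases hzU : p₁ z ∈ U
      · obtain ⟨u, rfl⟩ := hi z hzZ hzU
        exact ⟨u, by rw [← h2, Scheme.Hom.comp_apply]⟩
      · exact absurd ⟨z, ⟨hzZ, hzU⟩, rfl⟩ hw
  rw [heq]
  exact hclosed.isOpen_compl

open Groth.Agent.Lib.Helper10.LocImmLib in
/-- The affine-local step: an essentially finite type chart of a separated universally closed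
morphism from a noetherian scheme is of finite type. -/
theorem finiteType_appLE_of_essFiniteType {X S : Scheme.{u}} [IsNoetherian X] (f : X ⟶ S)
    [IsSeparated f] [UniversallyClosed f] (U₀ : S.affineOpens) (V₀ : X.affineOpens)
    (e : V₀.1 ≤ f ⁻¹ᵁ U₀.1) (hess : (f.appLE U₀.1 V₀.1 e).hom.EssFiniteType) :
    (f.appLE U₀.1 V₀.1 e).hom.FiniteType := by
  letI : Algebra Γ(S, U₀.1) Γ(X, V₀.1) := (f.appLE U₀.1 V₀.1 e).hom.toAlgebra
  haveI : Algebra.EssFiniteType Γ(S, U₀.1) Γ(X, V₀.1) := hess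
  haveI : IsNoetherianRing Γ(X, V₀.1) := IsLocallyNoetherian.component_noetherian V₀
  obtain ⟨C, hC⟩ : ∃ C : Subalgebra Γ(S, U₀.1) Γ(X, V₀.1),
      C = Algebra.EssFiniteType.subalgebra Γ(S, U₀.1) Γ(X, V₀.1) := ⟨_, rfl⟩
  haveI : Algebra.FiniteType Γ(S, U₀.1) C := by rw [hC]; infer_instance
  obtain ⟨T, hT⟩ : ∃ T : Submonoid C, IsLocalization T Γ(X, V₀.1) := by
    subst hC
    exact ⟨Algebra.EssFiniteType.submonoid Γ(S, U₀.1) Γ(X, V₀.1), inferInstance⟩
  -- the schemes and morphisms
  obtain ⟨gW, hgW⟩ : ∃ gW : Spec (CommRingCat.of C) ⟶ S,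
      gW = Spec.map (CommRingCat.ofHom (algebraMap Γ(S, U₀.1) C)) ≫ U₀.2.fromSpec := ⟨_, rfl⟩
  obtain ⟨j', hj'⟩ : ∃ j' : Spec (CommRingCat.of Γ(X, V₀.1)) ⟶ Spec (CommRingCat.of C),
      j' = Spec.map (CommRingCat.ofHom (algebraMap C Γ(X, V₀.1))) := ⟨_, rfl⟩
  have hft : (algebraMap Γ(S, U₀.1) C).FiniteType := RingHom.finiteType_algebraMap.mpr inferInstance
  haveI : LocallyOfFiniteType gW := by
    haveI : LocallyOfFiniteType (Spec.map (CommRingCat.ofHom (algebraMap Γ(S, U₀.1) C))) :=
      (HasRingHomProperty.Spec_iff (P := @LocallyOfFiniteType)).mpr hft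
    rw [hgW]; infer_instance
  haveI : IsSeparated gW := by rw [hgW]; infer_instance
  have hloc' : LocImm.IsLocalizing j' := by
    rw [hj']
    exact (HasRingHomProperty.Spec_iff (P := @LocImm.IsLocalizing)).mpr
      (RingHom.locally_of isLocHom_respectsIso _ (isLocHom_algebraMap T))
  have hinj' : Function.Injective j'.base := by
    rw [hj']
    exact PrimeSpectrum.localization_comap_injective Γ(X, V₀.1) T
  have hli' : LocImm.IsLocImmersion j' := ⟨hloc', hinj'⟩
  haveI : Mono j' := Groth.Agent.Lib.Helper27.LocImmLib.mono_of_isLocImmersion j' hli'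
  obtain ⟨j, hj⟩ : ∃ j : (V₀.1 : Scheme.{u}) ⟶ Spec (CommRingCat.of C),
      j = V₀.2.isoSpec.hom ≫ j' := ⟨_, rfl⟩
  haveI : Mono j := by rw [hj]; infer_instance
  have hcomm : j ≫ gW = V₀.1.ι ≫ f := by
    have hcomp : CommRingCat.ofHom (algebraMap Γ(S, U₀.1) C) ≫
        CommRingCat.ofHom (algebraMap C Γ(X, V₀.1)) = f.appLE U₀.1 V₀.1 e := by
      ext x
      rfl
    rw [hj, hgW, hj', Category.assoc, ← Spec.map_comp_assoc, hcomp,
      IsAffineOpen.SpecMap_appLE_fromSpec f U₀.2 V₀.2 e, ← Category.assoc,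
      IsAffineOpen.isoSpec_hom_fromSpec]
  have hrange : Set.range j = Set.range j' := by
    rw [hj]
    ext w
    constructor
    · rintro ⟨v, rfl⟩
      exact ⟨V₀.2.isoSpec.hom v, rfl⟩
    · rintro ⟨v, rfl⟩
      refine ⟨V₀.2.isoSpec.inv v, ?_⟩
      change (V₀.2.isoSpec.inv ≫ V₀.2.isoSpec.hom ≫ j') v = j' v
      rw [Iso.inv_hom_id_assoc]
      rfl
  have hdense' : DenseRange j' := by
    rw [hj']
    refine (PrimeSpectrum.denseRange_comap_iff_ker_le_nilRadical _).mpr ?_
    have : RingHom.ker (algebraMap C Γ(X, V₀.1)) = ⊥ :=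
      (RingHom.injective_iff_ker_eq_bot _).mp Subtype.val_injective
    change RingHom.ker (algebraMap C Γ(X, V₀.1)) ≤ _
    rw [this]
    exact bot_le
  have hdense : DenseRange j := by
    rw [DenseRange, hrange]
    exact hdense'
  have hstalk' : ∀ v, IsIso (j'.stalkMap v) := isIso_stalkMap_of_isLocalizing j' hloc'
  have hstalk : ∀ v, IsIso (j.stalkMap v) := by
    intro v
    haveI := hstalk' (V₀.2.isoSpec.hom v)
    rw [hj, Scheme.Hom.stalkMap_comp]
    infer_instance
  have hopen : IsOpen (Set.range j') := by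
    rw [← hrange]
    exact isOpen_range_of_universallyClosed f gW V₀.1 j hcomm hdense hstalk
  haveI : IsNoetherian (Spec (CommRingCat.of Γ(X, V₀.1))) := inferInstance
  have hemb : Topology.IsEmbedding (fun x => j' x) := isEmbedding_of_isLocImmersion j' hli'
  haveI : ∀ v, IsIso (j'.stalkMap v) := hstalk'
  haveI : IsOpenImmersion j' := IsOpenImmersion.of_isIso_stalkMap j' ⟨hemb, hopen⟩
  have hft' : (algebraMap C Γ(X, V₀.1)).FiniteType := by
    have : LocallyOfFiniteType j' := inferInstance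
    rw [hj'] at this
    exact (HasRingHomProperty.Spec_iff (P := @LocallyOfFiniteType)).mp this
  have hfin := hft'.comp hft
  have hcomp' : (algebraMap C Γ(X, V₀.1)).comp (algebraMap Γ(S, U₀.1) C) =
      (f.appLE U₀.1 V₀.1 e).hom := by
    ext x
    rfl
  rw [hcomp'] at hfin
  exact hfin

/-- A separated universally closed morphism from a noetherian scheme which is locally essentially
of finite type is locally of finite type. -/
theorem locallyOfFiniteType_of_universallyClosed {X S : Scheme.{u}} [IsNoetherian X] (f : X ⟶ S)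
    [IsSeparated f] [UniversallyClosed f] [EssFT.LocallyEssFiniteType f] :
    LocallyOfFiniteType f := by
  rw [HasRingHomProperty.iff_exists_appLE (P := @LocallyOfFiniteType)
    (RingHom.finiteType_stableUnderComposition.stableUnderCompositionWithLocalizationAway
      RingHom.finiteType_holdsForLocalizationAway).1]
  intro x
  obtain ⟨U₀, V₀, hx, e, hess⟩ :=
    EssFT.LocallyEssFiniteType.exists_appLE_essFiniteType (f := f) x
  exact ⟨U₀, V₀, hx, e, finiteType_appLE_of_essFiniteType f U₀ V₀ e hess⟩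

end Groth.Agent.Lib.Helper9.EssFTProper
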