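import Groth.Agent.Lib.Helper9ExtNat
import Groth.Agent.Lib.Helper16SmallEtale
import Groth.Prelude.Def_EtAcyc

/-!
# A diagram chase for comparison maps of Ext groups, and `L`-torsion of quotients (helper9)
-/

set_option autoImplicit false

universe w w' v v' u u'

open CategoryTheory CategoryTheory.Limits Abelian

namespace Groth.Agent.Lib.Helper9.ExtNat

open Groth.Agent.Lib.Helper16.ExtCompare

section Chase

variable {𝒞 : Type u} [Category.{v} 𝒞] [Abelian 𝒞] [EnoughInjectives 𝒞] [HasExt.{w} 𝒞]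
variable {𝒟 : Type u'} [Category.{v'} 𝒟] [Abelian 𝒟] [HasExt.{w'} 𝒟]
variable (R : 𝒞 ⥤ 𝒟) [R.Additive] [PreservesFiniteLimits R] [PreservesFiniteColimits R]

lemma cmp_comp_extClass {A : 𝒞} {B : 𝒟} (w : B ⟶ R.obj A) {S : ShortComplex 𝒞} (hS : S.ShortExact)
    (n : ℕ) (x : Ext.{w} A S.X₃ n) :
    cmp R w S.X₁ (n + 1) (x.comp hS.extClass rfl) =
      (cmp R w S.X₃ n x).comp (hS.map_of_exact R).extClass rfl := by
  rw [cmp_apply, cmp_apply, mapExactFunctor_comp_extClass R hS x]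
  exact (Ext.comp_assoc _ _ _ _ _ (by omega)).symm

/-- if the comparison map is injective in degree `n+1` and surjective in degree `n` on the
quotient, then a class whose image in the middle term is in the range of the comparison map
is itself in the range. -/
theorem mem_range_cmp_of_shortExact {A : 𝒞} {B : 𝒟} (w : B ⟶ R.obj A) {S : ShortComplex 𝒞}
    (hS : S.ShortExact) (n : ℕ)
    (hinj : Function.Injective (cmp R w S.X₃ (n + 1)))
    (hsurj : Function.Surjective (cmp R w S.X₃ n))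
    (ξ : Ext.{w'} B (R.obj S.X₁) (n + 1))
    (hξ : ξ.comp (Ext.mk₀ (R.map S.f)) (add_zero _) ∈ Set.range (cmp R w S.X₂ (n + 1))) :
    ξ ∈ Set.range (cmp R w S.X₁ (n + 1)) := by
  obtain ⟨η, hη⟩ := hξ
  -- step 1
  have h1 : η.comp (Ext.mk₀ S.g) (add_zero _) = 0 := by
    apply hinj
    rw [cmp_postcomp, hη, map_zero, Ext.comp_assoc_of_third_deg_zero, Ext.mk₀_comp_mk₀,
      ← R.map_comp, S.zero, R.map_zero, Ext.mk₀_zero, Ext.comp_zero]
  -- step 2
  obtain ⟨ζ, hζ⟩ := Ext.covariant_sequence_exact₂ A hS η h1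
  -- step 3
  have h3 : (ξ - cmp R w S.X₁ (n + 1) ζ).comp (Ext.mk₀ (R.map S.f)) (add_zero _) = 0 := by
    rw [sub_eq_add_neg, Ext.add_comp, Ext.neg_comp, ← cmp_postcomp, hζ, hη, add_neg_cancel]
  obtain ⟨θ', hθ'⟩ := Ext.covariant_sequence_exact₁ B (hS.map_of_exact R) _ h3 rfl
  obtain ⟨θ, rfl⟩ := hsurj θ'
  refine ⟨ζ + θ.comp hS.extClass rfl, ?_⟩
  have e := (cmp_comp_extClass R w hS n θ).trans hθ'
  rw [map_add, e]
  abel

end Chase

end Groth.Agent.Lib.Helper9.ExtNat

namespace Groth.Agent.Lib.Helper9.EtAcycChase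

open AlgebraicGeometry Opposite
open Groth.Agent.Lib.Helper16.SmallEtale

universe u₀

set_option backward.isDefEq.respectTransparency.types false in
/-- a quotient of an `L`-torsion sheaf is `L`-torsion -/
lemma isLTorsion_of_epi {X : Scheme.{u₀}} {L : Set ℕ} {G Q : EtCoh.Ab X} (π : G ⟶ Q) [Epi π]
    (hG : EtAcyc.IsLTorsion L G) : EtAcyc.IsLTorsion L Q := by
  intro U s x
  have hls : Sheaf.IsLocallySurjective π := (Sheaf.isLocallySurjective_iff_epi' _ π).2 inferInstance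
  have hmem := Presheaf.imageSieve_mem X.smallEtaleTopology π.hom (U := op U) s
  rw [mem_smallEtale_iff] at hmem
  obtain ⟨W, g, y, ⟨t, ht⟩, hy⟩ := hmem x
  obtain ⟨V, g', m, ⟨v, hv⟩, hm, hz⟩ := hG W t y
  refine ⟨V, g' ≫ g, m, ⟨v, ?_⟩, hm, ?_⟩
  · have : (g' ≫ g).left = g'.left ≫ g.left := rfl
    rw [this]
    change g.left (g'.left v) = x
    rw [show g'.left v = y from hv, hy]
  · have e1 : Q.obj.map (g' ≫ g).op s = Q.obj.map g'.op (Q.obj.map g.op s) := by
      rw [op_comp, Functor.map_comp]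
      rfl
    rw [e1, ← ht]
    have nat := NatTrans.naturality_apply π.hom g'.op t
    rw [← nat, ← map_nsmul, hz, map_zero]

end Groth.Agent.Lib.Helper9.EtAcycChase
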