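import Mathlib
import Groth.Agent.Lib.Helper9EtDim

/-!
# Dimension of local rings along locally quasi-finite and flat morphisms (helper9)
-/

set_option autoImplicit false
set_option backward.isDefEq.respectTransparency false

universe u

open CategoryTheory AlgebraicGeometry TopologicalSpace

namespace Groth.Agent.Lib.Helper9.EtDim

/-- A quasi-finite algebra has at most the dimension of the base. -/
theorem ringKrullDim_le_of_quasiFinite {R S : Type*} [CommRing R] [CommRing S] [Algebra R S]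
    [Algebra.QuasiFinite R S] : ringKrullDim S ≤ ringKrullDim R := by
  apply Order.krullDim_le_of_strictMono (PrimeSpectrum.comap (algebraMap R S))
  intro P Q hPQ
  have hle : PrimeSpectrum.comap (algebraMap R S) P ≤ PrimeSpectrum.comap (algebraMap R S) Q :=
    Ideal.comap_mono hPQ.le
  refine lt_of_le_of_ne hle (fun heq => ?_)
  have h1 : P.asIdeal.under R = Q.asIdeal.under R := congrArg PrimeSpectrum.asIdeal heq
  have h2 : P.asIdeal = Q.asIdeal :=
    Algebra.QuasiFinite.eq_of_le_of_under_eq P.asIdeal Q.asIdeal hPQ.le h1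
  exact hPQ.ne (PrimeSpectrum.ext h2)

/-- Locally quasi-finite morphisms do not raise the dimension of local rings. -/
theorem ringKrullDim_stalk_le_of_locallyQuasiFinite {X Y : Scheme.{u}} (f : X ⟶ Y)
    [LocallyQuasiFinite f] (x : X) :
    ringKrullDim (X.presheaf.stalk x) ≤ ringKrullDim (Y.presheaf.stalk (f x)) := by
  obtain ⟨U, hU, hxU, -⟩ := exists_isAffineOpen_mem_and_subset (X := Y) (x := f x) (U := ⊤) trivial
  obtain ⟨V, hV, hxV, hVU⟩ := exists_isAffineOpen_mem_and_subset (X := X) (x := x) (U := f ⁻¹ᵁ U) hxU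
  have e : V ≤ f ⁻¹ᵁ U := hVU
  have hφ : (f.appLE U V e).hom.QuasiFinite :=
    HasRingHomProperty.appLE (P := @LocallyQuasiFinite) f inferInstance ⟨U, hU⟩ ⟨V, hV⟩ e
  letI : Algebra Γ(Y, U) Γ(X, V) := (f.appLE U V e).hom.toAlgebra
  haveI : Algebra.QuasiFinite Γ(Y, U) Γ(X, V) := hφ
  letI : Algebra Γ(Y, U) (Y.presheaf.stalk (f x)) := Y.presheaf.algebra_section_stalk ⟨f x, hxU⟩
  letI : Algebra Γ(X, V) (X.presheaf.stalk x) := X.presheaf.algebra_section_stalk ⟨x, hxV⟩
  letI : Algebra (Y.presheaf.stalk (f x)) (X.presheaf.stalk x) := (f.stalkMap x).hom.toAlgebra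
  letI : Algebra Γ(Y, U) (X.presheaf.stalk x) :=
    ((algebraMap Γ(X, V) (X.presheaf.stalk x)).comp (algebraMap Γ(Y, U) Γ(X, V))).toAlgebra
  haveI : IsScalarTower Γ(Y, U) Γ(X, V) (X.presheaf.stalk x) :=
    IsScalarTower.of_algebraMap_eq (fun _ => rfl)
  haveI : IsScalarTower Γ(Y, U) (Y.presheaf.stalk (f x)) (X.presheaf.stalk x) := by
    refine IsScalarTower.of_algebraMap_eq (fun a => ?_)
    simp only [RingHom.algebraMap_toAlgebra, Scheme.Hom.appLE, RingHom.coe_comp,
      Function.comp_apply, CommRingCat.hom_comp]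
    erw [Scheme.Hom.germ_stalkMap_apply f U x hxU a]
    exact X.presheaf.germ_res_apply _ _ _ _
  haveI := hV.isLocalization_stalk ⟨x, hxV⟩
  haveI : Algebra.QuasiFinite Γ(Y, U) (X.presheaf.stalk x) :=
    Algebra.QuasiFinite.of_isLocalization (S := Γ(X, V)) (hV.primeIdealOf ⟨x, hxV⟩).asIdeal.primeCompl
  haveI : Algebra.QuasiFinite (Y.presheaf.stalk (f x)) (X.presheaf.stalk x) :=
    Algebra.QuasiFinite.of_restrictScalars Γ(Y, U) _ _
  exact ringKrullDim_le_of_quasiFinite

/-- Flat morphisms do not lower the dimension of local rings. -/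
theorem ringKrullDim_stalk_le_of_flat {X Y : Scheme.{u}} (f : X ⟶ Y) [Flat f] (x : X) :
    ringKrullDim (Y.presheaf.stalk (f x)) ≤ ringKrullDim (X.presheaf.stalk x) := by
  algebraize [(f.stalkMap x).hom]
  have hloc : IsLocalHom (algebraMap (Y.presheaf.stalk (f x)) (X.presheaf.stalk x)) :=
    inferInstanceAs <| IsLocalHom (f.stalkMap x).hom
  have hflat : Module.Flat (Y.presheaf.stalk (f x)) (X.presheaf.stalk x) := by
    have := Flat.stalkMap f x
    rwa [RingHom.Flat, ← RingHom.algebraMap_toAlgebra (f.stalkMap x).hom] at this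
  have : Module.FaithfullyFlat (Y.presheaf.stalk (f x)) (X.presheaf.stalk x) :=
    .of_flat_of_isLocalHom
  rw [ringKrullDim, Order.krullDim]
  apply iSup_le
  intro l
  obtain ⟨P, hP⟩ := PrimeSpectrum.comap_surjective_of_faithfullyFlat
    (A := Y.presheaf.stalk (f x)) (B := X.presheaf.stalk x) l.last
  haveI : P.asIdeal.LiesOver l.last.asIdeal := ⟨by rw [← hP]; rfl⟩
  obtain ⟨L, hlen, -, -⟩ := Ideal.exists_ltSeries_of_hasGoingDown l P.asIdeal
  rw [← hlen]
  exact Order.LTSeries.length_le_krullDim L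

end Groth.Agent.Lib.Helper9.EtDim
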