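import Groth.Agent.Lib.Helper9EtMVCompare
import Groth.Agent.Lib.Helper9JContAll

/-!
# Sheaves with vanishing `H¹` on all étale schemes restrict surjectively along open immersions
(helper9)
-/

set_option autoImplicit false
universe u
open CategoryTheory CategoryTheory.Limits AlgebraicGeometry Opposite Abelian

namespace Groth.Agent.Lib.Helper9.EtFlasque

open Groth.Agent.Lib.Helper9.EtPull Groth.Agent.Lib.Helper9.EtMV

section Additive

variable {X : Scheme.{u}}

lemma zhEquiv_eq (P : X.Etale) (F : EtCoh.Ab X) (φ : Zh P ⟶ F) :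
    zhEquiv P F φ = (φ.hom.app (op P)).hom (zhEquiv P (Zh P) (𝟙 _)) := by
  have := zhEquiv_comp P (𝟙 (Zh P)) φ
  rwa [Category.id_comp] at this

lemma zhEquiv_add (P : X.Etale) (F : EtCoh.Ab X) (φ₁ φ₂ : Zh P ⟶ F) :
    zhEquiv P F (φ₁ + φ₂) = zhEquiv P F φ₁ + zhEquiv P F φ₂ := by
  rw [zhEquiv_eq, zhEquiv_eq P F φ₁, zhEquiv_eq P F φ₂, Sheaf.Hom.add_app]
  rfl

lemma zhEquiv_sub (P : X.Etale) (F : EtCoh.Ab X) (φ₁ φ₂ : Zh P ⟶ F) :
    zhEquiv P F (φ₁ - φ₂) = zhEquiv P F φ₁ - zhEquiv P F φ₂ := by
  have := zhEquiv_add P F (φ₁ - φ₂) φ₂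
  rw [sub_add_cancel] at this
  rw [this, add_sub_cancel_right]

end Additive

section MV0

variable {T : Scheme.{u}} {P1 P2 P12 : T.Etale} (p1 : P12 ⟶ P1) (p2 : P12 ⟶ P2) [Mono p2]

/-- if `H¹(T, G) = 0`, the Mayer–Vietoris difference map on sections is surjective -/
theorem exists_sub_eq (H : Glues p1 p2) (G : EtCoh.Ab T) (h1 : Subsingleton (EtCoh.H T G 1))
    (s : (G.obj.obj (op P12) : AddCommGrpCat.{u + 1})) :
    ∃ (a : (G.obj.obj (op P1) : AddCommGrpCat.{u + 1}))
      (b : (G.obj.obj (op P2) : AddCommGrpCat.{u + 1})),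
      (G.obj.map p1.op).hom a - (G.obj.map p2.op).hom b = s := by
  have hS := mvComplex_shortExact H
  let φ : Zh P12 ⟶ G := (zhEquiv P12 G).symm s
  obtain ⟨x₂, hx₂⟩ := Ext.contravariant_sequence_exact₁ hS G (Ext.mk₀ φ : Ext.{u + 1} _ _ 0)
    (show 1 + 0 = 1 by omega) (@Subsingleton.elim _ h1 _ _)
  obtain ⟨ψ₀, rfl⟩ := (Ext.mk₀_bijective _ _).2 x₂
  rw [Ext.mk₀_comp_mk₀] at hx₂
  have hφ₀ : (mvComplex p1 p2).f ≫ ψ₀ = φ := (Ext.mk₀_bijective _ _).1 hx₂
  obtain ⟨ψ, hφ⟩ : ∃ ψ : Zh P1 ⊞ Zh P2 ⟶ G, biprod.lift (ZhMap p1) (-ZhMap p2) ≫ ψ = φ :=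
    ⟨ψ₀, hφ₀⟩
  refine ⟨zhEquiv P1 G (biprod.inl ≫ ψ), zhEquiv P2 G (biprod.inr ≫ ψ), ?_⟩
  rw [← zhEquiv_map, ← zhEquiv_map, ← zhEquiv_sub]
  have e : ZhMap p1 ≫ biprod.inl ≫ ψ - ZhMap p2 ≫ biprod.inr ≫ ψ = φ := by
    rw [← hφ]
    have hψ : ψ = biprod.fst ≫ biprod.inl ≫ ψ + biprod.snd ≫ biprod.inr ≫ ψ := by
      rw [← Category.assoc, ← Category.assoc, ← Preadditive.add_comp, biprod.total,
        Category.id_comp]
    conv_rhs => rw [hψ]
    rw [Preadditive.comp_add, biprod.lift_fst_assoc, biprod.lift_snd_assoc,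
      Preadditive.neg_comp, sub_eq_add_neg]
  rw [e]
  exact (zhEquiv P12 G).apply_symm_apply s

end MV0

section Glue

variable {X : Scheme.{u}} {U V : X.Etale} (g : V ⟶ U) [IsOpenImmersion g.left]

/-- two copies of `U` glued along the open `V` -/
noncomputable abbrev Wl : Scheme.{u} := pushout g.left g.left

noncomputable abbrev inl : U.left ⟶ Wl g := pushout.inl g.left g.left

noncomputable abbrev inr : U.left ⟶ Wl g := pushout.inr g.left g.left

instance : IsOpenImmersion (inl g) :=
  inferInstanceAs (IsOpenImmersion (colimit.ι (span g.left g.left) WalkingSpan.left))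

instance : IsOpenImmersion (inr g) :=
  inferInstanceAs (IsOpenImmersion (colimit.ι (span g.left g.left) WalkingSpan.right))

/-- the structure morphism of the glued scheme -/
noncomputable def Whom : Wl g ⟶ X := pushout.desc U.hom U.hom rfl

@[reassoc]
lemma inl_Whom : inl g ≫ Whom g = U.hom := pushout.inl_desc _ _ _

@[reassoc]
lemma inr_Whom : inr g ≫ Whom g = U.hom := pushout.inr_desc _ _ _

instance etale_Whom : AlgebraicGeometry.Etale (Whom g) := by
  apply IsZariskiLocalAtSource.of_openCover (P := EtCoh.etaleMP.{u})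
    (Scheme.IsLocallyDirected.openCover (span g.left g.left))
  intro i
  rcases i with _ | i
  · have : colimit.ι (span g.left g.left) none = g.left ≫ inl g :=
      (colimit.w (span g.left g.left) (WidePushoutShape.Hom.init WalkingPair.left)).symm
    have e : colimit.ι (span g.left g.left) none ≫ Whom g = V.hom := by
      rw [this]
      exact (Category.assoc _ _ _).trans ((congrArg (fun m => g.left ≫ m) (inl_Whom g)).trans
        (MorphismProperty.Over.w g))
    change AlgebraicGeometry.Etale (colimit.ι (span g.left g.left) none ≫ Whom g)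
    rw [e]
    exact V.prop
  · cases i
    · change AlgebraicGeometry.Etale (inl g ≫ Whom g)
      rw [inl_Whom]
      exact U.prop
    · change AlgebraicGeometry.Etale (inr g ≫ Whom g)
      rw [inr_Whom]
      exact U.prop

instance mono_gl_inl : Mono (g.left ≫ inl g) := mono_comp _ _

/-- the three objects of the small étale site of the glued scheme -/
noncomputable abbrev Q1 : (Wl g).Etale := obj (inl g)

noncomputable abbrev Q2 : (Wl g).Etale := obj (inr g)

noncomputable abbrev Q12 : (Wl g).Etale := obj (g.left ≫ inl g)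

noncomputable abbrev q1 : Q12 g ⟶ Q1 g := rr g.left (inl g) (g.left ≫ inl g) rfl

noncomputable abbrev q2 : Q12 g ⟶ Q2 g :=
  rr g.left (inr g) (g.left ≫ inl g) (pushout.condition (f := g.left) (g := g.left)).symm

set_option backward.isDefEq.respectTransparency.types false in
instance mono_q2 : Mono (q2 g) := by
  haveI : Mono (q2 g).left := by
    change Mono g.left
    infer_instance
  exact mono_of_mono_left _

set_option backward.isDefEq.respectTransparency.types false in
lemma obj_hom {T S : Scheme.{u}} (j : T ⟶ S) [AlgebraicGeometry.Etale j] : (obj j).hom = j :=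
  Category.id_comp _

set_option backward.isDefEq.respectTransparency.types false in
lemma mono_from_obj {T S : Scheme.{u}} (j : T ⟶ S) [AlgebraicGeometry.Etale j] [Mono j] :
    Mono ((EtCore.topIsTerminal S).from (obj j)) := by
  haveI : Mono ((EtCore.topIsTerminal S).from (obj j)).left := by
    rw [from_left, obj_hom]
    exact ‹Mono j›
  exact mono_of_mono_left _

lemma inl_eq_inr_iff (x y : U.left) :
    inl g x = inr g y ↔ ∃ v : V.left, g.left v = x ∧ g.left v = y := by
  have h := Scheme.IsLocallyDirected.ι_eq_ι_iff (F := span g.left g.left)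
    (i := WalkingSpan.left) (j := WalkingSpan.right) (xi := x) (xj := y)
  constructor
  · intro e
    obtain ⟨k, fi, fj, z, h1, h2⟩ := h.1 e
    rcases k with _ | k
    · have e1 : fi = WidePushoutShape.Hom.init WalkingPair.left := Subsingleton.elim _ _
      have e2 : fj = WidePushoutShape.Hom.init WalkingPair.right := Subsingleton.elim _ _
      subst e1 e2
      exact ⟨z, h1, h2⟩
    · exfalso
      match k, fi, fj with
      | WalkingPair.left, _, fj => exact nomatch fj
      | WalkingPair.right, fi, _ => exact nomatch fi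
  · rintro ⟨v, rfl, rfl⟩
    have := congrArg (fun m : V.left ⟶ Wl g => m v) (pushout.condition (f := g.left) (g := g.left))
    exact this

set_option backward.isDefEq.respectTransparency.types false in
theorem glues_glue : Glues (q1 g) (q2 g) := by
  apply glues_of_cover
  · exact mono_from_obj _
  · exact mono_from_obj _
  · intro Z a b
    have ha : a.left ≫ inl g = Z.hom := by
      have := MorphismProperty.Over.w a
      rwa [obj_hom] at this
    have hb : b.left ≫ inr g = Z.hom := by
      have := MorphismProperty.Over.w b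
      rwa [obj_hom] at this
    have hpt : ∀ z : Z.left, ∃ v : V.left, g.left v = a.left z ∧ g.left v = b.left z := by
      intro z
      apply (inl_eq_inr_iff g _ _).1
      have e := ha.trans hb.symm
      exact congrArg (fun m : Z.left ⟶ Wl g => m z) e
    have hrange : Set.range a.left ⊆ Set.range g.left := by
      rintro _ ⟨z, rfl⟩
      obtain ⟨v, hv, -⟩ := hpt z
      exact ⟨v, hv⟩
    let c : Z.left ⟶ V.left := IsOpenImmersion.lift g.left a.left hrange
    have hc : c ≫ g.left = a.left := IsOpenImmersion.lift_fac _ _ _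
    have hcond : g.left ≫ inl g = g.left ≫ inr g := pushout.condition
    have hc' : c ≫ g.left = b.left := by
      apply (cancel_mono (inr g)).1
      refine Eq.trans ?_ (ha.trans hb.symm)
      refine (Category.assoc _ _ _).trans ?_
      refine (congrArg (fun m => c ≫ m) hcond.symm).trans ?_
      refine (Category.assoc _ _ _).symm.trans ?_
      exact congrArg (fun m => m ≫ inl g) hc
    refine ⟨MorphismProperty.Over.homMk c ?_, ?_, ?_⟩
    · rw [obj_hom]
      exact (Category.assoc _ _ _).symm.trans ((congrArg (fun m => m ≫ inl g) hc).trans ha)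
    · apply MorphismProperty.Over.Hom.ext
      exact hc
    · apply MorphismProperty.Over.Hom.ext
      exact hc'
  · intro x
    obtain ⟨i, xi, h⟩ := Scheme.IsLocallyDirected.ι_jointly_surjective (span g.left g.left) x
    rcases i with _ | i
    · left
      refine ⟨g.left xi, ?_⟩
      rw [obj_hom]
      have : colimit.ι (span g.left g.left) none = g.left ≫ inl g :=
        (colimit.w (span g.left g.left) (WidePushoutShape.Hom.init WalkingPair.left)).symm
      rw [← h, this]
      rfl
    · cases i
      · left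
        refine ⟨xi, ?_⟩
        rw [obj_hom]
        exact h
      · right
        refine ⟨xi, ?_⟩
        rw [obj_hom]
        exact h

end Glue

section Main

variable {X : Scheme.{u}} {U V : X.Etale} (g : V ⟶ U) [IsOpenImmersion g.left]

/-- the glued scheme as an object of the small étale site of `X` -/
noncomputable abbrev WW : X.Etale := MorphismProperty.Over.mk ⊤ (Whom g) (etale_Whom g)

set_option backward.isDefEq.respectTransparency.types false in
theorem surjective_of_H1 (F : EtCoh.Ab X)
    (h1 : Subsingleton (EtCoh.H (Wl g) ((EtCoh.pull (Whom g)).obj F) 1)) :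
    Function.Surjective (F.obj.map g.op).hom := by
  haveI : EtShriek.JCont (Whom g) := Groth.Agent.Lib.Helper9.JContAll.jCont _
  intro t
  let G : EtCoh.Ab (Wl g) := (EtCoh.pull (Whom g)).obj F
  let R : EtCoh.Ab (Wl g) := (EtShriek.restrAlong (Whom g)).obj F
  let ρ : G ⟶ R := (rho (Whom g)).hom.app F
  have hρ : ∀ P : (Wl g).Etale, Function.Bijective (ρ.hom.app (op P)).hom := by
    intro P
    have : IsIso ((sheafToPresheaf _ _ ⋙ (evaluation _ _).obj (op P)).map ρ) := inferInstance
    exact ConcreteCategory.bijective_of_isIso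
      ((sheafToPresheaf _ _ ⋙ (evaluation _ _).obj (op P)).map ρ)
  -- the comparison morphisms of `X.Etale`
  have wV : g.left ≫ U.hom = V.hom := MorphismProperty.Over.w g
  let C1 : X.Etale := (EtShriek.compEtale (Whom g)).obj (Q1 g)
  let C2 : X.Etale := (EtShriek.compEtale (Whom g)).obj (Q2 g)
  let C12 : X.Etale := (EtShriek.compEtale (Whom g)).obj (Q12 g)
  have hC1 : C1.hom = U.hom := by
    change (Q1 g).hom ≫ Whom g = U.hom
    exact (congrArg (fun m => m ≫ Whom g) (obj_hom _)).trans (inl_Whom g)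
  have hC2 : C2.hom = U.hom := by
    change (Q2 g).hom ≫ Whom g = U.hom
    exact (congrArg (fun m => m ≫ Whom g) (obj_hom _)).trans (inr_Whom g)
  have hC12 : C12.hom = V.hom := by
    change (Q12 g).hom ≫ Whom g = V.hom
    exact (congrArg (fun m => m ≫ Whom g) (obj_hom _)).trans
      ((Category.assoc _ _ _).trans ((congrArg (fun m => g.left ≫ m) (inl_Whom g)).trans wV))
  let m1 : U ⟶ C1 := MorphismProperty.Over.homMk (𝟙 U.left) ((Category.id_comp _).trans hC1)
  let m2 : U ⟶ C2 := MorphismProperty.Over.homMk (𝟙 U.left) ((Category.id_comp _).trans hC2)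
  let m12 : C12 ⟶ V := MorphismProperty.Over.homMk (𝟙 V.left)
    ((Category.id_comp _).trans hC12.symm)
  let n12 : V ⟶ C12 := MorphismProperty.Over.homMk (𝟙 V.left) ((Category.id_comp _).trans hC12)
  have hn : n12 ≫ m12 = 𝟙 V := MorphismProperty.Over.Hom.ext (Category.id_comp _)
  have hq1 : n12 ≫ (EtShriek.compEtale (Whom g)).map (q1 g) = g ≫ m1 :=
    MorphismProperty.Over.Hom.ext ((Category.id_comp _).trans (Category.comp_id _).symm)
  have hq2 : n12 ≫ (EtShriek.compEtale (Whom g)).map (q2 g) = g ≫ m2 :=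
    MorphismProperty.Over.Hom.ext ((Category.id_comp _).trans (Category.comp_id _).symm)
  -- the section to be lifted
  obtain ⟨s, hs⟩ := (hρ (Q12 g)).2 ((F.obj.map m12.op).hom t)
  obtain ⟨a, b, hab⟩ := exists_sub_eq (q1 g) (q2 g) (glues_glue g) G h1 s
  refine ⟨(F.obj.map m1.op).hom ((ρ.hom.app (op (Q1 g))).hom a) -
    (F.obj.map m2.op).hom ((ρ.hom.app (op (Q2 g))).hom b), ?_⟩
  have nat1 : (ρ.hom.app (op (Q12 g))).hom ((G.obj.map (q1 g).op).hom a) =
      (F.obj.map ((EtShriek.compEtale (Whom g)).map (q1 g)).op).hom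
        ((ρ.hom.app (op (Q1 g))).hom a) :=
    congrArg (fun m => m.hom a) (ρ.hom.naturality (q1 g).op)
  have nat2 : (ρ.hom.app (op (Q12 g))).hom ((G.obj.map (q2 g).op).hom b) =
      (F.obj.map ((EtShriek.compEtale (Whom g)).map (q2 g)).op).hom
        ((ρ.hom.app (op (Q2 g))).hom b) :=
    congrArg (fun m => m.hom b) (ρ.hom.naturality (q2 g).op)
  have key : (F.obj.map m12.op).hom t =
      (F.obj.map ((EtShriek.compEtale (Whom g)).map (q1 g)).op).hom
        ((ρ.hom.app (op (Q1 g))).hom a) -
      (F.obj.map ((EtShriek.compEtale (Whom g)).map (q2 g)).op).hom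
        ((ρ.hom.app (op (Q2 g))).hom b) := by
    have e1 := map_sub (ρ.hom.app (op (Q12 g))).hom ((G.obj.map (q1 g).op).hom a)
      ((G.obj.map (q2 g).op).hom b)
    rw [hab, hs] at e1
    exact e1.trans (congrArg₂ (fun x y => x - y) nat1 nat2)
  have comp2 : ∀ {A B C : X.Etale} (f : A ⟶ B) (h : B ⟶ C) (x : (F.obj.obj (op C) : AddCommGrpCat.{u + 1})),
      (F.obj.map f.op).hom ((F.obj.map h.op).hom x) = (F.obj.map (f ≫ h).op).hom x := by
    intro A B C f h x
    rw [op_comp, Functor.map_comp]
    rfl
  have e0 : (F.obj.map n12.op).hom ((F.obj.map m12.op).hom t) = t := by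
    rw [comp2, hn, op_id, CategoryTheory.Functor.map_id]
    rfl
  rw [map_sub, comp2, comp2, ← hq1, ← hq2, ← comp2, ← comp2, ← map_sub, ← key, e0]

end Main

end Groth.Agent.Lib.Helper9.EtFlasque
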