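import Mathlib
import Groth.Agent.Lib.Helper9EtFp
import Groth.Agent.S14621

/-!
# Sections of étale sheaves of sets over qcqs objects commute with filtered colimits (helper9)
-/

set_option autoImplicit false
set_option linter.style.haveILetI false
open CategoryTheory CategoryTheory.Limits AlgebraicGeometry Opposite
universe u

namespace Groth.Agent.Lib.Helper9.EtFp

variable (X : Scheme.{u})

/-- every object of the small model is quasi-compact in the sense of `ToposFin.IsQCSite` -/
theorem isQCSite (U : Cfp X) : ToposFin.IsQCSite (Jfp X) U := by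
  intro T hT
  obtain ⟨ι, YY, ⟨hfin, hcov⟩, hYT⟩ := exists_finite_subcover X T hT
  haveI := hfin
  obtain ⟨n, ⟨e⟩⟩ := Finite.exists_equiv_fin ι
  refine ⟨n, fun k => (YY (e.symm k)).left, fun k => (YY (e.symm k)).hom, fun k => hYT _, ?_⟩
  refine (Jfp X).superset_covering ?_ hcov
  intro Z f hf
  obtain ⟨W, a, b, hb, rfl⟩ := hf
  obtain ⟨i⟩ := hb
  have h : Sieve.ofArrows (fun k => (YY (e.symm k)).left) (fun k => (YY (e.symm k)).hom)
      (YY (e.symm (e i))).hom := Sieve.ofArrows_mk _ _ (e i)
  rw [e.symm_apply_apply] at h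
  exact Sieve.downward_closed _ h a

/-- restriction of étale sheaves of sets to the small model -/
noncomputable abbrev Rset : Sheaf X.smallEtaleTopology (Type (u + 1)) ⥤ Sheaf (Jfp X) (Type (u + 1)) :=
  (G X).sheafPushforwardContinuous (Type (u + 1)) (Jfp X) X.smallEtaleTopology

instance : (Rset X).IsEquivalence := by unfold Rset; infer_instance

lemma fpProp_of_qcqs [CompactSpace X] [QuasiSeparatedSpace X] (U : X.Etale) [QuasiCompact U.hom]
    [QuasiSeparated U.hom] : fpProp X U :=
  ⟨@QuasiCompact.compactSpace_of_compactSpace _ _ U.hom _ (inferInstanceAs (CompactSpace X)),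
    @quasiSeparatedSpace_of_quasiSeparated _ _ U.hom (inferInstanceAs (QuasiSeparatedSpace X)) _⟩

theorem preservesColimitsOfShape_sections [CompactSpace X] [QuasiSeparatedSpace X] (U : X.Etale)
    (hU : fpProp X U) (I : Type (u + 1)) [SmallCategory I] [IsFiltered I] :
    PreservesColimitsOfShape I
      (sheafToPresheaf X.smallEtaleTopology (Type (u + 1)) ⋙
        (evaluation X.Etaleᵒᵖ (Type (u + 1))).obj (op U)) := by
  haveI : PreservesColimitsOfShape I (sheafToPresheaf (Jfp X) (Type (u + 1))) :=
    Groth.Agent.S14621.result (Jfp X) (isQCSite X) I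
  let e : sheafToPresheaf X.smallEtaleTopology (Type (u + 1)) ⋙
        (evaluation X.Etaleᵒᵖ (Type (u + 1))).obj (op U) ≅
      Rset X ⋙ sheafToPresheaf (Jfp X) (Type (u + 1)) ⋙
        (evaluation (Cfp X)ᵒᵖ (Type (u + 1))).obj (op (mk X U hU)) :=
    NatIso.ofComponents (fun F => Iso.refl _) (by intro F F' f; rfl)
  exact preservesColimitsOfShape_of_natIso e.symm

end Groth.Agent.Lib.Helper9.EtFp
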