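import Mathlib
import Groth.Agent.Lib.Helper12SchImage2
import Groth.Agent.Lib.Helper12OpenCoverSp
import Groth.Agent.S9874
import Groth.Agent.S10175
import Groth.Agent.S10176
import Groth.Agent.S10177

/-!
# Scheme theoretic images of quasi-compact morphisms of algebraic spaces (helper9)

Generalises helper12's `SchImage2.exists_isSchImage_of_chart` (representable quasi-compact morphisms) to arbitrary
quasi-compact morphisms of algebraic spaces, by replacing "the base change to a chart is a scheme" by "the base change to a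
chart has an epimorphic atlas `E` with `E ⟶ V` quasi-compact".

* `ker_le_of_epi`: the kernel of `E ⟶ R` only depends on the sheaf `P` over `h_R` of which `E` is an (epimorphic) atlas.
* `exists_atlas_of_flat`: flat base change of such an atlas datum, with the kernel pulled back.
* `exists_isSchImage_of_atlas`: the scheme theoretic image computed on a surjective chart with an atlas datum.
-/

set_option autoImplicit false
set_option linter.style.haveILetI false
universe u
open CategoryTheory CategoryTheory.Limits AlgebraicGeometry Opposite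
open AlgSp

namespace Groth.Agent.Lib.Helper9.SchImageQc

open Groth.Agent.Lib.Helper9 Groth.Agent.Lib.Helper12.ClosedDescent Groth.Agent.Lib.Helper12

variable {S : Scheme.{u}}

/-- the scheme theoretic image of `e`, as an object over `S`, with its closed immersion and the factorisation. -/
lemma exists_image_over {E R : Over S} (e : E ⟶ R) :
    ∃ (z : Over.mk (e.left.imageι ≫ R.hom) ⟶ R) (τ : E ⟶ Over.mk (e.left.imageι ≫ R.hom)),
      z = Over.homMk e.left.imageι rfl ∧ z.left = e.left.imageι ∧ τ.left = e.left.toImage ∧ τ ≫ z = e := by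
  obtain ⟨z, hz⟩ : ∃ z : Over.mk (e.left.imageι ≫ R.hom) ⟶ R, z = Over.homMk e.left.imageι rfl :=
    ⟨_, rfl⟩
  have hzl : z.left = e.left.imageι := by rw [hz]; rfl
  obtain ⟨τ, hτ⟩ : ∃ τ : E ⟶ Over.mk (e.left.imageι ≫ R.hom), τ = Over.homMk e.left.toImage (by
      show e.left.toImage ≫ e.left.imageι ≫ R.hom = E.hom
      rw [← Category.assoc, e.left.toImage_imageι, Over.w e]) := ⟨_, rfl⟩
  have hτl : τ.left = e.left.toImage := by rw [hτ]; rfl
  refine ⟨z, τ, hz, hzl, hτl, ?_⟩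
  apply Over.OverMorphism.ext
  rw [Over.comp_left, hτl, hzl]
  exact e.left.toImage_imageι

/-- **the kernel of an atlas only depends on the sheaf**: if `E₁` is an epimorphic atlas of a sheaf `P` over `h_R` and
`E₂ ⟶ P` is any morphism from a scheme, the kernel of `E₁ ⟶ R` is contained in the kernel of `E₂ ⟶ R`. -/
lemma ker_le_of_epi {P : AlgSp.Sp S} {R E₁ E₂ : Over S} (φ : P ⟶ (AlgSp.yon S).obj R)
    (w₁ : (AlgSp.yon S).obj E₁ ⟶ P) [Epi w₁] (w₂ : (AlgSp.yon S).obj E₂ ⟶ P) (e₁ : E₁ ⟶ R)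
    (e₂ : E₂ ⟶ R) (h₁ : w₁ ≫ φ = (AlgSp.yon S).map e₁) (h₂ : w₂ ≫ φ = (AlgSp.yon S).map e₂) :
    e₁.left.ker ≤ e₂.left.ker := by
  obtain ⟨z, τ, -, hzl, -, hτz⟩ := exists_image_over e₁
  haveI : IsClosedImmersion z.left := by rw [hzl]; infer_instance
  haveI : Mono ((AlgSp.yon S).map z) := by
    haveI : Mono z.left := inferInstance
    haveI : Mono z := Over.mono_of_mono_left z
    infer_instance
  obtain ⟨n, hn, -⟩ := exists_factor_of_epi w₁ ((AlgSp.yon S).map τ) φ ((AlgSp.yon S).map z) (by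
    rw [h₁, ← Functor.map_comp, hτz])
  obtain ⟨l, hl⟩ := (AlgSp.yon S).map_surjective (w₂ ≫ n)
  have hle : l ≫ z = e₂ := by
    apply (AlgSp.yon S).map_injective
    rw [Functor.map_comp, hl, Category.assoc, hn, h₂]
  rw [← hle, Over.comp_left, hzl]
  exact (le_of_eq (Scheme.IdealSheafData.ker_subschemeι _).symm).trans (Scheme.Hom.le_ker_comp _ _)

/-- two epimorphic atlases of the same sheaf over `h_R` have the same kernel. -/
lemma ker_eq_of_epi {P : AlgSp.Sp S} {R E₁ E₂ : Over S} (φ : P ⟶ (AlgSp.yon S).obj R)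
    (w₁ : (AlgSp.yon S).obj E₁ ⟶ P) [Epi w₁] (w₂ : (AlgSp.yon S).obj E₂ ⟶ P) [Epi w₂] (e₁ : E₁ ⟶ R)
    (e₂ : E₂ ⟶ R) (h₁ : w₁ ≫ φ = (AlgSp.yon S).map e₁) (h₂ : w₂ ≫ φ = (AlgSp.yon S).map e₂) :
    e₁.left.ker = e₂.left.ker :=
  le_antisymm (ker_le_of_epi φ w₁ w₂ e₁ e₂ h₁ h₂) (ker_le_of_epi φ w₂ w₁ e₂ e₁ h₂ h₁)

/-- **flat base change of an atlas datum.** -/
lemma exists_atlas_of_flat {P P' : AlgSp.Sp S} {V V' E : Over S} (φ : P ⟶ (AlgSp.yon S).obj V)
    (w : (AlgSp.yon S).obj E ⟶ P) [Epi w] (e : E ⟶ V) (hw : w ≫ φ = (AlgSp.yon S).map e)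
    [QuasiCompact e.left] (g : V' ⟶ V) [Flat g.left] (φ₁ : P' ⟶ P)
    (φ' : P' ⟶ (AlgSp.yon S).obj V') (sq : IsPullback φ₁ φ' φ ((AlgSp.yon S).map g)) :
    ∃ (E' : Over S) (e' : E' ⟶ V') (w' : (AlgSp.yon S).obj E' ⟶ P'), Epi w' ∧
      w' ≫ φ' = (AlgSp.yon S).map e' ∧ QuasiCompact e'.left ∧
      e'.left.ker = e.left.ker.comap g.left := by
  have hd : pullback.snd g.left e.left ≫ E.hom = pullback.fst g.left e.left ≫ V'.hom := by
    rw [← Over.w e, ← Category.assoc, ← pullback.condition, Category.assoc, Over.w g]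
  obtain ⟨c, hc⟩ : ∃ c : Over.mk (pullback.fst g.left e.left ≫ V'.hom) ⟶ V',
      c = Over.homMk (pullback.fst g.left e.left) rfl := ⟨_, rfl⟩
  obtain ⟨d, hd'⟩ : ∃ d : Over.mk (pullback.fst g.left e.left ≫ V'.hom) ⟶ E,
      d = Over.homMk (pullback.snd g.left e.left) hd := ⟨_, rfl⟩
  have hcl : c.left = pullback.fst g.left e.left := by rw [hc]; rfl
  have sqk : IsPullback c d g e := by
    refine IsPullback.of_map (Over.forget S) ?_ ?_
    · apply Over.OverMorphism.ext
      rw [hc, hd']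
      exact pullback.condition
    · rw [hc, hd']
      exact IsPullback.of_hasPullback g.left e.left
  have hcond : ((AlgSp.yon S).map d ≫ w) ≫ φ = (AlgSp.yon S).map c ≫ (AlgSp.yon S).map g := by
    rw [Category.assoc, hw, ← Functor.map_comp, ← Functor.map_comp, sqk.w]
  obtain ⟨w', hw'1, hw'2⟩ : ∃ w' : (AlgSp.yon S).obj (Over.mk (pullback.fst g.left e.left ≫ V'.hom)) ⟶ P',
      w' ≫ φ₁ = (AlgSp.yon S).map d ≫ w ∧ w' ≫ φ' = (AlgSp.yon S).map c :=
    ⟨sq.lift _ _ hcond, sq.lift_fst _ _ _, sq.lift_snd _ _ _⟩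
  have sqw : IsPullback w' ((AlgSp.yon S).map d) φ₁ w := by
    refine IsPullback.of_right ?_ hw'1 sq.flip
    rw [hw'2, hw]
    exact sqk.map (AlgSp.yon S)
  refine ⟨_, c, w', ToposLike.epi_of_isPullback sqw inferInstance, hw'2, ?_, ?_⟩
  · rw [hcl]; infer_instance
  · rw [hcl]
    exact SchImage.ker_fst_of_flat e.left g.left

/-- the two base changes of an atlas datum along two equivalent maps to a chart have the same kernel. -/
lemma comap_ker_eq_of_atlas {F X : AlgSp.Sp S} (f : F ⟶ X) {V E R : Over S}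
    (p : (AlgSp.yon S).obj V ⟶ X) {P : AlgSp.Sp S} (a : P ⟶ F) (φ : P ⟶ (AlgSp.yon S).obj V)
    (sqP : IsPullback a φ f p) (e : E ⟶ V) (w : (AlgSp.yon S).obj E ⟶ P) [Epi w]
    (hw : w ≫ φ = (AlgSp.yon S).map e) [QuasiCompact e.left] (s t : R ⟶ V) [Flat s.left]
    [Flat t.left] (hst : (AlgSp.yon S).map s ≫ p = (AlgSp.yon S).map t ≫ p) :
    e.left.ker.comap s.left = e.left.ker.comap t.left := by
  -- the sheaf `F ×_X R`
  have key : ∀ (π : R ⟶ V), (AlgSp.yon S).map π ≫ p = (AlgSp.yon S).map s ≫ p →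
      ∃ φ₁ : pullback f ((AlgSp.yon S).map s ≫ p) ⟶ P,
        IsPullback φ₁ (pullback.snd f ((AlgSp.yon S).map s ≫ p)) φ ((AlgSp.yon S).map π) := by
    intro π hπ
    have hc : pullback.fst f ((AlgSp.yon S).map s ≫ p) ≫ f =
        (pullback.snd f ((AlgSp.yon S).map s ≫ p) ≫ (AlgSp.yon S).map π) ≫ p := by
      rw [Category.assoc, hπ, pullback.condition]
    refine ⟨sqP.lift _ _ hc, ?_⟩
    refine IsPullback.of_right ?_ (sqP.lift_snd _ _ hc) sqP
    rw [sqP.lift_fst, hπ]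
    exact IsPullback.of_hasPullback f ((AlgSp.yon S).map s ≫ p)
  obtain ⟨φs, sqs⟩ := key s rfl
  obtain ⟨φt, sqt⟩ := key t hst.symm
  obtain ⟨E₁, e₁, w₁, hw₁, h₁, -, hk₁⟩ := exists_atlas_of_flat φ w e hw s φs _ sqs
  obtain ⟨E₂, e₂, w₂, hw₂, h₂, -, hk₂⟩ := exists_atlas_of_flat φ w e hw t φt _ sqt
  rw [← hk₁, ← hk₂]
  exact ker_eq_of_epi _ w₁ w₂ e₁ e₂ h₁ h₂

/-- **the scheme theoretic image of a morphism to an algebraic space**, computed on a surjective etale chart `V` of the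
target over which the base change of the source has an epimorphic atlas `E` with `E ⟶ V` quasi-compact: it restricts over
`V` to the scheme theoretic image of `E ⟶ V`. -/
theorem exists_isSchImage_of_atlas {F X : AlgSp.Sp S} (hX : AlgSp.IsAlgSpace X) (f : F ⟶ X)
    {V E : Over S} (p : (AlgSp.yon S).obj V ⟶ X) (hpe : AlgSp.RepWith @Etale p)
    (hps : AlgSp.RepWith @Surjective p) {P : AlgSp.Sp S} (a : P ⟶ F)
    (φ : P ⟶ (AlgSp.yon S).obj V) (sqP : IsPullback a φ f p) (e : E ⟶ V)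
    (w : (AlgSp.yon S).obj E ⟶ P) [Epi w] (hw : w ≫ φ = (AlgSp.yon S).map e)
    [QuasiCompact e.left] :
    ∃ (Z : AlgSp.Sp S) (i : Z ⟶ X) (q : (AlgSp.yon S).obj (Over.mk (e.left.imageι ≫ V.hom)) ⟶ Z),
      AlgSp.IsAlgSpace Z ∧ AlgSp.IsSchImage f i ∧
      IsPullback q ((AlgSp.yon S).map
        (Over.homMk e.left.imageι rfl : Over.mk (e.left.imageι ≫ V.hom) ⟶ V)) i p := by
  haveI : Epi p := Groth.Agent.S9927.epi_of_repWith p hpe hps
  haveI : Epi a := ToposLike.epi_of_isPullback sqP inferInstance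
  haveI : Epi (w ≫ a) := epi_comp w a
  have hwa : (w ≫ a) ≫ f = (AlgSp.yon S).map e ≫ p := by
    rw [Category.assoc, sqP.w, ← Category.assoc, hw]
  obtain ⟨R, t, s', sqR⟩ := hpe.1 p
  obtain ⟨s, rfl⟩ := (AlgSp.yon S).map_surjective s'
  haveI : Etale t.left := hpe.2 _ _ t sqR
  haveI : Etale s.left := hpe.2 _ _ s sqR.flip
  have hJ : e.left.ker.comap s.left = e.left.ker.comap t.left :=
    comap_ker_eq_of_atlas f p a φ sqP e w hw s t sqR.w
  obtain ⟨z, τ, hz, hzl, hτl, hτz⟩ := exists_image_over e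
  haveI : IsClosedImmersion z.left := by rw [hzl]; infer_instance
  have hinv : ∀ (A : Over S) (a : A ⟶ Over.mk (e.left.imageι ≫ V.hom)) (b : A ⟶ V),
      (AlgSp.yon S).map (a ≫ z) ≫ p = (AlgSp.yon S).map b ≫ p →
      ∃ b' : A ⟶ Over.mk (e.left.imageι ≫ V.hom), b' ≫ z = b := by
    intro A a b hab
    obtain ⟨ρ, hρ⟩ := (AlgSp.yon S).map_surjective (sqR.lift _ _ hab)
    have hρ1 : ρ ≫ s = a ≫ z := by
      apply (AlgSp.yon S).map_injective
      rw [Functor.map_comp, hρ, sqR.lift_fst]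
    have hρ2 : ρ ≫ t = b := by
      apply (AlgSp.yon S).map_injective
      rw [Functor.map_comp, hρ, sqR.lift_snd]
    have ha : ρ.left ≫ s.left = a.left ≫ e.left.ker.subschemeι := by
      rw [← Over.comp_left, hρ1, Over.comp_left, hzl]
    obtain ⟨b', hb'⟩ := SchImage.exists_lift_of_comap_eq e.left.ker s.left t.left
      hJ ρ.left a.left ha
    have hb'l : b' ≫ e.left.imageι = b.left := by
      rw [← hρ2, Over.comp_left]; exact hb'
    refine ⟨Over.homMk b' ?_, ?_⟩
    · show b' ≫ (e.left.imageι ≫ V.hom) = A.hom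
      rw [← Category.assoc, hb'l, Over.w b]
    · apply Over.OverMorphism.ext
      rw [Over.comp_left, hzl]
      exact hb'l
  obtain ⟨Z, i, q, sqZ, hi⟩ := ClosedSub.exists_closed_subspace p hpe hps z hinv
  have hqe : AlgSp.RepWith @Etale q :=
    MorphismProperty.of_isPullback (P := AlgSp.RepWith @Etale) sqZ.flip hpe
  have hqs : AlgSp.RepWith @Surjective q :=
    MorphismProperty.of_isPullback (P := AlgSp.RepWith @Surjective) sqZ.flip hps
  haveI : Epi q := Groth.Agent.S9927.epi_of_repWith q hqe hqs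
  haveI : Mono i := SchImage2.mono_of_closedImmersion hi
  obtain ⟨f', hf', -⟩ := exists_factor_of_epi (w ≫ a) ((AlgSp.yon S).map τ ≫ q) f i (by
      rw [hwa, Category.assoc, sqZ.w, ← Category.assoc, ← Functor.map_comp, hτz])
  rw [← hz]
  refine ⟨Z, i, q, SchImage2.isAlgSpace_of_closedImmersion hX i hi.1, ⟨hi, ⟨f', hf'⟩, ?_⟩, sqZ⟩
  -- minimality
  intro Z' i' hZ' hi' hf''
  obtain ⟨f'', hf''⟩ := hf''
  obtain ⟨ZV', z', fst', sq'⟩ := hi'.1 p
  haveI : IsClosedImmersion z'.left := hi'.2 _ _ z' sq'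
  haveI : Mono i' := SchImage2.mono_of_closedImmersion hi'
  have h2 : z'.left.ker ≤ e.left.ker := by
    obtain ⟨l, hl⟩ := (AlgSp.yon S).map_surjective (sq'.lift ((w ≫ a) ≫ f'')
      ((AlgSp.yon S).map e) (by rw [Category.assoc, hf'', hwa]))
    have hle : l ≫ z' = e := by
      apply (AlgSp.yon S).map_injective
      rw [Functor.map_comp, hl, sq'.lift_snd]
    rw [← hle, Over.comp_left]
    exact Scheme.Hom.le_ker_comp _ _
  have h4 : z'.left.ker ≤ z.left.ker := by
    rw [hzl]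
    exact h2.trans (le_of_eq (Scheme.IdealSheafData.ker_subschemeι _).symm)
  obtain ⟨lO, hlO⟩ : ∃ lO : Over.mk (e.left.imageι ≫ V.hom) ⟶ ZV', lO ≫ z' = z := by
    refine ⟨Over.homMk (IsClosedImmersion.lift z'.left z.left h4) ?_, ?_⟩
    · rw [← Over.w z', ← Category.assoc, IsClosedImmersion.lift_fac, Over.w z]
    · apply Over.OverMorphism.ext
      rw [Over.comp_left]
      exact IsClosedImmersion.lift_fac _ _ _
  obtain ⟨k, hk, -⟩ := exists_factor_of_epi q ((AlgSp.yon S).map lO ≫ fst') i i' (by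
      rw [sqZ.w, Category.assoc, sq'.w, ← Category.assoc, ← Functor.map_comp, hlO])
  exact ⟨k, hk⟩

end Groth.Agent.Lib.Helper9.SchImageQc
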