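import Mathlib
import Groth.Agent.Lib.Helper9SchImageQc

/-!
# A quasi-compact morphism of algebraic spaces has a global quasi-compact atlas datum (helper9)

For a quasi-compact morphism `f : F ⟶ G` of algebraic spaces there are a surjective etale chart `V` of `G` (a disjoint
union of affine schemes) and an epimorphic atlas `E` of `F ×_G V` such that `E ⟶ V` is quasi-compact.
-/

set_option autoImplicit false
set_option linter.style.haveILetI false
set_option backward.isDefEq.respectTransparency false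
universe u
open CategoryTheory CategoryTheory.Limits AlgebraicGeometry Opposite
open AlgSp

namespace Groth.Agent.Lib.Helper9.SchImageQc

open Groth.Agent.Lib.Helper9 Groth.Agent.Lib.Helper12.ClosedDescent Groth.Agent.Lib.Helper12

variable {S : Scheme.{u}}

/-- morphisms out of a disjoint union are determined by their components. -/
lemma sigmaOver_hom_ext {ι : Type u} (U : ι → Over S) {W : Over S} (a b : OpenCoverSp.sigmaOver U ⟶ W)
    (h : ∀ i, OpenCoverSp.sigmaι U i ≫ a = OpenCoverSp.sigmaι U i ≫ b) : a = b := by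
  apply Over.OverMorphism.ext
  change (a.left : (∐ fun i => (U i).left) ⟶ W.left) = b.left
  apply Sigma.hom_ext
  intro i
  exact congrArg (fun m => m.left) (h i)

/-- a morphism between disjoint unions which respects the components and is quasi-compact on each component is
quasi-compact. -/
lemma quasiCompact_sigma {ι : Type u} (U T : ι → Over S) (e : ∀ i, U i ⟶ T i)
    [∀ i, QuasiCompact (e i).left] (e₀ : OpenCoverSp.sigmaOver U ⟶ OpenCoverSp.sigmaOver T)
    (he₀ : ∀ i, OpenCoverSp.sigmaι U i ≫ e₀ = e i ≫ OpenCoverSp.sigmaι T i) :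
    QuasiCompact e₀.left := by
  have hl : ∀ i, (OpenCoverSp.sigmaι U i).left ≫ e₀.left =
      (e i).left ≫ (OpenCoverSp.sigmaι T i).left := fun i => by
    rw [← Over.comp_left, he₀, Over.comp_left]
  have hrange : ∀ i, e₀.left ⁻¹ᵁ (OpenCoverSp.sigmaι T i).left.opensRange =
      (OpenCoverSp.sigmaι U i).left.opensRange := by
    intro i
    ext x
    constructor
    · rintro ⟨y, hy⟩
      obtain ⟨k, x', rfl⟩ := OpenCoverSp.sigmaι_jointly_surjective U x
      have h1 : (OpenCoverSp.sigmaι T k).left ((e k).left x') = (OpenCoverSp.sigmaι T i).left y := by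
        rw [← Scheme.Hom.comp_apply, ← hl, Scheme.Hom.comp_apply]
        exact hy.symm
      by_cases hki : k = i
      · subst hki
        exact ⟨x', rfl⟩
      · exfalso
        have hd := disjoint_opensRange_sigmaι (fun i => (T i).left) k i hki
        have hmem : (OpenCoverSp.sigmaι T k).left ((e k).left x') ∈
            (Sigma.ι (fun i => (T i).left) k).opensRange ⊓ (Sigma.ι (fun i => (T i).left) i).opensRange :=
          ⟨⟨_, rfl⟩, ⟨y, h1.symm⟩⟩
        rw [disjoint_iff.mp hd] at hmem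
        exact hmem
    · rintro ⟨x', rfl⟩
      refine ⟨(e i).left x', ?_⟩
      rw [← Scheme.Hom.comp_apply, ← hl, Scheme.Hom.comp_apply]
  have hpb : ∀ i, IsPullback (e i).left (OpenCoverSp.sigmaι U i).left (OpenCoverSp.sigmaι T i).left
      e₀.left := fun i => IsOpenImmersion.isPullback _ _ _ _ (hl i) (hrange i)
  let 𝒰 : (OpenCoverSp.sigmaOver T).left.OpenCover := {
    I₀ := ι, X i := (T i).left, f i := (OpenCoverSp.sigmaι T i).left,
    mem₀ := by
      rw [Scheme.presieve₀_mem_precoverage_iff]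
      refine ⟨fun x => ?_, inferInstance⟩
      obtain ⟨i, y, hy⟩ := OpenCoverSp.sigmaι_jointly_surjective T x
      exact ⟨i, y, hy⟩ }
  refine IsZariskiLocalAtTarget.of_openCover (P := @QuasiCompact) 𝒰 (fun i => ?_)
  change QuasiCompact (pullback.snd e₀.left (OpenCoverSp.sigmaι T i).left)
  have h2 := IsPullback.of_hasPullback e₀.left (OpenCoverSp.sigmaι T i).left
  have hiso : pullback.snd e₀.left (OpenCoverSp.sigmaι T i).left =
      (h2.isoIsPullback _ _ (hpb i).flip).hom ≫ (e i).left :=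
    (IsPullback.isoIsPullback_hom_snd _ _ h2 (hpb i).flip).symm
  rw [hiso]
  infer_instance

/-- **a global quasi-compact atlas datum** for a quasi-compact morphism of algebraic spaces. -/
theorem exists_qc_datum {F G : AlgSp.Sp S} (hF : AlgSp.IsAlgSpace F) (hG : AlgSp.IsAlgSpace G)
    (f : F ⟶ G) (hq : AlgSp.IsQuasiCompactMor f) :
    ∃ (V E : Over S) (p : (AlgSp.yon S).obj V ⟶ G) (e : E ⟶ V)
      (w : (AlgSp.yon S).obj E ⟶ pullback f p),
      AlgSp.RepWith @Etale p ∧ AlgSp.RepWith @Surjective p ∧ Epi w ∧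
      w ≫ pullback.snd f p = (AlgSp.yon S).map e ∧ QuasiCompact e.left := by
  obtain ⟨V₀, p₀, hp₀e, hp₀s⟩ := hG.atlas
  have hcharts : ∀ j : V₀.left.affineOpens, ∃ (Tj : Over S) (tj : Tj ⟶ V₀), IsAffine Tj.left ∧
      IsOpenImmersion tj.left ∧ Set.range tj.left = (j.1 : Set V₀.left) := fun j =>
    ⟨Over.mk (j.1.ι ≫ V₀.hom), Over.homMk j.1.ι rfl, j.2, inferInstanceAs (IsOpenImmersion j.1.ι), by
      show Set.range j.1.ι = _
      simp⟩
  choose T t hTaff htopen htrange using hcharts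
  haveI := hTaff
  haveI := htopen
  have hpe : ∀ j, AlgSp.RepWith @Etale ((AlgSp.yon S).map (t j) ≫ p₀) := fun j =>
    (AlgSp.RepWith @Etale).comp_mem _ _ ((AlgSp.repWith_yon_map_iff _ _).2 inferInstance) hp₀e
  have hqc : ∀ j, AlgSp.IsQuasiCompactSp (pullback f ((AlgSp.yon S).map (t j) ≫ p₀)) := fun j =>
    hq (AlgSp.IsAlgSpace.yon_obj (T j))
      ⟨T j, 𝟙 _, AlgSp.repWith_id _ _, AlgSp.repWith_id _ _, inferInstance⟩ _ _ _
      (IsPullback.of_hasPullback f _)
  choose E' w' hw'e hw's hE'c using hqc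
  haveI := hE'c
  have he : ∀ j, ∃ ej : E' j ⟶ T j, (AlgSp.yon S).map ej =
      w' j ≫ pullback.snd f ((AlgSp.yon S).map (t j) ≫ p₀) := fun j => (AlgSp.yon S).map_surjective _
  choose e he using he
  haveI : ∀ j, QuasiCompact (e j).left := fun j => inferInstance
  -- the disjoint unions
  obtain ⟨γ, hγ⟩ := OpenCoverSp.exists_sigmaDesc T (fun j => (AlgSp.yon S).map (t j) ≫ p₀)
  have hrepγ : AlgSp.Representable γ := Functor.relativelyRepresentable.of_diag hG.diag γ
  have hγe : AlgSp.RepWith @Etale γ := by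
    refine OpenCoverSp.repWith_of_source_openCover @Etale γ hrepγ T (OpenCoverSp.sigmaι T)
      (fun x => ?_) (fun j => ?_)
    · obtain ⟨i, y, hy⟩ := OpenCoverSp.sigmaι_jointly_surjective T x
      exact ⟨i, y, hy⟩
    · rw [hγ]
      exact hpe j
  have hγs : AlgSp.RepWith @Surjective γ := by
    apply OpenCoverSp.repWith_surjective_of_points γ hrepγ
    intro z
    obtain ⟨v₀, rfl⟩ := Groth.Agent.S10177.surjective_ofPt p₀ hp₀s z
    obtain ⟨U, hU, hxU, -⟩ := (V₀.left.isBasis_affineOpens).exists_subset_of_mem_open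
      (Set.mem_univ v₀) isOpen_univ
    obtain ⟨U', hU', rfl⟩ := hU
    obtain ⟨y, hy⟩ : v₀ ∈ Set.range (t ⟨U', hU'⟩).left := by
      rw [htrange]; exact hxU
    refine ⟨(OpenCoverSp.sigmaι T ⟨U', hU'⟩).left y, ?_⟩
    rw [← Groth.Agent.S10176.ofPt_map_comp, hγ, Groth.Agent.S10176.ofPt_map_comp, hy]
  -- the map `E ⟶ V`
  obtain ⟨ε, hε⟩ := OpenCoverSp.exists_sigmaDesc E'
    (fun j => (AlgSp.yon S).map (e j ≫ OpenCoverSp.sigmaι T j))
  obtain ⟨e₀, rfl⟩ := (AlgSp.yon S).map_surjective ε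
  have he₀ : ∀ j, OpenCoverSp.sigmaι E' j ≫ e₀ = e j ≫ OpenCoverSp.sigmaι T j := fun j => by
    apply (AlgSp.yon S).map_injective
    rw [Functor.map_comp]
    exact hε j
  haveI : QuasiCompact e₀.left := quasiCompact_sigma E' T e e₀ he₀
  -- the map `h_E ⟶ F ×_G h_V`
  have hκc : ∀ j, pullback.fst f ((AlgSp.yon S).map (t j) ≫ p₀) ≫ f =
      (pullback.snd f ((AlgSp.yon S).map (t j) ≫ p₀) ≫
        (AlgSp.yon S).map (OpenCoverSp.sigmaι T j)) ≫ γ := fun j => by
    rw [Category.assoc, hγ, pullback.condition]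
  obtain ⟨κ, hκ1, hκ2⟩ : ∃ κ : ∀ j, pullback f ((AlgSp.yon S).map (t j) ≫ p₀) ⟶ pullback f γ,
      (∀ j, κ j ≫ pullback.fst f γ = pullback.fst f ((AlgSp.yon S).map (t j) ≫ p₀)) ∧
      (∀ j, κ j ≫ pullback.snd f γ = pullback.snd f ((AlgSp.yon S).map (t j) ≫ p₀) ≫
        (AlgSp.yon S).map (OpenCoverSp.sigmaι T j)) :=
    ⟨fun j => pullback.lift _ _ (hκc j), fun j => pullback.lift_fst _ _ _,
      fun j => pullback.lift_snd _ _ _⟩
  have sqκ : ∀ j, IsPullback (κ j) (pullback.snd f ((AlgSp.yon S).map (t j) ≫ p₀))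
      (pullback.snd f γ) ((AlgSp.yon S).map (OpenCoverSp.sigmaι T j)) := by
    intro j
    refine IsPullback.of_right ?_ (hκ2 j) (IsPullback.of_hasPullback f γ)
    rw [hκ1, hγ]
    exact IsPullback.of_hasPullback f _
  have hκe : ∀ j, AlgSp.RepWith @Etale (κ j) := fun j =>
    MorphismProperty.of_isPullback (P := AlgSp.RepWith @Etale) (sqκ j).flip
      ((AlgSp.repWith_yon_map_iff _ _).2 inferInstance)
  obtain ⟨w₀, hw₀⟩ := OpenCoverSp.exists_sigmaDesc E' (fun j => w' j ≫ κ j)
  have hP₀ : AlgSp.IsAlgSpace (pullback f γ) :=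
    Groth.Agent.S9874.isAlgSpace_of_isPullback hG.diag hF
      (AlgSp.IsAlgSpace.yon_obj _) (IsPullback.of_hasPullback f γ)
  have hrepw : AlgSp.Representable w₀ := Functor.relativelyRepresentable.of_diag hP₀.diag w₀
  have hw₀e : AlgSp.RepWith @Etale w₀ := by
    refine OpenCoverSp.repWith_of_source_openCover @Etale w₀ hrepw E' (OpenCoverSp.sigmaι E')
      (fun x => ?_) (fun j => ?_)
    · obtain ⟨i, y, hy⟩ := OpenCoverSp.sigmaι_jointly_surjective E' x
      exact ⟨i, y, hy⟩
    · rw [hw₀]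
      exact (AlgSp.RepWith @Etale).comp_mem _ _ (hw'e j) (hκe j)
  have hw₀s : AlgSp.RepWith @Surjective w₀ := by
    apply OpenCoverSp.repWith_surjective_of_points w₀ hrepw
    intro x
    obtain ⟨v, hv⟩ := Groth.Agent.S10177.surjective_ofPt (𝟙 ((AlgSp.yon S).obj (OpenCoverSp.sigmaOver T)))
      (AlgSp.repWith_id @Surjective _) (AlgSp.Points.map (pullback.snd f γ) x)
    obtain ⟨j, vj, rfl⟩ := OpenCoverSp.sigmaι_jointly_surjective T v
    have hcomp : AlgSp.Points.map (pullback.snd f γ) x =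
        AlgSp.Points.map ((AlgSp.yon S).map (OpenCoverSp.sigmaι T j))
          (AlgSp.Points.ofPt (𝟙 ((AlgSp.yon S).obj (T j))) vj) := by
      rw [← hv, AlgSp.Points.map_ofPt, Category.id_comp,
        ← Groth.Agent.S10176.ofPt_map_comp, Category.comp_id]
    obtain ⟨xj, hxj, -⟩ := Groth.Agent.S10175.exists_point_of_isPullback (sqκ j) x _ hcomp
    obtain ⟨yj, hyj⟩ := Groth.Agent.S10177.surjective_ofPt (w' j) (hw's j) xj
    refine ⟨(OpenCoverSp.sigmaι E' j).left yj, ?_⟩
    rw [← Groth.Agent.S10176.ofPt_map_comp, hw₀, ← AlgSp.Points.map_ofPt, hyj, hxj]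
  have hw₀snd : w₀ ≫ pullback.snd f γ = (AlgSp.yon S).map e₀ := by
    obtain ⟨l, hl⟩ := (AlgSp.yon S).map_surjective (w₀ ≫ pullback.snd f γ)
    rw [← hl]
    congr 1
    apply sigmaOver_hom_ext
    intro j
    apply (AlgSp.yon S).map_injective
    rw [Functor.map_comp, hl, ← Category.assoc, hw₀, Category.assoc, hκ2, ← Category.assoc, ← he,
      ← Functor.map_comp, he₀]
  exact ⟨_, _, γ, e₀, w₀, hγe, hγs, Groth.Agent.S9927.epi_of_repWith w₀ hw₀e hw₀s, hw₀snd,
    inferInstance⟩

end Groth.Agent.Lib.Helper9.SchImageQc
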