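import Mathlib
import Groth.Agent.Lib.Helper9SchImageQcB

/-!
# Scheme theoretic images of quasi-compact morphisms of algebraic spaces: flat base change and density (helper9)

* `exists_chart_of_isSchImage`: a scheme theoretic image of a quasi-compact morphism is computed by a global atlas datum.
* `isSchImage_flat_base_change`: forming the scheme theoretic image of a quasi-compact morphism commutes with flat base
  change.
* `range_subset_closure`: the image of a quasi-compact morphism is dense in its scheme theoretic image.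
-/

set_option autoImplicit false
set_option linter.style.haveILetI false
set_option backward.isDefEq.respectTransparency false
universe u
open CategoryTheory CategoryTheory.Limits AlgebraicGeometry Opposite
open AlgSp

namespace Groth.Agent.Lib.Helper9.SchImageQc

open Groth.Agent.Lib.Helper9 Groth.Agent.Lib.Helper12.ClosedDescent Groth.Agent.Lib.Helper12

variable {S : Scheme.{u}}

/-- a scheme theoretic image of a quasi-compact morphism of algebraic spaces is computed on a global atlas datum. -/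
theorem exists_chart_of_isSchImage {F G Z : AlgSp.Sp S} (hF : AlgSp.IsAlgSpace F)
    (hG : AlgSp.IsAlgSpace G) (f : F ⟶ G) (hq : AlgSp.IsQuasiCompactMor f) (i : Z ⟶ G)
    (hZ : AlgSp.IsSchImage f i) :
    ∃ (V E : Over S) (p : (AlgSp.yon S).obj V ⟶ G) (e : E ⟶ V)
      (w : (AlgSp.yon S).obj E ⟶ pullback f p)
      (q : (AlgSp.yon S).obj (Over.mk (e.left.imageι ≫ V.hom)) ⟶ Z),
      AlgSp.RepWith @Etale p ∧ AlgSp.RepWith @Surjective p ∧ Epi w ∧
      w ≫ pullback.snd f p = (AlgSp.yon S).map e ∧ QuasiCompact e.left ∧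
      IsPullback q ((AlgSp.yon S).map
        (Over.homMk e.left.imageι rfl : Over.mk (e.left.imageι ≫ V.hom) ⟶ V)) i p := by
  obtain ⟨V, E, p, e, w, hpe, hps, hwepi, hw, hqc⟩ := exists_qc_datum hF hG f hq
  haveI := hwepi
  haveI := hqc
  obtain ⟨Z₁, i₁, q, hZ₁, him, sq⟩ := exists_isSchImage_of_atlas hG f p hpe hps
    (pullback.fst f p) (pullback.snd f p) (IsPullback.of_hasPullback f p) e w hw
  have hZalg : AlgSp.IsAlgSpace Z := SchImage2.isAlgSpace_of_closedImmersion hG i hZ.1.1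
  obtain ⟨ε, hε⟩ := SchImage2.isSchImage_unique hZ₁ hZalg him hZ
  refine ⟨V, E, p, e, w, q ≫ ε.hom, hpe, hps, hwepi, hw, hqc, ?_⟩
  exact IsPullback.of_iso sq (Iso.refl _) ε (Iso.refl _) (Iso.refl _) (by simp) (by simp)
    (by simp [hε]) (by simp)

/-- **forming the scheme theoretic image of a quasi-compact morphism of algebraic spaces commutes with flat base
change.** -/
theorem isSchImage_flat_base_change {F G G' F' Z Z' : AlgSp.Sp S} (hF : AlgSp.IsAlgSpace F)
    (hG : AlgSp.IsAlgSpace G) (hG' : AlgSp.IsAlgSpace G') (f : F ⟶ G)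
    (hq : AlgSp.IsQuasiCompactMor f) (i : Z ⟶ G) (hZ : AlgSp.IsSchImage f i) (b : G' ⟶ G)
    (hb : AlgSp.LocP @Flat b) (f₁ : F' ⟶ F) (f' : F' ⟶ G') (sqF : IsPullback f₁ f' f b)
    (i₁ : Z' ⟶ Z) (i' : Z' ⟶ G') (sqZ : IsPullback i₁ i' i b) : AlgSp.IsSchImage f' i' := by
  obtain ⟨V, E, p, e, w, q, hpe, hps, hwepi, hw, hqc, sqq⟩ :=
    exists_chart_of_isSchImage hF hG f hq i hZ
  haveI := hwepi
  haveI := hqc
  obtain ⟨z, τ, hz, hzl, hτl, hτz⟩ := exists_image_over e
  rw [← hz] at sqq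
  haveI : IsClosedImmersion z.left := by rw [hzl]; infer_instance
  -- a chart of `G'` over `V`
  have hB : AlgSp.IsAlgSpace (pullback b p) :=
    Groth.Agent.S9874.isAlgSpace_of_isPullback hG.diag hG' (AlgSp.IsAlgSpace.yon_obj V)
      (IsPullback.of_hasPullback b p)
  obtain ⟨V', c, hce, hcs⟩ := hB.atlas
  obtain ⟨g, hg⟩ := (AlgSp.yon S).map_surjective (c ≫ pullback.snd b p)
  obtain ⟨p', hp'⟩ : ∃ p' : (AlgSp.yon S).obj V' ⟶ G', p' = c ≫ pullback.fst b p := ⟨_, rfl⟩
  have hp'e : AlgSp.RepWith @Etale p' := by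
    rw [hp']
    exact (AlgSp.RepWith @Etale).comp_mem _ _ hce
      (MorphismProperty.of_isPullback (P := AlgSp.RepWith @Etale)
        (IsPullback.of_hasPullback b p).flip hpe)
  have hp's : AlgSp.RepWith @Surjective p' := by
    rw [hp']
    exact (AlgSp.RepWith @Surjective).comp_mem _ _ hcs
      (MorphismProperty.of_isPullback (P := AlgSp.RepWith @Surjective)
        (IsPullback.of_hasPullback b p).flip hps)
  have hcomm : p' ≫ b = (AlgSp.yon S).map g ≫ p := by
    rw [hp', Category.assoc, pullback.condition, ← Category.assoc, hg]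
  haveI hflat : Flat g.left := hb p' p g hp'e hpe hcomm
  haveI : Epi p' := Groth.Agent.S9927.epi_of_repWith p' hp'e hp's
  -- closed immersion and factorisation
  have hi' : AlgSp.RepWith @IsClosedImmersion i' :=
    MorphismProperty.of_isPullback (P := AlgSp.RepWith @IsClosedImmersion) sqZ hZ.1
  obtain ⟨f₀, hf₀⟩ := hZ.2.1
  have hfac : ∃ f'' : F' ⟶ Z', f'' ≫ i' = f' :=
    ⟨sqZ.lift (f₁ ≫ f₀) f' (by rw [Category.assoc, hf₀, sqF.w]), sqZ.lift_snd _ _ _⟩
  refine ⟨hi', hfac, ?_⟩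
  intro Z₃ i₃ hZ₃ hi₃ hf₃
  obtain ⟨f₃, hf₃⟩ := hf₃
  obtain ⟨W', z', fst', sq'⟩ := hi'.1 p'
  haveI : IsClosedImmersion z'.left := hi'.2 _ _ z' sq'
  obtain ⟨W₃, z₃, fst₃, sq₃⟩ := hi₃.1 p'
  haveI : IsClosedImmersion z₃.left := hi₃.2 _ _ z₃ sq₃
  haveI : Mono i₃ := SchImage2.mono_of_closedImmersion hi₃
  -- the atlas of `F' ×_{G'} V'`
  have hφc : (pullback.fst f' p' ≫ f₁) ≫ f = (pullback.snd f' p' ≫ (AlgSp.yon S).map g) ≫ p := by
    rw [Category.assoc, sqF.w, ← Category.assoc, pullback.condition, Category.assoc, hcomm,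
      Category.assoc]
  obtain ⟨φ₁, hφ1, hφ2⟩ : ∃ φ₁ : pullback f' p' ⟶ pullback f p,
      φ₁ ≫ pullback.fst f p = pullback.fst f' p' ≫ f₁ ∧
      φ₁ ≫ pullback.snd f p = pullback.snd f' p' ≫ (AlgSp.yon S).map g :=
    ⟨pullback.lift _ _ hφc, pullback.lift_fst _ _ _, pullback.lift_snd _ _ _⟩
  have sqP' : IsPullback φ₁ (pullback.snd f' p') (pullback.snd f p) ((AlgSp.yon S).map g) := by
    refine IsPullback.of_right ?_ hφ2 (IsPullback.of_hasPullback f p)
    rw [hφ1, ← hcomm]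
    exact (IsPullback.of_hasPullback f' p').paste_horiz sqF
  obtain ⟨E', e', w', hw'epi, hw', -, hk'⟩ :=
    exists_atlas_of_flat (pullback.snd f p) w e hw g φ₁ (pullback.snd f' p') sqP'
  -- the closed subscheme `Z' ×_{G'} V'`
  have hψc : (fst' ≫ i₁) ≫ i = ((AlgSp.yon S).map z' ≫ (AlgSp.yon S).map g) ≫ p := by
    rw [Category.assoc, sqZ.w, ← Category.assoc, sq'.w, Category.assoc, hcomm, Category.assoc]
  obtain ⟨ψ₁, hψ1, hψ2⟩ : ∃ ψ₁ : (AlgSp.yon S).obj W' ⟶
      (AlgSp.yon S).obj (Over.mk (e.left.imageι ≫ V.hom)),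
      ψ₁ ≫ q = fst' ≫ i₁ ∧ ψ₁ ≫ (AlgSp.yon S).map z = (AlgSp.yon S).map z' ≫ (AlgSp.yon S).map g :=
    ⟨sqq.lift _ _ hψc, sqq.lift_fst _ _ _, sqq.lift_snd _ _ _⟩
  have sqψ : IsPullback ψ₁ ((AlgSp.yon S).map z') ((AlgSp.yon S).map z) ((AlgSp.yon S).map g) := by
    refine IsPullback.of_right ?_ hψ2 sqq
    rw [hψ1, ← hcomm]
    exact sq'.paste_horiz sqZ
  haveI : QuasiCompact z.left := inferInstance
  obtain ⟨E'', e'', w'', hw''epi, hw'', -, hk''⟩ :=
    exists_atlas_of_flat ((AlgSp.yon S).map z) (𝟙 _) z (Category.id_comp _) g ψ₁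
      ((AlgSp.yon S).map z') sqψ
  haveI := hw''epi
  have hkz' : z'.left.ker = e'.left.ker := by
    rw [ker_eq_of_epi ((AlgSp.yon S).map z') (𝟙 _) w'' z' e'' (Category.id_comp _) hw'', hk'', hk',
      hzl]
    congr 1
    exact Scheme.IdealSheafData.ker_subschemeι _
  -- `z₃` contains `e'`
  have h3 : z₃.left.ker ≤ e'.left.ker := by
    obtain ⟨l, hl⟩ := (AlgSp.yon S).map_surjective (sq₃.lift ((w' ≫ pullback.fst f' p') ≫ f₃)
      ((AlgSp.yon S).map e') (by
        rw [Category.assoc, hf₃, Category.assoc, pullback.condition, ← Category.assoc, hw']))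
    have hle : l ≫ z₃ = e' := by
      apply (AlgSp.yon S).map_injective
      rw [Functor.map_comp, hl, sq₃.lift_snd]
    rw [← hle, Over.comp_left]
    exact Scheme.Hom.le_ker_comp _ _
  rw [← hkz'] at h3
  obtain ⟨lO, hlO⟩ : ∃ lO : W' ⟶ W₃, lO ≫ z₃ = z' := by
    refine ⟨Over.homMk (IsClosedImmersion.lift z₃.left z'.left h3) ?_, ?_⟩
    · rw [← Over.w z₃, ← Category.assoc, IsClosedImmersion.lift_fac, Over.w z']
    · apply Over.OverMorphism.ext
      rw [Over.comp_left]
      exact IsClosedImmersion.lift_fac _ _ _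
  haveI : Epi fst' := ToposLike.epi_of_isPullback sq' inferInstance
  obtain ⟨k, hk, -⟩ := exists_factor_of_epi fst' ((AlgSp.yon S).map lO ≫ fst₃) i' i₃ (by
      rw [sq'.w, Category.assoc, sq₃.w, ← Category.assoc, ← Functor.map_comp, hlO])
  exact ⟨k, hk⟩

/-- **the image of a quasi-compact morphism of algebraic spaces is dense in its scheme theoretic image.** -/
theorem range_subset_closure {F G Z : AlgSp.Sp S} (hF : AlgSp.IsAlgSpace F)
    (hG : AlgSp.IsAlgSpace G) (f : F ⟶ G) (hq : AlgSp.IsQuasiCompactMor f) (i : Z ⟶ G)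
    (hZ : AlgSp.IsSchImage f i) :
    Set.range (AlgSp.Points.map i) ⊆ closure (Set.range (AlgSp.Points.map f)) := by
  obtain ⟨V, E, p, e, w, q, hpe, hps, hwepi, hw, hqc, sqq⟩ :=
    exists_chart_of_isSchImage hF hG f hq i hZ
  haveI := hqc
  obtain ⟨z, τ, hz, hzl, hτl, hτz⟩ := exists_image_over e
  rw [← hz] at sqq
  rintro y ⟨x, rfl⟩
  rw [mem_closure_iff]
  intro O hO hyO
  obtain ⟨v, hv⟩ := Groth.Agent.S10177.surjective_ofPt p hps (AlgSp.Points.map i x)
  obtain ⟨π, -, hπ2⟩ := Groth.Agent.S10175.exists_point_of_isPullback sqq x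
    (AlgSp.Points.ofScheme V v) (by rw [AlgSp.Points.map_ofPt, Category.id_comp, hv])
  have hv' : z.left (AlgSp.Points.toScheme _ π) = v := by
    rw [← AlgSp.Points.toScheme_ofPt, ← Category.id_comp ((AlgSp.yon S).map z),
      ← AlgSp.Points.map_ofPt]
    change AlgSp.Points.toScheme V (AlgSp.Points.map ((AlgSp.yon S).map z)
      (AlgSp.Points.ofScheme _ (AlgSp.Points.toScheme _ π))) = v
    rw [AlgSp.Points.ofScheme_toScheme, hπ2, AlgSp.Points.toScheme_ofScheme]
  have hvcl : v ∈ closure (Set.range e.left) := by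
    rw [← Scheme.Hom.support_ker, ← Scheme.IdealSheafData.range_subschemeι]
    refine ⟨AlgSp.Points.toScheme _ π, ?_⟩
    rw [← hv', hzl]
    rfl
  have hopen : IsOpen (AlgSp.Points.ofPt p ⁻¹' O) := hO.preimage (AlgSp.Points.continuous_ofPt p)
  obtain ⟨_, hu1, u, rfl⟩ := mem_closure_iff.1 hvcl _ hopen (by
    show AlgSp.Points.ofPt p v ∈ O
    rw [hv]; exact hyO)
  refine ⟨_, hu1, AlgSp.Points.ofPt (w ≫ pullback.fst f p) u, ?_⟩
  rw [AlgSp.Points.map_ofPt, Category.assoc, pullback.condition, ← Category.assoc, hw,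
    Groth.Agent.S10176.ofPt_map_comp]

end Groth.Agent.Lib.Helper9.SchImageQc
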