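import Mathlib
import Groth.Agent.Lib.Helper9SchImageQcC
import Groth.Agent.S2121

/-!
# Valuation rings reaching the points of the scheme theoretic image of a quasi-compact morphism of algebraic spaces
(helper9)
-/

set_option autoImplicit false
set_option linter.style.haveILetI false
set_option backward.isDefEq.respectTransparency false
universe u
open CategoryTheory CategoryTheory.Limits AlgebraicGeometry Opposite
open AlgSp

namespace Groth.Agent.Lib.Helper9.SchImageQc

open Groth.Agent.Lib.Helper9 Groth.Agent.Lib.Helper12.ClosedDescent Groth.Agent.Lib.Helper12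

variable {S : Scheme.{u}}

theorem exists_valuationRing_to_schImage {F G Z : AlgSp.Sp S} (hF : AlgSp.IsAlgSpace F)
    (hG : AlgSp.IsAlgSpace G) (f : F ⟶ G) (hq : AlgSp.IsQuasiCompactMor f) (i : Z ⟶ G)
    (hZ : AlgSp.IsSchImage f i) (z : AlgSp.Points Z) :
    ∃ (A : Type u) (_ : CommRing A) (_ : IsDomain A) (_ : ValuationRing A)
      (str : Spec (CommRingCat.of A) ⟶ S)
      (a : (AlgSp.yon S).obj (Over.mk str) ⟶ Z)
      (x : (AlgSp.yon S).obj
        (Over.mk (Spec.map (CommRingCat.ofHom (algebraMap A (FractionRing A))) ≫ str)) ⟶ F),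
      AlgSp.Points.ofPt a (IsLocalRing.closedPoint A) = z ∧
      x ≫ f = (AlgSp.yon S).map
        (Over.homMk (Spec.map (CommRingCat.ofHom (algebraMap A (FractionRing A)))) rfl) ≫ a ≫ i := by
  obtain ⟨V, E, p, e, w, q, hpe, hps, hwepi, hw, hqc, sqq⟩ :=
    exists_chart_of_isSchImage hF hG f hq i hZ
  haveI := hqc
  obtain ⟨z₀, τ, hz, hzl, hτl, hτz⟩ := exists_image_over e
  rw [← hz] at sqq
  have hqs : AlgSp.RepWith @Surjective q :=
    MorphismProperty.of_isPullback (P := AlgSp.RepWith @Surjective) sqq.flip hps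
  obtain ⟨v', hv'⟩ := Groth.Agent.S10177.surjective_ofPt q hqs z
  haveI : QuasiCompact τ.left := by rw [hτl]; infer_instance
  have hdense : v' ∈ closure (Set.range τ.left.base) := by
    haveI : IsDominant τ.left := by rw [hτl]; infer_instance
    rw [(Scheme.Hom.denseRange τ.left).closure_range]
    exact Set.mem_univ _
  obtain ⟨A, _, _, _, x₀, y₀, hxy, hy₀⟩ := Groth.Agent.S2121.result τ.left v' hdense
  have hx₀ : x₀ ≫ E.hom = Spec.map (CommRingCat.ofHom (algebraMap A (FractionRing A))) ≫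
      y₀ ≫ (Over.mk (e.left.imageι ≫ V.hom)).hom := by
    rw [← Over.w τ, ← Category.assoc, hxy, Category.assoc]
  obtain ⟨yO, hyO⟩ : ∃ yO : Over.mk (y₀ ≫ (Over.mk (e.left.imageι ≫ V.hom)).hom) ⟶
      Over.mk (e.left.imageι ≫ V.hom), yO = Over.homMk y₀ rfl := ⟨_, rfl⟩
  obtain ⟨xO, hxO⟩ : ∃ xO : Over.mk (Spec.map (CommRingCat.ofHom (algebraMap A (FractionRing A))) ≫
      y₀ ≫ (Over.mk (e.left.imageι ≫ V.hom)).hom) ⟶ E, xO = Over.homMk x₀ hx₀ := ⟨_, rfl⟩
  obtain ⟨jO, hjO⟩ : ∃ jO : Over.mk (Spec.map (CommRingCat.ofHom (algebraMap A (FractionRing A))) ≫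
      y₀ ≫ (Over.mk (e.left.imageι ≫ V.hom)).hom) ⟶
      Over.mk (y₀ ≫ (Over.mk (e.left.imageι ≫ V.hom)).hom),
      jO = Over.homMk (Spec.map (CommRingCat.ofHom (algebraMap A (FractionRing A)))) rfl := ⟨_, rfl⟩
  have hcomm : xO ≫ τ = jO ≫ yO := by
    apply Over.OverMorphism.ext
    rw [Over.comp_left, Over.comp_left, hxO, hjO, hyO]
    exact hxy
  refine ⟨A, inferInstance, inferInstance, inferInstance, y₀ ≫ (Over.mk (e.left.imageι ≫ V.hom)).hom,
    (AlgSp.yon S).map yO ≫ q, (AlgSp.yon S).map xO ≫ w ≫ pullback.fst f p, ?_, ?_⟩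
  · rw [Groth.Agent.S10176.ofPt_map_comp, ← hv']
    congr 1
    rw [hyO]
    exact hy₀
  · have h1 : ((AlgSp.yon S).map xO ≫ w ≫ pullback.fst f p) ≫ f =
        (AlgSp.yon S).map xO ≫ (AlgSp.yon S).map e ≫ p := by
      rw [Category.assoc, Category.assoc, pullback.condition, ← Category.assoc w, hw]
    have h2 : (AlgSp.yon S).map jO ≫ ((AlgSp.yon S).map yO ≫ q) ≫ i =
        (AlgSp.yon S).map jO ≫ (AlgSp.yon S).map yO ≫ (AlgSp.yon S).map z₀ ≫ p := by
      rw [Category.assoc, sqq.w]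
    have hcomm2 : xO ≫ e = jO ≫ yO ≫ z₀ := by
      have h : xO ≫ (τ ≫ z₀) = jO ≫ yO ≫ z₀ :=
        (Category.assoc xO τ z₀).symm.trans
          ((congrArg (fun m => m ≫ z₀) hcomm).trans (Category.assoc jO yO z₀))
      rwa [hτz] at h
    have h3 : (AlgSp.yon S).map xO ≫ (AlgSp.yon S).map e =
        (AlgSp.yon S).map jO ≫ (AlgSp.yon S).map yO ≫ (AlgSp.yon S).map z₀ := by
      rw [← Functor.map_comp, ← Functor.map_comp, ← Functor.map_comp, hcomm2]
    rw [← hjO, h1, h2, ← Category.assoc ((AlgSp.yon S).map xO), h3]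
    simp only [Category.assoc]

end Groth.Agent.Lib.Helper9.SchImageQc
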