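import Mathlib
import Groth.Agent.Lib.Helper9SchImageQcD
import Groth.Agent.Lib.Helper12DecentDesc
import Groth.Agent.S9919
import Groth.Agent.S9964
import Groth.Agent.S10496

/-!
# A quasi-separated universally closed morphism of algebraic spaces satisfies the existence part of the valuative criterion
(helper9)
-/

set_option autoImplicit false
set_option linter.style.haveILetI false
set_option backward.isDefEq.respectTransparency false
universe u
open CategoryTheory CategoryTheory.Limits AlgebraicGeometry Opposite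
open AlgSp

namespace Groth.Agent.Lib.Helper9.ExistVC

open Groth.Agent.Lib.Helper9 Groth.Agent.Lib.Helper12

variable {S : Scheme.{u}}

theorem existVC_of_quasiSeparated_univClosed {X Y : AlgSp.Sp S} (hX : AlgSp.IsAlgSpace X)
    (hY : AlgSp.IsAlgSpace Y) (f : X ⟶ Y) (hqs : AlgSp.IsQuasiSeparatedMor f)
    (hc : AlgSp.IsUnivClosedMor f) : AlgSp.ExistVC f := by
  intro sq
  -- the base change to `Spec A`
  have hXA : AlgSp.IsAlgSpace (pullback f sq.bot) :=
    Groth.Agent.S9874.isAlgSpace_of_isPullback hY.diag hX (AlgSp.IsAlgSpace.yon_obj _)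
      (IsPullback.of_hasPullback f sq.bot)
  obtain ⟨x, hx1, hx2⟩ : ∃ x : (AlgSp.yon S).obj sq.ptK ⟶ pullback f sq.bot,
      x ≫ pullback.fst f sq.bot = sq.top ∧ x ≫ pullback.snd f sq.bot = (AlgSp.yon S).map sq.j :=
    ⟨pullback.lift _ _ sq.comm, pullback.lift_fst _ _ _, pullback.lift_snd _ _ _⟩
  have hqs' : AlgSp.IsQuasiSeparatedMor (pullback.snd f sq.bot) :=
    MorphismProperty.of_isPullback (P := (AlgSp.RepWith @QuasiCompact).diagonal)
      (IsPullback.of_hasPullback f sq.bot) hqs
  haveI : QuasiCompact sq.j.left := by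
    change QuasiCompact (Spec.map (CommRingCat.ofHom (algebraMap sq.A sq.K)))
    infer_instance
  have hxqc : AlgSp.IsQuasiCompactMor x :=
    Groth.Agent.S9919.isQuasiCompactMor_of_comp (AlgSp.IsAlgSpace.yon_obj _) hXA
      (AlgSp.IsAlgSpace.yon_obj _) x (pullback.snd f sq.bot)
      (by rw [hx2]; exact DecentDesc.isQuasiCompactMor_yon_map sq.j) hqs'
  -- the scheme theoretic image of `x`
  obtain ⟨Z, i, hZ⟩ := Groth.Agent.S9964.result
    (X := ⟨(AlgSp.yon S).obj sq.ptK, AlgSp.IsAlgSpace.yon_obj _⟩) (Y := ⟨pullback f sq.bot, hXA⟩)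
    (ObjectProperty.homMk x)
  change AlgSp.IsSchImage x i.hom at hZ
  obtain ⟨xZ, hxZ⟩ := hZ.2.1
  -- a point of `Z` over the closed point
  have hcl : IsClosedMap (AlgSp.Points.map (i.hom ≫ pullback.snd f sq.bot)) := by
    have h1 : IsClosedMap (AlgSp.Points.map i.hom) :=
      Groth.Agent.S10496.isClosedMap_map_of_closedImmersion i hZ.1
    have h2 : IsClosedMap (AlgSp.Points.map (pullback.snd f sq.bot)) :=
      hc (AlgSp.IsAlgSpace.yon_obj _) sq.bot _ _ (IsPullback.of_hasPullback f sq.bot)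
    have : AlgSp.Points.map (i.hom ≫ pullback.snd f sq.bot) =
        AlgSp.Points.map (pullback.snd f sq.bot) ∘ AlgSp.Points.map i.hom :=
      funext fun p => AlgSp.Points.map_comp _ _ p
    rw [this]
    exact h2.comp h1
  obtain ⟨z, hz⟩ : ∃ z : AlgSp.Points Z.obj, AlgSp.Points.map (i.hom ≫ pullback.snd f sq.bot) z =
      AlgSp.Points.ofScheme sq.ptA (IsLocalRing.closedPoint sq.A) := by
    have hR : IsClosed (AlgSp.Points.ofScheme sq.ptA ⁻¹'
        Set.range (AlgSp.Points.map (i.hom ≫ pullback.snd f sq.bot))) :=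
      (hcl.isClosed_range).preimage (AlgSp.Points.continuous_ofPt _)
    obtain ⟨η⟩ : Nonempty (sq.ptK.left) :=
      inferInstanceAs (Nonempty (Spec (CommRingCat.of sq.K)))
    have hη : sq.j.left η ∈ AlgSp.Points.ofScheme sq.ptA ⁻¹'
        Set.range (AlgSp.Points.map (i.hom ≫ pullback.snd f sq.bot)) := by
      refine ⟨AlgSp.Points.ofPt xZ η, ?_⟩
      rw [AlgSp.Points.map_ofPt, ← Category.assoc, hxZ, hx2]
      change AlgSp.Points.ofPt ((AlgSp.yon S).map sq.j) η = AlgSp.Points.ofPt (𝟙 _) (sq.j.left η)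
      rw [← Groth.Agent.S10176.ofPt_map_comp, Category.comp_id]
    exact hR.stableUnderSpecialization
      (IsLocalRing.specializes_closedPoint (R := sq.A) (sq.j.left η)) hη
  -- the valuation ring
  obtain ⟨A', _, _, _, str', a, x', ha, hcomm⟩ :=
    Groth.Agent.Lib.Helper9.SchImageQc.exists_valuationRing_to_schImage
      (AlgSp.IsAlgSpace.yon_obj _) hXA x hxqc i.hom hZ z
  -- the morphism `Spec A' ⟶ Spec A`
  obtain ⟨m, hm⟩ := (AlgSp.yon S).map_surjective (a ≫ i.hom ≫ pullback.snd f sq.bot)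
  obtain ⟨μ, hμ⟩ : ∃ μ : Spec (CommRingCat.of A') ⟶ Spec (CommRingCat.of sq.A), μ = m.left := ⟨_, rfl⟩
  have hμw : μ ≫ sq.str = str' := by rw [hμ]; exact Over.w m
  subst hμw
  have hmμ : m = Over.homMk μ rfl := by
    apply Over.OverMorphism.ext
    exact hμ.symm
  obtain ⟨φ, rfl⟩ : ∃ φ : sq.A →+* A', μ = Spec.map (CommRingCat.ofHom φ) :=
    ⟨(Spec.preimage μ).hom, by simp⟩
  obtain ⟨n, hn⟩ := (AlgSp.yon S).map_surjective x'
  obtain ⟨ψ, hψ⟩ : ∃ ψ : sq.K →+* FractionRing A', n.left = Spec.map (CommRingCat.ofHom ψ) :=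
    ⟨(Spec.preimage n.left).hom, by simp⟩
  -- compatibility
  have hsq : (AlgSp.yon S).map n ≫ (AlgSp.yon S).map sq.j =
      (AlgSp.yon S).map (Over.homMk (Spec.map (CommRingCat.ofHom (algebraMap A' (FractionRing A')))) rfl :
        Over.mk (Spec.map (CommRingCat.ofHom (algebraMap A' (FractionRing A'))) ≫
          Spec.map (CommRingCat.ofHom φ) ≫ sq.str) ⟶ Over.mk (Spec.map (CommRingCat.ofHom φ) ≫ sq.str)) ≫
        (AlgSp.yon S).map m := by
    rw [hn, hm, ← hx2]
    have h := congrArg (fun k => k ≫ pullback.snd f sq.bot) hcomm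
    simpa only [Category.assoc] using h
  have hsq' : n.left ≫ Spec.map (CommRingCat.ofHom (algebraMap sq.A sq.K)) =
      Spec.map (CommRingCat.ofHom (algebraMap A' (FractionRing A'))) ≫ Spec.map (CommRingCat.ofHom φ) := by
    rw [← Functor.map_comp, ← Functor.map_comp] at hsq
    have := congrArg (fun k => k.left) ((AlgSp.yon S).map_injective hsq)
    simp only [Over.comp_left] at this
    rw [hmμ] at this
    exact this
  have hcommR : (algebraMap A' (FractionRing A')).comp φ = ψ.comp (algebraMap sq.A sq.K) := by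
    rw [hψ, ← Spec.map_comp, ← Spec.map_comp, Spec.map_inj, ← CommRingCat.ofHom_comp,
      ← CommRingCat.ofHom_comp] at hsq'
    exact (congrArg CommRingCat.Hom.hom hsq').symm
  have hloc : IsLocalHom φ := by
    rw [IsLocalRing.isLocalHom_iff_comap_closedPoint]
    have h1 : AlgSp.Points.ofScheme sq.ptA (m.left (IsLocalRing.closedPoint A')) =
        AlgSp.Points.ofScheme sq.ptA (IsLocalRing.closedPoint sq.A) := by
      rw [← hz, ← ha, AlgSp.Points.map_ofPt, ← hm]
      change AlgSp.Points.ofPt (𝟙 _) (m.left (IsLocalRing.closedPoint A')) = _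
      rw [← Groth.Agent.S10176.ofPt_map_comp, Category.comp_id]
    have h2 := (AlgSp.Points.schemeEquiv sq.ptA).injective h1
    rw [hmμ] at h2
    exact h2
  refine ⟨{ A' := A', K' := FractionRing A', φ := φ, ψ := ψ, comm := hcommR, isLocalHom := hloc },
    a ≫ i.hom ≫ pullback.fst f sq.bot, ?_, ?_⟩
  · have hnO : n = Over.homMk (Spec.map (CommRingCat.ofHom ψ)) (by
        change Spec.map _ ≫ Spec.map _ ≫ _ = Spec.map _ ≫ Spec.map _ ≫ _
        rw [← Spec.map_comp_assoc, ← Spec.map_comp_assoc, ← CommRingCat.ofHom_comp,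
          ← CommRingCat.ofHom_comp, hcommR]) := by
      apply Over.OverMorphism.ext
      exact hψ
    rw [← hnO, hn, ← hx1]
    have h := congrArg (fun k => k ≫ pullback.fst f sq.bot) hcomm
    simpa only [Category.assoc] using h.symm
  · have h : (a ≫ i.hom ≫ pullback.fst f sq.bot) ≫ f =
        (a ≫ i.hom ≫ pullback.snd f sq.bot) ≫ sq.bot := by
      simp only [Category.assoc, pullback.condition]
    rw [h, ← hm, hmμ]

end Groth.Agent.Lib.Helper9.ExistVC
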