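import Groth.Agent.Lib.Helper16FiltColim

set_option autoImplicit false
set_option linter.style.haveILetI false
set_option linter.unusedSectionVars false
universe w v u
open CategoryTheory CategoryTheory.Limits Opposite Abelian
open Groth.Agent.Lib.Helper16.FiltColim

namespace Groth.Agent.Lib.Helper9.ExtFive

variable {𝒜 : Type u} [Category.{v} 𝒜] [Abelian 𝒜] [HasExt.{w} 𝒜]

/-- precomposition on Ext groups -/
noncomputable def pre {A B : 𝒜} {a : ℕ} (α : Ext.{w} A B a) (X : 𝒜) {p q : ℕ} (h : a + p = q) :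
    Ext.{w} B X p →+ Ext.{w} A X q := α.precomp X h

lemma pre_apply {A B : 𝒜} {a : ℕ} (α : Ext.{w} A B a) (X : 𝒜) {p q : ℕ} (h : a + p = q)
    (x : Ext.{w} B X p) : pre α X h x = α.comp x h := rfl

lemma push_pre {A B : 𝒜} {a : ℕ} (α : Ext.{w} A B a) {X Y : 𝒜} (b : X ⟶ Y) {p q : ℕ}
    (h : a + p = q) (x : Ext.{w} B X p) :
    push A b q (pre α X h x) = pre α Y h (push B b p x) := by
  simp only [push_apply, pre_apply]
  exact Ext.comp_assoc α x (Ext.mk₀ b) h (add_zero p) (by omega)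

variable {I : Type*} [Category I]

/-- push to the point of a cocone -/
noncomputable def pushc (A : 𝒜) {G : I ⥤ 𝒜} (c : Cocone G) (i : I) (p : ℕ) :
    Ext.{w} A (G.obj i) p →+ Ext.{w} A c.pt p := push A (c.ι.app i) p

lemma pushc_push {A : 𝒜} {G : I ⥤ 𝒜} (c : Cocone G) {i j : I} (f : i ⟶ j) (p : ℕ)
    (y : Ext.{w} A (G.obj i) p) :
    pushc A c j p (push A (G.map f) p y) = pushc A c i p y := by
  unfold pushc
  rw [← push_comp, c.w]

lemma pushc_pre {A B : 𝒜} {a : ℕ} (α : Ext.{w} A B a) {G : I ⥤ 𝒜} (c : Cocone G) (i : I) {p q : ℕ}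
    (h : a + p = q) (x : Ext.{w} B (G.obj i) p) :
    pushc A c i q (pre α _ h x) = pre α _ h (pushc B c i p x) :=
  push_pre α (c.ι.app i) h x

variable [IsFiltered I]

theorem goodExt_X₃ {S : ShortComplex 𝒜} (hS : S.ShortExact) {G : I ⥤ 𝒜} (c : Cocone G)
    (h₁ : ∀ n, GoodExt.{w} S.X₁ n c) (h₂ : ∀ n, GoodExt.{w} S.X₂ n c) (n : ℕ) :
    GoodExt.{w} S.X₃ n c := by
  haveI := hS.epi_g
  have hfg : ∀ (Y : 𝒜) (m : ℕ) (x : Ext.{w} S.X₃ Y m),
      pre (Ext.mk₀ S.f) Y (zero_add m) (pre (Ext.mk₀ S.g) Y (zero_add m) x) = 0 := by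
    intro Y m x
    simp only [pre_apply]
    rw [← Ext.comp_assoc (Ext.mk₀ S.f) (Ext.mk₀ S.g) x (zero_add 0) (zero_add m) (by omega),
      Ext.mk₀_comp_mk₀, S.zero, Ext.mk₀_zero, Ext.zero_comp]
  have hδf : ∀ (Y : 𝒜) (m q : ℕ) (hq : 1 + m = q) (x : Ext.{w} S.X₂ Y m),
      pre hS.extClass Y hq (pre (Ext.mk₀ S.f) Y (zero_add m) x) = 0 := by
    intro Y m q hq x
    simp only [pre_apply]
    rw [← Ext.comp_assoc hS.extClass (Ext.mk₀ S.f) x (add_zero 1) (zero_add m) (by omega),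
      hS.extClass_comp, Ext.zero_comp]
  have surj₁ : ∀ m (x : Ext.{w} S.X₁ c.pt m), ∃ i y, pushc S.X₁ c i m y = x := fun m => (h₁ m).surj
  have surj₂ : ∀ m (x : Ext.{w} S.X₂ c.pt m), ∃ i y, pushc S.X₂ c i m y = x := fun m => (h₂ m).surj
  have inj₁ : ∀ m i (y : Ext.{w} S.X₁ (G.obj i) m), pushc S.X₁ c i m y = 0 →
      ∃ (j : I) (f : i ⟶ j), push S.X₁ (G.map f) m y = 0 := fun m => (h₁ m).inj
  have inj₂ : ∀ m i (y : Ext.{w} S.X₂ (G.obj i) m), pushc S.X₂ c i m y = 0 →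
      ∃ (j : I) (f : i ⟶ j), push S.X₂ (G.map f) m y = 0 := fun m => (h₂ m).inj
  suffices hh : (∀ x : Ext.{w} S.X₃ c.pt n, ∃ i y, pushc S.X₃ c i n y = x) ∧
      (∀ i (y : Ext.{w} S.X₃ (G.obj i) n), pushc S.X₃ c i n y = 0 →
        ∃ (j : I) (f : i ⟶ j), push S.X₃ (G.map f) n y = 0) from ⟨hh.1, hh.2⟩
  constructor
  · intro x
    obtain ⟨i, y, hy⟩ := surj₂ n (pre (Ext.mk₀ S.g) c.pt (zero_add n) x)
    have h0 : pushc S.X₁ c i n (pre (Ext.mk₀ S.f) _ (zero_add n) y) = 0 := by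
      rw [pushc_pre, hy, hfg]
    obtain ⟨j, f, hj⟩ := inj₁ n i _ h0
    have hyj : (Ext.mk₀ S.f).comp (push S.X₂ (G.map f) n y) (zero_add n) = 0 := by
      rw [← pre_apply, ← push_pre]; exact hj
    obtain ⟨z, hz⟩ := Ext.contravariant_sequence_exact₂ hS _ _ hyj
    have hd : (Ext.mk₀ S.g).comp (pushc _ c j n z - x) (zero_add n) = 0 := by
      rw [← pre_apply, map_sub, ← pushc_pre, pre_apply, hz, pushc_push, hy, sub_self]
    cases n with
    | zero =>
      refine ⟨j, z, ?_⟩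
      have := Ext.precomp_mk₀_injective_of_epi c.pt S.g
        (a₁ := pushc _ c j 0 z - x) (a₂ := 0) (by rw [map_zero]; exact hd)
      exact sub_eq_zero.mp this
    | succ m =>
      obtain ⟨w, hw⟩ := Ext.contravariant_sequence_exact₃ hS _ _ hd (n₀ := m) (by omega)
      obtain ⟨k, wk, hwk⟩ := surj₁ m w
      refine ⟨IsFiltered.max j k, push _ (G.map (IsFiltered.leftToMax j k)) _ z -
        pre hS.extClass _ (by omega) (push _ (G.map (IsFiltered.rightToMax j k)) _ wk), ?_⟩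
      rw [map_sub, pushc_push, pushc_pre, pushc_push, hwk, pre_apply, hw]
      abel
  · intro i y hy
    have h0 : pushc S.X₂ c i n (pre (Ext.mk₀ S.g) _ (zero_add n) y) = 0 := by
      rw [pushc_pre, hy, map_zero]
    obtain ⟨j, f, hj⟩ := inj₂ n i _ h0
    have hyj : (Ext.mk₀ S.g).comp (push S.X₃ (G.map f) n y) (zero_add n) = 0 := by
      rw [← pre_apply, ← push_pre]; exact hj
    cases n with
    | zero =>
      refine ⟨j, f, ?_⟩
      exact Ext.precomp_mk₀_injective_of_epi _ S.g (a₁ := push _ (G.map f) 0 y) (a₂ := 0)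
        (by rw [map_zero]; exact hyj)
    | succ m =>
      obtain ⟨w, hw⟩ := Ext.contravariant_sequence_exact₃ hS _ _ hyj (n₀ := m) (by omega)
      -- δ (push w) = push (push y) = 0
      have hδ : hS.extClass.comp (pushc S.X₁ c j m w) (by omega : 1 + m = m + 1) = 0 := by
        rw [← pre_apply, ← pushc_pre, pre_apply, hw, pushc_push, hy]
      obtain ⟨v, hv⟩ := Ext.contravariant_sequence_exact₁ hS _ _ _ hδ
      obtain ⟨k, vk, hvk⟩ := surj₂ m v
      let l := IsFiltered.max j k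
      let a : j ⟶ l := IsFiltered.leftToMax j k
      let b : k ⟶ l := IsFiltered.rightToMax j k
      have hl : pushc S.X₁ c l m (push _ (G.map a) m w -
          pre (Ext.mk₀ S.f) _ (zero_add m) (push _ (G.map b) m vk)) = 0 := by
        rw [map_sub, pushc_push, pushc_pre, pushc_push, hvk, pre_apply, hv, sub_self]
      obtain ⟨r, g, hr⟩ := inj₁ m l _ hl
      refine ⟨r, f ≫ a ≫ g, ?_⟩
      rw [G.map_comp, G.map_comp, push_comp, push_comp, ← hw, ← pre_apply, push_pre,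
        push_pre]
      rw [map_sub, sub_eq_zero] at hr
      rw [hr, push_pre]
      exact hδf (G.obj r) m _ _ (push S.X₂ (G.map g) m (push S.X₂ (G.map b) m vk))

end Groth.Agent.Lib.Helper9.ExtFive
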