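import Groth.Agent.Lib.Helper9ExtZero
import Groth.Agent.Lib.Helper16ExtCompare

/-!
# Ext groups and restriction to a localized site (helper9)

For a small site `(C, J)` and `X : C`, restriction `j^* : Sh(C, Ab) ⥤ Sh(C/X, Ab)` is exact and preserves
injectives (its left adjoint `j_!` is exact), so a natural bijection `Hom(A, F) ≃ Hom(B, j^* F)` extends to
isomorphisms `Ext^n(A, F) ≃ Ext^n(B, j^* F)`.
-/

set_option autoImplicit false

universe u

open CategoryTheory Limits Opposite Abelian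

namespace Groth.Agent.Lib.Helper9.ExtZero

section

variable {C : Type u} [SmallCategory C] (J : GrothendieckTopology C) (X : C)

/-- restriction to the localized site -/
noncomputable abbrev jstar : Sheaf J AddCommGrpCat.{u} ⥤ Sheaf (J.over X) AddCommGrpCat.{u} :=
  (Over.forget X).sheafPushforwardContinuous AddCommGrpCat.{u} (J.over X) J

instance jstar_preservesFiniteLimits : PreservesFiniteLimits (jstar J X) := by
  haveI : PreservesLimitsOfSize.{0, 0} (jstar J X) :=
    (shAdj.{u} J X).rightAdjoint_preservesLimits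
  exact PreservesLimitsOfSize.preservesFiniteLimits _

instance jstar_preservesFiniteColimits : PreservesFiniteColimits (jstar J X) := by
  haveI : PreservesColimitsOfSize.{0, 0} (jstar J X) :=
    ((Over.forget X).sheafAdjunctionCocontinuous AddCommGrpCat.{u} (J.over X)
      J).leftAdjoint_preservesColimits
  exact PreservesColimitsOfSize.preservesFiniteColimits _

instance jstar_additive : (jstar J X).Additive := restr_additive.{u} J X

variable {J X}

/-- a natural bijection `Hom(A, F) ≃ Hom(B, j^* F)` extends to all `Ext` groups -/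
theorem ext_bijective {A : Sheaf J AddCommGrpCat.{u}} {B : Sheaf (J.over X) AddCommGrpCat.{u}}
    (e : ∀ F : Sheaf J AddCommGrpCat.{u}, (A ⟶ F) ≃ (B ⟶ (jstar J X).obj F))
    (he : ∀ (F F' : Sheaf J AddCommGrpCat.{u}) (φ : A ⟶ F) (g : F ⟶ F'),
      e F' (φ ≫ g) = e F φ ≫ (jstar J X).map g)
    (F : Sheaf J AddCommGrpCat.{u}) (n : ℕ) :
    Function.Bijective (Groth.Agent.Lib.Helper16.ExtCompare.cmp.{u, u} (jstar J X)
      (e A (𝟙 A)) F n) := by
  refine Groth.Agent.Lib.Helper16.ExtCompare.cmp_bijective.{u, u} (jstar J X) (e A (𝟙 A))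
    ?_ ?_ n F
  · intro F
    have : (fun φ : A ⟶ F => e A (𝟙 A) ≫ (jstar J X).map φ) = e F := by
      funext φ
      rw [← he, Category.id_comp]
    rw [this]
    exact (e F).bijective
  · intro I _ n
    haveI : Injective ((jstar J X).obj I) := Injective.injective_of_adjoint (shAdj.{u} J X) I
    exact Ext.subsingleton_of_injective _ _ _

/-- the resulting isomorphisms of `Ext` groups -/
noncomputable def extEquiv {A : Sheaf J AddCommGrpCat.{u}} {B : Sheaf (J.over X) AddCommGrpCat.{u}}
    (e : ∀ F : Sheaf J AddCommGrpCat.{u}, (A ⟶ F) ≃ (B ⟶ (jstar J X).obj F))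
    (he : ∀ (F F' : Sheaf J AddCommGrpCat.{u}) (φ : A ⟶ F) (g : F ⟶ F'),
      e F' (φ ≫ g) = e F φ ≫ (jstar J X).map g)
    (F : Sheaf J AddCommGrpCat.{u}) (n : ℕ) :
    Ext.{u} A F n ≃+ Ext.{u} B ((jstar J X).obj F) n :=
  AddEquiv.ofBijective _ (ext_bijective e he F n)

end

section FreeSet

variable {C : Type u} [SmallCategory C] (J : GrothendieckTopology C) (X : C)

/-- extension (by the empty set) of a sheaf of sets on `C/X` to `C` -/
noncomputable abbrev shriekSet (K : Sheaf (J.over X) (Type u)) : Sheaf J (Type u) :=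
  ((Over.forget X).sheafPullback (Type u) (J.over X) J).obj K

/-- the free abelian sheaf on a sheaf of sets -/
noncomputable abbrev freeSh {D : Type u} [SmallCategory D] (K : GrothendieckTopology D)
    (L : Sheaf K (Type u)) : Sheaf K AddCommGrpCat.{u} :=
  (presheafToSheaf K AddCommGrpCat.{u}).obj (L.obj ⋙ AddCommGrpCat.free.{u})

/-- `Hom(ℤ[j_! K], F) ≃ Hom(ℤ[K], j^* F)` -/
noncomputable def freeEquiv (K : Sheaf (J.over X) (Type u)) (F : Sheaf J AddCommGrpCat.{u}) :
    (freeSh J (shriekSet J X K) ⟶ F) ≃ (freeSh (J.over X) K ⟶ (jstar J X).obj F) :=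
  ((Sheaf.adjunction J AddCommGrpCat.adj.{u}).homEquiv (shriekSet J X K) F).trans
    ((((Over.forget X).sheafAdjunctionContinuous (Type u) (J.over X) J).homEquiv K
      ((sheafCompose J (forget AddCommGrpCat.{u})).obj F)).trans
      ((Sheaf.adjunction (J.over X) AddCommGrpCat.adj.{u}).homEquiv K ((jstar J X).obj F)).symm)

lemma freeEquiv_naturality (K : Sheaf (J.over X) (Type u)) (F F' : Sheaf J AddCommGrpCat.{u})
    (φ : freeSh J (shriekSet J X K) ⟶ F) (g : F ⟶ F') :
    freeEquiv J X K F' (φ ≫ g) = freeEquiv J X K F φ ≫ (jstar J X).map g := by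
  have h1 := (Sheaf.adjunction J AddCommGrpCat.adj.{u}).homEquiv_naturality_right φ g
  have h2 := ((Over.forget X).sheafAdjunctionContinuous (Type u) (J.over X)
    J).homEquiv_naturality_right
      ((Sheaf.adjunction J AddCommGrpCat.adj.{u}).homEquiv (shriekSet J X K) F φ)
      ((sheafCompose J (forget AddCommGrpCat.{u})).map g)
  have h3 := (Sheaf.adjunction (J.over X) AddCommGrpCat.adj.{u}).homEquiv_naturality_right_symm
    (((Over.forget X).sheafAdjunctionContinuous (Type u) (J.over X) J).homEquiv K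
      ((sheafCompose J (forget AddCommGrpCat.{u})).obj F)
      ((Sheaf.adjunction J AddCommGrpCat.adj.{u}).homEquiv (shriekSet J X K) F φ))
    ((jstar J X).map g)
  simp only [freeEquiv, Equiv.trans_apply]
  rw [h1, h2]
  exact h3

/-- `H^n(j_! K, F) ≃ H^n(K, j^* F)` -/
noncomputable def HKEquiv (K : Sheaf (J.over X) (Type u)) (F : Sheaf J AddCommGrpCat.{u}) (n : ℕ) :
    Ext.{u} (freeSh J (shriekSet J X K)) F n ≃+
      Ext.{u} (freeSh (J.over X) K) ((jstar J X).obj F) n :=
  extEquiv (freeEquiv J X K) (freeEquiv_naturality J X K) F n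

end FreeSet

section Const

/-- maps out of `ℤ` (lifted) are elements -/
noncomputable def zEquiv (M : AddCommGrpCat.{u}) :
    (AddCommGrpCat.of (ULift.{u} ℤ) ⟶ M) ≃ M :=
  Equiv.ofBijective (fun φ => φ.hom ⟨1⟩) (by
    constructor
    · intro φ ψ h
      apply AddCommGrpCat.hom_ext
      have : φ.hom.comp AddEquiv.ulift.symm.toAddMonoidHom =
          ψ.hom.comp AddEquiv.ulift.symm.toAddMonoidHom := AddMonoidHom.ext_int h
      ext ⟨n⟩
      exact DFunLike.congr_fun this n
    · intro m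
      refine ⟨AddCommGrpCat.ofHom ((zmultiplesHom M m).comp
        (AddEquiv.ulift : ULift.{u} ℤ ≃+ ℤ).toAddMonoidHom), ?_⟩
      change (1 : ℤ) • m = m
      exact one_zsmul m)

lemma zEquiv_comp {M M' : AddCommGrpCat.{u}} (φ : AddCommGrpCat.of (ULift.{u} ℤ) ⟶ M)
    (g : M ⟶ M') : zEquiv M' (φ ≫ g) = g.hom (zEquiv M φ) := rfl

variable {C : Type u} [SmallCategory C] (J : GrothendieckTopology C) (U : C)

/-- maps out of the free abelian sheaf on `U` are sections over `U` -/
noncomputable def freeYonedaEquiv (F : Sheaf J AddCommGrpCat.{u}) :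
    ((presheafToSheaf J AddCommGrpCat.{u}).obj (yoneda.obj U ⋙ AddCommGrpCat.free.{u}) ⟶ F) ≃
      F.obj.obj (op U) :=
  ((sheafificationAdjunction J AddCommGrpCat.{u}).homEquiv
      (yoneda.obj U ⋙ AddCommGrpCat.free.{u}) F).trans
    (((AddCommGrpCat.adj.{u}.whiskerRight Cᵒᵖ).homEquiv (yoneda.obj U) F.obj).trans
      yonedaEquiv)

lemma freeYonedaEquiv_comp (F F' : Sheaf J AddCommGrpCat.{u})
    (φ : (presheafToSheaf J AddCommGrpCat.{u}).obj (yoneda.obj U ⋙ AddCommGrpCat.free.{u}) ⟶ F)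
    (g : F ⟶ F') :
    freeYonedaEquiv J U F' (φ ≫ g) = (g.hom.app (op U)).hom (freeYonedaEquiv J U F φ) := by
  have h1 := (sheafificationAdjunction J AddCommGrpCat.{u}).homEquiv_naturality_right φ g
  have h2 := (AddCommGrpCat.adj.{u}.whiskerRight Cᵒᵖ).homEquiv_naturality_right
    ((sheafificationAdjunction J AddCommGrpCat.{u}).homEquiv
      (yoneda.obj U ⋙ AddCommGrpCat.free.{u}) F φ) g.hom
  simp only [freeYonedaEquiv, Equiv.trans_apply]
  rw [h1]
  erw [h2]
  rfl

/-- maps out of the constant sheaf `ℤ` on `C/U` are sections over the terminal object -/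
noncomputable def constEquiv (G : Sheaf (J.over U) AddCommGrpCat.{u}) :
    ((constantSheaf (J.over U) AddCommGrpCat.{u}).obj (AddCommGrpCat.of (ULift.{u} ℤ)) ⟶ G) ≃
      G.obj.obj (op (Over.mk (𝟙 U))) :=
  ((constantSheafAdj (J.over U) AddCommGrpCat.{u} Over.mkIdTerminal).homEquiv _ G).trans
    (zEquiv _)

lemma constEquiv_comp (G G' : Sheaf (J.over U) AddCommGrpCat.{u})
    (ψ : (constantSheaf (J.over U) AddCommGrpCat.{u}).obj (AddCommGrpCat.of (ULift.{u} ℤ)) ⟶ G)
    (h : G ⟶ G') :
    constEquiv J U G' (ψ ≫ h) =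
      (h.hom.app (op (Over.mk (𝟙 U)))).hom (constEquiv J U G ψ) := by
  have h1 := (constantSheafAdj (J.over U) AddCommGrpCat.{u}
    Over.mkIdTerminal).homEquiv_naturality_right ψ h
  simp only [constEquiv, Equiv.trans_apply]
  rw [h1]
  rfl

/-- `Hom(ℤ[h_U], F) ≃ Hom(ℤ, F|_U)` -/
noncomputable def freeConstEquiv (F : Sheaf J AddCommGrpCat.{u}) :
    ((presheafToSheaf J AddCommGrpCat.{u}).obj (yoneda.obj U ⋙ AddCommGrpCat.free.{u}) ⟶ F) ≃
      ((constantSheaf (J.over U) AddCommGrpCat.{u}).obj (AddCommGrpCat.of (ULift.{u} ℤ)) ⟶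
        (jstar J U).obj F) :=
  (freeYonedaEquiv J U F).trans (constEquiv J U ((jstar J U).obj F)).symm

lemma freeConstEquiv_naturality (F F' : Sheaf J AddCommGrpCat.{u})
    (φ : (presheafToSheaf J AddCommGrpCat.{u}).obj (yoneda.obj U ⋙ AddCommGrpCat.free.{u}) ⟶ F)
    (g : F ⟶ F') :
    freeConstEquiv J U F' (φ ≫ g) = freeConstEquiv J U F φ ≫ (jstar J U).map g := by
  apply (constEquiv J U ((jstar J U).obj F')).injective
  rw [constEquiv_comp]
  simp only [freeConstEquiv, Equiv.trans_apply]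
  refine ((constEquiv J U ((jstar J U).obj F')).apply_symm_apply _).trans ?_
  refine (freeYonedaEquiv_comp J U F F' φ g).trans ?_
  exact congrArg (fun t => (g.hom.app (op U)).hom t)
    ((constEquiv J U ((jstar J U).obj F)).apply_symm_apply _).symm

/-- `H^n(U, F) ≃ H^n(C/U, F|_U)` -/
noncomputable def HUEquiv (F : Sheaf J AddCommGrpCat.{u}) (n : ℕ) :
    Ext.{u} ((presheafToSheaf J AddCommGrpCat.{u}).obj
        (yoneda.obj U ⋙ AddCommGrpCat.free.{u})) F n ≃+
      Ext.{u} ((constantSheaf (J.over U) AddCommGrpCat.{u}).obj (AddCommGrpCat.of (ULift.{u} ℤ)))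
        ((jstar J U).obj F) n :=
  extEquiv (freeConstEquiv J U) (freeConstEquiv_naturality J U) F n

end Const

end Groth.Agent.Lib.Helper9.ExtZero
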