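import Groth.Agent.Lib.Helper9ExtZero
import Mathlib.CategoryTheory.Sites.CoverLifting

/-!
# The unit of extension by zero for a subterminal object

If every object of `C` has at most one morphism to `U`, then for every abelian sheaf `F` on `C/U`
the unit `F ⟶ j^* j_! F` is an isomorphism.
-/

set_option autoImplicit false

universe v u

open CategoryTheory Limits Opposite

namespace Groth.Agent.Lib.Helper9.ExtZero

section Abstract

universe v₂ v₃ u₂ u₃

variable {𝒞 : Type u₂} [Category.{v₂} 𝒞] {𝒟 : Type u₃} [Category.{v₃} 𝒟]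

/-- whether a component of the unit is an isomorphism does not depend on the left adjoint -/
lemma isIso_unit_app_of_adj {L₁ L₂ : 𝒞 ⥤ 𝒟} {R : 𝒟 ⥤ 𝒞} (adj₁ : L₁ ⊣ R) (adj₂ : L₂ ⊣ R) (X : 𝒞)
    [IsIso (adj₁.unit.app X)] : IsIso (adj₂.unit.app X) := by
  rw [← adj₁.unit_leftAdjointUniq_hom_app adj₂ X]
  infer_instance

end Abstract

section UnitIso

attribute [local instance] Classical.propDecidable

variable {C : Type u} [Category.{v} C] (J : GrothendieckTopology C) (U : C)

lemma isIso_ιSec (hU : ∀ (V : C) (f g : V ⟶ U), f = g)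
    (N : (Over U)ᵒᵖ ⥤ AddCommGrpCat.{max v u}) (Y : (Over U)ᵒᵖ) :
    IsIso (ιSec.{u} N Y) := by
  rw [ConcreteCategory.isIso_iff_bijective]
  constructor
  · exact DirectSum.of_injective _
  · intro s
    induction s using DirectSum.induction_on with
    | zero => exact ⟨0, map_zero _⟩
    | of φ x =>
      obtain rfl : φ = Y.unop.hom := hU _ _ _
      exact ⟨x, ιSec_apply N Y x⟩
    | add a b ha hb =>
      obtain ⟨a', rfl⟩ := ha
      obtain ⟨b', rfl⟩ := hb
      exact ⟨a' + b', map_add _ _ _⟩

lemma isIso_adj_unit_app (hU : ∀ V : C, Subsingleton (V ⟶ U))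
    (N : (Over U)ᵒᵖ ⥤ AddCommGrpCat.{max v u}) :
    IsIso ((adj.{u} U).unit.app N) := by
  haveI : ∀ Y, IsIso (((adj.{u} U).unit.app N).app Y) := fun Y => by
    have h : ((adj.{u} U).unit.app N).app Y = ιSec.{u} N Y := Category.comp_id _
    rw [h]
    exact isIso_ιSec U (fun V f g => (hU V).elim f g) N Y
  exact NatIso.isIso_of_isIso_app _

theorem isIso_shAdj_unit_app (hU : ∀ V : C, Subsingleton (V ⟶ U))
    (F : Sheaf (J.over U) AddCommGrpCat.{max v u}) :
    IsIso ((shAdj.{u} J U).unit.app F) := by
  haveI h1 := isIso_adj_unit_app U hU F.obj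
  have hP : Presheaf.IsSheaf (J.over U) ((Over.forget U).op ⋙ (extZero.{u} U).obj F.obj) :=
    (Presheaf.isSheaf_of_iso_iff (asIso ((adj.{u} U).unit.app F.obj))).1 F.property
  haveI h2 : IsIso (toSheafify (J.over U) ((Over.forget U).op ⋙ (extZero.{u} U).obj F.obj)) :=
    isIso_toSheafify (J.over U) hP
  haveI h3 : IsIso (Functor.whiskerLeft (Over.forget U).op
      (toSheafify J ((extZero.{u} U).obj F.obj))) := by
    rw [← (Over.forget U).toSheafify_pullbackSheafificationCompatibility
      AddCommGrpCat.{max v u} (J.over U) J]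
    haveI : IsIso (((Over.forget U).pushforwardContinuousSheafificationCompatibility
        AddCommGrpCat.{max v u} (J.over U) J).hom.app ((extZero.{u} U).obj F.obj)).hom :=
      inferInstanceAs (IsIso ((sheafToPresheaf (J.over U) AddCommGrpCat.{max v u}).map
        (((Over.forget U).pushforwardContinuousSheafificationCompatibility
          AddCommGrpCat.{max v u} (J.over U) J).hom.app ((extZero.{u} U).obj F.obj))))
    exact IsIso.comp_isIso' h2 this
  haveI : IsIso ((sheafToPresheaf _ _).map ((shAdj.{u} J U).unit.app F)) := by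
    rw [shAdj, Adjunction.map_restrictFullyFaithful_unit_app, Adjunction.comp_unit_app]
    simp only [Iso.refl_hom, NatTrans.id_app]
    erw [CategoryTheory.Functor.map_id, Category.comp_id]
    exact IsIso.comp_isIso' h1 h3
  exact isIso_of_reflects_iso _ (sheafToPresheaf _ _)

/-- for a subterminal object, the unit of any adjunction exhibiting a left adjoint of restriction
to `C/U` is an isomorphism -/
theorem isIso_unit_app_of_subsingleton (hU : ∀ V : C, Subsingleton (V ⟶ U))
    {L : Sheaf (J.over U) AddCommGrpCat.{max v u} ⥤ Sheaf J AddCommGrpCat.{max v u}}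
    (adjL : L ⊣ (Over.forget U).sheafPushforwardContinuous AddCommGrpCat.{max v u} (J.over U) J)
    (F : Sheaf (J.over U) AddCommGrpCat.{max v u}) :
    IsIso (adjL.unit.app F) := by
  haveI := isIso_shAdj_unit_app J U hU F
  exact isIso_unit_app_of_adj (shAdj.{u} J U) adjL F

end UnitIso

end Groth.Agent.Lib.Helper9.ExtZero
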