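import Mathlib
import Groth.Agent.Lib.Helper3FibCritSch

/-!
# The fibrewise criterion of flatness for locally Noetherian schemes (helper9)

Same argument as helper3's `Helper3FibCritSch.flat_stalkMap_of_flat_of_fibre`, with the Noetherian
ring lemma `Helper3.FibCritA.flat_localizedModule_of_fiberMap_flat_noeth`.
-/

set_option autoImplicit false
set_option linter.unusedVariables false
set_option linter.unusedSectionVars false
set_option linter.style.haveILetI false

open CategoryTheory CategoryTheory.Limits AlgebraicGeometry TensorProduct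

universe u

namespace Groth.Agent.Lib.Helper9.FibCritNoeth

open Groth.Agent.Lib.Helper3.EtGUSch Groth.Agent.Lib.Helper3.FibEtSch
  Groth.Agent.Lib.Helper3.FibChart Groth.Agent.Lib.Helper3.FibCritA
  Groth.Agent.Lib.Helper3.FibCritD Groth.Agent.Lib.Helper3.FibCritSch

set_option maxHeartbeats 3200000 in
/-- **Flat fibre criterion, pointwise form, locally Noetherian schemes.** -/
theorem flat_stalkMap_of_flat_of_fibre_noeth {X Y S : Scheme.{u}} (f : X ⟶ Y) (g : Y ⟶ S)
    [IsLocallyNoetherian X] [IsLocallyNoetherian Y] [IsLocallyNoetherian S]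
    (x : X) (s : S) (hxs : (f ≫ g) x = s)
    (hflat : ((f ≫ g).stalkMap x).hom.Flat)
    (U' : X.Opens) (hxU' : x ∈ U')
    (hfib : Flat ((((f ≫ g).fiberι s) ⁻¹ᵁ U').ι ≫ CohIII.fiberMapOver f (f ≫ g) g rfl s)) :
    (f.stalkMap x).hom.Flat := by
  subst hxs
  -- charts
  obtain ⟨S₀, hS₀, W, hW, hWS, hfxW, -⟩ := exists_affine_nhds g (f x) ⊤ trivial
  obtain ⟨V, hV, hxV, hVle⟩ := TopologicalSpace.Opens.isBasis_iff_nbhd.mp X.isBasis_affineOpens
    (show x ∈ U' ⊓ f ⁻¹ᵁ W from ⟨hxU', hfxW⟩)
  have hVU' : V ≤ U' := hVle.trans inf_le_left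
  have hVW : V ≤ f ⁻¹ᵁ W := hVle.trans inf_le_right
  have hVS : V ≤ (f ≫ g) ⁻¹ᵁ S₀ := fun z hz => hWS (hVW hz)
  let A := Γ(S, S₀)
  let B := Γ(Y, W)
  let C := Γ(X, V)
  letI algAB : Algebra A B := (g.appLE S₀ W hWS).hom.toAlgebra
  letI algBC : Algebra B C := (f.appLE W V hVW).hom.toAlgebra
  letI algAC : Algebra A C := ((f ≫ g).appLE S₀ V hVS).hom.toAlgebra
  haveI : IsScalarTower A B C := by
    refine IsScalarTower.of_algebraMap_eq' ?_
    show ((f ≫ g).appLE S₀ V hVS).hom = (f.appLE W V hVW).hom.comp (g.appLE S₀ W hWS).hom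
    rw [← CommRingCat.hom_comp, Scheme.Hom.appLE_comp_appLE]
  have hsS₀ : (f ≫ g) x ∈ S₀ := hVS hxV
  let p : Spec Γ(S, S₀) := hS₀.primeIdealOf ⟨(f ≫ g) x, hsS₀⟩
  let q : Spec Γ(X, V) := hV.primeIdealOf ⟨x, hxV⟩
  have hP : q.asIdeal.under A = p.asIdeal :=
    congr($(IsAffineOpen.comap_primeIdealOf_appLE S₀ hS₀ V hV hVS hxV).1)
  -- Noetherianity
  haveI : IsNoetherianRing A := IsLocallyNoetherian.component_noetherian ⟨S₀, hS₀⟩
  haveI : IsNoetherianRing B := IsLocallyNoetherian.component_noetherian ⟨W, hW⟩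
  haveI : IsNoetherianRing C := IsLocallyNoetherian.component_noetherian ⟨V, hV⟩
  -- flatness
  have hflat' : Module.Flat A (LocalizedModule q.asIdeal.primeCompl C) :=
    (Groth.Agent.S0386.flat_stalkMap_iff_localizedModule S₀ hS₀ V hV hVS hxV).mp hflat
  -- the chart of the fibre map
  have h4 := ringHom_fibre_chart (P := @Flat) (Q := @RingHom.Flat) f g hS₀ hW hV hWS hVW hVS
    x hxV U' hVU' hfib
  let ρ₁ : B ⊗[A] p.asIdeal.ResidueField →ₐ[A] C ⊗[A] p.asIdeal.ResidueField :=
    Algebra.TensorProduct.map (IsScalarTower.toAlgHom A B C) (AlgHom.id A p.asIdeal.ResidueField)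
  have h4' : ρ₁.toRingHom.Flat := h4
  -- convert to the `κ`-left convention
  have h5 : (fiberMap (B := B) (C := C) p.asIdeal).toRingHom.Flat := by
    have hc : (fiberMap (B := B) (C := C) p.asIdeal).toRingHom =
        ((Algebra.TensorProduct.comm A C p.asIdeal.ResidueField).toAlgHom.toRingHom.comp
          ρ₁.toRingHom).comp
          (Algebra.TensorProduct.comm A p.asIdeal.ResidueField B).toAlgHom.toRingHom := by
      apply RingHom.ext
      intro z
      induction z using TensorProduct.induction_on with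
      | zero => simp
      | add a b ha hb => rw [map_add, map_add, ha, hb]
      | tmul a b => rfl
    rw [hc]
    refine RingHom.Flat.comp ?_ (RingHom.Flat.comp h4' ?_)
    · exact RingHom.Flat.of_bijective
        (Algebra.TensorProduct.comm A p.asIdeal.ResidueField B).bijective
    · exact RingHom.Flat.of_bijective
        (Algebra.TensorProduct.comm A C p.asIdeal.ResidueField).bijective
  -- ring lemma
  have h6 : Module.Flat B (LocalizedModule q.asIdeal.primeCompl C) :=
    flat_localizedModule_of_fiberMap_flat_noeth (A := A) (B := B) (C := C) p.asIdeal h5 q.asIdeal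
      hP hflat'
  exact (Groth.Agent.S0386.flat_stalkMap_iff_localizedModule W hW V hV hVW hxV).mpr h6

/-- the fibrewise criterion when the map of fibres is flat -/
theorem flat_stalkMap_of_flat_of_flat_fiberMap_noeth {X Y S : Scheme.{u}} (f : X ⟶ Y) (g : Y ⟶ S)
    [IsLocallyNoetherian X] [IsLocallyNoetherian Y] [IsLocallyNoetherian S] (x : X)
    (hflat : ((f ≫ g).stalkMap x).hom.Flat)
    (hfib : Flat (MoreMor.fiberMap f g ((f ≫ g) x))) : (f.stalkMap x).hom.Flat := by
  refine flat_stalkMap_of_flat_of_fibre_noeth f g x _ rfl hflat ⊤ trivial ?_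
  rw [← fiberMap_eq_fiberMapOver]
  infer_instance

end Groth.Agent.Lib.Helper9.FibCritNoeth
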