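/-
Helper library (helper9): idempotents on a fibre of a proper morphism lift to sections near the
fibre (abstract Stein-factorization form; Mathlib only).
-/
import Mathlib

set_option autoImplicit false
set_option linter.style.haveILetI false
universe u

open CategoryTheory CategoryTheory.Limits AlgebraicGeometry TopologicalSpace Opposite

namespace Groth.Agent.Lib.Helper9.FibIdem

section RingLevel

open PrimeSpectrum


/-- Ring-level lifting of a relatively open-closed subset of the fibre over `p`: there are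
`r, r' ∉ p` and `b ∈ B` with `r' (b² - r b) ∈ pB`, and `b` is nonzero exactly at the points
of `C` inside the fibre. -/
theorem exists_elem_of_relClopen_fibre {R B : Type u} [CommRing R] [CommRing B] [Algebra R B]
    (p : Ideal R) [p.IsPrime] (C : Set (PrimeSpectrum B))
    (K₁ K₂ : Set (PrimeSpectrum B)) (hK₁ : IsClosed K₁) (hK₂ : IsClosed K₂)
    (h1 : ∀ P : PrimeSpectrum B, P.asIdeal.comap (algebraMap R B) = p → (P ∈ K₁ ↔ P ∈ C))
    (h2 : ∀ P : PrimeSpectrum B, P.asIdeal.comap (algebraMap R B) = p → (P ∈ K₂ ↔ P ∉ C)) :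
    ∃ (r r' : R) (b : B), r ∉ p ∧ r' ∉ p ∧
      algebraMap R B r' * (b * b - algebraMap R B r * b) ∈ p.map (algebraMap R B) ∧
      ∀ P : PrimeSpectrum B, P.asIdeal.comap (algebraMap R B) = p →
        (b ∉ P.asIdeal ↔ P ∈ C) := by
  classical
  let pB : Ideal B := p.map (algebraMap R B)
  let B₁ := B ⧸ pB
  let M : Submonoid B₁ := Algebra.algebraMapSubmonoid B₁ p.primeCompl
  let B' := Localization M
  let φ : B →+* B' := (algebraMap B₁ B').comp (Ideal.Quotient.mk pB)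
  -- units
  have hunit : ∀ r : R, r ∉ p → IsUnit (φ (algebraMap R B r)) := by
    intro r hr
    have : (Ideal.Quotient.mk pB) (algebraMap R B r) ∈ M :=
      ⟨r, hr, rfl⟩
    exact IsLocalization.map_units B' ⟨_, this⟩
  have hzero : ∀ a : R, a ∈ p → φ (algebraMap R B a) = 0 := by
    intro a ha
    have : (Ideal.Quotient.mk pB) (algebraMap R B a) = 0 :=
      Ideal.Quotient.eq_zero_iff_mem.mpr (Ideal.mem_map_of_mem _ ha)
    change algebraMap B₁ B' ((Ideal.Quotient.mk pB) (algebraMap R B a)) = 0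
    rw [this, map_zero]
  -- fibre of a point in the range
  have hfib : ∀ P' : PrimeSpectrum B',
      (comap φ P').asIdeal.comap (algebraMap R B) = p := by
    intro P'
    ext a
    constructor
    · intro ha
      by_contra hap
      have h1 : φ (algebraMap R B a) ∈ P'.asIdeal := ha
      exact P'.2.ne_top (Ideal.eq_top_of_isUnit_mem _ h1 (hunit a hap))
    · intro ha
      change φ (algebraMap R B a) ∈ P'.asIdeal
      rw [hzero a ha]; exact zero_mem _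
  -- surjectivity onto the fibre
  have hsurj : ∀ P : PrimeSpectrum B, P.asIdeal.comap (algebraMap R B) = p →
      ∃ P' : PrimeSpectrum B', comap φ P' = P := by
    intro P hP
    have hle : pB ≤ P.asIdeal := by
      rw [Ideal.map_le_iff_le_comap, hP]
    have h1 : P ∈ Set.range (comap (Ideal.Quotient.mk pB)) := by
      rw [range_comap_of_surjective _ _ Ideal.Quotient.mk_surjective, Ideal.mk_ker]
      exact hle
    obtain ⟨P₁, rfl⟩ := h1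
    have h2 : P₁ ∈ Set.range (comap (algebraMap B₁ B')) := by
      rw [localization_comap_range B' M]
      change Disjoint (M : Set B₁) (P₁.asIdeal : Set B₁)
      rw [Set.disjoint_left]
      rintro _ ⟨r, hr, rfl⟩ hrP
      apply hr
      rw [← hP]
      exact hrP
    obtain ⟨P', rfl⟩ := h2
    exact ⟨P', rfl⟩
  have hcont : Continuous (comap φ) := PrimeSpectrum.continuous_comap φ
  have hs : IsClopen (comap φ ⁻¹' K₁) := by
    refine ⟨hK₁.preimage hcont, ?_⟩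
    have : (comap φ ⁻¹' K₁)ᶜ = comap φ ⁻¹' K₂ := by
      ext P'
      simp only [Set.mem_compl_iff, Set.mem_preimage]
      rw [h1 _ (hfib P'), h2 _ (hfib P')]
    rw [← isClosed_compl_iff, this]
    exact hK₂.preimage hcont
  obtain ⟨ε, hεi, hε⟩ := PrimeSpectrum.isClopen_iff.mp hs
  obtain ⟨⟨b₁, m⟩, hbm⟩ := IsLocalization.mk'_surjective M ε
  obtain ⟨b, rfl⟩ := Ideal.Quotient.mk_surjective b₁
  obtain ⟨_, ⟨r, hr, rfl⟩⟩ := m
  have hεr : ε * φ (algebraMap R B r) = φ b := by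
    rw [← hbm]
    exact IsLocalization.mk'_spec B' _ _
  have hφ : φ (b * b - algebraMap R B r * b) = 0 := by
    rw [map_sub, map_mul, map_mul, ← hεr]
    have := hεi.eq
    linear_combination (φ (algebraMap R B r)) ^ 2 * this
  have hφ' : algebraMap B₁ B' (Ideal.Quotient.mk pB (b * b - algebraMap R B r * b)) = 0 := hφ
  rw [IsLocalization.map_eq_zero_iff M] at hφ'
  obtain ⟨⟨_, ⟨r', hr', rfl⟩⟩, hm'⟩ := hφ'
  refine ⟨r, r', b, hr, hr', ?_, ?_⟩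
  · rw [← Ideal.Quotient.eq_zero_iff_mem, map_mul]
    exact hm'
  · intro P hP
    obtain ⟨P', rfl⟩ := hsurj P hP
    rw [← h1 _ hP]
    change φ b ∉ P'.asIdeal ↔ P' ∈ comap φ ⁻¹' K₁
    rw [hε, ← hεr]
    change _ ↔ ε ∉ P'.asIdeal
    rw [not_iff_not]
    constructor
    · intro h
      rcases P'.2.mem_or_mem h with h | h
      · exact h
      · exact absurd (Ideal.eq_top_of_isUnit_mem _ h (hunit r hr)) P'.2.ne_top
    · intro h
      exact Ideal.mul_mem_right _ _ h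


end RingLevel


/-- membership in the prime ideal of a point of an affine open, via basic opens. -/
theorem mem_asIdeal_iff_fromSpec {X : Scheme.{u}} {U : X.Opens} (hU : IsAffineOpen U)
    (P : PrimeSpectrum Γ(X, U)) (b : Γ(X, U)) :
    b ∈ P.asIdeal ↔ hU.fromSpec P ∉ X.basicOpen b := by
  have h1 := hU.fromSpec_preimage_basicOpen b
  have h2 : hU.fromSpec P ∈ X.basicOpen b ↔ P ∈ PrimeSpectrum.basicOpen b := by
    rw [← h1]; rfl
  rw [h2, PrimeSpectrum.mem_basicOpen, not_not]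

/-- a unit criterion: a section whose basic open is everything is a unit. -/
theorem isUnit_of_basicOpen_eq {X : Scheme.{u}} {U : X.Opens} (a : Γ(X, U))
    (h : ∀ x ∈ U, x ∈ X.basicOpen a) : IsUnit a := by
  apply RingedSpace.isUnit_of_isUnit_germ X.toRingedSpace U a
  intro x hx
  exact (X.mem_basicOpen a x hx).mp (h x hx)

/-- sections vanishing at `s` die in the residue field. -/
theorem fromSpecResidueField_app_eq_zero {S : Scheme.{u}} (s : S) (V₀ : S.Opens) (a : Γ(S, V₀))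
    (ha : s ∉ S.basicOpen a) : (S.fromSpecResidueField s).app V₀ a = 0 := by
  rw [← basicOpen_eq_bot_iff, ← Scheme.preimage_basicOpen]
  ext x
  simp only [Opens.coe_bot, Set.mem_empty_iff_false, iff_false]
  intro hx
  apply ha
  have : (S.fromSpecResidueField s) x ∈ S.basicOpen a := hx
  rwa [Scheme.fromSpecResidueField_apply] at this

/-- two idempotent sections over a compact open with the same basic open are equal. -/
theorem idempotent_eq_of_basicOpen_eq {Z : Scheme.{u}} {T : Z.Opens}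
    (hT : IsCompact (T : Set Z)) (e₁ e₂ : Γ(Z, T)) (h₁ : IsIdempotentElem e₁)
    (h₂ : IsIdempotentElem e₂) (h : Z.basicOpen e₁ = Z.basicOpen e₂) : e₁ = e₂ := by
  have key : ∀ a b : Γ(Z, T), IsIdempotentElem a → IsIdempotentElem b →
      Z.basicOpen a = Z.basicOpen b → a = a * b := by
    intro a b ha hb hab
    have hidem : IsIdempotentElem (a * (1 - b)) := ha.mul hb.one_sub
    have hbot : Z.basicOpen (a * (1 - b)) = ⊥ := by
      rw [Scheme.basicOpen_mul, hab, ← Scheme.basicOpen_mul]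
      have : b * (1 - b) = 0 := by
        rw [mul_sub, mul_one, hb.eq, sub_self]
      rw [this, Scheme.basicOpen_zero]
    have hnil : IsNilpotent (a * (1 - b)) :=
      (Scheme.isNilpotent_iff_basicOpen_eq_bot_of_isCompact hT _).mpr hbot
    have h0 := hidem.eq_zero_of_isNilpotent hnil
    rw [mul_sub, mul_one, sub_eq_zero] at h0
    exact h0
  calc e₁ = e₁ * e₂ := key e₁ e₂ h₁ h₂ h
    _ = e₂ * e₁ := mul_comm _ _
    _ = e₂ := (key e₂ e₁ h₂ h₁ h.symm).symm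



set_option backward.isDefEq.respectTransparency false in
/-- the prime of `Γ(N, q⁻¹V₀)` at `P` lies over the prime of `s` iff `P` maps to `s`. -/
theorem comap_eq_iff_apply_eq {N S : Scheme.{u}} (q : N ⟶ S) {V₀ : S.Opens}
    (hV₀ : IsAffineOpen V₀) (hU₀ : IsAffineOpen (q ⁻¹ᵁ V₀)) (s : S) (hs : s ∈ V₀)
    (P : PrimeSpectrum Γ(N, q ⁻¹ᵁ V₀)) :
    P.asIdeal.comap (q.app V₀).hom = (hV₀.primeIdealOf ⟨s, hs⟩).asIdeal ↔
      q (hU₀.fromSpec P) = s := by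
  have h1 : q (hU₀.fromSpec P) = hV₀.fromSpec (PrimeSpectrum.comap (q.app V₀).hom P) := by
    have := IsAffineOpen.SpecMap_appLE_fromSpec q hV₀ hU₀ le_rfl
    rw [← Scheme.Hom.comp_apply, ← this, Scheme.Hom.comp_apply, Scheme.Hom.appLE_eq_app]
    rfl
  have h2 : s = hV₀.fromSpec (hV₀.primeIdealOf ⟨s, hs⟩) := (hV₀.fromSpec_primeIdealOf ⟨s, hs⟩).symm
  have hinj : Function.Injective hV₀.fromSpec := hV₀.fromSpec.isOpenEmbedding.injective
  constructor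
  · intro h
    rw [h1, h2]
    congr 1
    exact PrimeSpectrum.ext h
  · intro h
    rw [h1] at h
    have h3 : PrimeSpectrum.comap (q.app V₀).hom P = hV₀.primeIdealOf ⟨s, hs⟩ := by
      apply hinj
      rw [h, ← h2]
    exact congrArg PrimeSpectrum.asIdeal h3



set_option backward.isDefEq.respectTransparency false in
/-- topological part: the image in `N` of the open-closed subset `Y` of the fibre. -/
theorem exists_closed_images {X N S Z : Scheme.{u}} (f : X ⟶ S) (t' : X ⟶ N) (q : N ⟶ S)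
    (hfac : t' ≫ q = f) (hcl : IsClosedMap t') (hsurj : Function.Surjective t')
    (hconn : ∀ n, _root_.IsPreconnected (t' ⁻¹' {n})) (s : S) (ι : Z ⟶ X)
    (hιemb : Topology.IsEmbedding ι) (hιrange : Set.range ι = f ⁻¹' {s})
    (Y : Set Z) (hY : IsClopen Y) :
    ∃ K₁ K₂ : Set N, IsClosed K₁ ∧ IsClosed K₂ ∧
      (∀ n : N, q n = s → (n ∈ K₁ ↔ n ∈ t' '' (ι '' Y))) ∧
      (∀ n : N, q n = s → (n ∈ K₂ ↔ n ∉ t' '' (ι '' Y))) ∧
      (∀ z : Z, t' (ι z) ∈ t' '' (ι '' Y) ↔ z ∈ Y) := by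
  have htq : ∀ x, q (t' x) = f x := fun x => by rw [← Scheme.Hom.comp_apply, hfac]
  have hιf : ∀ z : Z, f (ι z) = s := fun z => by
    have : ι z ∈ Set.range ι := ⟨z, rfl⟩
    rw [hιrange] at this
    exact this
  have hfib : ∀ x : X, f x = s → ∃ z : Z, ι z = x := fun x hx => by
    have : x ∈ Set.range ι := by rw [hιrange]; exact hx
    exact this
  obtain ⟨Z₁, hZ₁, hZ₁Y⟩ := hιemb.isInducing.isClosed_iff.mp hY.isClosed
  obtain ⟨Z₂, hZ₂, hZ₂Y⟩ := hιemb.isInducing.isClosed_iff.mp hY.compl.isClosed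
  have hmem₁ : ∀ z : Z, ι z ∈ Z₁ ↔ z ∈ Y := fun z => by
    rw [← hZ₁Y]; rfl
  have hmem₂ : ∀ z : Z, ι z ∈ Z₂ ↔ z ∉ Y := fun z => by
    have : z ∈ ι ⁻¹' Z₂ ↔ z ∈ Yᶜ := by rw [hZ₂Y]
    exact this
  -- disjointness
  have hdisj : ∀ y d : Z, y ∈ Y → d ∉ Y → t' (ι y) ≠ t' (ι d) := by
    intro y d hy hd heq
    have hsub : t' ⁻¹' {t' (ι y)} ⊆ Z₁ ∪ Z₂ := by
      intro x hx
      have hx' : t' x = t' (ι y) := hx
      have : f x = s := by rw [← htq, hx', htq, hιf]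
      obtain ⟨z, rfl⟩ := hfib x this
      by_cases hz : z ∈ Y
      · exact Or.inl ((hmem₁ z).mpr hz)
      · exact Or.inr ((hmem₂ z).mpr hz)
    obtain ⟨x, hx, hx1, hx2⟩ := isPreconnected_closed_iff.mp (hconn (t' (ι y))) Z₁ Z₂ hZ₁ hZ₂ hsub
      ⟨ι y, rfl, (hmem₁ y).mpr hy⟩ ⟨ι d, heq.symm, (hmem₂ d).mpr hd⟩
    have hx' : t' x = t' (ι y) := hx
    have : f x = s := by rw [← htq, hx', htq, hιf]
    obtain ⟨z, rfl⟩ := hfib x this
    exact (hmem₂ z).mp hx2 ((hmem₁ z).mp hx1)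
  refine ⟨t' '' Z₁, t' '' Z₂, hcl _ hZ₁, hcl _ hZ₂, ?_, ?_, ?_⟩
  · intro n hn
    constructor
    · rintro ⟨x, hx, rfl⟩
      have : f x = s := by rw [← htq, hn]
      obtain ⟨z, rfl⟩ := hfib x this
      exact ⟨ι z, ⟨z, (hmem₁ z).mp hx, rfl⟩, rfl⟩
    · rintro ⟨_, ⟨y, hy, rfl⟩, rfl⟩
      exact ⟨ι y, (hmem₁ y).mpr hy, rfl⟩
  · intro n hn
    constructor
    · rintro ⟨x, hx, rfl⟩ ⟨_, ⟨y, hy, rfl⟩, hyx⟩
      have : f x = s := by rw [← htq, hn]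
      obtain ⟨d, rfl⟩ := hfib x this
      exact hdisj y d hy ((hmem₂ d).mp hx) hyx
    · intro hnC
      obtain ⟨x, rfl⟩ := hsurj n
      have : f x = s := by rw [← htq, hn]
      obtain ⟨z, rfl⟩ := hfib x this
      have hz : z ∉ Y := fun hz => hnC ⟨ι z, ⟨z, hz, rfl⟩, rfl⟩
      exact ⟨ι z, (hmem₂ z).mpr hz, rfl⟩
  · intro z
    constructor
    · rintro ⟨_, ⟨y, hy, rfl⟩, hyz⟩
      by_contra hz
      exact hdisj y z hy hz hyz
    · intro hz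
      exact ⟨ι z, ⟨z, hz, rfl⟩, rfl⟩



/-- the basic open of an idempotent section is open and closed. -/
theorem isClopen_basicOpen_of_isIdempotentElem {Z : Scheme.{u}} (e : Γ(Z, ⊤))
    (he : IsIdempotentElem e) : IsClopen (Z.basicOpen e : Set Z) := by
  refine ⟨?_, (Z.basicOpen e).2⟩
  have hc : (Z.basicOpen e : Set Z)ᶜ = (Z.basicOpen (1 - e) : Set Z) := by
    have h1 : Z.basicOpen e ⊓ Z.basicOpen (1 - e) = ⊥ := by
      rw [← Scheme.basicOpen_mul]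
      have : e * (1 - e) = 0 := by rw [mul_sub, mul_one, he.eq, sub_self]
      rw [this, Scheme.basicOpen_zero]
    have h2 : (⊤ : Z.Opens) ≤ Z.basicOpen e ⊔ Z.basicOpen (1 - e) := by
      have := Z.basicOpen_add_le e (1 - e)
      rwa [add_sub_cancel, Scheme.basicOpen_one] at this
    ext z
    constructor
    · intro hz
      have : z ∈ Z.basicOpen e ⊔ Z.basicOpen (1 - e) := h2 (by trivial)
      rcases this with h | h
      · exact absurd h hz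
      · exact h
    · intro hz hz'
      have : z ∈ Z.basicOpen e ⊓ Z.basicOpen (1 - e) := ⟨hz', hz⟩
      rw [h1] at this
      exact this
  rw [← isOpen_compl_iff, hc]
  exact (Z.basicOpen (1 - e)).2



theorem appLE_congr_hom {X Y : Scheme.{u}} {g₁ g₂ : X ⟶ Y} (h : g₁ = g₂) (U : Y.Opens)
    (V : X.Opens) (e₁ : V ≤ g₁ ⁻¹ᵁ U) (e₂ : V ≤ g₂ ⁻¹ᵁ U) :
    g₁.appLE U V e₁ = g₂.appLE U V e₂ := by
  subst h; rfl

set_option backward.isDefEq.respectTransparency false in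
/-- **Idempotents on a fibre lift to sections near the fibre** (abstract Stein form). -/
theorem exists_section_of_idempotent {X N S : Scheme.{u}} (f : X ⟶ S) [QuasiCompact f]
    (t' : X ⟶ N) (q : N ⟶ S) [IsAffineHom q] (hfac : t' ≫ q = f)
    (hcl : IsClosedMap t') (hsurj : Function.Surjective t')
    (hconn : ∀ n, _root_.IsPreconnected (t' ⁻¹' {n})) (s : S)
    (e : Γ(f.fiber s, ⊤)) (he : IsIdempotentElem e) :
    ∃ (V : S.Opens) (_ : s ∈ V) (t : Γ(X, f ⁻¹ᵁ V)),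
      (f.fiberι s).app (f ⁻¹ᵁ V) t =
        (f.fiber s).presheaf.map (homOfLE (le_top : (f.fiberι s) ⁻¹ᵁ (f ⁻¹ᵁ V) ≤ ⊤)).op e := by
  classical
  have hιf : ∀ z : f.fiber s, f (f.fiberι s z) = s := fun z => by
    have : f.fiberι s z ∈ Set.range (f.fiberι s) := ⟨z, rfl⟩
    rw [Scheme.Hom.range_fiberι] at this
    exact this
  have htq : ∀ x, q (t' x) = f x := fun x => by rw [← Scheme.Hom.comp_apply, hfac]
  obtain ⟨K₁, K₂, hK₁, hK₂, hK₁C, hK₂C, hCY⟩ := exists_closed_images f t' q hfac hcl hsurj hconn s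
    (f.fiberι s) (f.fiberι s).isEmbedding (Scheme.Hom.range_fiberι f s)
    ((f.fiber s).basicOpen e : Set (f.fiber s)) (isClopen_basicOpen_of_isIdempotentElem e he)
  -- affine neighbourhood
  obtain ⟨V₀, hV₀, hsV₀⟩ : ∃ V₀ : S.Opens, IsAffineOpen V₀ ∧ s ∈ V₀ := by
    obtain ⟨_, ⟨V₀, hV₀, rfl⟩, hs, -⟩ :=
      S.isBasis_affineOpens.exists_subset_of_mem_open (Set.mem_univ s) isOpen_univ
    exact ⟨V₀, hV₀, hs⟩
  have hU₀ : IsAffineOpen (q ⁻¹ᵁ V₀) := hV₀.preimage q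
  letI : Algebra Γ(S, V₀) Γ(N, q ⁻¹ᵁ V₀) := (q.app V₀).hom.toAlgebra
  have halg : ∀ a : Γ(S, V₀), algebraMap Γ(S, V₀) Γ(N, q ⁻¹ᵁ V₀) a = q.app V₀ a := fun a => rfl
  -- prime of s
  have hp : ∀ a : Γ(S, V₀), a ∈ (hV₀.primeIdealOf ⟨s, hsV₀⟩).asIdeal ↔ s ∉ S.basicOpen a := by
    intro a
    rw [mem_asIdeal_iff_fromSpec hV₀, hV₀.fromSpec_primeIdealOf]
  have hfibP : ∀ P : PrimeSpectrum Γ(N, q ⁻¹ᵁ V₀),
      P.asIdeal.comap (algebraMap Γ(S, V₀) Γ(N, q ⁻¹ᵁ V₀)) =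
        (hV₀.primeIdealOf ⟨s, hsV₀⟩).asIdeal ↔ q (hU₀.fromSpec P) = s :=
    fun P => comap_eq_iff_apply_eq q hV₀ hU₀ s hsV₀ P
  obtain ⟨r, r', b, hr, hr', hrel, hb⟩ := exists_elem_of_relClopen_fibre
    (hV₀.primeIdealOf ⟨s, hsV₀⟩).asIdeal
    (hU₀.fromSpec ⁻¹' (t' '' (f.fiberι s '' ((f.fiber s).basicOpen e : Set (f.fiber s)))))
    (hU₀.fromSpec ⁻¹' K₁) (hU₀.fromSpec ⁻¹' K₂) (hK₁.preimage hU₀.fromSpec.continuous)
    (hK₂.preimage hU₀.fromSpec.continuous)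
    (fun P hP => hK₁C _ ((hfibP P).mp hP)) (fun P hP => hK₂C _ ((hfibP P).mp hP))
  -- s ∈ V := D(r)
  have hsr : s ∈ S.basicOpen r := by
    by_contra h
    exact hr ((hp r).mpr h)
  have hVV₀ : S.basicOpen r ≤ V₀ := S.basicOpen_le r
  refine ⟨S.basicOpen r, hsr, ?_⟩
  have hWU₀ : f ⁻¹ᵁ S.basicOpen r ≤ t' ⁻¹ᵁ (q ⁻¹ᵁ V₀) := by
    intro x hx
    change q (t' x) ∈ V₀
    rw [htq]; exact hVV₀ hx
  have hWV₀ : f ⁻¹ᵁ S.basicOpen r ≤ f ⁻¹ᵁ V₀ := fun x hx => hVV₀ hx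
  have hTall : ∀ z : f.fiber s, z ∈ (f.fiberι s) ⁻¹ᵁ (f ⁻¹ᵁ S.basicOpen r) := by
    intro z
    change f (f.fiberι s z) ∈ S.basicOpen r
    rw [hιf]; exact hsr
  -- the section
  have hrW : IsUnit (f.appLE V₀ (f ⁻¹ᵁ S.basicOpen r) hWV₀ r) := by
    apply isUnit_of_basicOpen_eq
    intro x hx
    rw [Scheme.basicOpen_appLE]
    exact ⟨hx, hx⟩
  refine ⟨t'.appLE (q ⁻¹ᵁ V₀) (f ⁻¹ᵁ S.basicOpen r) hWU₀ b * ↑(hrW.unit⁻¹), ?_⟩
  -- ring homs to the fibre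
  have hΨle : (f.fiberι s) ⁻¹ᵁ (f ⁻¹ᵁ S.basicOpen r) ≤ (f.fiberι s ≫ t') ⁻¹ᵁ (q ⁻¹ᵁ V₀) := by
    intro z _
    change q ((f.fiberι s ≫ t') z) ∈ V₀
    rw [Scheme.Hom.comp_apply, htq, hιf]; exact hsV₀
  have hρle : (f.fiberι s) ⁻¹ᵁ (f ⁻¹ᵁ S.basicOpen r) ≤ (f.fiberι s ≫ f) ⁻¹ᵁ V₀ := by
    intro z _
    change (f.fiberι s ≫ f) z ∈ V₀
    rw [Scheme.Hom.comp_apply, hιf]; exact hsV₀
  have hΨ : ∀ b' : Γ(N, q ⁻¹ᵁ V₀),
      (f.fiberι s).app (f ⁻¹ᵁ S.basicOpen r) (t'.appLE (q ⁻¹ᵁ V₀) (f ⁻¹ᵁ S.basicOpen r) hWU₀ b') =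
        (f.fiberι s ≫ t').appLE (q ⁻¹ᵁ V₀) ((f.fiberι s) ⁻¹ᵁ (f ⁻¹ᵁ S.basicOpen r)) hΨle b' := by
    intro b'
    rw [Scheme.Hom.app_eq_appLE, ← CommRingCat.comp_apply, Scheme.Hom.appLE_comp_appLE]
  have hρ : ∀ a : Γ(S, V₀),
      (f.fiberι s).app (f ⁻¹ᵁ S.basicOpen r) (f.appLE V₀ (f ⁻¹ᵁ S.basicOpen r) hWV₀ a) =
        (f.fiberι s ≫ f).appLE V₀ ((f.fiberι s) ⁻¹ᵁ (f ⁻¹ᵁ S.basicOpen r)) hρle a := by
    intro a
    rw [Scheme.Hom.app_eq_appLE, ← CommRingCat.comp_apply, Scheme.Hom.appLE_comp_appLE]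
  have hΨρ : ∀ a : Γ(S, V₀),
      (f.fiberι s ≫ t').appLE (q ⁻¹ᵁ V₀) ((f.fiberι s) ⁻¹ᵁ (f ⁻¹ᵁ S.basicOpen r)) hΨle
        (q.app V₀ a) =
      (f.fiberι s ≫ f).appLE V₀ ((f.fiberι s) ⁻¹ᵁ (f ⁻¹ᵁ S.basicOpen r)) hρle a := by
    intro a
    rw [← CommRingCat.comp_apply, ← Scheme.Hom.comp_appLE]
    rw [appLE_congr_hom (show (f.fiberι s ≫ t') ≫ q = f.fiberι s ≫ f by
        rw [Category.assoc, hfac]) V₀ _ _ hρle]
  -- E1
  have hE1 : ∀ a : Γ(S, V₀), a ∈ (hV₀.primeIdealOf ⟨s, hsV₀⟩).asIdeal →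
      (f.fiberι s ≫ f).appLE V₀ ((f.fiberι s) ⁻¹ᵁ (f ⁻¹ᵁ S.basicOpen r)) hρle a = 0 := by
    intro a ha
    have hle : (f.fiberι s) ⁻¹ᵁ (f ⁻¹ᵁ S.basicOpen r) ≤
        (f.fiberToSpecResidueField s ≫ S.fromSpecResidueField s) ⁻¹ᵁ V₀ := by
      rw [← Scheme.Hom.fiber_fac]; exact hρle
    rw [appLE_congr_hom (Scheme.Hom.fiber_fac f s) V₀ _ hρle hle, Scheme.Hom.comp_appLE,
      CommRingCat.comp_apply, fromSpecResidueField_app_eq_zero s V₀ a ((hp a).mp ha), map_zero]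
  -- E2
  have hE2 : ∀ a : Γ(S, V₀), a ∉ (hV₀.primeIdealOf ⟨s, hsV₀⟩).asIdeal →
      IsUnit ((f.fiberι s ≫ f).appLE V₀ ((f.fiberι s) ⁻¹ᵁ (f ⁻¹ᵁ S.basicOpen r)) hρle a) := by
    intro a ha
    apply isUnit_of_basicOpen_eq
    intro z hz
    rw [Scheme.basicOpen_appLE]
    refine ⟨hz, ?_⟩
    change (f.fiberι s ≫ f) z ∈ S.basicOpen a
    rw [Scheme.Hom.comp_apply, hιf]
    by_contra h
    exact ha ((hp a).mpr h)
  -- compactness of `T`
  have hTc : IsCompact (((f.fiberι s) ⁻¹ᵁ (f ⁻¹ᵁ S.basicOpen r) : (f.fiber s).Opens) :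
      Set (f.fiber s)) := by
    have : (((f.fiberι s) ⁻¹ᵁ (f ⁻¹ᵁ S.basicOpen r) : (f.fiber s).Opens) : Set (f.fiber s)) =
        Set.univ := Set.eq_univ_of_forall hTall
    rw [this]; exact isCompact_univ
  -- `τ * ρ r = Ψ b`
  have hinv : (↑(hrW.unit⁻¹) : Γ(X, f ⁻¹ᵁ S.basicOpen r)) *
      f.appLE V₀ (f ⁻¹ᵁ S.basicOpen r) hWV₀ r = 1 := by
    have := hrW.unit.inv_mul
    rwa [IsUnit.unit_spec] at this
  have hτ : (f.fiberι s).app (f ⁻¹ᵁ S.basicOpen r)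
      (t'.appLE (q ⁻¹ᵁ V₀) (f ⁻¹ᵁ S.basicOpen r) hWU₀ b * ↑(hrW.unit⁻¹)) *
      (f.fiberι s ≫ f).appLE V₀ ((f.fiberι s) ⁻¹ᵁ (f ⁻¹ᵁ S.basicOpen r)) hρle r =
      (f.fiberι s ≫ t').appLE (q ⁻¹ᵁ V₀) ((f.fiberι s) ⁻¹ᵁ (f ⁻¹ᵁ S.basicOpen r)) hΨle b := by
    rw [← hρ r, ← hΨ b, ← map_mul, mul_assoc, hinv, mul_one]
  -- `Ψ` kills `pB`
  have hkill : ∀ x : Γ(N, q ⁻¹ᵁ V₀),
      x ∈ (hV₀.primeIdealOf ⟨s, hsV₀⟩).asIdeal.map (algebraMap Γ(S, V₀) Γ(N, q ⁻¹ᵁ V₀)) →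
      (f.fiberι s ≫ t').appLE (q ⁻¹ᵁ V₀) ((f.fiberι s) ⁻¹ᵁ (f ⁻¹ᵁ S.basicOpen r)) hΨle x = 0 := by
    intro x hx
    have hle : (hV₀.primeIdealOf ⟨s, hsV₀⟩).asIdeal.map (algebraMap Γ(S, V₀) Γ(N, q ⁻¹ᵁ V₀)) ≤
        RingHom.ker ((f.fiberι s ≫ t').appLE (q ⁻¹ᵁ V₀)
          ((f.fiberι s) ⁻¹ᵁ (f ⁻¹ᵁ S.basicOpen r)) hΨle).hom := by
      rw [Ideal.map_le_iff_le_comap]
      intro a ha
      rw [Ideal.mem_comap, RingHom.mem_ker, halg]
      exact (hΨρ a).trans (hE1 a ha)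
    exact hle hx
  have h1 := hkill _ hrel
  rw [map_mul, map_sub, map_mul, map_mul, halg, halg] at h1
  erw [hΨρ r', hΨρ r] at h1
  rw [(hE2 r' hr').mul_right_eq_zero, sub_eq_zero, ← hτ] at h1
  have hτidem : IsIdempotentElem ((f.fiberι s).app (f ⁻¹ᵁ S.basicOpen r)
      (t'.appLE (q ⁻¹ᵁ V₀) (f ⁻¹ᵁ S.basicOpen r) hWU₀ b * ↑(hrW.unit⁻¹))) := by
    have h2 : (f.fiberι s ≫ f).appLE V₀ ((f.fiberι s) ⁻¹ᵁ (f ⁻¹ᵁ S.basicOpen r)) hρle r *
        (f.fiberι s ≫ f).appLE V₀ ((f.fiberι s) ⁻¹ᵁ (f ⁻¹ᵁ S.basicOpen r)) hρle r *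
        ((f.fiberι s).app (f ⁻¹ᵁ S.basicOpen r)
          (t'.appLE (q ⁻¹ᵁ V₀) (f ⁻¹ᵁ S.basicOpen r) hWU₀ b * ↑(hrW.unit⁻¹)) *
         (f.fiberι s).app (f ⁻¹ᵁ S.basicOpen r)
          (t'.appLE (q ⁻¹ᵁ V₀) (f ⁻¹ᵁ S.basicOpen r) hWU₀ b * ↑(hrW.unit⁻¹)) -
         (f.fiberι s).app (f ⁻¹ᵁ S.basicOpen r)
          (t'.appLE (q ⁻¹ᵁ V₀) (f ⁻¹ᵁ S.basicOpen r) hWU₀ b * ↑(hrW.unit⁻¹))) = 0 := by
      linear_combination h1
    rw [((hE2 r hr).mul (hE2 r hr)).mul_right_eq_zero, sub_eq_zero] at h2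
    exact h2
  -- basic opens
  have hbo : (f.fiber s).basicOpen ((f.fiberι s).app (f ⁻¹ᵁ S.basicOpen r)
      (t'.appLE (q ⁻¹ᵁ V₀) (f ⁻¹ᵁ S.basicOpen r) hWU₀ b * ↑(hrW.unit⁻¹))) =
      (f.fiber s).basicOpen ((f.fiber s).presheaf.map
        (homOfLE (le_top : (f.fiberι s) ⁻¹ᵁ (f ⁻¹ᵁ S.basicOpen r) ≤ ⊤)).op e) := by
    have hb1 : (f.fiber s).basicOpen ((f.fiberι s).app (f ⁻¹ᵁ S.basicOpen r)
        (t'.appLE (q ⁻¹ᵁ V₀) (f ⁻¹ᵁ S.basicOpen r) hWU₀ b * ↑(hrW.unit⁻¹))) =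
        (f.fiber s).basicOpen ((f.fiberι s ≫ t').appLE (q ⁻¹ᵁ V₀)
          ((f.fiberι s) ⁻¹ᵁ (f ⁻¹ᵁ S.basicOpen r)) hΨle b) := by
      rw [← hτ, Scheme.basicOpen_mul, Scheme.basicOpen_of_isUnit _ (hE2 r hr)]
      exact (inf_eq_left.mpr (Scheme.basicOpen_le _ _)).symm
    rw [hb1, Scheme.basicOpen_appLE, Scheme.basicOpen_res]
    ext z
    have hzT := hTall z
    have hn : q (t' (f.fiberι s z)) = s := by rw [htq, hιf]
    have hnU₀ : t' (f.fiberι s z) ∈ q ⁻¹ᵁ V₀ := by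
      change q (t' (f.fiberι s z)) ∈ V₀
      rw [hn]; exact hsV₀
    have hPn : hU₀.fromSpec (hU₀.primeIdealOf ⟨t' (f.fiberι s z), hnU₀⟩) = t' (f.fiberι s z) :=
      hU₀.fromSpec_primeIdealOf ⟨_, hnU₀⟩
    have h3 := mem_asIdeal_iff_fromSpec hU₀ (hU₀.primeIdealOf ⟨t' (f.fiberι s z), hnU₀⟩) b
    have h4 := hb (hU₀.primeIdealOf ⟨t' (f.fiberι s z), hnU₀⟩)
      ((hfibP _).mpr (by rw [hPn]; exact hn))
    rw [hPn] at h3
    have h5 : hU₀.primeIdealOf ⟨t' (f.fiberι s z), hnU₀⟩ ∈ hU₀.fromSpec ⁻¹'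
        (t' '' (f.fiberι s '' ((f.fiber s).basicOpen e : Set (f.fiber s)))) ↔
        z ∈ ((f.fiber s).basicOpen e : Set (f.fiber s)) := by
      rw [Set.mem_preimage, hPn]; exact hCY z
    constructor
    · rintro ⟨-, hz⟩
      refine ⟨hzT, ?_⟩
      have hz' : t' (f.fiberι s z) ∈ N.basicOpen b := hz
      exact h5.mp (h4.mp (fun hbP => (h3.mp hbP) hz'))
    · rintro ⟨-, hz⟩
      refine ⟨hzT, ?_⟩
      change t' (f.fiberι s z) ∈ N.basicOpen b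
      by_contra hnb
      exact (h4.mpr (h5.mpr hz)) (h3.mpr hnb)
  refine idempotent_eq_of_basicOpen_eq hTc _ _ hτidem ?_ hbo
  change _ * _ = _
  rw [← map_mul, he.eq]

end Groth.Agent.Lib.Helper9.FibIdem
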