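import Groth.Agent.Lib.Helper20FibSite
import Mathlib.CategoryTheory.Sites.ConcreteSheafification
import Mathlib.CategoryTheory.Sites.InducedTopology
import Mathlib.CategoryTheory.Sites.Continuous

set_option autoImplicit false

universe w v₃ u₃ v₂ u₂ v₁ u₁

open CategoryTheory Opposite Pseudofunctor Pseudofunctor.CoGrothendieck Bicategory

namespace Groth.Agent.Lib.Helper9.FibSite

open Groth.Agent.Lib.Helper20

section General

variable {C : Type u₁} [Category.{v₁} C] {D : Type u₂} [Category.{v₂} D]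

/-- Key consequence of continuity, for presheaves in a large enough universe. -/
theorem map_eq_of_isContinuous_of_isSeparated_aux
    (u : C ⥤ D) (J : GrothendieckTopology C) (K : GrothendieckTopology D) [u.IsContinuous J K]
    (P' : Dᵒᵖ ⥤ Type (max w u₂ v₂)) (hP : Presieve.IsSeparated K P')
    {c : C} (R : Sieve c) (hR : R ∈ J c)
    (z : Presieve.FamilyOfElements (u.op ⋙ P') R.arrows) (hz : z.Compatible)
    {d : D} {V V' : C} {h : V ⟶ c} {h' : V' ⟶ c} (hh : R h) (hh' : R h')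
    (φ : d ⟶ u.obj V) (φ' : d ⟶ u.obj V') (e : φ ≫ u.map h = φ' ≫ u.map h') :
    P'.map φ.op (z h hh) = P'.map φ'.op (z h' hh') := by
  have hsep : ∀ (X : D) (S : K.Cover X) (x y : ToType (P'.obj (op X))),
      (∀ I : S.Arrow, P'.map I.f.op x = P'.map I.f.op y) → x = y := by
    intro X S x y hxy
    refine (hP S.1 S.2).ext ?_
    intro Y f hf
    exact hxy ⟨Y, f, hf⟩
  have hQ : Presheaf.IsSheaf K (K.plusObj P') := GrothendieckTopology.Plus.isSheaf_of_sep P' hsep
  have hinj := GrothendieckTopology.Plus.inj_of_sep P' hsep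
  have hQ' : Presieve.IsSheaf J (u.op ⋙ K.plusObj P') :=
    u.op_comp_isSheaf_of_types J K ⟨K.plusObj P', hQ⟩
  let z' : Presieve.FamilyOfElements (u.op ⋙ K.plusObj P') R.arrows :=
    fun V h hh => (K.toPlus P').app (op (u.obj V)) (z h hh)
  have hz' : z'.Compatible := by
    rw [Presieve.compatible_iff_sieveCompatible]
    intro Y Z f g hf
    have hzs := (Presieve.compatible_iff_sieveCompatible _).1 hz f g hf
    show (K.toPlus P').app (op (u.obj Z)) (z (g ≫ f) _) =
      (K.plusObj P').map (u.map g).op ((K.toPlus P').app (op (u.obj Y)) (z f hf))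
    have n := ConcreteCategory.congr_hom ((K.toPlus P').naturality (u.map g).op) (z f hf)
    simp only [ConcreteCategory.comp_apply] at n
    rw [← n, hzs]
    rfl
  obtain ⟨t, ht, -⟩ := hQ' R hR z' hz'
  have key : ∀ {V : C} {h : V ⟶ c} (hh : R h) (φ : d ⟶ u.obj V),
      (K.toPlus P').app (op d) (P'.map φ.op (z h hh)) =
        (K.plusObj P').map (φ ≫ u.map h).op t := by
    intro V h hh φ
    have n := ConcreteCategory.congr_hom ((K.toPlus P').naturality φ.op) (z h hh)
    simp only [ConcreteCategory.comp_apply] at n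
    have e1 : (K.plusObj P').map (u.map h).op t = z' h hh := ht h hh
    rw [op_comp, Functor.map_comp]
    simp only [ConcreteCategory.comp_apply]
    rw [e1]
    exact n
  have e2 : (K.plusObj P').map (φ ≫ u.map h).op t = (K.plusObj P').map (φ' ≫ u.map h').op t := by
    rw [e]
  have := (key hh φ).trans (e2.trans (key hh' φ').symm)
  exact hinj d this

/-- Key consequence of continuity: for a separated presheaf `P` on the target, a compatible family
of `u.op ⋙ P` over a covering sieve is "compatible in the target". -/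
theorem map_eq_of_isContinuous_of_isSeparated
    (u : C ⥤ D) (J : GrothendieckTopology C) (K : GrothendieckTopology D) [u.IsContinuous J K]
    (P : Dᵒᵖ ⥤ Type w) (hP : Presieve.IsSeparated K P)
    {c : C} (R : Sieve c) (hR : R ∈ J c)
    (z : Presieve.FamilyOfElements (u.op ⋙ P) R.arrows) (hz : z.Compatible)
    {d : D} {V V' : C} {h : V ⟶ c} {h' : V' ⟶ c} (hh : R h) (hh' : R h')
    (φ : d ⟶ u.obj V) (φ' : d ⟶ u.obj V') (e : φ ≫ u.map h = φ' ≫ u.map h') :
    P.map φ.op (z h hh) = P.map φ'.op (z h' hh') := by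
  have hP' : Presieve.IsSeparated K (P ⋙ uliftFunctor.{max u₂ v₂, w}) := by
    intro X S hS x t₁ t₂ h₁ h₂
    obtain ⟨t₁⟩ := t₁
    obtain ⟨t₂⟩ := t₂
    congr 1
    refine (hP S hS).ext ?_
    intro Y f hf
    exact congrArg ULift.down ((h₁ f hf).trans (h₂ f hf).symm)
  let z' : Presieve.FamilyOfElements (u.op ⋙ P ⋙ uliftFunctor.{max u₂ v₂, w}) R.arrows :=
    fun V h hh => ULift.up (z h hh)
  have hz' : z'.Compatible := by
    intro Y₁ Y₂ Z g₁ g₂ f₁ f₂ h₁ h₂ e
    exact congrArg ULift.up (hz g₁ g₂ h₁ h₂ e)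
  exact congrArg ULift.down (map_eq_of_isContinuous_of_isSeparated_aux.{w} u J K
    (P ⋙ uliftFunctor.{max u₂ v₂, w}) hP' R hR z' hz' hh hh' φ φ' e)

end General

section Fib

variable {𝒮 : Type u₁} [Category.{v₁} 𝒮] (F : Pseudofunctor (LocallyDiscrete 𝒮ᵒᵖ) Cat.{v₂, u₂})

set_option backward.defeqAttrib.useBackward true in
set_option backward.isDefEq.respectTransparency false in
/-- a morphism between objects of a fibre lying over the identity is vertical -/
lemma exists_ι_map_eq {S : 𝒮} {V V' : F.obj ⟨op S⟩} (k : (ι F S).obj V ⟶ (ι F S).obj V')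
    (hk : k.base = 𝟙 S) : ∃ g : V ⟶ V', (ι F S).map g = k := by
  refine ⟨k.fiber ≫ eqToHom (by rw [hk]; rfl) ≫ (F.mapId ⟨op S⟩).hom.toNatTrans.app V', ?_⟩
  refine Hom.ext _ _ hk.symm ?_
  simp [← Cat.Hom₂.comp_app]

set_option backward.defeqAttrib.useBackward true in
set_option backward.isDefEq.respectTransparency false in
lemma ι_map_injective {S : 𝒮} {V V' : F.obj ⟨op S⟩} {g g' : V ⟶ V'}
    (h : (ι F S).map g = (ι F S).map g') : g = g' := by
  have := ((Hom.ext_iff _ _).mp h).2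
  simpa [cancel_mono, ← Cat.Hom.toNatIso_hom, ← Cat.Hom.toNatIso_inv] using this

/-- the cartesian lift `⟨T, f^* V⟩ ⟶ ⟨S, V⟩` -/
abbrev cart {T S : 𝒮} (f : T ⟶ S) (V : F.obj ⟨op S⟩) :
    (ι F T).obj ((FibSite.invImage F f).obj V) ⟶ (ι F S).obj V :=
  ⟨f, 𝟙 _⟩

/-- a morphism of the total category from its two components -/
abbrev homMk {T S : 𝒮} (f : T ⟶ S) {W : F.obj ⟨op T⟩} {V : F.obj ⟨op S⟩}
    (φ : W ⟶ (FibSite.invImage F f).obj V) : (ι F T).obj W ⟶ (ι F S).obj V :=
  ⟨f, φ⟩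

lemma ι_map_comp_cart {T S : 𝒮} (f : T ⟶ S) (V : F.obj ⟨op S⟩) {W : F.obj ⟨op T⟩}
    (φ : W ⟶ (FibSite.invImage F f).obj V) :
    (ι F T).map φ ≫ cart F f V = homMk F f φ := by
  refine (ι_map_comp F (cart F f V) φ).trans ?_
  refine Hom.ext _ _ rfl ?_
  simp only [eqToHom_refl, Category.comp_id]
  exact Category.comp_id _

lemma cart_naturality {T S : 𝒮} (f : T ⟶ S) {V V' : F.obj ⟨op S⟩} (g : V ⟶ V') :
    cart F f V ≫ (ι F S).map g = (ι F T).map ((FibSite.invImage F f).map g) ≫ cart F f V' := by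
  rw [ι_map_comp_cart, comp_ι_map]
  refine Hom.ext _ _ rfl ?_
  simp only [eqToHom_refl, Category.comp_id]
  exact Category.id_comp _

variable {F} (J : FibSite.Topologies F)

lemma restr_isSeparated {G : (∫ᶜ F)ᵒᵖ ⥤ Type w}
    (hG : Presieve.IsSeparated (FibSite.totalTopology F J) G) (T : 𝒮) :
    Presieve.IsSeparated (J T) ((ι F T).op ⋙ G) := by
  intro U R hR x t₁ t₂ h₁ h₂
  refine (hG _ (FibSite.functorPushforward_mem_totalTopology hR)).ext ?_
  rintro Z k ⟨V, h, k', hh, rfl⟩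
  rw [op_comp, FunctorToTypes.map_comp_apply, FunctorToTypes.map_comp_apply]
  exact congrArg _ ((h₁ h hh).trans (h₂ h hh).symm)

variable {J}

lemma wd_aux (hF : FibSite.IsPreFibSite F J) {G : (∫ᶜ F)ᵒᵖ ⥤ Type w}
    (hG : Presieve.IsSeparated (FibSite.totalTopology F J) G) {S : 𝒮} {U : F.obj ⟨op S⟩}
    (R : Sieve U) (hR : R ∈ J S U)
    (x : Presieve.FamilyOfElements ((ι F S).op ⋙ G) R.arrows) (hx : x.Compatible)
    {T : 𝒮} (f : T ⟶ S) {W : F.obj ⟨op T⟩} {V₁ V₂ : F.obj ⟨op S⟩} {h₁ : V₁ ⟶ U} {h₂ : V₂ ⟶ U}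
    (hh₁ : R h₁) (hh₂ : R h₂)
    (φ₁ : W ⟶ (FibSite.invImage F f).obj V₁) (φ₂ : W ⟶ (FibSite.invImage F f).obj V₂)
    (e : φ₁ ≫ (FibSite.invImage F f).map h₁ = φ₂ ≫ (FibSite.invImage F f).map h₂) :
    G.map (homMk F f φ₁).op (x h₁ hh₁) = G.map (homMk F f φ₂).op (x h₂ hh₂) := by
  haveI := hF f
  let z : Presieve.FamilyOfElements ((FibSite.invImage F f).op ⋙ ((ι F T).op ⋙ G)) R.arrows :=
    fun V h hh => G.map (cart F f V).op (x h hh)
  have hz : z.Compatible := by
    rw [Presieve.compatible_iff_sieveCompatible]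
    intro Y Z h g hh
    have hxs := (Presieve.compatible_iff_sieveCompatible _).1 hx h g hh
    show G.map (cart F f Z).op (x (g ≫ h) _) =
      G.map ((ι F T).map ((FibSite.invImage F f).map g)).op (G.map (cart F f Y).op (x h hh))
    rw [hxs]
    show G.map (cart F f Z).op (G.map ((ι F S).map g).op (x h hh)) = _
    rw [← FunctorToTypes.map_comp_apply, ← FunctorToTypes.map_comp_apply, ← op_comp, ← op_comp,
      cart_naturality]
  have key := map_eq_of_isContinuous_of_isSeparated (FibSite.invImage F f) (J S) (J T)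
    ((ι F T).op ⋙ G) (restr_isSeparated J hG T) R hR z hz hh₁ hh₂ φ₁ φ₂ e
  have key' : G.map ((ι F T).map φ₁).op (G.map (cart F f V₁).op (x h₁ hh₁)) =
      G.map ((ι F T).map φ₂).op (G.map (cart F f V₂).op (x h₂ hh₂)) := key
  rw [← FunctorToTypes.map_comp_apply, ← FunctorToTypes.map_comp_apply, ← op_comp, ← op_comp,
    ι_map_comp_cart, ι_map_comp_cart] at key'
  exact key'

lemma wd (hF : FibSite.IsPreFibSite F J) {G : (∫ᶜ F)ᵒᵖ ⥤ Type w}
    (hG : Presieve.IsSeparated (FibSite.totalTopology F J) G) {S : 𝒮} {U : F.obj ⟨op S⟩}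
    (R : Sieve U) (hR : R ∈ J S U)
    (x : Presieve.FamilyOfElements ((ι F S).op ⋙ G) R.arrows) (hx : x.Compatible)
    {Z : ∫ᶜ F} {V₁ V₂ : F.obj ⟨op S⟩} {h₁ : V₁ ⟶ U} {h₂ : V₂ ⟶ U}
    (hh₁ : R h₁) (hh₂ : R h₂)
    (k₁ : Z ⟶ (ι F S).obj V₁) (k₂ : Z ⟶ (ι F S).obj V₂)
    (e : k₁ ≫ (ι F S).map h₁ = k₂ ≫ (ι F S).map h₂) :
    G.map k₁.op (x h₁ hh₁) = G.map k₂.op (x h₂ hh₂) := by
  obtain ⟨T, W⟩ := Z
  obtain ⟨f₁, φ₁⟩ := k₁
  obtain ⟨f₂, φ₂⟩ := k₂
  rw [comp_ι_map, comp_ι_map] at e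
  obtain ⟨hb, hf⟩ := (Hom.ext_iff _ _).mp e
  dsimp at hb hf
  subst hb
  simp only [eqToHom_refl, Category.comp_id] at hf
  exact wd_aux hF hG R hR x hx f₁ hh₁ hh₂ φ₁ φ₂ hf

/-- the restriction of a sheaf on the total site to a fibre is a sheaf -/
theorem isSheaf_restr (hF : FibSite.IsPreFibSite F J) {G : (∫ᶜ F)ᵒᵖ ⥤ Type w}
    (hG : Presieve.IsSheaf (FibSite.totalTopology F J) G) (S : 𝒮) :
    Presieve.IsSheaf (J S) ((ι F S).op ⋙ G) := by
  have hGsep : Presieve.IsSeparated (FibSite.totalTopology F J) G := hG.isSeparated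
  intro U R hR
  refine (Presieve.isSeparatedFor_and_exists_isAmalgamation_iff_isSheafFor).1
    ⟨restr_isSeparated J hGsep S R hR, ?_⟩
  intro x hx
  have hmem := FibSite.functorPushforward_mem_totalTopology (F := F) (J := J) hR
  let y : Presieve.FamilyOfElements G (R.functorPushforward (ι F S)).arrows :=
    fun Z k hk => G.map (hk.choose_spec.choose_spec.choose).op
      (x hk.choose_spec.choose hk.choose_spec.choose_spec.choose_spec.1)
  have hy_eq : ∀ {Z : ∫ᶜ F} (k : Z ⟶ (ι F S).obj U) (hk : (R.functorPushforward (ι F S)).arrows k)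
      {V : F.obj ⟨op S⟩} (h : V ⟶ U) (hh : R h) (k' : Z ⟶ (ι F S).obj V)
      (e : k = k' ≫ (ι F S).map h), y k hk = G.map k'.op (x h hh) := by
    intro Z k hk V h hh k' e
    refine wd hF hGsep R hR x hx _ hh _ k' ?_
    rw [← hk.choose_spec.choose_spec.choose_spec.2, e]
  have hy : y.Compatible := by
    rw [Presieve.compatible_iff_sieveCompatible]
    intro Y Z k l hk
    obtain ⟨V, h, k', hh, e⟩ := hk
    rw [hy_eq k ⟨V, h, k', hh, e⟩ h hh k' e,
      hy_eq (l ≫ k) _ h hh (l ≫ k') (by rw [e, Category.assoc]), op_comp,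
      FunctorToTypes.map_comp_apply]
  obtain ⟨t, ht, -⟩ := hG _ hmem y hy
  refine ⟨t, ?_⟩
  intro V h hh
  have e1 := ht ((ι F S).map h) ⟨V, h, 𝟙 _, hh, (Category.id_comp _).symm⟩
  rw [hy_eq _ _ h hh (𝟙 _) (Category.id_comp _).symm] at e1
  rw [op_id, FunctorToTypes.map_id_apply] at e1
  exact e1

/-- the fibre inclusions are continuous for the total topology -/
theorem ι_isContinuous (hF : FibSite.IsPreFibSite F J) (S : 𝒮) :
    (ι F S).IsContinuous (J S) (FibSite.totalTopology F J) :=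
  ⟨fun G => isSheaf_restr hF ((isSheaf_iff_isSheaf_of_type _ _).1 G.2) S⟩

/-- a presheaf on the total category all of whose restrictions to the fibres are sheaves is a
sheaf for the total topology -/
theorem isSheaf_of_restr (hF : FibSite.IsPreFibSite F J) {G : (∫ᶜ F)ᵒᵖ ⥤ Type w}
    (h : ∀ S : 𝒮, Presieve.IsSheaf (J S) ((ι F S).op ⋙ G)) :
    Presieve.IsSheaf (FibSite.totalTopology F J) G := by
  have sep : ∀ (X : ∫ᶜ F) (T : Sieve X), T ∈ FibSite.totalTopology F J X →
      Presieve.IsSeparatedFor G T.arrows := by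
    intro X T hT
    obtain ⟨R, hR, hRT⟩ := (mem_totalTopology_iff hF X T).1 hT
    obtain ⟨S, U⟩ := X
    intro y t₁ t₂ h₁ h₂
    refine (h S R hR).isSeparatedFor.ext ?_
    intro V g hg
    have hm : T ((ι F S).map g) := hRT _ ⟨V, g, 𝟙 _, hg, (Category.id_comp _).symm⟩
    exact (h₁ _ hm).trans (h₂ _ hm).symm
  intro X T hT
  refine (Presieve.isSeparatedFor_and_exists_isAmalgamation_iff_isSheafFor).1 ⟨sep X T hT, ?_⟩
  intro y hy
  obtain ⟨R, hR, hRT⟩ := (mem_totalTopology_iff hF X T).1 hT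
  obtain ⟨S, U⟩ := X
  have hys := (Presieve.compatible_iff_sieveCompatible _).1 hy
  have cg : ∀ {Z : ∫ᶜ F} (k k' : Z ⟶ (⟨S, U⟩ : ∫ᶜ F)) (e : k = k') (hk : T k) (hk' : T k'),
      y k hk = y k' hk' := by
    intro Z k k' e hk hk'
    subst e
    rfl
  have hm : ∀ {V : F.obj ⟨op S⟩} (g : V ⟶ U), R g → T ((ι F S).map g) :=
    fun g hg => hRT _ ⟨_, g, 𝟙 _, hg, (Category.id_comp _).symm⟩
  let x : Presieve.FamilyOfElements ((ι F S).op ⋙ G) R.arrows :=
    fun V g hg => y ((ι F S).map g) (hm g hg)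
  have hx : x.Compatible := by
    rw [Presieve.compatible_iff_sieveCompatible]
    intro V W g l hg
    show y ((ι F S).map (l ≫ g)) _ = G.map ((ι F S).map l).op (y ((ι F S).map g) _)
    rw [← hys ((ι F S).map g) ((ι F S).map l) (hm g hg)]
    exact cg _ _ ((ι F S).map_comp l g) _ _
  obtain ⟨t, ht, -⟩ := h S R hR x hx
  refine ⟨t, ?_⟩
  intro Y k hk
  have hpb : (R.functorPushforward (ι F S)).pullback k ∈ FibSite.totalTopology F J Y :=
    (FibSite.totalTopology F J).pullback_stable k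
      (FibSite.functorPushforward_mem_totalTopology hR)
  refine (sep Y _ hpb).ext ?_
  rintro Z l ⟨V, g, l', hg, e⟩
  have e1 : G.map ((ι F S).map g).op t = y ((ι F S).map g) (hm g hg) := ht g hg
  have a1 : G.map l.op (G.map k.op t) = G.map (l ≫ k).op t :=
    (FunctorToTypes.map_comp_apply G k.op l.op t).symm
  have a2 : G.map (l ≫ k).op t = G.map (l' ≫ (ι F S).map g).op t :=
    congrArg (fun m : Z ⟶ (⟨S, U⟩ : ∫ᶜ F) => G.map m.op t) e
  have a3 : G.map (l' ≫ (ι F S).map g).op t = G.map l'.op (G.map ((ι F S).map g).op t) :=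
    FunctorToTypes.map_comp_apply G ((ι F S).map g).op l'.op t
  have a4 : G.map l'.op (y ((ι F S).map g) (hm g hg)) =
      y (l' ≫ (ι F S).map g) (T.downward_closed (hm g hg) l') :=
    (hys ((ι F S).map g) l' (hm g hg)).symm
  have a5 : y (l' ≫ (ι F S).map g) (T.downward_closed (hm g hg) l') =
      y (l ≫ k) (T.downward_closed hk l) := cg _ _ e.symm _ _
  have a6 : y (l ≫ k) (T.downward_closed hk l) = G.map l.op (y k hk) := hys k l hk
  exact a1.trans (a2.trans (a3.trans ((congrArg _ e1).trans (a4.trans (a5.trans a6)))))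

theorem isSheaf_iff_restr (hF : FibSite.IsPreFibSite F J) {A : Type u₃} [Category.{v₃} A]
    (P : (∫ᶜ F)ᵒᵖ ⥤ A) :
    Presheaf.IsSheaf (FibSite.totalTopology F J) P ↔
      ∀ S : 𝒮, Presheaf.IsSheaf (J S) ((ι F S).op ⋙ P) := by
  constructor
  · intro hP S E
    exact isSheaf_restr hF (hP E) S
  · intro hP E
    exact isSheaf_of_restr hF (fun S => hP S E)

lemma mem_of_ι_map_mem_functorPushforward {S : 𝒮} {U V : F.obj ⟨op S⟩} (R : Sieve U) (h : V ⟶ U)
    (hm : (R.functorPushforward (ι F S)) ((ι F S).map h)) : R h := by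
  obtain ⟨V', h', k', hh', e⟩ := hm
  have hb : k'.base = 𝟙 S := by
    have := congrArg Hom.base e
    dsimp at this
    exact (Category.comp_id k'.base).symm.trans this.symm
  obtain ⟨g, rfl⟩ := exists_ι_map_eq F k' hb
  rw [← Functor.map_comp] at e
  rw [ι_map_injective F e]
  exact R.downward_closed hh' g

theorem inducedTopology_eq (hF : FibSite.IsPreFibSite F J) (S : 𝒮) :
    (ι F S).inducedTopology (FibSite.totalTopology F J) = J S := by
  apply le_antisymm
  · intro U R hR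
    have h1 : R.functorPushforward (ι F S) ∈ FibSite.totalTopology F J ((ι F S).obj U) :=
      (CoverPreserving.of_isContinuous (ι F S) ((ι F S).inducedTopology (FibSite.totalTopology F J))
        (FibSite.totalTopology F J)).cover_preserve hR
    obtain ⟨R', hR', hle⟩ := (mem_totalTopology_iff hF _ _).1 h1
    refine (J S).superset_covering ?_ hR'
    intro V h hh
    exact mem_of_ι_map_mem_functorPushforward R h
      (hle _ ⟨V, h, 𝟙 _, hh, (Category.id_comp _).symm⟩)
  · rw [Functor.le_inducedTopology_iff]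
    exact ι_isContinuous hF S

theorem isContinuous_iff (hF : FibSite.IsPreFibSite F J) {D : Type u₃} [Category.{v₃} D]
    (K : GrothendieckTopology D) (m : ∫ᶜ F ⥤ D) :
    m.IsContinuous (FibSite.totalTopology F J) K ↔
      ∀ S : 𝒮, (ι F S ⋙ m).IsContinuous (J S) K := by
  constructor
  · intro hm S
    haveI := ι_isContinuous hF S
    exact Functor.isContinuous_comp (ι F S) m (J S) (FibSite.totalTopology F J) K
  · intro hm
    refine ⟨fun G => ?_⟩
    refine isSheaf_of_restr hF (fun S => ?_)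
    haveI := hm S
    exact (ι F S ⋙ m).op_comp_isSheaf_of_types (J S) K G

end Fib

end Groth.Agent.Lib.Helper9.FibSite
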