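import Mathlib

/-!
# Exactness of a colimit-preserving functor from exactness on a "natural summand"

General lemmas used for fibred sites: preservation of pullbacks of coproduct injections by a
coproduct preserving functor between categories with van Kampen coproducts, and the deduction of
pullback preservation for a functor `Φ` from that of `N ⋙ Φ` when the identity is a natural
summand of `N`.
-/

set_option autoImplicit false

universe w v₁ v₂ v₃ u₁ u₂ u₃

open CategoryTheory Limits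

namespace Groth.Agent.Lib.Helper9.Summand

variable {𝒜 : Type u₁} [Category.{v₁} 𝒜] {ℬ : Type u₂} [Category.{v₂} ℬ]

/-- a functor mapping the chosen pullback squares to pullback squares preserves pullbacks -/
lemma preservesPullbacks_of_isPullback_map [HasPullbacks 𝒜] (Φ : 𝒜 ⥤ ℬ)
    (h : ∀ {a b c : 𝒜} (g₁ : a ⟶ c) (g₂ : b ⟶ c),
      IsPullback (Φ.map (pullback.fst g₁ g₂)) (Φ.map (pullback.snd g₁ g₂)) (Φ.map g₁) (Φ.map g₂)) :
    PreservesLimitsOfShape WalkingCospan Φ := by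
  refine ⟨fun {K} => ?_⟩
  have : PreservesLimit (cospan (K.map WalkingCospan.Hom.inl) (K.map WalkingCospan.Hom.inr)) Φ := by
    apply preservesLimit_of_preserves_limit_cone (pullbackIsPullback _ _)
    apply (isLimitMapConePullbackConeEquiv _ _).symm _
    exact (h _ _).isLimit
  exact preservesLimit_of_iso_diagram Φ (diagramIsoCospan K).symm

/-- A functor preserving coproducts of shape `I` preserves pullbacks of coproduct injections, when
`I`-indexed coproducts are van Kampen in both categories. -/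
theorem isPullback_map_of_isPullback_inj {I : Type w} [HasPullbacks 𝒜] (Φ : 𝒜 ⥤ ℬ)
    [PreservesColimitsOfShape (Discrete I) Φ]
    (hVKA : ∀ {X : Discrete I ⥤ 𝒜} {c : Cocone X}, IsColimit c → IsVanKampenColimit c)
    (hVKB : ∀ {X : Discrete I ⥤ ℬ} {c : Cocone X}, IsColimit c → IsVanKampenColimit c)
    {X : I → 𝒜} (c : Cofan X) (hc : IsColimit c) (m₀ : I)
    {B B₀ : 𝒜} (q : B ⟶ c.pt) (u : B₀ ⟶ B) (v : B₀ ⟶ X m₀) (h : IsPullback u v q (c.inj m₀)) :
    IsPullback (Φ.map u) (Φ.map v) (Φ.map q) (Φ.map (c.inj m₀)) := by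
  let c' : Cofan (fun m => pullback q (c.inj m)) := Cofan.mk B (fun m => pullback.fst q (c.inj m))
  let α : Discrete.functor (fun m => pullback q (c.inj m)) ⟶ Discrete.functor X :=
    Discrete.natTrans (fun m => pullback.snd q (c.inj m.as))
  have comm : α ≫ c.ι = c'.ι ≫ (Functor.const _).map q := by
    refine NatTrans.ext (funext ?_)
    rintro ⟨m⟩
    exact (pullback.condition (f := q) (g := c.inj m)).symm
  have hc' : IsColimit c' :=
    ((hVKA hc c' α q comm (NatTrans.Equifibered.of_discrete _)).2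
      (fun m => IsPullback.of_hasPullback q (c.inj m.as))).some
  have hΦc : IsColimit (Φ.mapCocone c) := isColimitOfPreserves Φ hc
  have hΦc' : IsColimit (Φ.mapCocone c') := isColimitOfPreserves Φ hc'
  have comm' : Functor.whiskerRight α Φ ≫ (Φ.mapCocone c).ι =
      (Φ.mapCocone c').ι ≫ (Functor.const _).map (Φ.map q) := by
    refine NatTrans.ext (funext ?_)
    rintro ⟨m⟩
    have := congrArg (fun t => Φ.map t) (pullback.condition (f := q) (g := c.inj m))
    simp only [Functor.map_comp] at this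
    exact this.symm
  have hpb := (hVKB hΦc (Φ.mapCocone c') (Functor.whiskerRight α Φ) (Φ.map q) comm'
    (NatTrans.Equifibered.of_discrete _)).1 ⟨hΦc'⟩ ⟨m₀⟩
  have hpb' : IsPullback (Φ.map (pullback.fst q (c.inj m₀))) (Φ.map (pullback.snd q (c.inj m₀)))
      (Φ.map q) (Φ.map (c.inj m₀)) := hpb
  refine hpb'.of_iso (Φ.mapIso h.isoPullback.symm) (Iso.refl _) (Iso.refl _) (Iso.refl _)
    ?_ ?_ ?_ ?_
  · simp only [Iso.refl_hom, Category.comp_id, Functor.mapIso_hom, Iso.symm_hom, ← Functor.map_comp,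
      IsPullback.isoPullback_inv_fst]
  · simp only [Iso.refl_hom, Category.comp_id, Functor.mapIso_hom, Iso.symm_hom, ← Functor.map_comp,
      IsPullback.isoPullback_inv_snd]
  · simp
  · simp

/-- Pullback preservation from a natural summand: if `ν : L ⟶ N` has cartesian naturality squares
which `Φ` preserves together with all pullbacks of the `ν_a`, and `Φ` preserves some pullback of
each cospan in the image of `N`, then `Φ` maps to a pullback square the image under `L` of any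
pullback square that `L` preserves. -/
theorem isPullback_map_of_summand (Φ : 𝒜 ⥤ ℬ) (L N : 𝒜 ⥤ 𝒜) (ν : L ⟶ N)
    (hνpb : ∀ {a b : 𝒜} (g : a ⟶ b), IsPullback (ν.app a) (L.map g) (N.map g) (ν.app b))
    (hΦpb : ∀ {a B B₀ : 𝒜} (q : B ⟶ N.obj a) (u : B₀ ⟶ B) (v : B₀ ⟶ L.obj a),
      IsPullback u v q (ν.app a) → IsPullback (Φ.map u) (Φ.map v) (Φ.map q) (Φ.map (ν.app a)))
    (hN : ∀ {a b c : 𝒜} (g₁ : a ⟶ c) (g₂ : b ⟶ c), ∃ (p' : 𝒜) (π₁ : p' ⟶ N.obj a)
      (π₂ : p' ⟶ N.obj b), IsPullback π₁ π₂ (N.map g₁) (N.map g₂) ∧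
        IsPullback (Φ.map π₁) (Φ.map π₂) (Φ.map (N.map g₁)) (Φ.map (N.map g₂)))
    {p a b c : 𝒜} {p₁ : p ⟶ a} {p₂ : p ⟶ b} {g₁ : a ⟶ c} {g₂ : b ⟶ c}
    (hL : IsPullback (L.map p₁) (L.map p₂) (L.map g₁) (L.map g₂)) :
    IsPullback (Φ.map (L.map p₁)) (Φ.map (L.map p₂)) (Φ.map (L.map g₁)) (Φ.map (L.map g₂)) := by
  obtain ⟨p', π₁, π₂, hπ, hΦπ⟩ := hN g₁ g₂
  -- the outer rectangle
  have houter : IsPullback (L.map p₂ ≫ ν.app b) (L.map p₁) (N.map g₂) (ν.app a ≫ N.map g₁) := by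
    have := hL.flip.paste_horiz (hνpb g₂)
    rw [ν.naturality g₁] at this
    exact this
  have hF4 := IsPullback.of_right' houter hπ.flip
  have hF5 := hΦpb π₁ _ _ hF4
  have hF7 := hF5.paste_horiz hΦπ.flip
  rw [← Functor.map_comp, ← Functor.map_comp, IsPullback.lift_fst, ← ν.naturality g₁,
    Functor.map_comp, Functor.map_comp] at hF7
  have hΦν := hΦpb (N.map g₂) (ν.app b) (L.map g₂) (hνpb g₂)
  refine (IsPullback.of_right hF7 ?_ hΦν).flip
  rw [← Φ.map_comp, ← Φ.map_comp, hL.w]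

/-- Left exactness from a natural summand: if `r ⋙ Φ` and `r` are left exact, the identity (up to
the isomorphism `iL`) is a natural summand `ν : L ⟶ e ⋙ r` with cartesian naturality squares, and
`Φ` preserves the pullbacks of the `ν_a`, then `Φ` is left exact. -/
theorem preservesFiniteLimits_of_summand {𝒯 : Type u₃} [Category.{v₃} 𝒯]
    [HasPullbacks 𝒜] [HasTerminal 𝒜] [HasPullbacks 𝒯] [HasTerminal 𝒯] [HasTerminal ℬ]
    (Φ : 𝒜 ⥤ ℬ) (r : 𝒯 ⥤ 𝒜) (e : 𝒜 ⥤ 𝒯) (L : 𝒜 ⥤ 𝒜) (iL : L ≅ 𝟭 𝒜) (ν : L ⟶ e ⋙ r)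
    (hr : PreservesFiniteLimits r) (hrΦ : PreservesFiniteLimits (r ⋙ Φ))
    (hνpb : ∀ {a b : 𝒜} (g : a ⟶ b), IsPullback (ν.app a) (L.map g) ((e ⋙ r).map g) (ν.app b))
    (hΦpb : ∀ {a B B₀ : 𝒜} (q : B ⟶ (e ⋙ r).obj a) (u : B₀ ⟶ B) (v : B₀ ⟶ L.obj a),
      IsPullback u v q (ν.app a) → IsPullback (Φ.map u) (Φ.map v) (Φ.map q) (Φ.map (ν.app a))) :
    PreservesFiniteLimits Φ := by
  haveI : PreservesLimitsOfShape WalkingCospan (r ⋙ Φ) := hrΦ.preservesFiniteLimits _
  haveI : PreservesLimitsOfShape (Discrete PEmpty.{1}) (r ⋙ Φ) := hrΦ.preservesFiniteLimits _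
  haveI : PreservesLimitsOfShape WalkingCospan r := hr.preservesFiniteLimits _
  haveI : PreservesLimitsOfShape (Discrete PEmpty.{1}) r := hr.preservesFiniteLimits _
  haveI : PreservesLimitsOfShape WalkingCospan L := preservesLimitsOfShape_of_natIso iL.symm
  have hpb : ∀ {a b c : 𝒜} (g₁ : a ⟶ c) (g₂ : b ⟶ c),
      IsPullback ((L ⋙ Φ).map (pullback.fst g₁ g₂)) ((L ⋙ Φ).map (pullback.snd g₁ g₂))
        ((L ⋙ Φ).map g₁) ((L ⋙ Φ).map g₂) := by
    intro a b c g₁ g₂
    refine isPullback_map_of_summand Φ L (e ⋙ r) ν hνpb hΦpb ?_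
      ((IsPullback.of_hasPullback g₁ g₂).map L)
    intro a b c g₁ g₂
    exact ⟨r.obj (pullback (e.map g₁) (e.map g₂)), r.map (pullback.fst _ _),
      r.map (pullback.snd _ _), (IsPullback.of_hasPullback (e.map g₁) (e.map g₂)).map r,
      (IsPullback.of_hasPullback (e.map g₁) (e.map g₂)).map (r ⋙ Φ)⟩
  haveI : PreservesLimitsOfShape WalkingCospan (L ⋙ Φ) :=
    preservesPullbacks_of_isPullback_map (L ⋙ Φ) hpb
  haveI : PreservesLimitsOfShape WalkingCospan Φ :=
    preservesLimitsOfShape_of_natIso (Functor.isoWhiskerRight iL Φ ≪≫ Functor.leftUnitor Φ)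
  have hT : IsTerminal (Φ.obj (⊤_ 𝒜)) :=
    (IsTerminal.isTerminalObj (r ⋙ Φ) _ terminalIsTerminal).ofIso
      (Φ.mapIso (PreservesTerminal.iso r))
  haveI : PreservesLimit (Functor.empty.{0} 𝒜) Φ :=
    preservesTerminal_of_iso Φ (hT.uniqueUpToIso terminalIsTerminal)
  haveI : PreservesLimitsOfShape (Discrete PEmpty.{1}) Φ :=
    preservesLimitsOfShape_pempty_of_preservesTerminal Φ
  exact preservesFiniteLimits_of_preservesTerminal_and_pullbacks Φ

end Groth.Agent.Lib.Helper9.Summand
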