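import Groth.Agent.Lib.Helper9FibSiteMor
import Groth.Agent.Lib.Helper9Summand

set_option autoImplicit false

universe u

open CategoryTheory Opposite Pseudofunctor Pseudofunctor.CoGrothendieck Bicategory Limits
open CategoryTheory.Functor StrongTrans

namespace Groth.Agent.Lib.Helper9.FibSite

open Groth.Agent.Lib.Helper20

section Conv

variable {𝒮 : Type u} [SmallCategory 𝒮] {F G : Pseudofunctor (LocallyDiscrete 𝒮ᵒᵖ) Cat.{u, u}}
  (α : G ⟶ F) {J : FibSite.Topologies F} {K : FibSite.Topologies G}

/-- restriction of presheaves along `ι_S ⋙ A` and along `α_S ⋙ ι_S` agree -/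
def whiskeringIso (S : 𝒮) :
    (whiskeringLeft _ _ (Type u)).obj (CoGrothendieck.map α).op ⋙
        (whiskeringLeft _ _ (Type u)).obj (ι G S).op ≅
      (whiskeringLeft _ _ (Type u)).obj (ι F S).op ⋙
        (whiskeringLeft _ _ (Type u)).obj (α.app ⟨op S⟩).toFunctor.op :=
  NatIso.ofComponents (fun P => Functor.isoWhiskerRight (NatIso.op (cmp α S)).symm P) (by
    intro P P' τ
    ext V x
    exact (ConcreteCategory.congr_hom (τ.naturality ((cmp α S).hom.app V.unop).op) x).symm)

/-- if the total functor is continuous, so are the fibre functors -/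
theorem app_isContinuous (hF : FibSite.IsPreFibSite F J) (hG : FibSite.IsPreFibSite G K)
    [(CoGrothendieck.map α).IsContinuous (FibSite.totalTopology G K) (FibSite.totalTopology F J)]
    (S : 𝒮) : (α.app ⟨op S⟩).toFunctor.IsContinuous (K S) (J S) := by
  haveI := ι_isContinuous hG S
  constructor
  intro Q
  refine Presieve.IsSheaf.comp_of_W_map_of_adjunction.{u} (J := K S) (K := J S)
    ((α.app ⟨op S⟩).toFunctor.op.lanAdjunction (Type u)) ?_ Q.obj
    ((isSheaf_iff_isSheaf_of_type _ _).1 Q.2)
  intro W R hR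
  apply W_of_W_lan_map hF S
  let adj₁ := ((α.app ⟨op S⟩).toFunctor.op.lanAdjunction (Type u)).comp
    ((ι F S).op.lanAdjunction (Type u))
  let adj₂ := ((ι G S).op.lanAdjunction (Type u)).comp
    ((CoGrothendieck.map α).op.lanAdjunction (Type u))
  let e := adj₁.leftAdjointUniq (adj₂.ofNatIsoRight (whiskeringIso α S))
  have h1 : (K S).W (Sieve.shrinkFunctor.{u} R).ι := Sieve.W_shrinkFunctor_ι_of_mem.{u} _ R hR
  have h2 : (FibSite.totalTopology G K).W (((ι G S).op.lan (H := Type u)).map
      (Sieve.shrinkFunctor.{u} R).ι) :=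
    Functor.W_map_of_adjunction_of_isContinuous (K S) (FibSite.totalTopology G K) (ι G S)
      _ ((ι G S).op.lanAdjunction (Type u)) _ h1
  have h3 : (FibSite.totalTopology F J).W (((CoGrothendieck.map α).op.lan (H := Type u)).map
      (((ι G S).op.lan (H := Type u)).map (Sieve.shrinkFunctor.{u} R).ι)) :=
    Functor.W_map_of_adjunction_of_isContinuous (FibSite.totalTopology G K)
      (FibSite.totalTopology F J) (CoGrothendieck.map α)
      _ ((CoGrothendieck.map α).op.lanAdjunction (Type u)) _ h2
  exact ((FibSite.totalTopology F J).W.arrow_mk_iso_iff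
    (Arrow.isoOfNatIso e (Arrow.mk (Sieve.shrinkFunctor.{u} R).ι))).2 h3

section Cart

/-- the naturality squares of the injections `lanInj` are pullbacks -/
theorem lanInj_isPullback (hF : FibSite.IsPreFibSite F J) (i : 𝒮)
    [(ι F i).IsContinuous (J i) (FibSite.totalTopology F J)]
    {a b : Sheaf (J i) (Type u)} (g : a ⟶ b) :
    haveI := ι_isCocontinuous F J hF i
    haveI : ∀ f : i ⟶ i, (FibSite.invImage F f).IsContinuous (J i) (J i) := fun f => hF f
    IsPullback ((lanInjNat (F := F) (J := J) (𝟙 i)).app a)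
      (((FibSite.invImage F (𝟙 i)).sheafPullback (Type u) (J i) (J i)).map g)
      ((FibSite.extend F J (Type u) i ⋙ FibSite.restr F J (Type u) i).map g)
      ((lanInjNat (F := F) (J := J) (𝟙 i)).app b) := by
  haveI := ι_isCocontinuous F J hF i
  haveI : ∀ f : i ⟶ i, (FibSite.invImage F f).IsContinuous (J i) (J i) := fun f => hF f
  let ca := Cofan.mk _ (fun f : i ⟶ i => lanInj (F := F) (J := J) a f)
  let cb := Cofan.mk _ (fun f : i ⟶ i => lanInj (F := F) (J := J) b f)
  have hca : IsColimit ca := lanCofanIsColimit a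
  have hcb : IsColimit cb := lanCofanIsColimit b
  have hVK := Groth.Agent.Lib.Helper9.sheaf_isVanKampenColimit_discrete (J i) hcb
  let α' : Discrete.functor (fun f : i ⟶ i =>
        ((FibSite.invImage F f).sheafPullback (Type u) (J i) (J i)).obj a) ⟶
      Discrete.functor (fun f : i ⟶ i =>
        ((FibSite.invImage F f).sheafPullback (Type u) (J i) (J i)).obj b) :=
    Discrete.natTrans (fun f => ((FibSite.invImage F f.as).sheafPullback (Type u) (J i) (J i)).map g)
  let φ : ca.pt ⟶ cb.pt := (FibSite.extend F J (Type u) i ⋙ FibSite.restr F J (Type u) i).map g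
  have comm : α' ≫ cb.ι = ca.ι ≫ (Functor.const _).map φ := by
    refine NatTrans.ext (funext ?_)
    rintro ⟨f⟩
    exact (lanInjNat (F := F) (J := J) f).naturality g
  exact (hVK ca α' φ comm (NatTrans.Equifibered.of_discrete _)).1 ⟨hca⟩ ⟨𝟙 i⟩

end Cart

section Exact

variable (J K)
variable [∀ S : 𝒮, (ι F S).IsContinuous (J S) (FibSite.totalTopology F J)]
  [∀ S : 𝒮, (ι G S).IsContinuous (K S) (FibSite.totalTopology G K)]
  [∀ S : 𝒮, (ι F S).IsCocontinuous (J S) (FibSite.totalTopology F J)]
  [∀ S : 𝒮, (ι G S).IsCocontinuous (K S) (FibSite.totalTopology G K)]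
  [∀ S : 𝒮, (α.app ⟨op S⟩).toFunctor.IsContinuous (K S) (J S)]
  [(CoGrothendieck.map α).IsContinuous (FibSite.totalTopology G K) (FibSite.totalTopology F J)]

/-- if the inverse image along the total functor is left exact, so is the inverse image along
each fibre functor -/
theorem preservesFiniteLimits_sheafPullback_app (hG : FibSite.IsPreFibSite G K)
    [hr : ((CoGrothendieck.map α).sheafPushforwardContinuous (Type u) (FibSite.totalTopology G K)
      (FibSite.totalTopology F J)).IsRightAdjoint]
    [hl : PreservesFiniteLimits ((CoGrothendieck.map α).sheafPullback (Type u)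
      (FibSite.totalTopology G K) (FibSite.totalTopology F J))]
    (S : 𝒮) :
    PreservesFiniteLimits ((α.app ⟨op S⟩).toFunctor.sheafPullback (Type u) (K S) (J S)) := by
  haveI : ∀ f : S ⟶ S, (FibSite.invImage G f).IsContinuous (K S) (K S) := fun f => hG f
  have hr : PreservesFiniteLimits (FibSite.restr G K (Type u) S) :=
    (preservesLimits_restr (G := G) (K := K) S).preservesFiniteLimits
  haveI : PreservesFiniteLimits (FibSite.restr F J (Type u) S) :=
    (preservesLimits_restr (G := F) (K := J) S).preservesFiniteLimits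
  have hrΦ : PreservesFiniteLimits (FibSite.restr G K (Type u) S ⋙
      (α.app ⟨op S⟩).toFunctor.sheafPullback (Type u) (K S) (J S)) :=
    preservesFiniteLimits_of_natIso (baseChangeIso α J K S)
  haveI : PreservesColimitsOfSize.{u, u}
      ((α.app ⟨op S⟩).toFunctor.sheafPullback (Type u) (K S) (J S)) :=
    ((α.app ⟨op S⟩).toFunctor.sheafAdjunctionContinuous (Type u) (K S)
      (J S)).leftAdjoint_preservesColimits
  haveI : PreservesColimitsOfShape (Discrete (S ⟶ S))
      ((α.app ⟨op S⟩).toFunctor.sheafPullback (Type u) (K S) (J S)) :=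
    PreservesColimitsOfSize.preservesColimitsOfShape
  refine Summand.preservesFiniteLimits_of_summand
    ((α.app ⟨op S⟩).toFunctor.sheafPullback (Type u) (K S) (J S))
    (FibSite.restr G K (Type u) S) (FibSite.extend G K (Type u) S)
    ((FibSite.invImage G (𝟙 S)).sheafPullback (Type u) (K S) (K S))
    (pullIdIso (F := G) (J := K) S) (lanInjNat (F := G) (J := K) (𝟙 S)) hr hrΦ ?_ ?_
  · intro a b g
    exact lanInj_isPullback hG S g
  · intro a B B₀ q u v h
    exact Summand.isPullback_map_of_isPullback_inj (I := (S ⟶ S))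
      ((α.app ⟨op S⟩).toFunctor.sheafPullback (Type u) (K S) (J S))
      (fun hc => Groth.Agent.Lib.Helper9.sheaf_isVanKampenColimit_discrete (K S) hc)
      (fun hc => Groth.Agent.Lib.Helper9.sheaf_isVanKampenColimit_discrete (J S) hc)
      (Cofan.mk _ (fun f : S ⟶ S => lanInj (F := G) (J := K) a f)) (lanCofanIsColimit a) (𝟙 S)
      q u v h

end Exact

end Conv

end Groth.Agent.Lib.Helper9.FibSite
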