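import Groth.Agent.Lib.Helper9FibSiteRan
import Mathlib.CategoryTheory.Sites.Pullback

set_option autoImplicit false

universe u

open CategoryTheory Opposite Pseudofunctor Pseudofunctor.CoGrothendieck Bicategory Limits

namespace Groth.Agent.Lib.Helper9.FibSite

open Groth.Agent.Lib.Helper20

section Lan

variable {𝒮 : Type u} [SmallCategory 𝒮] (F : Pseudofunctor (LocallyDiscrete 𝒮ᵒᵖ) Cat.{u, u})
  (J : FibSite.Topologies F)

/-- the fibre inclusions are cocontinuous (restating helper20's argument) -/
theorem ι_isCocontinuous (hF : FibSite.IsPreFibSite F J) (S : 𝒮) :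
    (ι F S).IsCocontinuous (J S) (FibSite.totalTopology F J) := by
  refine ⟨?_⟩
  intro U T hT
  rw [mem_totalTopology_iff hF] at hT
  obtain ⟨R, hR, hRT⟩ := hT
  apply (J S).superset_covering ?_ hR
  intro W h hh
  exact hRT _ ⟨W, h, 𝟙 _, hh, (Category.id_comp _).symm⟩

instance hasPointwiseRan (S : 𝒮) (P : (F.obj ⟨op S⟩)ᵒᵖ ⥤ Type u) :
    (ι F S).op.HasPointwiseRightKanExtension P := inferInstance

variable {F J}
variable {i j : 𝒮}
  [(ι F i).IsContinuous (J i) (FibSite.totalTopology F J)]
  [(ι F j).IsContinuous (J j) (FibSite.totalTopology F J)]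

/-- restriction along the cartesian lifts: `restr_i ⟶ restr_j ⋙ (f^*)_*` for `f : j ⟶ i` -/
def theta (f : j ⟶ i) [(FibSite.invImage F f).IsContinuous (J i) (J j)] :
    FibSite.restr F J (Type u) i ⟶ FibSite.restr F J (Type u) j ⋙
      (FibSite.invImage F f).sheafPushforwardContinuous (Type u) (J i) (J j) where
  app E := ⟨Functor.whiskerRight (NatTrans.op (cartNat f)) E.obj⟩
  naturality E E' g := by
    apply Sheaf.hom_ext
    ext V x
    exact (ConcreteCategory.congr_hom (g.hom.naturality (cart F f V.unop).op) x).symm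

variable [(ι F j).IsCocontinuous (J j) (FibSite.totalTopology F J)]

/-- the projections `restr_i (coextend_j Q) ⟶ (f^*)_* Q` as morphisms of sheaves -/
noncomputable def ranProjSh (Q : Sheaf (J j) (Type u)) (f : j ⟶ i)
    [(FibSite.invImage F f).IsContinuous (J i) (J j)] :
    (FibSite.restr F J (Type u) i).obj ((FibSite.coextend F J (Type u) j).obj Q) ⟶
      ((FibSite.invImage F f).sheafPushforwardContinuous (Type u) (J i) (J j)).obj Q :=
  ⟨ranProj Q.obj f⟩

lemma ranProjSh_eq (Q : Sheaf (J j) (Type u)) (f : j ⟶ i)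
    [(FibSite.invImage F f).IsContinuous (J i) (J j)] :
    ranProjSh Q f = (theta f).app ((FibSite.coextend F J (Type u) j).obj Q) ≫
      ((FibSite.invImage F f).sheafPushforwardContinuous (Type u) (J i) (J j)).map
        (((ι F j).sheafAdjunctionCocontinuous (Type u) (J j)
          (FibSite.totalTopology F J)).counit.app Q) := by
  apply Sheaf.hom_ext
  have h := (ι F j).sheafAdjunctionCocontinuous_counit_app_hom (Type u) (J j)
    (FibSite.totalTopology F J) Q
  rw [Functor.ranAdjunction_counit] at h
  ext V x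
  show ((ι F j).op.ranCounit.app Q.obj).app (op ((FibSite.invImage F f).obj V.unop))
      (((ι F j).op.ran.obj Q.obj).map (cart F f V.unop).op x) =
    (((ι F j).sheafAdjunctionCocontinuous (Type u) (J j)
      (FibSite.totalTopology F J)).counit.app Q).hom.app (op ((FibSite.invImage F f).obj V.unop))
      (((ι F j).op.ran.obj Q.obj).map (cart F f V.unop).op x)
  rw [h]
  rfl

variable [∀ f : j ⟶ i, (FibSite.invImage F f).IsContinuous (J i) (J j)]

/-- the fan of projections is a limit (SGA4 Vbis 1.2.? for the right adjoint) -/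
noncomputable def ranFanIsLimit (Q : Sheaf (J j) (Type u)) :
    IsLimit (Fan.mk _ (fun f : j ⟶ i => ranProjSh (F := F) (J := J) Q f)) := by
  apply isLimitOfReflects (sheafToPresheaf (J i) (Type u))
  apply evaluationJointlyReflectsLimits
  intro W
  refine ((Types.isLimit_iff _).2 ?_).some
  intro s hs
  obtain ⟨x, hx, hxu⟩ := ranProj_bijective Q.obj W.unop (fun f => s ⟨f⟩)
  refine ⟨x, ?_, ?_⟩
  · rintro ⟨f⟩
    exact hx f
  · intro y hy
    exact hxu y (fun f => hy ⟨f⟩)

variable [((ι F i).sheafPushforwardContinuous (Type u) (J i)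
    (FibSite.totalTopology F J)).IsRightAdjoint]
  [∀ f : j ⟶ i, ((FibSite.invImage F f).sheafPushforwardContinuous (Type u) (J i)
    (J j)).IsRightAdjoint]

/-- the injections `(f^*)^{-1} a ⟶ restr_j (extend_i a)` -/
noncomputable def lanInj (a : Sheaf (J i) (Type u)) (f : j ⟶ i) :
    ((FibSite.invImage F f).sheafPullback (Type u) (J i) (J j)).obj a ⟶
      (FibSite.restr F J (Type u) j).obj ((FibSite.extend F J (Type u) i).obj a) :=
  (((FibSite.invImage F f).sheafAdjunctionContinuous (Type u) (J i) (J j)).homEquiv _ _).symm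
    (((ι F i).sheafAdjunctionContinuous (Type u) (J i) (FibSite.totalTopology F J)).unit.app a ≫
      (theta f).app ((FibSite.extend F J (Type u) i).obj a))

lemma lanInj_key (a : Sheaf (J i) (Type u)) (f : j ⟶ i) {Q : Sheaf (J j) (Type u)}
    (g : (FibSite.restr F J (Type u) j).obj ((FibSite.extend F J (Type u) i).obj a) ⟶ Q) :
    ((FibSite.invImage F f).sheafAdjunctionContinuous (Type u) (J i) (J j)).homEquiv _ _
        (lanInj a f ≫ g) =
      ((ι F i).sheafAdjunctionContinuous (Type u) (J i) (FibSite.totalTopology F J)).homEquiv _ _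
        (((ι F j).sheafAdjunctionCocontinuous (Type u) (J j)
          (FibSite.totalTopology F J)).homEquiv _ _ g) ≫ ranProjSh Q f := by
  rw [Adjunction.homEquiv_naturality_right, lanInj, Equiv.apply_symm_apply,
    Adjunction.homEquiv_unit, ranProjSh_eq, Category.assoc, Category.assoc]
  congr 1
  have hn := (theta (F := F) (J := J) f).naturality
    (((ι F j).sheafAdjunctionCocontinuous (Type u) (J j)
          (FibSite.totalTopology F J)).homEquiv _ _ g)
  rw [← Category.assoc, hn, Category.assoc]
  congr 1
  rw [Functor.comp_map, ← Functor.map_comp]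
  congr 1
  exact ((Equiv.symm_apply_apply _ g).symm.trans (Adjunction.homEquiv_counit _ _ _ _))

/-- the cofan of injections is a colimit: `restr_j (extend_i a)` is the coproduct over
`f : j ⟶ i` of the inverse images `(f^*)^{-1} a` -/
noncomputable def lanCofanIsColimit (a : Sheaf (J i) (Type u)) :
    IsColimit (Cofan.mk _ (fun f : j ⟶ i => lanInj (F := F) (J := J) a f)) := by
  let adj₁ := (ι F i).sheafAdjunctionContinuous (Type u) (J i) (FibSite.totalTopology F J)
  let adj₂ := (ι F j).sheafAdjunctionCocontinuous (Type u) (J j) (FibSite.totalTopology F J)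
  let adj₃ := fun f : j ⟶ i =>
    (FibSite.invImage F f).sheafAdjunctionContinuous (Type u) (J i) (J j)
  refine mkCofanColimit _
    (fun s => (adj₂.homEquiv _ _).symm ((adj₁.homEquiv _ _).symm
      (Fan.IsLimit.lift (ranFanIsLimit s.pt) (fun f => (adj₃ f).homEquiv _ _ (s.inj f))))) ?_ ?_
  · intro s f
    apply ((adj₃ f).homEquiv _ _).injective
    show (adj₃ f).homEquiv _ _ (lanInj a f ≫ _) = _
    rw [lanInj_key, Equiv.apply_symm_apply, Equiv.apply_symm_apply]
    exact Fan.IsLimit.fac (ranFanIsLimit s.pt) _ f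
  · intro s m hm
    apply (adj₂.homEquiv _ _).injective
    apply (adj₁.homEquiv _ _).injective
    rw [Equiv.apply_symm_apply, Equiv.apply_symm_apply]
    apply Fan.IsLimit.hom_ext (ranFanIsLimit s.pt)
    intro f
    rw [Fan.IsLimit.fac]
    have := lanInj_key a f m
    exact this.symm.trans (congrArg _ (hm f))

end Lan

end Groth.Agent.Lib.Helper9.FibSite
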