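import Groth.Agent.Lib.Helper9FibSiteW

set_option autoImplicit false

universe u

open CategoryTheory Opposite Pseudofunctor Pseudofunctor.CoGrothendieck Bicategory Limits
open CategoryTheory.Functor StrongTrans

namespace Groth.Agent.Lib.Helper9.FibSite

open Groth.Agent.Lib.Helper20

section Mor

variable {𝒮 : Type u} [SmallCategory 𝒮] {F G : Pseudofunctor (LocallyDiscrete 𝒮ᵒᵖ) Cat.{u, u}}
  (α : G ⟶ F)

/-- the component of the naturality isomorphism of a strong transformation -/
abbrev natApp {S T : 𝒮} (f : S ⟶ T) (W : G.obj ⟨op T⟩) :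
    (α.app ⟨op S⟩).toFunctor.obj ((FibSite.invImage G f).obj W) ⟶
      (FibSite.invImage F f).obj ((α.app ⟨op T⟩).toFunctor.obj W) :=
  (α.naturality f.op.toLoc).hom.toNatTrans.app W

instance {S T : 𝒮} (f : S ⟶ T) (W : G.obj ⟨op T⟩) : IsIso (natApp α f W) :=
  ((Cat.Hom.toNatIso (α.naturality f.op.toLoc)).app W).isIso_hom

set_option backward.defeqAttrib.useBackward true in
set_option backward.isDefEq.respectTransparency false in
lemma map_cart {S T : 𝒮} (f : S ⟶ T) (W : G.obj ⟨op T⟩) :
    (CoGrothendieck.map α).map (cart G f W) =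
      (ι F S).map (natApp α f W) ≫ cart F f ((α.app ⟨op T⟩).toFunctor.obj W) := by
  rw [ι_map_comp_cart]
  refine Hom.ext _ _ rfl ?_
  simp

set_option backward.defeqAttrib.useBackward true in
set_option backward.isDefEq.respectTransparency false in
lemma map_ι_map {S : 𝒮} {V V' : G.obj ⟨op S⟩} (g : V ⟶ V') :
    (CoGrothendieck.map α).map ((ι G S).map g) =
      (ι F S).map ((α.app ⟨op S⟩).toFunctor.map g) := by
  refine Hom.ext _ _ rfl ?_
  simp [Cat.Hom.comp_toFunctor, naturality_id_hom_app, Cat.Hom.id_toFunctor, ← Category.assoc,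
    ← Functor.map_comp, ← Cat.Hom₂.comp_app]
  simp only [Category.assoc, Cat.Hom.inv_hom_id_toNatTrans_app]
  congr 1
  exact congrArg ((α.app ⟨op S⟩).toFunctor.map) (Category.comp_id g)

/-- the total functor restricted to a fibre is the fibre functor -/
def cmp (S : 𝒮) : ι G S ⋙ CoGrothendieck.map α ≅ (α.app ⟨op S⟩).toFunctor ⋙ ι F S :=
  NatIso.ofComponents (fun _ => Iso.refl _) (by
    intro V V' g
    exact (Category.comp_id _).trans ((map_ι_map α g).trans (Category.id_comp _).symm))

variable {α} {J : FibSite.Topologies F} {K : FibSite.Topologies G}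

theorem map_isContinuous (hF : FibSite.IsPreFibSite F J) (hG : FibSite.IsPreFibSite G K)
    (hα : ∀ S : 𝒮, (α.app ⟨op S⟩).toFunctor.IsContinuous (K S) (J S)) :
    (CoGrothendieck.map α).IsContinuous (FibSite.totalTopology G K)
      (FibSite.totalTopology F J) := by
  rw [isContinuous_iff hG]
  intro S
  haveI := hα S
  haveI := ι_isContinuous hF S
  haveI := Functor.isContinuous_comp (α.app ⟨op S⟩).toFunctor (ι F S) (K S) (J S)
    (FibSite.totalTopology F J)
  exact Functor.isContinuous_of_iso (cmp α S).symm (K S) (FibSite.totalTopology F J)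

variable (α J K)
variable [∀ S : 𝒮, (ι F S).IsContinuous (J S) (FibSite.totalTopology F J)]
  [∀ S : 𝒮, (ι G S).IsContinuous (K S) (FibSite.totalTopology G K)]
  [∀ S : 𝒮, (ι F S).IsCocontinuous (J S) (FibSite.totalTopology F J)]
  [∀ S : 𝒮, (ι G S).IsCocontinuous (K S) (FibSite.totalTopology G K)]
  [∀ S : 𝒮, (α.app ⟨op S⟩).toFunctor.IsContinuous (K S) (J S)]
  [(CoGrothendieck.map α).IsContinuous (FibSite.totalTopology G K) (FibSite.totalTopology F J)]

/-- the comparison `restr_S (A_* E) ⟶ (α_S)_* (restr_S E)` (an identity on sections) -/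
def delta (S : 𝒮) :
    (CoGrothendieck.map α).sheafPushforwardContinuous (Type u) (FibSite.totalTopology G K)
        (FibSite.totalTopology F J) ⋙ FibSite.restr G K (Type u) S ⟶
      FibSite.restr F J (Type u) S ⋙
        (α.app ⟨op S⟩).toFunctor.sheafPushforwardContinuous (Type u) (K S) (J S) where
  app E := ⟨Functor.whiskerRight (NatTrans.op (cmp α S).inv) E.obj⟩
  naturality E E' g := by
    apply Sheaf.hom_ext
    ext V x
    exact (ConcreteCategory.congr_hom (g.hom.naturality ((cmp α S).inv.app V.unop).op) x).symm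

/-- `γ_Q : restr_S (A_* (coextend_S Q)) ⟶ (α_S)_* Q` -/
noncomputable def gammaApp (S : 𝒮) (Q : Sheaf (J S) (Type u)) :
    (FibSite.restr G K (Type u) S).obj
        (((CoGrothendieck.map α).sheafPushforwardContinuous (Type u) (FibSite.totalTopology G K)
          (FibSite.totalTopology F J)).obj ((FibSite.coextend F J (Type u) S).obj Q)) ⟶
      ((α.app ⟨op S⟩).toFunctor.sheafPushforwardContinuous (Type u) (K S) (J S)).obj Q :=
  (delta α J K S).app ((FibSite.coextend F J (Type u) S).obj Q) ≫
    ((α.app ⟨op S⟩).toFunctor.sheafPushforwardContinuous (Type u) (K S) (J S)).map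
      (((ι F S).sheafAdjunctionCocontinuous (Type u) (J S)
        (FibSite.totalTopology F J)).counit.app Q)

lemma gammaApp_naturality (S : 𝒮) {Q Q' : Sheaf (J S) (Type u)} (q : Q ⟶ Q') :
    (FibSite.restr G K (Type u) S).map
        (((CoGrothendieck.map α).sheafPushforwardContinuous (Type u) (FibSite.totalTopology G K)
          (FibSite.totalTopology F J)).map ((FibSite.coextend F J (Type u) S).map q)) ≫
        gammaApp α J K S Q' =
      gammaApp α J K S Q ≫
        ((α.app ⟨op S⟩).toFunctor.sheafPushforwardContinuous (Type u) (K S) (J S)).map q := by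
  have h1 := (delta α J K S).naturality ((FibSite.coextend F J (Type u) S).map q)
  have h2 := ((ι F S).sheafAdjunctionCocontinuous (Type u) (J S)
        (FibSite.totalTopology F J)).counit.naturality q
  simp only [Functor.comp_map, Functor.id_map] at h1 h2
  simp only [gammaApp, Category.assoc]
  rw [← Category.assoc, h1, Category.assoc, ← Functor.map_comp, ← Functor.map_comp, h2]

/-- `β : coextend_S ⋙ A_* ⟶ (α_S)_* ⋙ coextend_S` -/
noncomputable def beta (S : 𝒮) :
    FibSite.coextend F J (Type u) S ⋙
        (CoGrothendieck.map α).sheafPushforwardContinuous (Type u) (FibSite.totalTopology G K)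
          (FibSite.totalTopology F J) ⟶
      (α.app ⟨op S⟩).toFunctor.sheafPushforwardContinuous (Type u) (K S) (J S) ⋙
        FibSite.coextend G K (Type u) S where
  app Q := ((ι G S).sheafAdjunctionCocontinuous (Type u) (K S)
    (FibSite.totalTopology G K)).homEquiv _ _ (gammaApp α J K S Q)
  naturality Q Q' q := by
    simp only [Functor.comp_map]
    rw [← Adjunction.homEquiv_naturality_left, ← Adjunction.homEquiv_naturality_right,
      gammaApp_naturality]

lemma beta_counit (S : 𝒮) (Q : Sheaf (J S) (Type u)) (V : G.obj ⟨op S⟩)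
    (y : ((FibSite.coextend F J (Type u) S).obj Q).obj.obj
      (op ((CoGrothendieck.map α).obj ((ι G S).obj V)))) :
    ((ι G S).op.ranCounit.app ((α.app ⟨op S⟩).toFunctor.op ⋙ Q.obj)).app (op V)
        (((beta α J K S).app Q).hom.app (op ((ι G S).obj V)) y) =
      ((ι F S).op.ranCounit.app Q.obj).app (op ((α.app ⟨op S⟩).toFunctor.obj V)) y := by
  have hb : ((beta α J K S).app Q).hom =
      ((ι G S).op.ranAdjunction (Type u)).homEquiv _ _ (gammaApp α J K S Q).hom :=
    (ι G S).sheafAdjunctionCocontinuous_homEquiv_apply_hom (Type u) (K S)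
      (FibSite.totalTopology G K) (gammaApp α J K S Q)
  have h1 := ((ι G S).op.ranAdjunction (Type u)).homEquiv_counit _ _
    (((ι G S).op.ranAdjunction (Type u)).homEquiv _ _ (gammaApp α J K S Q).hom)
  rw [Equiv.symm_apply_apply, ← hb, Functor.ranAdjunction_counit] at h1
  have h1' := NatTrans.congr_app h1 (op V)
  have h2 := ConcreteCategory.congr_hom h1' y
  have hF := (ι F S).sheafAdjunctionCocontinuous_counit_app_hom (Type u) (J S)
    (FibSite.totalTopology F J) Q
  rw [Functor.ranAdjunction_counit] at hF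
  refine h2.symm.trans ?_
  show ((((ι F S).sheafAdjunctionCocontinuous (Type u) (J S)
        (FibSite.totalTopology F J)).counit.app Q).hom.app (op ((α.app ⟨op S⟩).toFunctor.obj V)))
      (((FibSite.coextend F J (Type u) S).obj Q).obj.map ((cmp α S).inv.app V).op y) = _
  rw [hF]
  have : ((FibSite.coextend F J (Type u) S).obj Q).obj.map ((cmp α S).inv.app V).op y = y := by
    show ((FibSite.coextend F J (Type u) S).obj Q).obj.map (𝟙 _) y = y
    rw [FunctorToTypes.map_id_apply]
  rw [this]
  rfl

lemma beta_ranProj (S T : 𝒮) (Q : Sheaf (J S) (Type u)) (f : S ⟶ T) (W : G.obj ⟨op T⟩)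
    (x : ((FibSite.coextend F J (Type u) S).obj Q).obj.obj
      (op ((CoGrothendieck.map α).obj ((ι G T).obj W)))) :
    (ranProj ((α.app ⟨op S⟩).toFunctor.op ⋙ Q.obj) f).app (op W)
        (((beta α J K S).app Q).hom.app (op ((ι G T).obj W)) x) =
      Q.obj.map (natApp α f W).op
        ((ranProj Q.obj f).app (op ((α.app ⟨op T⟩).toFunctor.obj W)) x) := by
  let E := (FibSite.coextend F J (Type u) S).obj Q
  let b := ((beta α J K S).app Q).hom
  -- unfold the left hand side
  show ((ι G S).op.ranCounit.app ((α.app ⟨op S⟩).toFunctor.op ⋙ Q.obj)).app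
      (op ((FibSite.invImage G f).obj W))
      ((((ι G S).op.ran.obj ((α.app ⟨op S⟩).toFunctor.op ⋙ Q.obj))).map (cart G f W).op
        (b.app (op ((ι G T).obj W)) x)) = _
  have n1 := ConcreteCategory.congr_hom (b.naturality (cart G f W).op) x
  simp only [ConcreteCategory.comp_apply] at n1
  have s1 := congrArg (((ι G S).op.ranCounit.app ((α.app ⟨op S⟩).toFunctor.op ⋙ Q.obj)).app
      (op ((FibSite.invImage G f).obj W))) n1.symm
  refine Eq.trans s1 ?_
  have h1 := beta_counit α J K S Q ((FibSite.invImage G f).obj W)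
    (E.obj.map ((CoGrothendieck.map α).map (cart G f W)).op x)
  refine h1.trans ?_
  have e1 : E.obj.map ((CoGrothendieck.map α).map (cart G f W)).op x =
      E.obj.map ((ι F S).map (natApp α f W)).op
        (E.obj.map (cart F f ((α.app ⟨op T⟩).toFunctor.obj W)).op x) := by
    rw [map_cart]
    exact FunctorToTypes.map_comp_apply E.obj (cart F f ((α.app ⟨op T⟩).toFunctor.obj W)).op
      ((ι F S).map (natApp α f W)).op x
  rw [e1]
  have n2 := ConcreteCategory.congr_hom
    (((ι F S).op.ranCounit.app Q.obj).naturality (natApp α f W).op)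
    (E.obj.map (cart F f ((α.app ⟨op T⟩).toFunctor.obj W)).op x)
  simp only [ConcreteCategory.comp_apply] at n2
  exact n2

lemma map_op_injective {C : Type*} [Category C] (P : Cᵒᵖ ⥤ Type u) {X Y : C} (g : X ⟶ Y)
    [IsIso g] : Function.Injective (P.map g.op) := by
  intro a b h
  have := congrArg (P.map (inv g).op) h
  rw [← FunctorToTypes.map_comp_apply, ← FunctorToTypes.map_comp_apply, ← op_comp,
    IsIso.inv_hom_id, op_id, FunctorToTypes.map_id_apply, FunctorToTypes.map_id_apply] at this
  exact this

lemma map_op_inv_apply {C : Type*} [Category C] (P : Cᵒᵖ ⥤ Type u) {X Y : C} (g : X ⟶ Y)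
    [IsIso g] (a : P.obj (op X)) : P.map g.op (P.map (inv g).op a) = a := by
  rw [← FunctorToTypes.map_comp_apply, ← op_comp, IsIso.hom_inv_id, op_id,
    FunctorToTypes.map_id_apply]

theorem isIso_beta (S : 𝒮) : IsIso (beta α J K S) := by
  haveI : ∀ Q, IsIso ((beta α J K S).app Q) := by
    intro Q
    rw [← ObjectProperty.isIso_hom_iff]
    haveI : ∀ X, IsIso (((beta α J K S).app Q).hom.app X) := by
      rintro ⟨⟨T, W⟩⟩
      rw [isIso_iff_bijective]
      constructor
      · intro x y hxy
        obtain ⟨x₀, -, hu⟩ := ranProj_bijective Q.obj ((α.app ⟨op T⟩).toFunctor.obj W)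
          (fun f => (ranProj Q.obj f).app (op ((α.app ⟨op T⟩).toFunctor.obj W)) x)
        have hy : ∀ f : S ⟶ T, (ranProj Q.obj f).app (op ((α.app ⟨op T⟩).toFunctor.obj W)) y =
            (ranProj Q.obj f).app (op ((α.app ⟨op T⟩).toFunctor.obj W)) x := by
          intro f
          have h1 := beta_ranProj α J K S T Q f W x
          have h2 := beta_ranProj α J K S T Q f W y
          have h3 := congrArg ((ranProj ((α.app ⟨op S⟩).toFunctor.op ⋙ Q.obj) f).app (op W)) hxy
          exact map_op_injective Q.obj (natApp α f W) (h2.symm.trans (h3.symm.trans h1))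
        exact (hu x (fun f => rfl)).trans (hu y hy).symm
      · intro z
        obtain ⟨x, hx, -⟩ := ranProj_bijective Q.obj ((α.app ⟨op T⟩).toFunctor.obj W)
          (fun f => Q.obj.map (inv (natApp α f W)).op
            ((ranProj ((α.app ⟨op S⟩).toFunctor.op ⋙ Q.obj) f).app (op W) z))
        refine ⟨x, ?_⟩
        obtain ⟨z₀, -, hu⟩ := ranProj_bijective ((α.app ⟨op S⟩).toFunctor.op ⋙ Q.obj) W
          (fun f => (ranProj ((α.app ⟨op S⟩).toFunctor.op ⋙ Q.obj) f).app (op W) z)
        refine (hu _ ?_).trans (hu z (fun f => rfl)).symm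
        intro f
        refine (beta_ranProj α J K S T Q f W x).trans ?_
        rw [hx f]
        exact map_op_inv_apply Q.obj (natApp α f W) _
    exact NatIso.isIso_of_isIso_app _
  exact NatIso.isIso_of_isIso_app _

/-- base change: `restr_S ∘ A^* ≅ α_S^* ∘ restr_S` -/
noncomputable def baseChangeIso (S : 𝒮)
    [((CoGrothendieck.map α).sheafPushforwardContinuous (Type u) (FibSite.totalTopology G K)
      (FibSite.totalTopology F J)).IsRightAdjoint]
    [((α.app ⟨op S⟩).toFunctor.sheafPushforwardContinuous (Type u) (K S) (J S)).IsRightAdjoint] :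
    (CoGrothendieck.map α).sheafPullback (Type u) (FibSite.totalTopology G K)
        (FibSite.totalTopology F J) ⋙ FibSite.restr F J (Type u) S ≅
      FibSite.restr G K (Type u) S ⋙
        (α.app ⟨op S⟩).toFunctor.sheafPullback (Type u) (K S) (J S) := by
  haveI := isIso_beta α J K S
  let adjL₁ := ((CoGrothendieck.map α).sheafAdjunctionContinuous (Type u)
    (FibSite.totalTopology G K) (FibSite.totalTopology F J)).comp
      ((ι F S).sheafAdjunctionCocontinuous (Type u) (J S) (FibSite.totalTopology F J))
  let adjL₂ := ((ι G S).sheafAdjunctionCocontinuous (Type u) (K S)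
    (FibSite.totalTopology G K)).comp
      ((α.app ⟨op S⟩).toFunctor.sheafAdjunctionContinuous (Type u) (K S) (J S))
  exact adjL₁.leftAdjointUniq (adjL₂.ofNatIsoRight (asIso (beta α J K S)).symm)

instance preservesLimits_restr (S : 𝒮) :
    PreservesLimitsOfSize.{u, u} (FibSite.restr G K (Type u) S) :=
  ((ι G S).sheafAdjunctionContinuous (Type u) (K S)
    (FibSite.totalTopology G K)).rightAdjoint_preservesLimits

theorem preservesFiniteLimits_sheafPullback_map
    [((CoGrothendieck.map α).sheafPushforwardContinuous (Type u) (FibSite.totalTopology G K)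
      (FibSite.totalTopology F J)).IsRightAdjoint]
    [∀ S : 𝒮, ((α.app ⟨op S⟩).toFunctor.sheafPushforwardContinuous (Type u) (K S)
      (J S)).IsRightAdjoint]
    [∀ S : 𝒮, PreservesFiniteLimits ((α.app ⟨op S⟩).toFunctor.sheafPullback (Type u) (K S) (J S))] :
    PreservesFiniteLimits ((CoGrothendieck.map α).sheafPullback (Type u)
      (FibSite.totalTopology G K) (FibSite.totalTopology F J)) := by
  apply preservesFiniteLimits_of_forall_restr (F := F) (J := J)
  intro S
  haveI : PreservesFiniteLimits (FibSite.restr G K (Type u) S) := inferInstance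
  haveI : PreservesFiniteLimits (FibSite.restr G K (Type u) S ⋙
      (α.app ⟨op S⟩).toFunctor.sheafPullback (Type u) (K S) (J S)) :=
    comp_preservesFiniteLimits _ _
  exact preservesFiniteLimits_of_natIso (baseChangeIso α J K S).symm

end Mor

end Groth.Agent.Lib.Helper9.FibSite
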