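import Groth.Agent.Lib.Helper9FibSite
import Mathlib.CategoryTheory.Sites.CoverLifting
import Mathlib.CategoryTheory.Limits.Types.Limits
import Mathlib.CategoryTheory.Limits.FunctorCategory.Basic

set_option autoImplicit false

universe w v₃ u₃ v₂ u₂ v₁ u₁

open CategoryTheory Opposite Pseudofunctor Pseudofunctor.CoGrothendieck Bicategory Limits

namespace Groth.Agent.Lib.Helper9.FibSite

open Groth.Agent.Lib.Helper20

section Ran

variable {𝒮 : Type u₁} [Category.{v₁} 𝒮] {F : Pseudofunctor (LocallyDiscrete 𝒮ᵒᵖ) Cat.{v₂, u₂}}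

/-- the cartesian lifts as a natural transformation `f^* ⋙ ι_i ⟶ ι_j` -/
def cartNat {i j : 𝒮} (f : i ⟶ j) : FibSite.invImage F f ⋙ ι F i ⟶ ι F j where
  app W := cart F f W
  naturality _ _ g := (cart_naturality F f g).symm

variable {i j : 𝒮} (a : (F.obj ⟨op i⟩)ᵒᵖ ⥤ Type w)
  [∀ (P : (F.obj ⟨op i⟩)ᵒᵖ ⥤ Type w), (ι F i).op.HasPointwiseRightKanExtension P]

/-- the projection of the restriction to the fibre over `j` of the right Kan extension from the
fibre over `i` to the direct image along `f^*` -/
noncomputable def ranProj (f : i ⟶ j) :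
    (ι F j).op ⋙ (ι F i).op.ran.obj a ⟶ (FibSite.invImage F f).op ⋙ a :=
  Functor.whiskerRight (NatTrans.op (cartNat f)) ((ι F i).op.ran.obj a) ≫
    Functor.whiskerLeft (FibSite.invImage F f).op ((ι F i).op.ranCounit.app a)

theorem ranProj_bijective (W : F.obj ⟨op j⟩)
    (s : ∀ f : i ⟶ j, a.obj (op ((FibSite.invImage F f).obj W))) :
    ∃! x : ((ι F i).op.ran.obj a).obj (op ((ι F j).obj W)),
      ∀ f : i ⟶ j, (ranProj a f).app (op W) x = s f := by
  let E := Functor.RightExtension.mk _ ((ι F i).op.ranCounit.app a)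
  have hE : IsLimit (E.coneAt (op ((ι F j).obj W))) :=
    (ι F i).op.isPointwiseRightKanExtensionRanCounit a (op ((ι F j).obj W))
  have hlim := (Types.isLimit_iff (E.coneAt (op ((ι F j).obj W)))).1 ⟨hE⟩
  let val : ∀ {V : F.obj ⟨op i⟩} (k : (ι F i).obj V ⟶ (ι F j).obj W), a.obj (op V) :=
    fun k => a.map k.fiber.op (s k.base)
  have hval : ∀ {V V' : F.obj ⟨op i⟩} (k : (ι F i).obj V ⟶ (ι F j).obj W) (v : V' ⟶ V),
      val ((ι F i).map v ≫ k) = a.map v.op (val k) := by
    intro V V' k v
    have e := ι_map_comp F k v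
    have e' : val ((ι F i).map v ≫ k) =
        val (⟨k.base, v ≫ k.fiber⟩ : (ι F i).obj V' ⟶ (ι F j).obj W) := congrArg val e
    rw [e']
    exact FunctorToTypes.map_comp_apply a k.fiber.op v.op (s k.base)
  let t : ∀ g : StructuredArrow (op ((ι F j).obj W)) (ι F i).op,
      (StructuredArrow.proj _ _ ⋙ a).obj g := fun g => val g.hom.unop
  have ht : t ∈ (StructuredArrow.proj (op ((ι F j).obj W)) (ι F i).op ⋙ a).sections := by
    intro g g' m
    have hw : (ι F i).map m.right.unop ≫ g.hom.unop = g'.hom.unop := by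
      have := StructuredArrow.w m
      exact congrArg Quiver.Hom.unop this
    show a.map m.right (val g.hom.unop) = val g'.hom.unop
    rw [← hw, hval]
    rfl
  obtain ⟨x, hx, hxu⟩ := hlim t ht
  have hπ : ∀ (f : i ⟶ j) (x' : ((ι F i).op.ran.obj a).obj (op ((ι F j).obj W))),
      (ranProj a f).app (op W) x' =
        (E.coneAt (op ((ι F j).obj W))).π.app (StructuredArrow.mk (cart F f W).op) x' := by
    intro f x'
    rfl
  refine ⟨x, ?_, ?_⟩
  · intro f
    rw [hπ, hx]
    show a.map (𝟙 _).op (s f) = s f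
    rw [op_id, FunctorToTypes.map_id_apply]
  · intro x' hx'
    apply hxu
    have key : ∀ {V : F.obj ⟨op i⟩} (k : (ι F i).obj V ⟶ (ι F j).obj W),
        ((ι F i).op.ranCounit.app a).app (op V) (((ι F i).op.ran.obj a).map k.op x') = val k := by
      intro V k
      have hk : k = (ι F i).map k.fiber ≫ cart F k.base W :=
        (ι_map_comp_cart F k.base W k.fiber).symm
      have e1 : ((ι F i).op.ran.obj a).map k.op x' =
          ((ι F i).op.ran.obj a).map ((ι F i).map k.fiber).op
            (((ι F i).op.ran.obj a).map (cart F k.base W).op x') := by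
        have := congrArg (fun m : (ι F i).obj V ⟶ (ι F j).obj W =>
          ((ι F i).op.ran.obj a).map m.op x') hk
        refine this.trans ?_
        exact FunctorToTypes.map_comp_apply ((ι F i).op.ran.obj a) (cart F k.base W).op
          ((ι F i).map k.fiber).op x'
      have n := ConcreteCategory.congr_hom
        (((ι F i).op.ranCounit.app a).naturality k.fiber.op)
        (((ι F i).op.ran.obj a).map (cart F k.base W).op x')
      simp only [ConcreteCategory.comp_apply] at n
      rw [e1]
      refine n.trans ?_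
      exact congrArg (a.map k.fiber.op) (hx' k.base)
    intro g
    exact key g.hom.unop

end Ran

end Groth.Agent.Lib.Helper9.FibSite
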