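import Groth.Agent.Lib.Helper9FibSiteLan
import Mathlib.CategoryTheory.Adjunction.Triple

set_option autoImplicit false

universe u

open CategoryTheory Opposite Pseudofunctor Pseudofunctor.CoGrothendieck Bicategory Limits

namespace Groth.Agent.Lib.Helper9.FibSite

open Groth.Agent.Lib.Helper20

section Term

variable {𝒮 : Type u} [SmallCategory 𝒮] {F : Pseudofunctor (LocallyDiscrete 𝒮ᵒᵖ) Cat.{u, u}}
  {J : FibSite.Topologies F}

set_option backward.defeqAttrib.useBackward true in
set_option backward.isDefEq.respectTransparency false in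
lemma cart_id_eq (i : 𝒮) (V : F.obj ⟨op i⟩) :
    cart F (𝟙 i) V = (ι F i).map ((Cat.Hom.toNatIso (F.mapId ⟨op i⟩)).app V).hom := by
  refine Hom.ext _ _ rfl ?_
  simp [← Cat.Hom₂.comp_app]
  rfl

instance isIso_cart_id (i : 𝒮) (V : F.obj ⟨op i⟩) : IsIso (cart F (𝟙 i) V) := by
  rw [cart_id_eq]
  exact ((ι F i).mapIso ((Cat.Hom.toNatIso (F.mapId ⟨op i⟩)).app V)).isIso_hom

/-- in a discrete category on a subsingleton type every object is initial -/
def discreteIsInitial {α : Type*} [Subsingleton α] (x : α) : IsInitial (Discrete.mk x) :=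
  IsInitial.ofUniqueHom (fun Y => Discrete.eqToHom (Subsingleton.elim _ _))
    (fun _ _ => Subsingleton.elim _ _)

/-- in a discrete category on a subsingleton type every object is terminal -/
def discreteIsTerminal {α : Type*} [Subsingleton α] (x : α) : IsTerminal (Discrete.mk x) :=
  IsTerminal.ofUniqueHom (fun Y => Discrete.eqToHom (Subsingleton.elim _ _))
    (fun _ _ => Subsingleton.elim _ _)

variable {i : 𝒮} [(ι F i).IsContinuous (J i) (FibSite.totalTopology F J)]

instance isIso_theta_id [(FibSite.invImage F (𝟙 i)).IsContinuous (J i) (J i)]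
    (E : FibSite.TotSh F J (Type u)) : IsIso ((theta (F := F) (J := J) (𝟙 i)).app E) := by
  rw [← ObjectProperty.isIso_hom_iff]
  show IsIso (Functor.whiskerRight (NatTrans.op (cartNat (𝟙 i))) E.obj)
  haveI : ∀ V, IsIso ((Functor.whiskerRight (NatTrans.op (cartNat (F := F) (𝟙 i))) E.obj).app V) := by
    intro V
    show IsIso (E.obj.map (cart F (𝟙 i) V.unop).op)
    infer_instance
  exact NatIso.isIso_of_isIso_app _

/-- the direct image along `(𝟙 i)^*` is isomorphic to the identity -/
noncomputable def pushIdIso (i : 𝒮) [(FibSite.invImage F (𝟙 i)).IsContinuous (J i) (J i)] :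
    (FibSite.invImage F (𝟙 i)).sheafPushforwardContinuous (Type u) (J i) (J i) ≅ 𝟭 _ :=
  Functor.sheafPushforwardContinuousId' (F'' := FibSite.invImage F (𝟙 i))
    (show FibSite.invImage F (𝟙 i) ≅ 𝟭 _ from Cat.Hom.toNatIso (F.mapId ⟨op i⟩)) (Type u) (J i)

/-- if `i` is terminal, the unit of `extend_i ⊣ restr_i` is an isomorphism -/
theorem isIso_unit_of_isTerminal (hF : FibSite.IsPreFibSite F J) (hi : IsTerminal i)
    [((ι F i).sheafPushforwardContinuous (Type u) (J i)
      (FibSite.totalTopology F J)).IsRightAdjoint] :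
    IsIso ((ι F i).sheafAdjunctionContinuous (Type u) (J i) (FibSite.totalTopology F J)).unit := by
  haveI := ι_isCocontinuous F J hF i
  haveI : ∀ f : i ⟶ i, (FibSite.invImage F f).IsContinuous (J i) (J i) := fun f => hF f
  haveI : Subsingleton (i ⟶ i) := ⟨fun f g => hi.hom_ext f g⟩
  let t : Adjunction.Triple (FibSite.extend F J (Type u) i) (FibSite.restr F J (Type u) i)
      (FibSite.coextend F J (Type u) i) :=
    ⟨(ι F i).sheafAdjunctionContinuous (Type u) (J i) (FibSite.totalTopology F J),
      (ι F i).sheafAdjunctionCocontinuous (Type u) (J i) (FibSite.totalTopology F J)⟩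
  show IsIso t.adj₁.unit
  rw [t.isIso_unit_iff_isIso_counit]
  haveI : ∀ Q, IsIso (t.adj₂.counit.app Q) := by
    intro Q
    have hlim := ranFanIsLimit (F := F) (J := J) (i := i) (j := i) Q
    have h1 : IsIso (ranProjSh (F := F) (J := J) Q (𝟙 i)) :=
      hlim.isIso_π_app_of_isInitial ⟨𝟙 i⟩ (discreteIsInitial _)
    rw [ranProjSh_eq] at h1
    have h2 : IsIso (((FibSite.invImage F (𝟙 i)).sheafPushforwardContinuous (Type u) (J i)
        (J i)).map (t.adj₂.counit.app Q)) := IsIso.of_isIso_comp_left
      ((theta (F := F) (J := J) (𝟙 i)).app ((FibSite.coextend F J (Type u) i).obj Q)) _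
    exact (NatIso.isIso_map_iff (pushIdIso (F := F) (J := J) i) (t.adj₂.counit.app Q)).1 h2
  exact NatIso.isIso_of_isIso_app _

end Term

section Exact

variable {𝒮 : Type u} [SmallCategory 𝒮] {F : Pseudofunctor (LocallyDiscrete 𝒮ᵒᵖ) Cat.{u, u}}
  {J : FibSite.Topologies F}

/-- the restriction functors to the fibres jointly reflect finite limits -/
theorem preservesFiniteLimits_of_forall_restr {C : Type*} [Category C]
    [∀ S : 𝒮, (ι F S).IsContinuous (J S) (FibSite.totalTopology F J)]
    (L : C ⥤ FibSite.TotSh F J (Type u))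
    (h : ∀ S : 𝒮, PreservesFiniteLimits (L ⋙ FibSite.restr F J (Type u) S)) :
    PreservesFiniteLimits L := by
  refine ⟨fun K _ _ => ⟨fun {D} => ⟨fun {c} hc => ⟨?_⟩⟩⟩⟩
  apply isLimitOfReflects (sheafToPresheaf (FibSite.totalTopology F J) (Type u))
  apply evaluationJointlyReflectsLimits
  rintro ⟨⟨S, W⟩⟩
  haveI := h S
  have hj : IsLimit ((L ⋙ FibSite.restr F J (Type u) S).mapCone c) := isLimitOfPreserves _ hc
  have h2 : IsLimit (((evaluation _ _).obj (op W)).mapCone
      ((sheafToPresheaf (J S) (Type u)).mapCone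
        ((L ⋙ FibSite.restr F J (Type u) S).mapCone c))) :=
    isLimitOfPreserves _ (isLimitOfPreserves _ hj)
  exact h2

variable {i j : 𝒮}
  [(ι F i).IsContinuous (J i) (FibSite.totalTopology F J)]
  [(ι F j).IsContinuous (J j) (FibSite.totalTopology F J)]
  [(ι F j).IsCocontinuous (J j) (FibSite.totalTopology F J)]
  [∀ f : j ⟶ i, (FibSite.invImage F f).IsContinuous (J i) (J j)]
  [((ι F i).sheafPushforwardContinuous (Type u) (J i)
    (FibSite.totalTopology F J)).IsRightAdjoint]
  [∀ f : j ⟶ i, ((FibSite.invImage F f).sheafPushforwardContinuous (Type u) (J i)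
    (J j)).IsRightAdjoint]

/-- the injections `lanInj` as a natural transformation -/
noncomputable def lanInjNat (f : j ⟶ i) :
    (FibSite.invImage F f).sheafPullback (Type u) (J i) (J j) ⟶
      FibSite.extend F J (Type u) i ⋙ FibSite.restr F J (Type u) j where
  app a := lanInj a f
  naturality a b g := by
    apply (((FibSite.invImage F f).sheafAdjunctionContinuous (Type u) (J i)
      (J j)).homEquiv _ _).injective
    have ea : ((FibSite.invImage F f).sheafAdjunctionContinuous (Type u) (J i) (J j)).homEquiv _ _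
        (lanInj (F := F) (J := J) a f) = _ := Equiv.apply_symm_apply _ _
    have eb : ((FibSite.invImage F f).sheafAdjunctionContinuous (Type u) (J i) (J j)).homEquiv _ _
        (lanInj (F := F) (J := J) b f) = _ := Equiv.apply_symm_apply _ _
    have h1 := ((ι F i).sheafAdjunctionContinuous (Type u) (J i)
      (FibSite.totalTopology F J)).unit.naturality g
    have h2 := (theta (F := F) (J := J) f).naturality ((FibSite.extend F J (Type u) i).map g)
    simp only [Functor.id_map, Functor.comp_map] at h1 h2
    refine (Adjunction.homEquiv_naturality_left _ _ _).trans ?_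
    refine Eq.trans ?_ (Adjunction.homEquiv_naturality_right _ _ _).symm
    simp only [Functor.comp_obj, Functor.comp_map]
    rw [ea, eb, ← Category.assoc, h1, Category.assoc, h2, Category.assoc]

end Exact

end Groth.Agent.Lib.Helper9.FibSite
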