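import Groth.Agent.Lib.Helper9FibSiteTerm
import Groth.Agent.Lib.Helper9Univ

set_option autoImplicit false

universe u

open CategoryTheory Opposite Pseudofunctor Pseudofunctor.CoGrothendieck Bicategory Limits

namespace Groth.Agent.Lib.Helper9.FibSite

open Groth.Agent.Lib.Helper20

section W

variable {𝒮 : Type u} [SmallCategory 𝒮] {F : Pseudofunctor (LocallyDiscrete 𝒮ᵒᵖ) Cat.{u, u}}
  {J : FibSite.Topologies F}

example (i : 𝒮) [(ι F i).IsContinuous (J i) (FibSite.totalTopology F J)] :
    ((ι F i).sheafPushforwardContinuous (Type u) (J i)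
      (FibSite.totalTopology F J)).IsRightAdjoint := inferInstance

example (i j : 𝒮) (f : j ⟶ i) [(FibSite.invImage F f).IsContinuous (J i) (J j)] :
    ((FibSite.invImage F f).sheafPushforwardContinuous (Type u) (J i) (J j)).IsRightAdjoint :=
  inferInstance

example : HasSheafify (FibSite.totalTopology F J) (Type u) := inferInstance
example (i : 𝒮) : HasSheafify (J i) (Type u) := inferInstance

/-- the inverse image along `(𝟙 i)^*` is isomorphic to the identity -/
noncomputable def pullIdIso (i : 𝒮) [(FibSite.invImage F (𝟙 i)).IsContinuous (J i) (J i)] :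
    (FibSite.invImage F (𝟙 i)).sheafPullback (Type u) (J i) (J i) ≅ 𝟭 _ :=
  ((FibSite.invImage F (𝟙 i)).sheafAdjunctionContinuous (Type u) (J i) (J i)).leftAdjointUniq
    (Adjunction.id.ofNatIsoRight (pushIdIso (F := F) (J := J) i).symm)

/-- `extend_i` reflects isomorphisms -/
theorem isIso_of_isIso_extend_map (hF : FibSite.IsPreFibSite F J) (i : 𝒮)
    [(ι F i).IsContinuous (J i) (FibSite.totalTopology F J)]
    {a b : Sheaf (J i) (Type u)} (g : a ⟶ b)
    (h : IsIso ((FibSite.extend F J (Type u) i).map g)) : IsIso g := by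
  haveI := ι_isCocontinuous F J hF i
  haveI : ∀ f : i ⟶ i, (FibSite.invImage F f).IsContinuous (J i) (J i) := fun f => hF f
  let ca := Cofan.mk _ (fun f : i ⟶ i => lanInj (F := F) (J := J) a f)
  let cb := Cofan.mk _ (fun f : i ⟶ i => lanInj (F := F) (J := J) b f)
  have hca : IsColimit ca := lanCofanIsColimit a
  have hcb : IsColimit cb := lanCofanIsColimit b
  have hVK := Groth.Agent.Lib.Helper9.sheaf_isVanKampenColimit_discrete (J i) hcb
  let α : Discrete.functor (fun f : i ⟶ i =>
        ((FibSite.invImage F f).sheafPullback (Type u) (J i) (J i)).obj a) ⟶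
      Discrete.functor (fun f : i ⟶ i =>
        ((FibSite.invImage F f).sheafPullback (Type u) (J i) (J i)).obj b) :=
    Discrete.natTrans (fun f => ((FibSite.invImage F f.as).sheafPullback (Type u) (J i) (J i)).map g)
  let φ : ca.pt ⟶ cb.pt := (FibSite.extend F J (Type u) i ⋙ FibSite.restr F J (Type u) i).map g
  have comm : α ≫ cb.ι = ca.ι ≫ (Functor.const _).map φ := by
    refine NatTrans.ext (funext ?_)
    rintro ⟨f⟩
    exact (lanInjNat (F := F) (J := J) f).naturality g
  have hpb := (hVK ca α φ comm (NatTrans.Equifibered.of_discrete _)).1 ⟨hca⟩ ⟨𝟙 i⟩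
  haveI : IsIso φ := by
    show IsIso ((FibSite.restr F J (Type u) i).map ((FibSite.extend F J (Type u) i).map g))
    infer_instance
  have h1 : IsIso (α.app ⟨𝟙 i⟩) := hpb.isIso_snd_of_isIso
  exact (NatIso.isIso_map_iff (pullIdIso (F := F) (J := J) i) g).1 h1

/-- a morphism of presheaves on a fibre whose left Kan extension to the total category is
bicovering is bicovering -/
theorem W_of_W_lan_map (hF : FibSite.IsPreFibSite F J) (i : 𝒮)
    {R R' : (F.obj ⟨op i⟩)ᵒᵖ ⥤ Type u} (u : R ⟶ R')
    (h : (FibSite.totalTopology F J).W (((ι F i).op.lan (H := Type u)).map u)) :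
    (J i).W u := by
  haveI := ι_isContinuous hF i
  let adjA := ((ι F i).op.lanAdjunction (Type u)).comp
    (sheafificationAdjunction (FibSite.totalTopology F J) (Type u))
  let adjB := (sheafificationAdjunction (J i) (Type u)).comp
    ((ι F i).sheafAdjunctionContinuous (Type u) (J i) (FibSite.totalTopology F J))
  let e : (ι F i).op.lan ⋙ presheafToSheaf (FibSite.totalTopology F J) (Type u) ≅
      presheafToSheaf (J i) (Type u) ⋙ FibSite.extend F J (Type u) i :=
    adjA.leftAdjointUniq adjB
  rw [GrothendieckTopology.W_iff] at h ⊢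
  have h2 : IsIso ((presheafToSheaf (J i) (Type u) ⋙ FibSite.extend F J (Type u) i).map u) :=
    (NatIso.isIso_map_iff e u).1 h
  exact isIso_of_isIso_extend_map hF i _ h2

end W

end Groth.Agent.Lib.Helper9.FibSite
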