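import Mathlib
import Groth.Agent.Lib.Helper9EtDim2
import Groth.Agent.Lib.Helper3CompDim
import Groth.Agent.Lib.Helper4DimFormulaAH
import Groth.Agent.Lib.Helper9SpDimIneq
import Groth.Agent.Lib.Helper5CMAffSp

/-!
# Base change and the dimension of the local ring of the fibre (schemes) (helper9)

For a pullback square `P = U ×_V W` of schemes and `p' ∈ P`:
* `fibStalkDim_le_of_isPullback`: `dim O_{U_v, fst p'} ≤ dim O_{P_w, p'}`;
* `exists_fibStalkDim_eq_of_isPullback`: over `u` and `w` with the same image in `V` there is a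
  point `p'` with equality.
-/

set_option autoImplicit false
set_option linter.style.haveILetI false
set_option backward.isDefEq.respectTransparency false
open CategoryTheory CategoryTheory.Limits AlgebraicGeometry Opposite IsLocalRing
universe u

namespace Groth.Agent.Lib.Helper9.FibStalkBC

open Groth.Agent.Lib.Helper4.DimFormula Groth.Agent.Lib.Helper9.SpDimIneq

/-- a nonempty scheme has a point with zero-dimensional local ring -/
theorem exists_stalkDim_eq_zero (Z : Scheme.{u}) [Nonempty Z] :
    ∃ ξ : Z, ringKrullDim (Z.presheaf.stalk ξ) = 0 := by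
  obtain ⟨z⟩ := ‹Nonempty Z›
  have hc := irreducibleComponent_mem_irreducibleComponents z
  have hirr : IsIrreducible (irreducibleComponent z) := isIrreducible_irreducibleComponent
  have hcl : IsClosed (irreducibleComponent z) := isClosed_irreducibleComponent
  obtain ⟨ξ, hξ⟩ := QuasiSober.sober hirr hcl
  refine ⟨ξ, ringKrullDim_stalk_eq_zero_of_generic Z ξ ?_⟩
  rw [hξ.def]
  exact hc

variable {P U W V : Scheme.{u}} {fst : P ⟶ U} {snd : P ⟶ W} {h : U ⟶ V} {k : W ⟶ V}
  (sq : IsPullback fst snd h k)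

/-- the map of fibres -/
noncomputable def fibMap (z : W) : snd.fiber z ⟶ h.fiber (k z) :=
  pullback.map _ _ _ _ fst (Spec.map (k.residueFieldMap z)) k sq.w.symm (by simp)

lemma fibMap_fiberι (z : W) : fibMap sq z ≫ h.fiberι (k z) = snd.fiberι z ≫ fst :=
  pullback.lift_fst _ _ _

lemma isPullback_fibMap (z : W) :
    IsPullback (fibMap sq z) (snd.fiberToSpecResidueField z)
      (h.fiberToSpecResidueField (k z)) (Spec.map (k.residueFieldMap z)) :=
  isPullback_fiberToSpecResidueField_of_isPullback sq z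

lemma flat_specMap_residueFieldMap (z : W) : Flat (Spec.map (k.residueFieldMap z)) := by
  rw [HasRingHomProperty.Spec_iff (P := @Flat)]
  algebraize [(k.residueFieldMap z).hom]
  show Module.Flat _ _
  infer_instance

lemma surjective_specMap_residueFieldMap (z : W) : Surjective (Spec.map (k.residueFieldMap z)) := by
  refine ⟨fun x => ⟨IsLocalRing.closedPoint _, ?_⟩⟩
  exact Subsingleton.elim (α := PrimeSpectrum _) _ _

instance (z : W) : Flat (fibMap sq z) :=
  MorphismProperty.of_isPullback (P := @Flat) (isPullback_fibMap sq z).flip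
    (flat_specMap_residueFieldMap z)

instance (z : W) : Surjective (fibMap sq z) :=
  MorphismProperty.of_isPullback (P := @Surjective) (isPullback_fibMap sq z).flip
    (surjective_specMap_residueFieldMap z)

include sq

theorem fibStalkDim_le_of_isPullback (p' : P) :
    fibStalkDim h (fst p') ≤ fibStalkDim snd p' := by
  obtain ⟨z, hz⟩ : ∃ z : W, z = snd p' := ⟨_, rfl⟩
  obtain ⟨q, hq⟩ : ∃ q : snd.fiber z, snd.fiberι z q = p' := by
    have : p' ∈ Set.range (snd.fiberι z) := by
      rw [snd.range_fiberι]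
      exact hz.symm
    exact this
  have h1 := Groth.Agent.Lib.Helper9.EtDim.ringKrullDim_stalk_le_of_flat (fibMap sq z) q
  rw [ringKrullDim_stalk_fiber_eq_fibStalkDim, ringKrullDim_stalk_fiber_eq_fibStalkDim, hq,
    ← Scheme.Hom.comp_apply, fibMap_fiberι sq, Scheme.Hom.comp_apply, hq] at h1
  exact h1

theorem exists_fibStalkDim_eq_of_isPullback [LocallyOfFiniteType h] (u : U) (z : W)
    (huz : h u = k z) :
    ∃ p' : P, fst p' = u ∧ snd p' = z ∧ fibStalkDim snd p' = fibStalkDim h u := by
  haveI : LocallyOfFiniteType snd := MorphismProperty.of_isPullback (P := @LocallyOfFiniteType) sq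
    inferInstance
  haveI : IsLocallyNoetherian (h.fiber (k z)) :=
    Groth.Agent.Lib.Helper5.CMAffSp.isLocallyNoetherian_fiber h _
  haveI : IsLocallyNoetherian (snd.fiber z) :=
    Groth.Agent.Lib.Helper5.CMAffSp.isLocallyNoetherian_fiber snd _
  obtain ⟨u', hu'⟩ : ∃ u' : h.fiber (k z), h.fiberι (k z) u' = u := by
    have : u ∈ Set.range (h.fiberι (k z)) := by
      rw [h.range_fiberι]
      exact huz
    exact this
  obtain ⟨q₀, hq₀⟩ := (fibMap sq z).surjective u'
  haveI : Nonempty ((fibMap sq z).fiber u') := by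
    have : q₀ ∈ Set.range ((fibMap sq z).fiberι u') := by
      rw [(fibMap sq z).range_fiberι]
      exact hq₀
    obtain ⟨ξ₀, -⟩ := this
    exact ⟨ξ₀⟩
  obtain ⟨ξ, hξ⟩ := exists_stalkDim_eq_zero ((fibMap sq z).fiber u')
  obtain ⟨p'', hp''⟩ : ∃ p'' : snd.fiber z, p'' = (fibMap sq z).fiberι u' ξ := ⟨_, rfl⟩
  have hφp : (fibMap sq z) p'' = u' := by
    have : p'' ∈ Set.range ((fibMap sq z).fiberι u') := ⟨ξ, hp''.symm⟩
    rw [(fibMap sq z).range_fiberι] at this
    exact this
  refine ⟨snd.fiberι z p'', ?_, ?_, ?_⟩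
  · rw [← Scheme.Hom.comp_apply, ← fibMap_fiberι sq, Scheme.Hom.comp_apply, hφp, hu']
  · have : snd.fiberι z p'' ∈ Set.range (snd.fiberι z) := ⟨p'', rfl⟩
    rw [snd.range_fiberι] at this
    exact this
  · rw [← ringKrullDim_stalk_fiber_eq_fibStalkDim,
      Groth.Agent.Lib.Helper3.CompDim.stalk_dim_formula_of_flat (fibMap sq z) p''
        (Flat.stalkMap (fibMap sq z) p''),
      ringKrullDim_stalk_asFiber]
    rw [ringKrullDim_stalk_fiber_eq_fibStalkDim, ← hp''] at hξ
    rw [hξ, add_zero, hφp, ringKrullDim_stalk_fiber_eq_fibStalkDim, hu']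

end Groth.Agent.Lib.Helper9.FibStalkBC
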