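import Mathlib
import Groth.Agent.Lib.Helper9DvrSpec

/-!
# Ring-theoretic input for the finite separable refinement of the valuative criterion (helper9)

* `FinSep.finite_separable_residueField`: the residue field at a point of a scheme unramified and locally of
  finite type over the spectrum of a field is finite separable over that field.
* `FinSep.exists_valuationSubring_comap`: the preimage of a valuation ring under a field embedding.
-/

set_option autoImplicit false
set_option linter.style.haveILetI false
universe u
open CategoryTheory CategoryTheory.Limits AlgebraicGeometry Opposite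

namespace Groth.Agent.Lib.Helper9.FinSep

open Groth.Agent.Lib.Helper9

/-- The residue field at a point of a scheme formally unramified and locally of finite type over the spectrum of
a field `K` is finite separable over `K`. -/
theorem finite_separable_residueField {K : Type u} [Field K] {W : Scheme.{u}}
    (g : W ⟶ Spec (CommRingCat.of K)) [FormallyUnramified g] [LocallyOfFiniteType g] (x : W)
    (ψ : K →+* W.residueField x)
    (hψ : Spec.map (CommRingCat.ofHom ψ) = W.fromSpecResidueField x ≫ g) :
    letI := ψ.toAlgebra
    Module.Finite K (W.residueField x) ∧ Algebra.IsSeparable K (W.residueField x) := by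
  let y : PrimeSpectrum K := g x
  haveI : y.asIdeal.IsPrime := y.isPrime
  have hmax : y.asIdeal.IsMaximal := by
    have h : y.asIdeal = ⊥ := Ideal.eq_bot_of_prime y.asIdeal
    rw [h]; exact Ideal.bot_isMaximal
  let ι : CommRingCat.of K ⟶ (Spec (CommRingCat.of K)).residueField y :=
    CommRingCat.ofHom (algebraMap K y.asIdeal.ResidueField) ≫
      (Scheme.Spec.residueFieldIso (CommRingCat.of K) y).inv
  have hι : Spec.map ι = (Spec (CommRingCat.of K)).fromSpecResidueField y := by
    rw [Spec.map_comp]
    exact Scheme.Spec.map_residueFieldIso_inv_eq_fromSpecResidueField (CommRingCat.of K) y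
  have hψι : CommRingCat.ofHom ψ = ι ≫ g.residueFieldMap x := by
    apply Spec.map_injective
    rw [hψ, Spec.map_comp]
    have h1 := Scheme.Hom.SpecMap_residueFieldMap_fromSpecResidueField g x
    rw [← h1]
    congr 1
    exact hι.symm
  have hιsurj : Function.Surjective ι.hom := by
    have h1 : Function.Surjective (algebraMap K y.asIdeal.ResidueField) :=
      Ideal.algebraMap_residueField_surjective y.asIdeal
    have h2 : Function.Surjective
        (Scheme.Spec.residueFieldIso (CommRingCat.of K) y).inv.hom :=
      (ConcreteCategory.bijective_of_isIso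
        (Scheme.Spec.residueFieldIso (CommRingCat.of K) y).inv).2
    exact h2.comp h1
  have hψeq : ψ = (g.residueFieldMap x).hom.comp ι.hom := by
    have h := congrArg CommRingCat.Hom.hom hψι
    rw [CommRingCat.hom_comp] at h
    exact h
  letI algr : Algebra ((Spec (CommRingCat.of K)).residueField y) (W.residueField x) :=
    (g.residueFieldMap x).hom.toAlgebra
  haveI hsep : Algebra.IsSeparable ((Spec (CommRingCat.of K)).residueField y) (W.residueField x) :=
    inferInstance
  haveI hess : Algebra.EssFiniteType ((Spec (CommRingCat.of K)).residueField y)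
      (W.residueField x) := DvrSpec.essFiniteType_residueFieldMap g x
  haveI hfu : Algebra.FormallyUnramified ((Spec (CommRingCat.of K)).residueField y)
      (W.residueField x) := Algebra.FormallyUnramified.of_isSeparable _ _
  have hfin : Module.Finite ((Spec (CommRingCat.of K)).residueField y) (W.residueField x) :=
    Algebra.FormallyUnramified.finite_of_free _ _
  constructor
  · have h1 : (g.residueFieldMap x).hom.Finite := hfin
    have h2 : ι.hom.Finite := RingHom.Finite.of_surjective _ hιsurj
    have h3 := h1.comp h2
    rw [← hψeq] at h3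
    exact h3
  · let e₀ : K ≃+* ((Spec (CommRingCat.of K)).residueField y) :=
      RingEquiv.ofBijective ι.hom ⟨ι.hom.injective, hιsurj⟩
    letI algψ : Algebra K (W.residueField x) := ψ.toAlgebra
    refine Algebra.IsSeparable.of_equiv_equiv e₀.symm (RingEquiv.refl _) ?_
    ext z
    obtain ⟨k, rfl⟩ := hιsurj z
    have h1 : e₀.symm (ι.hom k) = k := e₀.symm_apply_apply k
    have h2 : algebraMap K (W.residueField x) k = ψ k := rfl
    have h3 : algebraMap ((Spec (CommRingCat.of K)).residueField y) (W.residueField x) (ι.hom k) =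
        (g.residueFieldMap x).hom (ι.hom k) := rfl
    simp only [RingHom.coe_comp, RingHom.coe_coe, Function.comp_apply, RingEquiv.refl_apply]
    rw [h1, h2, h3, hψeq]
    rfl

/-- The preimage of a valuation ring `A₂` (with fraction field `K₂`) under a field embedding `ι : K' → K₂` is a
valuation subring `V` of `K'`, with a local homomorphism `V → A₂` compatible with `ι`. -/
theorem exists_valuationSubring_comap {A₂ K₂ K' : Type u} [CommRing A₂] [IsDomain A₂]
    [ValuationRing A₂] [Field K₂] [Algebra A₂ K₂] [IsFractionRing A₂ K₂] [Field K']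
    (ι : K' →+* K₂) :
    ∃ (V : ValuationSubring K') (β : V →+* A₂),
      (∀ v : V, algebraMap A₂ K₂ (β v) = ι v) ∧ IsLocalHom β ∧
      ∀ k : K', (∃ a, algebraMap A₂ K₂ a = ι k) → k ∈ V := by
  let V₂ : ValuationSubring K₂ := (ValuationRing.valuation A₂ K₂).valuationSubring
  have hV₂ : ∀ z : K₂, z ∈ V₂ ↔ ∃ a, algebraMap A₂ K₂ a = z := fun z =>
    ValuationRing.mem_integer_iff A₂ K₂ z
  have hmem : ∀ k : K', k ∈ V₂.comap ι ↔ ∃ a, algebraMap A₂ K₂ a = ι k := fun k => by
    rw [ValuationSubring.mem_comap, hV₂]
  have hinj : Function.Injective (algebraMap A₂ K₂) := IsFractionRing.injective A₂ K₂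
  choose β hβ1 using fun v : V₂.comap ι => (hmem v).1 v.2
  refine ⟨V₂.comap ι,
    { toFun := β
      map_one' := hinj (by rw [hβ1]; simp)
      map_mul' := fun a b => hinj (by rw [hβ1, map_mul, hβ1, hβ1]; simp)
      map_zero' := hinj (by rw [hβ1]; simp)
      map_add' := fun a b => hinj (by rw [hβ1, map_add, hβ1, hβ1]; simp) }, hβ1, ⟨?_⟩,
    fun k hk => (hmem k).2 hk⟩
  intro v hv
  have hv' : IsUnit (β v) := hv
  obtain ⟨w, hw⟩ := hv'.exists_right_inv
  have h1 : ι (v : K') * algebraMap A₂ K₂ w = 1 := by
    rw [← hβ1 v, ← map_mul, hw, map_one]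
  have hv0 : (v : K') ≠ 0 := by
    intro h0
    rw [h0, map_zero, zero_mul] at h1
    exact zero_ne_one h1
  have h2 : ι ((v : K')⁻¹) = algebraMap A₂ K₂ w := by
    rw [map_inv₀]
    exact inv_eq_of_mul_eq_one_right h1
  have hmem' : (v : K')⁻¹ ∈ V₂.comap ι := (hmem _).2 ⟨w, h2.symm⟩
  refine isUnit_iff_exists_inv.2 ⟨⟨_, hmem'⟩, ?_⟩
  apply Subtype.ext
  change (v : K') * (v : K')⁻¹ = 1
  exact mul_inv_cancel₀ hv0

/-- An injective ring map of domains extends to the fraction fields. -/
theorem exists_fractionRing_lift {A₁ K₁ A₂ : Type u} [CommRing A₁] [IsDomain A₁] [Field K₁]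
    [Algebra A₁ K₁] [IsFractionRing A₁ K₁] [CommRing A₂] [IsDomain A₂] (φ₂ : A₁ →+* A₂)
    (h : Function.Injective φ₂) :
    ∃ ψ₂ : K₁ →+* FractionRing A₂,
      ψ₂.comp (algebraMap A₁ K₁) = (algebraMap A₂ (FractionRing A₂)).comp φ₂ := by
  have hinj₂ : Function.Injective ((algebraMap A₂ (FractionRing A₂)).comp φ₂) :=
    (IsFractionRing.injective A₂ (FractionRing A₂)).comp h
  refine ⟨IsFractionRing.lift hinj₂, RingHom.ext fun a => ?_⟩
  rw [RingHom.comp_apply, IsFractionRing.lift_algebraMap]

end Groth.Agent.Lib.Helper9.FinSep
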