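import Mathlib
import Groth.Agent.Lib.Helper9FinSepRing
import Groth.Agent.Lib.Helper4DVREx

/-!
# The finite separable refinement, on a chart (helper9)

Scheme level step of the finite separable refinement of the existence part of the valuative criterion: a `K₂`-point
of a scheme `W` étale over `Spec K` factors through the residue field `K'` of its image point, which is finite
separable over `K`; a morphism from the spectrum of a valuation ring `A₂` of `K₂` to a scheme `U`, whose generic point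
factors through `W`, descends to the valuation ring `A₂ ∩ K'` of `K'`.
-/

set_option autoImplicit false
set_option linter.style.haveILetI false
universe u
open CategoryTheory CategoryTheory.Limits AlgebraicGeometry Opposite

namespace Groth.Agent.Lib.Helper9.FinSep

open Groth.Agent.Lib.Helper4

theorem exists_chart_refinement {K : Type u} [Field K] {W U : Scheme.{u}}
    (w : W ⟶ Spec (CommRingCat.of K)) [Etale w]
    {A₂ K₂ : Type u} [CommRing A₂] [IsDomain A₂] [ValuationRing A₂] [Field K₂] [Algebra A₂ K₂]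
    [IsFractionRing A₂ K₂] (ζ : Spec (CommRingCat.of K₂) ⟶ W) (pr : W ⟶ U)
    (m : Spec (CommRingCat.of A₂) ⟶ U)
    (hζ : ζ ≫ pr = Spec.map (CommRingCat.ofHom (algebraMap A₂ K₂)) ≫ m) :
    ∃ (K' : Type u) (_ : Field K') (ψ : K →+* K') (ι : K' →+* K₂)
      (κ : Spec (CommRingCat.of K') ⟶ W) (V : ValuationSubring K') (β : V →+* A₂)
      (n : Spec (CommRingCat.of V) ⟶ U),
      (letI := ψ.toAlgebra; Module.Finite K K' ∧ Algebra.IsSeparable K K') ∧
      Spec.map (CommRingCat.ofHom ψ) = κ ≫ w ∧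
      Spec.map (CommRingCat.ofHom ι) ≫ κ = ζ ∧
      (∀ v : V, algebraMap A₂ K₂ (β v) = ι v) ∧ IsLocalHom β ∧
      (∀ k : K', (∃ a, algebraMap A₂ K₂ a = ι k) → k ∈ V) ∧
      Spec.map (CommRingCat.ofHom β) ≫ n = m ∧
      Spec.map (CommRingCat.ofHom (algebraMap V K')) ≫ n = κ ≫ pr := by
  obtain ⟨x, hx⟩ : ∃ x : W, x = ζ (IsLocalRing.closedPoint K₂) := ⟨_, rfl⟩
  obtain ⟨ι₀, hι₀⟩ : ∃ ι₀ : W.residueField x ⟶ CommRingCat.of K₂,
      Spec.map ι₀ ≫ W.fromSpecResidueField x = ζ := by
    subst hx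
    exact ⟨_, Scheme.descResidueField_stalkClosedPointTo_fromSpecResidueField K₂ W ζ⟩
  obtain ⟨ψ₀, hψ₀⟩ : ∃ ψ₀ : CommRingCat.of K ⟶ W.residueField x,
      Spec.map ψ₀ = W.fromSpecResidueField x ≫ w := ⟨Spec.preimage _, Spec.map_preimage _⟩
  have hfs := finite_separable_residueField w x ψ₀.hom hψ₀
  obtain ⟨V, β, hβ1, hβloc, hVmem⟩ := exists_valuationSubring_comap (A₂ := A₂) (K₂ := K₂) ι₀.hom
  -- an affine open neighbourhood of the image of the closed point
  obtain ⟨U₀, hU₀, hmU₀, -⟩ := exists_isAffineOpen_mem_and_subset (U := ⊤)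
    (x := m (IsLocalRing.closedPoint A₂)) trivial
  obtain ⟨lam, hlam⟩ := DVREx.exists_factor_fromSpec (R := CommRingCat.of A₂) m hU₀ hmU₀
  obtain ⟨k', hk'⟩ : ∃ k' : Spec (W.residueField x) ⟶ U, k' = W.fromSpecResidueField x ≫ pr :=
    ⟨_, rfl⟩
  have hιk' : Spec.map ι₀ ≫ k' = Spec.map (CommRingCat.ofHom (algebraMap A₂ K₂)) ≫ m := by
    rw [hk', ← Category.assoc, hι₀, hζ]
  have hsub : ∀ z, m z ∈ U₀ := by
    intro z
    have h2 : hU₀.fromSpec ((Spec.map lam) z) ∈ Set.range hU₀.fromSpec := ⟨_, rfl⟩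
    rw [hU₀.range_fromSpec] at h2
    rw [hlam, Scheme.Hom.comp_apply]
    exact h2
  have hk'U₀ : k' (IsLocalRing.closedPoint (W.residueField x)) ∈ U₀ := by
    haveI : Subsingleton (PrimeSpectrum (W.residueField x)) := inferInstance
    have h1 : IsLocalRing.closedPoint (W.residueField x) =
        (Spec.map ι₀) (IsLocalRing.closedPoint K₂) := Subsingleton.elim _ _
    rw [h1]
    have h2 : k' ((Spec.map ι₀) (IsLocalRing.closedPoint K₂)) =
        (Spec.map ι₀ ≫ k') (IsLocalRing.closedPoint K₂) := rfl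
    have h3 : (Spec.map (CommRingCat.ofHom (algebraMap A₂ K₂)) ≫ m) (IsLocalRing.closedPoint K₂) =
        m ((Spec.map (CommRingCat.ofHom (algebraMap A₂ K₂))) (IsLocalRing.closedPoint K₂)) := rfl
    rw [h2, hιk', h3]
    exact hsub _
  obtain ⟨lam', hlam'⟩ := DVREx.exists_factor_fromSpec (R := W.residueField x) k' hU₀ hk'U₀
  have hcompat : lam' ≫ ι₀ = lam ≫ CommRingCat.ofHom (algebraMap A₂ K₂) := by
    apply DVREx.fromSpec_cancel hU₀
    rw [Spec.map_comp, Category.assoc, ← hlam', hιk', Spec.map_comp, Category.assoc, ← hlam]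
  have hcompat' : ∀ a : Γ(U, U₀), ι₀.hom (lam'.hom a) = algebraMap A₂ K₂ (lam.hom a) := fun a =>
    congrArg (fun t => t.hom a) hcompat
  have hmemV : ∀ a : Γ(U, U₀), lam'.hom a ∈ V := fun a => hVmem _ ⟨lam.hom a, (hcompat' a).symm⟩
  let βV : Γ(U, U₀) →+* V :=
    { toFun := fun a => ⟨lam'.hom a, hmemV a⟩
      map_one' := Subtype.ext (map_one _)
      map_mul' := fun a b => Subtype.ext (map_mul _ a b)
      map_zero' := Subtype.ext (map_zero _)
      map_add' := fun a b => Subtype.ext (map_add _ a b) }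
  have hβVβ : (CommRingCat.ofHom βV) ≫ (CommRingCat.ofHom β) = lam := by
    ext a
    apply IsFractionRing.injective A₂ K₂
    change algebraMap A₂ K₂ (β (βV a)) = algebraMap A₂ K₂ (lam.hom a)
    rw [hβ1]
    exact hcompat' a
  have hβValg : CommRingCat.ofHom βV ≫ CommRingCat.ofHom (algebraMap V (W.residueField x)) =
      lam' := by
    ext a; rfl
  refine ⟨W.residueField x, inferInstance, ψ₀.hom, ι₀.hom, W.fromSpecResidueField x, V, β,
    Spec.map (CommRingCat.ofHom βV) ≫ hU₀.fromSpec, hfs, ?_, ?_, hβ1, hβloc, hVmem, ?_, ?_⟩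
  · exact hψ₀
  · exact hι₀
  · rw [← Category.assoc, ← Spec.map_comp, hβVβ, ← hlam]
  · rw [← Category.assoc, ← Spec.map_comp, hβValg, ← hlam', hk']

end Groth.Agent.Lib.Helper9.FinSep
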