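import Mathlib
import Groth.Agent.S9900

/-!
# Descent of equality of morphisms into a sheaf with representable diagonal (helper9)

`FinSep.eq_of_flat_surjective`: two morphisms `h_T ⟶ F` into a sheaf with representable diagonal which agree
after composing with `h_c` for a flat surjective quasi-compact morphism `c : T' ⟶ T` of schemes are equal
(the locus where they agree is a monomorphism `E ⟶ T` which becomes an isomorphism over `T'`, hence is one).
-/

set_option autoImplicit false
set_option linter.style.haveILetI false
universe u
open CategoryTheory CategoryTheory.Limits AlgebraicGeometry Opposite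

namespace Groth.Agent.Lib.Helper9.FinSep

variable {S : Scheme.{u}}

theorem eq_of_flat_surjective {F : AlgSp.Sp S} (hdiag : AlgSp.Representable (Limits.diag F))
    {T T' : Over S} (c : T' ⟶ T) [Flat c.left] [Surjective c.left] [QuasiCompact c.left]
    (a b : (AlgSp.yon S).obj T ⟶ F)
    (h : (AlgSp.yon S).map c ≫ a = (AlgSp.yon S).map c ≫ b) : a = b := by
  obtain ⟨E, e, he⟩ := Groth.Agent.S9900.exists_isEqLocus hdiag a b
  obtain ⟨t', ht'⟩ := (he.2 T' c).1 h
  haveI : Mono e := he.1
  haveI : Mono e.left := inferInstance
  have hsec : pullback.lift (𝟙 T'.left) t'.left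
      (by rw [Category.id_comp, ← Over.comp_left, ht']) ≫ pullback.fst c.left e.left = 𝟙 _ :=
    pullback.lift_fst _ _ _
  haveI : IsSplitEpi (pullback.fst c.left e.left) := IsSplitEpi.mk' ⟨_, hsec⟩
  haveI : IsIso (pullback.fst c.left e.left) := isIso_of_mono_of_isSplitEpi _
  have hiso : MorphismProperty.isomorphisms Scheme.{u} e.left :=
    MorphismProperty.of_isPullback_of_descendsAlong
      (P := MorphismProperty.isomorphisms Scheme.{u})
      (Q := @Surjective ⊓ @Flat ⊓ @QuasiCompact)
      (IsPullback.of_hasPullback c.left e.left)
      ⟨⟨inferInstance, inferInstance⟩, inferInstance⟩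
      (MorphismProperty.isomorphisms.infer_property _)
  haveI : IsIso e.left := hiso
  haveI : IsIso ((Over.forget S).map e) := (inferInstance : IsIso e.left)
  haveI : IsIso e := isIso_of_reflects_iso e (Over.forget S)
  have := he.eq
  exact (cancel_epi ((AlgSp.yon S).map e)).1 this

end Groth.Agent.Lib.Helper9.FinSep
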