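import Mathlib
import Groth.Agent.Lib.Helper4DVRDom

/-!
# A valuation ring dominating a discrete valuation ring in a finite separable extension is discrete (helper9)
-/

set_option autoImplicit false
set_option linter.style.haveILetI false
universe u

namespace Groth.Agent.Lib.Helper9.FinSep

open Groth.Agent.Lib.Helper4

theorem isDiscreteValuationRing_of_finite_separable {A K A' K' : Type u} [CommRing A] [IsDomain A]
    [IsDiscreteValuationRing A] [Field K] [Algebra A K] [IsFractionRing A K] [CommRing A']
    [IsDomain A'] [ValuationRing A'] [Field K'] [Algebra A' K'] [IsFractionRing A' K']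
    (φ : A →+* A') (ψ : K →+* K')
    (hc : (algebraMap A' K').comp φ = ψ.comp (algebraMap A K)) [IsLocalHom φ]
    (hfin : letI := ψ.toAlgebra; Module.Finite K K')
    (hsep : letI := ψ.toAlgebra; Algebra.IsSeparable K K') : IsDiscreteValuationRing A' := by
  letI algKK' : Algebra K K' := ψ.toAlgebra
  letI algAK' : Algebra A K' := (ψ.comp (algebraMap A K)).toAlgebra
  letI algAA' : Algebra A A' := φ.toAlgebra
  haveI : IsScalarTower A K K' := IsScalarTower.of_algebraMap_eq (fun a => rfl)
  haveI : IsScalarTower A A' K' := IsScalarTower.of_algebraMap_eq (fun a =>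
    (RingHom.congr_fun hc a).symm)
  haveI : Module.Finite K K' := hfin
  haveI : Algebra.IsSeparable K K' := hsep
  haveI hB : IsDedekindDomain (integralClosure A K') := integralClosure.isDedekindDomain A K K'
  haveI hBf : IsFractionRing (integralClosure A K') K' :=
    integralClosure.isFractionRing_of_finite_extension K K'
  -- the integral closure as a subring
  obtain ⟨B, hBdef⟩ : ∃ B : Subring K', B = (integralClosure A K').toSubring := ⟨_, rfl⟩
  have hBmem : ∀ x : K', x ∈ B ↔ IsIntegral A x := fun x => by rw [hBdef]; rfl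
  let eB : integralClosure A K' ≃+* B :=
    { toFun := fun x => ⟨x.1, (hBmem _).2 x.2⟩
      invFun := fun x => ⟨x.1, (hBmem _).1 x.2⟩
      left_inv := fun x => rfl
      right_inv := fun x => rfl
      map_mul' := fun x y => rfl
      map_add' := fun x y => rfl }
  haveI : IsNoetherianRing B := isNoetherianRing_of_ringEquiv (integralClosure A K') eB
  have hdim : ringKrullDim B ≤ 1 := by
    rw [← ringKrullDim_eq_of_ringEquiv eB]
    have h1 : Ring.KrullDimLE 1 (integralClosure A K') := inferInstance
    have h2 := Ring.krullDimLE_iff.mp h1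
    simpa using h2
  haveI : IsFractionRing B K' := by
    have : FaithfulSMul B K' :=
      (faithfulSMul_iff_algebraMap_injective B K').mpr Subtype.val_injective
    refine IsFractionRing.of_field (R := B) (K := K') fun z => ?_
    obtain ⟨x, y, hy, rfl⟩ := IsFractionRing.div_surjective (A := integralClosure A K') z
    exact ⟨eB x, eB y, rfl⟩
  -- the valuation subring
  obtain ⟨V, hVdef⟩ : ∃ V : ValuationSubring K',
      V = (ValuationRing.valuation A' K').valuationSubring := ⟨_, rfl⟩
  have hVmem : ∀ z : K', z ∈ V ↔ ∃ a, algebraMap A' K' a = z := fun z => by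
    rw [hVdef]; exact ValuationRing.mem_integer_iff A' K' z
  have hBV : B ≤ V.toSubring := by
    intro x hx
    have h1 : IsIntegral A x := (hBmem x).1 hx
    have h2 : IsIntegral A' x := h1.tower_top
    exact (hVmem x).2 (IsIntegrallyClosed.isIntegral_iff.mp h2)
  haveI : IsNoetherianRing V := DVRDom.isNoetherianRing_valuationSubring B hdim V hBV
  -- a uniformizer
  obtain ⟨ϖ, hϖ⟩ := IsDiscreteValuationRing.exists_irreducible A
  have hinjAK' : Function.Injective (algebraMap A K') :=
    ψ.injective.comp (IsFractionRing.injective A K)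
  have hx0 : algebraMap A K' ϖ ≠ 0 := by
    intro h0
    exact hϖ.ne_zero (hinjAK' (by rw [h0, map_zero]))
  have hxV : algebraMap A K' ϖ ∈ V := (hVmem _).2 ⟨φ ϖ, RingHom.congr_fun hc ϖ⟩
  have hx : algebraMap A K' ϖ ∈ V.nonunits := by
    rw [V.mem_nonunits_iff_exists_mem_maximalIdeal]
    refine ⟨hxV, ?_⟩
    rw [IsLocalRing.mem_maximalIdeal, mem_nonunits_iff]
    intro hu
    obtain ⟨w, hw⟩ := hu.exists_right_inv
    obtain ⟨a'', ha''⟩ := (hVmem _).1 w.2
    have h1 : algebraMap A K' ϖ * (w : K') = 1 := congrArg Subtype.val hw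
    have h2 : algebraMap A' K' (φ ϖ * a'') = 1 := by
      rw [map_mul, ha'', ← h1]
      congr 1
      exact RingHom.congr_fun hc ϖ
    have h3 : φ ϖ * a'' = 1 := IsFractionRing.injective A' K' (by rw [h2, map_one])
    have h4 : IsUnit (φ ϖ) := IsUnit.of_mul_eq_one _ h3
    exact hϖ.not_isUnit (isUnit_of_map_unit φ ϖ h4)
  haveI : IsDiscreteValuationRing V := DVRDom.isDiscreteValuationRing_of_isNoetherianRing V hx hx0
  -- transfer
  let f : A' →+* V :=
    { toFun := fun a => ⟨algebraMap A' K' a, (hVmem _).2 ⟨a, rfl⟩⟩
      map_one' := Subtype.ext (map_one _)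
      map_mul' := fun a b => Subtype.ext (map_mul _ a b)
      map_zero' := Subtype.ext (map_zero _)
      map_add' := fun a b => Subtype.ext (map_add _ a b) }
  have hf : Function.Bijective f := by
    constructor
    · intro a b hab
      exact IsFractionRing.injective A' K' (congrArg Subtype.val hab)
    · rintro ⟨z, hz⟩
      obtain ⟨a, rfl⟩ := (hVmem z).1 hz
      exact ⟨a, rfl⟩
  exact IsDiscreteValuationRing.RingEquivClass.isDiscreteValuationRing (RingEquiv.ofBijective f hf).symm

end Groth.Agent.Lib.Helper9.FinSep
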