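import Mathlib
import Groth.Agent.S9947
import Groth.Agent.S10177
import Groth.Agent.S10292
import Groth.Agent.Lib.Helper9FinSepRing

/-!
# Lifting a solution of a valuative square to an étale chart (helper9)

`FinSep.exists_domExt_lift_chart`: if a valuative square for `f : X ⟶ Y` has a lift after a dominating extension,
then for every surjective étale chart `b : h_U ⟶ X` there is a dominating extension with a lift which factors
through `b`.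
-/

set_option autoImplicit false
set_option linter.style.haveILetI false
set_option backward.isDefEq.respectTransparency false
set_option maxHeartbeats 800000
universe u
open CategoryTheory CategoryTheory.Limits AlgebraicGeometry Opposite
open AlgSp

namespace Groth.Agent.Lib.Helper9.FinSep

variable {S : Scheme.{u}}

theorem exists_domExt_lift_chart {X Y : AlgSp.Sp S} (hX : AlgSp.IsAlgSpace X) (f : X ⟶ Y)
    (sq : AlgSp.ValSq f) (h : sq.HasLiftExt) {U : Over S} (b : (AlgSp.yon S).obj U ⟶ X)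
    (hbe : AlgSp.RepWith @Etale b) (hbs : AlgSp.RepWith @Surjective b) :
    ∃ (e : sq.DomExt) (m : e.ptA' ⟶ U) (j' : e.ptK' ⟶ e.ptA') (jψ : e.ptK' ⟶ sq.ptK)
      (jφ : e.ptA' ⟶ sq.ptA),
      j'.left = Spec.map (CommRingCat.ofHom (algebraMap e.A' e.K')) ∧
      jψ.left = Spec.map (CommRingCat.ofHom e.ψ) ∧
      jφ.left = Spec.map (CommRingCat.ofHom e.φ) ∧
      (AlgSp.yon S).map j' ≫ (AlgSp.yon S).map m ≫ b = (AlgSp.yon S).map jψ ≫ sq.top ∧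
      (AlgSp.yon S).map m ≫ b ≫ f = (AlgSp.yon S).map jφ ≫ sq.bot := by
  obtain ⟨e₁, l₁, hl₁1, hl₁2⟩ := h
  obtain ⟨jφ₁, hjφ₁⟩ : ∃ jφ₁ : e₁.ptA' ⟶ sq.ptA,
      jφ₁ = Over.homMk (Spec.map (CommRingCat.ofHom e₁.φ)) rfl := ⟨_, rfl⟩
  rw [← hjφ₁] at hl₁2
  obtain ⟨j'₁, hj'₁⟩ : ∃ j'₁ : e₁.ptK' ⟶ e₁.ptA',
      j'₁ = Over.homMk (Spec.map (CommRingCat.ofHom (algebraMap e₁.A' e₁.K'))) rfl := ⟨_, rfl⟩
  rw [← hj'₁] at hl₁1
  obtain ⟨jψ₁, hjψ₁l, hl₁1⟩ : ∃ jψ₁ : e₁.ptK' ⟶ sq.ptK,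
      jψ₁.left = Spec.map (CommRingCat.ofHom e₁.ψ) ∧
      (AlgSp.yon S).map j'₁ ≫ l₁ = (AlgSp.yon S).map jψ₁ ≫ sq.top := ⟨_, rfl, hl₁1⟩
  have hjφ₁l : jφ₁.left = Spec.map (CommRingCat.ofHom e₁.φ) := by rw [hjφ₁]; rfl
  have hj'₁l : j'₁.left = Spec.map (CommRingCat.ofHom (algebraMap e₁.A' e₁.K')) := by
    rw [hj'₁]; rfl
  -- flat lifting
  have hflat : AlgSp.LocP @Flat b :=
    Groth.Agent.S9947.locP_of_repWith_etale @Flat (fun g hg => by haveI := hg; infer_instance) b hbe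
  have hb : AlgSp.Points.ofPt l₁ (IsLocalRing.closedPoint e₁.A') ∈
      Set.range (AlgSp.Points.map b) := by
    obtain ⟨v, hv⟩ := Groth.Agent.S10177.surjective_ofPt b hbs
      (AlgSp.Points.ofPt l₁ (IsLocalRing.closedPoint e₁.A'))
    exact ⟨AlgSp.Points.ofScheme _ v, by rw [← AlgSp.Points.ofPt_eq_map_ofScheme]; exact hv⟩
  obtain ⟨A₂, _, _, _, φ₂, hφ₂inj, hφ₂loc, l₂, hl₂⟩ := Groth.Agent.S10292.result
    (X := ⟨(AlgSp.yon S).obj U, AlgSp.IsAlgSpace.yon_obj U⟩) (Y := ⟨X, hX⟩)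
    (ObjectProperty.homMk b) hflat e₁.A' (Spec.map (CommRingCat.ofHom e₁.φ) ≫ sq.str) l₁ hb
  -- the extension
  obtain ⟨ψ₂, hψ₂⟩ := exists_fractionRing_lift (K₁ := e₁.K') φ₂ hφ₂inj
  haveI := e₁.isLocalHom
  haveI := hφ₂loc
  have hcomm₂ : (algebraMap A₂ (FractionRing A₂)).comp (φ₂.comp e₁.φ) =
      (ψ₂.comp e₁.ψ).comp (algebraMap sq.A sq.K) := by
    rw [← RingHom.comp_assoc, ← hψ₂, RingHom.comp_assoc, e₁.comm, RingHom.comp_assoc]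
  have hloc₂ : IsLocalHom (φ₂.comp e₁.φ) := RingHom.isLocalHom_comp _ _
  -- the morphisms over `S`
  obtain ⟨m₀, hm₀⟩ := (AlgSp.yon S).map_surjective l₂
  obtain ⟨c₂, hc₂⟩ : ∃ c₂ : Over.mk (Spec.map (CommRingCat.ofHom φ₂) ≫
      (Spec.map (CommRingCat.ofHom e₁.φ) ≫ sq.str)) ⟶ e₁.ptA',
      c₂ = Over.homMk (Spec.map (CommRingCat.ofHom φ₂)) rfl := ⟨_, rfl⟩
  rw [← hc₂, ← hm₀] at hl₂
  change (AlgSp.yon S).map m₀ ≫ b = (AlgSp.yon S).map c₂ ≫ l₁ at hl₂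
  have hc₂l : c₂.left = Spec.map (CommRingCat.ofHom φ₂) := by rw [hc₂]; rfl
  obtain ⟨θ, hθl⟩ : ∃ θ : Over.mk (Spec.map (CommRingCat.ofHom (φ₂.comp e₁.φ)) ≫ sq.str) ⟶
      Over.mk (Spec.map (CommRingCat.ofHom φ₂) ≫ (Spec.map (CommRingCat.ofHom e₁.φ) ≫ sq.str)),
      θ.left = 𝟙 _ :=
    ⟨Over.homMk (𝟙 _) (by
      change 𝟙 _ ≫ Spec.map _ ≫ Spec.map _ ≫ sq.str = Spec.map _ ≫ sq.str
      rw [Category.id_comp, CommRingCat.ofHom_comp, Spec.map_comp, Category.assoc]), rfl⟩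
  obtain ⟨j', hj'l⟩ : ∃ j' : Over.mk (Spec.map (CommRingCat.ofHom (algebraMap A₂ (FractionRing A₂))) ≫
      Spec.map (CommRingCat.ofHom (φ₂.comp e₁.φ)) ≫ sq.str) ⟶
      Over.mk (Spec.map (CommRingCat.ofHom (φ₂.comp e₁.φ)) ≫ sq.str),
      j'.left = Spec.map (CommRingCat.ofHom (algebraMap A₂ (FractionRing A₂))) :=
    ⟨Over.homMk (Spec.map (CommRingCat.ofHom (algebraMap A₂ (FractionRing A₂)))) rfl, rfl⟩
  obtain ⟨jφ, hjφl⟩ : ∃ jφ : Over.mk (Spec.map (CommRingCat.ofHom (φ₂.comp e₁.φ)) ≫ sq.str) ⟶ sq.ptA,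
      jφ.left = Spec.map (CommRingCat.ofHom (φ₂.comp e₁.φ)) :=
    ⟨Over.homMk (Spec.map (CommRingCat.ofHom (φ₂.comp e₁.φ))) rfl, rfl⟩
  obtain ⟨jψ, hjψl⟩ : ∃ jψ : Over.mk (Spec.map (CommRingCat.ofHom (algebraMap A₂ (FractionRing A₂))) ≫
      Spec.map (CommRingCat.ofHom (φ₂.comp e₁.φ)) ≫ sq.str) ⟶ sq.ptK,
      jψ.left = Spec.map (CommRingCat.ofHom (ψ₂.comp e₁.ψ)) :=
    ⟨Over.homMk (Spec.map (CommRingCat.ofHom (ψ₂.comp e₁.ψ))) (by
      change Spec.map _ ≫ Spec.map _ ≫ _ = Spec.map _ ≫ Spec.map _ ≫ _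
      rw [← Spec.map_comp_assoc, ← Spec.map_comp_assoc, ← CommRingCat.ofHom_comp,
        ← CommRingCat.ofHom_comp, hcomm₂]), rfl⟩
  obtain ⟨ρ, hρl⟩ : ∃ ρ : Over.mk (Spec.map (CommRingCat.ofHom (algebraMap A₂ (FractionRing A₂))) ≫
      Spec.map (CommRingCat.ofHom (φ₂.comp e₁.φ)) ≫ sq.str) ⟶ e₁.ptK',
      ρ.left = Spec.map (CommRingCat.ofHom ψ₂) :=
    ⟨Over.homMk (Spec.map (CommRingCat.ofHom ψ₂)) (by
      change Spec.map _ ≫ Spec.map _ ≫ Spec.map _ ≫ _ = Spec.map _ ≫ Spec.map _ ≫ _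
      rw [← Spec.map_comp_assoc, ← Spec.map_comp_assoc, ← Spec.map_comp_assoc,
        ← CommRingCat.ofHom_comp, ← CommRingCat.ofHom_comp, ← CommRingCat.ofHom_comp,
        hψ₂, RingHom.comp_assoc]), rfl⟩
  have E1 : jφ = θ ≫ c₂ ≫ jφ₁ := by
    apply Over.OverMorphism.ext
    rw [Over.comp_left, Over.comp_left, hjφl, hθl, hc₂l, hjφ₁l, Category.id_comp,
      CommRingCat.ofHom_comp, Spec.map_comp]
  have E2 : j' ≫ θ ≫ c₂ = ρ ≫ j'₁ := by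
    apply Over.OverMorphism.ext
    rw [Over.comp_left, Over.comp_left, Over.comp_left, hj'l, hθl, hc₂l, hρl, hj'₁l,
      Category.id_comp, ← Spec.map_comp, ← Spec.map_comp, ← CommRingCat.ofHom_comp,
      ← CommRingCat.ofHom_comp, hψ₂]
  have E3 : ρ ≫ jψ₁ = jψ := by
    apply Over.OverMorphism.ext
    rw [Over.comp_left, hρl, hjψ₁l, hjψl, ← Spec.map_comp, ← CommRingCat.ofHom_comp]
  refine ⟨{ A' := A₂, K' := FractionRing A₂, φ := φ₂.comp e₁.φ, ψ := ψ₂.comp e₁.ψ,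
            comm := hcomm₂, isLocalHom := hloc₂ }, θ ≫ m₀, j', jψ, jφ, hj'l, hjψl, hjφl, ?_, ?_⟩
  · calc (AlgSp.yon S).map j' ≫ (AlgSp.yon S).map (θ ≫ m₀) ≫ b
        = (AlgSp.yon S).map (j' ≫ θ) ≫ (AlgSp.yon S).map m₀ ≫ b := by
          simp only [Functor.map_comp, Category.assoc]
      _ = (AlgSp.yon S).map (j' ≫ θ ≫ c₂) ≫ l₁ := by
          rw [hl₂]; simp only [Functor.map_comp, Category.assoc]
      _ = (AlgSp.yon S).map ρ ≫ (AlgSp.yon S).map j'₁ ≫ l₁ := by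
          rw [E2]; simp only [Functor.map_comp, Category.assoc]
      _ = (AlgSp.yon S).map jψ ≫ sq.top := by
          rw [hl₁1, ← E3]; simp only [Functor.map_comp, Category.assoc]
  · calc (AlgSp.yon S).map (θ ≫ m₀) ≫ b ≫ f
        = (AlgSp.yon S).map θ ≫ ((AlgSp.yon S).map m₀ ≫ b) ≫ f := by
          simp only [Functor.map_comp, Category.assoc]
      _ = (AlgSp.yon S).map θ ≫ (AlgSp.yon S).map c₂ ≫ l₁ ≫ f := by
          rw [hl₂]; simp only [Category.assoc]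
      _ = (AlgSp.yon S).map jφ ≫ sq.bot := by
          rw [hl₁2, E1]; simp only [Functor.map_comp, Category.assoc]

end Groth.Agent.Lib.Helper9.FinSep
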