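import Mathlib
import Groth.Agent.Lib.Helper9SchImageQcC
import Groth.Agent.Lib.Helper15LocEss

/-!
# Tools for the valuative criterion of separated morphisms of algebraic spaces (helper9)

* `injective_of_tensor`: for a domain `A` with fraction field `K` and an `A`-algebra `A'` that is a domain with fraction
  field `K'`, a ring map `K ⊗[A] A' → K'` restricting to `A' → K'` is injective.
* `isSchemeTheoreticallyDominant_specMap`: `Spec` of an injective ring map is scheme theoretically dominant.
* `isIso_of_closedImmersion_of_dominant`: a closed immersion through which a scheme theoretically dominant morphism factors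
  is an isomorphism.
* `eq_of_separated_of_dominant`: two morphisms from a scheme to a sheaf separated over `Y` which agree over `Y` and on a
  scheme theoretically dominant morphism are equal.
* `isFpqcCover_single`: a flat surjective morphism of affine schemes is an fpqc covering.
-/

set_option autoImplicit false
set_option linter.style.haveILetI false
set_option linter.unusedSectionVars false
set_option backward.isDefEq.respectTransparency false
universe u
open CategoryTheory CategoryTheory.Limits AlgebraicGeometry Opposite TensorProduct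
open AlgSp

namespace Groth.Agent.Lib.Helper9.SepDomExt

open Groth.Agent.Lib.Helper9 Groth.Agent.Lib.Helper12

section algebra

variable {A K A' K' : Type u} [CommRing A] [IsDomain A] [Field K] [Algebra A K] [IsFractionRing A K]
  [CommRing A'] [IsDomain A'] [Field K'] [Algebra A' K'] [IsFractionRing A' K'] [Algebra A A']

/-- clearing denominators in `K ⊗[A] A'`. -/
lemma exists_clear_denominator (b : K ⊗[A] A') :
    ∃ (s : A) (a' : A'), s ≠ 0 ∧ (algebraMap A K s ⊗ₜ[A] (1 : A')) * b = (1 : K) ⊗ₜ[A] a' := by
  induction b using TensorProduct.induction_on with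
  | zero => exact ⟨1, 0, one_ne_zero, by simp⟩
  | tmul k a' =>
    obtain ⟨a, s, hs, rfl⟩ := IsFractionRing.div_surjective (A := A) k
    have hs0 : s ≠ 0 := nonZeroDivisors.ne_zero hs
    have hK : algebraMap A K s ≠ 0 := by
      intro h
      exact hs0 ((injective_iff_map_eq_zero (algebraMap A K)).1 (IsFractionRing.injective A K) s h)
    refine ⟨s, a • a', hs0, ?_⟩
    rw [Algebra.TensorProduct.tmul_mul_tmul, one_mul, mul_div_cancel₀ _ hK, Algebra.algebraMap_eq_smul_one,
      TensorProduct.smul_tmul]
  | add b₁ b₂ h₁ h₂ =>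
    obtain ⟨s₁, a₁, hs₁, e₁⟩ := h₁
    obtain ⟨s₂, a₂, hs₂, e₂⟩ := h₂
    refine ⟨s₁ * s₂, s₂ • a₁ + s₁ • a₂, mul_ne_zero hs₁ hs₂, ?_⟩
    have h1 : (algebraMap A K (s₁ * s₂) ⊗ₜ[A] (1 : A')) =
        (algebraMap A K s₂ ⊗ₜ[A] (1 : A')) * (algebraMap A K s₁ ⊗ₜ[A] (1 : A')) := by
      rw [Algebra.TensorProduct.tmul_mul_tmul, one_mul, ← map_mul, mul_comm]
    have h2 : (algebraMap A K (s₁ * s₂) ⊗ₜ[A] (1 : A')) =
        (algebraMap A K s₁ ⊗ₜ[A] (1 : A')) * (algebraMap A K s₂ ⊗ₜ[A] (1 : A')) := by
      rw [Algebra.TensorProduct.tmul_mul_tmul, one_mul, ← map_mul]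
    have h3 : ∀ (s : A) (a : A'), (algebraMap A K s ⊗ₜ[A] (1 : A')) * ((1 : K) ⊗ₜ[A] a) =
        (1 : K) ⊗ₜ[A] (s • a) := by
      intro s a
      rw [Algebra.TensorProduct.tmul_mul_tmul, one_mul, mul_one, Algebra.algebraMap_eq_smul_one,
        TensorProduct.smul_tmul]
    rw [mul_add, TensorProduct.tmul_add]
    congr 1
    · rw [h1, mul_assoc, e₁, h3]
    · rw [h2, mul_assoc, e₂, h3]

/-- a ring map `K ⊗[A] A' → Frac A'` restricting to the canonical map on `A'` is injective. -/
lemma injective_of_tensor (g : K ⊗[A] A' →+* K')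
    (h2 : ∀ a', g ((1 : K) ⊗ₜ[A] a') = algebraMap A' K' a') : Function.Injective g := by
  rw [injective_iff_map_eq_zero]
  intro b hb
  obtain ⟨s, a', hs, e⟩ := exists_clear_denominator b
  have hK : algebraMap A K s ≠ 0 := by
    intro h
    exact hs ((injective_iff_map_eq_zero (algebraMap A K)).1 (IsFractionRing.injective A K) s h)
  have h3 : algebraMap A' K' a' = 0 := by
    rw [← h2, ← e, map_mul, hb, mul_zero]
  have h4 : a' = 0 :=
    (injective_iff_map_eq_zero (algebraMap A' K')).1 (IsFractionRing.injective A' K') a' h3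
  rw [h4, TensorProduct.tmul_zero] at e
  have h5 : ((algebraMap A K s)⁻¹ ⊗ₜ[A] (1 : A')) * ((algebraMap A K s ⊗ₜ[A] (1 : A')) * b) = b := by
    rw [← mul_assoc, Algebra.TensorProduct.tmul_mul_tmul, one_mul, inv_mul_cancel₀ hK,
      ← Algebra.TensorProduct.one_def, one_mul]
  rw [← h5, e, mul_zero]

end algebra

/-- `Spec` of an injective ring map is scheme theoretically dominant. -/
lemma isSchemeTheoreticallyDominant_specMap {R R' : CommRingCat.{u}} (g : R ⟶ R')
    (hg : Function.Injective g.hom) : IsSchemeTheoreticallyDominant (Spec.map g) := by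
  rw [isSchemeTheoreticallyDominant_iff, Scheme.ker_of_isAffine]
  have h1 : RingHom.ker (Spec.map g).appTop.hom = ⊥ := by
    rw [← RingHom.injective_iff_ker_eq_bot]
    have h2 : (Spec.map g).appTop = (Scheme.ΓSpecIso R).hom ≫ g ≫ (Scheme.ΓSpecIso R').inv := by
      rw [Scheme.ΓSpecIso_inv_naturality, Iso.hom_inv_id_assoc]
    rw [h2]
    simp only [CommRingCat.hom_comp, RingHom.coe_comp]
    exact ((ConcreteCategory.bijective_of_isIso (Scheme.ΓSpecIso R').inv).1.comp hg).comp
      (ConcreteCategory.bijective_of_isIso (Scheme.ΓSpecIso R).hom).1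
  rw [h1]
  exact map_bot (Scheme.IdealSheafData.equivOfIsAffine (X := Spec R)).symm

/-- a closed immersion through which a scheme theoretically dominant morphism factors is an isomorphism. -/
lemma isIso_of_closedImmersion_of_dominant {W P D : Scheme.{u}} (w : W ⟶ P) [IsClosedImmersion w]
    (k : D ⟶ W) (d : D ⟶ P) [IsSchemeTheoreticallyDominant d] (hk : k ≫ w = d) : IsIso w := by
  rw [IsClosedImmersion.isIso_iff_ker_eq_bot, eq_bot_iff, ← d.ker_eq_bot, ← hk]
  exact Scheme.Hom.le_ker_comp _ _

variable {S : Scheme.{u}}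

/-- two morphisms from a scheme to a sheaf separated over `Y` which agree over `Y` and after restriction along a scheme
theoretically dominant morphism are equal. -/
theorem eq_of_separated_of_dominant {X Y : AlgSp.Sp S} (f : X ⟶ Y) (hf : AlgSp.IsSeparatedMor f)
    {P D : Over S} (d : D ⟶ P) [IsSchemeTheoreticallyDominant d.left]
    (u₁ u₂ : (AlgSp.yon S).obj P ⟶ X) (h₁ : u₁ ≫ f = u₂ ≫ f)
    (h₂ : (AlgSp.yon S).map d ≫ u₁ = (AlgSp.yon S).map d ≫ u₂) : u₁ = u₂ := by
  obtain ⟨W, w, pr, psq⟩ := hf.1 (pullback.lift u₁ u₂ h₁)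
  haveI : IsClosedImmersion w.left := hf.2 _ _ w psq
  have e1 : pr = (AlgSp.yon S).map w ≫ u₁ := by
    have := psq.w =≫ pullback.fst f f
    rwa [Category.assoc, pullback.diagonal_fst, Category.comp_id, Category.assoc,
      pullback.lift_fst] at this
  have e2 : pr = (AlgSp.yon S).map w ≫ u₂ := by
    have := psq.w =≫ pullback.snd f f
    rwa [Category.assoc, pullback.diagonal_snd, Category.comp_id, Category.assoc,
      pullback.lift_snd] at this
  have hk : ((AlgSp.yon S).map d ≫ u₁) ≫ pullback.diagonal f =
      (AlgSp.yon S).map d ≫ pullback.lift u₁ u₂ h₁ := by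
    apply pullback.hom_ext
    · rw [Category.assoc, pullback.diagonal_fst, Category.comp_id, Category.assoc,
        pullback.lift_fst]
    · rw [Category.assoc, pullback.diagonal_snd, Category.comp_id, Category.assoc,
        pullback.lift_snd, h₂]
  obtain ⟨k, hk1⟩ := (AlgSp.yon S).map_surjective (psq.lift _ _ hk)
  have hk2 : k ≫ w = d := by
    apply (AlgSp.yon S).map_injective
    rw [Functor.map_comp, hk1, psq.lift_snd]
  haveI : IsIso w.left := isIso_of_closedImmersion_of_dominant w.left k.left d.left (by
    rw [← Over.comp_left, hk2])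
  haveI : IsIso ((Over.forget S).map w) := by
    show IsIso w.left
    infer_instance
  haveI : IsIso w := isIso_of_reflects_iso w (Over.forget S)
  rw [← cancel_epi ((AlgSp.yon S).map w), ← e1, ← e2]

/-- a flat surjective morphism of affine schemes is an fpqc covering. -/
theorem isFpqcCover_single {T T' : Over S} [IsAffine T.left] [IsAffine T'.left] (c : T' ⟶ T)
    [Flat c.left] [Surjective c.left] :
    AlgSp.IsFpqcCover (fun _ : PUnit.{u + 1} => (AlgSp.yon S).obj T')
      (fun _ => (AlgSp.yon S).map c) := by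
  refine ⟨fun _ => Groth.Agent.Lib.Helper15LocEss.locP_yon_map_of_flat c inferInstance, ?_⟩
  intro Z₀ hZ₀ h
  haveI := hZ₀
  obtain ⟨h₀, rfl⟩ := (AlgSp.yon S).map_surjective h
  have hpb : IsPullback (pullback.fst h₀ c).left (pullback.snd h₀ c).left h₀.left c.left :=
    (IsPullback.of_hasPullback h₀ c).map (Over.forget S)
  haveI : IsAffine (pullback h₀ c).left :=
    IsAffine.of_isIso (hpb.isoPullback).hom
  refine ⟨1, fun _ => pullback h₀ c, fun _ => pullback.fst h₀ c, fun _ => inferInstance, fun _ => ?_,
    fun z => ⟨0, ?_⟩, fun _ => ⟨PUnit.unit, (AlgSp.yon S).map (pullback.snd h₀ c), ?_⟩⟩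
  · exact MorphismProperty.of_isPullback (P := @Flat) hpb.flip (inferInstance : Flat c.left)
  · haveI : Surjective (pullback.fst h₀ c).left :=
      MorphismProperty.of_isPullback (P := @Surjective) hpb.flip (inferInstance : Surjective c.left)
    exact (pullback.fst h₀ c).left.surjective z
  · rw [← Functor.map_comp, ← Functor.map_comp, pullback.condition]

end Groth.Agent.Lib.Helper9.SepDomExt
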