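import Mathlib
import Groth.Agent.Lib.Helper9SepDomExt

/-!
# Ring-level input for the valuative criterion of separated morphisms (helper9)

* `faithfullyFlat_of_domExt`: a dominating extension of valuation rings is faithfully flat.
* `exists_pullback_dominant`: the fibre product `Spec K ×_{Spec A} Spec A'` together with the scheme theoretically dominant
  morphism from `Spec K'`.
* `repWith_isClosedImmersion_of_section`: a section of a separated morphism is a closed immersion.
-/

set_option autoImplicit false
set_option linter.style.haveILetI false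
set_option linter.unusedSectionVars false
set_option backward.isDefEq.respectTransparency false
universe u
open CategoryTheory CategoryTheory.Limits AlgebraicGeometry Opposite TensorProduct
open AlgSp

namespace Groth.Agent.Lib.Helper9.SepDomExt

section algebra

variable {A K A' K' : Type u} [CommRing A] [IsDomain A] [ValuationRing A] [Field K] [Algebra A K]
  [IsFractionRing A K] [CommRing A'] [IsDomain A'] [ValuationRing A'] [Field K'] [Algebra A' K']
  [IsFractionRing A' K'] (φ : A →+* A') (ψ : K →+* K')
  (hc : (algebraMap A' K').comp φ = ψ.comp (algebraMap A K))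

include hc in
lemma injective_of_domExt : Function.Injective φ := by
  have h1 : Function.Injective ((algebraMap A' K').comp φ) := by
    rw [hc]
    exact ψ.injective.comp (IsFractionRing.injective A K)
  exact Function.Injective.of_comp (f := algebraMap A' K') h1

include hc in
/-- a dominating extension of valuation rings is faithfully flat. -/
lemma faithfullyFlat_of_domExt [IsLocalHom φ] : φ.FaithfullyFlat := by
  have hinj := injective_of_domExt φ ψ hc
  letI : Algebra A A' := φ.toAlgebra
  haveI : IsLocalHom (algebraMap A A') := by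
    rw [RingHom.algebraMap_toAlgebra]; infer_instance
  haveI : Module.Flat A A' := by
    rw [Module.Flat.flat_iff_torsion_eq_bot_of_isBezout, eq_bot_iff]
    rintro a' ⟨⟨r, hr⟩, h⟩
    have hr0 : r ≠ 0 := nonZeroDivisors.ne_zero hr
    have h' : φ r * a' = 0 := h
    rcases mul_eq_zero.1 h' with h0 | h0
    · exact absurd ((injective_iff_map_eq_zero φ).1 hinj r h0) hr0
    · exact h0
  exact Module.FaithfullyFlat.of_flat_of_isLocalHom

include hc in
/-- the fibre product `Spec K ×_{Spec A} Spec A'` and the scheme theoretically dominant morphism from `Spec K'`. -/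
lemma exists_pullback_dominant :
    ∃ (P : Scheme.{u}) (p₁ : P ⟶ Spec (CommRingCat.of K)) (p₂ : P ⟶ Spec (CommRingCat.of A'))
      (d : Spec (CommRingCat.of K') ⟶ P),
      IsPullback p₁ p₂ (Spec.map (CommRingCat.ofHom (algebraMap A K))) (Spec.map (CommRingCat.ofHom φ)) ∧
      d ≫ p₁ = Spec.map (CommRingCat.ofHom ψ) ∧
      d ≫ p₂ = Spec.map (CommRingCat.ofHom (algebraMap A' K')) ∧ IsSchemeTheoreticallyDominant d := by
  letI : Algebra A A' := φ.toAlgebra
  have hpush := CommRingCat.isPushout_tensorProduct A K A'
  have hw : CommRingCat.ofHom (algebraMap A K) ≫ CommRingCat.ofHom ψ =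
      CommRingCat.ofHom (algebraMap A A') ≫ CommRingCat.ofHom (algebraMap A' K') := by
    rw [← CommRingCat.ofHom_comp, ← CommRingCat.ofHom_comp, RingHom.algebraMap_toAlgebra, hc]
  obtain ⟨g, hg1, hg2⟩ : ∃ g : CommRingCat.of (K ⊗[A] A') ⟶ CommRingCat.of K',
      CommRingCat.ofHom (Algebra.TensorProduct.includeLeftRingHom) ≫ g = CommRingCat.ofHom ψ ∧
      CommRingCat.ofHom (Algebra.TensorProduct.includeRight.toRingHom) ≫ g =
        CommRingCat.ofHom (algebraMap A' K') :=
    ⟨hpush.desc _ _ hw, hpush.inl_desc _ _ _, hpush.inr_desc _ _ _⟩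
  have hginj : Function.Injective g.hom := by
    refine injective_of_tensor g.hom (fun a' => ?_)
    exact congrArg (fun m => m.hom a') hg2
  refine ⟨Spec (CommRingCat.of (K ⊗[A] A')),
    Spec.map (CommRingCat.ofHom (Algebra.TensorProduct.includeLeftRingHom)),
    Spec.map (CommRingCat.ofHom (Algebra.TensorProduct.includeRight.toRingHom)), Spec.map g, ?_, ?_, ?_,
    isSchemeTheoreticallyDominant_specMap g hginj⟩
  · exact isPullback_SpecMap_of_isPushout _ _ _ _ hpush
  · rw [← Spec.map_comp, hg1]
  · rw [← Spec.map_comp, hg2]

end algebra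

variable {S : Scheme.{u}}

/-- a section of a separated morphism is a closed immersion. -/
theorem repWith_isClosedImmersion_of_section {X Y : AlgSp.Sp S} (f : X ⟶ Y) (s : Y ⟶ X)
    (hs : s ≫ f = 𝟙 Y) (hf : AlgSp.IsSeparatedMor f) : AlgSp.RepWith @IsClosedImmersion s := by
  have h1 := pullback_lift_diagonal_isPullback s f
  have hcl : AlgSp.RepWith @IsClosedImmersion (pullback.lift (𝟙 Y) s (by simp) :
      Y ⟶ pullback (s ≫ f) f) :=
    MorphismProperty.of_isPullback (P := AlgSp.RepWith @IsClosedImmersion) h1 hf
  haveI : IsIso (s ≫ f) := by rw [hs]; infer_instance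
  have hiso : AlgSp.RepWith @IsClosedImmersion (pullback.snd (s ≫ f) f) :=
    MorphismProperty.of_isIso (AlgSp.RepWith @IsClosedImmersion) _
  have hs' : s = pullback.lift (𝟙 Y) s (by simp) ≫ pullback.snd (s ≫ f) f := by
    rw [pullback.lift_snd]
  rw [hs']
  exact (AlgSp.RepWith @IsClosedImmersion).comp_mem _ _ hcl hiso

end Groth.Agent.Lib.Helper9.SepDomExt
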