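import Mathlib
import Groth.Agent.Lib.Helper9FinSepChart
import Groth.Agent.Lib.Helper9FinSepDesc
import Groth.Agent.Lib.Helper9SepDomExtB
import Groth.Agent.Lib.Helper9FinSepLift

/-!
# The finite separable refinement of the existence part of the valuative criterion (helper9)

`FinSep.exists_finite_separable_of_chart`: a lift of a valuative square (after a dominating extension) which factors
through an étale chart `b : h_U ⟶ X` can be refined to a lift after a finite separable extension.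
-/

set_option autoImplicit false
set_option linter.style.haveILetI false
set_option backward.isDefEq.respectTransparency false
set_option maxHeartbeats 800000
universe u
open CategoryTheory CategoryTheory.Limits AlgebraicGeometry Opposite
open AlgSp

namespace Groth.Agent.Lib.Helper9.FinSep

open Groth.Agent.Lib.Helper9.SepDomExt

variable {S : Scheme.{u}}

theorem exists_finite_separable_of_chart {X Y : AlgSp.Sp S}
    (hYd : AlgSp.Representable (Limits.diag Y)) (f : X ⟶ Y) (sq : AlgSp.ValSq f) {U : Over S}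
    (b : (AlgSp.yon S).obj U ⟶ X) (hbe : AlgSp.RepWith @Etale b)
    (e₂ : sq.DomExt) (m : e₂.ptA' ⟶ U) (j'₂ : e₂.ptK' ⟶ e₂.ptA') (jψ₂ : e₂.ptK' ⟶ sq.ptK)
    (jφ₂ : e₂.ptA' ⟶ sq.ptA)
    (hj'₂ : j'₂.left = Spec.map (CommRingCat.ofHom (algebraMap e₂.A' e₂.K')))
    (hjψ₂ : jψ₂.left = Spec.map (CommRingCat.ofHom e₂.ψ))
    (hjφ₂ : jφ₂.left = Spec.map (CommRingCat.ofHom e₂.φ))
    (hT : (AlgSp.yon S).map j'₂ ≫ (AlgSp.yon S).map m ≫ b = (AlgSp.yon S).map jψ₂ ≫ sq.top)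
    (hB : (AlgSp.yon S).map m ≫ b ≫ f = (AlgSp.yon S).map jφ₂ ≫ sq.bot) :
    ∃ e : sq.DomExt, (letI := e.ψ.toAlgebra;
      Module.Finite sq.K e.K' ∧ Algebra.IsSeparable sq.K e.K') ∧ e.HasLift := by
  -- the fibre of the chart over `Spec K`
  obtain ⟨W, w, pr₀, sqW⟩ := hbe.1 sq.top
  haveI : Etale w.left := hbe.2 _ _ _ sqW
  obtain ⟨pr, rfl⟩ := (AlgSp.yon S).map_surjective pr₀
  obtain ⟨ζ₀, hζ₀1, hζ₀2⟩ : ∃ ζ₀ : (AlgSp.yon S).obj e₂.ptK' ⟶ (AlgSp.yon S).obj W,
      ζ₀ ≫ (AlgSp.yon S).map pr = (AlgSp.yon S).map j'₂ ≫ (AlgSp.yon S).map m ∧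
      ζ₀ ≫ (AlgSp.yon S).map w = (AlgSp.yon S).map jψ₂ :=
    ⟨sqW.lift _ _ (by rw [Category.assoc]; exact hT), sqW.lift_fst _ _ _, sqW.lift_snd _ _ _⟩
  obtain ⟨ζ, rfl⟩ := (AlgSp.yon S).map_surjective ζ₀
  have hζpr : ζ ≫ pr = j'₂ ≫ m :=
    (AlgSp.yon S).map_injective (by rw [Functor.map_comp, Functor.map_comp]; exact hζ₀1)
  have hζw : ζ ≫ w = jψ₂ :=
    (AlgSp.yon S).map_injective (by rw [Functor.map_comp]; exact hζ₀2)
  have hζl : ζ.left ≫ pr.left =
      Spec.map (CommRingCat.ofHom (algebraMap e₂.A' e₂.K')) ≫ m.left := by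
    rw [← Over.comp_left, hζpr, Over.comp_left, hj'₂]
  obtain ⟨K', _, ψ, ι, κ, V, β, n, hfs, hψ, hι, hβ1, hβloc, hVmem, hn1, hn2⟩ :=
    exists_chart_refinement (K := sq.K) (W := W.left) (U := U.left) w.left (A₂ := e₂.A')
      (K₂ := e₂.K') ζ.left pr.left m.left hζl
  -- ring identities
  have hιψ : ι.comp ψ = e₂.ψ := by
    have h1 : Spec.map (CommRingCat.ofHom (ι.comp ψ)) = Spec.map (CommRingCat.ofHom e₂.ψ) := by
      rw [CommRingCat.ofHom_comp, Spec.map_comp, hψ, ← Category.assoc, hι, ← hjψ₂, ← hζw,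
        Over.comp_left]
    exact congrArg CommRingCat.Hom.hom (Spec.map_injective h1)
  have hιψa : ∀ a : sq.A, ι (ψ (algebraMap sq.A sq.K a)) = algebraMap e₂.A' e₂.K' (e₂.φ a) := by
    intro a
    have h1 := RingHom.congr_fun e₂.comm a
    have h2 := RingHom.congr_fun hιψ (algebraMap sq.A sq.K a)
    rw [RingHom.comp_apply] at h1 h2
    rw [h2, h1]
    rfl
  have hmemφ : ∀ a : sq.A, ψ (algebraMap sq.A sq.K a) ∈ V := fun a =>
    hVmem _ ⟨e₂.φ a, (hιψa a).symm⟩
  obtain ⟨φ, hφ⟩ : ∃ φ : sq.A →+* V, ∀ a, ((φ a : V) : K') = ψ (algebraMap sq.A sq.K a) :=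
    ⟨{ toFun := fun a => ⟨ψ (algebraMap sq.A sq.K a), hmemφ a⟩
       map_one' := Subtype.ext (by simp)
       map_mul' := fun a b => Subtype.ext (by simp)
       map_zero' := Subtype.ext (by simp)
       map_add' := fun a b => Subtype.ext (by simp) }, fun a => rfl⟩
  have hβφ : β.comp φ = e₂.φ := by
    refine RingHom.ext fun a => ?_
    apply IsFractionRing.injective e₂.A' e₂.K'
    rw [RingHom.comp_apply, hβ1, hφ, hιψa]
  have hlocφ : IsLocalHom φ := by
    refine ⟨fun a ha => ?_⟩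
    have h1 : IsUnit (β (φ a)) := ha.map β
    have h2 : β (φ a) = e₂.φ a := RingHom.congr_fun hβφ a
    rw [h2] at h1
    haveI := e₂.isLocalHom
    exact isUnit_of_map_unit e₂.φ a h1
  have hcommφ : (algebraMap V K').comp φ = ψ.comp (algebraMap sq.A sq.K) :=
    RingHom.ext fun a => hφ a
  have hcβ : (algebraMap e₂.A' e₂.K').comp β = ι.comp (algebraMap V K') :=
    RingHom.ext fun v => hβ1 v
  -- the morphisms over `S`
  obtain ⟨c, hcl⟩ : ∃ c : e₂.ptA' ⟶ Over.mk (Spec.map (CommRingCat.ofHom φ) ≫ sq.str),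
      c.left = Spec.map (CommRingCat.ofHom β) :=
    ⟨Over.homMk (Spec.map (CommRingCat.ofHom β)) (by
      change Spec.map _ ≫ Spec.map _ ≫ sq.str = Spec.map _ ≫ sq.str
      rw [← Spec.map_comp_assoc, ← CommRingCat.ofHom_comp, hβφ]), rfl⟩
  haveI := hβloc
  have hff : (CommRingCat.ofHom β).hom.FaithfullyFlat := faithfullyFlat_of_domExt β ι hcβ
  obtain ⟨hflat, hsurj⟩ :=
    (AlgebraicGeometry.flat_and_surjective_SpecMap_iff (CommRingCat.ofHom β)).2 hff
  haveI : Flat c.left := by rw [hcl]; exact hflat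
  haveI : Surjective c.left := by rw [hcl]; exact hsurj
  have hqc : QuasiCompact (Spec.map (CommRingCat.ofHom β)) := inferInstance
  haveI : QuasiCompact c.left := by rw [hcl]; exact hqc
  haveI : Epi c.left := Flat.epi_of_flat_of_surjective _
  have hnw : n ≫ U.hom = Spec.map (CommRingCat.ofHom φ) ≫ sq.str := by
    rw [← cancel_epi c.left]
    have h1 : c.left ≫ n = m.left := by rw [hcl]; exact hn1
    rw [← Category.assoc, h1, Over.w m]
    exact (Over.w c).symm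
  obtain ⟨nO, hnO⟩ : ∃ nO : Over.mk (Spec.map (CommRingCat.ofHom φ) ≫ sq.str) ⟶ U, nO.left = n :=
    ⟨Over.homMk n hnw, rfl⟩
  have hcn : c ≫ nO = m := by
    apply Over.OverMorphism.ext
    rw [Over.comp_left, hcl, hnO]
    exact hn1
  obtain ⟨j'e, hj'e⟩ : ∃ j'e : Over.mk (Spec.map (CommRingCat.ofHom (algebraMap V K')) ≫
      Spec.map (CommRingCat.ofHom φ) ≫ sq.str) ⟶ Over.mk (Spec.map (CommRingCat.ofHom φ) ≫ sq.str),
      j'e = Over.homMk (Spec.map (CommRingCat.ofHom (algebraMap V K'))) rfl := ⟨_, rfl⟩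
  have hwψ : Spec.map (CommRingCat.ofHom (algebraMap V K')) ≫ Spec.map (CommRingCat.ofHom φ) ≫ sq.str =
      Spec.map (CommRingCat.ofHom ψ) ≫ Spec.map (CommRingCat.ofHom (algebraMap sq.A sq.K)) ≫ sq.str := by
    rw [← Spec.map_comp_assoc, ← Spec.map_comp_assoc, ← CommRingCat.ofHom_comp,
      ← CommRingCat.ofHom_comp, hcommφ]
  obtain ⟨jψe, hjψe⟩ : ∃ jψe : Over.mk (Spec.map (CommRingCat.ofHom (algebraMap V K')) ≫
      Spec.map (CommRingCat.ofHom φ) ≫ sq.str) ⟶ sq.ptK,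
      jψe = Over.homMk (Spec.map (CommRingCat.ofHom ψ)) hwψ.symm :=
    ⟨Over.homMk (Spec.map (CommRingCat.ofHom ψ)) hwψ.symm, rfl⟩
  obtain ⟨jφe, hjφe⟩ : ∃ jφe : Over.mk (Spec.map (CommRingCat.ofHom φ) ≫ sq.str) ⟶ sq.ptA,
      jφe = Over.homMk (Spec.map (CommRingCat.ofHom φ)) rfl := ⟨_, rfl⟩
  have hj'el : j'e.left = Spec.map (CommRingCat.ofHom (algebraMap V K')) := by rw [hj'e]; rfl
  have hjψel : jψe.left = Spec.map (CommRingCat.ofHom ψ) := by rw [hjψe]; rfl
  have hjφel : jφe.left = Spec.map (CommRingCat.ofHom φ) := by rw [hjφe]; rfl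
  have hκw : κ ≫ W.hom = Spec.map (CommRingCat.ofHom (algebraMap V K')) ≫
      Spec.map (CommRingCat.ofHom φ) ≫ sq.str := by
    rw [hwψ, ← Over.w w, ← Category.assoc, ← hψ]
    rfl
  obtain ⟨κO, hκO⟩ : ∃ κO : Over.mk (Spec.map (CommRingCat.ofHom (algebraMap V K')) ≫
      Spec.map (CommRingCat.ofHom φ) ≫ sq.str) ⟶ W, κO.left = κ := ⟨Over.homMk κ hκw, rfl⟩
  have E1 : j'e ≫ nO = κO ≫ pr := by
    apply Over.OverMorphism.ext
    rw [Over.comp_left, Over.comp_left, hj'el, hnO, hκO]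
    exact hn2
  have E2 : κO ≫ w = jψe := by
    apply Over.OverMorphism.ext
    rw [Over.comp_left, hκO, hjψel]
    exact hψ.symm
  have E3 : c ≫ jφe = jφ₂ := by
    apply Over.OverMorphism.ext
    rw [Over.comp_left, hcl, hjφel, hjφ₂, ← Spec.map_comp, ← CommRingCat.ofHom_comp, hβφ]
  have key1 : (AlgSp.yon S).map j'e ≫ (AlgSp.yon S).map nO ≫ b = (AlgSp.yon S).map jψe ≫ sq.top := by
    calc (AlgSp.yon S).map j'e ≫ (AlgSp.yon S).map nO ≫ b
        = (AlgSp.yon S).map (j'e ≫ nO) ≫ b := by simp only [Functor.map_comp, Category.assoc]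
      _ = (AlgSp.yon S).map κO ≫ ((AlgSp.yon S).map pr ≫ b) := by
          rw [E1]; simp only [Functor.map_comp, Category.assoc]
      _ = (AlgSp.yon S).map jψe ≫ sq.top := by
          rw [sqW.w, ← E2]; simp only [Functor.map_comp, Category.assoc]
  have key2 : ((AlgSp.yon S).map nO ≫ b) ≫ f = (AlgSp.yon S).map jφe ≫ sq.bot := by
    refine eq_of_flat_surjective hYd c _ _ ?_
    calc (AlgSp.yon S).map c ≫ ((AlgSp.yon S).map nO ≫ b) ≫ f
        = (AlgSp.yon S).map (c ≫ nO) ≫ b ≫ f := by simp only [Functor.map_comp, Category.assoc]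
      _ = (AlgSp.yon S).map c ≫ (AlgSp.yon S).map jφe ≫ sq.bot := by
          rw [hcn, hB, ← E3]; simp only [Functor.map_comp, Category.assoc]
  subst hj'e hjψe hjφe
  exact ⟨{ A' := V, K' := K', φ := φ, ψ := ψ, comm := hcommφ, isLocalHom := hlocφ }, hfs,
    (AlgSp.yon S).map nO ≫ b, key1, key2⟩

/-- A valuative square for a morphism of algebraic spaces which has a lift after a dominating extension has a lift
after a dominating extension whose fraction field is finite separable. -/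
theorem exists_finite_separable {X Y : AlgSp.Sp S} (hX : AlgSp.IsAlgSpace X)
    (hY : AlgSp.IsAlgSpace Y) (f : X ⟶ Y) (sq : AlgSp.ValSq f) (h : sq.HasLiftExt) :
    ∃ e : sq.DomExt, (letI := e.ψ.toAlgebra;
      Module.Finite sq.K e.K' ∧ Algebra.IsSeparable sq.K e.K') ∧ e.HasLift := by
  obtain ⟨U, b, hbe, hbs⟩ := hX.atlas
  obtain ⟨e₂, m, j', jψ, jφ, h1, h2, h3, hT, hB⟩ :=
    exists_domExt_lift_chart hX f sq h b hbe hbs
  exact exists_finite_separable_of_chart hY.diag f sq b hbe e₂ m j' jψ jφ h1 h2 h3 hT hB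

end Groth.Agent.Lib.Helper9.FinSep
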