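import Mathlib

/-!
# Nilpotence of the kernel ideal sheaf is local on the target (helper9)
-/

set_option autoImplicit false
set_option linter.style.haveILetI false
open CategoryTheory CategoryTheory.Limits AlgebraicGeometry Opposite
universe u

namespace Groth.Agent.Lib.Helper9.FinThick

/-- if the kernel ideal sheaves of the restrictions of a quasi-compact morphism `i : T ⟶ T'` to
all affine opens of `T'` have vanishing `(n+1)`-st power, so has the kernel ideal sheaf of `i` -/
theorem ker_pow_eq_bot_of_affine {T T' : Scheme.{u}} (i : T ⟶ T') [QuasiCompact i] (n : ℕ)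
    (H : ∀ V' : T'.affineOpens, ∃ (W : Scheme.{u}) (w : W ⟶ V'.1.toScheme) (j : W ⟶ T),
      IsPullback w j V'.1.ι i ∧ w.ker ^ (n + 1) = ⊥) :
    i.ker ^ (n + 1) = ⊥ := by
  rw [eq_bot_iff]
  refine Scheme.IdealSheafData.le_of_iSup_eq_top (ι := T'.affineOpens) (fun V' => V')
    (iSup_affineOpens_eq_top T') ?_
  intro V'
  obtain ⟨W, w, j, sq, hw⟩ := H V'
  haveI : IsAffine V'.1.toScheme := V'.2
  let top : V'.1.toScheme.affineOpens := ⟨⊤, isAffineOpen_top _⟩
  have h1 := Scheme.ker_ideal_of_isPullback_of_isOpenImmersion i w j V'.1.ι sq top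
  have h2 : (w.ker ^ (n + 1)).ideal top = (⊥ : V'.1.toScheme.IdealSheafData).ideal top := by
    rw [hw]
  rw [Scheme.IdealSheafData.ideal_pow, Scheme.IdealSheafData.ideal_bot, Pi.pow_apply, Pi.bot_apply,
    h1] at h2
  have hV : (⟨V'.1.ι ''ᵁ top.1, (isAffineOpen_top _).image_of_isOpenImmersion _⟩ : T'.affineOpens) = V' := by
    apply Subtype.ext
    show V'.1.ι ''ᵁ ⊤ = V'.1
    simp
  have key : (i.ker ^ (n + 1)).ideal ⟨V'.1.ι ''ᵁ top.1, (isAffineOpen_top _).image_of_isOpenImmersion _⟩ ≤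
      (⊥ : T'.IdealSheafData).ideal ⟨V'.1.ι ''ᵁ top.1, (isAffineOpen_top _).image_of_isOpenImmersion _⟩ := by
    rw [Scheme.IdealSheafData.ideal_pow, Scheme.IdealSheafData.ideal_bot, Pi.pow_apply, Pi.bot_apply]
    have hsurj : Function.Surjective (V'.1.ι.appIso top.1).inv.hom :=
      (ConcreteCategory.bijective_of_isIso (V'.1.ι.appIso top.1).inv).2
    rw [← Ideal.map_comap_of_surjective _ hsurj
      (i.ker.ideal ⟨V'.1.ι ''ᵁ top.1, (isAffineOpen_top _).image_of_isOpenImmersion _⟩), ← Ideal.map_pow, h2,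
      Ideal.map_bot]
  exact hV ▸ key

end Groth.Agent.Lib.Helper9.FinThick
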