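import Mathlib
import Groth.Agent.Lib.Helper9FibStalkBC
import Groth.Agent.Lib.Helper3FibCritSch
import Groth.Agent.Lib.Helper12SrcLocalCov

/-!
# Flatness at a point: étale squares and base change (schemes) (helper9)
-/

set_option autoImplicit false
set_option linter.style.haveILetI false
set_option backward.isDefEq.respectTransparency false
open CategoryTheory CategoryTheory.Limits AlgebraicGeometry Opposite
universe u

namespace Groth.Agent.Lib.Helper9.FlatPt

open Groth.Agent.Lib.Helper3.FibCritSch Groth.Agent.Lib.Helper5.FiberMor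
  Groth.Agent.Lib.Helper9.FibStalkBC

/-- base change of flatness at a point, for morphisms locally of finite presentation -/
theorem flat_stalkMap_of_isPullback {P U W V : Scheme.{u}} {fst : P ⟶ U} {snd : P ⟶ W}
    {h : U ⟶ V} {k : W ⟶ V} (sq : IsPullback fst snd h k) [LocallyOfFinitePresentation h] (p : P)
    (hf : (h.stalkMap (fst p)).hom.Flat) : (snd.stalkMap p).hom.Flat := by
  let O : U.Opens := ⟨{x | (h.stalkMap x).hom.Flat}, Groth.Agent.S0386.result h⟩
  let O' : P.Opens := fst ⁻¹ᵁ O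
  have htop : IsPullback (fst ∣_ O) O'.ι O.ι fst := isPullback_morphismRestrict fst O
  have hbig := htop.paste_vert sq
  haveI : Flat (O.ι ≫ h) :=
    Flat.of_stalkMap _ (fun x => (flat_stalkMap_ι_comp_iff h O x).mpr x.2)
  haveI hFl : Flat (O'.ι ≫ snd) := MorphismProperty.of_isPullback (P := @Flat) hbig inferInstance
  have hp : p ∈ O' := hf
  exact (flat_stalkMap_ι_comp_iff snd O' (⟨p, hp⟩ : O')).mp
    (Flat.stalkMap (O'.ι ≫ snd) (⟨p, hp⟩ : O'))

/-- flatness at a point is invariant under étale squares (lower arrow locally of finite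
presentation) -/
theorem flat_stalkMap_etSq_iff {U U' V V' : Scheme.{u}} (h : U ⟶ V) (h' : U' ⟶ V') (a : U' ⟶ U)
    (b : V' ⟶ V) [Etale a] [Etale b] [LocallyOfFinitePresentation h] (comm : h' ≫ b = a ≫ h)
    (u' : U') : (h.stalkMap (a u')).hom.Flat ↔ (h'.stalkMap u').hom.Flat := by
  constructor
  · intro hf
    let O : U.Opens := ⟨{x | (h.stalkMap x).hom.Flat}, Groth.Agent.S0386.result h⟩
    let O' : U'.Opens := a ⁻¹ᵁ O
    have hfl : Flat (O'.ι ≫ a ≫ h) :=
      Flat.of_stalkMap _ (fun x => (flat_stalkMap_ι_comp_iff (a ≫ h) O' x).mpr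
        (flat_comp a h _ (Flat.stalkMap a _) x.2))
    rw [← comm, ← Category.assoc] at hfl
    haveI : Flat (O'.ι ≫ h') := Groth.Agent.Lib.Helper12.SrcLocal.cancel_etale @Flat
      (fun j hj => by haveI := hj; infer_instance) (O'.ι ≫ h') b inferInstance hfl
    have hu' : u' ∈ O' := hf
    exact (flat_stalkMap_ι_comp_iff h' O' (⟨u', hu'⟩ : O')).mp
      (Flat.stalkMap (O'.ι ≫ h') (⟨u', hu'⟩ : O'))
  · intro hf
    have h1 : ((h' ≫ b).stalkMap u').hom.Flat := flat_comp h' b u' hf (Flat.stalkMap b _)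
    rw [comm] at h1
    exact flat_of_comp a h u' h1 (Flat.stalkMap a u')

/-- the fibrewise criterion, for an arbitrary point of an arbitrary fibre -/
theorem flat_stalkMap_of_flat_of_fiberMap' {U V T : Scheme.{u}} (k : U ⟶ V) (m : V ⟶ T)
    [LocallyOfFinitePresentation (k ≫ m)] [LocallyOfFiniteType m] (s : T) (z : (k ≫ m).fiber s)
    (hflat : ((k ≫ m).stalkMap ((k ≫ m).fiberι s z)).hom.Flat)
    (hfib : ((MoreMor.fiberMap k m s).stalkMap z).hom.Flat) :
    (k.stalkMap ((k ≫ m).fiberι s z)).hom.Flat := by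
  obtain ⟨x, hx⟩ : ∃ x : U, (k ≫ m).fiberι s z = x := ⟨_, rfl⟩
  have hs : (k ≫ m) x = s := by
    have := ((k ≫ m).fiberHomeo s z).2
    rw [← hx]
    exact this
  subst hs
  have hz : z = (k ≫ m).asFiber x := by
    have hinj : Function.Injective ((k ≫ m).fiberι ((k ≫ m) x)) := by
      intro z₁ z₂ h12
      apply ((k ≫ m).fiberHomeo ((k ≫ m) x)).injective
      exact Subtype.ext h12
    apply hinj
    rw [hx, (k ≫ m).fiberι_asFiber]
  rw [hx] at hflat ⊢
  rw [hz] at hfib
  exact flat_stalkMap_of_flat_of_fiberMap k m x hflat hfib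

lemma fibMap_fiberToSpec {P U W V : Scheme.{u}} {fst : P ⟶ U} {snd : P ⟶ W} {h : U ⟶ V}
    {k : W ⟶ V} (sq : IsPullback fst snd h k) (z : W) :
    fibMap sq z ≫ h.fiberToSpecResidueField (k z) =
      snd.fiberToSpecResidueField z ≫ Spec.map (k.residueFieldMap z) :=
  pullback.lift_snd _ _ _

/-- flatness at a point of the top arrow of a tower `U ⟶ V ⟶ T` with `U` flat and locally of finite
presentation over `T` is insensitive to base change along `T' ⟶ T` -/
theorem flat_stalkMap_baseChange_iff {U V T T' U' V' : Scheme.{u}} (k : U ⟶ V) (m : V ⟶ T)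
    (n : T' ⟶ T) (fU : U' ⟶ U) (sU : U' ⟶ T') (fV : V' ⟶ V) (sV : V' ⟶ T') (k' : U' ⟶ V')
    (sqU : IsPullback fU sU (k ≫ m) n) (sqV : IsPullback fV sV m n)
    (hk1 : k' ≫ fV = fU ≫ k) (hk2 : k' ≫ sV = sU)
    [LocallyOfFinitePresentation (k ≫ m)] [LocallyOfFiniteType m] [Flat (k ≫ m)] (u' : U') :
    (k'.stalkMap u').hom.Flat ↔ (k.stalkMap (fU u')).hom.Flat := by
  haveI : LocallyOfFinitePresentation k :=
    Groth.Agent.Lib.Helper6.locallyOfFinitePresentation_of_comp (g := m) inferInstance inferInstance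
  have sqL' : IsPullback k' fU fV k :=
    IsPullback.of_right (by rw [hk2]; exact sqU.flip) hk1 sqV.flip
  have sqL : IsPullback fU k' k fV := sqL'.flip
  refine ⟨fun hf => ?_, fun hf => flat_stalkMap_of_isPullback sqL u' hf⟩
  haveI : LocallyOfFinitePresentation k' :=
    MorphismProperty.of_isPullback (P := @LocallyOfFinitePresentation) sqL inferInstance
  have sqU' : IsPullback fU (k' ≫ sV) (k ≫ m) n := by rw [hk2]; exact sqU
  obtain ⟨t', ht'⟩ : ∃ t' : T', t' = (k' ≫ sV) u' := ⟨_, rfl⟩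
  obtain ⟨z', hz'⟩ : ∃ z' : (k' ≫ sV).fiber t', (k' ≫ sV).fiberι t' z' = u' := by
    subst ht'
    exact ⟨(k' ≫ sV).asFiber u', (k' ≫ sV).fiberι_asFiber u'⟩
  have hF' : ((MoreMor.fiberMap k' sV t').stalkMap z').hom.Flat :=
    flat_stalkMap_fiberMap_of_flat k' sV t' z' (by rw [hz']; exact hf)
  have hF1 : MoreMor.fiberMap k' sV t' ≫ sV.fiberι t' = (k' ≫ sV).fiberι t' ≫ k' :=
    pullback.lift_fst _ _ _
  have hF2 : MoreMor.fiberMap k' sV t' ≫ sV.fiberToSpecResidueField t' =
      (k' ≫ sV).fiberToSpecResidueField t' := pullback.lift_snd _ _ _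
  have hG1 : MoreMor.fiberMap k m (n t') ≫ m.fiberι (n t') = (k ≫ m).fiberι (n t') ≫ k :=
    pullback.lift_fst _ _ _
  have hG2 : MoreMor.fiberMap k m (n t') ≫ m.fiberToSpecResidueField (n t') =
      (k ≫ m).fiberToSpecResidueField (n t') := pullback.lift_snd _ _ _
  have hcomm : MoreMor.fiberMap k' sV t' ≫ fibMap sqV t' =
      fibMap sqU' t' ≫ MoreMor.fiberMap k m (n t') := by
    refine pullback.hom_ext ?_ ?_
    · show (MoreMor.fiberMap k' sV t' ≫ fibMap sqV t') ≫ m.fiberι (n t') =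
        (fibMap sqU' t' ≫ MoreMor.fiberMap k m (n t')) ≫ m.fiberι (n t')
      rw [Category.assoc, fibMap_fiberι sqV, ← Category.assoc, hF1, Category.assoc, hk1,
        Category.assoc, hG1, ← Category.assoc, ← Category.assoc, fibMap_fiberι sqU']
    · show (MoreMor.fiberMap k' sV t' ≫ fibMap sqV t') ≫ m.fiberToSpecResidueField (n t') =
        (fibMap sqU' t' ≫ MoreMor.fiberMap k m (n t')) ≫ m.fiberToSpecResidueField (n t')
      rw [Category.assoc, fibMap_fiberToSpec sqV, ← Category.assoc, hF2, Category.assoc, hG2,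
        fibMap_fiberToSpec sqU']
  have h1 : ((fibMap sqU' t' ≫ MoreMor.fiberMap k m (n t')).stalkMap z').hom.Flat := by
    rw [← hcomm]
    exact flat_comp _ (fibMap sqV t') z' hF' (Flat.stalkMap (fibMap sqV t') _)
  have h2 := flat_of_comp (fibMap sqU' t') (MoreMor.fiberMap k m (n t')) z' h1
    (Flat.stalkMap (fibMap sqU' t') z')
  have h3 := flat_stalkMap_of_flat_of_fiberMap' k m (n t') (fibMap sqU' t' z')
    (Flat.stalkMap (k ≫ m) _) h2
  have e : (k ≫ m).fiberι (n t') (fibMap sqU' t' z') = fU u' := by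
    rw [← Scheme.Hom.comp_apply, fibMap_fiberι sqU', Scheme.Hom.comp_apply, hz']
  rw [e] at h3
  exact h3

end Groth.Agent.Lib.Helper9.FlatPt
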