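import Groth.Agent.Lib.Helper9ProdSite

/-!
# Functor categories into a sheaf topos are sheaf topoi
-/

namespace Groth.Agent.Lib.Helper9.FunctorTopos

open CategoryTheory Limits Opposite ProdSite

universe u

variable (D : Type u) [SmallCategory D] {C : Type u} [SmallCategory C]
  (J : GrothendieckTopology C)

/-- The functor `(Dᵒᵖ × C)ᵒᵖ ⥤ D × Cᵒᵖ`. -/
@[simps]
def T : (Dᵒᵖ × C)ᵒᵖ ⥤ D × Cᵒᵖ where
  obj x := (x.unop.1.unop, op x.unop.2)
  map f := (f.unop.1.unop, f.unop.2.op)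
  map_id x := rfl
  map_comp f g := rfl

/-- The inverse functor `D × Cᵒᵖ ⥤ (Dᵒᵖ × C)ᵒᵖ`. -/
@[simps]
def T' : D × Cᵒᵖ ⥤ (Dᵒᵖ × C)ᵒᵖ where
  obj x := op (op x.1, x.2.unop)
  map {x y} f := Quiver.Hom.op ((f.1.op, f.2.unop) : (op y.1, y.2.unop) ⟶ (op x.1, x.2.unop))
  map_id x := rfl
  map_comp f g := rfl

/-- `(Dᵒᵖ × C)ᵒᵖ ≌ D × Cᵒᵖ`. -/
def eT : (Dᵒᵖ × C)ᵒᵖ ≌ D × Cᵒᵖ where
  functor := T D
  inverse := T' D
  unitIso := NatIso.ofComponents (fun x => Iso.refl _) (by
    intro x y f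
    exact (Category.comp_id _).trans (Eq.trans rfl (Category.id_comp _).symm))
  counitIso := NatIso.ofComponents (fun x => Iso.refl _) (by
    intro x y f
    exact (Category.comp_id _).trans (Eq.trans rfl (Category.id_comp _).symm))
  functor_unitIso_comp x := by
    exact (Category.comp_id _).trans ((T D).map_id _)

/-- Currying: `(D ⥤ Cᵒᵖ ⥤ Type u) ≌ ((Dᵒᵖ × C)ᵒᵖ ⥤ Type u)`. -/
noncomputable def e₀ : (D ⥤ Cᵒᵖ ⥤ Type u) ≌ ((Dᵒᵖ × C)ᵒᵖ ⥤ Type u) :=
  (Functor.currying (C := D) (D := Cᵒᵖ) (E := Type u)).trans (eT (C := C) D).congrLeft.symm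

lemma e₀_functor_obj (G : D ⥤ Cᵒᵖ ⥤ Type u) :
    (e₀ (C := C) D).functor.obj G = T D ⋙ Functor.uncurry.obj G := rfl

/-- The slices of the uncurried presheaf are the values of the functor. -/
noncomputable def sliceIso (G : D ⥤ Cᵒᵖ ⥤ Type u) (d : D) :
    sliceP (T D ⋙ Functor.uncurry.obj G) (op d) ≅ G.obj d :=
  NatIso.ofComponents (fun c => Iso.refl _) (by
    intro c c' f
    show ((T D ⋙ Functor.uncurry.obj G).map ((Prod.sectR (op d) C).map f.unop).op) ≫ 𝟙 _ =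
      𝟙 _ ≫ (G.obj d).map f
    rw [Category.comp_id, Category.id_comp]
    show (G.map (𝟙 d)).app c ≫ (G.obj d).map f = (G.obj d).map f
    rw [G.map_id]
    exact Category.id_comp _)

/-- Functors `D ⥤ Cᵒᵖ ⥤ Type u` with values in sheaves. -/
def Q₁ : ObjectProperty (D ⥤ Cᵒᵖ ⥤ Type u) := fun G => ∀ d, Presheaf.IsSheaf J (G.obj d)

/-- Sheaves for the product topology, as an object property. -/
def Q₂ : ObjectProperty ((Dᵒᵖ × C)ᵒᵖ ⥤ Type u) := Presheaf.IsSheaf (prodTopology Dᵒᵖ J)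

instance : (Q₂ D J).IsClosedUnderIsomorphisms where
  of_iso e h := (Presheaf.isSheaf_of_iso_iff e).1 h

lemma inverseImage_eq :
    (Q₂ D J).inverseImage (e₀ (C := C) D).functor = Q₁ D J := by
  ext G
  show Presheaf.IsSheaf (prodTopology Dᵒᵖ J) (T D ⋙ Functor.uncurry.obj G) ↔
    ∀ d, Presheaf.IsSheaf J (G.obj d)
  rw [isSheaf_iff_isSheaf_of_type, isSheaf_prodTopology_iff]
  constructor
  · intro h d
    rw [isSheaf_iff_isSheaf_of_type]
    exact Presieve.isSheaf_iso J (sliceIso D G d) (h (op d))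
  · intro h d
    have := (isSheaf_iff_isSheaf_of_type _ _).1 (h d.unop)
    exact Presieve.isSheaf_iso J (sliceIso D G d.unop).symm this

/-- Functors into sheaves as a full subcategory of functors into presheaves. -/
noncomputable def toQ₁ : (D ⥤ Sheaf J (Type u)) ⥤ (Q₁ D J).FullSubcategory :=
  (Q₁ D J).lift ((Functor.whiskeringRight D _ _).obj (sheafToPresheaf J (Type u)))
    (fun F d => (F.obj d).property)

noncomputable def toQ₁FullyFaithful : (toQ₁ D J).FullyFaithful :=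
  Functor.FullyFaithful.ofCompFaithful (G := (Q₁ D J).ι)
    ((fullyFaithfulSheafToPresheaf J (Type u)).whiskeringRight D)

instance : (toQ₁ D J).IsEquivalence := by
  have := (toQ₁FullyFaithful D J).full
  have := (toQ₁FullyFaithful D J).faithful
  have : (toQ₁ D J).EssSurj := by
    refine ⟨fun G => ⟨ObjectProperty.lift (Presheaf.IsSheaf J) G.obj G.property, ⟨?_⟩⟩⟩
    exact (Q₁ D J).ι.preimageIso (Iso.refl _)
  exact ⟨inferInstance, inferInstance, inferInstance⟩

/-- `D ⥤ Sheaf J (Type u)` is the category of sheaves on the product site. -/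
noncomputable def functorSheafEquiv :
    (D ⥤ Sheaf J (Type u)) ≌ Sheaf (prodTopology Dᵒᵖ J) (Type u) :=
  (toQ₁ D J).asEquivalence.trans
    ((e₀ (C := C) D).congrFullSubcategory (Q := Q₂ D J) (inverseImage_eq D J))

end Groth.Agent.Lib.Helper9.FunctorTopos
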