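/-
Helper library (helper9): for a proper flat morphism of finite presentation, geometric
connectedness of fibres passes to specializations (with nonempty fibre). Pure assembly of
S1363 (lower semicontinuity of the number of geometric connected components) and helper22
`LimConn`.
-/
import Groth.Agent.S1363
import Groth.Agent.Lib.Helper22LimConn

set_option autoImplicit false
set_option linter.style.haveILetI false
universe u

open CategoryTheory CategoryTheory.Limits AlgebraicGeometry TopologicalSpace

namespace Groth.Agent.Lib.Helper9.GeomConnSpec

variable {X Y : Scheme.{u}} (f : X ⟶ Y)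

/-- A geometrically connected fibre has at most one geometric connected component. -/
theorem nGeomConnComp_le_one_of_geometricallyConnected (y : Y)
    (h : GeometricallyConnected (f.fiberToSpecResidueField y)) :
    MoreMor.nGeomConnComp f y ≤ 1 := by
  refine Groth.Agent.Lib.Helper22.LimConn.nGeomConnComp_le_one_of_preconnected f y
    (SeparableClosure (Y.residueField y)) (RingHom.id _) ?_
  have hpt : (Spec.map (CommRingCat.ofHom (RingHom.id (SeparableClosure (Y.residueField y)))) ≫
      Groth.Agent.Lib.Helper22.GI.sepPt y)
      (IsLocalRing.closedPoint (SeparableClosure (Y.residueField y))) = y := by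
    rw [Scheme.Hom.comp_apply, Groth.Agent.Lib.Helper22.GI.sepPt_apply]
  haveI := Groth.Agent.Lib.Helper22.GI.connectedSpace_pullback_of_geomConn_fiber f
    (SeparableClosure (Y.residueField y))
    (Spec.map (CommRingCat.ofHom (RingHom.id (SeparableClosure (Y.residueField y)))) ≫
      Groth.Agent.Lib.Helper22.GI.sepPt y)
    (IsLocalRing.closedPoint (SeparableClosure (Y.residueField y))) (by rw [hpt]; exact h)
  infer_instance

/-- For a proper flat morphism of finite presentation, geometric connectedness of a fibre passes
to nonempty fibres over specializations. -/
theorem geometricallyConnected_fiber_of_specializes [IsProper f] [Flat f]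
    [LocallyOfFinitePresentation f] {η s : Y} (hηs : η ⤳ s)
    (hη : GeometricallyConnected (f.fiberToSpecResidueField η)) (x : X) (hx : f x = s) :
    GeometricallyConnected (f.fiberToSpecResidueField s) := by
  have hlsc := Groth.Agent.S1363.result f
  have hcl : IsClosed ((fun s : ↑Y => MoreMor.nGeomConnComp f s) ⁻¹' Set.Iic 1) :=
    hlsc.isClosed_preimage 1
  have hmem : s ∈ (fun s : ↑Y => MoreMor.nGeomConnComp f s) ⁻¹' Set.Iic 1 :=
    hηs.mem_closed hcl (nGeomConnComp_le_one_of_geometricallyConnected f η hη)
  exact Groth.Agent.Lib.Helper22.LimConn.geometricallyConnected_fiber_of_le_one f s x hx hmem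

end Groth.Agent.Lib.Helper9.GeomConnSpec
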