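import Groth.Agent.Lib.Helper9LargeField
import Groth.Agent.Lib.Helper9SpPoint6
import Groth.Agent.S9900
import Groth.Agent.S10176
import Groth.Agent.S10177

/-!
# Lifting points of algebraic spaces to geometric points over a large field
-/

set_option autoImplicit false
universe u
open CategoryTheory CategoryTheory.Limits AlgebraicGeometry Opposite
open AlgSp

namespace Groth.Agent.Lib.Helper9.GeomLift

set_option backward.isDefEq.respectTransparency false

/-- Two morphisms from `Spec A` into a scheme with range in a common affine open agree if they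
agree after precomposition with `Spec` of an injective ring map out of `A`. -/
theorem eq_of_SpecMap_comp_eq {A Ω : Type u} [CommRing A] [CommRing Ω] (φ : A →+* Ω)
    (hφ : Function.Injective φ) {S : Scheme.{u}} (m₁ m₂ : Spec (CommRingCat.of A) ⟶ S)
    (W : S.Opens) (hW : IsAffineOpen W) (h₁ : Set.range m₁ ⊆ (W : Set S))
    (h₂ : Set.range m₂ ⊆ (W : Set S))
    (h : Spec.map (CommRingCat.ofHom φ) ≫ m₁ = Spec.map (CommRingCat.ofHom φ) ≫ m₂) :
    m₁ = m₂ := by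
  haveI : IsAffine (W : Scheme.{u}) := hW
  have hr₁ : Set.range m₁ ⊆ Set.range W.ι := by simpa using h₁
  have hr₂ : Set.range m₂ ⊆ Set.range W.ι := by simpa using h₂
  obtain ⟨n₁, hn₁⟩ : ∃ n₁, n₁ ≫ W.ι = m₁ :=
    ⟨IsOpenImmersion.lift W.ι m₁ hr₁, IsOpenImmersion.lift_fac _ _ _⟩
  obtain ⟨n₂, hn₂⟩ : ∃ n₂, n₂ ≫ W.ι = m₂ :=
    ⟨IsOpenImmersion.lift W.ι m₂ hr₂, IsOpenImmersion.lift_fac _ _ _⟩
  have hn : Spec.map (CommRingCat.ofHom φ) ≫ n₁ = Spec.map (CommRingCat.ofHom φ) ≫ n₂ := by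
    rw [← cancel_mono W.ι, Category.assoc, Category.assoc, hn₁, hn₂, h]
  have hmono : Mono (Spec.map (CommRingCat.ofHom φ)).appTop := by
    have hnat := Scheme.ΓSpecIso_naturality (CommRingCat.ofHom φ)
    have hm : Mono (CommRingCat.ofHom φ) := ConcreteCategory.mono_of_injective _ hφ
    have : (Spec.map (CommRingCat.ofHom φ)).appTop =
        (Scheme.ΓSpecIso (CommRingCat.of A)).hom ≫ CommRingCat.ofHom φ ≫
          (Scheme.ΓSpecIso (CommRingCat.of Ω)).inv := by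
      rw [← Category.assoc, ← hnat, Category.assoc, Iso.hom_inv_id, Category.comp_id]
    rw [this]
    infer_instance
  have h12 : n₁ = n₂ := by
    apply ext_of_isAffine
    have := congrArg Scheme.Hom.appTop hn
    rw [Scheme.Hom.comp_appTop, Scheme.Hom.comp_appTop] at this
    exact (cancel_mono _).1 this
  rw [← hn₁, ← hn₂, h12]

open Cardinal in
/-- For `k` algebraically closed and larger than all residue fields of an étale atlas `U` of `X`,
every pair of a point of `|X|` and a `k`-point of `Y` with the same image in `|Y|` comes from a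
`k`-point of `X`. -/
theorem exists_geometric_lift {S : Scheme.{u}} {X Y : AlgSp.Space S} (f : X ⟶ Y)
    {U : Over S} (a : (AlgSp.yon S).obj U ⟶ X.obj) (has : AlgSp.RepWith @Surjective a)
    (ybar : AlgSp.FieldPt Y.obj) (hy : ybar.IsGeometric)
    (hk : ∀ u : ↥U.left, Cardinal.mk ↥(U.left.residueField u) < Cardinal.mk ybar.K)
    (x : AlgSp.Points X.obj) (hx : AlgSp.Points.map f.hom x = AlgSp.Points.mk ybar) :
    ∃ xbar : (AlgSp.yon S).obj ybar.pt ⟶ X.obj, xbar ≫ f.hom = ybar.toHom ∧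
      AlgSp.Points.ofPt xbar (IsLocalRing.closedPoint ybar.K) = x := by
  haveI : IsAlgClosed ybar.K := hy
  obtain ⟨u, rfl⟩ := Groth.Agent.S10177.surjective_ofPt a has x
  rw [AlgSp.Points.map_ofPt] at hx
  obtain ⟨Ω, hΩ, w, α, β, hαβ⟩ :=
    Groth.Agent.Lib.Helper9.SpPoint.rel_toHom (AlgSp.Points.mk_eq_mk_iff.1 hx)
  rw [AlgSp.FieldPt.toHom_ofPt] at hαβ
  -- ring maps
  obtain ⟨α', hα'⟩ : ∃ α' : ↥(U.left.residueField u) →+* Ω,
      Spec.map (CommRingCat.ofHom α') = α.left := ⟨(Spec.preimage α.left).hom, Spec.map_preimage _⟩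
  obtain ⟨β', hβ'⟩ : ∃ β' : ybar.K →+* Ω,
      Spec.map (CommRingCat.ofHom β') = β.left := ⟨(Spec.preimage β.left).hom, Spec.map_preimage _⟩
  letI : Algebra ybar.K Ω := β'.toAlgebra
  obtain ⟨A₁, hA₁⟩ : ∃ A₁ : Subalgebra ybar.K Ω, A₁ = Algebra.adjoin ybar.K (Set.range α') :=
    ⟨_, rfl⟩
  have hmem : ∀ y, α' y ∈ A₁ := fun y => by
    rw [hA₁]; exact Algebra.subset_adjoin ⟨y, rfl⟩
  obtain ⟨jκ, hjκ⟩ : ∃ jκ : ↥(U.left.residueField u) →+* A₁, ∀ y, (jκ y : Ω) = α' y :=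
    ⟨α'.codRestrict A₁ hmem, fun y => rfl⟩
  have hs : Algebra.adjoin ybar.K (Set.range jκ) = ⊤ := by
    have h1 : Set.range jκ = ((↑) : A₁ → Ω) ⁻¹' (Set.range α') := by
      ext z; constructor
      · rintro ⟨y, rfl⟩; exact ⟨y, (hjκ y).symm⟩
      · rintro ⟨y, hy⟩; exact ⟨y, Subtype.ext ((hjκ y).trans hy)⟩
    rw [h1]
    subst hA₁
    exact Algebra.adjoin_adjoin_coe_preimage
  have hjΩκ : (A₁.val : A₁ →+* Ω).comp jκ = α' := RingHom.ext hjκ
  have hjΩk : (A₁.val : A₁ →+* Ω).comp (algebraMap ybar.K A₁) = β' := RingHom.ext fun c => rfl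
  have hΩκ : Spec.map (CommRingCat.ofHom (A₁.val : A₁ →+* Ω)) ≫ Spec.map (CommRingCat.ofHom jκ) =
      α.left := by
    rw [← Spec.map_comp, ← CommRingCat.ofHom_comp, hjΩκ, hα']
  have hΩk : Spec.map (CommRingCat.ofHom (A₁.val : A₁ →+* Ω)) ≫
      Spec.map (CommRingCat.ofHom (algebraMap ybar.K A₁)) = β.left := by
    rw [← Spec.map_comp, ← CommRingCat.ofHom_comp, hjΩk, hβ']
  have hwα : α.left ≫ (U.left.fromSpecResidueField u ≫ U.hom) = w := Over.w α
  have hwβ : β.left ≫ ybar.str = w := Over.w β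
  -- the key compatibility over `S`
  have E1 : Spec.map (CommRingCat.ofHom jκ) ≫ (U.left.fromSpecResidueField u ≫ U.hom) =
      Spec.map (CommRingCat.ofHom (algebraMap ybar.K A₁)) ≫ ybar.str := by
    obtain ⟨W, hW, hsW, -⟩ := exists_isAffineOpen_mem_and_subset (U := ⊤)
      (x := w (IsLocalRing.closedPoint Ω)) (by simp)
    refine eq_of_SpecMap_comp_eq (A₁.val : A₁ →+* Ω) Subtype.val_injective _ _ W hW ?_ ?_ ?_
    · rintro _ ⟨z, rfl⟩
      have hz : Spec.map (CommRingCat.ofHom jκ) z = α.left (IsLocalRing.closedPoint Ω) :=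
        Subsingleton.elim (α := Spec (CommRingCat.of ↥(U.left.residueField u))) _ _
      rw [Scheme.Hom.comp_apply, hz]
      have h3 := congrArg (fun m : Spec (CommRingCat.of Ω) ⟶ S =>
        m (IsLocalRing.closedPoint Ω)) hwα
      simp only [Scheme.Hom.comp_apply] at h3
      rw [Scheme.Hom.comp_apply]
      exact h3 ▸ hsW
    · rintro _ ⟨z, rfl⟩
      have hz : Spec.map (CommRingCat.ofHom (algebraMap ybar.K A₁)) z =
          β.left (IsLocalRing.closedPoint Ω) :=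
        Subsingleton.elim (α := Spec (CommRingCat.of ybar.K)) _ _
      rw [Scheme.Hom.comp_apply, hz]
      have h3 := congrArg (fun m : Spec (CommRingCat.of Ω) ⟶ S =>
        m (IsLocalRing.closedPoint Ω)) hwβ
      simp only [Scheme.Hom.comp_apply] at h3
      exact h3 ▸ hsW
    · rw [← Category.assoc, hΩκ, hwα, ← Category.assoc, hΩk, hwβ]
  -- the scheme `T' = Spec A₁` over `S`
  obtain ⟨tstr, htstr⟩ : ∃ tstr : Spec (CommRingCat.of A₁) ⟶ S, tstr =
      Spec.map (CommRingCat.ofHom (algebraMap ybar.K A₁)) ≫ ybar.str := ⟨_, rfl⟩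
  obtain ⟨p₂, hp₂⟩ : ∃ p₂ : Over.mk tstr ⟶ ybar.pt,
      p₂.left = Spec.map (CommRingCat.ofHom (algebraMap ybar.K A₁)) :=
    ⟨Over.homMk (Spec.map (CommRingCat.ofHom (algebraMap ybar.K A₁))) htstr.symm, rfl⟩
  obtain ⟨p₁, hp₁⟩ : ∃ p₁ : Over.mk tstr ⟶ Over.mk (U.left.fromSpecResidueField u ≫ U.hom),
      p₁.left = Spec.map (CommRingCat.ofHom jκ) :=
    ⟨Over.homMk (Spec.map (CommRingCat.ofHom jκ)) (E1.trans htstr.symm), rfl⟩
  obtain ⟨γ, hγ⟩ : ∃ γ : Over.mk w ⟶ Over.mk tstr,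
      γ.left = Spec.map (CommRingCat.ofHom (A₁.val : A₁ →+* Ω)) := by
    refine ⟨Over.homMk (Spec.map (CommRingCat.ofHom (A₁.val : A₁ →+* Ω))) ?_, rfl⟩
    change _ ≫ tstr = w
    rw [htstr, ← Category.assoc, hΩk, hwβ]
  have hγ₁ : γ ≫ p₁ = α := by
    apply Over.OverMorphism.ext
    rw [Over.comp_left, hγ, hp₁, hΩκ]
  have hγ₂ : γ ≫ p₂ = β := by
    apply Over.OverMorphism.ext
    rw [Over.comp_left, hγ, hp₂, hΩk]
  -- the equalizer locus
  obtain ⟨ιu, hιu⟩ : ∃ ιu : Over.mk (U.left.fromSpecResidueField u ≫ U.hom) ⟶ U,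
      ιu = Over.homMk (U.left.fromSpecResidueField u) rfl := ⟨_, rfl⟩
  rw [← hιu] at hαβ
  obtain ⟨E, e, he⟩ := Groth.Agent.S9900.exists_isEqLocus Y.property.diag
    ((AlgSp.yon S).map p₁ ≫ (AlgSp.yon S).map ιu ≫ a ≫ f.hom)
    ((AlgSp.yon S).map p₂ ≫ ybar.toHom)
  have hfte : LocallyOfFiniteType e.left := he.locallyOfFiniteType Y.property
  obtain ⟨γ', hγ'⟩ := (he.2 _ γ).1 (by
    rw [← hγ₁, ← hγ₂, Functor.map_comp, Functor.map_comp, Category.assoc, Category.assoc] at hαβ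
    exact hαβ)
  have heq := he.eq
  -- an affine neighbourhood in `E`
  obtain ⟨e₀, he₀⟩ : ∃ e₀ : ↥E.left,
      e₀ = (γ'.left : Spec (CommRingCat.of Ω) ⟶ E.left) (IsLocalRing.closedPoint Ω) := ⟨_, rfl⟩
  obtain ⟨V, hV, he₀V, -⟩ := exists_isAffineOpen_mem_and_subset (U := ⊤) (x := e₀) (by simp)
  obtain ⟨ψ, hψ⟩ : ∃ ψ : CommRingCat.of A₁ ⟶ Γ(E.left, V), Spec.map ψ = hV.fromSpec ≫ e.left :=
    ⟨Spec.preimage _, Spec.map_preimage _⟩
  have hψft : ψ.hom.FiniteType := by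
    have h1 : LocallyOfFiniteType (hV.fromSpec ≫ e.left) := inferInstance
    rw [← hψ] at h1
    exact (HasRingHomProperty.Spec_iff (P := @LocallyOfFiniteType)).1 h1
  haveI : Nontrivial Γ(E.left, V) := by
    have h1 : e₀ ∈ Set.range hV.fromSpec := by rw [hV.range_fromSpec]; exact he₀V
    obtain ⟨z, -⟩ := h1
    exact (PrimeSpectrum.nonempty_iff_nontrivial).1 ⟨z⟩
  obtain ⟨ρ, hρ⟩ := Groth.Agent.Lib.Helper9.LargeField.exists_retraction_of_finiteType
    (k := ybar.K) ψ.hom hψft (Set.range jκ) hs (lt_of_le_of_lt Cardinal.mk_range_le (hk u))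
  obtain ⟨ρ', hρ'⟩ : ∃ ρ' : Γ(E.left, V) ⟶ CommRingCat.of ybar.K, ρ'.hom = ρ :=
    ⟨CommRingCat.ofHom ρ, rfl⟩
  have key : Spec.map ρ' ≫ hV.fromSpec ≫ e.left ≫ p₂.left = 𝟙 _ := by
    rw [← Category.assoc hV.fromSpec, ← hψ, hp₂, ← Spec.map_comp, ← Spec.map_comp]
    have h1 : (CommRingCat.ofHom (algebraMap ybar.K A₁) ≫ ψ) ≫ ρ' = 𝟙 _ := by
      apply CommRingCat.hom_ext
      rw [CommRingCat.hom_comp, CommRingCat.hom_comp, hρ', CommRingCat.hom_ofHom, hρ]
      rfl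
    rw [h1, Spec.map_id]
  obtain ⟨σE, hσE⟩ : ∃ σE : ybar.pt ⟶ E, σE.left = Spec.map ρ' ≫ hV.fromSpec := by
    refine ⟨Over.homMk (Spec.map ρ' ≫ hV.fromSpec) ?_, rfl⟩
    have h0 : e.left ≫ p₂.left ≫ ybar.str = E.hom := by
      have h1 : p₂.left ≫ ybar.str = tstr := Over.w p₂
      have h2 : e.left ≫ tstr = E.hom := Over.w e
      exact (congrArg (fun m => e.left ≫ m) h1).trans h2
    rw [← h0]
    change (Spec.map ρ' ≫ hV.fromSpec) ≫ e.left ≫ p₂.left ≫ ybar.str = ybar.str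
    simp only [Category.assoc]
    rw [reassoc_of% key]
  have hσ₂ : σE ≫ e ≫ p₂ = 𝟙 _ := by
    apply Over.OverMorphism.ext
    rw [Over.comp_left, Over.comp_left, hσE, Category.assoc, key]
    rfl
  refine ⟨(AlgSp.yon S).map (σE ≫ e ≫ p₁ ≫ ιu) ≫ a, ?_, ?_⟩
  · rw [Functor.map_comp, Functor.map_comp, Functor.map_comp, Category.assoc, Category.assoc,
      Category.assoc, Category.assoc, heq, ← Category.assoc ((AlgSp.yon S).map e),
      ← Functor.map_comp, ← Category.assoc, ← Functor.map_comp, hσ₂, CategoryTheory.Functor.map_id,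
      Category.id_comp]
  · rw [Groth.Agent.S10176.ofPt_map_comp]
    congr 1
    rw [hιu]
    simp only [Over.comp_left, Over.homMk_left, Scheme.Hom.comp_apply]
    exact Scheme.fromSpecResidueField_apply _ _

end Groth.Agent.Lib.Helper9.GeomLift
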