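import Mathlib
import Groth.Prelude.Def_SGA4a

/-!
# Giraud's theorem: categories satisfying Giraud's axioms are sheaf topoi
-/

namespace Groth.Agent.Lib.Helper9.Giraud

open CategoryTheory Limits Opposite

universe v u w w'

variable {E : Type v} [Category.{u} E]

/-- A family of morphisms with common target is *extremal*: it does not factor through any proper
subobject of the target. -/
def Ext {X : E} {ι : Type w} {Y : ι → E} (f : ∀ i, Y i ⟶ X) : Prop :=
  ∀ ⦃B : E⦄ (m : B ⟶ X) [Mono m], (∀ i, ∃ t : Y i ⟶ B, t ≫ m = f i) → IsIso m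

lemma Ext.of_refine {X : E} {ι : Type w} {Y : ι → E} {f : ∀ i, Y i ⟶ X} (hf : Ext f)
    {κ : Type w'} {Z : κ → E} {g : ∀ k, Z k ⟶ X}
    (h : ∀ i, ∃ (k : κ) (t : Y i ⟶ Z k), t ≫ g k = f i) : Ext g := by
  intro B m _ hm
  refine hf m fun i => ?_
  obtain ⟨k, t, ht⟩ := h i
  obtain ⟨s, hs⟩ := hm k
  exact ⟨t ≫ s, by rw [Category.assoc, hs, ht]⟩

lemma ext_of_section {X : E} {ι : Type w} {Y : ι → E} (f : ∀ i, Y i ⟶ X) (i : ι) (s : X ⟶ Y i)
    (hs : s ≫ f i = 𝟙 X) : Ext f := by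
  intro B m _ hm
  obtain ⟨t, ht⟩ := hm i
  have : IsSplitEpi m := ⟨⟨⟨s ≫ t, by rw [Category.assoc, ht, hs]⟩⟩⟩
  exact isIso_of_mono_of_isSplitEpi m

lemma Ext.comp [HasPullbacks E] {X : E} {ι : Type w} {Y : ι → E} {f : ∀ i, Y i ⟶ X} (hf : Ext f)
    {κ : ι → Type w'} {Z : ∀ i, κ i → E} {g : ∀ i (k : κ i), Z i k ⟶ Y i}
    (hg : ∀ i, Ext (g i)) :
    Ext (fun p : Σ i, κ i => g p.1 p.2 ≫ f p.1) := by
  intro B m _ hm
  refine hf m fun i => ?_
  have : IsIso (pullback.snd m (f i)) := hg i (pullback.snd m (f i)) fun k => by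
    obtain ⟨t, ht⟩ := hm ⟨i, k⟩
    exact ⟨pullback.lift t (g i k) ht, pullback.lift_snd _ _ _⟩
  exact ⟨inv (pullback.snd m (f i)) ≫ pullback.fst m (f i), by
    rw [Category.assoc, pullback.condition, IsIso.inv_hom_id_assoc]⟩

lemma Ext.hom_ext [HasEqualizers E] {X : E} {ι : Type w} {Y : ι → E} {f : ∀ i, Y i ⟶ X}
    (hf : Ext f) {Z : E} (a b : X ⟶ Z) (h : ∀ i, f i ≫ a = f i ≫ b) : a = b := by
  have : IsIso (equalizer.ι a b) := hf (equalizer.ι a b) fun i =>
    ⟨equalizer.lift (f i) (h i), equalizer.lift_ι _ _⟩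
  exact (cancel_epi (equalizer.ι a b)).1 (equalizer.condition a b)

lemma ext_of_isColimit {ι : Type w} {Y : ι → E} (c : Cofan Y) (hc : IsColimit c) :
    Ext c.inj := by
  intro B m _ hm
  choose t ht using hm
  have : IsSplitEpi m := ⟨⟨⟨Cofan.IsColimit.desc hc t, Cofan.IsColimit.hom_ext hc _ _ fun i => by
    rw [Cofan.IsColimit.fac_assoc, ht, Category.comp_id]⟩⟩⟩
  exact isIso_of_mono_of_isSplitEpi m

lemma ext_single_of_effectiveEpi {X Y : E} (e : Y ⟶ X) [EffectiveEpi e] :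
    Ext (fun _ : Unit => e) := by
  intro B m _ hm
  obtain ⟨t, ht⟩ := hm ()
  have : IsSplitEpi m := ⟨⟨⟨EffectiveEpi.desc e t (fun g₁ g₂ h => by
      rw [← cancel_mono m, Category.assoc, Category.assoc, ht, h]), by
    rw [← cancel_epi e, EffectiveEpi.fac_assoc, ht, Category.comp_id]⟩⟩⟩
  exact isIso_of_mono_of_isSplitEpi m

lemma ext_single_of_isPushout {R X B : E} {p₁ p₂ : R ⟶ X} {π : X ⟶ B}
    (hpo : IsPushout p₁ p₂ π π) : Ext (fun _ : Unit => π) := by
  intro B' m _ hm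
  obtain ⟨t, ht⟩ := hm ()
  have h1 : p₁ ≫ t = p₂ ≫ t := by
    rw [← cancel_mono m, Category.assoc, Category.assoc, ht, hpo.w]
  have : IsSplitEpi m := ⟨⟨⟨hpo.desc t t h1, by
    apply hpo.hom_ext
    · rw [hpo.inl_desc_assoc, ht, Category.comp_id]
    · rw [hpo.inr_desc_assoc, ht, Category.comp_id]⟩⟩⟩
  exact isIso_of_mono_of_isSplitEpi m

/-- Pulling back a universal colimit cofan. -/
lemma cofan_pullback_isColimit {ι : Type w} {X P : ι → E} (c : Cofan X)
    (hc : IsUniversalColimit c) {Z : E} (g : Z ⟶ c.pt) (p : ∀ i, P i ⟶ X i) (q : ∀ i, P i ⟶ Z)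
    (hP : ∀ i, IsPullback (p i) (q i) (c.inj i) g) : Nonempty (IsColimit (Cofan.mk Z q)) :=
  hc (Cofan.mk Z q) (Discrete.natTrans fun i => p i.as) g
    (by ext ⟨i⟩; simpa [Cofan.inj] using (hP i).w) (NatTrans.Equifibered.of_discrete _)
    (fun ⟨i⟩ => (hP i).flip)

lemma isEquivRel_of_isPullback {R A Y : E} {p₁ p₂ : R ⟶ A} {f : A ⟶ Y}
    (h : IsPullback p₁ p₂ f f) : SGA4.IsEquivRel p₁ p₂ := by
  intro T
  constructor
  · intro a b hab
    simp only [Prod.mk.injEq] at hab
    exact h.hom_ext hab.1 hab.2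
  · have key : ∀ a b : T ⟶ A, (∃ t : T ⟶ R, t ≫ p₁ = a ∧ t ≫ p₂ = b) ↔ a ≫ f = b ≫ f := by
      intro a b
      constructor
      · rintro ⟨t, rfl, rfl⟩
        rw [Category.assoc, Category.assoc, h.w]
      · intro hab
        exact ⟨h.lift a b hab, h.lift_fst _ _ _, h.lift_snd _ _ _⟩
    exact ⟨fun a => (key a a).2 rfl, fun {a b} hab => (key b a).2 ((key a b).1 hab).symm,
      fun {a b c} h1 h2 => (key a c).2 (((key a b).1 h1).trans ((key b c).1 h2))⟩

section Axioms

variable [HasFiniteLimits E]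
variable (hc : ∀ (R A : E) (p₁ p₂ : R ⟶ A), SGA4.IsEquivRel p₁ p₂ →
  SGA4.IsEffectiveUniversalEquivRel p₁ p₂)

include hc in
/-- Image factorisation in a category with effective universal equivalence relations. -/
theorem exists_image {X Y : E} (f : X ⟶ Y) : ∃ (B : E) (π : X ⟶ B) (m : B ⟶ Y),
    π ≫ m = f ∧ Mono m ∧ IsPushout (pullback.fst f f) (pullback.snd f f) π π ∧
      ∀ (B' : E) (g : B' ⟶ B), EffectiveEpi (pullback.snd π g) := by
  obtain ⟨B, π, hpb, hpo, heff⟩ :=
    hc _ _ _ _ (isEquivRel_of_isPullback (IsPullback.of_hasPullback f f))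
  let m : B ⟶ Y := hpo.desc f f pullback.condition
  have hm : π ≫ m = f := hpo.inl_desc _ _ _
  refine ⟨B, π, m, hm, ⟨fun {T} a b hab => ?_⟩, hpo, heff⟩
  have e1 : Epi (pullback.snd π a) := by
    have := heff T a
    infer_instance
  have e2 : Epi (pullback.snd π (pullback.snd π a ≫ b)) := by
    have := heff _ (pullback.snd π a ≫ b)
    infer_instance
  have c1 : pullback.fst π a ≫ π = pullback.snd π a ≫ a := pullback.condition
  have c2 : pullback.fst π (pullback.snd π a ≫ b) ≫ π =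
      pullback.snd π (pullback.snd π a ≫ b) ≫ pullback.snd π a ≫ b := pullback.condition
  have huv : (pullback.snd π (pullback.snd π a ≫ b) ≫ pullback.fst π a) ≫ f =
      pullback.fst π (pullback.snd π a ≫ b) ≫ f := by
    rw [← hm, Category.assoc, ← Category.assoc (pullback.fst π a), c1, ← Category.assoc _ π m, c2,
      Category.assoc, Category.assoc, Category.assoc, hab]
  have hπ : (pullback.snd π (pullback.snd π a ≫ b) ≫ pullback.fst π a) ≫ π =
      pullback.fst π (pullback.snd π a ≫ b) ≫ π := by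
    have hw1 := pullback.lift_fst (pullback.snd π (pullback.snd π a ≫ b) ≫ pullback.fst π a)
      (pullback.fst π (pullback.snd π a ≫ b)) huv
    have hw2 := pullback.lift_snd (pullback.snd π (pullback.snd π a ≫ b) ≫ pullback.fst π a)
      (pullback.fst π (pullback.snd π a ≫ b)) huv
    calc (pullback.snd π (pullback.snd π a ≫ b) ≫ pullback.fst π a) ≫ π
        = (pullback.lift (pullback.snd π (pullback.snd π a ≫ b) ≫ pullback.fst π a)
            (pullback.fst π (pullback.snd π a ≫ b)) huv ≫ pullback.fst f f) ≫ π := by rw [hw1]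
      _ = (pullback.lift (pullback.snd π (pullback.snd π a ≫ b) ≫ pullback.fst π a)
            (pullback.fst π (pullback.snd π a ≫ b)) huv ≫ pullback.snd f f) ≫ π := by
        rw [Category.assoc, Category.assoc, hpb.w]
      _ = pullback.fst π (pullback.snd π a ≫ b) ≫ π := by rw [hw2]
  rw [← cancel_epi (pullback.snd π a), ← cancel_epi (pullback.snd π (pullback.snd π a ≫ b))]
  rw [← c2, ← hπ, Category.assoc, c1]

include hc in
lemma Ext.single_desc {X Y M : E} {τ : X ⟶ Y} (hτ : Ext (fun _ : Unit => τ)) (γ : X ⟶ M)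
    (hγ : pullback.fst τ τ ≫ γ = pullback.snd τ τ ≫ γ) : ∃ t : Y ⟶ M, τ ≫ t = γ := by
  obtain ⟨B, π, m, hm, hmono, hpo, _⟩ := exists_image hc τ
  have : IsIso m := hτ m fun _ => ⟨π, hm⟩
  refine ⟨inv m ≫ hpo.desc γ γ hγ, ?_⟩
  have h1 : τ ≫ inv m = π := by
    rw [← hm, Category.assoc, IsIso.hom_inv_id, Category.comp_id]
  rw [← Category.assoc, h1, hpo.inl_desc]

include hc in
lemma Ext.single_pullback {X Y X' Q : E} {τ : X ⟶ Y} (hτ : Ext (fun _ : Unit => τ))
    {g : X' ⟶ Y} {q₁ : Q ⟶ X} {q₂ : Q ⟶ X'} (h : IsPullback q₁ q₂ τ g) :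
    Ext (fun _ : Unit => q₂) := by
  obtain ⟨B, π, m, hm, hmono, hpo, heff⟩ := exists_image hc τ
  have : IsIso m := hτ m fun _ => ⟨π, hm⟩
  have hbot : IsPullback (g ≫ inv m) (𝟙 X') m g := IsPullback.of_vert_isIso ⟨by simp⟩
  have hbig : IsPullback q₁ (q₂ ≫ 𝟙 X') (π ≫ m) g := by
    rw [Category.comp_id, hm]
    exact h
  have h' : IsPullback q₁ q₂ π (g ≫ inv m) :=
    IsPullback.of_bot hbig (by
      rw [← cancel_mono m, Category.assoc, Category.assoc, Category.assoc, IsIso.inv_hom_id,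
        Category.comp_id, hm, h.w]) hbot
  have := heff _ (g ≫ inv m)
  have hE := ext_single_of_effectiveEpi (pullback.snd π (g ≫ inv m))
  refine hE.of_refine fun _ => ⟨(), h'.isoPullback.inv, ?_⟩
  exact h'.isoPullback_inv_snd

variable (hb : SGA4.HasDisjointUniversalCoproducts.{v, u} E)

include hb hc in
/-- Small extremal families are stable under base change. -/
theorem Ext.baseChange {X X' : E} {ι : Type u} {Y P : ι → E} {f : ∀ i, Y i ⟶ X} (hf : Ext f)
    (g : X' ⟶ X) (a : ∀ i, P i ⟶ Y i) (b : ∀ i, P i ⟶ X')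
    (h : ∀ i, IsPullback (a i) (b i) (f i) g) : Ext b := by
  obtain ⟨c, hcol, _, huniv⟩ := hb ι Y
  let τ : c.pt ⟶ X := Cofan.IsColimit.desc hcol f
  have hτf : ∀ i, c.inj i ≫ τ = f i := fun i => Cofan.IsColimit.fac hcol f i
  have hτ : Ext (fun _ : Unit => τ) := hf.of_refine fun i => ⟨(), c.inj i, hτf i⟩
  have hq₂ : Ext (fun _ : Unit => pullback.snd τ g) :=
    Ext.single_pullback hc hτ (IsPullback.of_hasPullback τ g)
  let l : ∀ i, P i ⟶ pullback τ g := fun i => pullback.lift (a i ≫ c.inj i) (b i)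
    (by rw [Category.assoc, hτf, (h i).w])
  have hl1 : ∀ i, l i ≫ pullback.fst τ g = a i ≫ c.inj i := fun i => pullback.lift_fst _ _ _
  have hl2 : ∀ i, l i ≫ pullback.snd τ g = b i := fun i => pullback.lift_snd _ _ _
  have hl : ∀ i, IsPullback (a i) (l i) (c.inj i) (pullback.fst τ g) := fun i => by
    have hbig : IsPullback (a i) (l i ≫ pullback.snd τ g) (c.inj i ≫ τ) g := by
      rw [hτf i, hl2 i]
      exact h i
    exact IsPullback.of_bot hbig (hl1 i).symm (IsPullback.of_hasPullback τ g)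
  obtain ⟨hcol'⟩ := cofan_pullback_isColimit c huniv (pullback.fst τ g) a l hl
  have hE : Ext l := ext_of_isColimit _ hcol'
  have := hq₂.comp (κ := fun _ => ι) (g := fun _ i => l i) (fun _ => hE)
  exact this.of_refine fun p => ⟨p.2, 𝟙 _, by rw [Category.id_comp]; exact (hl2 p.2).symm⟩

include hb hc in
/-- Descent of morphisms along small extremal families. -/
theorem Ext.desc {X M : E} {ι : Type u} {Y : ι → E} {f : ∀ i, Y i ⟶ X} (hf : Ext f)
    (g : ∀ i, Y i ⟶ M)
    (hg : ∀ (i j : ι) (W : E) (a : W ⟶ Y i) (b : W ⟶ Y j),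
      a ≫ f i = b ≫ f j → a ≫ g i = b ≫ g j) :
    ∃ t : X ⟶ M, ∀ i, f i ≫ t = g i := by
  obtain ⟨c, hcol, _, huniv⟩ := hb ι Y
  let τ : c.pt ⟶ X := Cofan.IsColimit.desc hcol f
  let γ : c.pt ⟶ M := Cofan.IsColimit.desc hcol g
  have hτf : ∀ i, c.inj i ≫ τ = f i := fun i => Cofan.IsColimit.fac hcol f i
  have hγg : ∀ i, c.inj i ≫ γ = g i := fun i => Cofan.IsColimit.fac hcol g i
  have hτ : Ext (fun _ : Unit => τ) := hf.of_refine fun i => ⟨(), c.inj i, hτf i⟩
  have hkp : pullback.fst τ τ ≫ γ = pullback.snd τ τ ≫ γ := by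
    have h1 : Ext (fun i => pullback.snd (c.inj i) (pullback.fst τ τ)) :=
      ext_of_isColimit _ (cofan_pullback_isColimit c huniv (pullback.fst τ τ)
        (fun i => pullback.fst _ _) (fun i => pullback.snd _ _)
        (fun i => IsPullback.of_hasPullback _ _)).some
    have h2 : ∀ i, Ext (fun j => pullback.snd (c.inj j)
        (pullback.snd (c.inj i) (pullback.fst τ τ) ≫ pullback.snd τ τ)) := fun i =>
      ext_of_isColimit _ (cofan_pullback_isColimit c huniv
        (pullback.snd (c.inj i) (pullback.fst τ τ) ≫ pullback.snd τ τ)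
        (fun j => pullback.fst _ _) (fun j => pullback.snd _ _)
        (fun j => IsPullback.of_hasPullback _ _)).some
    refine (h1.comp h2).hom_ext _ _ ?_
    rintro ⟨i, j⟩
    have ci : pullback.fst (c.inj i) (pullback.fst τ τ) ≫ c.inj i =
        pullback.snd (c.inj i) (pullback.fst τ τ) ≫ pullback.fst τ τ := pullback.condition
    have cj : pullback.fst (c.inj j)
        (pullback.snd (c.inj i) (pullback.fst τ τ) ≫ pullback.snd τ τ) ≫ c.inj j =
        pullback.snd (c.inj j) (pullback.snd (c.inj i) (pullback.fst τ τ) ≫ pullback.snd τ τ) ≫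
          pullback.snd (c.inj i) (pullback.fst τ τ) ≫ pullback.snd τ τ := pullback.condition
    simp only [Category.assoc]
    rw [← reassoc_of% ci, ← reassoc_of% cj, hγg, hγg, ← Category.assoc]
    apply hg
    rw [Category.assoc, ← hτf i, ← hτf j, reassoc_of% ci, reassoc_of% cj, pullback.condition]
  obtain ⟨t, ht⟩ := Ext.single_desc hc hτ γ hkp
  exact ⟨t, fun i => by rw [← hτf i, Category.assoc, ht, hγg]⟩

end Axioms

/-- The data of Giraud's axioms together with a chosen small generating family. -/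
structure GiraudData (E : Type v) [Category.{u} E] [HasFiniteLimits E] where
  hc : ∀ (R A : E) (p₁ p₂ : R ⟶ A), SGA4.IsEquivRel p₁ p₂ →
    SGA4.IsEffectiveUniversalEquivRel p₁ p₂
  hb : SGA4.HasDisjointUniversalCoproducts.{v, u} E
  A : Type u
  G : A → E
  hG : ∀ X : E, Ext (fun p : Σ a : A, (G a ⟶ X) => p.2)

section Topology

variable [HasFiniteLimits E] (D : GiraudData E)

/-- A sieve is covering when its family of arrows is extremal. -/
def SieveExt {X : E} (S : Sieve X) : Prop :=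
  Ext (fun p : Σ Y : E, {f : Y ⟶ X // S f} => p.2.1)

lemma sieveExt_iff_gen {X : E} (S : Sieve X) :
    SieveExt S ↔ Ext (fun p : Σ a : D.A, {f : D.G a ⟶ X // S f} => p.2.1) := by
  constructor
  · intro hS B m _ hm
    refine hS m fun p => ?_
    have : IsIso (pullback.snd m p.2.1) := D.hG p.1 (pullback.snd m p.2.1) fun q => by
      obtain ⟨t, ht⟩ := hm ⟨q.1, ⟨q.2 ≫ p.2.1, S.downward_closed p.2.2 q.2⟩⟩
      exact ⟨pullback.lift t q.2 ht, pullback.lift_snd _ _ _⟩
    exact ⟨inv (pullback.snd m p.2.1) ≫ pullback.fst m p.2.1, by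
      rw [Category.assoc, pullback.condition, IsIso.inv_hom_id_assoc]⟩
  · intro h
    exact h.of_refine fun p => ⟨⟨D.G p.1, p.2⟩, 𝟙 _, Category.id_comp _⟩

/-- The topology on `E` whose covering sieves are the extremal ones. -/
def topK : GrothendieckTopology E where
  sieves X := {S | SieveExt S}
  top_mem' X := ext_of_section _ ⟨X, ⟨𝟙 X, trivial⟩⟩ (𝟙 X) (Category.comp_id _)
  pullback_stable' := by
    intro X X' S g hS
    have hS₀ := (sieveExt_iff_gen D S).1 hS
    have := Ext.baseChange D.hc D.hb hS₀ g (fun p => pullback.fst p.2.1 g)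
      (fun p => pullback.snd p.2.1 g) (fun p => IsPullback.of_hasPullback _ _)
    refine this.of_refine fun p => ⟨⟨_, ⟨pullback.snd p.2.1 g, ?_⟩⟩, 𝟙 _, Category.id_comp _⟩
    show S (pullback.snd p.2.1 g ≫ g)
    rw [← pullback.condition]
    exact S.downward_closed p.2.2 _
  transitive' := by
    intro X S hS R hR
    have := Ext.comp hS
      (g := fun p (q : Σ Z : E, {h : Z ⟶ p.1 // (R.pullback p.2.1) h}) => q.2.1)
      (fun p => hR p.2.2)
    exact this.of_refine fun p => ⟨⟨_, ⟨p.2.2.1 ≫ p.1.2.1, p.2.2.2⟩⟩, 𝟙 _, Category.id_comp _⟩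

lemma mem_topK {X : E} (S : Sieve X) : S ∈ topK D X ↔ SieveExt S := Iff.rfl

/-- Representable presheaves are sheaves for `topK`. -/
theorem isSheaf_yoneda (M : E) : Presieve.IsSheaf (topK D) (yoneda.obj M) := by
  intro X S hS x hx
  have hS' : SieveExt S := hS
  have hS₀ := (sieveExt_iff_gen D S).1 hS'
  obtain ⟨t, ht⟩ := Ext.desc D.hc D.hb hS₀ (fun p => x p.2.1 p.2.2) (by
    intro p q W a b hab
    exact hx a b p.2.2 q.2.2 hab)
  have hamal : ∀ (Y : E) (f : Y ⟶ X) (hf : S f), f ≫ t = x f hf := by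
    intro Y f hf
    refine (D.hG Y).hom_ext _ _ fun p => ?_
    have h1 := ht ⟨p.1, ⟨p.2 ≫ f, S.downward_closed hf p.2⟩⟩
    have h2 := hx (𝟙 _) p.2 (S.downward_closed hf p.2) hf (Category.id_comp _)
    have h2' : x (p.2 ≫ f) (S.downward_closed hf p.2) = p.2 ≫ x f hf := by
      refine Eq.trans ?_ h2
      exact (Category.id_comp _).symm
    show p.2 ≫ f ≫ t = p.2 ≫ x f hf
    rw [← Category.assoc]
    exact h1.trans h2'
  refine ⟨t, fun Y f hf => hamal Y f hf, fun t' ht' => ?_⟩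
  refine hS'.hom_ext _ _ fun p => ?_
  exact (ht' p.2.1 p.2.2).trans (hamal _ p.2.1 p.2.2).symm

variable {D}
variable {F : Eᵒᵖ ⥤ Type u} (hF : Presieve.IsSheaf (topK D) F)

include hF in
lemma sep_of_ext {X : E} {ι : Type w} {Y : ι → E} {f : ∀ i, Y i ⟶ X} (hf : Ext f)
    (t₁ t₂ : F.obj (op X)) (h : ∀ i, F.map (f i).op t₁ = F.map (f i).op t₂) : t₁ = t₂ := by
  have hS : Presheaf.equalizerSieve (F := F) (X := op X) t₁ t₂ ∈ topK D X :=
    hf.of_refine fun i => ⟨⟨Y i, ⟨f i, h i⟩⟩, 𝟙 _, Category.id_comp _⟩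
  exact (hF _ hS).isSeparatedFor.ext fun Y g hg => hg

include hF in
lemma glue_of_ext {X : E} {ι : Type w} {Y : ι → E} {f : ∀ i, Y i ⟶ X} (hf : Ext f)
    (x : ∀ i, F.obj (op (Y i)))
    (hx : ∀ i j (W : E) (a : W ⟶ Y i) (b : W ⟶ Y j), a ≫ f i = b ≫ f j →
      F.map a.op (x i) = F.map b.op (x j)) :
    ∃ t : F.obj (op X), ∀ i, F.map (f i).op t = x i := by
  have hS : Sieve.generate (Presieve.ofArrows Y f) ∈ topK D X :=
    hf.of_refine fun i => ⟨⟨Y i, ⟨f i, Sieve.le_generate _ _ _ (Presieve.ofArrows.mk i)⟩⟩, 𝟙 _,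
      Category.id_comp _⟩
  have h1 := (Presieve.isSheafFor_iff_generate _).2 (hF _ hS)
  rw [Presieve.isSheafFor_arrows_iff] at h1
  obtain ⟨t, ht, _⟩ := h1 x hx
  exact ⟨t, ht⟩

/-- Initial objects are strict. -/
lemma strict_initial (D : GiraudData E) {I W : E} (hI : IsInitial I) (z : W ⟶ I) :
    Nonempty (IsInitial W) := by
  obtain ⟨c₀, hcol₀, _, huniv₀⟩ := D.hb PEmpty (fun e => e.elim)
  obtain ⟨hW⟩ := cofan_pullback_isColimit c₀ huniv₀ (z ≫ hI.to c₀.pt) (P := fun e => e.elim)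
    (fun e => e.elim) (fun e => e.elim) (fun e => e.elim)
  exact ⟨IsInitial.ofUniqueHom (fun Z => Cofan.IsColimit.desc hW (fun e => e.elim))
    (fun Z m => Cofan.IsColimit.hom_ext hW _ _ (fun e => e.elim))⟩

include hF in
lemma subsingleton_of_initial {W : E} (hW : IsInitial W) (t₁ t₂ : F.obj (op W)) : t₁ = t₂ := by
  have hE : Ext (X := W) (ι := PEmpty.{1}) (Y := fun e => e.elim) (fun e => e.elim) := by
    intro B m _ _
    obtain ⟨hB⟩ := strict_initial D hW m
    exact ⟨⟨hW.to B, hB.hom_ext _ _, hW.hom_ext _ _⟩⟩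
  exact sep_of_ext hF hE t₁ t₂ (fun e => e.elim)

include hF in
/-- Every sheaf of small sets for `topK` is representable. -/
theorem exists_representing :
    ∃ (B : E) (x : F.obj (op B)), ∀ X : E, Function.Bijective (fun t : X ⟶ B => F.map t.op x) := by
  classical
  -- Step 1: the coproduct of generators and the tautological section
  obtain ⟨cA, hcolA, hdisj, -⟩ :=
    D.hb (Σ a : D.A, F.obj (op (D.G a))) (fun p => D.G p.1)
  obtain ⟨xbar, hxbar⟩ : ∃ xbar : F.obj (op cA.pt),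
      ∀ p : (Σ a : D.A, F.obj (op (D.G a))), F.map (cA.inj p).op xbar = p.2 := by
    refine glue_of_ext hF (ext_of_isColimit cA hcolA) (fun p => p.2) ?_
    intro p q W a b hab
    by_cases hpq : p = q
    · subst hpq
      have : Mono (cA.inj p) := hdisj.mono_inj hcolA p
      rw [(cancel_mono (cA.inj p)).1 hab]
    · obtain ⟨hI⟩ := hdisj.nonempty_isInitial_of_ne hcolA hpq
        (pullback.cone (cA.inj p) (cA.inj q)) (pullback.isLimit _ _)
      obtain ⟨hW⟩ := strict_initial D hI (pullback.lift a b hab)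
      exact subsingleton_of_initial hF hW _ _
  -- Step 2: the relation
  obtain ⟨cR, hcolR, -, -⟩ := D.hb
    (Σ a : D.A, {ab : (D.G a ⟶ cA.pt) × (D.G a ⟶ cA.pt) //
      F.map ab.1.op xbar = F.map ab.2.op xbar}) (fun q => D.G q.1)
  obtain ⟨R, πR, mR, hπm, hmono, hpoR, -⟩ := exists_image D.hc
    (Cofan.IsColimit.desc hcolR (fun q => prod.lift q.2.1.1 q.2.1.2) : cR.pt ⟶ cA.pt ⨯ cA.pt)
  have hπR : Ext (fun _ : Unit => πR) := ext_single_of_isPushout hpoR
  have hinj : ∀ q, cR.inj q ≫ πR ≫ mR = prod.lift q.2.1.1 q.2.1.2 := fun q => by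
    rw [hπm]
    exact Cofan.IsColimit.fac hcolR _ q
  have claim1 : F.map (mR ≫ prod.fst).op xbar = F.map (mR ≫ prod.snd).op xbar := by
    have hcov := hπR.comp (κ := fun _ => _) (g := fun _ q => cR.inj q)
      (fun _ => ext_of_isColimit cR hcolR)
    refine sep_of_ext hF hcov _ _ fun q => ?_
    rw [← FunctorToTypes.map_comp_apply, ← FunctorToTypes.map_comp_apply, ← op_comp, ← op_comp]
    have e1 : (cR.inj q.2 ≫ πR) ≫ mR ≫ prod.fst = q.2.2.1.1 := by
      rw [Category.assoc, ← Category.assoc πR, ← Category.assoc, hinj, prod.lift_fst]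
    have e2 : (cR.inj q.2 ≫ πR) ≫ mR ≫ prod.snd = q.2.2.1.2 := by
      rw [Category.assoc, ← Category.assoc πR, ← Category.assoc, hinj, prod.lift_snd]
    rw [e1, e2]
    exact q.2.2.2
  have claim2 : ∀ (X : E) (a b : X ⟶ cA.pt), F.map a.op xbar = F.map b.op xbar →
      ∃ t : X ⟶ R, t ≫ mR ≫ prod.fst = a ∧ t ≫ mR ≫ prod.snd = b := by
    intro X a b hab
    have hn : IsIso (pullback.snd mR (prod.lift a b)) := D.hG X _ fun p => by
      have hq : F.map (p.2 ≫ a).op xbar = F.map (p.2 ≫ b).op xbar := by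
        rw [op_comp, op_comp, FunctorToTypes.map_comp_apply, FunctorToTypes.map_comp_apply, hab]
      refine ⟨pullback.lift (cR.inj ⟨p.1, ⟨(p.2 ≫ a, p.2 ≫ b), hq⟩⟩ ≫ πR) p.2 ?_,
        pullback.lift_snd _ _ _⟩
      rw [Category.assoc, hinj]
      exact (prod.comp_lift p.2 a b).symm
    have ht : (inv (pullback.snd mR (prod.lift a b)) ≫ pullback.fst mR (prod.lift a b)) ≫ mR =
        prod.lift a b := by
      rw [Category.assoc, pullback.condition, IsIso.inv_hom_id_assoc]
    exact ⟨_, by rw [← Category.assoc, ht, prod.lift_fst], by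
      rw [← Category.assoc, ht, prod.lift_snd]⟩
  have hrel : ∀ (T : E) (a b : T ⟶ cA.pt),
      (∃ f : T ⟶ R, f ≫ mR ≫ prod.fst = a ∧ f ≫ mR ≫ prod.snd = b) ↔
        F.map a.op xbar = F.map b.op xbar := by
    intro T a b
    constructor
    · rintro ⟨f, rfl, rfl⟩
      rw [op_comp, op_comp (f := f), FunctorToTypes.map_comp_apply,
        FunctorToTypes.map_comp_apply, claim1]
    · exact claim2 T a b
  have heq : SGA4.IsEquivRel (mR ≫ prod.fst) (mR ≫ prod.snd) := by
    intro T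
    constructor
    · intro f f' hff'
      simp only [Prod.mk.injEq] at hff'
      rw [← cancel_mono mR]
      apply Limits.prod.hom_ext
      · simpa using hff'.1
      · simpa using hff'.2
    · exact ⟨fun a => (hrel T a a).2 rfl, fun {a b} h => (hrel T b a).2 ((hrel T a b).1 h).symm,
        fun {a b c} h1 h2 => (hrel T a c).2 (((hrel T a b).1 h1).trans ((hrel T b c).1 h2))⟩
  -- Step 3: the quotient
  obtain ⟨B, π, hpb, hpo, -⟩ := D.hc _ _ _ _ heq
  have hπ : Ext (fun _ : Unit => π) := ext_single_of_isPushout hpo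
  obtain ⟨xB, hxB⟩ : ∃ xB : F.obj (op B), F.map π.op xB = xbar := by
    obtain ⟨t, ht⟩ := glue_of_ext hF hπ (fun _ => xbar) (by
      intro _ _ W a b hab
      exact (hrel W a b).1 ⟨hpb.lift a b hab, hpb.lift_fst _ _ _, hpb.lift_snd _ _ _⟩)
    exact ⟨t, ht ()⟩
  have inj : ∀ X : E, Function.Injective (fun t : X ⟶ B => F.map t.op xB) := by
    intro X t₁ t₂ h12
    have h12' : F.map t₁.op xB = F.map t₂.op xB := h12
    have hr : Ext (fun _ : Unit => pullback.snd π t₁) :=
      Ext.single_pullback D.hc hπ (IsPullback.of_hasPullback π t₁)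
    have hr' : Ext (fun _ : Unit => pullback.snd π (pullback.snd π t₁ ≫ t₂)) :=
      Ext.single_pullback D.hc hπ (IsPullback.of_hasPullback _ _)
    have c1 : pullback.fst π t₁ ≫ π = pullback.snd π t₁ ≫ t₁ := pullback.condition
    have c2 : pullback.fst π (pullback.snd π t₁ ≫ t₂) ≫ π =
        pullback.snd π (pullback.snd π t₁ ≫ t₂) ≫ pullback.snd π t₁ ≫ t₂ := pullback.condition
    have hx : F.map (pullback.snd π (pullback.snd π t₁ ≫ t₂) ≫ pullback.fst π t₁).op xbar =
        F.map (pullback.fst π (pullback.snd π t₁ ≫ t₂)).op xbar := by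
      rw [← hxB, ← FunctorToTypes.map_comp_apply, ← FunctorToTypes.map_comp_apply, ← op_comp,
        ← op_comp, Category.assoc, c1, c2, ← Category.assoc, ← Category.assoc _ _ t₂, op_comp,
        op_comp (g := t₂), FunctorToTypes.map_comp_apply, FunctorToTypes.map_comp_apply, h12']
    obtain ⟨w, hw1, hw2⟩ := claim2 _ _ _ hx
    have hπeq : (pullback.snd π (pullback.snd π t₁ ≫ t₂) ≫ pullback.fst π t₁) ≫ π =
        pullback.fst π (pullback.snd π t₁ ≫ t₂) ≫ π := by
      calc (pullback.snd π (pullback.snd π t₁ ≫ t₂) ≫ pullback.fst π t₁) ≫ π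
          = (w ≫ mR ≫ prod.fst) ≫ π := by rw [hw1]
        _ = w ≫ (mR ≫ prod.fst) ≫ π := Category.assoc _ _ _
        _ = w ≫ (mR ≫ prod.snd) ≫ π := by rw [hpb.w]
        _ = (w ≫ mR ≫ prod.snd) ≫ π := (Category.assoc _ _ _).symm
        _ = pullback.fst π (pullback.snd π t₁ ≫ t₂) ≫ π := by rw [hw2]
    refine hr.hom_ext _ _ fun _ => ?_
    refine hr'.hom_ext _ _ fun _ => ?_
    show pullback.snd π (pullback.snd π t₁ ≫ t₂) ≫ pullback.snd π t₁ ≫ t₁ =
      pullback.snd π (pullback.snd π t₁ ≫ t₂) ≫ pullback.snd π t₁ ≫ t₂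
    rw [← c1, ← c2, ← Category.assoc, hπeq]
  refine ⟨B, xB, fun X => ⟨inj X, ?_⟩⟩
  intro s
  have htg : ∀ p : (Σ a : D.A, (D.G a ⟶ X)),
      F.map (cA.inj ⟨p.1, F.map p.2.op s⟩ ≫ π).op xB = F.map p.2.op s := fun p => by
    rw [op_comp, FunctorToTypes.map_comp_apply, hxB, hxbar]
  obtain ⟨t, ht⟩ := Ext.desc D.hc D.hb (D.hG X)
    (fun p => cA.inj ⟨p.1, F.map p.2.op s⟩ ≫ π) (by
      intro p p' W a b hab
      apply inj W
      show F.map (a ≫ cA.inj ⟨p.1, F.map p.2.op s⟩ ≫ π).op xB =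
        F.map (b ≫ cA.inj ⟨p'.1, F.map p'.2.op s⟩ ≫ π).op xB
      rw [op_comp, op_comp (f := b), FunctorToTypes.map_comp_apply,
        FunctorToTypes.map_comp_apply, htg, htg, ← FunctorToTypes.map_comp_apply,
        ← FunctorToTypes.map_comp_apply, ← op_comp, ← op_comp, hab])
  refine ⟨t, ?_⟩
  show F.map t.op xB = s
  refine sep_of_ext hF (D.hG X) _ _ fun p => ?_
  rw [← FunctorToTypes.map_comp_apply, ← op_comp, ht p, htg p]

end Topology

section Assembly

variable [HasFiniteLimits E] (D : GiraudData E)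

/-- The Yoneda functor into sheaves for `topK`. -/
def yonedaK : E ⥤ Sheaf (topK D) (Type u) :=
  ObjectProperty.lift (Presheaf.IsSheaf (topK D)) yoneda
    (fun M => (isSheaf_iff_isSheaf_of_type _ _).2 (isSheaf_yoneda D M))

/-- The Yoneda functor into sheaves is fully faithful. -/
def yonedaKFullyFaithful : (yonedaK D).FullyFaithful :=
  Functor.FullyFaithful.ofCompFaithful (G := sheafToPresheaf (topK D) (Type u))
    (Yoneda.fullyFaithful (C := E))

instance : (yonedaK D).Full := (yonedaKFullyFaithful D).full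
instance : (yonedaK D).Faithful := (yonedaKFullyFaithful D).faithful

instance : (yonedaK D).EssSurj := ⟨fun F => by
  obtain ⟨B, x, hx⟩ := exists_representing (D := D) (F := F.obj)
    ((isSheaf_iff_isSheaf_of_type _ _).1 F.property)
  let φ : yoneda.obj B ⟶ F.obj := yonedaEquiv.symm x
  have : IsIso φ := by
    rw [NatTrans.isIso_iff_isIso_app]
    intro X
    rw [isIso_iff_bijective]
    exact hx X.unop
  exact ⟨B, ⟨(fullyFaithfulSheafToPresheaf _ _).preimageIso (@asIso _ _ _ _ φ this)⟩⟩⟩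

instance : (yonedaK D).IsEquivalence where

/-- **Giraud's theorem**, from the packaged data. -/
theorem isTopos_of_giraudData (D : GiraudData E) : SGA4.IsTopos.{v, u} E := by
  let i : InducedCategory E D.G ⥤ E := inducedFunctor D.G
  haveI : i.IsCoverDense (topK D) := ⟨fun X => by
    show SieveExt _
    exact (D.hG X).of_refine fun p => ⟨⟨D.G p.1, ⟨p.2, ⟨⟨p.1, 𝟙 _, p.2, Category.id_comp _⟩⟩⟩⟩,
      𝟙 _, Category.id_comp _⟩⟩
  let e₁ : E ≌ Sheaf (topK D) (Type u) := (yonedaK D).asEquivalence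
  let e₂ : Sheaf (i.inducedTopology (topK D)) (Type u) ≌ Sheaf (topK D) (Type u) :=
    i.sheafInducedTopologyEquivOfIsCoverDense (topK D) (Type u)
  exact ⟨InducedCategory E D.G, inferInstance, i.inducedTopology (topK D), ⟨e₁.trans e₂.symm⟩⟩

end Assembly

/-- **Giraud's theorem** (SGA 4 IV 1.2, ii ⇒ i). -/
theorem giraud [HasFiniteLimits E]
    (hb : SGA4.HasDisjointUniversalCoproducts.{v, u} E)
    (hc : ∀ (R A : E) (p₁ p₂ : R ⟶ A), SGA4.IsEquivRel p₁ p₂ →
      SGA4.IsEffectiveUniversalEquivRel p₁ p₂)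
    (hd : ∃ P : ObjectProperty E, ObjectProperty.Small.{u} P ∧ P.IsDetecting) :
    SGA4.IsTopos.{v, u} E := by
  obtain ⟨P, hPs, hPd⟩ := hd
  haveI := hPs
  have hG : ∀ X : E, Ext (fun p : Σ a : Shrink.{u} (Subtype P),
      (((equivShrink (Subtype P)).symm a).1 ⟶ X) => p.2) := by
    intro X B m _ hm
    apply hPd
    intro G' hG' h
    obtain ⟨a, ha⟩ : ∃ a : Shrink.{u} (Subtype P),
        (equivShrink (Subtype P)).symm a = ⟨G', hG'⟩ :=
      ⟨equivShrink _ ⟨G', hG'⟩, Equiv.symm_apply_apply _ _⟩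
    have hGa : ((equivShrink (Subtype P)).symm a).1 = G' := congrArg Subtype.val ha
    subst hGa
    obtain ⟨t, ht⟩ := hm ⟨a, h⟩
    exact ⟨t, ht, fun t' ht' => (cancel_mono m).1 (ht'.trans ht.symm)⟩
  exact isTopos_of_giraudData ⟨hc, hb, Shrink.{u} (Subtype P),
    fun a => ((equivShrink (Subtype P)).symm a).1, hG⟩

end Groth.Agent.Lib.Helper9.Giraud
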