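import Mathlib

/-!
# Abstract Artin gluing (recollement)

Let `jS : E ⥤ A` have a fully faithful right adjoint `jP`, let `L : E ⥤ F` have a fully faithful
right adjoint `ι`; assume `jS` and `L` preserve pullbacks, are jointly conservative, and that `jS`
inverts every morphism in the image of `ι`. Then `E` is equivalent to the comma category of
`𝟭 F` and `jP ⋙ L`.
-/

namespace Groth.Agent.Lib.Helper9.Glue

open CategoryTheory Limits

universe v₁ v₂ v₃ u₁ u₂ u₃

variable {E : Type u₁} [Category.{v₁} E] {A : Type u₂} [Category.{v₂} A]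
  {F : Type u₃} [Category.{v₃} F]
  {jS : E ⥤ A} {jP : A ⥤ E} (adj₂ : jS ⊣ jP) {L : E ⥤ F} {ι : F ⥤ E} (adj : L ⊣ ι)

/-- The gluing functor `X ↦ (L X, jS X, L X ⟶ L (jP (jS X)))`. -/
@[simps]
def glueFunctor : E ⥤ Comma (𝟭 F) (jP ⋙ L) where
  obj X := { left := L.obj X, right := jS.obj X, hom := L.map (adj₂.unit.app X) }
  map {X Y} m :=
    { left := L.map m
      right := jS.map m
      w := by
        dsimp
        rw [← L.map_comp, ← L.map_comp, adj₂.unit_naturality] }
  map_id X := by
    apply CommaMorphism.ext <;> simp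
  map_comp f g := by
    apply CommaMorphism.ext <;> simp

include adj in
lemma isIso_map_unit [IsIso adj.counit] (X : E) : IsIso (L.map (adj.unit.app X)) := by
  have h : L.map (adj.unit.app X) ≫ adj.counit.app (L.obj X) = 𝟙 _ :=
    adj.left_triangle_components X
  have : IsIso (L.map (adj.unit.app X) ≫ adj.counit.app (L.obj X)) := by
    rw [h]; infer_instance
  exact IsIso.of_isIso_comp_right _ (adj.counit.app (L.obj X))

variable [HasPullbacks E] [IsIso adj₂.counit] [IsIso adj.counit]
  [PreservesLimitsOfShape WalkingCospan jS] [PreservesLimitsOfShape WalkingCospan L]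
  (hcons : ∀ {X Y : E} (m : X ⟶ Y), IsIso (jS.map m) → IsIso (L.map m) → IsIso m)
  (hterm : ∀ {Y Y' : F} (g : Y ⟶ Y'), IsIso (jS.map (ι.map g)))

include hcons hterm in
/-- The fracture square is cartesian. -/
lemma isPullback_fracture (X : E) :
    IsPullback (adj.unit.app X) (adj₂.unit.app X) (ι.map (L.map (adj₂.unit.app X)))
      (adj.unit.app (jP.obj (jS.obj X))) := by
  have w : adj.unit.app X ≫ ι.map (L.map (adj₂.unit.app X)) =
      adj₂.unit.app X ≫ adj.unit.app (jP.obj (jS.obj X)) :=
    adj.unit_naturality (adj₂.unit.app X)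
  let P := pullback (ι.map (L.map (adj₂.unit.app X))) (adj.unit.app (jP.obj (jS.obj X)))
  let c : X ⟶ P := pullback.lift _ _ w
  have hP := IsPullback.of_hasPullback (ι.map (L.map (adj₂.unit.app X)))
    (adj.unit.app (jP.obj (jS.obj X)))
  have hc1 : c ≫ pullback.fst _ _ = adj.unit.app X := pullback.lift_fst _ _ _
  have hc2 : c ≫ pullback.snd _ _ = adj₂.unit.app X := pullback.lift_snd _ _ _
  have hLc : IsIso (L.map c) := by
    have h1 : IsIso (L.map (adj.unit.app (jP.obj (jS.obj X)))) := isIso_map_unit adj _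
    have h2 : IsIso (L.map (pullback.fst (ι.map (L.map (adj₂.unit.app X)))
        (adj.unit.app (jP.obj (jS.obj X))))) := (hP.map L).isIso_fst_of_isIso
    have h3 : IsIso (L.map (adj.unit.app X)) := isIso_map_unit adj _
    have h4 : IsIso (L.map c ≫ L.map (pullback.fst (ι.map (L.map (adj₂.unit.app X)))
        (adj.unit.app (jP.obj (jS.obj X))))) := by
      rw [← L.map_comp, hc1]; exact h3
    exact IsIso.of_isIso_comp_right _ (L.map (pullback.fst (ι.map (L.map (adj₂.unit.app X)))
        (adj.unit.app (jP.obj (jS.obj X)))))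
  have hjc : IsIso (jS.map c) := by
    have h1 : IsIso (jS.map (ι.map (L.map (adj₂.unit.app X)))) := hterm _
    have h2 : IsIso (jS.map (pullback.snd (ι.map (L.map (adj₂.unit.app X)))
        (adj.unit.app (jP.obj (jS.obj X))))) := (hP.map jS).isIso_snd_of_isIso
    have h3 : IsIso (jS.map (adj₂.unit.app X)) := isIso_map_unit adj₂ _
    have h4 : IsIso (jS.map c ≫ jS.map (pullback.snd (ι.map (L.map (adj₂.unit.app X)))
        (adj.unit.app (jP.obj (jS.obj X))))) := by
      rw [← jS.map_comp, hc2]; exact h3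
    exact IsIso.of_isIso_comp_right _ (jS.map (pullback.snd (ι.map (L.map (adj₂.unit.app X)))
        (adj.unit.app (jP.obj (jS.obj X)))))
  have hciso : IsIso c := hcons c hjc hLc
  exact IsPullback.of_iso_pullback ⟨w⟩ (asIso c) hc1 hc2

omit [HasPullbacks E] [IsIso adj₂.counit] [IsIso adj.counit]
  [PreservesLimitsOfShape WalkingCospan jS] [PreservesLimitsOfShape WalkingCospan L] in
lemma unit_nat {X Y : E} (f : X ⟶ Y) :
    f ≫ adj.unit.app Y = adj.unit.app X ≫ ι.map (L.map f) :=
  adj.unit.naturality f

include adj hcons hterm in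
lemma glueFunctor_faithful : (glueFunctor adj₂ (L := L)).Faithful := by
  refine ⟨fun {T X} m m' h => ?_⟩
  have hL : L.map m = L.map m' := congrArg CommaMorphism.left h
  have hj : jS.map m = jS.map m' := congrArg CommaMorphism.right h
  apply (isPullback_fracture adj₂ adj hcons hterm X).hom_ext
  · rw [unit_nat adj m, unit_nat adj m', hL]
  · rw [unit_nat adj₂ m, unit_nat adj₂ m', hj]

include adj hcons hterm in
lemma glueFunctor_full : (glueFunctor adj₂ (L := L)).Full := by
  refine ⟨fun {T X} φ => ?_⟩
  let α : L.obj T ⟶ L.obj X := φ.left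
  let β : jS.obj T ⟶ jS.obj X := φ.right
  have hw : α ≫ L.map (adj₂.unit.app X) = L.map (adj₂.unit.app T) ≫ L.map (jP.map β) := φ.w
  have hab : (adj.unit.app T ≫ ι.map α) ≫ ι.map (L.map (adj₂.unit.app X)) =
      (adj₂.unit.app T ≫ jP.map β) ≫ adj.unit.app _ := by
    rw [Category.assoc, ← ι.map_comp, hw, ← L.map_comp]
    exact (unit_nat adj _).symm
  have hpb := isPullback_fracture adj₂ adj hcons hterm X
  refine ⟨hpb.lift _ _ hab, ?_⟩
  apply CommaMorphism.ext
  · show L.map (hpb.lift _ _ hab) = α
    apply (adj.homEquiv T (L.obj X)).injective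
    rw [adj.homEquiv_unit, adj.homEquiv_unit, ← unit_nat adj]
    exact hpb.lift_fst _ _ hab
  · show jS.map (hpb.lift _ _ hab) = β
    apply (adj₂.homEquiv T (jS.obj X)).injective
    rw [adj₂.homEquiv_unit, adj₂.homEquiv_unit, ← unit_nat adj₂]
    exact hpb.lift_snd _ _ hab

omit [HasPullbacks E] [IsIso adj₂.counit] [IsIso adj.counit]
  [PreservesLimitsOfShape WalkingCospan jS] [PreservesLimitsOfShape WalkingCospan L] in
lemma counit_nat {Y Y' : F} (g : Y ⟶ Y') :
    L.map (ι.map g) ≫ adj.counit.app Y' = adj.counit.app Y ≫ g :=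
  adj.counit.naturality g

omit [HasPullbacks E] [IsIso adj₂.counit] [IsIso adj.counit]
  [PreservesLimitsOfShape WalkingCospan jS] [PreservesLimitsOfShape WalkingCospan L] in
lemma right_tri (Y : F) : adj.unit.app (ι.obj Y) ≫ ι.map (adj.counit.app Y) = 𝟙 _ :=
  adj.right_triangle_components Y

omit [HasPullbacks E] [IsIso adj₂.counit] [IsIso adj.counit]
  [PreservesLimitsOfShape WalkingCospan jS] [PreservesLimitsOfShape WalkingCospan L] in
lemma left_tri (X : E) : L.map (adj.unit.app X) ≫ adj.counit.app (L.obj X) = 𝟙 _ :=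
  adj.left_triangle_components X

include adj hterm in
lemma glueFunctor_essSurj : (glueFunctor adj₂ (L := L)).EssSurj := by
  refine ⟨fun Y => ?_⟩
  let h : Y.left ⟶ L.obj (jP.obj Y.right) := Y.hom
  have hP := IsPullback.of_hasPullback (ι.map h) (adj.unit.app (jP.obj Y.right))
  have h1 : IsIso (L.map (adj.unit.app (jP.obj Y.right))) := isIso_map_unit adj _
  have h2 : IsIso (L.map (pullback.fst (ι.map h) (adj.unit.app (jP.obj Y.right)))) :=
    (hP.map L).isIso_fst_of_isIso
  have h3 : IsIso (jS.map (ι.map h)) := hterm _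
  have h4 : IsIso (jS.map (pullback.snd (ι.map h) (adj.unit.app (jP.obj Y.right)))) :=
    (hP.map jS).isIso_snd_of_isIso
  let eL : L.obj (pullback (ι.map h) (adj.unit.app (jP.obj Y.right))) ≅ Y.left :=
    asIso (L.map (pullback.fst (ι.map h) (adj.unit.app (jP.obj Y.right)))) ≪≫
      asIso (adj.counit.app Y.left)
  let eR : jS.obj (pullback (ι.map h) (adj.unit.app (jP.obj Y.right))) ≅ Y.right :=
    asIso (jS.map (pullback.snd (ι.map h) (adj.unit.app (jP.obj Y.right)))) ≪≫
      asIso (adj₂.counit.app Y.right)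
  refine ⟨pullback (ι.map h) (adj.unit.app (jP.obj Y.right)), ⟨Comma.isoMk eL eR ?_⟩⟩
  show (L.map (pullback.fst (ι.map h) (adj.unit.app (jP.obj Y.right))) ≫
      adj.counit.app Y.left) ≫ h =
    L.map (adj₂.unit.app _) ≫ L.map (jP.map
      (jS.map (pullback.snd (ι.map h) (adj.unit.app (jP.obj Y.right))) ≫
        adj₂.counit.app Y.right))
  have hl : (L.map (pullback.fst (ι.map h) (adj.unit.app (jP.obj Y.right))) ≫
      adj.counit.app Y.left) ≫ h =
      L.map (pullback.snd (ι.map h) (adj.unit.app (jP.obj Y.right))) := by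
    calc (L.map (pullback.fst (ι.map h) (adj.unit.app (jP.obj Y.right))) ≫
          adj.counit.app Y.left) ≫ h
        = L.map (pullback.fst (ι.map h) (adj.unit.app (jP.obj Y.right))) ≫
          (L.map (ι.map h) ≫ adj.counit.app _) := by
          rw [Category.assoc, counit_nat adj h]
      _ = L.map (pullback.fst (ι.map h) (adj.unit.app (jP.obj Y.right)) ≫ ι.map h) ≫
          adj.counit.app _ := by
          rw [← Category.assoc, ← L.map_comp]
      _ = L.map (pullback.snd (ι.map h) (adj.unit.app (jP.obj Y.right)) ≫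
            adj.unit.app (jP.obj Y.right)) ≫ adj.counit.app _ := by
          rw [pullback.condition]
      _ = L.map (pullback.snd (ι.map h) (adj.unit.app (jP.obj Y.right))) ≫
          (L.map (adj.unit.app (jP.obj Y.right)) ≫ adj.counit.app _) := by
          rw [L.map_comp, Category.assoc]
      _ = L.map (pullback.snd (ι.map h) (adj.unit.app (jP.obj Y.right))) := by
          rw [left_tri adj, Category.comp_id]
  have hr : L.map (adj₂.unit.app _) ≫ L.map (jP.map
      (jS.map (pullback.snd (ι.map h) (adj.unit.app (jP.obj Y.right))) ≫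
        adj₂.counit.app Y.right)) =
      L.map (pullback.snd (ι.map h) (adj.unit.app (jP.obj Y.right))) := by
    rw [← L.map_comp]
    congr 1
    calc adj₂.unit.app _ ≫ jP.map
          (jS.map (pullback.snd (ι.map h) (adj.unit.app (jP.obj Y.right))) ≫
            adj₂.counit.app Y.right)
        = (adj₂.unit.app _ ≫ jP.map (jS.map
            (pullback.snd (ι.map h) (adj.unit.app (jP.obj Y.right))))) ≫
            jP.map (adj₂.counit.app Y.right) := by
          rw [jP.map_comp, Category.assoc]
      _ = (pullback.snd (ι.map h) (adj.unit.app (jP.obj Y.right)) ≫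
            adj₂.unit.app (jP.obj Y.right)) ≫ jP.map (adj₂.counit.app Y.right) :=
          congrArg (fun s => s ≫ jP.map (adj₂.counit.app Y.right)) (unit_nat adj₂ _).symm
      _ = pullback.snd (ι.map h) (adj.unit.app (jP.obj Y.right)) := by
          rw [Category.assoc, right_tri adj₂, Category.comp_id]
  rw [hl, hr]

include adj hcons hterm in
/-- Abstract Artin gluing. -/
theorem glueFunctor_isEquivalence : (glueFunctor adj₂ (L := L)).IsEquivalence :=
  ⟨glueFunctor_faithful adj₂ adj hcons hterm, glueFunctor_full adj₂ adj hcons hterm,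
    glueFunctor_essSurj adj₂ adj hterm⟩

end Groth.Agent.Lib.Helper9.Glue
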