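import Groth.Agent.Lib.Helper9Giraud
import Groth.Agent.Lib.Helper9Colim

/-!
# The glued category of a left exact accessible functor between sheaf topoi is a topos
-/

namespace Groth.Agent.Lib.Helper9.GlueTopos

open CategoryTheory Limits Opposite ToposFin

universe u

section CommaGeneral

variable {A B T : Type*} [Category* A] [Category* B] [Category* T] {L : A ⥤ T} {R : B ⥤ T}

instance preservesLimitsOfShape_fst {J' : Type*} [Category* J'] [HasLimitsOfShape J' A]
    [HasLimitsOfShape J' B] [PreservesLimitsOfShape J' R] :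
    PreservesLimitsOfShape J' (Comma.fst L R) where
  preservesLimit {F} :=
    preservesLimit_of_preserves_limit_cone
      (Comma.coneOfPreservesIsLimit F (limit.isLimit _) (limit.isLimit _)) (limit.isLimit _)

instance preservesLimitsOfShape_snd {J' : Type*} [Category* J'] [HasLimitsOfShape J' A]
    [HasLimitsOfShape J' B] [PreservesLimitsOfShape J' R] :
    PreservesLimitsOfShape J' (Comma.snd L R) where
  preservesLimit {F} :=
    preservesLimit_of_preserves_limit_cone
      (Comma.coneOfPreservesIsLimit F (limit.isLimit _) (limit.isLimit _)) (limit.isLimit _)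

instance preservesFiniteLimits_fst [HasFiniteLimits A] [HasFiniteLimits B]
    [PreservesFiniteLimits R] : PreservesFiniteLimits (Comma.fst L R) :=
  ⟨fun _ _ _ => inferInstance⟩

instance preservesFiniteLimits_snd [HasFiniteLimits A] [HasFiniteLimits B]
    [PreservesFiniteLimits R] : PreservesFiniteLimits (Comma.snd L R) :=
  ⟨fun _ _ _ => inferInstance⟩

def comma_isInitial {Z : Comma L R} (h₁ : IsInitial Z.left) (h₂ : IsInitial Z.right)
    (h₃ : IsInitial (L.obj Z.left)) : IsInitial Z :=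
  IsInitial.ofUniqueHom (fun W => ⟨h₁.to _, h₂.to _, h₃.hom_ext _ _⟩)
    (fun W m => by
      ext
      · exact h₁.hom_ext _ _
      · exact h₂.hom_ext _ _)

lemma comma_mono {Z W : Comma L R} (f : Z ⟶ W) [Mono f.left] [Mono f.right] : Mono f :=
  ⟨fun g h hgh => by
    ext
    · rw [← cancel_mono f.left]
      exact congrArg CommaMorphism.left hgh
    · rw [← cancel_mono f.right]
      exact congrArg CommaMorphism.right hgh⟩

lemma comma_isPullback [PreservesLimitsOfShape WalkingCospan R] {P X Y Z : Comma L R}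
    {a : P ⟶ X} {b : P ⟶ Y} {c : X ⟶ Z} {d : Y ⟶ Z} (comm : a ≫ c = b ≫ d)
    (h₁ : IsPullback a.left b.left c.left d.left)
    (h₂ : IsPullback a.right b.right c.right d.right) : IsPullback a b c d :=
  ⟨⟨comm⟩, ⟨Comma.fstSndJointlyReflectLimit
    ((isLimitMapConePullbackConeEquiv (Comma.fst L R) comm).symm h₁.isLimit)
    ((isLimitMapConePullbackConeEquiv (Comma.snd L R) comm).symm h₂.isLimit)⟩⟩

/-- The image under a colimit preserving functor of a colimit cofan. -/
noncomputable def cofanMapIsColimit {A' B' : Type*} [Category* A'] [Category* B'] (G : A' ⥤ B')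
    {ι : Type*} [PreservesColimitsOfShape (Discrete ι) G] {X : ι → A'} (c : Cofan X)
    (hc : IsColimit c) : IsColimit (Cofan.mk (G.obj c.pt) (fun i => G.map (c.inj i))) :=
  let h := isColimitOfPreserves G hc
  mkCofanColimit _
    (fun s => h.desc (Cocone.mk s.pt (Discrete.natTrans fun i => s.inj i.as)))
    (fun s i => h.fac (Cocone.mk s.pt (Discrete.natTrans fun i => s.inj i.as)) ⟨i⟩)
    (fun s m hm => h.uniq (Cocone.mk s.pt (Discrete.natTrans fun i => s.inj i.as)) m
      (fun ⟨i⟩ => hm i))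

end CommaGeneral

section Glue

variable {C D : Type u} [SmallCategory C] [SmallCategory D] {J : GrothendieckTopology C}
  {K : GrothendieckTopology D} (ρ : Sh J ⥤ Sh K) [PreservesFiniteLimits ρ]

/-- The glued category. -/
abbrev Gl := Comma (𝟭 (Sh K)) ρ

/-- Giraud's axiom (b) for the glued category. -/
theorem gl_coproducts : SGA4.HasDisjointUniversalCoproducts.{u + 1, u} (Gl ρ) := by
  intro ι X
  refine ⟨Cofan.mk (∐ X) (Limits.Sigma.ι X), coproductIsCoproduct X, ⟨?_, ?_⟩, ?_⟩
  · intro c hc i j hij s hs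
    have hc₁ := cofanMapIsColimit (Comma.fst (𝟭 (Sh K)) ρ) c hc
    have hc₂ := cofanMapIsColimit (Comma.snd (𝟭 (Sh K)) ρ) c hc
    obtain ⟨h₁⟩ := cofan_isInitial_pullback (J := K) _ hc₁ hij
    obtain ⟨h₂⟩ := cofan_isInitial_pullback (J := J) _ hc₂ hij
    have hs' : IsPullback s.fst s.snd (c.inj i) (c.inj j) := IsPullback.of_isLimit hs
    have hl := hs'.map (Comma.fst (𝟭 (Sh K)) ρ)
    have hr := hs'.map (Comma.snd (𝟭 (Sh K)) ρ)
    obtain ⟨k₁⟩ := isInitial_of_hom (J := K) (pullback.lift _ _ hl.w) h₁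
    obtain ⟨k₂⟩ := isInitial_of_hom (J := J) (pullback.lift _ _ hr.w) h₂
    exact ⟨comma_isInitial k₁ k₂ k₁⟩
  · intro c hc i
    have hc₁ := cofanMapIsColimit (Comma.fst (𝟭 (Sh K)) ρ) c hc
    have hc₂ := cofanMapIsColimit (Comma.snd (𝟭 (Sh K)) ρ) c hc
    have m₁ : Mono (c.inj i).left := cofan_inj_mono (J := K) _ hc₁ i
    have m₂ : Mono (c.inj i).right := cofan_inj_mono (J := J) _ hc₂ i
    exact comma_mono _
  · intro F' c' α f hα _ hpb
    have hc := coproductIsCoproduct X
    have u₁ := (sheaf_isVanKampenColimit_discrete K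
      (isColimitOfPreserves (Comma.fst (𝟭 (Sh K)) ρ) hc)).isUniversal
    have u₂ := (sheaf_isVanKampenColimit_discrete J
      (isColimitOfPreserves (Comma.snd (𝟭 (Sh K)) ρ) hc)).isUniversal
    obtain ⟨k₁⟩ := u₁ ((Comma.fst (𝟭 (Sh K)) ρ).mapCocone c')
      (Functor.whiskerRight α (Comma.fst (𝟭 (Sh K)) ρ)) ((Comma.fst (𝟭 (Sh K)) ρ).map f)
      (NatTrans.ext (funext fun j => by
        have := congrArg (fun t => (t.app j).left) hα
        simpa using this))
      (.of_discrete _) (fun j => (hpb j).map (Comma.fst (𝟭 (Sh K)) ρ))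
    obtain ⟨k₂⟩ := u₂ ((Comma.snd (𝟭 (Sh K)) ρ).mapCocone c')
      (Functor.whiskerRight α (Comma.snd (𝟭 (Sh K)) ρ)) ((Comma.snd (𝟭 (Sh K)) ρ).map f)
      (NatTrans.ext (funext fun j => by
        have := congrArg (fun t => (t.app j).right) hα
        simpa using this))
      (.of_discrete _) (fun j => (hpb j).map (Comma.snd (𝟭 (Sh K)) ρ))
    exact ⟨Comma.fstSndJointlyReflectColimit k₁ k₂⟩

/-- A morphism of the glued category whose two components are epimorphisms is a regular
epimorphism. -/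
lemma gl_isRegularEpi {P B' : Gl ρ} (e' : P ⟶ B') [Epi e'.left] [Epi e'.right] :
    IsRegularEpi e' := by
  have hkp : IsPullback (pullback.fst e' e') (pullback.snd e' e') e' e' :=
    IsPullback.of_hasPullback e' e'
  have hk₁ : IsKernelPair e'.left (pullback.fst e' e').left (pullback.snd e' e').left :=
    hkp.map (Comma.fst (𝟭 (Sh K)) ρ)
  have hk₂ : IsKernelPair e'.right (pullback.fst e' e').right (pullback.snd e' e').right :=
    hkp.map (Comma.snd (𝟭 (Sh K)) ρ)
  have r₁ : IsRegularEpi e'.left := IsRegularEpiCategory.regularEpiOfEpi _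
  have r₂ : IsRegularEpi e'.right := IsRegularEpiCategory.regularEpiOfEpi _
  have c₁ := hk₁.toCoequalizer'
  have c₂ := hk₂.toCoequalizer'
  refine ⟨⟨⟨_, pullback.fst e' e', pullback.snd e' e', pullback.condition, ?_⟩⟩⟩
  exact Comma.fstSndJointlyReflectColimit
    ((isColimitMapCoconeCoforkEquiv (Comma.fst (𝟭 (Sh K)) ρ) pullback.condition).symm c₁)
    ((isColimitMapCoconeCoforkEquiv (Comma.snd (𝟭 (Sh K)) ρ) pullback.condition).symm c₂)

/-- Giraud's axiom (c) for the glued category. -/
theorem gl_equivRel (R A : Gl ρ) (p₁ p₂ : R ⟶ A) (hR : SGA4.IsEquivRel p₁ p₂) :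
    SGA4.IsEffectiveUniversalEquivRel p₁ p₂ := by
  classical
  have hjm : JointlyMono₂ p₁ p₂ := ⟨fun T f g h₁ h₂ => (hR T).1 (Prod.ext h₁ h₂)⟩
  have hr := (hR A).2.refl (𝟙 A)
  have hs := (hR R).2.symm ⟨𝟙 R, Category.id_comp _, Category.id_comp _⟩
  have ht := (hR (pullback p₂ p₁)).2.trans
    ⟨pullback.fst p₂ p₁, rfl, rfl⟩ ⟨pullback.snd p₂ p₁, pullback.condition.symm, rfl⟩
  let e : EquivalenceRelation p₁ p₂ :=
    { toJointlyMono₂ := hjm
      r := hr.choose
      reflexivity₁ := hr.choose_spec.1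
      reflexivity₂ := hr.choose_spec.2
      s := hs.choose
      symmetry₁ := hs.choose_spec.1
      symmetry₂ := hs.choose_spec.2
      c := pullback.cone p₂ p₁
      isLimit := pullback.isLimit p₂ p₁
      t := ht.choose
      transitivity₁ := ht.choose_spec.1
      transitivity₂ := ht.choose_spec.2 }
  have j₁ : JointlyMono₂ ((Comma.fst (𝟭 (Sh K)) ρ).map p₁) ((Comma.fst (𝟭 (Sh K)) ρ).map p₂) :=
    jointlyMono₂_map _ p₁ p₂
  have j₂ : JointlyMono₂ ((Comma.snd (𝟭 (Sh K)) ρ).map p₁) ((Comma.snd (𝟭 (Sh K)) ρ).map p₂) :=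
    jointlyMono₂_map _ p₁ p₂
  let e₁ := equivalenceRelationMap (Comma.fst (𝟭 (Sh K)) ρ) p₁ p₂ e
  let e₂ := equivalenceRelationMap (Comma.snd (𝟭 (Sh K)) ρ) p₁ p₂ e
  have w := coequalizer.condition p₁ p₂
  have hcoeq : IsColimit (Cofork.ofπ (coequalizer.π p₁ p₂) w) := coequalizerIsCoequalizer p₁ p₂
  have hcoeq₁ := isColimitCoforkMapOfIsColimit (Comma.fst (𝟭 (Sh K)) ρ) w hcoeq
  have hcoeq₂ := isColimitCoforkMapOfIsColimit (Comma.snd (𝟭 (Sh K)) ρ) w hcoeq
  have hk₁ := sheaf_isKernelPair_of_isColimit K e₁ _ _ hcoeq₁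
  have hk₂ := sheaf_isKernelPair_of_isColimit J e₂ _ _ hcoeq₂
  have hpb : IsPullback p₁ p₂ (coequalizer.π p₁ p₂) (coequalizer.π p₁ p₂) :=
    comma_isPullback w hk₁ hk₂
  have hpo : IsPushout p₁ p₂ (coequalizer.π p₁ p₂) (coequalizer.π p₁ p₂) :=
    isPushout_of_isColimit_of_reflexive hr.choose hr.choose_spec.1 hr.choose_spec.2 _ w hcoeq
  refine ⟨_, coequalizer.π p₁ p₂, hpb, hpo, ?_⟩
  intro B' g
  have hπ₁ : Epi (coequalizer.π p₁ p₂).left := epi_of_isColimit_cofork hcoeq₁
  have hπ₂ : Epi (coequalizer.π p₁ p₂).right := epi_of_isColimit_cofork hcoeq₂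
  have hsq := (IsPullback.of_hasPullback (coequalizer.π p₁ p₂) g).flip
  have h₁ : Epi (pullback.snd (coequalizer.π p₁ p₂) g).left :=
    epi_of_isPullback_sheaf K (hsq.map (Comma.fst (𝟭 (Sh K)) ρ))
  have h₂ : Epi (pullback.snd (coequalizer.π p₁ p₂) g).right :=
    epi_of_isPullback_sheaf J (hsq.map (Comma.snd (𝟭 (Sh K)) ρ))
  have := gl_isRegularEpi ρ (pullback.snd (coequalizer.π p₁ p₂) g)
  infer_instance

end Glue

section Detect

variable {C D : Type u} [SmallCategory C] [SmallCategory D] {J : GrothendieckTopology C}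
  {K : GrothendieckTopology D} (ρ : Sh J ⥤ Sh K)

/-- A morphism of sheaves of types which is bijective on sections is an isomorphism. -/
lemma sheaf_isIso_of_bijective {X Y : Sh J} (φ : X ⟶ Y)
    (h : ∀ c : C, Function.Bijective (φ.hom.app (op c))) : IsIso φ := by
  have : IsIso ((sheafToPresheaf J (Type u)).map φ) := by
    rw [NatTrans.isIso_iff_isIso_app]
    intro c
    rw [isIso_iff_bijective]
    exact h c.unop
  exact isIso_of_reflects_iso φ (sheafToPresheaf J (Type u))

/-- The morphism from a sheafified representable attached to a section. -/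
noncomputable abbrev hat {X : Sh J} {c : C} (x : X.obj.obj (op c)) : eps J c ⟶ X :=
  (shYonedaEquiv J c X).symm x

lemma hat_comp {X Y : Sh J} {c : C} (x : X.obj.obj (op c)) (φ : X ⟶ Y) :
    hat x ≫ φ = hat (φ.hom.app (op c) x) := by
  apply (shYonedaEquiv J c Y).injective
  rw [shYonedaEquiv_comp, Equiv.apply_symm_apply, Equiv.apply_symm_apply]

lemma hat_shYonedaEquiv {X : Sh J} {c : C} (η : eps J c ⟶ X) :
    hat (shYonedaEquiv J c X η) = η := Equiv.symm_apply_apply _ _

/-- Test objects of the first kind. -/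
noncomputable def test₁ (c : C) : Gl ρ := ⟨⊥_ (Sh K), eps J c, initial.to _⟩

/-- Test objects of the second kind. -/
noncomputable def test₂ (d : D) (P : Cᵒᵖ ⥤ Type u)
    (ψ : eps K d ⟶ ρ.obj ((presheafToSheaf J (Type u)).obj P)) : Gl ρ :=
  ⟨eps K d, (presheafToSheaf J (Type u)).obj P, ψ⟩

/-- Sections of `ρ X` lift locally to `ρ` of sheafifications of presheaves in a filtered
generator. -/
lemma exists_local_lift (κ : Cardinal.{u}) [Fact κ.IsRegular] [ρ.IsCardinalAccessible κ]
    {P₀ : ObjectProperty (Cᵒᵖ ⥤ Type u)} (hP₀ : P₀.IsCardinalFilteredGenerator κ)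
    (X : Sh J) (d : D) (z : (ρ.obj X).obj.obj (op d)) :
    ∃ S ∈ K d, ∀ ⦃d' : D⦄ (g : d' ⟶ d), S g → ∃ (P : Cᵒᵖ ⥤ Type u) (_ : P₀ P)
      (v : (presheafToSheaf J (Type u)).obj P ⟶ X)
      (ψ : (ρ.obj ((presheafToSheaf J (Type u)).obj P)).obj.obj (op d')),
      (ρ.map v).hom.app (op d') ψ = (ρ.obj X).obj.map g.op z := by
  obtain ⟨J', _, _, ⟨hX⟩⟩ := hP₀.exists_colimitsOfShape ((sheafToPresheaf J (Type u)).obj X)
  have h1 := isColimitOfPreserves (presheafToSheaf J (Type u)) hX.isColimit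
  let ε := asIso ((sheafificationAdjunction J (Type u)).counit.app X)
  let c₂ : Cocone (hX.diag ⋙ presheafToSheaf J (Type u)) :=
    { pt := X
      ι :=
        { app := fun j => (presheafToSheaf J (Type u)).map (hX.ι.app j) ≫ ε.hom
          naturality := by
            intro j j' t
            have := hX.ι.naturality t
            simp only [Functor.const_obj_obj, Functor.const_obj_map, Category.comp_id] at this
            simp only [Functor.comp_obj, Functor.comp_map, Functor.const_obj_obj,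
              Functor.const_obj_map, Category.comp_id]
            rw [← Category.assoc, ← CategoryTheory.Functor.map_comp, this] } }
  have h2 : IsColimit c₂ := IsColimit.ofIsoColimit h1 (Cocones.ext ε (fun j => rfl))
  have := Functor.preservesColimitsOfShape_of_isCardinalAccessible ρ κ J'
  have h3 := isColimitOfPreserves ρ h2
  have h4 := jEpi_of_isColimit_cocone _ h3
  have h5 := (jEpi_iff_famImageSieve_mem _).1 h4 d z
  refine ⟨_, h5, ?_⟩
  rintro d' g ⟨j, ψ, hψ⟩
  exact ⟨hX.diag.obj j, hX.prop_diag_obj j, c₂.ι.app j, ψ, hψ⟩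

/-- The property of being a test object. -/
def testProp (P₀ : ObjectProperty (Cᵒᵖ ⥤ Type u)) : ObjectProperty (Gl ρ) :=
  ObjectProperty.ofObj (test₁ ρ) ⊔
    ObjectProperty.ofObj (fun t : Σ (d : D) (P : Subtype P₀),
      (eps K d ⟶ ρ.obj ((presheafToSheaf J (Type u)).obj P.1)) => test₂ ρ t.1 t.2.1.1 t.2.2)

instance (P₀ : ObjectProperty (Cᵒᵖ ⥤ Type u)) [ObjectProperty.Small.{u} P₀] :
    ObjectProperty.Small.{u} (testProp ρ P₀) := by
  unfold testProp
  infer_instance

variable [PreservesFiniteLimits ρ]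

/-- The test objects detect isomorphisms in the glued category. -/
theorem testProp_isDetecting (κ : Cardinal.{u}) [Fact κ.IsRegular] [ρ.IsCardinalAccessible κ]
    {P₀ : ObjectProperty (Cᵒᵖ ⥤ Type u)} (hP₀ : P₀.IsCardinalFilteredGenerator κ) :
    (testProp ρ P₀).IsDetecting := by
  intro Z Z' f hf
  -- Step 1: the right component is an isomorphism
  have hright : IsIso f.right := by
    apply sheaf_isIso_of_bijective
    intro c
    have mk : ∀ (W : Gl ρ) (β : eps J c ⟶ W.right), ∃ h : test₁ ρ c ⟶ W, h.right = β :=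
      fun W β => ⟨⟨initial.to _, β, initialIsInitial.hom_ext _ _⟩, rfl⟩
    constructor
    · intro x₁ x₂ h12
      obtain ⟨h₁, hh₁⟩ := mk Z (hat x₁)
      obtain ⟨h₂, hh₂⟩ := mk Z (hat x₂)
      have e : h₁ ≫ f = h₂ ≫ f := by
        refine CommaMorphism.ext ?_ ?_
        · exact (initialIsInitial (C := Sh K)).hom_ext _ _
        · show h₁.right ≫ f.right = h₂.right ≫ f.right
          rw [hh₁, hh₂]
          show hat x₁ ≫ f.right = hat x₂ ≫ f.right
          rw [hat_comp, hat_comp, h12]
      obtain ⟨h', _, huniq⟩ := hf _ (Or.inl ⟨c⟩) (h₁ ≫ f)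
      have e12 : h₁ = h₂ := (huniq h₁ rfl).trans (huniq h₂ e.symm).symm
      have := congrArg CommaMorphism.right e12
      rw [hh₁, hh₂] at this
      exact (shYonedaEquiv J c Z.right).symm.injective this
    · intro x'
      obtain ⟨h, hh⟩ := mk Z' (hat x')
      obtain ⟨h', hh', _⟩ := hf _ (Or.inl ⟨c⟩) h
      refine ⟨shYonedaEquiv J c Z.right h'.right, ?_⟩
      refine (shYonedaEquiv_comp J h'.right f.right).symm.trans ?_
      have : h'.right ≫ f.right = hat x' := by
        rw [← hh, ← hh']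
        rfl
      exact (congrArg (shYonedaEquiv J c Z'.right) this).trans (Equiv.apply_symm_apply _ _)
  -- naturality of the structure maps on sections
  have hw : ∀ (d : D) (y : Z.left.obj.obj (op d)),
      Z'.hom.hom.app (op d) (f.left.hom.app (op d) y) =
        (ρ.map f.right).hom.app (op d) (Z.hom.hom.app (op d) y) := by
    intro d y
    have := congrArg (fun t : Z.left ⟶ ρ.obj Z'.right => t.hom.app (op d) y) f.w
    exact this
  have hmk : ∀ (W : Gl ρ) (d : D) (P : Subtype P₀)
      (ψ : (ρ.obj ((presheafToSheaf J (Type u)).obj P.1)).obj.obj (op d))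
      (y : W.left.obj.obj (op d)) (v : (presheafToSheaf J (Type u)).obj P.1 ⟶ W.right),
      W.hom.hom.app (op d) y = (ρ.map v).hom.app (op d) ψ →
      ∃ h : test₂ ρ d P.1 (hat ψ) ⟶ W, h.left = hat y ∧ h.right = v := by
    intro W d P ψ y v hyv
    refine ⟨⟨hat y, v, ?_⟩, rfl, rfl⟩
    show hat y ≫ W.hom = hat ψ ≫ ρ.map v
    rw [hat_comp, hat_comp, hyv]
  have hinvb : ∀ (d : D) (t : (ρ.obj Z.right).obj.obj (op d)),
      (ρ.map (inv f.right)).hom.app (op d) ((ρ.map f.right).hom.app (op d) t) = t := by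
    intro d t
    have : ρ.map f.right ≫ ρ.map (inv f.right) = 𝟙 _ := by
      rw [← CategoryTheory.Functor.map_comp, IsIso.hom_inv_id, CategoryTheory.Functor.map_id]
    have := congrArg (fun s : ρ.obj Z.right ⟶ ρ.obj Z.right => s.hom.app (op d) t) this
    exact this
  -- Step 2: the left component is a monomorphism
  have hinj : ∀ (d : D), Function.Injective (f.left.hom.app (op d)) := by
    intro d y₁ y₂ h12
    have hY : Presieve.IsSheaf K Z.left.obj := (isSheaf_iff_isSheaf_of_type _ _).1 Z.left.property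
    obtain ⟨S, hS, hlift⟩ := exists_local_lift ρ κ hP₀ Z'.right d
      (Z'.hom.hom.app (op d) (f.left.hom.app (op d) y₁))
    refine (hY _ hS).isSeparatedFor.ext ?_
    intro d' g hg
    obtain ⟨P, hP, v, ψ, hψ⟩ := hlift g hg
    have key : ∀ y : Z.left.obj.obj (op d), f.left.hom.app (op d) y = f.left.hom.app (op d) y₁ →
        Z.hom.hom.app (op d') (Z.left.obj.map g.op y) =
          (ρ.map (v ≫ inv f.right)).hom.app (op d') ψ := by
      intro y hy
      have n1 := ConcreteCategory.congr_hom (Z.hom.hom.naturality g.op) y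
      have n2 := ConcreteCategory.congr_hom ((ρ.map f.right).hom.naturality g.op)
        (Z.hom.hom.app (op d) y)
      simp only [ConcreteCategory.comp_apply] at n1 n2
      have e1 : (ρ.map (v ≫ inv f.right)).hom.app (op d') ψ =
          (ρ.map (inv f.right)).hom.app (op d') ((ρ.map v).hom.app (op d') ψ) := by
        rw [CategoryTheory.Functor.map_comp]
        rfl
      rw [e1, hψ, ← hy, hw d y, ← n2, hinvb]
      exact n1
    obtain ⟨h₁, hl₁, hr₁⟩ := hmk Z d' ⟨P, hP⟩ ψ (Z.left.obj.map g.op y₁) (v ≫ inv f.right)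
      (key y₁ rfl)
    obtain ⟨h₂, hl₂, hr₂⟩ := hmk Z d' ⟨P, hP⟩ ψ (Z.left.obj.map g.op y₂) (v ≫ inv f.right)
      (key y₂ h12.symm)
    have e : h₁ ≫ f = h₂ ≫ f := by
      refine CommaMorphism.ext ?_ ?_
      · show h₁.left ≫ f.left = h₂.left ≫ f.left
        rw [hl₁, hl₂]
        show hat (Z.left.obj.map g.op y₁) ≫ f.left = hat (Z.left.obj.map g.op y₂) ≫ f.left
        rw [hat_comp, hat_comp]
        congr 1
        have m1 := ConcreteCategory.congr_hom (f.left.hom.naturality g.op) y₁
        have m2 := ConcreteCategory.congr_hom (f.left.hom.naturality g.op) y₂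
        simp only [ConcreteCategory.comp_apply] at m1 m2
        rw [m1, m2, h12]
      · show h₁.right ≫ f.right = h₂.right ≫ f.right
        rw [hr₁, hr₂]
    obtain ⟨h', _, huniq⟩ := hf _ (Or.inr ⟨⟨d', ⟨P, hP⟩, hat ψ⟩⟩) (h₁ ≫ f)
    have e12 : h₁ = h₂ := (huniq h₁ rfl).trans (huniq h₂ e.symm).symm
    have := congrArg CommaMorphism.left e12
    rw [hl₁, hl₂] at this
    exact (shYonedaEquiv K d' Z.left).symm.injective this
  have hmono : Mono f.left := by
    refine ⟨fun {W} a b hab => ?_⟩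
    apply Sheaf.hom_ext
    ext d w
    apply hinj d.unop
    have := congrArg (fun t : W ⟶ Z'.left => t.hom.app d w) hab
    exact this
  -- Step 3: the left component is an epimorphism
  have hepi : Epi f.left := by
    rw [← jEpi_unit_iff, jEpi_iff_famImageSieve_mem]
    intro d y'
    obtain ⟨S, hS, hlift⟩ := exists_local_lift ρ κ hP₀ Z'.right d (Z'.hom.hom.app (op d) y')
    refine K.superset_covering ?_ hS
    intro d' g hg
    obtain ⟨P, hP, v, ψ, hψ⟩ := hlift g hg
    have n1 := ConcreteCategory.congr_hom (Z'.hom.hom.naturality g.op) y'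
    simp only [ConcreteCategory.comp_apply] at n1
    obtain ⟨h, hl, hr⟩ := hmk Z' d' ⟨P, hP⟩ ψ (Z'.left.obj.map g.op y') v (by
      rw [hψ]
      exact n1)
    obtain ⟨h', hh', _⟩ := hf _ (Or.inr ⟨⟨d', ⟨P, hP⟩, hat ψ⟩⟩) h
    refine ⟨(), shYonedaEquiv K d' Z.left h'.left, ?_⟩
    refine (shYonedaEquiv_comp K h'.left f.left).symm.trans ?_
    have : h'.left ≫ f.left = hat (Z'.left.obj.map g.op y') := by
      rw [← hl, ← hh']
      rfl
    exact (congrArg (shYonedaEquiv K d' Z'.left) this).trans (Equiv.apply_symm_apply _ _)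
  have hleft : IsIso f.left := isIso_of_mono_of_epi _
  exact ⟨⟨⟨inv f.left, inv f.right, by
    show inv f.left ≫ Z.hom = Z'.hom ≫ ρ.map (inv f.right)
    rw [IsIso.inv_comp_eq, ← Category.assoc]
    have := f.w
    have h2 : f.left ≫ Z'.hom = Z.hom ≫ ρ.map f.right := this
    rw [h2, Category.assoc, ← CategoryTheory.Functor.map_comp, IsIso.hom_inv_id,
      CategoryTheory.Functor.map_id, Category.comp_id]⟩,
    CommaMorphism.ext (IsIso.hom_inv_id f.left) (IsIso.hom_inv_id f.right),
    CommaMorphism.ext (IsIso.inv_hom_id f.left) (IsIso.inv_hom_id f.right)⟩⟩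

/-- SGA 4 IV 9.5: the glued category of a left exact accessible functor between sheaf topoi is
a topos. -/
theorem gl_isTopos [ρ.IsAccessible.{u}] : SGA4.IsTopos.{u + 1, u} (Gl ρ) := by
  obtain ⟨κ, hκ, hacc⟩ := Functor.IsAccessible.exists_cardinal (F := ρ)
  obtain ⟨P₀, hsmall, hP₀⟩ :=
    HasCardinalFilteredGenerator.exists_small_generator (Cᵒᵖ ⥤ Type u) κ
  exact Giraud.giraud (gl_coproducts ρ) (gl_equivRel ρ)
    ⟨testProp ρ P₀, inferInstance, testProp_isDetecting ρ κ hP₀⟩

end Detect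

end Groth.Agent.Lib.Helper9.GlueTopos
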