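import Mathlib
import Groth.Prelude.Def_EtBaseX
import Groth.Agent.Lib.Helper9Hens2
import Groth.Agent.Lib.Helper9Hens3

/-!
# The étale local ring of a scheme at a geometric point is strictly henselian (helper9)
-/

set_option autoImplicit false
set_option linter.style.haveILetI false
set_option backward.isDefEq.respectTransparency false
open CategoryTheory CategoryTheory.Limits AlgebraicGeometry Opposite Polynomial
universe u

namespace Groth.Agent.Lib.Helper9.Hens

variable {X : Scheme.{u}} {Ω : Type u} [Field Ω] [IsSepClosed Ω]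

/-- refinement of an object of the small étale site of a scheme along an étale morphism -/
noncomputable def refObj (U : X.Etale) {U' : Scheme.{u}} (g : U' ⟶ U.left) (hg : Etale g) :
    X.Etale :=
  haveI : Etale (g ≫ U.hom) := inferInstance
  Scheme.Etale.mk (g ≫ U.hom)

/-- the structure morphism of the refinement -/
noncomputable def refHom (U : X.Etale) {U' : Scheme.{u}} (g : U' ⟶ U.left) (hg : Etale g) :
    refObj U g hg ⟶ U :=
  MorphismProperty.Over.homMk g rfl trivial

/-- the lift of the geometric point to the refinement -/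
noncomputable def refLift (ξ : Spec (CommRingCat.of Ω) ⟶ X) (U : X.Etale)
    (l : (Scheme.pointSmallEtale ξ).fiber.obj U) {U' : Scheme.{u}} (g : U' ⟶ U.left)
    (hg : Etale g) (l' : Spec (CommRingCat.of Ω) ⟶ U') (h : l' ≫ g = l.left) :
    (Scheme.pointSmallEtale ξ).fiber.obj (refObj U g hg) :=
  Over.homMk l' (by
    change l' ≫ g ≫ U.hom = ξ
    rw [← Category.assoc, h]
    exact Over.w l)

lemma refLift_map (ξ : Spec (CommRingCat.of Ω) ⟶ X) (U : X.Etale)
    (l : (Scheme.pointSmallEtale ξ).fiber.obj U) {U' : Scheme.{u}} (g : U' ⟶ U.left)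
    (hg : Etale g) (l' : Spec (CommRingCat.of Ω) ⟶ U') (h : l' ≫ g = l.left) :
    (Scheme.pointSmallEtale ξ).fiber.map (refHom U g hg) (refLift ξ U l g hg l' h) = l :=
  Over.OverMorphism.ext h

/-- The étale local ring of a scheme at a geometric point is a strictly henselian local ring. -/
theorem strictlyHenselian_etaleLocalRing (ξ : Spec (CommRingCat.of Ω) ⟶ X) :
    EtCoh.IsStrictlyHenselianLocalRing (EtBase.etaleLocalRing ξ) := by
  let Φ := Scheme.pointSmallEtale ξ
  let P : X.Etaleᵒᵖ ⥤ CommRingCat.{u} := EtBase.OO X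
  let T : CommRingCat.{u} := CommRingCat.of Ω
  let φ : ∀ (U : X.Etale) (_ : Φ.fiber.obj U), P.obj (op U) ⟶ T := fun U l =>
    CommRingCat.ofHom (evAt l.left)
  have hφ : ∀ ⦃U U' : X.Etale⦄ (f : U ⟶ U') (l : Φ.fiber.obj U),
      P.map f.op ≫ φ U l = φ U' (Φ.fiber.map f l) := by
    intro U U' f l
    ext a
    change evAt l.left (f.left.appTop.hom a) = evAt (l ≫ (Scheme.Etale.forget X).map f).left a
    rw [Over.comp_left, evAt_comp]
    rfl
  let EV : (Φ.presheafFiber (A := CommRingCat.{u})).obj P →+* Ω := (Φ.presheafFiberDesc φ hφ).hom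
  have hEV : ∀ (U : X.Etale) (l : Φ.fiber.obj U) (a : P.obj (op U)),
      EV (germ Φ P ⟨U, l⟩ a) = evAt l.left a := by
    intro U l a
    have h1 := Φ.toPresheafFiber_presheafFiberDesc φ hφ U l
    exact congrArg (fun k => k.hom a) h1
  have key := strictlyHenselian_presheafFiber Φ P EV ?_ ?_
  · exact key.2
  · intro U l a ha
    rw [hEV] at ha
    obtain ⟨U', j, hj, l', hl', hu⟩ := exists_unit_refinement l.left a ha
    have hjet : Etale j := inferInstance
    exact ⟨refObj U j hjet, refHom U j hjet, refLift ξ U l j hjet l' hl',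
      refLift_map ξ U l j hjet l' hl', hu⟩
  · intro U l q hq α₀ h0 h1
    have hcomp : EV.comp (germ Φ P ⟨U, l⟩) = evAt l.left := RingHom.ext (fun a => hEV U l a)
    have hmm : (q.map (germ Φ P ⟨U, l⟩)).map EV = q.map (evAt l.left) := by
      rw [Polynomial.map_map, hcomp]
    rw [hmm] at h0 h1
    obtain ⟨U', g, hg, l', t, hl', ht, hev⟩ := exists_root_refinement l.left q hq α₀ h0 h1
    refine ⟨refObj U g hg, refHom U g hg, refLift ξ U l g hg l' hl', t,
      refLift_map ξ U l g hg l' hl', ht, ?_⟩
    rw [hEV]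
    exact hev

end Groth.Agent.Lib.Helper9.Hens
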