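import Mathlib

/-!
# Schemes whose quasi-compact opens have finitely many irreducible components (helper9)

* `finite_irreducibleComponents_of_maps`: a space jointly covered by the images of finitely many continuous maps
  from spaces with finitely many irreducible components has finitely many irreducible components.
* `LocFinIrr T`: every quasi-compact open of the scheme `T` has finitely many irreducible components.
* `locFinIrr_of_surjective_open`: descent along open surjective morphisms.
* `locFinIrr_of_flat_lft`: ascent along flat morphisms locally of finite type.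
-/

set_option autoImplicit false
open CategoryTheory AlgebraicGeometry TopologicalSpace
universe u

namespace Groth.Agent.Lib.Helper9.IrrFin

/-- a space jointly covered by the images of finitely many continuous maps from spaces with finitely many
irreducible components has finitely many irreducible components. -/
theorem finite_irreducibleComponents_of_maps {ι : Type*} [Finite ι] {A : ι → Type*}
    [∀ i, TopologicalSpace (A i)] {X : Type*} [TopologicalSpace X] (f : ∀ i, A i → X)
    (hf : ∀ i, Continuous (f i)) (hsurj : ∀ x : X, ∃ i, ∃ a : A i, f i a = x)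
    (hfin : ∀ i, (irreducibleComponents (A i)).Finite) : (irreducibleComponents X).Finite := by
  classical
  have h𝒞 : (⋃ i, (fun C => closure (f i '' C)) '' irreducibleComponents (A i)).Finite :=
    Set.finite_iUnion fun i => (hfin i).image _
  refine h𝒞.subset fun W hW => ?_
  have hcov : W ⊆ ⋃₀ (h𝒞.toFinset : Set (Set X)) := by
    intro y _
    obtain ⟨i, a, rfl⟩ := hsurj y
    refine Set.mem_sUnion.mpr ⟨closure (f i '' irreducibleComponent a), ?_, ?_⟩
    · simp only [Set.Finite.coe_toFinset]
      exact Set.mem_iUnion.2 ⟨i, irreducibleComponent a,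
        irreducibleComponent_mem_irreducibleComponents a, rfl⟩
    · exact subset_closure ⟨a, mem_irreducibleComponent, rfl⟩
  obtain ⟨z, hz, hWz⟩ := isIrreducible_iff_sUnion_isClosed.mp hW.1 _ (by
    intro z hz
    simp only [Set.Finite.mem_toFinset] at hz
    obtain ⟨i, C, _, rfl⟩ := Set.mem_iUnion.1 hz
    exact isClosed_closure) hcov
  simp only [Set.Finite.mem_toFinset] at hz
  obtain ⟨i, C, hC, rfl⟩ := Set.mem_iUnion.1 hz
  have hirr : IsIrreducible (closure (f i '' C)) :=
    (hC.1.image (f i) (hf i).continuousOn).closure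
  have hWeq : W = closure (f i '' C) := subset_antisymm hWz (hW.2 hirr hWz)
  rw [hWeq]
  exact Set.mem_iUnion.2 ⟨i, C, hC, rfl⟩

/-- a homeomorphic space has finitely many irreducible components -/
theorem finite_irreducibleComponents_of_surjective {A X : Type*} [TopologicalSpace A]
    [TopologicalSpace X] (f : A → X) (hf : Continuous f) (hs : Function.Surjective f)
    (hfin : (irreducibleComponents A).Finite) : (irreducibleComponents X).Finite :=
  finite_irreducibleComponents_of_maps (ι := Unit) (A := fun _ => A) (fun _ => f) (fun _ => hf)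
    (fun x => ⟨(), hs x⟩) (fun _ => hfin)

/-- ring level: flat of finite type, finitely many minimal primes below gives finitely many above
(the proof of S1148 (helper10), which only uses finite type). -/
theorem finite_irreducibleComponents_primeSpectrum_aux (A B : Type u) [CommRing A] [CommRing B]
    [Algebra A B] [Module.Flat A B] [Algebra.FiniteType A B]
    (h : (irreducibleComponents (PrimeSpectrum A)).Finite) :
    (irreducibleComponents (PrimeSpectrum B)).Finite := by
  classical
  have key : ∀ (R : Type u) [CommRing R], (irreducibleComponents (PrimeSpectrum R)).Finite ↔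
      {x : PrimeSpectrum R | IsMin x}.Finite := by
    intro R _
    have e1 : (irreducibleComponents (PrimeSpectrum R)).Finite ↔ (minimalPrimes R).Finite := by
      rw [← Set.finite_coe_iff, ← Set.finite_coe_iff]
      exact (Equiv.finite_iff (minimalPrimes.equivIrreducibleComponents R).toEquiv).symm
    rw [e1]
    have hinj : Function.Injective (PrimeSpectrum.asIdeal (R := R)) := @PrimeSpectrum.ext _ _
    constructor
    · intro h
      refine Set.Finite.of_finite_image (f := PrimeSpectrum.asIdeal) ?_ hinj.injOn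
      refine h.subset ?_
      rintro _ ⟨x, hx, rfl⟩
      exact PrimeSpectrum.isMin_iff.mp hx
    · intro h
      refine (h.image PrimeSpectrum.asIdeal).subset ?_
      intro p hp
      exact ⟨⟨p, hp.1.1⟩, PrimeSpectrum.isMin_iff.mpr hp, rfl⟩
  rw [key] at h ⊢
  have hmap : ∀ x : PrimeSpectrum B, IsMin x → IsMin (PrimeSpectrum.comap (algebraMap A B) x) := by
    intro x hx y hy
    haveI : x.asIdeal.LiesOver (PrimeSpectrum.comap (algebraMap A B) x).asIdeal := ⟨rfl⟩
    obtain ⟨P, hPx, hP, hPy⟩ := Ideal.exists_ideal_le_liesOver_of_le (p := y.asIdeal)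
      (q := (PrimeSpectrum.comap (algebraMap A B) x).asIdeal) x.asIdeal hy
    have hle : (⟨P, hP⟩ : PrimeSpectrum B) ≤ x := hPx
    have hge := hx hle
    have : P = x.asIdeal := le_antisymm hPx hge
    intro a ha
    have : a ∈ P.under A := by rw [this]; exact ha
    rwa [← hPy.over] at this
  refine (h.biUnion (t := fun y => {x : PrimeSpectrum B | IsMin x ∧
    PrimeSpectrum.comap (algebraMap A B) x = y}) ?_).subset ?_
  · intro y hy
    haveI : IsNoetherianRing (y.asIdeal.Fiber B) :=
      Algebra.FiniteType.isNoetherianRing y.asIdeal.ResidueField _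
    have hfin := PrimeSpectrum.finite_setOfPred_isMin (y.asIdeal.Fiber B)
    let φ : {x : PrimeSpectrum B | IsMin x ∧ PrimeSpectrum.comap (algebraMap A B) x = y} →
        {z : PrimeSpectrum (y.asIdeal.Fiber B) | IsMin z} := fun x =>
      ⟨PrimeSpectrum.preimageOrderIsoFiber A B y ⟨x.1, x.2.2⟩, by
        intro z hz
        obtain ⟨w, rfl⟩ := (PrimeSpectrum.preimageOrderIsoFiber A B y).surjective z
        rw [OrderIso.le_iff_le] at hz ⊢
        exact x.2.1 hz⟩
    have hφ : Function.Injective φ := by
      intro x x' hxx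
      have := (PrimeSpectrum.preimageOrderIsoFiber A B y).injective (Subtype.ext_iff.mp hxx)
      exact Subtype.ext (Subtype.mk.inj this)
    rw [← Set.finite_coe_iff] at hfin ⊢
    exact Finite.of_injective φ hφ
  · intro x hx
    exact Set.mem_biUnion (hmap x hx) ⟨hx, rfl⟩

theorem finite_irreducibleComponents_primeSpectrum_of_flat_finiteType {A B : Type u} [CommRing A]
    [CommRing B] (φ : A →+* B) (hflat : φ.Flat) (hft : φ.FiniteType)
    (h : (irreducibleComponents (PrimeSpectrum A)).Finite) :
    (irreducibleComponents (PrimeSpectrum B)).Finite := by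
  algebraize [φ]
  exact finite_irreducibleComponents_primeSpectrum_aux A B h

/-- every quasi-compact open of the scheme has finitely many irreducible components -/
def LocFinIrr (T : Scheme.{u}) : Prop :=
  ∀ W : T.Opens, IsCompact (W : Set ↥T) → (irreducibleComponents ↥W).Finite

/-- the homeomorphism of an affine open with the prime spectrum of its sections, one direction -/
theorem finite_irreducibleComponents_primeSpectrum_of_affineOpen {T : Scheme.{u}} {W : T.Opens}
    (hW : IsAffineOpen W) (h : (irreducibleComponents ↥W).Finite) :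
    (irreducibleComponents (PrimeSpectrum Γ(T, W))).Finite :=
  finite_irreducibleComponents_of_surjective (A := ↥W) (X := PrimeSpectrum Γ(T, W))
    (Scheme.homeoOfIso hW.isoSpec) (Scheme.homeoOfIso hW.isoSpec).continuous
    (Scheme.homeoOfIso hW.isoSpec).surjective h

theorem finite_irreducibleComponents_affineOpen_of_primeSpectrum {T : Scheme.{u}} {W : T.Opens}
    (hW : IsAffineOpen W) (h : (irreducibleComponents (PrimeSpectrum Γ(T, W))).Finite) :
    (irreducibleComponents ↥W).Finite :=
  finite_irreducibleComponents_of_surjective (X := ↥W) (A := PrimeSpectrum Γ(T, W))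
    (Scheme.homeoOfIso hW.isoSpec).symm (Scheme.homeoOfIso hW.isoSpec).symm.continuous
    (Scheme.homeoOfIso hW.isoSpec).symm.surjective h

/-- descent of `LocFinIrr` along open surjective morphisms -/
theorem locFinIrr_of_surjective_open {R U : Scheme.{u}} (q : R ⟶ U) (hq : IsOpenMap q)
    (hqs : Function.Surjective q) (hR : LocFinIrr R) : LocFinIrr U := by
  intro W hW
  have key : ∀ x : W, ∃ Rx : R.Opens, IsAffineOpen Rx ∧ Rx ≤ q ⁻¹ᵁ W ∧
      (x : U) ∈ q '' (Rx : Set R) := by
    intro x
    obtain ⟨r, hr⟩ := hqs x.1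
    have hrW : r ∈ q ⁻¹ᵁ W := by
      change q r ∈ W
      rw [hr]
      exact x.2
    obtain ⟨Rx, hRx, hrRx, hle⟩ := exists_isAffineOpen_mem_and_subset (x := r) (U := q ⁻¹ᵁ W) hrW
    exact ⟨Rx, hRx, hle, r, hrRx, hr⟩
  choose Rx hRxaff hRxle hRxmem using key
  obtain ⟨t, ht⟩ := hW.elim_finite_subcover (fun x : W => q '' (Rx x : Set R))
    (fun x => hq _ (Rx x).2) (fun y hy => Set.mem_iUnion.2 ⟨⟨y, hy⟩, hRxmem ⟨y, hy⟩⟩)
  refine finite_irreducibleComponents_of_maps (ι := t) (A := fun x => ↥(Rx x.1))
    (fun x r => ⟨q r.1, hRxle x.1 r.2⟩) ?_ ?_ ?_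
  · intro x
    exact (q.continuous.comp continuous_subtype_val).subtype_mk _
  · intro y
    obtain ⟨x, hx⟩ := Set.mem_iUnion.1 (ht y.2)
    obtain ⟨hxt, r, hr, hry⟩ := Set.mem_iUnion.1 hx
    exact ⟨⟨x, hxt⟩, ⟨r, hr⟩, Subtype.ext hry⟩
  · intro x
    exact hR (Rx x.1) (hRxaff x.1).isCompact

/-- ascent of `LocFinIrr` along flat morphisms locally of finite type -/
theorem locFinIrr_of_flat_lft {U V : Scheme.{u}} (h : U ⟶ V) [Flat h] [LocallyOfFiniteType h]
    (hV : LocFinIrr V) : LocFinIrr U := by
  intro W hW
  have key : ∀ x : W, ∃ (Vx : V.Opens) (Wx : U.Opens), IsAffineOpen Vx ∧ IsAffineOpen Wx ∧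
      Wx ≤ W ∧ Wx ≤ h ⁻¹ᵁ Vx ∧ x.1 ∈ Wx := by
    intro x
    obtain ⟨Vx, hVx, hxVx, -⟩ := exists_isAffineOpen_mem_and_subset (x := h x.1) (U := ⊤) trivial
    obtain ⟨Wx, hWx, hxWx, hle⟩ := exists_isAffineOpen_mem_and_subset (x := x.1)
      (U := W ⊓ h ⁻¹ᵁ Vx) ⟨x.2, hxVx⟩
    exact ⟨Vx, Wx, hVx, hWx, hle.trans inf_le_left, hle.trans inf_le_right, hxWx⟩
  choose Vx Wx hVx hWx hWxW hWxV hxWx using key
  obtain ⟨t, ht⟩ := hW.elim_finite_subcover (fun x : W => (Wx x : Set U))
    (fun x => (Wx x).2) (fun y hy => Set.mem_iUnion.2 ⟨⟨y, hy⟩, hxWx ⟨y, hy⟩⟩)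
  refine finite_irreducibleComponents_of_maps (ι := t) (A := fun x => ↥(Wx x.1))
    (fun x r => ⟨r.1, hWxW x.1 r.2⟩) ?_ ?_ ?_
  · intro x
    exact continuous_subtype_val.subtype_mk _
  · intro y
    obtain ⟨x, hx⟩ := Set.mem_iUnion.1 (ht y.2)
    obtain ⟨hxt, hy⟩ := Set.mem_iUnion.1 hx
    exact ⟨⟨x, hxt⟩, ⟨y.1, hy⟩, rfl⟩
  · intro x
    apply finite_irreducibleComponents_affineOpen_of_primeSpectrum (hWx x.1)
    refine finite_irreducibleComponents_primeSpectrum_of_flat_finiteType
      (h.appLE (Vx x.1) (Wx x.1) (hWxV x.1)).hom (h.flat_appLE (hVx x.1) (hWx x.1) (hWxV x.1))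
      (h.finiteType_appLE (hVx x.1) (hWx x.1) (hWxV x.1)) ?_
    exact finite_irreducibleComponents_primeSpectrum_of_affineOpen (hVx x.1)
      (hV (Vx x.1) (hVx x.1).isCompact)

end Groth.Agent.Lib.Helper9.IrrFin
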