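import Mathlib
import Groth.Prelude.Def_EtGm
import Groth.Agent.Lib.Helper9Hens5
import Groth.Agent.Lib.Helper9EtPoint

/-!
# The Kummer sequence: the `n`-th power map on `G_m` is an epimorphism of étale sheaves when `n`
is invertible (helper9)
-/

set_option autoImplicit false
set_option linter.style.haveILetI false
set_option backward.isDefEq.respectTransparency false
open CategoryTheory CategoryTheory.Limits AlgebraicGeometry Opposite Polynomial
universe u

namespace Groth.Agent.Lib.Helper9.Kummer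

open Groth.Agent.Lib.Helper9.Hens

variable (X : Scheme.{u})

/-- sections of `G_m` over an étale `U → X` are the units of the global functions on `U` -/
noncomputable def gmEquiv (U : X.Etale) : ↑((EtCoh.Gm X).obj.obj (op U)) ≃ (Γ(U.left, ⊤))ˣ :=
  Equiv.ulift.trans Additive.toMul

lemma gmEquiv_map {U U' : X.Etale} (f : U' ⟶ U) (s : ↑((EtCoh.Gm X).obj.obj (op U))) :
    gmEquiv X U' ((EtCoh.Gm X).obj.map f.op s) =
      Units.map f.left.appTop.hom.toMonoidHom (gmEquiv X U s) := rfl

lemma gmEquiv_nsmul (U : X.Etale) (n : ℕ) (s : ↑((EtCoh.Gm X).obj.obj (op U))) :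
    gmEquiv X U (n • s) = (gmEquiv X U s) ^ n := rfl

lemma powMap_app (n : ℕ) (U : X.Etale) (s : ↑((EtCoh.Gm X).obj.obj (op U))) :
    (EtCoh.powMap X n).hom.app (op U) s = n • s := by
  unfold EtCoh.powMap
  induction n with
  | zero =>
    rw [zero_nsmul, zero_nsmul]
    rfl
  | succ n ih =>
    rw [succ_nsmul, succ_nsmul, Sheaf.Hom.add_app]
    change (ConcreteCategory.hom ((n • 𝟙 (EtCoh.Gm X)).hom.app (op U))) s +
      (ConcreteCategory.hom ((𝟙 (EtCoh.Gm X) : EtCoh.Gm X ⟶ EtCoh.Gm X).hom.app (op U))) s = _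
    rw [ih]
    rfl

/-- the `n`-th power map on `G_m` is locally surjective when `n` is invertible -/
theorem isLocallySurjective_powMap (n : ℕ) (hn : IsUnit (n : Γ(X, ⊤))) :
    Sheaf.IsLocallySurjective (EtCoh.powMap X n) := by
  refine ⟨fun {U} s => ?_⟩
  apply Groth.Agent.Lib.Helper9.EtPoint.geomPoints_detect X
  rintro Φ ⟨Ω, _, _, ξ, rfl⟩ x
  let a : (Γ(U.left, ⊤))ˣ := gmEquiv X U s
  let l : Spec (CommRingCat.of Ω) ⟶ U.left := x.left
  -- `n` is invertible in `Ω`
  have hnΩ : (n : Ω) ≠ 0 := by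
    have h1 := hn.map (evAt ξ)
    rw [map_natCast] at h1
    exact h1.ne_zero
  have hn0 : n ≠ 0 := by
    rintro rfl
    exact hnΩ Nat.cast_zero
  let q : (Γ(U.left, ⊤))[X] := Polynomial.X ^ n - C (a : Γ(U.left, ⊤))
  have hq : q.Monic := monic_X_pow_sub_C _ hn0
  have hā : evAt l (a : Γ(U.left, ⊤)) ≠ 0 := (a.isUnit.map (evAt l)).ne_zero
  have hqmap : q.map (evAt l) = Polynomial.X ^ n - C (evAt l (a : Γ(U.left, ⊤))) := by
    simp [q]
  have hsep : (q.map (evAt l)).Separable := by
    rw [hqmap]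
    exact separable_X_pow_sub_C _ hnΩ hā
  have hdeg : (q.map (evAt l)).degree ≠ 0 := by
    rw [hqmap, degree_X_pow_sub_C (Nat.pos_of_ne_zero hn0)]
    exact_mod_cast hn0
  obtain ⟨α₀, hα⟩ := IsSepClosed.exists_root (q.map (evAt l)) hdeg hsep
  have hα' : (q.map (evAt l)).derivative.eval α₀ ≠ 0 := by
    intro h0
    obtain ⟨b, c, hbc⟩ := hsep
    have := congrArg (Polynomial.eval α₀) hbc
    rw [Polynomial.eval_add, Polynomial.eval_mul, Polynomial.eval_mul, h0, hα.eq_zero, mul_zero,
      mul_zero, add_zero, Polynomial.eval_one] at this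
    exact zero_ne_one this
  obtain ⟨U', g, hg, l', t, hl', ht, -⟩ := exists_root_refinement l q hq α₀ hα.eq_zero hα'
  have ht' : t ^ n = g.appTop.hom (a : Γ(U.left, ⊤)) := by
    have : (q.map g.appTop.hom).eval t = t ^ n - g.appTop.hom (a : Γ(U.left, ⊤)) := by
      simp [q]
    rw [this] at ht
    exact sub_eq_zero.1 ht
  have htu : IsUnit t := by
    have h1 : IsUnit (t ^ n) := by
      rw [ht']
      exact a.isUnit.map _
    exact (isUnit_pow_iff hn0).1 h1
  refine ⟨refObj U g hg, refHom U g hg, ?_, refLift ξ U x g hg l' hl', refLift_map ξ U x g hg l' hl'⟩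
  refine ⟨(gmEquiv X (refObj U g hg)).symm htu.unit, ?_⟩
  apply (gmEquiv X (refObj U g hg)).injective
  rw [powMap_app, gmEquiv_nsmul, Equiv.apply_symm_apply, gmEquiv_map]
  apply Units.ext
  exact ht'

/-- the Kummer sequence is exact on the right -/
theorem epi_powMap (n : ℕ) (hn : IsUnit (n : Γ(X, ⊤))) : Epi (EtCoh.powMap X n) := by
  haveI := isLocallySurjective_powMap X n hn
  infer_instance

end Groth.Agent.Lib.Helper9.Kummer
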