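import Mathlib.CategoryTheory.Limits.Indization.IndObject
import Mathlib.CategoryTheory.Limits.Types.Filtered
import Mathlib.CategoryTheory.Limits.FunctorCategory.Basic
import Mathlib.CategoryTheory.Adjunction.Limits
import Mathlib.CategoryTheory.Adjunction.FullyFaithful
import Mathlib.CategoryTheory.Yoneda

/-!
# Helper9Lan: a left adjoint `L` of restriction `u^*` on presheaves of sets

For `u : C ⥤ C'` and any left adjoint `L ⊣ u^*` (e.g. left Kan extension), the unit at a
representable presheaf `h_X ⟶ u^* L h_X` "is" the action of `u` on hom-sets: there are maps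
`σ X : L h_X ⟶ h_{u X}` with `σ (η a) = u a`.  Consequences for (full) faithfulness of `u`.
-/

set_option autoImplicit false

universe u

open CategoryTheory CategoryTheory.Limits Opposite

namespace Groth.Agent.Lib.Helper9

variable {C : Type u} [SmallCategory C] {C' : Type u} [SmallCategory C'] (u : C ⥤ C')
  {L : (Cᵒᵖ ⥤ Type u) ⥤ (C'ᵒᵖ ⥤ Type u)}
  (adj : L ⊣ (Functor.whiskeringLeft Cᵒᵖ C'ᵒᵖ (Type u)).obj u.op)

/-- The unit at `h_X`, evaluated at `X'`, as a function. -/
noncomputable def lanEta (X X' : C) : (X' ⟶ X) → (L.obj (yoneda.obj X)).obj (op (u.obj X')) :=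
  fun a => (adj.unit.app (yoneda.obj X)).app (op X') a

/-- The canonical element of `(L h_X)(u X)`. -/
noncomputable def lanElt (X : C) : (L.obj (yoneda.obj X)).obj (op (u.obj X)) :=
  lanEta u adj X X (𝟙 X)

lemma lanEta_eq (X X' : C) (a : X' ⟶ X) :
    lanEta u adj X X' a = (L.obj (yoneda.obj X)).map (u.map a).op (lanElt u adj X) := by
  have := ConcreteCategory.congr_hom ((adj.unit.app (yoneda.obj X)).naturality a.op) (𝟙 X)
  simp only [ConcreteCategory.comp_apply] at this
  have h4 : (yoneda.obj X).map a.op (𝟙 X) = a := by simp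
  have h5 : (adj.unit.app (yoneda.obj X)).app (op X') ((yoneda.obj X).map a.op (𝟙 X)) =
    (L.obj (yoneda.obj X)).map (u.map a).op (lanElt u adj X) := this
  rw [h4] at h5
  exact h5

/-- The map of presheaves `h_X ⟶ u^* h_{u X}` given by `u` on hom-sets. -/
def lanTau (X : C) : yoneda.obj X ⟶
    ((Functor.whiskeringLeft Cᵒᵖ C'ᵒᵖ (Type u)).obj u.op).obj (yoneda.obj (u.obj X)) where
  app X' := TypeCat.ofHom (fun a => u.map a)
  naturality := by
    intro X' X'' k
    ext a
    simp

/-- The map `L h_X ⟶ h_{u X}` adjoint to `u` on hom-sets. -/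
noncomputable def lanSigma (X : C) : L.obj (yoneda.obj X) ⟶ yoneda.obj (u.obj X) :=
  (adj.homEquiv _ _).symm (lanTau u X)

lemma lanSigma_elt (X : C) : (lanSigma u adj X).app (op (u.obj X)) (lanElt u adj X) = 𝟙 (u.obj X) := by
  have h5 : adj.unit.app (yoneda.obj X) ≫
      ((Functor.whiskeringLeft Cᵒᵖ C'ᵒᵖ (Type u)).obj u.op).map (lanSigma u adj X) = lanTau u X := by
    have := adj.homEquiv_unit (yoneda.obj X) (yoneda.obj (u.obj X)) (lanSigma u adj X)
    rw [← this]
    exact Equiv.apply_symm_apply _ _
  have h7 := ConcreteCategory.congr_hom (congrArg (fun f => NatTrans.app f (op X)) h5) (𝟙 X)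
  have h8 : (lanTau u X).app (op X) (𝟙 X) = 𝟙 (u.obj X) := by
    simp [lanTau]
  exact h7.trans h8

lemma lanSigma_map (X X' : C) (k : u.obj X' ⟶ u.obj X) :
    (lanSigma u adj X).app (op (u.obj X'))
      ((L.obj (yoneda.obj X)).map k.op (lanElt u adj X)) = k := by
  have := ConcreteCategory.congr_hom ((lanSigma u adj X).naturality k.op) (lanElt u adj X)
  simp only [ConcreteCategory.comp_apply] at this
  rw [this, lanSigma_elt]
  simp

lemma lanSigma_eta (X X' : C) (a : X' ⟶ X) :
    (lanSigma u adj X).app (op (u.obj X')) (lanEta u adj X X' a) = u.map a := by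
  rw [lanEta_eq, lanSigma_map]

lemma lanEta_injective_of_faithful [u.Faithful] (X X' : C) :
    Function.Injective (lanEta u adj X X') := by
  intro a b hab
  apply u.map_injective
  rw [← lanSigma_eta u adj, ← lanSigma_eta u adj X X' b, hab]

lemma faithful_of_lanEta_injective (h : ∀ X X' : C, Function.Injective (lanEta u adj X X')) :
    u.Faithful := by
  refine ⟨?_⟩
  intro X' X a b hab
  apply h X X'
  rw [lanEta_eq, lanEta_eq, hab]

lemma full_of_lanEta_surjective (h : ∀ X X' : C, Function.Surjective (lanEta u adj X X')) :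
    u.Full := by
  refine ⟨?_⟩
  intro X' X g
  obtain ⟨a, ha⟩ := h X X' ((L.obj (yoneda.obj X)).map g.op (lanElt u adj X))
  refine ⟨a, ?_⟩
  rw [lanEta_eq] at ha
  have := congrArg ((lanSigma u adj X).app (op (u.obj X'))) ha
  rwa [lanSigma_map, lanSigma_map] at this

/-- `L.map` on `Hom(F, G)` followed by the adjunction bijection is composition with the unit. -/
lemma homEquiv_map (F G : Cᵒᵖ ⥤ Type u) (φ : F ⟶ G) :
    adj.homEquiv F (L.obj G) (L.map φ) = φ ≫ adj.unit.app G := by
  rw [adj.homEquiv_unit]
  exact (adj.unit.naturality φ).symm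

/-- If the unit at `G` is a monomorphism then `L` is injective on `Hom(F, G)`. -/
lemma map_injective_of_mono_unit (F G : Cᵒᵖ ⥤ Type u) [Mono (adj.unit.app G)] :
    Function.Injective (fun φ : F ⟶ G => L.map φ) := by
  intro φ ψ h
  have h' : L.map φ = L.map ψ := h
  have := congrArg (adj.homEquiv F (L.obj G)) h'
  rw [homEquiv_map, homEquiv_map] at this
  exact (cancel_mono _).1 this

/-- `lanEta` in terms of `L.map` on morphisms between representables. -/
lemma lanEta_eq_comp (X X' : C) (a : X' ⟶ X) :
    lanEta u adj X X' a =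
      yonedaEquiv (adj.homEquiv (yoneda.obj X') (L.obj (yoneda.obj X)) (L.map (yoneda.map a))) := by
  rw [homEquiv_map, yonedaEquiv_comp, yonedaEquiv_yoneda_map]
  rfl

lemma lanEta_injective_of_map_injective (X X' : C)
    (h : Function.Injective (fun φ : yoneda.obj X' ⟶ yoneda.obj X => L.map φ)) :
    Function.Injective (lanEta u adj X X') := by
  intro a b hab
  rw [lanEta_eq_comp, lanEta_eq_comp] at hab
  have := h ((adj.homEquiv _ _).injective (yonedaEquiv.injective hab))
  exact yoneda.map_injective this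

lemma lanEta_surjective_of_map_surjective (X X' : C)
    (h : Function.Surjective (fun φ : yoneda.obj X' ⟶ yoneda.obj X => L.map φ)) :
    Function.Surjective (lanEta u adj X X') := by
  intro t
  obtain ⟨φ, hφ⟩ := h ((adj.homEquiv _ _).symm (yonedaEquiv.symm t))
  obtain ⟨a, rfl⟩ := yoneda.map_surjective φ
  refine ⟨a, ?_⟩
  have hφ' : L.map (yoneda.map a) = (adj.homEquiv _ _).symm (yonedaEquiv.symm t) := hφ
  rw [lanEta_eq_comp, hφ', Equiv.apply_symm_apply, Equiv.apply_symm_apply]

/-- For faithful `u` and an ind-object `G`, the unit `G ⟶ u^* L G` is injective on sections. -/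
lemma unit_injective_of_isIndObject [u.Faithful] (G : Cᵒᵖ ⥤ Type u) (hG : IsIndObject G) (X : C) :
    Function.Injective ((adj.unit.app G).app (op X)) := by
  let P := hG.presentation
  have hcolX := isColimitOfPreserves ((evaluation Cᵒᵖ (Type u)).obj (op X)) P.coconeIsColimit
  have : PreservesColimitsOfSize.{u, u} L := adj.leftAdjoint_preservesColimits
  have hcolL := isColimitOfPreserves (L ⋙ (evaluation C'ᵒᵖ (Type u)).obj (op (u.obj X)))
    P.coconeIsColimit
  intro a b hab
  obtain ⟨i, f, rfl⟩ := Types.jointly_surjective_of_isColimit hcolX a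
  obtain ⟨j, g, rfl⟩ := Types.jointly_surjective_of_isColimit hcolX b
  -- move to a common index
  let k := IsFiltered.max i j
  let f' : X ⟶ P.F.obj k := f ≫ P.F.map (IsFiltered.leftToMax i j)
  let g' : X ⟶ P.F.obj k := g ≫ P.F.map (IsFiltered.rightToMax i j)
  have hf : (P.cocone.ι.app i).app (op X) f = (P.cocone.ι.app k).app (op X) f' := by
    have := P.cocone.w (IsFiltered.leftToMax i j)
    rw [← this]
    rfl
  have hg : (P.cocone.ι.app j).app (op X) g = (P.cocone.ι.app k).app (op X) g' := by
    have := P.cocone.w (IsFiltered.rightToMax i j)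
    rw [← this]
    rfl
  show (P.cocone.ι.app i).app (op X) f = (P.cocone.ι.app j).app (op X) g
  rw [hf, hg]
  -- naturality of the unit with respect to the cocone maps
  have hnat : ∀ (h : X ⟶ P.F.obj k),
      (adj.unit.app G).app (op X) ((P.cocone.ι.app k).app (op X) h) =
        (L.map (P.cocone.ι.app k)).app (op (u.obj X)) (lanEta u adj (P.F.obj k) X h) := by
    intro h
    have := ConcreteCategory.congr_hom
      (congrArg (fun φ => NatTrans.app φ (op X)) (adj.unit.naturality (P.cocone.ι.app k))) h
    exact this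
  have hab' : (adj.unit.app G).app (op X) ((P.cocone.ι.app k).app (op X) f') =
      (adj.unit.app G).app (op X) ((P.cocone.ι.app k).app (op X) g') := by
    rw [← hf, ← hg]
    exact hab
  rw [hnat, hnat] at hab'
  obtain ⟨l, α, hα⟩ := (Types.FilteredColimit.isColimit_eq_iff' hcolL _ _).1 hab'
  -- push forward along `α`
  have hpush : ∀ (h : X ⟶ P.F.obj k),
      (L.map (yoneda.map (P.F.map α))).app (op (u.obj X)) (lanEta u adj (P.F.obj k) X h) =
        lanEta u adj (P.F.obj l) X (h ≫ P.F.map α) := by
    intro h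
    have := ConcreteCategory.congr_hom
      (congrArg (fun φ => NatTrans.app φ (op X)) (adj.unit.naturality (yoneda.map (P.F.map α)))) h
    exact this.symm
  have hα' : lanEta u adj (P.F.obj l) X (f' ≫ P.F.map α) =
      lanEta u adj (P.F.obj l) X (g' ≫ P.F.map α) := by
    rw [← hpush, ← hpush]
    exact hα
  have hfg := lanEta_injective_of_faithful u adj _ _ hα'
  have hw := P.cocone.w α
  have e1 : (P.cocone.ι.app k).app (op X) f' = (P.cocone.ι.app l).app (op X) (f' ≫ P.F.map α) := by
    rw [← hw]; rfl
  have e2 : (P.cocone.ι.app k).app (op X) g' = (P.cocone.ι.app l).app (op X) (g' ≫ P.F.map α) := by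
    rw [← hw]; rfl
  rw [e1, e2, hfg]

end Groth.Agent.Lib.Helper9
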