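import Groth.Agent.Lib.Helper9Lan
import Mathlib.CategoryTheory.Functor.KanExtension.Adjunction
import Mathlib.CategoryTheory.Comma.Over.Basic
import Mathlib.CategoryTheory.Limits.Types.Pullbacks
import Mathlib.CategoryTheory.Limits.Shapes.Pullback.IsPullback.Basic
import Mathlib.CategoryTheory.Limits.Types.Colimits

/-!
# Helper9LanSlice: left Kan extension along a faithful functor with fully faithful slice functors
-/

set_option autoImplicit false

universe u

open CategoryTheory CategoryTheory.Limits Opposite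

namespace Groth.Agent.Lib.Helper9

variable {C : Type u} [SmallCategory C] {C' : Type u} [SmallCategory C'] (u : C ⥤ C')

lemma exists_lift_of_slice (hu : ∀ X : C, (Over.post (X := X) u).Full) {X X' Y : C}
    (a : X ⟶ X') (f : u.obj Y ⟶ u.obj X) (c : Y ⟶ X') (h : f ≫ u.map a = u.map c) :
    ∃ b : Y ⟶ X, u.map b = f := by
  have := hu X'
  let g : (Over.post (X := X') u).obj (Over.mk c) ⟶ (Over.post (X := X') u).obj (Over.mk a) :=
    Over.homMk (U := (Over.post (X := X') u).obj (Over.mk c))
      (V := (Over.post (X := X') u).obj (Over.mk a)) f h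
  obtain ⟨b, hb⟩ := (Over.post (X := X') u).map_surjective g
  refine ⟨b.left, ?_⟩
  have := congrArg (fun k => k.left) hb
  exact this

/-- A presheaf on `C'` used to separate the sections of `H` over `Y`. -/
def sepPresheaf (H : Cᵒᵖ ⥤ Type u) (Y : C) : C'ᵒᵖ ⥤ Type u where
  obj V := (u.obj Y ⟶ V.unop) → Option (H.obj (op Y))
  map k := TypeCat.ofHom (fun φ g => φ (g ≫ k.unop))
  map_id V := by
    refine ConcreteCategory.hom_ext _ _ (fun φ => ?_)
    funext g
    show φ (g ≫ 𝟙 _) = φ g
    rw [Category.comp_id]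
  map_comp k k' := by
    refine ConcreteCategory.hom_ext _ _ (fun φ => ?_)
    funext g
    show φ (g ≫ (k'.unop ≫ k.unop)) = φ ((g ≫ k'.unop) ≫ k.unop)
    rw [Category.assoc]

variable [u.Faithful]

open Classical in
/-- The map `H ⟶ u^* P` separating the sections of `H` over `Y`. -/
noncomputable def sepMap (hu : ∀ X : C, (Over.post (X := X) u).Full) (H : Cᵒᵖ ⥤ Type u) (Y : C) :
    H ⟶ ((Functor.whiskeringLeft Cᵒᵖ C'ᵒᵖ (Type u)).obj u.op).obj (sepPresheaf u H Y) where
  app X := TypeCat.ofHom (fun h g =>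
    if hg : ∃ b : Y ⟶ X.unop, u.map b = g then some (H.map hg.choose.op h) else none)
  naturality := by
    intro X X' a
    ext h
    funext g
    show (if hg : ∃ b : Y ⟶ X'.unop, u.map b = g then
        some (H.map hg.choose.op (H.map a h)) else none) =
      (if hg : ∃ b : Y ⟶ X.unop, u.map b = g ≫ u.map a.unop then
        some (H.map hg.choose.op h) else none)
    by_cases hg : ∃ b : Y ⟶ X'.unop, u.map b = g
    · have hg' : ∃ b : Y ⟶ X.unop, u.map b = g ≫ u.map a.unop :=
        ⟨hg.choose ≫ a.unop, by rw [u.map_comp, hg.choose_spec]⟩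
      rw [dif_pos hg, dif_pos hg']
      have hb : hg'.choose = hg.choose ≫ a.unop := by
        apply u.map_injective
        rw [hg'.choose_spec, u.map_comp, hg.choose_spec]
      rw [hb]
      congr 1
      have : (hg.choose ≫ a.unop).op = a ≫ hg.choose.op := by
        rw [op_comp, Quiver.Hom.op_unop]
      rw [this, H.map_comp]
      rfl
    · have hg' : ¬ ∃ b : Y ⟶ X.unop, u.map b = g ≫ u.map a.unop := by
        rintro ⟨b, hb⟩
        exact hg (exists_lift_of_slice u hu a.unop g b hb.symm)
      rw [dif_neg hg, dif_neg hg']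

lemma sepMap_id (hu : ∀ X : C, (Over.post (X := X) u).Full) (H : Cᵒᵖ ⥤ Type u) (Y : C)
    (h : H.obj (op Y)) :
    (sepMap u hu H Y).app (op Y) h (𝟙 (u.obj Y)) = some h := by
  classical
  have hg : ∃ b : Y ⟶ Y, u.map b = 𝟙 (u.obj Y) := ⟨𝟙 Y, u.map_id Y⟩
  show (if hg : ∃ b : Y ⟶ Y, u.map b = 𝟙 (u.obj Y) then
    some (H.map hg.choose.op h) else none) = some h
  rw [dif_pos hg]
  have hb : hg.choose = 𝟙 Y := by
    apply u.map_injective
    rw [hg.choose_spec, u.map_id]
  rw [hb]
  simp

lemma sepMap_eq_some (hu : ∀ X : C, (Over.post (X := X) u).Full) (H : Cᵒᵖ ⥤ Type u) (Y X : C)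
    (x : H.obj (op X)) (g : u.obj Y ⟶ u.obj X) (k : H.obj (op Y))
    (h : (sepMap u hu H Y).app (op X) x g = some k) :
    ∃ b : Y ⟶ X, u.map b = g ∧ H.map b.op x = k := by
  classical
  have h' : (if hg : ∃ b : Y ⟶ X, u.map b = g then
    some (H.map hg.choose.op x) else none) = some k := h
  by_cases hg : ∃ b : Y ⟶ X, u.map b = g
  · rw [dif_pos hg] at h'
    exact ⟨hg.choose, hg.choose_spec, Option.some.inj h'⟩
  · rw [dif_neg hg] at h'
    exact absurd h' (by simp)

variable {L : (Cᵒᵖ ⥤ Type u) ⥤ (C'ᵒᵖ ⥤ Type u)}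
  (adj : L ⊣ (Functor.whiskeringLeft Cᵒᵖ C'ᵒᵖ (Type u)).obj u.op)

/-- The adjunct `L H ⟶ P` of `sepMap`. -/
noncomputable def sepDesc (hu : ∀ X : C, (Over.post (X := X) u).Full) (H : Cᵒᵖ ⥤ Type u) (Y : C) :
    L.obj H ⟶ sepPresheaf u H Y :=
  (adj.homEquiv _ _).symm (sepMap u hu H Y)

lemma sepDesc_unit (hu : ∀ X : C, (Over.post (X := X) u).Full) (H : Cᵒᵖ ⥤ Type u) (Y X : C)
    (x : H.obj (op X)) :
    (sepDesc u adj hu H Y).app (op (u.obj X)) ((adj.unit.app H).app (op X) x) =
      (sepMap u hu H Y).app (op X) x := by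
  have h5 : adj.unit.app H ≫
      ((Functor.whiskeringLeft Cᵒᵖ C'ᵒᵖ (Type u)).obj u.op).map (sepDesc u adj hu H Y) =
        sepMap u hu H Y := by
    have := adj.homEquiv_unit H (sepPresheaf u H Y) (sepDesc u adj hu H Y)
    rw [← this]
    exact Equiv.apply_symm_apply _ _
  exact ConcreteCategory.congr_hom (congrArg (fun f => NatTrans.app f (op X)) h5) x

theorem unit_injective_of_slice (hu : ∀ X : C, (Over.post (X := X) u).Full)
    (H : Cᵒᵖ ⥤ Type u) (Y : C) :
    Function.Injective ((adj.unit.app H).app (op Y)) := by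
  intro h₁ h₂ h
  have := congrArg (fun t => (sepDesc u adj hu H Y).app (op (u.obj Y)) t (𝟙 (u.obj Y))) h
  simp only [sepDesc_unit, sepMap_id] at this
  exact Option.some.inj this

theorem mono_unit_of_slice (hu : ∀ X : C, (Over.post (X := X) u).Full)
    (H : Cᵒᵖ ⥤ Type u) : Mono (adj.unit.app H) := by
  have : ∀ X : Cᵒᵖ, Mono ((adj.unit.app H).app X) := by
    intro X
    rw [mono_iff_injective]
    exact unit_injective_of_slice u adj hu H X.unop
  exact NatTrans.mono_of_mono_app _

/-- Every section of `u_! H` is the restriction of a section coming from `H` through the unit. -/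
lemma lan_jointly_surjective (H : Cᵒᵖ ⥤ Type u) (V : C'ᵒᵖ) (t : (u.op.lan.obj H).obj V) :
    ∃ (X : C) (f : V.unop ⟶ u.obj X) (x : H.obj (op X)),
      t = (u.op.lan.obj H).map f.op (((u.op.lanAdjunction (Type u)).unit.app H).app (op X) x) := by
  have hcol := Functor.isPointwiseLeftKanExtensionLeftKanExtensionUnit u.op H V
  obtain ⟨g, x, hx⟩ := Types.jointly_surjective_of_isColimit hcol t
  refine ⟨g.left.unop, g.hom.unop, x, ?_⟩
  rw [← hx, Functor.lanAdjunction_unit]
  rfl

/-- The naturality square of the unit of `u_! ⊣ u^*` is cartesian. -/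
theorem isPullback_unit_of_slice (hu : ∀ X : C, (Over.post (X := X) u).Full)
    (H K : Cᵒᵖ ⥤ Type u) (α : H ⟶ K) :
    IsPullback ((u.op.lanAdjunction (Type u)).unit.app H) α
      (((Functor.whiskeringLeft Cᵒᵖ C'ᵒᵖ (Type u)).obj u.op).map (u.op.lan.map α))
      ((u.op.lanAdjunction (Type u)).unit.app K) := by
  let adj := u.op.lanAdjunction (Type u)
  apply IsPullback.of_forall_isPullback_app
  intro Y
  rw [Types.isPullback_iff]
  refine ⟨?_, ?_, ?_⟩
  · exact congrArg (fun f => NatTrans.app f Y) (adj.unit.naturality α).symm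
  · rintro h₁ h₂ ⟨h, -⟩
    exact unit_injective_of_slice u adj hu H Y.unop h
  · intro t k htk
    obtain ⟨X, f, x, rfl⟩ := lan_jointly_surjective u H (op (u.obj Y.unop)) t
    -- compute the image of `t` under `u_! α`
    have h1 : (u.op.lan.map α).app (op (u.obj Y.unop))
        ((u.op.lan.obj H).map f.op ((adj.unit.app H).app (op X) x)) =
        (u.op.lan.obj K).map f.op ((adj.unit.app K).app (op X) (α.app (op X) x)) := by
      have e1 := ConcreteCategory.congr_hom ((u.op.lan.map α).naturality f.op)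
        ((adj.unit.app H).app (op X) x)
      have e2 := ConcreteCategory.congr_hom
        (congrArg (fun φ => NatTrans.app φ (op X)) (adj.unit.naturality α)) x
      simp only [ConcreteCategory.comp_apply] at e1
      rw [e1]
      congr 1
      exact e2.symm
    have htk' : (u.op.lan.obj K).map f.op ((adj.unit.app K).app (op X) (α.app (op X) x)) =
        (adj.unit.app K).app Y k := h1.symm.trans htk
    -- apply the separating map for `K`
    have h2 := congrArg (fun s => (sepDesc u adj hu K Y.unop).app (op (u.obj Y.unop)) s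
      (𝟙 (u.obj Y.unop))) htk'
    have h3 : (sepDesc u adj hu K Y.unop).app (op (u.obj Y.unop))
        ((u.op.lan.obj K).map f.op ((adj.unit.app K).app (op X) (α.app (op X) x)))
        (𝟙 (u.obj Y.unop)) = (sepMap u hu K Y.unop).app (op X) (α.app (op X) x) f := by
      have e3 := ConcreteCategory.congr_hom ((sepDesc u adj hu K Y.unop).naturality f.op)
        ((adj.unit.app K).app (op X) (α.app (op X) x))
      simp only [ConcreteCategory.comp_apply] at e3
      rw [e3, sepDesc_unit]
      show (sepMap u hu K Y.unop).app (op X) (α.app (op X) x) (𝟙 _ ≫ f) = _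
      rw [Category.id_comp]
    have h4 : (sepDesc u adj hu K Y.unop).app (op (u.obj Y.unop)) ((adj.unit.app K).app Y k)
        (𝟙 (u.obj Y.unop)) = some k := by
      have := sepDesc_unit u adj hu K Y.unop Y.unop k
      rw [this, sepMap_id]
    simp only at h2
    rw [h3, h4] at h2
    obtain ⟨b, hb, hbk⟩ := sepMap_eq_some u hu K Y.unop X _ f k h2
    refine ⟨H.map b.op x, ?_, ?_⟩
    · have e4 := ConcreteCategory.congr_hom ((adj.unit.app H).naturality b.op) x
      simp only [ConcreteCategory.comp_apply] at e4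
      rw [← hb]
      exact e4
    · have e5 := ConcreteCategory.congr_hom (α.naturality b.op) x
      simp only [ConcreteCategory.comp_apply] at e5
      rw [← hbk]
      exact e5

end Groth.Agent.Lib.Helper9
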