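import Mathlib

/-!
# A Nullstellensatz for algebras generated by fewer elements than the cardinality of the field

If `k` is an algebraically closed field and `B` is a nonzero `k`-algebra generated by a set of
cardinality smaller than that of `k`, then `B` has a `k`-rational point.
-/

open Cardinal

universe u

namespace Groth.Agent.Lib.Helper9.LargeField

/-- A field extension of an algebraically closed field `k` generated as a `k`-algebra by a set of
cardinality `< #k` is algebraic. -/
theorem isAlgebraic_of_adjoin_eq_top_of_card_lt {k L : Type u} [Field k] [Field L] [Algebra k L]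
    (s : Set L) (hs : Algebra.adjoin k s = ⊤) (hcard : #s < #k) : Algebra.IsAlgebraic k L := by
  by_cases hfin : s.Finite
  · haveI : Algebra.FiniteType k L := by
      refine ⟨⟨hfin.toFinset, ?_⟩⟩
      rw [Set.Finite.coe_toFinset]
      exact hs
    haveI := finite_of_finite_type_of_isJacobsonRing k L
    exact Algebra.IsAlgebraic.of_finite k L
  · by_contra hna
    haveI : Algebra.Transcendental k L := Algebra.transcendental_iff_not_isAlgebraic.2 hna
    have h1 : Module.rank k L = #L := Algebra.Transcendental.rank_eq_cardinalMk k L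
    have h2 : #k ≤ #L := Cardinal.mk_le_of_injective (algebraMap k L).injective
    haveI : Infinite s := Set.infinite_coe_iff.2 hfin
    have hsurj : Function.Surjective (MvPolynomial.aeval (R := k) (fun x : s => (x : L))) := by
      rw [← AlgHom.range_eq_top, ← Algebra.adjoin_range_eq_range_aeval, Subtype.range_coe]
      exact hs
    have h3 : Module.rank k L ≤ #s := by
      have := LinearMap.rank_le_of_surjective
        (MvPolynomial.aeval (R := k) (fun x : s => (x : L))).toLinearMap hsurj
      rw [MvPolynomial.rank_eq, Cardinal.mk_finsupp_nat,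
        max_eq_left (Cardinal.aleph0_le_mk s)] at this
      exact this
    exact absurd (h2.trans (h1 ▸ h3)) (not_le.2 hcard)

/-- **Nullstellensatz for small algebras over a large algebraically closed field.** -/
theorem exists_algHom_of_card_lt {k B : Type u} [Field k] [IsAlgClosed k] [CommRing B]
    [Nontrivial B] [Algebra k B] (s : Set B) (hs : Algebra.adjoin k s = ⊤) (hcard : #s < #k) :
    Nonempty (B →ₐ[k] k) := by
  obtain ⟨m, hm⟩ := Ideal.exists_maximal B
  letI : Field (B ⧸ m) := Ideal.Quotient.field m
  have hsL : Algebra.adjoin k ((Ideal.Quotient.mkₐ k m) '' s) = ⊤ := by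
    rw [← AlgHom.map_adjoin, hs, Algebra.map_top, AlgHom.range_eq_top]
    exact Ideal.Quotient.mkₐ_surjective k m
  have hcard' : #((Ideal.Quotient.mkₐ k m) '' s) < #k := lt_of_le_of_lt Cardinal.mk_image_le hcard
  haveI : Algebra.IsAlgebraic k (B ⧸ m) :=
    isAlgebraic_of_adjoin_eq_top_of_card_lt _ hsL hcard'
  haveI : Algebra.IsIntegral k (B ⧸ m) := Algebra.IsAlgebraic.isIntegral
  have hbij : Function.Bijective (algebraMap k (B ⧸ m)) :=
    IsAlgClosed.algebraMap_bijective_of_isIntegral
  let e : k ≃ₐ[k] (B ⧸ m) := AlgEquiv.ofBijective (Algebra.ofId k (B ⧸ m)) hbij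
  exact ⟨(e.symm : (B ⧸ m) →ₐ[k] k).comp (Ideal.Quotient.mkₐ k m)⟩

/-- Generators of a finite type algebra over an algebra generated by `s`. -/
theorem adjoin_union_eq_top {k A B : Type*} [CommRing k] [CommRing A] [CommRing B] [Algebra k A]
    (ψ : A →+* B) (s : Set A) (hs : Algebra.adjoin k s = ⊤) (t : Set B)
    (ht : @Algebra.adjoin A B _ _ ψ.toAlgebra t = ⊤) :
    @Algebra.adjoin k B _ _ (ψ.comp (algebraMap k A)).toAlgebra (ψ '' s ∪ t) = ⊤ := by
  letI : Algebra A B := ψ.toAlgebra
  letI : Algebra k B := (ψ.comp (algebraMap k A)).toAlgebra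
  haveI : IsScalarTower k A B := IsScalarTower.of_algebraMap_eq (fun _ => rfl)
  rw [eq_top_iff]
  intro b hbtop
  clear hbtop
  have hb : b ∈ Algebra.adjoin A t := by rw [ht]; trivial
  have hψ : ∀ a : A, algebraMap A B a ∈ Algebra.adjoin k (ψ '' s ∪ t) := by
    intro a
    have ha : a ∈ Algebra.adjoin k s := by rw [hs]; trivial
    have h1 : IsScalarTower.toAlgHom k A B a ∈ (Algebra.adjoin k s).map
        (IsScalarTower.toAlgHom k A B) := ⟨a, ha, rfl⟩
    rw [AlgHom.map_adjoin] at h1
    exact Algebra.adjoin_mono Set.subset_union_left h1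
  induction hb using Algebra.adjoin_induction with
  | mem x hx => exact Algebra.subset_adjoin (Or.inr hx)
  | algebraMap a => exact hψ a
  | add x y _ _ hx hy => exact add_mem hx hy
  | mul x y _ _ hx hy => exact mul_mem hx hy

/-- A finite type algebra `B ≠ 0` over a `k`-algebra `A` generated by fewer than `#k` elements has
a `k`-point, `k` algebraically closed. -/
theorem exists_retraction_of_finiteType {k A B : Type u} [Field k] [IsAlgClosed k] [CommRing A]
    [CommRing B] [Nontrivial B] [Algebra k A] (ψ : A →+* B) (hψ : ψ.FiniteType)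
    (s : Set A) (hs : Algebra.adjoin k s = ⊤) (hcard : #s < #k) :
    ∃ ρ : B →+* k, ρ.comp (ψ.comp (algebraMap k A)) = RingHom.id k := by
  letI : Algebra A B := ψ.toAlgebra
  letI : Algebra k B := (ψ.comp (algebraMap k A)).toAlgebra
  obtain ⟨t, ht⟩ := (show Algebra.FiniteType A B from hψ).out
  have hgen := adjoin_union_eq_top (k := k) ψ s hs (t : Set B) ht
  have hk : ℵ₀ ≤ #k := Cardinal.aleph0_le_mk k
  have hcard' : #(↥(ψ '' s ∪ (t : Set B))) < #k := by
    refine lt_of_le_of_lt (Cardinal.mk_union_le _ _) (Cardinal.add_lt_of_lt hk ?_ ?_)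
    · exact lt_of_le_of_lt Cardinal.mk_image_le hcard
    · exact lt_of_lt_of_le (Cardinal.lt_aleph0_of_finite _) hk
  obtain ⟨ρ⟩ := exists_algHom_of_card_lt (k := k) (B := B) _ hgen hcard'
  refine ⟨ρ.toRingHom, RingHom.ext fun c => ?_⟩
  have h1 := ρ.commutes c
  rw [Algebra.algebraMap_self_apply] at h1
  exact h1

end Groth.Agent.Lib.Helper9.LargeField
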