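import Mathlib.CategoryTheory.Adjunction.Reflective
import Mathlib.CategoryTheory.Sites.SheafOfTypes
import Mathlib.CategoryTheory.Sites.Canonical
import Mathlib.CategoryTheory.ObjectProperty.FullSubcategory
import Mathlib.CategoryTheory.ObjectProperty.ClosedUnderIsomorphisms
import Mathlib.CategoryTheory.Limits.Preserves.Finite
import Mathlib.CategoryTheory.Limits.Preserves.Shapes.Pullbacks
import Mathlib.CategoryTheory.Limits.Preserves.Shapes.Equalizers
import Mathlib.CategoryTheory.Limits.Types.Pullbacks
import Mathlib.CategoryTheory.Limits.FunctorCategory.Basic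

set_option autoImplicit false

namespace Groth.Agent.Lib.Helper9

open CategoryTheory Limits Opposite

universe u

section Lex

variable {C : Type u} [SmallCategory C] (P : ObjectProperty (Cᵒᵖ ⥤ Type u))
  [Reflective P.ι]

/-- A morphism is inverted by the reflector iff every object of `P` sees it as a bijection. -/
lemma isIso_reflector_map_iff {A B : Cᵒᵖ ⥤ Type u} (m : A ⟶ B) :
    IsIso ((reflector P.ι).map m) ↔
      ∀ F : Cᵒᵖ ⥤ Type u, P F → Function.Bijective (fun g : B ⟶ F => m ≫ g) := by
  have key : ∀ G : P.FullSubcategory,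
      Function.Bijective (fun g : (reflector P.ι).obj B ⟶ G => (reflector P.ι).map m ≫ g) ↔
        Function.Bijective (fun g : B ⟶ P.ι.obj G => m ≫ g) := by
    intro G
    have e : (fun g : B ⟶ P.ι.obj G => m ≫ g) =
        ((reflectorAdjunction P.ι).homEquiv A G) ∘
          (fun g : (reflector P.ι).obj B ⟶ G => (reflector P.ι).map m ≫ g) ∘
          ((reflectorAdjunction P.ι).homEquiv B G).symm := by
      funext g
      simp only [Function.comp_apply]
      rw [Adjunction.homEquiv_naturality_left, Equiv.apply_symm_apply]
    rw [e, Equiv.comp_bijective, Equiv.bijective_comp]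
  rw [isIso_iff_coyoneda_map_bijective]
  constructor
  · intro h F hF
    exact (key ⟨F, hF⟩).1 (h ⟨F, hF⟩)
  · intro h G
    exact (key G).2 (h G.obj G.property)

/-- Sieve version: the reflector inverts the inclusion of a sieve iff every object of `P` is a
sheaf for the sieve. -/
lemma isIso_reflector_map_functorInclusion_iff {X : C} (S : Sieve X) :
    IsIso ((reflector P.ι).map S.functorInclusion) ↔
      ∀ F : Cᵒᵖ ⥤ Type u, P F → Presieve.IsSheafFor F S.arrows := by
  rw [isIso_reflector_map_iff]
  refine forall₂_congr fun F hF => ?_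
  rw [Presieve.isSheafFor_iff_yonedaSheafCondition, Presieve.YonedaSheafCondition,
    Function.bijective_iff_existsUnique]

variable [PreservesFiniteLimits (reflector P.ι)]

open TypeCat in
/-- The "inverse image sieve" of a subobject inverted by the reflector is inverted by the
reflector. -/
lemma isIso_reflector_map_imageSieve {A B : Cᵒᵖ ⥤ Type u} (m : A ⟶ B)
    (hm : ∀ Y, Function.Injective (m.app Y)) (hL : IsIso ((reflector P.ι).map m)) {X : C}
    (x : B.obj (op X)) (S : Sieve X)
    (hS : ∀ ⦃Y : C⦄ (f : Y ⟶ X), S f ↔ ∃ a : A.obj (op Y), m.app _ a = B.map f.op x) :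
    IsIso ((reflector P.ι).map S.functorInclusion) := by
  have hσ : ∀ (Y : Cᵒᵖ) (s : S.functor.obj Y),
      ∃ a : A.obj Y, m.app _ a = B.map s.1.op x := fun Y s => (hS s.1).1 s.2
  choose σ' hσ' using hσ
  let σ : S.functor ⟶ A :=
    { app := fun Y => ↾(σ' Y)
      naturality := by
        intro Y Z g
        ext s
        apply hm
        change m.app Z (σ' Z (S.functor.map g s)) = m.app Z (A.map g (σ' Y s))
        rw [hσ', NatTrans.naturality_apply, hσ']
        change B.map (g.unop ≫ s.1).op x = B.map g (B.map s.1.op x)
        rw [op_comp, Functor.map_comp_apply]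
        rfl }
  have hpb : IsPullback σ S.functorInclusion m (yonedaEquiv.symm x) := by
    apply IsPullback.of_forall_isPullback_app
    intro Y
    rw [Types.isPullback_iff]
    refine ⟨?_, ?_, ?_⟩
    · ext s
      exact hσ' Y s
    · rintro s₁ s₂ ⟨_, h₂⟩
      exact Subtype.ext h₂
    · intro a f haf
      have hf : S f := (hS f).2 ⟨a, haf⟩
      refine ⟨⟨f, hf⟩, ?_, rfl⟩
      apply hm
      exact (hσ' Y ⟨f, hf⟩).trans haf.symm
  have := Functor.map_isPullback (reflector P.ι) hpb
  exact this.isIso_snd_of_isIso

open TypeCat in
/-- The sieve on which two sections identified by the unit agree is inverted by the reflector. -/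
lemma isIso_reflector_map_eqSieve {F : Cᵒᵖ ⥤ Type u} {X : C} (a b : F.obj (op X))
    (hab : ((reflectorAdjunction P.ι).unit.app F).app (op X) a =
      ((reflectorAdjunction P.ι).unit.app F).app (op X) b)
    (S : Sieve X) (hS : ∀ ⦃Y : C⦄ (f : Y ⟶ X), S f ↔ F.map f.op a = F.map f.op b) :
    IsIso ((reflector P.ι).map S.functorInclusion) := by
  have w : S.functorInclusion ≫ yonedaEquiv.symm a = S.functorInclusion ≫ yonedaEquiv.symm b := by
    ext Y s
    exact (hS s.1).1 s.2
  have hlim : IsLimit (Fork.ofι S.functorInclusion w) := by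
    refine Fork.IsLimit.mk _ (fun c =>
      { app := fun Y => ↾fun z => ⟨c.ι.app Y z, (hS _).2 ?_⟩
        naturality := ?_ }) ?_ ?_
    · have := congrArg (fun k => k.app Y z) c.condition
      exact this
    · intro Y Z g
      ext z
      apply Subtype.ext
      have := NatTrans.naturality_apply c.ι g z
      exact this
    · intro c
      ext Y z
      rfl
    · intro c k hk
      ext Y z
      apply Subtype.ext
      have := congrArg (fun k => k.app Y z) hk
      exact this
  have hL : (reflector P.ι).map (yonedaEquiv.symm a) = (reflector P.ι).map (yonedaEquiv.symm b) := by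
    apply ((reflectorAdjunction P.ι).homEquiv _ _).injective
    have e : ∀ t : yoneda.obj X ⟶ F, ((reflectorAdjunction P.ι).homEquiv _ _)
        ((reflector P.ι).map t) = t ≫ (reflectorAdjunction P.ι).unit.app F := by
      intro t
      have := (reflectorAdjunction P.ι).homEquiv_naturality_left t (𝟙 ((reflector P.ι).obj F))
      rw [Category.comp_id, Adjunction.homEquiv_id] at this
      exact this
    rw [e, e]
    apply yonedaEquiv.injective
    rw [yonedaEquiv_comp, yonedaEquiv_comp, Equiv.apply_symm_apply, Equiv.apply_symm_apply]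
    exact hab
  have h2 := isLimitForkMapOfIsLimit (reflector P.ι) w hlim
  exact isIso_limit_cone_parallelPair_of_eq hL h2

/-- A left exact reflective subcategory of presheaves on a small category is the category of
sheaves for a Grothendieck topology. -/
theorem exists_topology_of_lex_reflective [P.IsClosedUnderIsomorphisms] :
    ∃ J : GrothendieckTopology C,
      (∀ (X : C) (S : Sieve X), S ∈ J X ↔ IsIso ((reflector P.ι).map S.functorInclusion)) ∧
      ∀ F : Cᵒᵖ ⥤ Type u, P F ↔ Presieve.IsSheaf J F := by
  have hJ : ∀ (X : C) (S : Sieve X), S ∈ Sheaf.finestTopology {F | P F} X ↔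
      IsIso ((reflector P.ι).map S.functorInclusion) := by
    intro X S
    constructor
    · intro hS
      rw [isIso_reflector_map_functorInclusion_iff]
      intro F hF
      exact Sheaf.sheaf_for_finestTopology _ hF S hS
    · intro hS
      apply Sheaf.mem_finestTopology_of_forall_isSheafFor
      intro F hF Y f
      have : IsIso ((reflector P.ι).map (S.pullback f).functorInclusion) := by
        refine isIso_reflector_map_imageSieve P S.functorInclusion ?_ hS (X := Y) f
          (S.pullback f) ?_
        · intro Z s₁ s₂ h
          exact Subtype.ext h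
        · intro Z g
          constructor
          · intro hg
            exact ⟨⟨g ≫ f, hg⟩, rfl⟩
          · rintro ⟨s, hs⟩
            have : s.1 = g ≫ f := hs
            change S (g ≫ f)
            rw [← this]
            exact s.2
      exact (isIso_reflector_map_functorInclusion_iff P _).1 this F hF
  refine ⟨Sheaf.finestTopology {F | P F}, hJ, fun F =>
    ⟨fun hF => Sheaf.sheaf_for_finestTopology _ hF, fun hF => ?_⟩⟩
  have hF' : P ((reflector P.ι).obj F).obj := ((reflector P.ι).obj F).property
  have hF'sh : Presieve.IsSheaf (Sheaf.finestTopology {F | P F}) ((reflector P.ι).obj F).obj :=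
    Sheaf.sheaf_for_finestTopology _ hF'
  obtain ⟨η, hη⟩ : ∃ η : F ⟶ ((reflector P.ι).obj F).obj,
      η = (reflectorAdjunction P.ι).unit.app F := ⟨_, rfl⟩
  have hnat : ∀ {Y Z : Cᵒᵖ} (g : Y ⟶ Z) (a : F.obj Y),
      η.app Z (F.map g a) = ((reflector P.ι).obj F).obj.map g (η.app Y a) :=
    fun g a => NatTrans.naturality_apply η g a
  have hinj : ∀ Y : Cᵒᵖ, Function.Injective (η.app Y) := by
    intro Y a b hab
    let S : Sieve Y.unop :=
      { arrows := fun Z f => F.map f.op a = F.map f.op b
        downward_closed := by
          intro Z W f hf g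
          change F.map (g ≫ f).op a = F.map (g ≫ f).op b
          rw [op_comp, Functor.map_comp_apply, Functor.map_comp_apply]
          exact congrArg _ hf }
    have hS : S ∈ Sheaf.finestTopology {F | P F} Y.unop :=
      (hJ _ _).2 (isIso_reflector_map_eqSieve P a b (hη ▸ hab) S (fun _ _ => Iff.rfl))
    exact (hF.isSeparated _ hS).ext (fun Z f hf => hf)
  have hLη : IsIso ((reflector P.ι).map η) := by
    rw [hη]
    have h1 := (reflectorAdjunction P.ι).left_triangle_components F
    have h2 : IsIso ((reflector P.ι).map ((reflectorAdjunction P.ι).unit.app F) ≫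
        (reflectorAdjunction P.ι).counit.app ((reflector P.ι).obj F)) := by
      rw [h1]
      exact IsIso.id _
    exact IsIso.of_isIso_comp_right _ ((reflectorAdjunction P.ι).counit.app ((reflector P.ι).obj F))
  have hsurj : ∀ Y : Cᵒᵖ, Function.Surjective (η.app Y) := by
    intro Y x
    let S : Sieve Y.unop :=
      { arrows := fun Z f => ∃ a : F.obj (op Z), η.app _ a =
          ((reflector P.ι).obj F).obj.map f.op x
        downward_closed := by
          rintro Z W f ⟨a, ha⟩ g
          refine ⟨F.map g.op a, ?_⟩
          rw [hnat, ha, op_comp, Functor.map_comp_apply] }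
    have hS : S ∈ Sheaf.finestTopology {F | P F} Y.unop :=
      (hJ _ _).2 (isIso_reflector_map_imageSieve P η hinj hLη x S (fun _ _ => Iff.rfl))
    have hy : ∀ ⦃Z : C⦄ (f : Z ⟶ Y.unop), S f → ∃ a : F.obj (op Z),
        η.app _ a = ((reflector P.ι).obj F).obj.map f.op x := fun Z f hf => hf
    choose y hy' using hy
    have hcompat : Presieve.FamilyOfElements.Compatible
        (y : Presieve.FamilyOfElements F S.arrows) := by
      intro Z₁ Z₂ W g₁ g₂ f₁ f₂ h₁ h₂ e
      apply hinj
      rw [hnat, hnat, hy', hy', ← Functor.map_comp_apply, ← Functor.map_comp_apply, ← op_comp,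
        ← op_comp, e]
    refine ⟨(hF _ hS).amalgamate y hcompat, ?_⟩
    refine (hF'sh.isSeparated _ hS).ext (fun Z f hf => ?_)
    rw [← hnat, (hF _ hS).valid_glue hcompat f hf, hy']
  have hiso : IsIso η := by
    rw [NatTrans.isIso_iff_isIso_app]
    intro Y
    rw [isIso_iff_bijective]
    exact ⟨hinj Y, hsurj Y⟩
  exact P.prop_of_iso (asIso η).symm hF'

end Lex

end Groth.Agent.Lib.Helper9
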