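import Mathlib.CategoryTheory.Limits.Shapes.Products
import Mathlib.CategoryTheory.Limits.Shapes.BinaryProducts
import Mathlib.CategoryTheory.Limits.HasLimits
import Mathlib.CategoryTheory.Limits.Shapes.Equalizers

set_option autoImplicit false

namespace Groth.Agent.Lib.Helper9

open CategoryTheory Limits Opposite

universe w v₁ v₂ u₁ u₂

section LimEq

variable {I : Type u₁} [Category.{v₁} I] {C : Type u₂} [Category.{v₂} C] {A : Type w} (i : A → I)
  [∀ α β, HasBinaryProduct (i α) (i β)]
  (F : Iᵒᵖ ⥤ C)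
  [HasProduct (fun α => F.obj (op (i α)))]
  [HasProduct (fun p : A × A => F.obj (op (i p.1 ⨯ i p.2)))]

/-- first map of the equalizer diagram -/
noncomputable def limP₁ : ∏ᶜ (fun α => F.obj (op (i α))) ⟶
    ∏ᶜ (fun p : A × A => F.obj (op (i p.1 ⨯ i p.2))) :=
  Pi.lift (fun p : A × A =>
    Pi.π (fun α => F.obj (op (i α))) p.1 ≫ F.map (prod.fst : i p.1 ⨯ i p.2 ⟶ i p.1).op)

/-- second map of the equalizer diagram -/
noncomputable def limP₂ : ∏ᶜ (fun α => F.obj (op (i α))) ⟶
    ∏ᶜ (fun p : A × A => F.obj (op (i p.1 ⨯ i p.2))) :=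
  Pi.lift (fun p : A × A =>
    Pi.π (fun α => F.obj (op (i α))) p.2 ≫ F.map (prod.snd : i p.1 ⨯ i p.2 ⟶ i p.2).op)

variable {i F}

lemma lim_indep {T : C} (t : T ⟶ ∏ᶜ (fun α => F.obj (op (i α))))
    (ht : t ≫ limP₁ i F = t ≫ limP₂ i F) {j : I} {α β : A} (u : j ⟶ i α) (v : j ⟶ i β) :
    t ≫ Pi.π (fun α => F.obj (op (i α))) α ≫ F.map u.op =
      t ≫ Pi.π (fun α => F.obj (op (i α))) β ≫ F.map v.op := by
  have h1 := congrArg (fun k => k ≫ Pi.π (fun p : A × A => F.obj (op (i p.1 ⨯ i p.2))) (α, β) ≫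
    F.map (prod.lift u v).op) ht
  simp only [Category.assoc, limP₁, limP₂] at h1
  rw [Pi.lift_π_assoc, Pi.lift_π_assoc] at h1
  simp only [Category.assoc, ← F.map_comp, ← op_comp, prod.lift_fst, prod.lift_snd] at h1
  exact h1

variable (a : I → A) (g : ∀ j : I, j ⟶ i (a j))

/-- The cone over `F` induced by a morphism to the product equalizing the two maps. -/
noncomputable def limCone {T : C} (t : T ⟶ ∏ᶜ (fun α => F.obj (op (i α))))
    (ht : t ≫ limP₁ i F = t ≫ limP₂ i F) : Cone F where
  pt := T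
  π :=
    { app := fun j => t ≫ Pi.π (fun α => F.obj (op (i α))) (a j.unop) ≫ F.map (g j.unop).op
      naturality := by
        intro j k h
        simp only [Functor.const_obj_obj, Functor.const_obj_map, Category.id_comp, Category.assoc]
        rw [← F.map_comp]
        exact lim_indep t ht (g k.unop) (h.unop ≫ g j.unop) }

lemma limCone_π_app {T : C} (t : T ⟶ ∏ᶜ (fun α => F.obj (op (i α))))
    (ht : t ≫ limP₁ i F = t ≫ limP₂ i F) (α : A) :
    (limCone a g t ht).π.app (op (i α)) = t ≫ Pi.π (fun α => F.obj (op (i α))) α := by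
  have := lim_indep t ht (g (i α)) (𝟙 (i α))
  simp only [op_id, F.map_id, Category.comp_id] at this
  exact this

lemma cone_eq_of_cov (s : Cone F) (j : I) :
    s.π.app (op j) = s.π.app (op (i (a j))) ≫ F.map (g j).op := by
  have := s.π.naturality (g j).op
  simp only [Functor.const_obj_obj, Functor.const_obj_map, Category.id_comp] at this
  exact this

lemma cone_equalizes (s : Cone F) :
    Pi.lift (fun α => s.π.app (op (i α))) ≫ limP₁ i F =
      Pi.lift (fun α => s.π.app (op (i α))) ≫ limP₂ i F := by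
  apply Pi.hom_ext
  intro p
  simp only [limP₁, limP₂, Category.assoc, Pi.lift_π, Pi.lift_π_assoc]
  have h1 := s.π.naturality (prod.fst : i p.1 ⨯ i p.2 ⟶ i p.1).op
  have h2 := s.π.naturality (prod.snd : i p.1 ⨯ i p.2 ⟶ i p.2).op
  simp only [Functor.const_obj_obj, Functor.const_obj_map, Category.id_comp] at h1 h2
  rw [← h1, ← h2]

variable [HasEqualizers C]

/-- The equalizer is a limit of `F`. -/
noncomputable def limConeIsLimit :
    IsLimit (limCone a g (equalizer.ι (limP₁ i F) (limP₂ i F)) (equalizer.condition _ _)) where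
  lift s := equalizer.lift (Pi.lift (fun α => s.π.app (op (i α)))) (cone_equalizes s)
  fac s j := by
    change equalizer.lift _ _ ≫ equalizer.ι _ _ ≫ _ ≫ _ = _
    rw [equalizer.lift_ι_assoc, Pi.lift_π_assoc]
    exact (cone_eq_of_cov a g s j.unop).symm
  uniq s m hm := by
    apply equalizer.hom_ext
    rw [equalizer.lift_ι]
    apply Pi.hom_ext
    intro α
    rw [Pi.lift_π, Category.assoc, ← limCone_π_app a g _ (equalizer.condition _ _) α]
    exact hm (op (i α))

theorem limit_isEqualizer (hcov : ∀ j : I, ∃ α, Nonempty (j ⟶ i α)) :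
    HasLimit F ∧ ∀ [HasLimit F],
      Mono (Pi.lift (fun α => limit.π F (op (i α)))) ∧
      ∀ (T : C) (t : T ⟶ ∏ᶜ (fun α => F.obj (op (i α)))),
        (∃ s : T ⟶ limit F, s ≫ Pi.lift (fun α => limit.π F (op (i α))) = t) ↔
        t ≫ limP₁ i F = t ≫ limP₂ i F := by
  choose a g using hcov
  let g' : ∀ j : I, j ⟶ i (a j) := fun j => (g j).some
  refine ⟨⟨⟨_, limConeIsLimit a g'⟩⟩, ?_⟩
  intro _
  refine ⟨⟨?_⟩, ?_⟩
  · intro T x y hxy
    apply limit.hom_ext
    intro j
    have h1 := cone_eq_of_cov a g' (limit.cone F) j.unop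
    change limit.π F (op j.unop) = limit.π F _ ≫ _ at h1
    have h2 := congrArg (fun k => k ≫ Pi.π (fun α => F.obj (op (i α))) (a j.unop)) hxy
    simp only [Category.assoc, Pi.lift_π] at h2
    change x ≫ limit.π F (op j.unop) = y ≫ limit.π F (op j.unop)
    rw [h1, ← Category.assoc, h2, Category.assoc]
  · intro T t
    constructor
    · rintro ⟨s, rfl⟩
      rw [Category.assoc, Category.assoc]
      congr 1
      exact cone_equalizes (limit.cone F)
    · intro ht
      refine ⟨limit.lift F (limCone a g' t ht), ?_⟩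
      apply Pi.hom_ext
      intro α
      rw [Category.assoc, Pi.lift_π]
      exact (limit.lift_π (limCone a g' t ht) (op (i α))).trans (limCone_π_app a g' t ht α)

end LimEq

end Groth.Agent.Lib.Helper9
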