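import Mathlib

/-!
# Abstract Mayer–Vietoris sequence from a short exact sequence `A₁₂ ⟶ A₁ ⊞ A₂ ⟶ Z` (helper9)
-/

set_option autoImplicit false

universe w w' v u

open CategoryTheory CategoryTheory.Limits Abelian

namespace Groth.Agent.Lib.Helper9.MVAbstract

variable {𝒜 : Type u} [Category.{v} 𝒜] [Abelian 𝒜] [HasExt.{w} 𝒜]

section

variable {A₁ A₂ A₁₂ Z F : 𝒜}
  (f₁ : A₁₂ ⟶ A₁) (f₂ : A₁₂ ⟶ A₂) (g₁ : A₁ ⟶ Z) (g₂ : A₂ ⟶ Z)

lemma mk₀_desc_comp_eq_zero_iff {n : ℕ} (x : Ext.{w} Z F n) :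
    (Ext.mk₀ (biprod.desc g₁ g₂)).comp x (zero_add n) = 0 ↔
      (Ext.mk₀ g₁).comp x (zero_add n) = 0 ∧ (Ext.mk₀ g₂).comp x (zero_add n) = 0 := by
  constructor
  · intro h
    constructor
    · have := congrArg (fun t => (Ext.mk₀ biprod.inl).comp t (zero_add n)) h
      simpa [Ext.mk₀_comp_mk₀_assoc] using this
    · have := congrArg (fun t => (Ext.mk₀ biprod.inr).comp t (zero_add n)) h
      simpa [Ext.mk₀_comp_mk₀_assoc] using this
  · rintro ⟨h1, h2⟩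
    apply Ext.biprod_ext
    · simpa [Ext.mk₀_comp_mk₀_assoc] using h1
    · simpa [Ext.mk₀_comp_mk₀_assoc] using h2

lemma mk₀_lift_comp {n : ℕ} (x₁ : Ext.{w} A₁ F n) (x₂ : Ext.{w} A₂ F n) :
    (Ext.mk₀ (biprod.lift f₁ (-f₂))).comp
        ((Ext.mk₀ biprod.fst).comp x₁ (zero_add n) + (Ext.mk₀ biprod.snd).comp x₂ (zero_add n))
        (zero_add n) =
      (Ext.mk₀ f₁).comp x₁ (zero_add n) - (Ext.mk₀ f₂).comp x₂ (zero_add n) := by
  rw [Ext.comp_add, Ext.mk₀_comp_mk₀_assoc, Ext.mk₀_comp_mk₀_assoc, biprod.lift_fst,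
    biprod.lift_snd, Ext.mk₀_neg, Ext.neg_comp, sub_eq_add_neg]

end

theorem mv_abstract {A₁ A₂ A₁₂ Z F : 𝒜}
    (f₁ : A₁₂ ⟶ A₁) (f₂ : A₁₂ ⟶ A₂) (g₁ : A₁ ⟶ Z) (g₂ : A₂ ⟶ Z)
    (zero : biprod.lift f₁ (-f₂) ≫ biprod.desc g₁ g₂ = 0)
    (hS : (ShortComplex.mk _ _ zero).ShortExact)
    {G₁ G₂ G₁₂ : ℕ → Type w'} [∀ n, AddCommGroup (G₁ n)] [∀ n, AddCommGroup (G₂ n)]
    [∀ n, AddCommGroup (G₁₂ n)]
    (Φ₁ : ∀ n, Ext.{w} A₁ F n ≃+ G₁ n) (Φ₂ : ∀ n, Ext.{w} A₂ F n ≃+ G₂ n)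
    (Φ₁₂ : ∀ n, Ext.{w} A₁₂ F n ≃+ G₁₂ n)
    (r₁ : ∀ n, Ext.{w} Z F n →+ G₁ n) (r₂ : ∀ n, Ext.{w} Z F n →+ G₂ n)
    (s₁ : ∀ n, G₁ n →+ G₁₂ n) (s₂ : ∀ n, G₂ n →+ G₁₂ n)
    (hr₁ : ∀ n x, r₁ n x = Φ₁ n ((Ext.mk₀ g₁).comp x (zero_add n)))
    (hr₂ : ∀ n x, r₂ n x = Φ₂ n ((Ext.mk₀ g₂).comp x (zero_add n)))
    (hs₁ : ∀ n x, s₁ n (Φ₁ n x) = Φ₁₂ n ((Ext.mk₀ f₁).comp x (zero_add n)))
    (hs₂ : ∀ n x, s₂ n (Φ₂ n x) = Φ₁₂ n ((Ext.mk₀ f₂).comp x (zero_add n))) :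
    ∃ δ : ∀ n, G₁₂ n →+ Ext.{w} Z F (n + 1),
      ((r₁ 0).prod (r₂ 0)).ker = ⊥ ∧
      (∀ n, ((r₁ (n + 1)).prod (r₂ (n + 1))).ker = (δ n).range) ∧
      (∀ n, ((s₁ n).comp (AddMonoidHom.fst _ _) - (s₂ n).comp (AddMonoidHom.snd _ _)).ker =
        ((r₁ n).prod (r₂ n)).range) ∧
      (∀ n, (δ n).ker =
        ((s₁ n).comp (AddMonoidHom.fst _ _) - (s₂ n).comp (AddMonoidHom.snd _ _)).range) := by
  let S := ShortComplex.mk _ _ zero
  haveI : Epi (biprod.desc g₁ g₂) := hS.epi_g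
  -- both restrictions vanish iff the composite with `g` vanishes
  have hker : ∀ (n : ℕ) (x : Ext.{w} Z F n), (r₁ n x = 0 ∧ r₂ n x = 0) ↔
      (Ext.mk₀ (biprod.desc g₁ g₂)).comp x (zero_add n) = 0 := by
    intro n x
    rw [mk₀_desc_comp_eq_zero_iff, hr₁, hr₂]
    simp
  -- the difference map in terms of `f`
  have hd : ∀ (n : ℕ) (x₁ : Ext.{w} A₁ F n) (x₂ : Ext.{w} A₂ F n),
      s₁ n (Φ₁ n x₁) - s₂ n (Φ₂ n x₂) =
        Φ₁₂ n ((Ext.mk₀ (biprod.lift f₁ (-f₂))).comp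
          ((Ext.mk₀ biprod.fst).comp x₁ (zero_add n) + (Ext.mk₀ biprod.snd).comp x₂ (zero_add n))
          (zero_add n)) := by
    intro n x₁ x₂
    rw [mk₀_lift_comp, map_sub, hs₁, hs₂]
  refine ⟨fun n => (hS.extClass.precomp F (show 1 + n = n + 1 by omega)).comp
    (Φ₁₂ n).symm.toAddMonoidHom, ?_, ?_, ?_, ?_⟩
  · rw [AddSubgroup.eq_bot_iff_forall]
    intro x hx
    rw [AddMonoidHom.mem_ker, AddMonoidHom.prod_apply, Prod.mk_eq_zero] at hx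
    have h := (hker 0 x).1 hx
    exact Ext.precomp_mk₀_injective_of_epi F (biprod.desc g₁ g₂) (h.trans (by simp))
  · intro n
    ext x
    rw [AddMonoidHom.mem_ker, AddMonoidHom.prod_apply, Prod.mk_eq_zero, hker, AddMonoidHom.mem_range]
    constructor
    · intro h
      obtain ⟨x₁, hx₁⟩ := Ext.contravariant_sequence_exact₃ hS F x h
        (show 1 + n = n + 1 by omega)
      refine ⟨Φ₁₂ n x₁, ?_⟩
      simp only [AddMonoidHom.coe_comp, Function.comp_apply, AddEquiv.coe_toAddMonoidHom,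
        AddEquiv.symm_apply_apply]
      exact hx₁
    · rintro ⟨y, rfl⟩
      simp only [AddMonoidHom.coe_comp, Function.comp_apply, AddEquiv.coe_toAddMonoidHom]
      exact hS.comp_extClass_assoc _ (show 1 + n = n + 1 by omega)
  · intro n
    ext ⟨y₁, y₂⟩
    obtain ⟨x₁, rfl⟩ := (Φ₁ n).surjective y₁
    obtain ⟨x₂, rfl⟩ := (Φ₂ n).surjective y₂
    rw [AddMonoidHom.mem_ker, AddMonoidHom.mem_range]
    simp only [AddMonoidHom.sub_apply, AddMonoidHom.coe_comp, Function.comp_apply,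
      AddMonoidHom.coe_fst, AddMonoidHom.coe_snd]
    rw [hd, EmbeddingLike.map_eq_zero_iff]
    constructor
    · intro h
      obtain ⟨x, hx⟩ := Ext.contravariant_sequence_exact₂ hS F _ h
      refine ⟨x, ?_⟩
      rw [AddMonoidHom.prod_apply, hr₁, hr₂]
      have h1 := congrArg (fun t => (Ext.mk₀ biprod.inl).comp t (zero_add n)) hx
      have h2 := congrArg (fun t => (Ext.mk₀ biprod.inr).comp t (zero_add n)) hx
      simp only [Ext.mk₀_comp_mk₀_assoc, biprod.inl_desc, biprod.inr_desc, Ext.comp_add,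
        biprod.inl_fst, biprod.inl_snd, biprod.inr_fst, biprod.inr_snd, Ext.mk₀_id_comp,
        Ext.mk₀_zero, Ext.zero_comp, add_zero, zero_add] at h1 h2
      rw [h1, h2]
    · rintro ⟨x, hx⟩
      rw [AddMonoidHom.prod_apply, hr₁, hr₂, Prod.mk.injEq] at hx
      obtain ⟨hx1, hx2⟩ := hx
      have e1 := (Φ₁ n).injective hx1
      have e2 := (Φ₂ n).injective hx2
      rw [← e1, ← e2]
      have : (Ext.mk₀ biprod.fst).comp ((Ext.mk₀ g₁).comp x (zero_add n)) (zero_add n) +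
          (Ext.mk₀ biprod.snd).comp ((Ext.mk₀ g₂).comp x (zero_add n)) (zero_add n) =
          (Ext.mk₀ (biprod.desc g₁ g₂)).comp x (zero_add n) := by
        rw [Ext.mk₀_comp_mk₀_assoc, Ext.mk₀_comp_mk₀_assoc, ← Ext.add_comp, ← Ext.mk₀_add]
        congr 2
        apply biprod.hom_ext' <;> simp
      rw [this, Ext.mk₀_comp_mk₀_assoc, zero, Ext.mk₀_zero, Ext.zero_comp]
  · intro n
    ext y
    obtain ⟨x, rfl⟩ := (Φ₁₂ n).surjective y
    rw [AddMonoidHom.mem_ker, AddMonoidHom.mem_range]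
    simp only [AddMonoidHom.coe_comp, Function.comp_apply, AddEquiv.coe_toAddMonoidHom,
      AddEquiv.symm_apply_apply]
    constructor
    · intro h
      obtain ⟨x₂, hx₂⟩ := Ext.contravariant_sequence_exact₁ hS F x
        (show 1 + n = n + 1 by omega) h
      refine ⟨(Φ₁ n ((Ext.mk₀ biprod.inl).comp x₂ (zero_add n)),
        Φ₂ n ((Ext.mk₀ biprod.inr).comp x₂ (zero_add n))), ?_⟩
      simp only [AddMonoidHom.sub_apply, AddMonoidHom.coe_comp, Function.comp_apply,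
        AddMonoidHom.coe_fst, AddMonoidHom.coe_snd]
      rw [hd]
      congr 1
      rw [← hx₂]
      congr 1
      have := (Ext.biprodAddEquiv (X₁ := A₁) (X₂ := A₂) (Y := F) (n := n)).left_inv x₂
      exact this
    · rintro ⟨⟨y₁, y₂⟩, hy⟩
      obtain ⟨x₁, rfl⟩ := (Φ₁ n).surjective y₁
      obtain ⟨x₂, rfl⟩ := (Φ₂ n).surjective y₂
      simp only [AddMonoidHom.sub_apply, AddMonoidHom.coe_comp, Function.comp_apply,
        AddMonoidHom.coe_fst, AddMonoidHom.coe_snd] at hy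
      rw [hd] at hy
      have e := (Φ₁₂ n).injective hy
      rw [← e]
      exact hS.extClass_comp_assoc _ (h := show 1 + n = n + 1 by omega)

end Groth.Agent.Lib.Helper9.MVAbstract
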