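import Mathlib
import Groth.Agent.Lib.Helper9CurveSel
import Groth.Agent.Lib.Helper7NagM
import Groth.Agent.Lib.Helper5IntDim

/-!
# Normal curves through a closed point of the spectrum of a Nagata domain

`exists_normal_curve`: for a Nagata domain `B`, a maximal ideal `𝔫` and `0 ≠ g ∈ 𝔫`, there is a
finite type `B`-algebra `D` which is an integrally closed domain, with a maximal ideal `𝔪` of
height one lying over `𝔫`, such that `g` is nonzero in `D` and `𝔪` is the only prime of `D`
containing `g`.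
-/

set_option autoImplicit false
universe u

namespace Groth.Agent.Lib.Helper9.NagCurve

open Groth CAlg

/-- The normalization of an N-2 Noetherian domain, as an abstract ring. -/
theorem exists_normalization {D₁ : Type u} [CommRing D₁] [IsDomain D₁] (hN2 : CAlg.IsN2 D₁) :
    ∃ (Dt : Type u) (_ : CommRing Dt) (_ : IsDomain Dt) (_ : IsIntegrallyClosed Dt)
      (_ : Algebra D₁ Dt) (_ : Module.Finite D₁ Dt), Function.Injective (algebraMap D₁ Dt) := by
  have hfin : Module.Finite D₁ (integralClosure D₁ (FractionRing D₁)) :=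
    hN2 (FractionRing D₁) inferInstance
  refine ⟨integralClosure D₁ (FractionRing D₁), inferInstance, inferInstance, ?_, inferInstance,
    hfin, ?_⟩
  · exact integralClosure.isIntegrallyClosedOfFiniteExtension (FractionRing D₁)
  · intro x y hxy
    have := congrArg Subtype.val hxy
    exact IsFractionRing.injective D₁ (FractionRing D₁) this

/-- Shrinking a normal Noetherian domain around a height one maximal ideal `𝔫t` so that `𝔫t`
becomes the only prime containing a given element. -/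
theorem exists_localization_curve {Dt : Type u} [CommRing Dt] [IsDomain Dt]
    [IsIntegrallyClosed Dt] [IsNoetherianRing Dt]
    (𝔫t : Ideal Dt) [𝔫t.IsMaximal] (hht : 𝔫t.height = 1) (gt : Dt) (hgt0 : gt ≠ 0)
    (hgtmem : gt ∈ 𝔫t) :
    ∃ (D : Type u) (_ : CommRing D) (_ : IsDomain D) (_ : IsIntegrallyClosed D) (_ : Algebra Dt D)
      (_ : Algebra.FiniteType Dt D) (𝔪 : Ideal D) (_ : 𝔪.IsMaximal),
      𝔪.height = 1 ∧ 𝔪.comap (algebraMap Dt D) = 𝔫t ∧ algebraMap Dt D gt ≠ 0 ∧
      ∀ Q : Ideal D, Q.IsPrime → algebraMap Dt D gt ∈ Q → Q = 𝔪 := by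
  obtain ⟨h, hh𝔫t, hQ⟩ := CurveSel.exists_notMem_forall_prime_eq 𝔫t (le_of_eq hht) gt hgt0
  have hh0 : h ≠ 0 := fun h0 => hh𝔫t (h0 ▸ 𝔫t.zero_mem)
  have hM : Submonoid.powers h ≤ nonZeroDivisors Dt :=
    Submonoid.powers_le.2 (mem_nonZeroDivisors_of_ne_zero hh0)
  have hdisj : Disjoint (Submonoid.powers h : Set Dt) (𝔫t : Set Dt) := by
    rw [Set.disjoint_left]
    rintro x ⟨n, rfl⟩ hx
    exact hh𝔫t (Ideal.IsPrime.mem_of_pow_mem inferInstance n hx)
  haveI hdom : IsDomain (Localization.Away h) :=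
    IsLocalization.isDomain_of_le_nonZeroDivisors _ hM
  haveI hic : IsIntegrallyClosed (Localization.Away h) :=
    isIntegrallyClosed_of_isLocalization (Localization.Away h) (Submonoid.powers h) hM
  have hft : Algebra.FiniteType Dt (Localization.Away h) :=
    IsLocalization.finiteType_of_monoid_fg (Submonoid.powers h) _
  have h𝔪prime : (𝔫t.map (algebraMap Dt (Localization.Away h))).IsPrime :=
    IsLocalization.isPrime_of_isPrime_disjoint (Submonoid.powers h) _ 𝔫t inferInstance hdisj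
  have h𝔪comap : (𝔫t.map (algebraMap Dt (Localization.Away h))).comap
      (algebraMap Dt (Localization.Away h)) = 𝔫t :=
    IsLocalization.under_map_of_isPrime_disjoint (Submonoid.powers h) _ inferInstance hdisj
  have hQ' : ∀ Q : Ideal (Localization.Away h), Q.IsPrime →
      algebraMap Dt (Localization.Away h) gt ∈ Q →
      Q = 𝔫t.map (algebraMap Dt (Localization.Away h)) := by
    intro Q hQp hgQ
    haveI := hQp
    have h1 : Q.comap (algebraMap Dt (Localization.Away h)) = 𝔫t := by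
      apply hQ _ (Ideal.comap_isPrime _ _) hgQ
      intro hhQ
      apply hQp.ne_top
      have hu : IsUnit (algebraMap Dt (Localization.Away h) h) :=
        IsLocalization.map_units (Localization.Away h) (⟨h, Submonoid.mem_powers h⟩ :
          Submonoid.powers h)
      exact Ideal.eq_top_of_isUnit_mem Q hhQ hu
    rw [← h1]
    exact (IsLocalization.map_under (Submonoid.powers h) _ Q).symm
  have h𝔪max : (𝔫t.map (algebraMap Dt (Localization.Away h))).IsMaximal := by
    obtain ⟨J, hJmax, hJle⟩ := Ideal.exists_le_maximal _ h𝔪prime.ne_top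
    have hgJ : algebraMap Dt (Localization.Away h) gt ∈ J :=
      hJle (Ideal.mem_map_of_mem _ hgtmem)
    rw [← hQ' J hJmax.isPrime hgJ]
    exact hJmax
  refine ⟨Localization.Away h, inferInstance, hdom, hic, inferInstance, hft,
    𝔫t.map (algebraMap Dt (Localization.Away h)), h𝔪max, ?_, h𝔪comap, ?_, hQ'⟩
  · rw [IsLocalization.height_map_of_disjoint (Submonoid.powers h) 𝔫t hdisj, hht]
  · intro h0
    rw [← map_zero (algebraMap Dt (Localization.Away h))] at h0
    exact hgt0 (IsLocalization.injective (Localization.Away h) hM h0)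

/-- **Normal curves through closed points of Nagata domains.** -/
theorem exists_normal_curve {B : Type u} [CommRing B] [IsDomain B] (hB : CAlg.IsNagata B)
    (𝔫 : Ideal B) [𝔫.IsMaximal] (g : B) (hg0 : g ≠ 0) (hg : g ∈ 𝔫) :
    ∃ (D : Type u) (_ : CommRing D) (_ : IsDomain D) (_ : IsIntegrallyClosed D) (_ : Algebra B D)
      (_ : Algebra.FiniteType B D) (𝔪 : Ideal D) (_ : 𝔪.IsMaximal),
      𝔪.height = 1 ∧ 𝔪.comap (algebraMap B D) = 𝔫 ∧ algebraMap B D g ≠ 0 ∧
      ∀ Q : Ideal D, Q.IsPrime → algebraMap B D g ∈ Q → Q = 𝔪 := by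
  haveI : IsNoetherianRing B := hB.1
  obtain ⟨p, hp, hpn, hgp, hht⟩ := CurveSel.exists_prime_le_height_one 𝔫 g hg0 hg
  haveI := hp
  obtain ⟨Dt, _, _, _, _, hfin, hinj1⟩ := exists_normalization (hB.2 p)
  haveI := hfin
  haveI : IsNoetherianRing Dt := IsNoetherianRing.of_finite (B ⧸ p) Dt
  -- the maximal ideal upstairs
  have hsurj : Function.Surjective (Ideal.Quotient.mk p) := Ideal.Quotient.mk_surjective
  have hker : RingHom.ker (Ideal.Quotient.mk p) ≤ 𝔫 := by rw [Ideal.mk_ker]; exact hpn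
  haveI hnbprime : (𝔫.map (Ideal.Quotient.mk p)).IsPrime :=
    Ideal.map_isPrime_of_surjective hsurj hker
  haveI hnbmax : (𝔫.map (Ideal.Quotient.mk p)).IsMaximal :=
    (Ideal.map_eq_top_or_isMaximal_of_surjective _ hsurj inferInstance).resolve_left
      hnbprime.ne_top
  have hcomap : (𝔫.map (Ideal.Quotient.mk p)).comap (Ideal.Quotient.mk p) = 𝔫 := by
    rw [Ideal.comap_map_of_surjective _ hsurj, ← RingHom.ker_eq_comap_bot, Ideal.mk_ker]
    exact sup_eq_left.2 hpn
  obtain ⟨𝔫t, h𝔫tmax, h𝔫tcomap⟩ := Ideal.exists_ideal_over_maximal_of_isIntegral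
    (S := Dt) (𝔫.map (Ideal.Quotient.mk p)) (by
      rw [(RingHom.injective_iff_ker_eq_bot _).1 hinj1]; exact bot_le)
  haveI := h𝔫tmax
  have hg1 : Ideal.Quotient.mk p g ≠ 0 := fun h => hgp (Ideal.Quotient.eq_zero_iff_mem.1 h)
  obtain ⟨gt, hgt⟩ : ∃ gt : Dt, gt = algebraMap (B ⧸ p) Dt (Ideal.Quotient.mk p g) := ⟨_, rfl⟩
  have hgt0 : gt ≠ 0 := by
    intro h
    rw [hgt, ← map_zero (algebraMap (B ⧸ p) Dt)] at h
    exact hg1 (hinj1 h)
  have hgtmem : gt ∈ 𝔫t := by
    have : Ideal.Quotient.mk p g ∈ 𝔫t.comap (algebraMap (B ⧸ p) Dt) := by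
      rw [h𝔫tcomap]; exact Ideal.mem_map_of_mem _ hg
    rw [hgt]
    exact this
  have hht_t : 𝔫t.height = 1 := by
    apply le_antisymm
    · have h1 := Groth.Agent.Lib.Helper5.height_le_height_under_of_isIntegral (A := B ⧸ p) 𝔫t
      have h2 : 𝔫t.under (B ⧸ p) = 𝔫.map (Ideal.Quotient.mk p) := h𝔫tcomap
      rw [h2, hht] at h1
      exact h1
    · have hbot : (⊥ : Ideal Dt) < 𝔫t := by
        rw [bot_lt_iff_ne_bot]
        rintro h
        rw [h] at hgtmem
        exact hgt0 ((Submodule.mem_bot _).1 hgtmem)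
      haveI : (⊥ : Ideal Dt).IsPrime := Ideal.isPrime_bot
      have h3 := Ideal.height_strict_mono_of_isPrime hbot
      exact Order.one_le_iff_pos.2 (lt_of_le_of_lt zero_le h3)
  obtain ⟨D, _, hdom, hic, _, hftD, 𝔪, h𝔪max, h𝔪ht, h𝔪comap, hgD, hQ⟩ :=
    exists_localization_curve 𝔫t hht_t gt hgt0 hgtmem
  letI algBDt : Algebra B Dt := ((algebraMap (B ⧸ p) Dt).comp (Ideal.Quotient.mk p)).toAlgebra
  haveI : IsScalarTower B (B ⧸ p) Dt := IsScalarTower.of_algebraMap_eq (fun x => rfl)
  letI algBD : Algebra B D := ((algebraMap Dt D).comp (algebraMap B Dt)).toAlgebra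
  haveI : IsScalarTower B Dt D := IsScalarTower.of_algebraMap_eq (fun x => rfl)
  have hft : Algebra.FiniteType B D := by
    haveI h1 : Algebra.FiniteType B (B ⧸ p) :=
      Algebra.FiniteType.of_surjective (Algebra.ofId B (B ⧸ p)) hsurj
    haveI h2 : Algebra.FiniteType (B ⧸ p) Dt := inferInstance
    haveI h3 : Algebra.FiniteType B Dt := Algebra.FiniteType.trans h1 h2
    exact Algebra.FiniteType.trans h3 hftD
  refine ⟨D, inferInstance, hdom, hic, algBD, hft, 𝔪, h𝔪max, h𝔪ht, ?_, ?_, ?_⟩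
  · change Ideal.comap ((algebraMap Dt D).comp
      ((algebraMap (B ⧸ p) Dt).comp (Ideal.Quotient.mk p))) 𝔪 = 𝔫
    rw [← Ideal.comap_comap, h𝔪comap, ← Ideal.comap_comap, h𝔫tcomap, hcomap]
  · change algebraMap Dt D (algebraMap (B ⧸ p) Dt (Ideal.Quotient.mk p g)) ≠ 0
    rw [← hgt]
    exact hgD
  · intro Q hQp hgQ
    apply hQ Q hQp
    rw [hgt]
    exact hgQ

end Groth.Agent.Lib.Helper9.NagCurve
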