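import Groth.Agent.Lib.Helper9NagLoc
import Groth.Agent.Lib.Helper28AUNormal
import Groth.Agent.Lib.Helper14Japanese

set_option autoImplicit false
set_option linter.style.haveILetI false
universe u

open CategoryTheory CategoryTheory.Limits AlgebraicGeometry TopologicalSpace

namespace Groth.Agent.Lib.Helper9.NagJap

/-- Integral closed subschemes of a Nagata scheme are Japanese. -/
theorem forward (X : Scheme.{u}) (h : ∀ U : X.Opens, IsAffineOpen U → CAlg.IsNagata Γ(X, U))
    (Z : Scheme.{u}) (i : Z ⟶ X) [IsClosedImmersion i] [IsIntegral Z] (V : Z.Opens) [Nonempty V]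
    (hV : IsAffineOpen V) : CAlg.IsN2 Γ(Z, V) :=
  Groth.Agent.Lib.Helper28.isN2_of_isNagata_of_isDomain _
    (Groth.Agent.Lib.Helper9.NagLoc.isNagata_of_locallyOfFiniteType i h V hV)

set_option backward.isDefEq.respectTransparency false in
theorem ker_app_eq (X : Scheme.{u}) (U : X.Opens) (hU : IsAffineOpen U) (p : Ideal Γ(X, U)) :
    RingHom.ker ((Spec.map (CommRingCat.ofHom (Ideal.Quotient.mk p)) ≫ hU.fromSpec).app U).hom
      = p := by
  set g : Spec (CommRingCat.of (Γ(X, U) ⧸ p)) ⟶ X :=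
    Spec.map (CommRingCat.ofHom (Ideal.Quotient.mk p)) ≫ hU.fromSpec with hg
  have hpre : g ⁻¹ᵁ U = ⊤ := by
    rw [hg, Scheme.Hom.comp_preimage, hU.fromSpec_preimage_self]; rfl
  have i : (⊤ : (Spec (CommRingCat.of (Γ(X, U) ⧸ p))).Opens) ≤ g ⁻¹ᵁ U := hpre.ge
  have h1 : Spec.map (g.appLE U ⊤ i) ≫ hU.fromSpec =
      Spec.map (CommRingCat.ofHom (Ideal.Quotient.mk p) ≫ (Scheme.ΓSpecIso _).inv) ≫
        hU.fromSpec := by
    rw [IsAffineOpen.SpecMap_appLE_fromSpec g hU (isAffineOpen_top _) i,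
      IsAffineOpen.fromSpec_top, Scheme.isoSpec_Spec_inv, Spec.map_comp, Category.assoc]
  have h2 : g.appLE U ⊤ i =
      CommRingCat.ofHom (Ideal.Quotient.mk p) ≫ (Scheme.ΓSpecIso _).inv :=
    Spec.map_injective ((cancel_mono hU.fromSpec).mp h1)
  have h3 : RingHom.ker (g.appLE U ⊤ i).hom = p := by
    rw [h2, CommRingCat.hom_comp, RingHom.ker_comp_of_injective, CommRingCat.hom_ofHom,
      Ideal.mk_ker]
    exact (ConcreteCategory.bijective_of_isIso (Scheme.ΓSpecIso _).inv).1
  refine Eq.trans ?_ h3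
  have h4 : g.appLE U ⊤ i = g.app U ≫ (Spec _).presheaf.map (homOfLE i).op := rfl
  rw [h4, CommRingCat.hom_comp, RingHom.ker_comp_of_injective]
  have : IsIso ((Spec (CommRingCat.of (Γ(X, U) ⧸ p))).presheaf.map (homOfLE i).op) := by
    have : IsIso (homOfLE i) := ⟨homOfLE le_top, Subsingleton.elim _ _, Subsingleton.elim _ _⟩
    infer_instance
  exact (ConcreteCategory.bijective_of_isIso _).1

set_option backward.isDefEq.respectTransparency false in
/-- For an affine open `U` of a locally Noetherian scheme and a prime `p` of `Γ(X, U)` there is an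
integral closed subscheme `Z` with an affine open whose ring is `Γ(X, U) ⧸ p`. -/
theorem exists_integral_closed (X : Scheme.{u}) [IsLocallyNoetherian X] (U : X.Opens)
    (hU : IsAffineOpen U) (p : Ideal Γ(X, U)) [p.IsPrime] :
    ∃ (Z : Scheme.{u}) (i : Z ⟶ X) (_ : IsClosedImmersion i) (_ : IsIntegral Z) (V : Z.Opens)
      (_ : Nonempty V), IsAffineOpen V ∧ Nonempty (Γ(Z, V) ≃+* (Γ(X, U) ⧸ p)) := by
  obtain ⟨g, hg⟩ : ∃ g : Spec (CommRingCat.of (Γ(X, U) ⧸ p)) ⟶ X,
      g = Spec.map (CommRingCat.ofHom (Ideal.Quotient.mk p)) ≫ hU.fromSpec := ⟨_, rfl⟩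
  haveI : QuasiSeparatedSpace X := inferInstance
  haveI : QuasiCompact g := quasiCompact_of_compactSpace g
  have hker : g.ker.ideal ⟨U, hU⟩ = p := by
    rw [Scheme.Hom.ker_apply, hg]
    exact ker_app_eq X U hU p
  -- reducedness
  haveI hred : IsReduced g.image := by
    have : ∀ U' : g.ker.subschemeCover.openCover.I₀,
        IsReduced (g.ker.subschemeCover.openCover.X U') := by
      intro (U' : X.affineOpens)
      have : _root_.IsReduced (Γ(X, U') ⧸ g.ker.ideal U') := by
        rw [← Ideal.isRadical_iff_quotient_reduced, Scheme.Hom.ker_apply, RingHom.ker_eq_comap_bot]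
        exact Ideal.IsRadical.comap _ Ideal.isRadical_bot
      change IsReduced (Spec (CommRingCat.of (Γ(X, U') ⧸ g.ker.ideal U')))
      infer_instance
    exact IsReduced.of_openCover _ g.ker.subschemeCover.openCover
  -- irreducibility
  haveI hirr : IrreducibleSpace g.image := by
    have hd : DenseRange g.toImage := IsDominant.denseRange
    have h1 : IsIrreducible (Set.range g.toImage) := by
      rw [← Set.image_univ]
      exact (IrreducibleSpace.isIrreducible_univ _).image _ g.toImage.continuous.continuousOn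
    have h2 := h1.closure
    rw [hd.closure_range] at h2
    exact (irreducibleSpace_def _).mpr h2
  haveI hint : IsIntegral g.image := isIntegral_of_irreducibleSpace_of_isReduced _
  have hne : Nonempty ↥(g.imageι ⁻¹ᵁ U) := by
    obtain ⟨z⟩ : Nonempty (Spec (CommRingCat.of (Γ(X, U) ⧸ p))) := inferInstance
    refine ⟨⟨g.toImage z, ?_⟩⟩
    change g.imageι (g.toImage z) ∈ U
    rw [← Scheme.Hom.comp_apply, g.toImage_imageι, hg, Scheme.Hom.comp_apply]
    have := hU.range_fromSpec
    exact this.le ⟨_, rfl⟩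
  refine ⟨g.image, g.imageι, inferInstance, hint, g.imageι ⁻¹ᵁ U, hne, hU.preimage g.imageι, ⟨?_⟩⟩
  exact (g.ker.subschemeObjIso ⟨U, hU⟩).commRingCatIsoToRingEquiv.trans (Ideal.quotEquivOfEq hker)

end Groth.Agent.Lib.Helper9.NagJap
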