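import Mathlib

/-!
# Applying the curve-lifting hypothesis to an affine normal curve `Spec D`
-/

set_option autoImplicit false
universe u
open CategoryTheory CategoryTheory.Limits AlgebraicGeometry IsLocalRing TopologicalSpace

namespace Groth.Agent.Lib.Helper9.NagLift

set_option backward.isDefEq.respectTransparency false

set_option maxHeartbeats 1600000 in
/-- Apply the curve lifting hypothesis `H` to the affine curve `Spec D` over an affine open `W ⊆ Y`,
the closed point `𝔪` and the morphism `D(g) → U₀ ⊆ X` given by a ring map `ψ`. -/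
theorem curve_lift (S : Scheme.{u}) [IsLocallyNoetherian S] {X Y : Scheme.{u}} (q : Y ⟶ S)
    [LocallyOfFiniteType q] (f : X ⟶ Y)
    (H : ∀ (C : Scheme.{u}) (r : C ⟶ S) [IsIntegral C] [LocallyOfFiniteType r] [QuasiCompact r],
        (∀ x : C, IsIntegrallyClosed (C.presheaf.stalk x)) →
        ∀ (c : C), IsClosed ({c} : Set C) → ringKrullDim (C.presheaf.stalk c) = 1 →
        ∀ (U : C.Opens), (U : Set C) = {c}ᶜ →
        ∀ (u : (U : Scheme.{u}) ⟶ X) (g : C ⟶ Y), g ≫ q = r → u ≫ f = U.ι ≫ g →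
        ∀ (k : Spec (CommRingCat.of (FractionRing (C.presheaf.stalk c))) ⟶ (U : Scheme.{u})),
          k ≫ U.ι = Spec.map (CommRingCat.ofHom (algebraMap (C.presheaf.stalk c)
            (FractionRing (C.presheaf.stalk c)))) ≫ C.fromSpecStalk c →
        ∃ l : Spec (C.presheaf.stalk c) ⟶ X, l ≫ f = C.fromSpecStalk c ≫ g ∧
          Spec.map (CommRingCat.ofHom (algebraMap (C.presheaf.stalk c)
            (FractionRing (C.presheaf.stalk c)))) ≫ l = k ≫ u)
    {W : Y.Opens} (hW : IsAffineOpen W)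
    (D : Type u) [CommRing D] [IsDomain D] [IsIntegrallyClosed D] [Algebra Γ(Y, W) D]
    [hft : Algebra.FiniteType Γ(Y, W) D]
    (𝔪 : Ideal D) [h𝔪 : 𝔪.IsMaximal] (h𝔪ht : 𝔪.height = 1) (gD : D) (hgD0 : gD ≠ 0)
    (hgD𝔪 : gD ∈ 𝔪) (hQ : ∀ Q : Ideal D, Q.IsPrime → gD ∈ Q → Q = 𝔪)
    {U₀ : X.Opens} (hU₀ : IsAffineOpen U₀) (hle : U₀ ≤ f ⁻¹ᵁ W)
    (ψ : Γ(X, U₀) →+* Localization.Away gD)
    (hψ : ψ.comp (f.appLE W U₀ hle).hom =
      (algebraMap D (Localization.Away gD)).comp (algebraMap Γ(Y, W) D)) :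
    ∃ (A : Type u) (_ : CommRing A) (_ : IsLocalRing A) (_ : IsDomain A) (toA : D →+* A)
      (κ₁ : Localization.Away gD →+* FractionRing A) (l : Spec (CommRingCat.of A) ⟶ X),
      (∀ d ∈ 𝔪, toA d ∈ maximalIdeal A) ∧
      κ₁.comp (algebraMap D (Localization.Away gD)) = (algebraMap A (FractionRing A)).comp toA ∧
      l ≫ f = Spec.map (CommRingCat.ofHom toA) ≫
        Spec.map (CommRingCat.ofHom (algebraMap Γ(Y, W) D)) ≫ hW.fromSpec ∧
      Spec.map (CommRingCat.ofHom (algebraMap A (FractionRing A))) ≫ l =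
        Spec.map (CommRingCat.ofHom κ₁) ≫ Spec.map (CommRingCat.ofHom ψ) ≫ hU₀.fromSpec := by
  classical
  obtain ⟨C, hC⟩ : ∃ C : Scheme.{u}, C = Spec (CommRingCat.of D) := ⟨_, rfl⟩
  subst hC
  let gC : Spec (CommRingCat.of D) ⟶ Y :=
    Spec.map (CommRingCat.ofHom (algebraMap Γ(Y, W) D)) ≫ hW.fromSpec
  let c : Spec (CommRingCat.of D) := ⟨𝔪, h𝔪.isPrime⟩
  haveI : LocallyOfFiniteType (Spec.map (CommRingCat.ofHom (algebraMap Γ(Y, W) D))) := by
    rw [HasRingHomProperty.Spec_iff (P := @LocallyOfFiniteType)]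
    exact RingHom.finiteType_algebraMap.2 hft
  haveI : LocallyOfFiniteType (gC ≫ q) := inferInstance
  haveI : QuasiCompact (gC ≫ q) := quasiCompact_of_compactSpace (gC ≫ q)
  have hnorm : ∀ x : Spec (CommRingCat.of D),
      IsIntegrallyClosed ((Spec (CommRingCat.of D)).presheaf.stalk x) := by
    intro x
    letI k : Algebra D ↑((Spec (CommRingCat.of D)).presheaf.stalk x) :=
      StructureSheaf.stalkAlgebra D x
    haveI : IsLocalization.AtPrime (↑((Spec (CommRingCat.of D)).presheaf.stalk x)) x.asIdeal :=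
      StructureSheaf.IsLocalization.to_stalk D x
    exact isIntegrallyClosed_of_isLocalization _ x.asIdeal.primeCompl
      (Ideal.primeCompl_le_nonZeroDivisors _)
  have hclosed : IsClosed ({c} : Set (Spec (CommRingCat.of D))) :=
    (PrimeSpectrum.isClosed_singleton_iff_isMaximal c).2 h𝔪
  letI algA : Algebra D ↑((Spec (CommRingCat.of D)).presheaf.stalk c) :=
    StructureSheaf.stalkAlgebra D c
  haveI locA : IsLocalization.AtPrime ((Spec (CommRingCat.of D)).presheaf.stalk c) 𝔪 :=
    StructureSheaf.IsLocalization.to_stalk D c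
  have hdim : ringKrullDim ((Spec (CommRingCat.of D)).presheaf.stalk c) = 1 := by
    rw [IsLocalization.AtPrime.ringKrullDim_eq_height 𝔪, h𝔪ht]
    rfl
  -- the open complement of the closed point
  obtain ⟨U, hUdef⟩ : ∃ U : (Spec (CommRingCat.of D)).Opens, U = PrimeSpectrum.basicOpen gD :=
    ⟨_, rfl⟩
  have hU : (U : Set (Spec (CommRingCat.of D))) = {c}ᶜ := by
    ext x
    rw [hUdef]
    simp only [Set.mem_compl_iff, Set.mem_singleton_iff]
    constructor
    · intro hx hxc
      have h1 : gD ∉ x.asIdeal := hx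
      rw [hxc] at h1
      exact h1 hgD𝔪
    · intro hx
      show gD ∉ x.asIdeal
      intro hg
      apply hx
      exact PrimeSpectrum.ext (hQ x.asIdeal x.2 hg)
  -- the ring maps
  obtain ⟨toA, htoA⟩ : ∃ toA : D →+* ↑((Spec (CommRingCat.of D)).presheaf.stalk c),
      toA = (StructureSheaf.toStalk D c).hom := ⟨_, rfl⟩
  have htoA' : toA = algebraMap D ↑((Spec (CommRingCat.of D)).presheaf.stalk c) := htoA
  have htoAinj : Function.Injective toA := by
    rw [htoA']
    exact IsLocalization.injective _ (Ideal.primeCompl_le_nonZeroDivisors 𝔪)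
  have hunit : IsUnit (algebraMap ↑((Spec (CommRingCat.of D)).presheaf.stalk c)
      (FractionRing ↑((Spec (CommRingCat.of D)).presheaf.stalk c)) (toA gD)) := by
    apply IsUnit.mk0
    intro h0
    rw [← map_zero (algebraMap ↑((Spec (CommRingCat.of D)).presheaf.stalk c)
      (FractionRing ↑((Spec (CommRingCat.of D)).presheaf.stalk c)))] at h0
    have h1 := IsFractionRing.injective _ _ h0
    rw [← map_zero toA] at h1
    exact hgD0 (htoAinj h1)
  obtain ⟨κ₁, hκ₁⟩ : ∃ κ₁ : Localization.Away gD →+*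
      FractionRing ↑((Spec (CommRingCat.of D)).presheaf.stalk c),
      κ₁.comp (algebraMap D (Localization.Away gD)) =
        (algebraMap ↑((Spec (CommRingCat.of D)).presheaf.stalk c)
          (FractionRing ↑((Spec (CommRingCat.of D)).presheaf.stalk c))).comp toA :=
    ⟨IsLocalization.Away.lift gD (g := (algebraMap ↑((Spec (CommRingCat.of D)).presheaf.stalk c)
      (FractionRing ↑((Spec (CommRingCat.of D)).presheaf.stalk c))).comp toA) hunit,
      IsLocalization.Away.lift_comp _ _⟩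
  subst hUdef
  obtain ⟨iso, hiso⟩ : ∃ iso : Scheme.Opens.toScheme (X := Spec (CommRingCat.of D))
      (PrimeSpectrum.basicOpen gD) ≅ Spec (.of <| Localization.Away gD),
      iso.hom ≫ Spec.map (CommRingCat.ofHom (algebraMap D (Localization.Away gD))) =
        Scheme.Opens.ι (X := Spec (CommRingCat.of D)) (PrimeSpectrum.basicOpen gD) :=
    ⟨basicOpenIsoSpecAway (R := CommRingCat.of D) gD,
      basicOpenIsoSpecAway_hom_SpecMap (R := CommRingCat.of D) gD⟩
  have hiso' : iso.inv ≫ Scheme.Opens.ι (X := Spec (CommRingCat.of D))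
      (PrimeSpectrum.basicOpen gD) =
      Spec.map (CommRingCat.ofHom (algebraMap D (Localization.Away gD))) := by
    rw [← hiso, Iso.inv_hom_id_assoc]
  obtain ⟨u, hu⟩ : ∃ u : Scheme.Opens.toScheme (X := Spec (CommRingCat.of D))
      (PrimeSpectrum.basicOpen gD) ⟶ X,
      u = iso.hom ≫ Spec.map (CommRingCat.ofHom ψ) ≫ hU₀.fromSpec := ⟨_, rfl⟩
  have huf : u ≫ f = Scheme.Opens.ι (X := Spec (CommRingCat.of D))
      (PrimeSpectrum.basicOpen gD) ≫ gC := by
    rw [hu, Category.assoc, Category.assoc,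
      ← IsAffineOpen.SpecMap_appLE_fromSpec f hW hU₀ hle, ← Spec.map_comp_assoc]
    have h1 : f.appLE W U₀ hle ≫ CommRingCat.ofHom ψ =
        CommRingCat.ofHom (algebraMap Γ(Y, W) D) ≫
          CommRingCat.ofHom (algebraMap D (Localization.Away gD)) := by
      ext a
      exact congrArg (fun φ => φ a) hψ
    rw [h1, Spec.map_comp, Category.assoc, ← hiso, Category.assoc]
  obtain ⟨k, hk⟩ : ∃ k : Spec (CommRingCat.of
      (FractionRing ↑((Spec (CommRingCat.of D)).presheaf.stalk c))) ⟶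
      Scheme.Opens.toScheme (X := Spec (CommRingCat.of D)) (PrimeSpectrum.basicOpen gD),
      k = Spec.map (CommRingCat.ofHom κ₁) ≫ iso.inv := ⟨_, rfl⟩
  have hkι : k ≫ Scheme.Opens.ι (X := Spec (CommRingCat.of D)) (PrimeSpectrum.basicOpen gD) =
      Spec.map (CommRingCat.ofHom (algebraMap ((Spec (CommRingCat.of D)).presheaf.stalk c)
        (FractionRing ((Spec (CommRingCat.of D)).presheaf.stalk c)))) ≫
        (Spec (CommRingCat.of D)).fromSpecStalk c := by
    rw [hk, Category.assoc, hiso', ← Spec.map_comp, ← CommRingCat.ofHom_comp, hκ₁,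
      Spec.fromSpecStalk_eq', CommRingCat.ofHom_comp, Spec.map_comp, htoA]
    rfl
  obtain ⟨l, hl1, hl2⟩ := H (Spec (CommRingCat.of D)) (gC ≫ q) hnorm c hclosed hdim
    (PrimeSpectrum.basicOpen gD) hU u gC rfl huf k hkι
  refine ⟨↑((Spec (CommRingCat.of D)).presheaf.stalk c), inferInstance, inferInstance,
    inferInstance, toA, κ₁, l, ?_, hκ₁, ?_, ?_⟩
  · intro d hd
    rw [htoA']
    exact (IsLocalization.AtPrime.to_map_mem_maximal_iff _ 𝔪 d).2 hd
  · rw [hl1, Spec.fromSpecStalk_eq', htoA]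
    rfl
  · rw [hl2, hk, hu, Category.assoc, Iso.inv_hom_id_assoc]

end Groth.Agent.Lib.Helper9.NagLift
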