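import Mathlib
import Groth.Agent.Lib.Helper14Japanese
import Groth.Agent.Lib.Helper7NagM

/-!
# A scheme locally of finite type over a Nagata scheme is Nagata
-/

set_option autoImplicit false
universe u
open CategoryTheory CategoryTheory.Limits AlgebraicGeometry TopologicalSpace

namespace Groth.Agent.Lib.Helper9.NagLoc

set_option backward.isDefEq.respectTransparency false

open Classical in
/-- If `ψ : U ⟶ V` is locally of finite type and all affine opens of `V` have Nagata coordinate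
rings, then so do all affine opens of `U`. -/
theorem isNagata_of_locallyOfFiniteType {U V : Scheme.{u}} (ψ : U ⟶ V) [LocallyOfFiniteType ψ]
    (hV : ∀ W : V.Opens, IsAffineOpen W → CAlg.IsNagata Γ(V, W)) (W : U.Opens)
    (hW : IsAffineOpen W) : CAlg.IsNagata Γ(U, W) := by
  -- local pieces
  have hloc : ∀ w : W, ∃ h : Γ(U, W), (w : U) ∈ U.basicOpen h ∧
      CAlg.IsNagata Γ(U, U.basicOpen h) := by
    intro w
    obtain ⟨V', hV', hwV', -⟩ := exists_isAffineOpen_mem_and_subset (U := ⊤) (x := ψ w.1) (by simp)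
    obtain ⟨h, hle, hw⟩ := hW.exists_basicOpen_le (V := ψ ⁻¹ᵁ V') ⟨w.1, hwV'⟩ w.2
    refine ⟨h, hw, ?_⟩
    have hft : (ψ.appLE V' (U.basicOpen h) hle).hom.FiniteType :=
      ψ.finiteType_appLE hV' (hW.basicOpen h) hle
    letI : Algebra Γ(V, V') Γ(U, U.basicOpen h) := (ψ.appLE V' (U.basicOpen h) hle).hom.toAlgebra
    haveI : Algebra.FiniteType Γ(V, V') Γ(U, U.basicOpen h) := hft
    exact Groth.Agent.Lib.Helper7.NagM.isNagata_of_finiteType Γ(V, V') (hV V' hV') _
  choose h hmem hnag using hloc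
  have hspan : Ideal.span (Set.range h) = ⊤ := by
    rw [← hW.self_le_iSup_basicOpen_iff]
    intro x hx
    rw [Opens.mem_iSup]
    exact ⟨⟨h ⟨x, hx⟩, ⟨_, rfl⟩⟩, hmem ⟨x, hx⟩⟩
  obtain ⟨t, htsub, htspan⟩ := (Ideal.span_eq_top_iff_finite _).1 hspan
  haveI : ∀ i : t, IsLocalization.Away (i : Γ(U, W)) Γ(U, U.basicOpen (i : Γ(U, W))) :=
    fun i => hW.isLocalization_basicOpen _
  refine Groth.Agent.Lib.Helper14.isNagata_of_away_cover' Γ(U, W) (ι := t) (fun i => (i : Γ(U, W)))
    (by simpa using htspan) (fun i => Γ(U, U.basicOpen (i : Γ(U, W)))) ?_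
  intro i
  obtain ⟨w, hw⟩ := htsub i.2
  have h2 := hnag w
  rw [hw] at h2
  exact h2

end Groth.Agent.Lib.Helper9.NagLoc
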