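import Mathlib
import Groth.Agent.Lib.Helper9NagCurve
import Groth.Agent.Lib.Helper4DVRDom

/-!
# The algebra behind the Nagata curve criterion

Given a Nagata ring `R₀`, a field `L` over `R₀`, a valuation subring `V` of `L` containing the
image of `R₀`, a finite nonempty set `E` of nonzero nonunits of `V` ("witnesses") and a finite set
`T ⊆ L`, we build a normal curve `Spec D` of finite type over `R₀` with a closed point `𝔪` of
codimension one, cut out set-theoretically by `gD`, a ring `R₂ ⊆ L` containing `T` and a map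
`R₂ → D[1/gD]`, such that all witnesses lie in `R₂` and map into `𝔪`.
-/

set_option autoImplicit false
universe u

namespace Groth.Agent.Lib.Helper9.NagWit

open Groth CAlg

set_option maxHeartbeats 1600000 in
theorem exists_curve_data {R₀ L : Type u} [CommRing R₀] (hR₀ : CAlg.IsNagata R₀) [Field L]
    [Algebra R₀ L] (V : ValuationSubring L) (hV : ∀ r : R₀, algebraMap R₀ L r ∈ V)
    (E : Finset L) (hE : ∀ e ∈ E, e ∈ V.nonunits ∧ e ≠ 0) (hEne : E.Nonempty) (T : Finset L) :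
    ∃ (D : Type u) (_ : CommRing D) (_ : IsDomain D) (_ : IsIntegrallyClosed D)
      (_ : Algebra R₀ D) (_ : Algebra.FiniteType R₀ D) (𝔪 : Ideal D) (_ : 𝔪.IsMaximal) (gD : D)
      (R₂ : Type u) (_ : CommRing R₂) (_ : Algebra R₀ R₂) (ι₂ : R₂ →ₐ[R₀] L)
      (ψ₂ : R₂ →ₐ[R₀] Localization.Away gD),
      𝔪.height = 1 ∧ gD ≠ 0 ∧ gD ∈ 𝔪 ∧ (∀ Q : Ideal D, Q.IsPrime → gD ∈ Q → Q = 𝔪) ∧
      Function.Injective ι₂ ∧ (∀ t ∈ T, t ∈ ι₂.range) ∧
      ∀ e ∈ E, ∃ x : R₂, ι₂ x = e ∧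
        ∃ d ∈ 𝔪, ψ₂ x = algebraMap D (Localization.Away gD) d := by
  classical
  -- the subalgebra `B₁`
  let fT : L → L := fun t => if t ∈ V then t else t⁻¹
  let Γs : Set L := (E : Set L) ∪ fT '' (T : Set L)
  have hΓfin : Γs.Finite := E.finite_toSet.union (T.finite_toSet.image _)
  have hEV : ∀ e ∈ E, e ∈ V := fun e he =>
    (V.mem_nonunits_iff_exists_mem_maximalIdeal.mp (hE e he).1).1
  have hΓV : ∀ z ∈ Γs, z ∈ V := by
    rintro z (hz | ⟨t, _, rfl⟩)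
    · exact hEV z hz
    · by_cases htV : t ∈ V
      · simp only [fT, htV, if_true]
      · simp only [fT, htV, if_false]; exact (V.mem_or_inv_mem t).resolve_left htV
  let Valg : Subalgebra R₀ L :=
    { V.toSubring.toSubsemiring with algebraMap_mem' := hV }
  obtain ⟨B₁, hB₁def⟩ : ∃ B₁ : Subalgebra R₀ L, B₁ = Algebra.adjoin R₀ Γs := ⟨_, rfl⟩
  have hB₁V : ∀ b ∈ B₁, b ∈ V := by
    intro b hb
    rw [hB₁def] at hb
    exact (Algebra.adjoin_le (S := Valg) hΓV) hb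
  have hΓB : ∀ z ∈ Γs, z ∈ B₁ := fun z hz => by rw [hB₁def]; exact Algebra.subset_adjoin hz
  have hfg : B₁.FG := ⟨hΓfin.toFinset, by rw [hB₁def, Set.Finite.coe_toFinset]⟩
  haveI hft : Algebra.FiniteType R₀ B₁ := (Subalgebra.fg_iff_finiteType B₁).mp hfg
  have hB₁N : CAlg.IsNagata B₁ := Groth.Agent.Lib.Helper7.NagM.isNagata_of_finiteType R₀ hR₀ B₁
  -- the element `g₁`
  let fU : L → L := fun t => if t ∈ V then 1 else t⁻¹
  obtain ⟨g₁L, hg₁L⟩ : ∃ g₁L : L, g₁L = (∏ e ∈ E, e) * ∏ t ∈ T, fU t := ⟨_, rfl⟩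
  have hfUB : ∀ t ∈ T, fU t ∈ B₁ := by
    intro t ht
    by_cases htV : t ∈ V
    · simp only [fU, htV, if_true]; exact B₁.one_mem
    · simp only [fU, htV, if_false]
      have : fT t ∈ B₁ := hΓB _ (Or.inr ⟨t, ht, rfl⟩)
      simpa only [fT, htV, if_false] using this
  have hfU0 : ∀ t ∈ T, fU t ≠ 0 := by
    intro t ht
    by_cases htV : t ∈ V
    · simp only [fU, htV, if_true]; exact one_ne_zero
    · simp only [fU, htV, if_false]
      apply inv_ne_zero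
      rintro rfl
      exact htV V.zero_mem
  have hEB : ∀ e ∈ E, e ∈ B₁ := fun e he => hΓB e (Or.inl he)
  have hprodE : (∏ e ∈ E, e) ∈ B₁ := B₁.prod_mem hEB
  have hg₁B : g₁L ∈ B₁ := by
    rw [hg₁L]; exact B₁.mul_mem hprodE (B₁.prod_mem hfUB)
  have hg₁0 : g₁L ≠ 0 := by
    rw [hg₁L]
    exact mul_ne_zero (Finset.prod_ne_zero_iff.2 fun e he => (hE e he).2)
      (Finset.prod_ne_zero_iff.2 hfU0)
  have hg₁non : g₁L ∈ V.nonunits := by
    obtain ⟨e₀, he₀⟩ := hEne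
    have h1 : g₁L = ((∏ e ∈ E.erase e₀, e) * ∏ t ∈ T, fU t) * e₀ := by
      rw [hg₁L, ← Finset.mul_prod_erase E _ he₀]; ring
    rw [h1]
    apply Groth.Agent.Lib.Helper4.DVRDom.mul_mem_nonunits V _ (hE e₀ he₀).1
    exact V.toSubring.mul_mem
      (V.toSubring.prod_mem fun e he => hEV e (Finset.mem_of_mem_erase he))
      (V.toSubring.prod_mem fun t ht => hB₁V _ (hfUB t ht))
  have hg₁T : ∀ t ∈ T, g₁L * t ∈ B₁ := by
    intro t ht
    by_cases htV : t ∈ V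
    · apply B₁.mul_mem hg₁B
      have : fT t ∈ B₁ := hΓB _ (Or.inr ⟨t, ht, rfl⟩)
      simpa only [fT, htV, if_true] using this
    · have ht0 : t ≠ 0 := by rintro rfl; exact htV V.zero_mem
      have h1 : g₁L * t = (∏ e ∈ E, e) * ∏ t' ∈ T.erase t, fU t' := by
        rw [hg₁L, ← Finset.mul_prod_erase T _ ht]
        simp only [fU, htV, if_false]
        field_simp
      rw [h1]
      exact B₁.mul_mem hprodE (B₁.prod_mem fun t' ht' => hfUB t' (Finset.mem_of_mem_erase ht'))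
  -- the prime `𝔮` and the maximal ideal `𝔫`
  let j : B₁ →+* V := (B₁.val.toRingHom).codRestrict V.toSubring (fun b => hB₁V b b.2)
  let 𝔮 : Ideal B₁ := (IsLocalRing.maximalIdeal V).comap j
  have h𝔮 : 𝔮.IsPrime := Ideal.comap_isPrime _ _
  have hmem𝔮 : ∀ b : B₁, (b : L) ∈ V.nonunits → b ∈ 𝔮 := by
    intro b hb
    obtain ⟨hbV, hbm⟩ := V.mem_nonunits_iff_exists_mem_maximalIdeal.mp hb
    exact hbm
  obtain ⟨𝔫, h𝔫max, h𝔮𝔫⟩ := Ideal.exists_le_maximal 𝔮 h𝔮.ne_top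
  haveI := h𝔫max
  obtain ⟨g₁, hg₁⟩ : ∃ g₁ : B₁, (g₁ : L) = g₁L := ⟨⟨g₁L, hg₁B⟩, rfl⟩
  have hg₁ne : g₁ ≠ 0 := fun h => hg₁0 (by rw [← hg₁, h]; rfl)
  have hg₁𝔫 : g₁ ∈ 𝔫 := h𝔮𝔫 (hmem𝔮 g₁ (by rw [hg₁]; exact hg₁non))
  -- the curve
  obtain ⟨D, _, hdom, hic, algBD, hftD, 𝔪, h𝔪max, h𝔪ht, h𝔪comap, hgD, hQ⟩ :=
    NagCurve.exists_normal_curve hB₁N 𝔫 g₁ hg₁ne hg₁𝔫
  letI algR₀D : Algebra R₀ D := ((algebraMap B₁ D).comp (algebraMap R₀ B₁)).toAlgebra
  haveI : IsScalarTower R₀ B₁ D := IsScalarTower.of_algebraMap_eq (fun x => rfl)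
  have hftR₀D : Algebra.FiniteType R₀ D := Algebra.FiniteType.trans hft hftD
  -- the localization `R₂`
  have hunitL : IsUnit (B₁.val g₁) := by
    rw [Subalgebra.coe_val, hg₁]; exact IsUnit.mk0 _ hg₁0
  let ι₂ : Localization.Away g₁ →ₐ[R₀] L := IsLocalization.Away.liftAlgHom g₁ (f := B₁.val) hunitL
  have hι₂alg : ∀ b : B₁, ι₂ (algebraMap B₁ (Localization.Away g₁) b) = (b : L) := by
    intro b
    have h1 : ι₂ (algebraMap B₁ (Localization.Away g₁) b) =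
        IsLocalization.Away.lift g₁ (g := B₁.val.toRingHom) hunitL
          (algebraMap B₁ (Localization.Away g₁) b) := rfl
    rw [h1, IsLocalization.Away.lift_eq]
    rfl
  have hι₂inj : Function.Injective ι₂ := by
    change Function.Injective ι₂.toRingHom
    rw [IsLocalization.injective_iff_map_algebraMap_eq (Submonoid.powers g₁)]
    intro x y
    constructor
    · intro h; rw [h]
    · intro h
      change ι₂ _ = ι₂ _ at h
      rw [hι₂alg, hι₂alg] at h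
      rw [Subtype.ext h]
  have hunitD : IsUnit ((IsScalarTower.toAlgHom R₀ D (Localization.Away (algebraMap B₁ D g₁))).comp
      (IsScalarTower.toAlgHom R₀ B₁ D) g₁) :=
    IsLocalization.Away.algebraMap_isUnit (algebraMap B₁ D g₁)
  let ψ₂ : Localization.Away g₁ →ₐ[R₀] Localization.Away (algebraMap B₁ D g₁) :=
    IsLocalization.Away.liftAlgHom g₁ hunitD
  have hψ₂alg : ∀ b : B₁, ψ₂ (algebraMap B₁ (Localization.Away g₁) b) =
      algebraMap D (Localization.Away (algebraMap B₁ D g₁)) (algebraMap B₁ D b) := by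
    intro b
    have h1 : ψ₂ (algebraMap B₁ (Localization.Away g₁) b) =
        IsLocalization.Away.lift g₁ (g := ((IsScalarTower.toAlgHom R₀ D
          (Localization.Away (algebraMap B₁ D g₁))).comp
            (IsScalarTower.toAlgHom R₀ B₁ D)).toRingHom) hunitD
          (algebraMap B₁ (Localization.Away g₁) b) := rfl
    rw [h1, IsLocalization.Away.lift_eq]
    rfl
  refine ⟨D, inferInstance, hdom, hic, algR₀D, hftR₀D, 𝔪, h𝔪max, algebraMap B₁ D g₁,
    Localization.Away g₁, inferInstance, inferInstance, ι₂, ψ₂, h𝔪ht, hgD, ?_, hQ, hι₂inj, ?_, ?_⟩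
  · have : g₁ ∈ 𝔪.comap (algebraMap B₁ D) := by rw [h𝔪comap]; exact hg₁𝔫
    exact this
  · intro t ht
    refine ⟨IsLocalization.mk' (Localization.Away g₁) (⟨g₁L * t, hg₁T t ht⟩ : B₁)
      (⟨g₁, Submonoid.mem_powers g₁⟩ : Submonoid.powers g₁), ?_⟩
    have h1 := IsLocalization.mk'_spec (Localization.Away g₁) (⟨g₁L * t, hg₁T t ht⟩ : B₁)
      (⟨g₁, Submonoid.mem_powers g₁⟩ : Submonoid.powers g₁)
    have h2 := congrArg ι₂ h1
    rw [map_mul, hι₂alg, hι₂alg] at h2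
    change _ * (g₁ : L) = g₁L * t at h2
    rw [hg₁, mul_comm] at h2
    exact mul_left_cancel₀ hg₁0 h2
  · intro e he
    refine ⟨algebraMap B₁ (Localization.Away g₁) ⟨e, hEB e he⟩, hι₂alg _,
      algebraMap B₁ D ⟨e, hEB e he⟩, ?_, hψ₂alg _⟩
    have : (⟨e, hEB e he⟩ : B₁) ∈ 𝔫 := h𝔮𝔫 (hmem𝔮 _ (hE e he).1)
    rw [← h𝔪comap] at this
    exact this

end Groth.Agent.Lib.Helper9.NagWit
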