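import Mathlib
import Groth.Agent.Lib.Helper9NagWit
import Groth.Agent.Lib.Helper4DVREx
import Groth.Agent.Lib.Helper9NagLift

/-!
# The refined Noetherian valuative criterion over a Nagata base (curves)
-/

set_option autoImplicit false
universe u
open CategoryTheory CategoryTheory.Limits AlgebraicGeometry IsLocalRing TopologicalSpace

namespace Groth.Agent.Lib.Helper9.NagVC

open Groth.Agent.Lib.Helper4.DVREx

set_option backward.isDefEq.respectTransparency false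

/-- **Chart transfer.** A morphism `m : Spec R₂ ⟶ X` from a domain `R₂ ⊆ κ(ξ)` extending the point
`ξ`, and a `K'`-point of `Spec R₂` whose image in `X` lies in an affine open `U₁`: then `ξ ∈ U₁` and
relations between functions on `U₁` and elements of `R₂` valid in `κ(ξ)` hold at the `K'`-point. -/
theorem chart_transfer {X : Scheme.{u}} (ξ : X) {R₂ : Type u} [CommRing R₂]
    (ι₂ : R₂ →+* X.residueField ξ) (hι₂ : Function.Injective ι₂)
    (m : Spec (CommRingCat.of R₂) ⟶ X)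
    (hm : Spec.map (CommRingCat.ofHom ι₂) ≫ m = X.fromSpecResidueField ξ)
    {K' : Type u} [Field K'] (θ₂ : R₂ →+* K')
    {U₁ : X.Opens} (hU₁ : IsAffineOpen U₁) (μ : Γ(X, U₁) ⟶ CommRingCat.of K')
    (hμ : Spec.map (CommRingCat.ofHom θ₂) ≫ m = Spec.map μ ≫ hU₁.fromSpec) :
    ∃ hξ : ξ ∈ U₁, ∀ (c₁ : Γ(X, U₁)) (e : R₂), ι₂ e * (X.evaluation U₁ ξ hξ).hom c₁ = 1 →
      θ₂ e * μ.hom c₁ = 1 := by
  obtain ⟨z₁, hz₁⟩ : ∃ z₁ : Spec (CommRingCat.of R₂),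
      z₁ = Spec.map (CommRingCat.ofHom θ₂) (closedPoint K') := ⟨_, rfl⟩
  have hz₁U : m z₁ ∈ U₁ := by
    have h1 : m z₁ = hU₁.fromSpec (Spec.map μ (closedPoint K')) := by
      rw [hz₁, ← Scheme.Hom.comp_apply, hμ, Scheme.Hom.comp_apply]
    have h2 : m z₁ ∈ Set.range hU₁.fromSpec := ⟨_, h1.symm⟩
    rw [hU₁.range_fromSpec] at h2
    exact h2
  obtain ⟨_, ⟨_, ⟨g₂, rfl⟩, rfl⟩, hz₁g, hgU⟩ :=
    PrimeSpectrum.isBasis_basic_opens.exists_subset_of_mem_open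
    (show z₁ ∈ (m ⁻¹ᵁ U₁ : Set (Spec (CommRingCat.of R₂))) from hz₁U) (m ⁻¹ᵁ U₁).2
  -- the localization
  have hθg : IsUnit (θ₂ g₂) := by
    have h1 : g₂ ∉ z₁.asIdeal := hz₁g
    rw [hz₁] at h1
    have h2 : θ₂ g₂ ∉ maximalIdeal K' := h1
    rw [mem_maximalIdeal, mem_nonunits_iff, not_not] at h2
    exact h2
  have hg0 : g₂ ≠ 0 := by
    rintro rfl
    rw [map_zero] at hθg
    exact not_isUnit_zero hθg
  have hιg : IsUnit (ι₂ g₂) := IsUnit.mk0 _ (fun h => hg0 (hι₂ (by rw [h, map_zero])))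
  obtain ⟨a₃, ha₃⟩ : ∃ a₃ : R₂ →+* Localization.Away g₂, a₃ = algebraMap R₂ _ := ⟨_, rfl⟩
  obtain ⟨ι₃, hι₃⟩ : ∃ ι₃ : Localization.Away g₂ →+* X.residueField ξ, ι₃.comp a₃ = ι₂ :=
    ⟨IsLocalization.Away.lift g₂ hιg, by rw [ha₃]; exact IsLocalization.Away.lift_comp _ _⟩
  obtain ⟨θ₃, hθ₃⟩ : ∃ θ₃ : Localization.Away g₂ →+* K', θ₃.comp a₃ = θ₂ :=
    ⟨IsLocalization.Away.lift g₂ hθg, by rw [ha₃]; exact IsLocalization.Away.lift_comp _ _⟩
  have hι₃inj : Function.Injective ι₃ := by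
    rw [IsLocalization.injective_iff_map_algebraMap_eq (Submonoid.powers g₂)]
    intro x y
    constructor
    · intro h; rw [h]
    · intro h
      have h1 : ι₃.comp a₃ x = ι₃.comp a₃ y := by
        rw [ha₃]; exact h
      rw [hι₃] at h1
      rw [hι₂ h1]
  -- the morphism from `Spec R₃` lands in `U₁`
  have hrange : Set.range (Spec.map (CommRingCat.ofHom a₃) ≫ m) ⊆ Set.range hU₁.fromSpec := by
    rw [hU₁.range_fromSpec]
    rintro _ ⟨z, rfl⟩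
    rw [Scheme.Hom.comp_apply]
    apply hgU
    have : Spec.map (CommRingCat.ofHom a₃) z ∈ Set.range (Spec.map (CommRingCat.ofHom a₃)) :=
      ⟨z, rfl⟩
    rw [ha₃] at this
    rw [ha₃]
    have h2 := PrimeSpectrum.localization_away_comap_range (Localization.Away g₂) g₂
    rw [← h2]
    exact this
  obtain ⟨φ₁, hφ₁⟩ : ∃ φ₁ : Γ(X, U₁) ⟶ CommRingCat.of (Localization.Away g₂),
      Spec.map φ₁ ≫ hU₁.fromSpec = Spec.map (CommRingCat.ofHom a₃) ≫ m :=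
    ⟨Spec.preimage (IsOpenImmersion.lift hU₁.fromSpec _ hrange), by
      rw [Spec.map_preimage, IsOpenImmersion.lift_fac]⟩
  have hgen : Spec.map (CommRingCat.ofHom ι₃) ≫ Spec.map φ₁ ≫ hU₁.fromSpec =
      X.fromSpecResidueField ξ := by
    rw [hφ₁, ← Category.assoc, ← Spec.map_comp, ← CommRingCat.ofHom_comp, hι₃, hm]
  have hξ : ξ ∈ U₁ := by
    have h1 : ξ = hU₁.fromSpec ((Spec.map (CommRingCat.ofHom ι₃) ≫ Spec.map φ₁)
        (closedPoint (X.residueField ξ))) := by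
      rw [← Scheme.Hom.comp_apply, Category.assoc, hgen]
      exact (Scheme.fromSpecResidueField_apply _ _).symm
    have h2 : ξ ∈ Set.range hU₁.fromSpec := ⟨_, h1.symm⟩
    rw [hU₁.range_fromSpec] at h2
    exact h2
  refine ⟨hξ, fun c₁ e he => ?_⟩
  have E1 : φ₁ ≫ CommRingCat.ofHom ι₃ = X.evaluation U₁ ξ hξ := by
    apply fromSpec_cancel hU₁
    rw [Spec.map_comp, Category.assoc, hgen, fromSpecResidueField_eq hU₁ ξ hξ]
  have E2 : φ₁ ≫ CommRingCat.ofHom θ₃ = μ := by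
    apply fromSpec_cancel hU₁
    rw [Spec.map_comp, Category.assoc, hφ₁, ← Category.assoc, ← Spec.map_comp,
      ← CommRingCat.ofHom_comp, hθ₃, hμ]
  have h1 : ι₃ (a₃ e * φ₁.hom c₁) = 1 := by
    rw [map_mul]
    have h2 : ι₃ (a₃ e) = ι₂ e := by rw [← hι₃]; rfl
    have h3 : ι₃ (φ₁.hom c₁) = (X.evaluation U₁ ξ hξ).hom c₁ := by rw [← E1]; rfl
    rw [h2, h3, he]
  have h4 : a₃ e * φ₁.hom c₁ = 1 := hι₃inj (by rw [h1, map_one])
  have h5 := congrArg θ₃ h4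
  rw [map_mul, map_one] at h5
  have h6 : θ₃ (a₃ e) = θ₂ e := by rw [← hθ₃]; rfl
  have h7 : θ₃ (φ₁.hom c₁) = μ.hom c₁ := by rw [← E2]; rfl
  rw [h6, h7] at h5
  exact h5

set_option maxHeartbeats 3200000 in
open Classical in
/-- **Refined Noetherian valuative criterion (existence), over a Nagata base.** -/
theorem universallyClosed_of_curveLifting (S : Scheme.{u})
    (hS : ∀ W : S.affineOpens, CAlg.IsNagata Γ(S, W))
    {X Y : Scheme.{u}} (p : X ⟶ S) (q : Y ⟶ S) [LocallyOfFiniteType p] [LocallyOfFiniteType q]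
    (f : X ⟶ Y) (hf : f ≫ q = p) [QuasiCompact f]
    (H : ∀ (C : Scheme.{u}) (r : C ⟶ S) [IsIntegral C] [LocallyOfFiniteType r] [QuasiCompact r],
        (∀ x : C, IsIntegrallyClosed (C.presheaf.stalk x)) →
        ∀ (c : C), IsClosed ({c} : Set C) → ringKrullDim (C.presheaf.stalk c) = 1 →
        ∀ (U : C.Opens), (U : Set C) = {c}ᶜ →
        ∀ (u : (U : Scheme.{u}) ⟶ X) (g : C ⟶ Y), g ≫ q = r → u ≫ f = U.ι ≫ g →
        ∀ (k : Spec (CommRingCat.of (FractionRing (C.presheaf.stalk c))) ⟶ (U : Scheme.{u})),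
          k ≫ U.ι = Spec.map (CommRingCat.ofHom (algebraMap (C.presheaf.stalk c)
            (FractionRing (C.presheaf.stalk c)))) ≫ C.fromSpecStalk c →
        ∃ l : Spec (C.presheaf.stalk c) ⟶ X, l ≫ f = C.fromSpecStalk c ≫ g ∧
          Spec.map (CommRingCat.ofHom (algebraMap (C.presheaf.stalk c)
            (FractionRing (C.presheaf.stalk c)))) ≫ l = k ≫ u) :
    UniversallyClosed f := by
  haveI : IsLocallyNoetherian S := ⟨fun W => (hS W).1⟩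
  haveI : IsLocallyNoetherian Y := LocallyOfFiniteType.isLocallyNoetherian q
  haveI : LocallyOfFiniteType (f ≫ q) := by rw [hf]; infer_instance
  haveI : LocallyOfFiniteType f := locallyOfFiniteType_of_comp f q
  refine UniversallyClosed.of_valuativeCriterion f (existence_of_dvr f ?_)
  intro ξ V hVd y hy
  by_contra hno
  -- charts
  obtain ⟨y₀, hy₀⟩ : ∃ y₀ : Y, y₀ = y (closedPoint (CommRingCat.of V)) := ⟨_, rfl⟩
  obtain ⟨S₀, hS₀, hsS₀, -⟩ := exists_isAffineOpen_mem_and_subset (U := ⊤) (x := q y₀) (by simp)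
  obtain ⟨W, hW, hyW, hWS⟩ := exists_isAffineOpen_mem_and_subset (U := q ⁻¹ᵁ S₀) (x := y₀) hsS₀
  have hR₀ : CAlg.IsNagata Γ(Y, W) := by
    have hft : (q.appLE S₀ W hWS).hom.FiniteType := q.finiteType_appLE hS₀ hW hWS
    letI : Algebra Γ(S, S₀) Γ(Y, W) := (q.appLE S₀ W hWS).hom.toAlgebra
    haveI : Algebra.FiniteType Γ(S, S₀) Γ(Y, W) := hft
    exact Groth.Agent.Lib.Helper7.NagM.isNagata_of_finiteType Γ(S, S₀) (hS ⟨S₀, hS₀⟩) Γ(Y, W)
  obtain ⟨β, hβ⟩ := exists_factor_fromSpec y hW (hy₀ ▸ hyW)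
  have hc : IsCompact ((f ⁻¹ᵁ W : X.Opens) : Set X) := f.isCompact_preimage hW.isCompact
  obtain ⟨𝒰, h𝒰fin, h𝒰⟩ := (isCompact_iff_finite_and_eq_biUnion_affineOpens).mp hc
  have hle : ∀ U ∈ 𝒰, (U : X.Opens) ≤ f ⁻¹ᵁ W := fun U hU => by
    rw [h𝒰]; exact le_iSup₂ (f := fun (i : X.affineOpens) (_ : i ∈ 𝒰) => (i : X.Opens)) U hU
  have hξW : ξ ∈ f ⁻¹ᵁ W := by
    have h1 : f ξ = hW.fromSpec ((Spec.map (CommRingCat.ofHom V.subtype) ≫ Spec.map β)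
        (closedPoint (X.residueField ξ))) := by
      rw [← Scheme.Hom.comp_apply, Category.assoc, ← hβ, hy, Scheme.Hom.comp_apply]
      congr 1
      exact (Scheme.fromSpecResidueField_apply _ _).symm
    have h2 : f ξ ∈ Set.range hW.fromSpec := ⟨_, h1.symm⟩
    rw [hW.range_fromSpec] at h2
    exact h2
  have KI : ∀ (U : X.affineOpens) (hU : U ∈ 𝒰) (hξU : ξ ∈ U.1),
      f.appLE W U (hle U hU) ≫ X.evaluation U ξ hξU = β ≫ CommRingCat.ofHom V.subtype := by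
    intro U hU hξU
    apply fromSpec_cancel hW
    rw [Spec.map_comp, Category.assoc, IsAffineOpen.SpecMap_appLE_fromSpec f hW U.2 (hle U hU),
      ← Category.assoc, ← fromSpecResidueField_eq U.2 ξ hξU, ← hy, hβ, Spec.map_comp,
      Category.assoc]
  -- witnesses
  have hwit : ∀ U ∈ 𝒰, ∀ hξU : ξ ∈ (U : X.affineOpens).1,
      ∃ c, (X.evaluation U ξ hξU).hom c ∉ V := by
    intro U hU hξU
    by_contra hall
    push Not at hall
    apply hno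
    let lam : Γ(X, U) →+* V := (X.evaluation U ξ hξU).hom.codRestrict V.toSubring hall
    have hlam' : CommRingCat.ofHom lam ≫ CommRingCat.ofHom V.subtype = X.evaluation U ξ hξU :=
      rfl
    refine ⟨Spec.map (CommRingCat.ofHom lam) ≫ U.2.fromSpec, ?_, ?_⟩
    · rw [Category.assoc, ← IsAffineOpen.SpecMap_appLE_fromSpec f hW U.2 (hle U hU),
        ← Category.assoc, ← Spec.map_comp, hβ]
      congr 2
      ext b
      have h3 := congrArg (fun φ => φ.hom b) (KI U hU hξU)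
      exact h3
    · rw [← Category.assoc, ← Spec.map_comp, hlam', fromSpecResidueField_eq U.2 ξ hξU]
  choose c hc' using hwit
  obtain ⟨U₀, hU₀, hξU₀⟩ : ∃ U₀ ∈ 𝒰, ξ ∈ (U₀ : X.affineOpens).1 := by
    rw [h𝒰] at hξW
    simpa [Opens.mem_iSup] using hξW
  let eU : X.affineOpens → X.residueField ξ := fun U =>
    if h : U ∈ 𝒰 ∧ ξ ∈ U.1 then ((X.evaluation U ξ h.2).hom (c U h.1 h.2))⁻¹ else 0
  let E : Finset (X.residueField ξ) := (h𝒰fin.toFinset.filter (fun U => ξ ∈ U.1)).image eU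
  have hE : ∀ e ∈ E, e ∈ V.nonunits ∧ e ≠ 0 := by
    intro e he
    obtain ⟨U, hUm, rfl⟩ := Finset.mem_image.mp he
    have h : U ∈ 𝒰 ∧ ξ ∈ U.1 :=
      ⟨h𝒰fin.mem_toFinset.1 (Finset.mem_filter.1 hUm).1, (Finset.mem_filter.1 hUm).2⟩
    simp only [eU, h, and_self, dite_true]
    refine ⟨Groth.Agent.Lib.Helper4.DVRDom.inv_mem_nonunits_of_notMem V (hc' U h.1 h.2), ?_⟩
    apply inv_ne_zero
    intro h0
    apply hc' U h.1 h.2
    rw [h0]; exact V.zero_mem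
  have hEne : E.Nonempty :=
    ⟨eU U₀, Finset.mem_image.2 ⟨U₀, Finset.mem_filter.2 ⟨h𝒰fin.mem_toFinset.2 hU₀, hξU₀⟩, rfl⟩⟩
  -- algebra structures
  letI algL : Algebra Γ(Y, W) (X.residueField ξ) :=
    (β ≫ CommRingCat.ofHom V.subtype).hom.toAlgebra
  have hV : ∀ r : Γ(Y, W), algebraMap Γ(Y, W) (X.residueField ξ) r ∈ V := fun r => (β.hom r).2
  have hft₀ : (f.appLE W U₀ (hle U₀ hU₀)).hom.FiniteType :=
    f.finiteType_appLE hW U₀.2 (hle U₀ hU₀)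
  letI algU₀ : Algebra Γ(Y, W) Γ(X, U₀) := (f.appLE W U₀ (hle U₀ hU₀)).hom.toAlgebra
  obtain ⟨s, hs⟩ := (show Algebra.FiniteType Γ(Y, W) Γ(X, U₀) from hft₀).out
  let ev₀ : Γ(X, U₀) →ₐ[Γ(Y, W)] X.residueField ξ :=
    { (X.evaluation U₀ ξ hξU₀).hom with
      commutes' := fun r => by
        have h3 := congrArg (fun φ => φ.hom r) (KI U₀ hU₀ hξU₀)
        exact h3 }
  obtain ⟨D, _, hdom, hic, algD, hftD, 𝔪, h𝔪max, gD, R₂, _, algR₂, ι₂, ψ₂, h𝔪ht, hgD0, hgD𝔪, hQ,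
    hι₂inj, hT, hEx⟩ :=
    Groth.Agent.Lib.Helper9.NagWit.exists_curve_data hR₀ V hV E hE hEne (s.image ev₀)
  -- (a) the chart map `φ₀ : Γ(X, U₀) → R₂`
  have hrange : ∀ a : Γ(X, U₀), ∃ x : R₂, ι₂ x = ev₀ a := by
    have h1 : (⊤ : Subalgebra Γ(Y, W) Γ(X, U₀)).map ev₀ ≤ ι₂.range := by
      rw [← hs, AlgHom.map_adjoin]
      apply Algebra.adjoin_le
      rintro _ ⟨a, ha, rfl⟩
      exact hT _ (Finset.mem_image_of_mem _ ha)
    intro a
    obtain ⟨x, hx⟩ := h1 ((Subalgebra.mem_map).2 ⟨a, Algebra.mem_top, rfl⟩)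
    exact ⟨x, hx⟩
  choose φfun hφfun using hrange
  obtain ⟨φ₀, hφ₀⟩ : ∃ φ₀ : Γ(X, U₀) →+* R₂, ∀ a, ι₂ (φ₀ a) = ev₀ a := by
    refine ⟨{ toFun := φfun, map_one' := ?_, map_mul' := ?_, map_zero' := ?_, map_add' := ?_ },
      hφfun⟩
    · apply hι₂inj; rw [hφfun, map_one, map_one]
    · intro a b; apply hι₂inj; rw [map_mul, hφfun, hφfun, hφfun, map_mul]
    · apply hι₂inj; rw [hφfun, map_zero, map_zero]
    · intro a b; apply hι₂inj; rw [map_add, hφfun, hφfun, hφfun, map_add]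
  clear hφfun φfun
  -- (b) the ring map `ψ`
  have hφ₀alg : ∀ r : Γ(Y, W), φ₀ ((f.appLE W U₀ (hle U₀ hU₀)).hom r) = algebraMap Γ(Y, W) R₂ r := by
    intro r
    apply hι₂inj
    rw [hφ₀, ι₂.commutes]
    exact ev₀.commutes r
  obtain ⟨ψ, hψdef⟩ : ∃ ψ : Γ(X, U₀) →+* Localization.Away gD,
      ψ = (ψ₂ : R₂ →+* Localization.Away gD).comp φ₀ := ⟨_, rfl⟩
  have hψ : ψ.comp (f.appLE W U₀ (hle U₀ hU₀)).hom =
      (algebraMap D (Localization.Away gD)).comp (algebraMap Γ(Y, W) D) := by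
    ext r
    rw [hψdef]
    show ψ₂ (φ₀ ((f.appLE W U₀ (hle U₀ hU₀)).hom r)) = _
    rw [hφ₀alg, ψ₂.commutes]
    exact IsScalarTower.algebraMap_apply Γ(Y, W) D (Localization.Away gD) r
  -- (c) apply the hypothesis to the curve `Spec D`
  obtain ⟨A, _, _, _, toA, κ₁, l, htoA𝔪, hκ₁, hl1, hl2⟩ :=
    Groth.Agent.Lib.Helper9.NagLift.curve_lift S q f H hW D 𝔪 h𝔪ht gD hgD0 hgD𝔪 hQ U₀.2
      (hle U₀ hU₀) ψ hψ
  -- (g) the closed point of `Spec A` lands in some chart `U₁`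
  have hx₁ : l (closedPoint A) ∈ f ⁻¹ᵁ W := by
    show f (l (closedPoint A)) ∈ W
    rw [← Scheme.Hom.comp_apply, hl1, ← Category.assoc, Scheme.Hom.comp_apply]
    have h2 : hW.fromSpec ((Spec.map (CommRingCat.ofHom toA) ≫
        Spec.map (CommRingCat.ofHom (algebraMap Γ(Y, W) D))) (closedPoint A)) ∈
        Set.range hW.fromSpec := ⟨_, rfl⟩
    rw [hW.range_fromSpec] at h2
    exact h2
  rw [h𝒰] at hx₁
  obtain ⟨U₁, hU₁, hx₁U₁⟩ : ∃ U₁ ∈ 𝒰, l (closedPoint A) ∈ (U₁ : X.affineOpens).1 := by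
    simpa [Opens.mem_iSup] using hx₁
  obtain ⟨lam, hlam⟩ := exists_factor_fromSpec (R := CommRingCat.of A) l U₁.2 hx₁U₁
  obtain ⟨m, hm⟩ : ∃ m : Spec (CommRingCat.of R₂) ⟶ X,
      m = Spec.map (CommRingCat.ofHom φ₀) ≫ U₀.2.fromSpec := ⟨_, rfl⟩
  have hmι : Spec.map (CommRingCat.ofHom (ι₂ : R₂ →+* X.residueField ξ)) ≫ m =
      X.fromSpecResidueField ξ := by
    rw [hm, ← Spec.map_comp_assoc, fromSpecResidueField_eq U₀.2 ξ hξU₀]
    congr 2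
    ext a
    exact hφ₀ a
  obtain ⟨θ₂, hθ₂⟩ : ∃ θ₂ : R₂ →+* FractionRing A,
      θ₂ = κ₁.comp (ψ₂ : R₂ →+* Localization.Away gD) := ⟨_, rfl⟩
  obtain ⟨μ, hμdef⟩ : ∃ μ : Γ(X, U₁) ⟶ CommRingCat.of (FractionRing A),
      μ = lam ≫ CommRingCat.ofHom (algebraMap A (FractionRing A)) := ⟨_, rfl⟩
  have hμ : Spec.map (CommRingCat.ofHom θ₂) ≫ m = Spec.map μ ≫ U₁.2.fromSpec := by
    rw [hμdef, Spec.map_comp, Category.assoc, ← hlam, hl2, hm, ← Spec.map_comp_assoc,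
      ← Spec.map_comp_assoc, hθ₂, hψdef]
    rfl
  obtain ⟨hξU₁, htr⟩ := chart_transfer ξ (ι₂ : R₂ →+* X.residueField ξ) hι₂inj m hmι θ₂ U₁.2 μ hμ
  have heU₁ : eU U₁ ∈ E :=
    Finset.mem_image.2 ⟨U₁, Finset.mem_filter.2 ⟨h𝒰fin.mem_toFinset.2 hU₁, hξU₁⟩, rfl⟩
  obtain ⟨x, hx, d, hd𝔪, hxd⟩ := hEx _ heU₁
  have heq : eU U₁ = ((X.evaluation U₁ ξ hξU₁).hom (c U₁ hU₁ hξU₁))⁻¹ := by
    simp only [eU, hU₁, hξU₁, and_self, dite_true]
  have hne : (X.evaluation U₁ ξ hξU₁).hom (c U₁ hU₁ hξU₁) ≠ 0 := by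
    intro h0
    apply hc' U₁ hU₁ hξU₁
    rw [h0]; exact V.zero_mem
  have h1 := htr (c U₁ hU₁ hξU₁) x (by
    show ι₂ x * _ = 1
    rw [hx, heq, inv_mul_cancel₀ hne])
  have h2 : θ₂ x = algebraMap A (FractionRing A) (toA d) := by
    rw [hθ₂]
    show κ₁ (ψ₂ x) = _
    rw [hxd]
    exact congrArg (fun φ => φ d) hκ₁
  have h3 : μ.hom (c U₁ hU₁ hξU₁) =
      algebraMap A (FractionRing A) (lam.hom (c U₁ hU₁ hξU₁)) := by
    rw [hμdef]; rfl
  rw [h2, h3, ← map_mul] at h1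
  have h4 : toA d * lam.hom (c U₁ hU₁ hξU₁) = 1 :=
    IsFractionRing.injective A (FractionRing A) (by rw [h1, map_one])
  have h5 : IsUnit (toA d) := IsUnit.of_mul_eq_one _ h4
  exact (mem_maximalIdeal _).1 (htoA𝔪 d hd𝔪) h5

end Groth.Agent.Lib.Helper9.NagVC
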