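import Mathlib

/-!
# Stalks of schemes locally of finite type are essentially of finite type; DVR stalks
-/

set_option autoImplicit false
universe u
open CategoryTheory CategoryTheory.Limits AlgebraicGeometry IsLocalRing TopologicalSpace

namespace Groth.Agent.Lib.Helper9.ValCritEss

set_option backward.isDefEq.respectTransparency false

/-- The local ring of a scheme locally of finite type over `S` at a point is essentially of finite
type over an affine open of `S`. -/
theorem exists_essFiniteType_stalk {C S : Scheme.{u}} (r : C ⟶ S) [LocallyOfFiniteType r] (c : C) :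
    ∃ (U : S.affineOpens) (φ : Γ(S, U.1) ⟶ C.presheaf.stalk c),
      Spec.map φ ≫ U.2.fromSpec = C.fromSpecStalk c ≫ r ∧ φ.hom.EssFiniteType := by
  obtain ⟨U, hU, hcU, -⟩ := exists_isAffineOpen_mem_and_subset (U := ⊤) (x := r c) (by simp)
  obtain ⟨V, hV, hcV, hVU⟩ := exists_isAffineOpen_mem_and_subset (U := r ⁻¹ᵁ U) (x := c) hcU
  refine ⟨⟨U, hU⟩, r.appLE U V hVU ≫ C.presheaf.germ V c hcV, ?_, ?_⟩
  · rw [Spec.map_comp, Category.assoc, IsAffineOpen.SpecMap_appLE_fromSpec r hU hV hVU,
      ← Category.assoc]
    congr 1
    exact hV.fromSpecStalk_eq_fromSpecStalk hcV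
  · rw [CommRingCat.hom_comp]
    refine RingHom.EssFiniteType.comp (r.finiteType_appLE hU hV hVU).essFiniteType ?_
    have := hV.isLocalization_stalk ⟨c, hcV⟩
    let _ := C.presheaf.algebra_section_stalk (U := V) ⟨c, hcV⟩
    have h2 : Algebra.EssFiniteType Γ(C, V) (C.presheaf.stalk c) :=
      Algebra.EssFiniteType.of_isLocalization _ (hV.primeIdealOf ⟨c, hcV⟩).asIdeal.primeCompl
    exact h2

/-- A Noetherian integrally closed local domain of dimension one is a DVR. -/
theorem isDiscreteValuationRing_of_dim_one (R : Type u) [CommRing R] [IsDomain R] [IsLocalRing R]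
    [IsNoetherianRing R] [IsIntegrallyClosed R] (hdim : ringKrullDim R = 1) :
    IsDiscreteValuationRing R := by
  haveI : Ring.KrullDimLE 1 R := Ring.krullDimLE_iff.mpr hdim.le
  have hPID : IsPrincipalIdealRing R := by
    have h := (tfae_of_isNoetherianRing_of_isLocalRing_of_isDomain R).out 3 0
    refine h.mp ⟨inferInstance, ?_⟩
    intro P hP hPp
    exact IsLocalRing.eq_maximalIdeal (hPp.isMaximal_of_ne_bot hP)
  exact
    { hPID with
      not_a_field' := fun h => by
        have hf : IsField R := IsLocalRing.isField_iff_maximalIdeal_eq.mpr h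
        rw [ringKrullDim_eq_zero_of_isField hf] at hdim
        exact zero_ne_one hdim }

end Groth.Agent.Lib.Helper9.ValCritEss
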