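import Mathlib
import Groth.Agent.Lib.Helper4TotalFracFin
import Groth.Agent.Lib.Helper4TotalFrac
import Groth.Agent.Lib.Helper9ValCritEss

set_option autoImplicit false

namespace Groth.Agent.Lib.Helper9.NormDVR

universe u

section loc
variable {C B : Type*} [CommRing C] [CommRing B] [Algebra C B]

/-- If `C` is integrally closed in `B`, then `M⁻¹C` is integrally closed in `M⁻¹B`. -/
theorem mem_range_of_isIntegral_localization
    (hic : ∀ b : B, IsIntegral C b → b ∈ (algebraMap C B).range) (M : Submonoid C)
    (β : Localization (Algebra.algebraMapSubmonoid B M)) (hβ : IsIntegral (Localization M) β) :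
    β ∈ (algebraMap (Localization M) (Localization (Algebra.algebraMapSubmonoid B M))).range := by
  obtain ⟨⟨m₂, hm₂⟩, h2⟩ := IsIntegral.exists_multiple_integral_of_isLocalization M β hβ
  obtain ⟨⟨b₁, ⟨_, m₁, hm₁, rfl⟩⟩, e⟩ := IsLocalization.surj (Algebra.algebraMapSubmonoid B M) β
  simp only [Submonoid.smul_def, Algebra.smul_def] at h2
  simp only [← IsScalarTower.algebraMap_apply] at e
  obtain ⟨m₃, hm₃, h4⟩ := IsLocalization.exists_isIntegral_smul_of_isIntegral_map
    (Sₘ := Localization (Algebra.algebraMapSubmonoid B M)) M (x := m₂ • b₁) <| by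
      simp only [Algebra.smul_def, map_mul, ← IsScalarTower.algebraMap_apply, ← e, ← mul_assoc]
      exact h2.mul isIntegral_algebraMap
  obtain ⟨c, hc⟩ := hic _ h4
  refine ⟨IsLocalization.mk' (Localization M) c ⟨m₁ * (m₂ * m₃), mul_mem hm₁ (mul_mem hm₂ hm₃)⟩, ?_⟩
  have hu : IsUnit (algebraMap C (Localization (Algebra.algebraMapSubmonoid B M))
      (m₁ * (m₂ * m₃))) :=
    IsLocalization.map_units_map_submonoid B _ ⟨m₁ * (m₂ * m₃), mul_mem hm₁ (mul_mem hm₂ hm₃)⟩
  apply hu.mul_right_cancel
  rw [IsScalarTower.algebraMap_apply C (Localization M), ← map_mul, IsLocalization.mk'_spec,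
    ← IsScalarTower.algebraMap_apply, IsScalarTower.algebraMap_apply C B, hc]
  simp only [Algebra.smul_def, map_mul, ← IsScalarTower.algebraMap_apply, ← e]
  ring

end loc

section dvd

/-- In a local ring of dimension `≤ 1`, a nonzerodivisor divides a power of any element of the
maximal ideal. -/
theorem exists_dvd_pow (R : Type*) [CommRing R] [IsLocalRing R] (hdim : ringKrullDim R ≤ 1)
    (t : R) (ht : t ∈ nonZeroDivisors R) (g : R) (hg : g ∈ IsLocalRing.maximalIdeal R) :
    ∃ k : ℕ, t ∣ g ^ k := by
  have : g ∈ (Ideal.span {t}).radical := by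
    rw [Ideal.radical_eq_sInf, Ideal.mem_sInf]
    rintro P ⟨hP, hPp⟩
    have hPm : P ≤ IsLocalRing.maximalIdeal R := IsLocalRing.le_maximalIdeal hPp.ne_top
    rcases hPm.eq_or_lt with h | h
    · rw [h]; exact hg
    · exfalso
      have hmin : P ∈ minimalPrimes R := by
        rw [← Ideal.height_eq_zero_iff]
        have h2 : ((IsLocalRing.maximalIdeal R).height : WithBot ℕ∞) ≤ 1 :=
          (Ideal.height_le_ringKrullDim_of_isPrime).trans hdim
        have h3 : (IsLocalRing.maximalIdeal R).height ≤ 1 := by exact_mod_cast h2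
        haveI : (IsLocalRing.maximalIdeal R).FiniteHeight :=
          (Ideal.finiteHeight_iff _).mpr (Or.inr (ne_top_of_le_ne_top (by simp) h3))
        have h1 : P.height < (IsLocalRing.maximalIdeal R).height :=
          Ideal.height_strict_mono_of_isPrime_of_isPrime h
        exact ENat.lt_one_iff_eq_zero.mp (h1.trans_le h3)
      exact notMem_nonZeroDivisors_of_mem_mem_minimalPrimes
        (hP (Ideal.mem_span_singleton_self t)) hmin ht
  obtain ⟨k, hk⟩ := this
  exact ⟨k, Ideal.mem_span_singleton.mp hk⟩

end dvd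

section main

/-- A reduced Noetherian local ring `R` of dimension `≤ 1` that is integrally closed in an
extension `S` in which some element of the maximal ideal becomes invertible is a normal domain. -/
theorem isDomain_isIntegrallyClosed_of_local {R : Type u} {S : Type*} [CommRing R] [CommRing S]
    [Algebra R S] [IsLocalRing R] [IsNoetherianRing R] [IsReduced R] (hdim : ringKrullDim R ≤ 1)
    (hinj : Function.Injective (algebraMap R S))
    (hic : ∀ β : S, IsIntegral R β → β ∈ (algebraMap R S).range)
    (g : R) (hg : g ∈ IsLocalRing.maximalIdeal R) (hgu : IsUnit (algebraMap R S g)) :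
    IsDomain R ∧ IsIntegrallyClosed R := by
  have hgnzd : g ∈ nonZeroDivisors R := by
    rw [mem_nonZeroDivisors_iff_right]
    intro z hz
    apply hinj
    rw [map_zero]
    have : algebraMap R S z * algebraMap R S g = 0 := by rw [← map_mul, hz, map_zero]
    exact hgu.mul_left_eq_zero.mp this
  have hicR : IsIntegrallyClosedIn R (FractionRing R) := by
    rw [isIntegrallyClosedIn_iff]
    refine ⟨IsFractionRing.injective R _, ?_⟩
    intro x hx
    obtain ⟨a, t, rfl⟩ := IsLocalization.exists_mk'_eq (nonZeroDivisors R) x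
    obtain ⟨k, u, hu⟩ := exists_dvd_pow R hdim t t.2 g hg
    have hle : Submonoid.powers g ≤ nonZeroDivisors R := Submonoid.powers_le.mpr hgnzd
    have hRginj : Function.Injective (algebraMap R (Localization.Away g)) :=
      IsLocalization.injective _ hle
    have hFinj : Function.Injective (algebraMap R (FractionRing R)) :=
      IsFractionRing.injective R _
    have hgF : ∀ y : Submonoid.powers g, IsUnit (algebraMap R (FractionRing R) y) := fun y =>
      IsLocalization.map_units _ (⟨y.1, hle y.2⟩ : nonZeroDivisors R)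
    have hgS : ∀ y : Submonoid.powers g, IsUnit (algebraMap R S y) := by
      rintro ⟨_, n, rfl⟩
      simpa using hgu.pow n
    let θ : Localization.Away g →ₐ[R] FractionRing R :=
      { IsLocalization.lift hgF with commutes' := fun r => IsLocalization.lift_eq hgF r }
    let ψ : Localization.Away g →ₐ[R] S :=
      { IsLocalization.lift hgS with commutes' := fun r => IsLocalization.lift_eq hgS r }
    have hθinj : Function.Injective θ := by
      change Function.Injective (IsLocalization.lift hgF)
      rw [IsLocalization.lift_injective_iff]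
      intro x y
      rw [hRginj.eq_iff, hFinj.eq_iff]
    let x₀ : Localization.Away g :=
      IsLocalization.mk' _ (a * u) (⟨g ^ k, k, rfl⟩ : Submonoid.powers g)
    have hx₀ : θ x₀ = IsLocalization.mk' (FractionRing R) a t := by
      change IsLocalization.lift hgF x₀ = _
      rw [IsLocalization.lift_mk'_spec]
      change algebraMap R _ (a * u) = algebraMap R _ (g ^ k) * _
      rw [hu, map_mul, map_mul, mul_comm (algebraMap R _ (t : R)), mul_assoc,
        IsLocalization.mk'_spec', mul_comm]
    have h1 : IsIntegral R x₀ := by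
      rw [← isIntegral_algHom_iff θ hθinj, hx₀]
      exact hx
    obtain ⟨r, hr⟩ := hic (ψ x₀) (h1.map ψ)
    have h2 : ψ x₀ * algebraMap R S (g ^ k) = algebraMap R S (a * u) := by
      have : IsLocalization.lift hgS x₀ = ψ x₀ := rfl
      have h3 := (IsLocalization.lift_mk'_spec (S := Localization.Away g) hgS (a * u) (ψ x₀)
        (⟨g ^ k, k, rfl⟩ : Submonoid.powers g)).mp this
      rw [mul_comm]; exact h3.symm
    have h4 : r * g ^ k = a * u := by
      apply hinj
      rw [map_mul, hr, h2]
    refine ⟨r, ?_⟩
    rw [IsLocalization.eq_mk'_iff_mul_eq, ← map_mul]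
    congr 1
    have hk : (g ^ k) ∈ nonZeroDivisors R := pow_mem hgnzd k
    have h5 : (r * (t : R) - a) * g ^ k = 0 := by
      rw [hu] at h4 ⊢
      linear_combination (t : R) * h4
    exact sub_eq_zero.mp (mem_nonZeroDivisors_iff_right.mp hk _ h5)
  have hfin : (minimalPrimes R).Finite := minimalPrimes.finite_of_isNoetherianRing R
  exact Groth.Agent.Lib.Helper4.TotalFrac.isDomain_isIntegrallyClosed_of_isLocalRing
    (Groth.Agent.Lib.Helper4.TotalFracFin.forall_localization_of_isIntegrallyClosedIn_fractionRing
      hfin hicR (IsLocalRing.maximalIdeal R))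

end main

section glob

variable {C : Type u} {B : Type*} [CommRing C] [CommRing B] [Algebra C B]

/-- Let `C ⊆ B` be integrally closed with `C` reduced Noetherian, `p` a prime of `C` of height
`≤ 1`, `g ∈ p` and `s ∉ p` with `g ∣ s` in `B`. Then `C_p` is a normal domain. -/
theorem isDomain_isIntegrallyClosed_atPrime [IsNoetherianRing C] [IsReduced C]
    (hinj : Function.Injective (algebraMap C B))
    (hic : ∀ b : B, IsIntegral C b → b ∈ (algebraMap C B).range)
    (p : Ideal C) [p.IsPrime] (hdim : ringKrullDim (Localization.AtPrime p) ≤ 1)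
    (g : C) (hgp : g ∈ p) (s : C) (hs : s ∉ p) (b : B)
    (hb : algebraMap C B g * b = algebraMap C B s) :
    IsDomain (Localization.AtPrime p) ∧ IsIntegrallyClosed (Localization.AtPrime p) := by
  refine isDomain_isIntegrallyClosed_of_local
    (S := Localization (Algebra.algebraMapSubmonoid B p.primeCompl)) hdim
    (localizationAlgebra_injective _ _ hinj)
    (fun β hβ => mem_range_of_isIntegral_localization hic p.primeCompl β hβ)
    (algebraMap C _ g) ((IsLocalization.AtPrime.to_map_mem_maximal_iff _ p g).mpr hgp) ?_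
  have hsu : IsUnit (algebraMap C (Localization (Algebra.algebraMapSubmonoid B p.primeCompl)) s) :=
    IsLocalization.map_units_map_submonoid B _ (⟨s, hs⟩ : p.primeCompl)
  rw [← IsScalarTower.algebraMap_apply]
  rw [IsScalarTower.algebraMap_apply C B, ← hb, map_mul, ← IsScalarTower.algebraMap_apply] at hsu
  exact isUnit_of_mul_isUnit_left hsu

/-- Choice of an element of a height-one prime avoiding all smaller primes. -/
theorem exists_mem_forall_eq [IsNoetherianRing C] (p : Ideal C) [p.IsPrime]
    (hp : p.height = 1) :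
    ∃ g ∈ p, ∀ q : Ideal C, q.IsPrime → q ≤ p → g ∈ q → q = p := by
  classical
  have hfin : (minimalPrimes C).Finite := minimalPrimes.finite_of_isNoetherianRing C
  have hnot : ¬ ((p : Set C) ⊆ ⋃ q ∈ (hfin.toFinset : Set (Ideal C)), ((id q : Ideal C) : Set C)) := by
    rw [Ideal.subset_union_prime (R := C) (s := hfin.toFinset) (f := id) p p
      (fun i hi _ _ => ((Set.Finite.mem_toFinset hfin).mp hi).1.1)]
    rintro ⟨q, hq, hpq⟩
    have hq' := (Set.Finite.mem_toFinset hfin).mp hq
    have : p = q := le_antisymm hpq (hq'.2 ⟨inferInstance, bot_le⟩ hpq)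
    subst this
    rw [Ideal.height_eq_zero_iff.mpr hq'] at hp
    exact zero_ne_one hp
  rw [Set.not_subset] at hnot
  obtain ⟨g, hgp, hg⟩ := hnot
  refine ⟨g, hgp, fun q hq hqp hgq => ?_⟩
  by_contra hne
  have hlt : q < p := lt_of_le_of_ne hqp hne
  haveI : p.FiniteHeight := (Ideal.finiteHeight_iff _).mpr (Or.inr (by rw [hp]; simp))
  have h1 : q.height < p.height := Ideal.height_strict_mono_of_isPrime_of_isPrime hlt
  rw [hp] at h1
  have hmin : q ∈ minimalPrimes C := Ideal.height_eq_zero_iff.mp (ENat.lt_one_iff_eq_zero.mp h1)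
  apply hg
  simp only [Set.mem_iUnion]
  exact ⟨q, (Set.Finite.mem_toFinset hfin).mpr hmin, hgq⟩

/-- If `p` is not in the image of `Spec D → Spec C` and the only prime `q ≤ p` containing `g`
is `p` itself, then `g` divides the image of some `s ∉ p` in `D`. -/
theorem exists_notMem_of_notMem_range {D : Type*} [CommRing D] (φ : C →+* D) (p : Ideal C)
    [p.IsPrime] (g : C) (hg : ∀ q : Ideal C, q.IsPrime → q ≤ p → g ∈ q → q = p)
    (hp : ∀ Q : Ideal D, Q.IsPrime → Q.comap φ ≠ p) : ∃ s, s ∉ p ∧ ∃ d : D, φ s = φ g * d := by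
  by_contra hcon
  push_neg at hcon
  have hdisj : Disjoint ((Ideal.span {φ g} : Ideal D) : Set D) (p.primeCompl.map φ : Submonoid D) := by
    rw [Set.disjoint_left]
    rintro _ hx ⟨s, hs, rfl⟩
    obtain ⟨d, hd⟩ := Ideal.mem_span_singleton'.mp hx
    exact hcon s hs d (by rw [← hd, mul_comm])
  obtain ⟨P, hP, hle, hPd⟩ := Ideal.exists_le_prime_disjoint _ _ hdisj
  refine hp P hP (hg _ (Ideal.comap_isPrime φ P) ?_ ?_)
  · intro x hx
    by_contra hxp
    exact Set.disjoint_left.mp hPd hx ⟨x, hxp, rfl⟩
  · exact hle (Ideal.mem_span_singleton_self _)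

end glob

end Groth.Agent.Lib.Helper9.NormDVR
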