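/-
Helper library (helper9): on an integral scheme with integrally closed local rings, an element of
the function field (or a section over a smaller nonempty open) which is integral over the sections
on a nonempty open `W₀` is itself a section on `W₀`.  (Adapted from helper4's `NormGlobal`, which
treats `W₀ = ⊤`.)
-/
import Groth.Agent.Lib.Helper4NormIsoDense

set_option autoImplicit false
set_option linter.style.haveILetI false
universe u

open AlgebraicGeometry CategoryTheory

namespace Groth.Agent.Lib.Helper9.NormSecOpen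

set_option backward.isDefEq.respectTransparency false in
/-- An element of the function field integral over `Γ(X, W₀)` is a section over `W₀`. -/
theorem exists_section_of_isIntegral (X : Scheme.{u}) [IsIntegral X]
    (hX : ∀ x : X, IsIntegrallyClosed (X.presheaf.stalk x)) (W₀ : X.Opens) [hne : Nonempty W₀]
    (x : X.functionField) (hx : IsIntegral Γ(X, W₀) x) :
    ∃ s : Γ(X, W₀), (X.germToFunctionField W₀).hom s = x := by
  -- local sections over the nonempty affine opens inside `W₀`
  have hloc : ∀ W : X.Opens, IsAffineOpen W → W ≤ W₀ → ∀ hW : Nonempty W,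
      ∃ s : Γ(X, W), (X.germToFunctionField W).hom s = x := by
    intro W hWa hle hW
    haveI : IsDomain Γ(X, W) := IsIntegral.component_integral W
    haveI := Groth.Agent.Lib.Helper4.NormIso.isIntegrallyClosed_sections_of_stalk W hWa
      (fun y _ => hX y)
    haveI := functionField_isFractionRing_of_isAffineOpen X W hWa
    have hx' : IsIntegral Γ(X, W) x := by
      letI : Algebra Γ(X, W₀) Γ(X, W) := (X.presheaf.map (homOfLE hle).op).hom.toAlgebra
      haveI : IsScalarTower Γ(X, W₀) Γ(X, W) X.functionField :=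
        IsScalarTower.of_algebraMap_eq' (by
          simp only [RingHom.algebraMap_toAlgebra]
          rw [← CommRingCat.hom_comp, X.presheaf.germ_res])
      exact hx.tower_top
    exact (IsIntegrallyClosed.isIntegral_iff (R := Γ(X, W)) (K := X.functionField)).mp hx'
  -- glue
  let ι := {W : X.affineOpens // Nonempty W.1 ∧ W.1 ≤ W₀}
  let U : ι → X.Opens := fun W => W.1.1
  choose! sf hsf using fun W : ι => hloc W.1.1 W.1.2 W.2.2 W.2.1
  have hcompat : TopCat.Presheaf.IsCompatible X.presheaf U sf := by
    intro i j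
    by_cases hij : Nonempty (U i ⊓ U j : X.Opens)
    · apply X.germToFunctionField_injective (U i ⊓ U j)
      haveI := i.2.1
      haveI := j.2.1
      have h1 : (X.germToFunctionField (U i ⊓ U j)).hom
          ((X.presheaf.map (TopologicalSpace.Opens.infLELeft (U i) (U j)).op).hom (sf i)) =
          (X.germToFunctionField (U i)).hom (sf i) := by
        rw [← CommRingCat.comp_apply, X.presheaf.germ_res]
      have h2 : (X.germToFunctionField (U i ⊓ U j)).hom
          ((X.presheaf.map (TopologicalSpace.Opens.infLERight (U i) (U j)).op).hom (sf j)) =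
          (X.germToFunctionField (U j)).hom (sf j) := by
        rw [← CommRingCat.comp_apply, X.presheaf.germ_res]
      exact h1.trans ((hsf i).trans ((hsf j).symm.trans h2.symm))
    · have h0 : U i ⊓ U j = ⊥ := by
        ext y
        simp only [TopologicalSpace.Opens.coe_bot, Set.mem_empty_iff_false, iff_false]
        exact fun hy => hij ⟨⟨y, hy⟩⟩
      haveI : Subsingleton Γ(X, U i ⊓ U j) := by
        rw [h0]; infer_instance
      exact Subsingleton.elim _ _
  have hcover : W₀ ≤ iSup U := by
    intro y hy
    obtain ⟨_, ⟨W, hW, rfl⟩, hyW, hWW₀⟩ := X.isBasis_affineOpens.exists_subset_of_mem_open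
      hy W₀.isOpen
    exact TopologicalSpace.Opens.mem_iSup.mpr ⟨⟨⟨W, hW⟩, ⟨⟨y, hyW⟩⟩, hWW₀⟩, hyW⟩
  obtain ⟨s, hs, -⟩ := X.sheaf.existsUnique_gluing' U W₀ (fun i => homOfLE i.2.2) hcover sf
    hcompat
  refine ⟨s, ?_⟩
  obtain ⟨⟨y, hy⟩⟩ := id hne
  obtain ⟨_, ⟨W, hW, rfl⟩, hyW, hWW₀⟩ := X.isBasis_affineOpens.exists_subset_of_mem_open
    hy W₀.isOpen
  let i : ι := ⟨⟨W, hW⟩, ⟨⟨_, hyW⟩⟩, hWW₀⟩
  haveI := i.2.1
  have h3 := hs i
  have h4 : (X.germToFunctionField W).hom
      ((X.presheaf.map (homOfLE hWW₀ : W ⟶ W₀).op).hom s) =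
      (X.germToFunctionField W₀).hom s :=
    X.presheaf.germ_res_apply (homOfLE hWW₀) _ _ s
  exact h4.symm.trans ((congrArg (X.germToFunctionField W).hom h3).trans (hsf i))

set_option backward.isDefEq.respectTransparency false in
/-- A section over a nonempty open `U ≤ W₀` which is integral over `Γ(X, W₀)` (via restriction)
extends to a section over `W₀`. -/
theorem exists_res_eq_of_isIntegralElem (X : Scheme.{u}) [IsIntegral X]
    (hX : ∀ x : X, IsIntegrallyClosed (X.presheaf.stalk x)) (W₀ U : X.Opens) (hUW : U ≤ W₀)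
    [hU : Nonempty U] (c : Γ(X, U))
    (hc : (X.presheaf.map (homOfLE hUW).op).hom.IsIntegralElem c) :
    ∃ b : Γ(X, W₀), (X.presheaf.map (homOfLE hUW).op).hom b = c := by
  haveI hne : Nonempty W₀ := ⟨⟨hU.some.1, hUW hU.some.2⟩⟩
  obtain ⟨p, hp, hpc⟩ := hc
  have hx : IsIntegral Γ(X, W₀) ((X.germToFunctionField U).hom c) := by
    refine ⟨p, hp, ?_⟩
    have h1 : (algebraMap Γ(X, W₀) X.functionField) =
        (X.germToFunctionField U).hom.comp (X.presheaf.map (homOfLE hUW).op).hom := by
      rw [← CommRingCat.hom_comp, X.presheaf.germ_res]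
      rfl
    rw [h1, ← Polynomial.hom_eval₂, hpc, map_zero]
  obtain ⟨b, hb⟩ := exists_section_of_isIntegral X hX W₀ _ hx
  refine ⟨b, ?_⟩
  apply X.germToFunctionField_injective U
  rw [← hb, ← CommRingCat.comp_apply, X.presheaf.germ_res]

end Groth.Agent.Lib.Helper9.NormSecOpen
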