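/-
Helper library (helper9): for a dominant locally quasi-finite morphism `f : X ⟶ Y` of integral
schemes with `X` normal, the canonical morphism `X ⟶ f.normalization` is a local isomorphism, and
it is an open immersion iff `f` is separated.
-/
import Groth.Agent.Lib.Helper4BirLocalIso
import Groth.Agent.Lib.Helper9NormSecOpen

set_option autoImplicit false
set_option linter.style.haveILetI false
universe u

open AlgebraicGeometry CategoryTheory

namespace Groth.Agent.Lib.Helper9.NormLocalIso

variable {X Y : Scheme.{u}} (f : X ⟶ Y) [QuasiCompact f] [QuasiSeparated f]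

theorem preimage_eq (V : Y.Opens) :
    f ⁻¹ᵁ V = f.toNormalization ⁻¹ᵁ (f.fromNormalization ⁻¹ᵁ V) := by
  rw [← Scheme.Hom.comp_preimage, Scheme.Hom.toNormalization_fromNormalization]

set_option backward.isDefEq.respectTransparency false in
/-- The image of `toNormalization.appLE` on a chart consists of the integral elements. -/
theorem exists_appLE_eq_of_isIntegralElem (V : Y.Opens) (hV : IsAffineOpen V)
    (b : Γ(X, f ⁻¹ᵁ V)) (hb : (f.app V).hom.IsIntegralElem b) :
    ∃ a : Γ(f.normalization, f.fromNormalization ⁻¹ᵁ V),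
      (f.toNormalization.appLE (f.fromNormalization ⁻¹ᵁ V) (f ⁻¹ᵁ V)
        (preimage_eq f V).le).hom a = b := by
  letI := (f.app V).hom.toAlgebra
  have hb' : b ∈ integralClosure Γ(Y, V) Γ(X, f ⁻¹ᵁ V) := hb
  refine ⟨(f.normalizationObjIso hV).inv.hom ⟨b, hb'⟩, ?_⟩
  have h := f.normalizationObjIso_hom_val hV
  have h2 := congrArg (fun φ => φ.hom ((f.normalizationObjIso hV).inv.hom ⟨b, hb'⟩)) h
  simp only [CommRingCat.hom_comp, RingHom.comp_apply] at h2
  rw [← h2]
  have h3 : (f.normalizationObjIso hV).hom.hom ((f.normalizationObjIso hV).inv.hom ⟨b, hb'⟩) =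
      ⟨b, hb'⟩ := by
    rw [← RingHom.comp_apply, ← CommRingCat.hom_comp, Iso.inv_hom_id]
    rfl
  rw [h3]
  rfl

set_option backward.isDefEq.respectTransparency false in
theorem injective_appLE [IsIntegral X] (V : Y.Opens) (hV : IsAffineOpen V) (U : X.Opens)
    (hUV : U ≤ f ⁻¹ᵁ V) [Nonempty U] :
    Function.Injective (f.toNormalization.appLE (f.fromNormalization ⁻¹ᵁ V) U
      (hUV.trans (preimage_eq f V).le)).hom := by
  letI := (f.app V).hom.toAlgebra
  have h1 : f.toNormalization.appLE (f.fromNormalization ⁻¹ᵁ V) U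
      (hUV.trans (preimage_eq f V).le) =
      f.toNormalization.appLE (f.fromNormalization ⁻¹ᵁ V) (f ⁻¹ᵁ V) (preimage_eq f V).le ≫
        X.presheaf.map (homOfLE hUV).op := (Scheme.Hom.appLE_map _ _ _).symm
  rw [h1, ← f.normalizationObjIso_hom_val hV]
  intro a a' h
  simp only [CommRingCat.hom_comp, RingHom.comp_apply] at h
  have h2 := map_injective_of_isIntegral X (homOfLE hUV) h
  have h3 : (f.normalizationObjIso hV).hom.hom a = (f.normalizationObjIso hV).hom.hom a' :=
    Subtype.ext h2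
  exact (ConcreteCategory.bijective_of_isIso (f.normalizationObjIso hV).hom).1 h3

set_option backward.isDefEq.respectTransparency false in
/-- Sections over `U` integral over `Γ(Y, V)` come from the normalization. -/
theorem exists_appLE_eq_of_isIntegral [IsIntegral X]
    (hN : ∀ x : X, IsIntegrallyClosed (X.presheaf.stalk x))
    (V : Y.Opens) (hV : IsAffineOpen V) (U : X.Opens)
    (hUV : U ≤ f ⁻¹ᵁ V) [Nonempty U] (c : Γ(X, U))
    (hc : (f.appLE V U hUV).hom.IsIntegralElem c) :
    ∃ a : Γ(f.normalization, f.fromNormalization ⁻¹ᵁ V),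
      (f.toNormalization.appLE (f.fromNormalization ⁻¹ᵁ V) U
        (hUV.trans (preimage_eq f V).le)).hom a = c := by
  obtain ⟨p, hp, hpc⟩ := hc
  have happ : (f.appLE V U hUV).hom =
      (X.presheaf.map (homOfLE hUV).op).hom.comp (f.app V).hom := by
    rw [← CommRingCat.hom_comp]
    rfl
  have hc' : (X.presheaf.map (homOfLE hUV).op).hom.IsIntegralElem c := by
    refine ⟨p.map (f.app V).hom, hp.map _, ?_⟩
    rw [Polynomial.eval₂_map, ← happ]
    exact hpc
  obtain ⟨b, hb⟩ := Groth.Agent.Lib.Helper9.NormSecOpen.exists_res_eq_of_isIntegralElem X hN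
    (f ⁻¹ᵁ V) U hUV c hc'
  have hbint : (f.app V).hom.IsIntegralElem b := by
    refine ⟨p, hp, ?_⟩
    apply map_injective_of_isIntegral X (homOfLE hUV)
    rw [map_zero]
    change (X.presheaf.map (homOfLE hUV).op).hom (Polynomial.eval₂ (f.app V).hom b p) = 0
    rw [Polynomial.hom_eval₂, ← happ, hb]
    exact hpc
  obtain ⟨a, ha⟩ := exists_appLE_eq_of_isIntegralElem f V hV b hbint
  refine ⟨a, ?_⟩
  have h1 : f.toNormalization.appLE (f.fromNormalization ⁻¹ᵁ V) U
      (hUV.trans (preimage_eq f V).le) =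
      f.toNormalization.appLE (f.fromNormalization ⁻¹ᵁ V) (f ⁻¹ᵁ V) (preimage_eq f V).le ≫
        X.presheaf.map (homOfLE hUV).op := (Scheme.Hom.appLE_map _ _ _).symm
  rw [h1, CommRingCat.hom_comp, RingHom.comp_apply, ha, hb]

set_option backward.isDefEq.respectTransparency false in
/-- If the ring map `Γ(N, W) → Γ(X, U)` of a morphism `t` on affine opens is injective and becomes
surjective after inverting `r`, then `t` restricted to the basic open of `r` in `U` is an open
immersion. -/
theorem isOpenImmersion_basicOpen_ι_comp {X N : Scheme.{u}} (t : X ⟶ N) {W : N.Opens}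
    (hW : IsAffineOpen W) {U : X.Opens} (hU : IsAffineOpen U) (hUW : U ≤ t ⁻¹ᵁ W)
    (hinj : Function.Injective (t.appLE W U hUW).hom) (r : Γ(N, W))
    (hr : ∀ c : Γ(X, U), ∃ (k : ℕ) (b : Γ(N, W)),
      (t.appLE W U hUW).hom r ^ k * c = (t.appLE W U hUW).hom b) :
    IsOpenImmersion ((X.basicOpen (t.appLE W U hUW r)).ι ≫ t) := by
  have hle : X.basicOpen (t.appLE W U hUW r) ≤ t ⁻¹ᵁ (N.basicOpen r) := by
    simp [Scheme.Hom.appLE]
  haveI hA1 : IsAffine (N.basicOpen r).toScheme := hW.basicOpen r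
  haveI hA2 : IsAffine (X.basicOpen (t.appLE W U hUW r)).toScheme := hU.basicOpen _
  have hiso : IsIso (t.appLE (N.basicOpen r) (X.basicOpen (t.appLE W U hUW r)) hle) := by
    rw [IsAffineOpen.appLE_eq_away_map t hW hU hUW r]
    rw [ConcreteCategory.isIso_iff_bijective]
    letI := hW.isLocalization_basicOpen r
    letI := hU.isLocalization_basicOpen (t.appLE W U hUW r)
    exact Groth.Agent.Lib.Helper4.BirLocalIso.away_map_bijective _ hinj r hr _ _
  have hiso2 : IsIso (t.resLE (N.basicOpen r) (X.basicOpen (t.appLE W U hUW r)) hle) := by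
    have h3 : IsIso (t.resLE (N.basicOpen r) (X.basicOpen (t.appLE W U hUW r)) hle).appTop :=
      ((MorphismProperty.isomorphisms _).arrow_mk_iso_iff (arrowResLEAppIso t _ _ hle)).mpr hiso
    exact (HasAffineProperty.iff_of_isAffine (P := MorphismProperty.isomorphisms Scheme)).mpr
      ⟨hA2, h3⟩
  rw [← Scheme.Hom.resLE_comp_ι t hle]
  infer_instance

set_option backward.isDefEq.respectTransparency false in
/-- For a locally quasi-finite morphism of finite type from a normal integral scheme, the canonical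
morphism to the relative normalization is a local isomorphism. -/
theorem isLocalIso_toNormalization [IsIntegral X]
    (hN : ∀ x : X, IsIntegrallyClosed (X.presheaf.stalk x))
    [LocallyQuasiFinite f] [LocallyOfFiniteType f] : IsLocalIso f.toNormalization := by
  constructor
  intro x
  obtain ⟨_, ⟨V, hV, rfl⟩, hyV, -⟩ := Y.isBasis_affineOpens.exists_subset_of_mem_open
    (Set.mem_univ (f x)) isOpen_univ
  obtain ⟨_, ⟨U, hU, rfl⟩, hxU, hUV : U ≤ f ⁻¹ᵁ V⟩ :=
    X.isBasis_affineOpens.exists_subset_of_mem_open hyV (f ⁻¹ᵁ V).2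
  haveI : Nonempty U := ⟨⟨x, hxU⟩⟩
  have hW : IsAffineOpen (f.fromNormalization ⁻¹ᵁ V) := hV.preimage f.fromNormalization
  have hUW : U ≤ f.toNormalization ⁻¹ᵁ (f.fromNormalization ⁻¹ᵁ V) :=
    hUV.trans (preimage_eq f V).le
  have hinj := injective_appLE f V hV U hUV
  have hft : (f.appLE V U hUV).hom.FiniteType := f.finiteType_appLE hV hU hUV
  -- Zariski's main theorem, algebraic form
  obtain ⟨r₀, hr₀p, hr₀int, hall⟩ : ∃ r₀ : Γ(X, U),
      r₀ ∉ (hU.primeIdealOf ⟨x, hxU⟩).asIdeal ∧ (f.appLE V U hUV).hom.IsIntegralElem r₀ ∧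
      ∀ c : Γ(X, U), ∃ m : ℕ, (f.appLE V U hUV).hom.IsIntegralElem (r₀ ^ m * c) := by
    algebraize [(f.appLE V U hUV).hom]
    haveI hqf' : Algebra.QuasiFiniteAt Γ(Y, V) (hU.primeIdealOf ⟨x, hxU⟩).asIdeal :=
      (f.quasiFiniteAt x).quasiFiniteAt hU hV hUV hxU
    obtain ⟨r₀, h1, h2, h3⟩ := Algebra.zariskisMainProperty_iff.mp
      (Algebra.ZariskisMainProperty.of_finiteType (R := Γ(Y, V))
        (hU.primeIdealOf ⟨x, hxU⟩).asIdeal)
    exact ⟨r₀, h1, h2, h3⟩
  obtain ⟨r, hr⟩ := exists_appLE_eq_of_isIntegral f hN V hV U hUV r₀ hr₀int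
  have hrx : (f.toNormalization.appLE (f.fromNormalization ⁻¹ᵁ V) U hUW).hom r ∉
      (hU.primeIdealOf ⟨x, hxU⟩).asIdeal := by rw [hr]; exact hr₀p
  have hrall : ∀ c : Γ(X, U), ∃ (k : ℕ) (b : Γ(f.normalization, f.fromNormalization ⁻¹ᵁ V)),
      (f.toNormalization.appLE (f.fromNormalization ⁻¹ᵁ V) U hUW).hom r ^ k * c =
        (f.toNormalization.appLE (f.fromNormalization ⁻¹ᵁ V) U hUW).hom b := by
    intro c
    obtain ⟨m, hm⟩ := hall c
    obtain ⟨b, hb⟩ := exists_appLE_eq_of_isIntegral f hN V hV U hUV _ hm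
    exact ⟨m, b, by rw [hr, hb]⟩
  have hxr : x ∈ X.basicOpen
      (f.toNormalization.appLE (f.fromNormalization ⁻¹ᵁ V) U hUW r) := by
    have h1 : hU.primeIdealOf ⟨x, hxU⟩ ∈ PrimeSpectrum.basicOpen
        (f.toNormalization.appLE (f.fromNormalization ⁻¹ᵁ V) U hUW r) := hrx
    rw [← hU.fromSpec_preimage_basicOpen] at h1
    have h2 : hU.fromSpec (hU.primeIdealOf ⟨x, hxU⟩) ∈ X.basicOpen
        (f.toNormalization.appLE (f.fromNormalization ⁻¹ᵁ V) U hUW r) := h1
    rwa [hU.fromSpec_primeIdealOf] at h2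
  exact ⟨_, hxr, isOpenImmersion_basicOpen_ι_comp f.toNormalization hW hU hUW hinj r hrall⟩

set_option backward.isDefEq.respectTransparency false in
theorem isOpenImmersion_toNormalization_iff [LocallyQuasiFinite f] [LocallyOfFiniteType f] :
    IsOpenImmersion f.toNormalization ↔ IsSeparated f := by
  constructor
  · intro h
    have : IsSeparated (f.toNormalization ≫ f.fromNormalization) := inferInstance
    rwa [Scheme.Hom.toNormalization_fromNormalization] at this
  · intro h
    infer_instance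

end Groth.Agent.Lib.Helper9.NormLocalIso
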