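import Mathlib
import Groth.Prelude.Def_ProEtS
import Groth.Agent.Lib.Helper9Coprod
import Groth.Agent.Lib.Helper9ProEt
import Groth.Agent.Lib.Helper9AlgSite
import Groth.Agent.Lib.Helper9ExtTransfer

/-!
# Pro-étale cohomology of a qcqs scheme commutes with filtered colimits and direct sums (helper9)
-/

set_option autoImplicit false
set_option linter.style.haveILetI false
set_option backward.isDefEq.respectTransparency false
open CategoryTheory CategoryTheory.Limits AlgebraicGeometry Opposite Abelian
universe u

namespace Groth.Agent.Lib.Helper9.ProEt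

variable (X : Scheme.{u})

section Top

variable [CompactSpace X] [QuasiSeparatedSpace X]

lemma fpProp_topP : fpProp X (ProEtS.topP X) :=
  ⟨‹CompactSpace X›, ‹QuasiSeparatedSpace X›⟩

/-- the terminal object of the small model -/
noncomputable def topC : Cfp X := mk X (ProEtS.topP X) (fpProp_topP X)

/-- `topC` is terminal -/
noncomputable def isTerminalTopC : IsTerminal (topC X) :=
  IsTerminal.isTerminalOfObj (G X) (topC X)
    (MorphismProperty.Over.mkIdTerminal @WeaklyEtale X)

instance : HasTerminal (Cfp X) := (isTerminalTopC X).hasTerminal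

instance : HasBinaryProducts (Cfp X) := hasBinaryProducts_of_hasTerminal_and_pullbacks _

end Top

/-- restriction of abelian pro-étale sheaves to the small model -/
noncomputable abbrev Rab : ProEtS.AbP X ⥤ Sheaf (Jfp X) AddCommGrpCat.{u + 1} :=
  (G X).sheafPushforwardContinuous AddCommGrpCat.{u + 1} (Jfp X) (Scheme.ProEt.topology X)

instance : (Rab X).IsEquivalence := by unfold Rab; infer_instance

instance : (Rab X).Additive where
  map_add := by intros; rfl

instance : (Rab X).PreservesInjectiveObjects :=
  Functor.preservesInjectiveObjects_of_adjunction_of_preservesMonomorphisms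
    (Rab X).asEquivalence.symm.toAdjunction

/-- restriction commutes with the constant sheaf functors -/
noncomputable def constIso :
    constantSheaf (Scheme.ProEt.topology X) AddCommGrpCat.{u + 1} ⋙ Rab X ≅
      constantSheaf (Jfp X) AddCommGrpCat.{u + 1} :=
  Functor.associator _ _ _ ≪≫
    Functor.isoWhiskerLeft (Functor.const (X.ProEt)ᵒᵖ)
      ((G X).pushforwardContinuousSheafificationCompatibility AddCommGrpCat.{u + 1} (Jfp X)
        (Scheme.ProEt.topology X)).symm ≪≫
    (Functor.associator _ _ _).symm ≪≫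
    Functor.isoWhiskerRight
      (NatIso.ofComponents (fun A => Iso.refl _) (by intro A B f; rfl) :
        Functor.const (X.ProEt)ᵒᵖ ⋙ (Functor.whiskeringLeft _ _ AddCommGrpCat.{u + 1}).obj (G X).op ≅
          Functor.const (Cfp X)ᵒᵖ)
      (presheafToSheaf (Jfp X) AddCommGrpCat.{u + 1})

/-- cohomology of the small model -/
noncomputable abbrev Hfp (n : ℕ) : Sheaf (Jfp X) AddCommGrpCat.{u + 1} ⥤ AddCommGrpCat.{u + 1} :=
  @Sheaf.functorH (Cfp X) _ (Jfp X)
    (inferInstance : HasSheafify (Jfp X) AddCommGrpCat.{u + 1}) _ n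

/-- pro-étale cohomology of `X` is the cohomology of the small model -/
noncomputable def hpfIso (n : ℕ) :
    ProEtS.HPF X n ≅ Rab X ⋙ Hfp X n :=
  (NatIso.ofComponents (fun F => Iso.refl _) (by intro F G f; rfl) :
    ProEtS.HPF X n ≅ (extFunctor.{u + 1} n).obj
      (op ((constantSheaf (Scheme.ProEt.topology X) AddCommGrpCat.{u + 1}).obj
        (AddCommGrpCat.of (ULift.{u + 1} ℤ))))) ≪≫
    ExtTransfer.extIso (Rab X) _ n ≪≫
    Functor.isoWhiskerLeft (Rab X)
      ((extFunctor.{u + 1} n).mapIso ((constIso X).app (AddCommGrpCat.of (ULift.{u + 1} ℤ))).symm.op ≪≫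
        (Groth.Agent.Lib.Helper9.TFTop.functorHIso (Jfp X) n).symm)

theorem preservesColimitsOfShape_HPF [CompactSpace X] [QuasiSeparatedSpace X] (n : ℕ)
    (I : Type (u + 1)) [SmallCategory I] [IsFiltered I] :
    PreservesColimitsOfShape I (ProEtS.HPF X n) := by
  have h : PreservesColimitsOfShape I (Hfp X n) :=
    Groth.Agent.Lib.Helper9.AlgSite.preservesColimitsOfShape_functorH' (isQCSite X)
      (fun _ : Unit => topC X)
      (fun V => ⟨⊤, (Jfp X).top_mem V, fun W f _ => ⟨(), ⟨(isTerminalTopC X).from W⟩⟩⟩) I n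
  haveI := h
  exact preservesColimitsOfShape_of_natIso (hpfIso X n).symm

instance (n : ℕ) : (ProEtS.HPF X n).Additive := by
  unfold ProEtS.HPF
  infer_instance

theorem preservesCoproducts_HPF [CompactSpace X] [QuasiSeparatedSpace X] (n : ℕ) (ι : Type u) :
    PreservesColimitsOfShape (Discrete ι) (ProEtS.HPF X n) := by
  haveI : HasColimitsOfSize.{u, u} (ProEtS.AbP X) :=
    hasColimitsOfSizeShrink.{u, u, u + 1, u + 1} (ProEtS.AbP X)
  let e : ULift.{u + 1} (Finset (Discrete ι)) ≌ Finset (Discrete ι) :=
    (ULift.orderIso.{u + 1} (α := Finset (Discrete ι))).equivalence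
  haveI : IsFiltered (ULift.{u + 1} (Finset (Discrete ι))) := IsFiltered.of_equivalence e.symm
  haveI : PreservesColimitsOfShape (Finset (Discrete ι)) (ProEtS.HPF X n) := by
    haveI := preservesColimitsOfShape_HPF X n (ULift.{u + 1} (Finset (Discrete ι)))
    exact preservesColimitsOfShape_of_equiv e _
  exact Groth.Agent.Lib.Helper9.Coprod.preservesColimitsOfShape_discrete (ProEtS.HPF X n)

end Groth.Agent.Lib.Helper9.ProEt
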