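import Mathlib
import Groth.Prelude.Def_ProEtS
import Groth.Agent.Lib.Helper9ProEtH
import Groth.Agent.Lib.Helper9DeligneTransfer

/-!
# The small pro-étale site has enough points (helper9)
-/

set_option autoImplicit false
set_option linter.style.haveILetI false
set_option backward.isDefEq.respectTransparency false
open CategoryTheory CategoryTheory.Limits AlgebraicGeometry Opposite
universe u

namespace Groth.Agent.Lib.Helper9.ProEt

variable {S' S : Scheme.{u}} (j : S' ⟶ S) [WeaklyEtale j]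

lemma compP_comp_Fg : ProEtS.compP j ⋙ Fg S = Fg S' := rfl

/-- `compP j` preserves covering sieves -/
lemma compP_functorPushforward_mem {U : S'.ProEt} (T : Sieve U) (hT : T ∈ Scheme.ProEt.topology S' U) :
    T.functorPushforward (ProEtS.compP j) ∈ Scheme.ProEt.topology S ((ProEtS.compP j).obj U) := by
  rw [mem_topology_iff] at hT ⊢
  obtain ⟨R, hR, hle⟩ := hT
  obtain ⟨ι, Y, f, rfl⟩ := R.exists_eq_ofArrows
  refine ⟨Presieve.ofArrows (fun i => (ProEtS.compP j).obj (Y i)) (fun i => (ProEtS.compP j).map (f i)),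
    ?_, ?_⟩
  · rw [mem_precoverage_iff, Presieve.map_ofArrows] at hR ⊢
    exact hR
  · rintro _ _ ⟨i⟩
    exact Sieve.image_mem_functorPushforward _ _ (hle _ _ ⟨i⟩)

/-- `compP j` is cocontinuous -/
instance compP_isCocontinuous :
    (ProEtS.compP j).IsCocontinuous (Scheme.ProEt.topology S') (Scheme.ProEt.topology S) where
  cover_lift {U T} hT := by
    rw [mem_topology_iff] at hT ⊢
    obtain ⟨R, hR, hle⟩ := hT
    obtain ⟨ι, Y, f, rfl⟩ := R.exists_eq_ofArrows
    -- the objects `Y i` viewed over `S'`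
    let Y' : ι → S'.ProEt := fun i => Scheme.ProEt.mk ((f i).left ≫ U.hom)
    let f' : ∀ i, Y' i ⟶ U := fun i => MorphismProperty.Over.homMk (f i).left rfl trivial
    let e : ∀ i, (ProEtS.compP j).obj (Y' i) ⟶ Y i := fun i =>
      MorphismProperty.Over.homMk (𝟙 _) (by
        have h1 : (f i).left ≫ (U.hom ≫ j) = (Y i).hom := CategoryTheory.Over.w (f i).hom
        change 𝟙 _ ≫ (Y i).hom = ((f i).left ≫ U.hom) ≫ j
        rw [Category.id_comp, Category.assoc, h1]) trivial
    have he : ∀ i, (ProEtS.compP j).map (f' i) = e i ≫ f i := fun i => by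
      apply MorphismProperty.Over.Hom.ext
      change (f i).left = 𝟙 _ ≫ (f i).left
      rw [Category.id_comp]
    refine ⟨Presieve.ofArrows Y' f', ?_, ?_⟩
    · rw [mem_precoverage_iff, Presieve.map_ofArrows] at hR ⊢
      exact hR
    · rintro _ _ ⟨i⟩
      change T ((ProEtS.compP j).map (f' i))
      rw [he]
      exact T.downward_closed (hle _ _ ⟨i⟩) _

section EnoughPoints

variable (S : Scheme.{u})

instance (i : S.affineOpens) : IsAffine (i.1 : Scheme.{u}) := i.2

/-- for a qcqs scheme the small model has finite limits -/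
instance hasFiniteLimits_Cfp (X : Scheme.{u}) [CompactSpace X] [QuasiSeparatedSpace X] :
    HasFiniteLimits (Cfp X) := hasFiniteLimits_of_hasTerminal_and_pullbacks

/-- the functors from the small models of the affine opens -/
noncomputable abbrev FF (i : S.affineOpens) : Cfp (i.1 : Scheme.{u}) ⥤ S.ProEt :=
  G (i.1 : Scheme.{u}) ⋙ ProEtS.compP i.1.ι

instance (i : S.affineOpens) :
    (FF S i).IsCocontinuous (Jfp (i.1 : Scheme.{u})) (Scheme.ProEt.topology S) :=
  isCocontinuous_comp (G := G (i.1 : Scheme.{u})) (G' := ProEtS.compP i.1.ι)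
    (J := Jfp (i.1 : Scheme.{u})) (K := Scheme.ProEt.topology (i.1 : Scheme.{u}))
    (L := Scheme.ProEt.topology S)

lemma FF_functorPushforward_mem (i : S.affineOpens) {W : Cfp (i.1 : Scheme.{u})} (T : Sieve W)
    (hT : T ∈ Jfp (i.1 : Scheme.{u}) W) :
    T.functorPushforward (FF S i) ∈ Scheme.ProEt.topology S ((FF S i).obj W) := by
  rw [Sieve.functorPushforward_comp]
  refine compP_functorPushforward_mem _ _ ?_
  rwa [Functor.mem_inducedTopology_iff_of_isCoverDense] at hT

variable {S}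

lemma range_subset (V : S.ProEt) (i : S.affineOpens) (W : V.left.Opens) (hWi : W ≤ V.hom ⁻¹ᵁ i.1) :
    Set.range (W.ι ≫ V.hom) ⊆ Set.range i.1.ι := by
  rintro _ ⟨y, rfl⟩
  rw [Scheme.Opens.range_ι]
  have hy : W.ι y ∈ (W : Set V.left) := by
    rw [← Scheme.Opens.range_ι W]
    exact Set.mem_range_self y
  exact hWi hy

/-- the structure map to the affine open -/
noncomputable def locLift (V : S.ProEt) (i : S.affineOpens) (W : V.left.Opens)
    (hWi : W ≤ V.hom ⁻¹ᵁ i.1) : (W : Scheme.{u}) ⟶ (i.1 : Scheme.{u}) :=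
  IsOpenImmersion.lift i.1.ι (W.ι ≫ V.hom) (range_subset V i W hWi)

lemma locLift_fac (V : S.ProEt) (i : S.affineOpens) (W : V.left.Opens) (hWi : W ≤ V.hom ⁻¹ᵁ i.1) :
    locLift V i W hWi ≫ i.1.ι = W.ι ≫ V.hom := IsOpenImmersion.lift_fac _ _ _

instance (V : S.ProEt) (i : S.affineOpens) (W : V.left.Opens) (hWi : W ≤ V.hom ⁻¹ᵁ i.1) :
    WeaklyEtale (locLift V i W hWi) := by
  haveI : WeaklyEtale (locLift V i W hWi ≫ i.1.ι) := by rw [locLift_fac]; infer_instance
  exact WeaklyEtale.of_comp _ i.1.ι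

/-- the object of the small model of an affine open `i` of `S` given by an affine open of an object of
`S.ProEt` lying over `i` -/
noncomputable def locObj (V : S.ProEt) (i : S.affineOpens) (W : V.left.Opens) (hW : IsAffineOpen W)
    (hWi : W ≤ V.hom ⁻¹ᵁ i.1) : Cfp (i.1 : Scheme.{u}) :=
  haveI : IsAffine (Scheme.ProEt.mk (locLift V i W hWi)).left := hW
  mk _ (Scheme.ProEt.mk (locLift V i W hWi)) (fpProp_of_isAffine _ _)

/-- the canonical arrow -/
noncomputable def locHom (V : S.ProEt) (i : S.affineOpens) (W : V.left.Opens) (hW : IsAffineOpen W)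
    (hWi : W ≤ V.hom ⁻¹ᵁ i.1) : (FF S i).obj (locObj V i W hW hWi) ⟶ V :=
  MorphismProperty.Over.homMk W.ι (locLift_fac V i W hWi).symm trivial

lemma locHom_left (V : S.ProEt) (i : S.affineOpens) (W : V.left.Opens) (hW : IsAffineOpen W)
    (hWi : W ≤ V.hom ⁻¹ᵁ i.1) : (locHom V i W hW hWi).left = W.ι := rfl

variable (S)

lemma dense_FF (V : S.ProEt) :
    Sieve.generate (fun Z (_ : Z ⟶ V) =>
      ∃ (i : ULift.{u + 1} S.affineOpens) (W : Cfp (i.down.1 : Scheme.{u}))
        (_ : Z = (FF S i.down).obj W), True) ∈ Scheme.ProEt.topology S V := by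
  rw [mem_topology_iff]
  let A : Type u := {p : S.affineOpens × V.left.affineOpens // p.2.1 ≤ V.hom ⁻¹ᵁ p.1.1}
  refine ⟨Presieve.ofArrows (fun a : A => (FF S a.1.1).obj (locObj V a.1.1 a.1.2.1 a.1.2.2 a.2))
    (fun a => locHom V a.1.1 a.1.2.1 a.1.2.2 a.2), ?_, ?_⟩
  · rw [mem_precoverage_iff, Presieve.map_ofArrows]
    refine Scheme.zariskiPrecoverage_le_propQCPrecoverage _ ?_
    rw [Scheme.ofArrows_mem_precoverage_iff]
    refine ⟨fun x => ?_, fun a => ?_⟩
    · obtain ⟨i, hi, hxi, -⟩ : ∃ i : S.Opens, i ∈ S.affineOpens ∧ V.hom x ∈ i ∧ i ≤ ⊤ :=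
        (TopologicalSpace.Opens.isBasis_iff_nbhd.1 S.isBasis_affineOpens)
        (show V.hom x ∈ (⊤ : S.Opens) from trivial)
      obtain ⟨W, hW, hxW, hWi⟩ : ∃ W : V.left.Opens, W ∈ V.left.affineOpens ∧ x ∈ W ∧
          W ≤ V.hom ⁻¹ᵁ i :=
        (TopologicalSpace.Opens.isBasis_iff_nbhd.1 V.left.isBasis_affineOpens)
        (show x ∈ V.hom ⁻¹ᵁ i from hxi)
      exact ⟨⟨(⟨i, hi⟩, ⟨W, hW⟩), hWi⟩, ⟨x, hxW⟩, rfl⟩
    · change IsOpenImmersion a.1.2.1.ι
      infer_instance
  · rintro _ _ ⟨a⟩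
    exact ⟨_, 𝟙 _, locHom V a.1.1 a.1.2.1 a.1.2.2 a.2, ⟨⟨a.1.1⟩, _, rfl, trivial⟩, Category.id_comp _⟩

/-- **the small pro-étale site of a scheme has enough points** -/
theorem hasEnoughPoints : GrothendieckTopology.HasEnoughPoints.{u + 1} (Scheme.ProEt.topology S) := by
  haveI : HasSheafify (Scheme.ProEt.topology S) (Type (u + 1)) :=
    inferInstanceAs (HasSheafify (Scheme.ProEt.topology S) (Type (max (u + 1) u)))
  exact Groth.Agent.Lib.Helper9.Deligne.hasEnoughPoints_of_family.{u + 1, u, u + 1}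
    (Scheme.ProEt.topology S)
    (I := ULift.{u + 1} S.affineOpens)
    (fun i => Cfp (i.down.1 : Scheme.{u})) (fun i => Jfp (i.down.1 : Scheme.{u}))
    (fun i => FF S i.down)
    (fun i _ T hT => FF_functorPushforward_mem S i.down T hT)
    (dense_FF S)
    (fun i => Groth.Agent.Lib.Helper9.Deligne.hasAvoidingPoints _ (isQCSite (i.down.1 : Scheme.{u})))

end EnoughPoints

end Groth.Agent.Lib.Helper9.ProEt
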