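import Mathlib

/-!
# The product of a category with a site (trivial topology in the first factor)

Sheaves on `D₁ × C` for the product topology are the presheaves all of whose slices `P(d, -)` are
sheaves on `C`.
-/

namespace Groth.Agent.Lib.Helper9.ProdSite

open CategoryTheory Limits Opposite

universe w v₁ v₂ u₁ u₂

variable {D₁ : Type u₁} [Category.{v₁} D₁] {C : Type u₂} [Category.{v₂} C]

/-- The morphism `(x.1, c') ⟶ x` with second component `f`. -/
def hom₂ (x : D₁ × C) {c' : C} (f : c' ⟶ x.2) : (x.1, c') ⟶ x := (𝟙 x.1, f)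

/-- The morphism `y ⟶ (d, y.2)` with first component `δ`. -/
def hom₁ (y : D₁ × C) {d : D₁} (δ : y.1 ⟶ d) : y ⟶ (d, y.2) := (δ, 𝟙 y.2)

@[simp] lemma hom₂_fst (x : D₁ × C) {c' : C} (f : c' ⟶ x.2) : (hom₂ x f).1 = 𝟙 x.1 := rfl
@[simp] lemma hom₂_snd (x : D₁ × C) {c' : C} (f : c' ⟶ x.2) : (hom₂ x f).2 = f := rfl
@[simp] lemma hom₁_fst (y : D₁ × C) {d : D₁} (δ : y.1 ⟶ d) : (hom₁ y δ).1 = δ := rfl
@[simp] lemma hom₁_snd (y : D₁ × C) {d : D₁} (δ : y.1 ⟶ d) : (hom₁ y δ).2 = 𝟙 y.2 := rfl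

lemma hom₂_comp (x : D₁ × C) {c' c'' : C} (f : c' ⟶ x.2) (g : c'' ⟶ c') :
    hom₂ x (g ≫ f) = hom₂ (x.1, c') g ≫ hom₂ x f := by
  apply Prod.ext
  · exact (Category.id_comp _).symm
  · rfl

lemma hom_fac {x y : D₁ × C} (f : y ⟶ x) : f = hom₁ y f.1 ≫ hom₂ x f.2 := by
  apply Prod.ext
  · exact (Category.comp_id _).symm
  · exact (Category.id_comp _).symm

lemma hom₂_comp_hom {x y : D₁ × C} (f : y ⟶ x) {c'' : C} (h : c'' ⟶ y.2) :
    hom₂ y h ≫ f = hom₁ (y.1, c'') f.1 ≫ hom₂ x (h ≫ f.2) := by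
  apply Prod.ext
  · exact (Category.id_comp _).trans (Category.comp_id _).symm
  · exact (Category.id_comp _).symm

/-- The slice of a sieve on `x : D₁ × C` along the identity of the first component. -/
def slice {x : D₁ × C} (S : Sieve x) : Sieve x.2 where
  arrows c' f := S (hom₂ x f)
  downward_closed := by
    intro c' c'' f hf g
    rw [hom₂_comp]
    exact S.downward_closed hf _

/-- The sieve on `x` of all arrows whose second component lies in `S₀`. -/
def ext (x : D₁ × C) (S₀ : Sieve x.2) : Sieve x where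
  arrows y f := S₀ f.2
  downward_closed := by
    intro y z f hf g
    exact S₀.downward_closed hf g.2

lemma slice_ext (x : D₁ × C) (S₀ : Sieve x.2) : slice (ext x S₀) = S₀ := by
  ext c' f
  rfl

lemma ext_slice_le {x : D₁ × C} (S : Sieve x) : ext x (slice S) ≤ S := by
  intro y f hf
  rw [hom_fac f]
  exact S.downward_closed hf _

lemma ext_pullback {x y : D₁ × C} (S₀ : Sieve x.2) (f : y ⟶ x) :
    (ext x S₀).pullback f = ext y (S₀.pullback f.2) := by
  ext z g
  rfl

variable (D₁) in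
/-- The product topology on `D₁ × C`. -/
def prodTopology (J : GrothendieckTopology C) : GrothendieckTopology (D₁ × C) where
  sieves x := {S | slice S ∈ J x.2}
  top_mem' x := by
    show slice (⊤ : Sieve x) ∈ J x.2
    have : slice (⊤ : Sieve x) = ⊤ := by
      ext c' f
      exact ⟨fun _ => trivial, fun _ => trivial⟩
    rw [this]
    exact J.top_mem _
  pullback_stable' := by
    intro x y S f hS
    show slice (S.pullback f) ∈ J y.2
    refine J.superset_covering ?_ (J.pullback_stable f.2 hS)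
    intro c'' h hh
    show S (hom₂ y h ≫ f)
    rw [hom₂_comp_hom]
    exact S.downward_closed hh _
  transitive' := by
    intro x S hS R hR
    show slice R ∈ J x.2
    refine J.transitive hS _ ?_
    intro c' g hg
    have h1 : slice (R.pullback (hom₂ x g)) ∈ J c' := hR hg
    refine J.superset_covering ?_ h1
    intro c'' h hh
    show R (hom₂ x (h ≫ g))
    rw [hom₂_comp]
    exact hh

lemma mem_prodTopology (J : GrothendieckTopology C) {x : D₁ × C} (S : Sieve x) :
    S ∈ prodTopology D₁ J x ↔ slice S ∈ J x.2 := Iff.rfl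

lemma ext_mem (J : GrothendieckTopology C) (x : D₁ × C) {S₀ : Sieve x.2} (h : S₀ ∈ J x.2) :
    ext x S₀ ∈ prodTopology D₁ J x := by
  rw [mem_prodTopology, slice_ext]
  exact h

section SheafCriterion

variable (P : (D₁ × C)ᵒᵖ ⥤ Type w)

lemma map_map_apply {a b c : (D₁ × C)ᵒᵖ} (f : a ⟶ b) (g : b ⟶ c) (t : P.obj a) :
    P.map g (P.map f t) = P.map (f ≫ g) t := by
  have := ConcreteCategory.congr_hom (P.map_comp f g) t
  simp only [ConcreteCategory.comp_apply] at this
  exact this.symm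

lemma family_congr {x : D₁ × C} {R : Presieve x} (s : Presieve.FamilyOfElements P R)
    {y : D₁ × C} {f f' : y ⟶ x} (e : f = f') (hf : R f) (hf' : R f') : s f hf = s f' hf' := by
  subst e
  rfl

/-- The slice presheaf `P(d, -)`. -/
abbrev sliceP (d : D₁) : Cᵒᵖ ⥤ Type w := (Prod.sectR d C).op ⋙ P

/-- If `P(d, -)` is a sheaf for `S₀` then `P` is a sheaf for `ext (d, c) S₀`. -/
lemma isSheafFor_ext (x : D₁ × C) (S₀ : Sieve x.2)
    (h : Presieve.IsSheafFor (sliceP P x.1) (S₀ : Presieve x.2)) :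
    Presieve.IsSheafFor P (ext x S₀ : Presieve x) := by
  intro s hs
  rw [Presieve.compatible_iff_sieveCompatible] at hs
  let s₀ : Presieve.FamilyOfElements (sliceP P x.1) (S₀ : Presieve x.2) :=
    fun c' f hf => s (hom₂ x f) hf
  have hs₀ : s₀.Compatible := by
    rw [Presieve.compatible_iff_sieveCompatible]
    intro c' c'' f g hf
    have h1 := hs (hom₂ x f) (hom₂ (x.1, c') g) hf
    refine Eq.trans ?_ h1
    exact family_congr P s (hom₂_comp x f g) _ _
  obtain ⟨t, ht, huniq⟩ := h s₀ hs₀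
  refine ⟨t, ?_, ?_⟩
  · intro y f hf
    have h1 := hs (hom₂ x f.2) (hom₁ y f.1) hf
    have h2 : P.map (hom₂ x f.2).op t = s (hom₂ x f.2) hf := ht f.2 hf
    have h3 : s f hf = s (hom₁ y f.1 ≫ hom₂ x f.2) ((ext x S₀).downward_closed
        (show (ext x S₀) (hom₂ x f.2) from hf) _) :=
      family_congr P s (hom_fac f) _ _
    rw [h3, h1, ← h2, map_map_apply, ← op_comp, ← hom_fac]
  · intro t' ht'
    apply huniq
    intro c' f hf
    exact ht' (hom₂ x f) hf

/-- If `P` is a sheaf for `ext (d, c) S₀` then `P(d, -)` is a sheaf for `S₀`. -/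
lemma isSheafFor_slice_of_ext (x : D₁ × C) (S₀ : Sieve x.2)
    (h : Presieve.IsSheafFor P (ext x S₀ : Presieve x)) :
    Presieve.IsSheafFor (sliceP P x.1) (S₀ : Presieve x.2) := by
  intro s₀ hs₀
  rw [Presieve.compatible_iff_sieveCompatible] at hs₀
  let s : Presieve.FamilyOfElements P (ext x S₀ : Presieve x) :=
    fun y f hf => P.map (hom₁ y f.1).op (s₀ f.2 hf)
  have hs : s.Compatible := by
    rw [Presieve.compatible_iff_sieveCompatible]
    intro y z f g hf
    show P.map (hom₁ z (g ≫ f).1).op (s₀ (g ≫ f).2 _) =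
      P.map g.op (P.map (hom₁ y f.1).op (s₀ f.2 hf))
    have h1 : s₀ (g.2 ≫ f.2) (S₀.downward_closed hf g.2) =
        P.map (hom₂ (x.1, y.2) g.2).op (s₀ f.2 hf) := hs₀ f.2 g.2 hf
    have h0 : s₀ (g ≫ f).2 ((ext x S₀).downward_closed (show (ext x S₀) f from hf) g) =
        s₀ (g.2 ≫ f.2) (S₀.downward_closed hf g.2) := rfl
    have e : hom₁ z (g ≫ f).1 ≫ hom₂ ((x.1, y.2) : D₁ × C) g.2 = g ≫ hom₁ y f.1 := by
      apply Prod.ext
      · show (g.1 ≫ f.1) ≫ 𝟙 _ = g.1 ≫ f.1
        exact Category.comp_id _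
      · show 𝟙 _ ≫ g.2 = g.2 ≫ 𝟙 _
        exact (Category.id_comp _).trans (Category.comp_id _).symm
    rw [h0, h1, map_map_apply, map_map_apply, ← op_comp, ← op_comp, e]
  obtain ⟨t, ht, huniq⟩ := h s hs
  refine ⟨t, ?_, ?_⟩
  · intro c' f hf
    have h1 : P.map (hom₂ x f).op t = s (hom₂ x f) hf := ht (hom₂ x f) hf
    show P.map (hom₂ x f).op t = s₀ f hf
    rw [h1]
    show P.map (hom₁ (x.1, c') (𝟙 x.1)).op (s₀ f hf) = s₀ f hf
    have e : hom₁ ((x.1, c') : D₁ × C) (𝟙 x.1) = 𝟙 _ := rfl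
    rw [e, op_id, P.map_id]
    rfl
  · intro t' ht'
    apply huniq
    intro y f hf
    have h1 : P.map (hom₂ x f.2).op t' = s₀ f.2 hf := ht' f.2 hf
    show P.map f.op t' = P.map (hom₁ y f.1).op (s₀ f.2 hf)
    rw [← h1, map_map_apply, ← op_comp, ← hom_fac]

variable (J : GrothendieckTopology C)

/-- Sheaves for the product topology are the presheaves all of whose slices are sheaves. -/
theorem isSheaf_prodTopology_iff :
    Presieve.IsSheaf (prodTopology D₁ J) P ↔ ∀ d : D₁, Presieve.IsSheaf J (sliceP P d) := by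
  constructor
  · intro h d c S₀ hS₀
    exact isSheafFor_slice_of_ext P ((d, c) : D₁ × C) S₀
      (h _ (ext_mem J ((d, c) : D₁ × C) hS₀))
  · intro h x R hR
    refine Presieve.isSheafFor_subsieve P (S := ext x (slice R)) (ext_slice_le R) ?_
    intro y f
    rw [ext_pullback]
    exact isSheafFor_ext P y _ (h y.1 _ (J.pullback_stable f.2 hR))

end SheafCriterion

end Groth.Agent.Lib.Helper9.ProdSite
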