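import Mathlib
import Groth.Agent.S0025
import Groth.Agent.Lib.Helper27ProjSpaceFibres
import Groth.Agent.Lib.Helper4DVRSch

/-!
# Properness over a neighbourhood of a point from DVR lifts (core lemma)

Over a noetherian base `S`, for `f : X ⟶ S` separated of finite type and `y : S`, if all DVR
valuative squares centred at `y` whose generic point is (the residue field of) a point of a set
`D` of points through which all points of `X` are specializations admit lifts, then `f` is proper
over an open neighbourhood of `y`.  Uses Chow's lemma (S0025).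
-/

open CategoryTheory CategoryTheory.Limits AlgebraicGeometry IsLocalRing TopologicalSpace

universe u

namespace Groth.Agent.Lib.Helper9.ProperNhd

set_option backward.isDefEq.respectTransparency false

/-- The residue field map of a morphism locally of finite type is essentially of finite type. -/
lemma essFiniteType_residueFieldMap {X Y : Scheme.{u}} (f : X ⟶ Y) [LocallyOfFiniteType f]
    (x : X) : (f.residueFieldMap x).hom.EssFiniteType := by
  have h1 : (f.stalkMap x).hom.EssFiniteType := LocallyOfFiniteType.stalkMap f x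
  have h2 : (Y.residue (f x) ≫ f.residueFieldMap x).hom.EssFiniteType := by
    rw [Scheme.residue_residueFieldMap, CommRingCat.hom_comp]
    exact h1.comp (RingHom.FiniteType.essFiniteType
      (RingHom.FiniteType.of_surjective _ (X.residue_surjective x)))
  rw [CommRingCat.hom_comp] at h2
  exact RingHom.EssFiniteType.of_comp _ h2

/-- The DVR step. -/
theorem mem_range_of_specializes {X S X' P : Scheme.{u}} [IsLocallyNoetherian P]
    (f : X ⟶ S) (π : X' ⟶ X) (j : X' ⟶ P) (p : P ⟶ S) [IsImmersion j] [IsSeparated p]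
    [UniversallyClosed π] (hjp : j ≫ p = π ≫ f) (y : S) (x' : X')
    (H : ∀ (A : ValuationSubring (X'.residueField x')), IsDiscreteValuationRing A →
      ∀ a : Spec (CommRingCat.of A) ⟶ S, a (closedPoint A) = y →
        Spec.map (CommRingCat.ofHom A.subtype) ≫ a =
          Spec.map (π.residueFieldMap x') ≫ X.fromSpecResidueField (π x') ≫ f →
        ∃ l : Spec (CommRingCat.of A) ⟶ X, l ≫ f = a ∧
          Spec.map (CommRingCat.ofHom A.subtype) ≫ l =
            Spec.map (π.residueFieldMap x') ≫ X.fromSpecResidueField (π x'))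
    (xbar : P) (hxbar : j x' ⤳ xbar) (hy : p xbar = y) : xbar ∈ Set.range j := by
  by_cases hne : j x' = xbar
  · exact ⟨x', hne⟩
  have hφ : (j.residueFieldMap x').hom.EssFiniteType := essFiniteType_residueFieldMap j x'
  obtain ⟨A, hA, gP, hgP1, hgP2⟩ := Groth.Agent.Lib.Helper4.DVRSch.exists_dvr_hom hxbar hne
    (L := X'.residueField x') (j.residueFieldMap x') hφ
  have hj1 : Spec.map (j.residueFieldMap x') ≫ P.fromSpecResidueField (j x') =
      X'.fromSpecResidueField x' ≫ j := Scheme.Hom.SpecMap_residueFieldMap_fromSpecResidueField j x'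
  have hπ1 : Spec.map (π.residueFieldMap x') ≫ X.fromSpecResidueField (π x') =
      X'.fromSpecResidueField x' ≫ π := Scheme.Hom.SpecMap_residueFieldMap_fromSpecResidueField π x'
  obtain ⟨l, hl1, hl2⟩ := H A hA (gP ≫ p) (by rw [Scheme.Hom.comp_apply, hgP2, hy]) (by
    rw [← Category.assoc, hgP1, hj1, Category.assoc, hjp, ← Category.assoc, ← hπ1, Category.assoc])
  have hex : ValuativeCriterion.Existence π := by
    have := UniversallyClosed.eq_valuativeCriterion ▸ (inferInstance : UniversallyClosed π)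
    exact this.1
  let S₁ : ValuativeCommSq π :=
    { R := A, K := X'.residueField x', i₁ := X'.fromSpecResidueField x', i₂ := l,
      commSq := ⟨by rw [← hπ1]; exact hl2.symm⟩ }
  obtain ⟨⟨m, hm1, hm2⟩⟩ := (hex S₁).exists_lift
  have halg : Spec.map (CommRingCat.ofHom (algebraMap A (X'.residueField x'))) =
      Spec.map (CommRingCat.ofHom A.subtype) := rfl
  let S₂ : ValuativeCommSq p :=
    { R := A, K := X'.residueField x', i₁ := X'.fromSpecResidueField x' ≫ j, i₂ := gP ≫ p,
      commSq := ⟨by rw [halg, ← Category.assoc, hgP1, hj1]⟩ }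
  have huniq := IsSeparated.valuativeCriterion p S₂
  have hmj : m ≫ j = gP := by
    have h := huniq.elim ⟨m ≫ j, by
        change Spec.map (CommRingCat.ofHom (algebraMap A (X'.residueField x'))) ≫ m ≫ j = _
        rw [← Category.assoc]; exact congrArg (· ≫ j) hm1, by
        change (m ≫ j) ≫ p = gP ≫ p
        rw [Category.assoc, hjp, ← Category.assoc]
        exact (congrArg (· ≫ f) hm2).trans hl1⟩
      ⟨gP, by
        change Spec.map (CommRingCat.ofHom (algebraMap A (X'.residueField x'))) ≫ gP = _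
        rw [halg, hgP1, hj1], rfl⟩
    exact congrArg CommSq.LiftStruct.l h
  exact ⟨m (closedPoint A), by rw [← Scheme.Hom.comp_apply, hmj, hgP2]⟩


/-- range of a restriction -/
lemma range_morphismRestrict {X Y : Scheme.{u}} (f : X ⟶ Y) (U : Y.Opens) :
    Set.range (f ∣_ U) = Subtype.val ⁻¹' (Set.range f) := by
  ext x
  constructor
  · rintro ⟨z, rfl⟩
    exact ⟨z.1, (morphismRestrict_base_coe f U z).symm⟩
  · rintro ⟨z, hz⟩
    have hzU : z ∈ f ⁻¹ᵁ U := by
      change f z ∈ U
      rw [hz]; exact x.2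
    refine ⟨⟨z, hzU⟩, Subtype.ext ?_⟩
    rw [morphismRestrict_base_coe]
    exact hz

/-- Points in the iso locus: specializations lift. -/
lemma exists_specializes_of_isIso_restrict {X X' : Scheme.{u}} (π : X' ⟶ X) (W : X.Opens)
    [IsIso (π ∣_ W)] (w : ↥(π ⁻¹ᵁ W)) (d : X) (hd : d ⤳ π w.1) :
    ∃ w' : ↥(π ⁻¹ᵁ W), π w'.1 = d ∧ w' ⤳ w := by
  have hdW : d ∈ W := hd.mem_open W.2 w.2
  let h := (π ∣_ W).homeomorph
  refine ⟨h.symm ⟨d, hdW⟩, ?_, ?_⟩
  · have h1 : (π ∣_ W) (h.symm ⟨d, hdW⟩) = ⟨d, hdW⟩ := h.apply_symm_apply _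
    have h2 := morphismRestrict_base_coe π W (h.symm ⟨d, hdW⟩)
    rw [h1] at h2
    exact h2.symm
  · have h3 : (⟨d, hdW⟩ : W) ⤳ (π ∣_ W) w := by
      rw [← Topology.IsInducing.subtypeVal.specializes_iff]
      rw [morphismRestrict_base_coe]
      exact hd
    have h4 := h3.map h.symm.continuous
    have h5 : h.symm ((π ∣_ W) w) = w := h.symm_apply_apply w
    rw [h5] at h4
    exact h4

/-- The residue field map is an isomorphism on the iso locus. -/
lemma isIso_residueFieldMap_of_isIso_restrict {X X' : Scheme.{u}} (π : X' ⟶ X) (W : X.Opens)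
    [IsIso (π ∣_ W)] (w : ↥(π ⁻¹ᵁ W)) : IsIso (π.residueFieldMap ((π ⁻¹ᵁ W).ι w)) := by
  have h1 : IsOpenImmersion ((π ⁻¹ᵁ W).ι ≫ π) := by
    rw [← morphismRestrict_ι]; infer_instance
  have h2 : IsIso (((π ⁻¹ᵁ W).ι ≫ π).residueFieldMap w) := inferInstance
  rw [Scheme.residueFieldMap_comp] at h2
  exact IsIso.of_isIso_comp_right _ ((π ⁻¹ᵁ W).ι.residueFieldMap w)


/-- The hypothesis: DVR lifts centred at `y` with generic point in `D`. -/
def DvrLifts {X S : Scheme.{u}} (f : X ⟶ S) (y : S) (D : Set X) : Prop :=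
  ∀ d ∈ D, ∀ (L : Type u) [Field L] (e : X.residueField d ⟶ CommRingCat.of L) [IsIso e]
    (A : ValuationSubring L), IsDiscreteValuationRing A →
    ∀ a : Spec (CommRingCat.of A) ⟶ S, a (closedPoint A) = y →
      Spec.map (CommRingCat.ofHom A.subtype) ≫ a = Spec.map e ≫ X.fromSpecResidueField d ≫ f →
      ∃ l : Spec (CommRingCat.of A) ⟶ X, l ≫ f = a ∧
        Spec.map (CommRingCat.ofHom A.subtype) ≫ l = Spec.map e ≫ X.fromSpecResidueField d

set_option maxHeartbeats 1000000 in
theorem exists_isProper_restrict_aux {X S X' P : Scheme.{u}} [IsNoetherian S] (f : X ⟶ S)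
    [IsSeparated f] [LocallyOfFiniteType f] [QuasiCompact f] (π : X' ⟶ X) (j : X' ⟶ P)
    (p : P ⟶ S) [IsImmersion j] [IsProper p] [IsProper π] [Surjective π]
    (hjp : j ≫ p = π ≫ f) (W : X.Opens) (hWd : Dense (W : Set X)) [IsIso (π ∣_ W)] (y : S)
    (D : Set X) (hD : ∀ x : X, ∃ d ∈ D, d ⤳ x) (H : DvrLifts f y D) :
    ∃ U : S.Opens, y ∈ U ∧ IsProper (f ∣_ U) := by
  haveI : IsLocallyNoetherian P := LocallyOfFiniteType.isLocallyNoetherian p
  haveI : IsLocallyNoetherian X' := LocallyOfFiniteType.isLocallyNoetherian (π ≫ f)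
  haveI : CompactSpace X' := QuasiCompact.compactSpace_of_compactSpace (π ≫ f)
  haveI : IsNoetherian X' := { }
  set V' : X'.Opens := π ⁻¹ᵁ W with hV'
  let T' : Set P := closure (j '' (V' : Set X'))
  obtain ⟨O, C, hO, hC, hOC⟩ := j.isLocallyClosed_range
  have hT'C : T' ⊆ C := closure_minimal (by
    rintro _ ⟨z, -, rfl⟩
    have : j z ∈ Set.range j := ⟨z, rfl⟩
    rw [hOC] at this
    exact this.2) hC
  let E : Set P := T' \ O
  have hE : IsClosed E := isClosed_closure.sdiff hO
  have hpE : IsClosed (p '' E) := p.isClosedMap _ hE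
  -- claim A
  have claimA : ∀ xbar ∈ T', p xbar = y → xbar ∈ Set.range j := by
    intro xbar hxT hxy
    have hrange : Set.range (V'.ι ≫ j) = j '' (V' : Set X') := by
      ext z
      constructor
      · rintro ⟨w, rfl⟩
        exact ⟨w.1, w.2, rfl⟩
      · rintro ⟨z', hz', rfl⟩
        exact ⟨⟨z', hz'⟩, rfl⟩
    have hz : xbar ∈ closure (Set.range (V'.ι ≫ j)) := by rw [hrange]; exact hxT
    haveI : IsLocallyNoetherian (V' : Scheme.{u}) :=
      LocallyOfFiniteType.isLocallyNoetherian (V'.ι ≫ π ≫ f)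
    obtain ⟨w, hw⟩ :=
      Groth.Agent.Lib.Helper4.DVRSch.exists_specializes_of_mem_closure_range (V'.ι ≫ j) hz
    obtain ⟨d, hdD, hd⟩ := hD (π w.1)
    obtain ⟨w', hw'1, hw'2⟩ := exists_specializes_of_isIso_restrict π W w d hd
    subst hw'1
    have hspec : j (V'.ι w') ⤳ xbar := by
      have h1 : (V'.ι ≫ j) w' ⤳ (V'.ι ≫ j) w := hw'2.map (V'.ι ≫ j).continuous
      exact h1.trans hw
    haveI := isIso_residueFieldMap_of_isIso_restrict π W w'
    exact mem_range_of_specializes f π j p hjp y (V'.ι w')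
      (fun A hA a ha hcomm => H _ hdD _ (π.residueFieldMap (V'.ι w')) A hA a ha hcomm)
      xbar hspec hxy
  have hy : y ∉ p '' E := by
    rintro ⟨xbar, ⟨hx1, hx2⟩, hx3⟩
    have := claimA xbar hx1 hx3
    rw [hOC] at this
    exact hx2 this.1
  let U : S.Opens := ⟨(p '' E)ᶜ, hpE.isOpen_compl⟩
  refine ⟨U, hy, ?_⟩
  -- the closed subscheme `X''` on the closure of `V'`
  let I := Scheme.IdealSheafData.vanishingIdeal
    (⟨closure (V' : Set X'), isClosed_closure⟩ : TopologicalSpace.Closeds X')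
  have hrι : Set.range I.subschemeι = closure (V' : Set X') := by
    rw [I.range_subschemeι, Scheme.IdealSheafData.coe_support_vanishingIdeal]
    rfl
  let π'' : I.subscheme ⟶ X := I.subschemeι ≫ π
  let j'' : I.subscheme ⟶ P := I.subschemeι ≫ j
  have hsurj : Surjective π'' := by
    constructor
    have hcl : IsClosed (Set.range π'') := π''.isClosedMap.isClosed_range
    have hW : (W : Set X) ⊆ Set.range π'' := by
      intro x hx
      obtain ⟨z, rfl⟩ := (inferInstance : Surjective π).surj x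
      have hz : z ∈ closure (V' : Set X') := subset_closure hx
      rw [← hrι] at hz
      obtain ⟨z', rfl⟩ := hz
      exact ⟨z', rfl⟩
    have : Set.range π'' = Set.univ := by
      apply Set.eq_univ_of_univ_subset
      rw [← hWd.closure_eq]
      exact closure_minimal hW hcl
    exact Set.range_eq_univ.mp this
  -- range of `j''`
  have hrj : Set.range j'' = Set.range j ∩ T' := by
    have h1 : Set.range j'' = j '' (Set.range I.subschemeι) := by
      ext z
      constructor
      · rintro ⟨w, rfl⟩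
        exact ⟨I.subschemeι w, ⟨w, rfl⟩, rfl⟩
      · rintro ⟨_, ⟨w, rfl⟩, rfl⟩
        exact ⟨w, rfl⟩
    rw [h1, hrι, j.isEmbedding.isInducing.closure_eq_preimage_closure_image,
      Set.image_preimage_eq_inter_range, Set.inter_comm]
  have hcl : IsClosed (Set.range (j'' ∣_ (p ⁻¹ᵁ U))) := by
    rw [range_morphismRestrict, hrj]
    have : (Subtype.val ⁻¹' (Set.range j ∩ T') : Set ↥(p ⁻¹ᵁ U)) = Subtype.val ⁻¹' T' := by
      ext z
      constructor
      · rintro ⟨-, h⟩
        exact h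
      · intro h
        refine ⟨?_, h⟩
        rw [hOC]
        refine ⟨?_, hT'C h⟩
        by_contra hzO
        exact z.2 ⟨z.1, ⟨h, hzO⟩, rfl⟩
    rw [this]
    exact isClosed_closure.preimage continuous_subtype_val
  haveI : IsClosedImmersion (j'' ∣_ (p ⁻¹ᵁ U)) := .of_isPreimmersion _ hcl
  have heq : j'' ≫ p = π'' ≫ f := by
    simp only [j'', π'', Category.assoc, hjp]
  haveI : IsProper ((π'' ≫ f) ∣_ U) := by
    rw [← heq, morphismRestrict_comp]
    infer_instance
  haveI : Surjective (π'' ∣_ (f ⁻¹ᵁ U)) := IsZariskiLocalAtTarget.restrict hsurj _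
  haveI : UniversallyClosed (f ∣_ U) := by
    haveI : UniversallyClosed ((π'' ∣_ (f ⁻¹ᵁ U)) ≫ (f ∣_ U)) := by
      rw [← morphismRestrict_comp]; infer_instance
    exact UniversallyClosed.of_comp_surjective (π'' ∣_ (f ⁻¹ᵁ U)) (f ∣_ U)
  exact { }


/-- Core lemma over a noetherian base. -/
theorem exists_isProper_restrict_of_isNoetherian {X S : Scheme.{u}} [IsNoetherian S] (f : X ⟶ S)
    [IsSeparated f] [LocallyOfFiniteType f] [QuasiCompact f] (y : S)
    (D : Set X) (hD : ∀ x : X, ∃ d ∈ D, d ⤳ x) (H : DvrLifts f y D) :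
    ∃ U : S.Opens, y ∈ U ∧ IsProper (f ∣_ U) := by
  obtain ⟨n, X', π, j, hj, hjp, hπ, hπs, W, hWd, hWiso⟩ := Groth.Agent.S0025.result f
  haveI := hj; haveI := hπ; haveI := hπs; haveI := hWiso
  haveI : IsProper (CohB1.ProjSpaceOver.toBase n S) :=
    Groth.Agent.Lib.Helper27ProjSpaceFibres.isProper_toBase n S
  exact exists_isProper_restrict_aux f π j _ hjp W hWd y D hD H

/-- **Core lemma.** Over a locally noetherian base. -/
theorem exists_isProper_restrict {X Y : Scheme.{u}} [IsLocallyNoetherian Y] (f : X ⟶ Y)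
    [IsSeparated f] [LocallyOfFiniteType f] [QuasiCompact f] (y : Y)
    (D : Set X) (hD : ∀ x : X, ∃ d ∈ D, d ⤳ x) (H : DvrLifts f y D) :
    ∃ U : Y.Opens, y ∈ U ∧ IsProper (f ∣_ U) := by
  obtain ⟨V₀, hV₀, hyV₀, -⟩ := exists_isAffineOpen_mem_and_subset (U := ⊤) (x := y) (by simp)
  haveI : IsAffine V₀ := hV₀
  haveI : IsNoetherian (V₀ : Scheme.{u}) := { }
  let ιX := (f ⁻¹ᵁ V₀).ι
  let D₀ : Set ↥(f ⁻¹ᵁ V₀) := ιX ⁻¹' D
  have hD₀ : ∀ x : ↥(f ⁻¹ᵁ V₀), ∃ d ∈ D₀, d ⤳ x := by
    intro x
    obtain ⟨d, hdD, hd⟩ := hD x.1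
    have hdV : d ∈ f ⁻¹ᵁ V₀ := hd.mem_open (f ⁻¹ᵁ V₀).2 x.2
    refine ⟨⟨d, hdV⟩, hdD, ?_⟩
    rw [← Topology.IsInducing.subtypeVal.specializes_iff]
    exact hd
  have H₀ : DvrLifts (f ∣_ V₀) ⟨y, hyV₀⟩ D₀ := by
    intro d hd L _ e _ A hA a ha hcomm
    have hres : Spec.map (ιX.residueFieldMap d) ≫ X.fromSpecResidueField (ιX d) =
        (f ⁻¹ᵁ V₀).toScheme.fromSpecResidueField d ≫ ιX :=
      Scheme.Hom.SpecMap_residueFieldMap_fromSpecResidueField ιX d
    obtain ⟨l, hl1, hl2⟩ := H (ιX d) hd L (ιX.residueFieldMap d ≫ e) A hA (a ≫ V₀.ι)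
      (by rw [Scheme.Hom.comp_apply, ha]; rfl)
      (by
        rw [Spec.map_comp, Category.assoc, ← Category.assoc (Spec.map (ιX.residueFieldMap d)),
          hres, Category.assoc, ← morphismRestrict_ι, ← Category.assoc, hcomm]
        simp only [Category.assoc])
    have hlr : Set.range l ⊆ Set.range ιX := by
      rintro _ ⟨z, rfl⟩
      have h1 : f (l z) ∈ V₀ := by
        rw [← Scheme.Hom.comp_apply, hl1, Scheme.Hom.comp_apply]
        exact (a z).2
      simpa [ιX] using h1
    let l₀ := IsOpenImmersion.lift ιX l hlr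
    have hl₀ : l₀ ≫ ιX = l := IsOpenImmersion.lift_fac _ _ _
    refine ⟨l₀, ?_, ?_⟩
    · rw [← cancel_mono V₀.ι, Category.assoc, morphismRestrict_ι, ← Category.assoc, hl₀, hl1]
    · rw [← cancel_mono ιX, Category.assoc, hl₀, hl2, Spec.map_comp, Category.assoc, hres,
        Category.assoc]
  obtain ⟨U₁, hyU₁, hprop⟩ :=
    exists_isProper_restrict_of_isNoetherian (f ∣_ V₀) ⟨y, hyV₀⟩ D₀ hD₀ H₀
  refine ⟨V₀.ι ''ᵁ U₁, ⟨⟨y, hyV₀⟩, hyU₁, rfl⟩, ?_⟩
  exact (MorphismProperty.arrow_mk_iso_iff @IsProper (morphismRestrictRestrict f V₀ U₁)).mp hprop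

end Groth.Agent.Lib.Helper9.ProperNhd
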