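/-
Helper library (helper9): EGA IV 15.7.10 (Noetherian case): a separated finite type universally
submersive morphism with geometrically connected fibres whose fibre at y is proper is proper over
a neighbourhood of y. Via completion of the local ring (henselian), the clopen-proper lifting of
Helper9HensClopenB, fpqc descent of universal closedness and the DVR criterion S2596.
-/
import Groth.Agent.Lib.Helper9HensClopenB
import Groth.Agent.S2596

set_option autoImplicit false
set_option linter.style.haveILetI false
universe u

open CategoryTheory CategoryTheory.Limits AlgebraicGeometry TopologicalSpace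

namespace Groth.Agent.Lib.Helper9.ProperHens

/-- A pullback square over a composite `k ≫ h` factors through the pullback along `h`. -/
theorem isPullback_lift_comp {X Y T T' Z : Scheme.{u}} {f : X ⟶ Y} {h : T ⟶ Y} {k : T' ⟶ T}
    {a : Z ⟶ X} {b : Z ⟶ T'} (sq : IsPullback a b f (k ≫ h)) :
    IsPullback (pullback.lift a (b ≫ k) (by rw [sq.w, Category.assoc])) b
      (pullback.snd f h) k := by
  refine IsPullback.of_right ?_ (pullback.lift_snd _ _ _) (IsPullback.of_hasPullback f h)
  rw [pullback.lift_fst]; exact sq

/-- Base change along a composite. -/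
theorem of_isPullback_comp {P : MorphismProperty Scheme.{u}} [P.IsStableUnderBaseChange]
    {X Y T T' Z : Scheme.{u}} {f : X ⟶ Y} {h : T ⟶ Y} {k : T' ⟶ T}
    {a : Z ⟶ X} {b : Z ⟶ T'} (sq : IsPullback a b f (k ≫ h)) (hP : P (pullback.snd f h)) :
    P b :=
  P.of_isPullback (isPullback_lift_comp sq) hP

open PrimeSpectrum in
set_option backward.isDefEq.respectTransparency false in
/-- **Abstract key step.** Over a local ring henselian along its maximal ideal, a separated finite
type morphism with proper closed fibre is proper as soon as every clopen subset of the source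
which is proper over the base and contains the closed fibre is everything. -/
theorem isProper_of_henselian_of_forall_clopen {X Y : Scheme.{u}} (f : X ⟶ Y)
    [IsSeparated f] [LocallyOfFiniteType f] [QuasiCompact f]
    (B : Type u) [CommRing B] [IsLocalRing B] [HenselianRing B (IsLocalRing.maximalIdeal B)]
    (g : Spec (CommRingCat.of B) ⟶ Y)
    (hy : IsProper (f.fiberToSpecResidueField (g (IsLocalRing.closedPoint B))))
    (hW : ∀ W : (pullback f g).Opens, IsClosed (W : Set ↥(pullback f g)) →
      IsProper (W.ι ≫ pullback.snd f g) →
      (pullback.snd f g ⁻¹' {IsLocalRing.closedPoint B} ⊆ (W : Set ↥(pullback f g))) → W = ⊤) :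
    IsProper (pullback.snd f g) := by
  -- the closed point of `Spec B`
  let g₀ : Spec (CommRingCat.of (IsLocalRing.ResidueField B)) ⟶ Spec (CommRingCat.of B) :=
    Spec.map (CommRingCat.ofHom (IsLocalRing.residue B))
  haveI : IsClosedImmersion g₀ :=
    IsClosedImmersion.spec_of_surjective _ IsLocalRing.residue_surjective
  have hg₀ : Set.range g₀ = (zeroLocus ((IsLocalRing.maximalIdeal B : Ideal B) : Set B) :
      Set (Spec (CommRingCat.of B))) := by
    change Set.range (PrimeSpectrum.comap (IsLocalRing.residue B)) = _
    rw [range_comap_of_surjective _ _ IsLocalRing.residue_surjective, IsLocalRing.ker_residue]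
  -- the closed fibre is proper
  have hbig : IsPullback (pullback.fst (pullback.snd f g) g₀ ≫ pullback.fst f g)
      (pullback.snd (pullback.snd f g) g₀) f (g₀ ≫ g) :=
    (IsPullback.of_hasPullback (pullback.snd f g) g₀).paste_horiz (IsPullback.of_hasPullback f g)
  have hpt : (g₀ ≫ g) (IsLocalRing.closedPoint (IsLocalRing.ResidueField B)) =
      g (IsLocalRing.closedPoint B) := by
    rw [Scheme.Hom.comp_apply]
    congr 1
    exact IsLocalRing.comap_closedPoint (IsLocalRing.residue B)
  have hfac := Scheme.descResidueField_stalkClosedPointTo_fromSpecResidueField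
    (IsLocalRing.ResidueField B) Y (g₀ ≫ g)
  haveI hprop₀ : IsProper (pullback.snd (pullback.snd f g) g₀) := by
    have hy' : IsProper (f.fiberToSpecResidueField
        ((g₀ ≫ g) (IsLocalRing.closedPoint (IsLocalRing.ResidueField B)))) := by
      rw [hpt]; exact hy
    rw [← hfac] at hbig
    exact of_isPullback_comp (P := @IsProper) hbig hy'
  haveI : IsProper ((⊤ : (pullback (pullback.snd f g) g₀).Opens).ι ≫
      pullback.snd (pullback.snd f g) g₀) := by
    haveI : IsIso ((⊤ : (pullback (pullback.snd f g) g₀).Opens).ι) :=
      inferInstanceAs (IsIso (pullback (pullback.snd f g) g₀).topIso.hom)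
    infer_instance
  obtain ⟨W, hWcl, hWp, hWV⟩ := Groth.Agent.Lib.Helper9.HensClopen.exists_clopen_proper_pullback
    (IsLocalRing.maximalIdeal B) (pullback.snd f g) g₀ hg₀ ⊤
  -- `W` is everything
  have hWtop : W = ⊤ := by
    refine hW W hWcl hWp ?_
    intro x hx
    have hxr : x ∈ Set.range (pullback.fst (pullback.snd f g) g₀) := by
      rw [Scheme.Pullback.range_fst, hg₀]
      change pullback.snd f g x ∈ zeroLocus _
      rw [Set.mem_preimage, Set.mem_singleton_iff] at hx
      rw [hx]
      exact (PrimeSpectrum.mem_zeroLocus _ _).mpr le_rfl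
    obtain ⟨z, rfl⟩ := hxr
    have : z ∈ pullback.fst (pullback.snd f g) g₀ ⁻¹ᵁ W := by rw [hWV]; trivial
    exact this
  subst hWtop
  haveI : IsIso ((⊤ : (pullback f g).Opens).ι) :=
    inferInstanceAs (IsIso (pullback f g).topIso.hom)
  exact (MorphismProperty.cancel_left_of_respectsIso @IsProper _ _).mp hWp

open PrimeSpectrum in
set_option backward.isDefEq.respectTransparency false in
/-- **Key step.** Over a local ring henselian along its maximal ideal, a separated finite type
universally submersive morphism with geometrically connected fibres and proper closed fibre is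
proper. -/
theorem isProper_of_henselian {X Y : Scheme.{u}} (f : X ⟶ Y)
    [IsSeparated f] [LocallyOfFiniteType f] [QuasiCompact f]
    (hsub : MorphismProperty.universally (topologically fun g => Topology.IsQuotientMap g) f)
    [GeometricallyConnected f]
    (B : Type u) [CommRing B] [IsLocalRing B] [HenselianRing B (IsLocalRing.maximalIdeal B)]
    (g : Spec (CommRingCat.of B) ⟶ Y)
    (hy : IsProper (f.fiberToSpecResidueField (g (IsLocalRing.closedPoint B)))) :
    IsProper (pullback.snd f g) := by
  refine isProper_of_henselian_of_forall_clopen f B g hy ?_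
  intro W hWcl hWp hWV
  haveI hgc : GeometricallyConnected (pullback.snd f g) := inferInstance
  have hq : Topology.IsQuotientMap (pullback.snd f g) :=
    hsub _ _ _ (IsPullback.of_hasPullback f g).flip
  have hsat : ∀ x x' : ↥(pullback f g), pullback.snd f g x' = pullback.snd f g x →
      x' ∈ W → x ∈ W := by
    intro x x' hxx' hx'
    have hpre := ((pullback.snd f g).isConnected_preimage_singleton
      (pullback.snd f g x)).isPreconnected
    exact hpre.subset_isClopen ⟨hWcl, W.2⟩ ⟨x', hxx', hx'⟩ rfl
  have hTpre : pullback.snd f g ⁻¹' (pullback.snd f g '' ((W : Set ↥(pullback f g))ᶜ))ᶜ =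
      (W : Set ↥(pullback f g)) := by
    ext x
    simp only [Set.mem_preimage, Set.mem_compl_iff, Set.mem_image, not_exists, not_and]
    constructor
    · intro h
      by_contra hx
      exact h x hx rfl
    · intro hx x' hx' hxx'
      exact hx' (hsat x' x hxx'.symm hx)
  have hTcl : IsClosed (pullback.snd f g '' ((W : Set ↥(pullback f g))ᶜ)) := by
    rw [← isOpen_compl_iff, ← hq.isOpen_preimage, hTpre]
    exact W.2
  have hT : pullback.snd f g '' ((W : Set ↥(pullback f g))ᶜ) = ∅ := by
    by_contra hne
    obtain ⟨t, ⟨x, hx, rfl⟩, htI⟩ :=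
      Groth.Agent.Lib.Helper9.HensClopen.exists_mem_zeroLocus_of_isClosed
        (IsLocalRing.maximalIdeal B) HenselianRing.jac hTcl (Set.nonempty_iff_ne_empty.mpr hne)
    have hxc : pullback.snd f g x = IsLocalRing.closedPoint B := by
      have h1 : (IsLocalRing.maximalIdeal B : Ideal B) ≤ (pullback.snd f g x).asIdeal :=
        (PrimeSpectrum.mem_zeroLocus _ _).mp htI
      exact PrimeSpectrum.ext ((IsLocalRing.maximalIdeal.isMaximal B).eq_of_le
        (pullback.snd f g x).2.ne_top h1).symm
    exact hx (hWV hxc)
  ext x
  simp only [Opens.coe_top, Set.mem_univ, iff_true]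
  by_contra hx
  have : pullback.snd f g x ∈ pullback.snd f g '' ((W : Set ↥(pullback f g))ᶜ) :=
    ⟨x, hx, rfl⟩
  rw [hT] at this
  exact this

/-- The morphism from the spectrum of the completion of the local ring at `y`. -/
noncomputable abbrev fromSpecCompletion (Y : Scheme.{u}) (y : Y) :
    Spec (CommRingCat.of (AdicCompletion (IsLocalRing.maximalIdeal (Y.presheaf.stalk y))
      (Y.presheaf.stalk y))) ⟶ Y :=
  Spec.map (CommRingCat.ofHom (algebraMap (Y.presheaf.stalk y)
    (AdicCompletion (IsLocalRing.maximalIdeal (Y.presheaf.stalk y)) (Y.presheaf.stalk y)))) ≫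
    Y.fromSpecStalk y

open IsLocalRing in
set_option backward.isDefEq.respectTransparency false in
theorem fromSpecCompletion_closedPoint (Y : Scheme.{u}) [IsLocallyNoetherian Y] (y : Y) :
    fromSpecCompletion Y y (closedPoint (AdicCompletion
      (maximalIdeal (Y.presheaf.stalk y)) (Y.presheaf.stalk y))) = y := by
  haveI : IsNoetherianRing (Y.presheaf.stalk y) := inferInstance
  rw [fromSpecCompletion, Scheme.Hom.comp_apply]
  have : (Spec.map (CommRingCat.ofHom (algebraMap (Y.presheaf.stalk y)
      (AdicCompletion (maximalIdeal (Y.presheaf.stalk y)) (Y.presheaf.stalk y)))))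
      (closedPoint (AdicCompletion (maximalIdeal (Y.presheaf.stalk y))
        (Y.presheaf.stalk y))) = closedPoint (Y.presheaf.stalk y) :=
    IsLocalRing.comap_closedPoint (algebraMap (Y.presheaf.stalk y)
      (AdicCompletion (maximalIdeal (Y.presheaf.stalk y)) (Y.presheaf.stalk y)))
  rw [this]
  exact Scheme.fromSpecStalk_closedPoint

open IsLocalRing in
set_option backward.isDefEq.respectTransparency false in
/-- **Descent + spreading out.** If the base change of a separated finite type morphism to the
completion of the local ring at `y` is proper, the morphism is proper over a neighbourhood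
of `y`. -/
theorem exists_isProper_restrict_of_completion {X Y : Scheme.{u}} [IsLocallyNoetherian Y]
    (f : X ⟶ Y) [IsSeparated f] [LocallyOfFiniteType f] [QuasiCompact f] (y : Y)
    (h1 : IsProper (pullback.snd f (fromSpecCompletion Y y))) :
    ∃ U : Y.Opens, y ∈ U ∧ IsProper (f ∣_ U) := by
  haveI : IsNoetherianRing (Y.presheaf.stalk y) := inferInstance
  let c : Spec (CommRingCat.of (AdicCompletion (maximalIdeal (Y.presheaf.stalk y))
      (Y.presheaf.stalk y))) ⟶ Spec (Y.presheaf.stalk y) :=
    Spec.map (CommRingCat.ofHom (algebraMap (Y.presheaf.stalk y)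
      (AdicCompletion (maximalIdeal (Y.presheaf.stalk y)) (Y.presheaf.stalk y))))
  change IsProper (pullback.snd f (c ≫ Y.fromSpecStalk y)) at h1
  -- descent along the completion
  haveI : Module.Flat (Y.presheaf.stalk y)
      (AdicCompletion (maximalIdeal (Y.presheaf.stalk y)) (Y.presheaf.stalk y)) :=
    AdicCompletion.flat_of_isNoetherian (maximalIdeal (Y.presheaf.stalk y))
  haveI : Module.FaithfullyFlat (Y.presheaf.stalk y)
      (AdicCompletion (maximalIdeal (Y.presheaf.stalk y)) (Y.presheaf.stalk y)) :=
    Module.FaithfullyFlat.of_flat_of_isLocalHom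
  have hc : (@Surjective ⊓ @Flat ⊓ @QuasiCompact : MorphismProperty Scheme.{u}) c := by
    have := (flat_and_surjective_SpecMap_iff (CommRingCat.ofHom (algebraMap
      (Y.presheaf.stalk y) (AdicCompletion (maximalIdeal (Y.presheaf.stalk y))
        (Y.presheaf.stalk y))))).mpr
      (RingHom.faithfullyFlat_algebraMap_iff.mpr inferInstance)
    exact ⟨⟨this.2, this.1⟩, inferInstance⟩
  have h2 : UniversallyClosed (pullback.snd f (Y.fromSpecStalk y)) :=
    MorphismProperty.of_isPullback_of_descendsAlong (P := @UniversallyClosed)
      (Q := @Surjective ⊓ @Flat ⊓ @QuasiCompact)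
      (isPullback_lift_comp (IsPullback.of_hasPullback f (c ≫ Y.fromSpecStalk y))).flip hc
      h1.toUniversallyClosed
  haveI h3 : IsProper (pullback.snd f (Y.fromSpecStalk y)) := { }
  -- DVR criterion
  apply Groth.Agent.S2596.result f y
  intro R _ _ _ g hg τ hτ
  subst hg
  have hfacg := Scheme.Spec_stalkClosedPointTo_fromSpecStalk g
  haveI : IsProper (pullback.snd f g) := by
    have sq : IsPullback (pullback.fst f g) (pullback.snd f g) f
        (Spec.map (Scheme.stalkClosedPointTo g) ≫ Y.fromSpecStalk (g (closedPoint R))) := by
      rw [hfacg]; exact IsPullback.of_hasPullback f g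
    exact of_isPullback_comp (P := @IsProper) sq h3
  have hex : ValuativeCriterion.Existence (pullback.snd f g) := by
    have h4 : (ValuativeCriterion.Existence ⊓ @QuasiCompact : MorphismProperty Scheme.{u})
        (pullback.snd f g) := by
      rw [← UniversallyClosed.eq_valuativeCriterion]; infer_instance
    exact h4.1
  let S : ValuativeCommSq (pullback.snd f g) :=
    { R := R, K := FractionRing R, i₁ := τ, i₂ := 𝟙 _,
      commSq := ⟨by rw [hτ, Category.comp_id]⟩ }
  obtain ⟨l⟩ := (hex S).exists_lift
  exact ⟨l.l, l.fac_right, l.fac_left⟩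

open IsLocalRing in
set_option backward.isDefEq.respectTransparency false in
/-- **EGA IV 15.7.10 (Noetherian case).** -/
theorem exists_isProper_restrict_of_submersive {X Y : Scheme.{u}} [IsLocallyNoetherian Y]
    (f : X ⟶ Y) [IsSeparated f] [LocallyOfFiniteType f] [QuasiCompact f]
    (hsub : MorphismProperty.universally (topologically fun g => Topology.IsQuotientMap g) f)
    (hconn : ∀ y : Y, GeometricallyConnected (f.fiberToSpecResidueField y))
    (y : Y) (hy : IsProper (f.fiberToSpecResidueField y)) :
    ∃ U : Y.Opens, y ∈ U ∧ IsProper (f ∣_ U) := by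
  haveI : GeometricallyConnected f :=
    (GeometricallyConnected.iff_geometricallyConnected_fiber f).mpr hconn
  haveI : IsNoetherianRing (Y.presheaf.stalk y) := inferInstance
  refine exists_isProper_restrict_of_completion f y ?_
  exact isProper_of_henselian f hsub _ (fromSpecCompletion Y y)
    (by rw [fromSpecCompletion_closedPoint]; exact hy)

end Groth.Agent.Lib.Helper9.ProperHens
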