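/-
Helper library (helper9): flat variant of EGA IV 15.7.10 (Noetherian case): a flat separated
morphism of finite type over a locally Noetherian base whose fibres over the maximal points are
geometrically connected and whose fibre at `s` is nonempty and proper is proper over a
neighbourhood of `s`.
-/
import Groth.Agent.Lib.Helper9ProperHens
import Groth.Agent.Lib.Helper6StalkIso

set_option autoImplicit false
set_option linter.style.haveILetI false
universe u

open CategoryTheory CategoryTheory.Limits AlgebraicGeometry TopologicalSpace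

namespace Groth.Agent.Lib.Helper9.ProperHens


/-- Geometric connectedness of the fibre of a base change. -/
theorem geometricallyConnected_fiber_pullback {X Y T : Scheme.{u}} (f : X ⟶ Y) (g : T ⟶ Y)
    (t : T) (h : GeometricallyConnected (f.fiberToSpecResidueField (g t))) :
    GeometricallyConnected ((pullback.snd f g).fiberToSpecResidueField t) := by
  have hbig : IsPullback ((pullback.snd f g).fiberι t ≫ pullback.fst f g)
      ((pullback.snd f g).fiberToSpecResidueField t) f (T.fromSpecResidueField t ≫ g) :=
    (IsPullback.of_hasPullback (pullback.snd f g) (T.fromSpecResidueField t)).paste_horiz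
      (IsPullback.of_hasPullback f g)
  have hpt : (T.fromSpecResidueField t ≫ g) (IsLocalRing.closedPoint (T.residueField t)) =
      g t := by
    rw [Scheme.Hom.comp_apply, Scheme.fromSpecResidueField_apply]
  have hfac := Scheme.descResidueField_stalkClosedPointTo_fromSpecResidueField
    (T.residueField t) Y (T.fromSpecResidueField t ≫ g)
  have h' : GeometricallyConnected (f.fiberToSpecResidueField
      ((T.fromSpecResidueField t ≫ g) (IsLocalRing.closedPoint (T.residueField t)))) := by
    rw [hpt]; exact h
  rw [← hfac] at hbig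
  exact of_isPullback_comp (P := @GeometricallyConnected) hbig h'



open PrimeSpectrum in
set_option backward.isDefEq.respectTransparency false in
/-- **Key step, flat case.** Over a local ring henselian along its maximal ideal, a flat separated
morphism of finite presentation whose closed fibre is nonempty and proper and whose fibres over
the maximal points (when nonempty) are geometrically connected is proper. -/
theorem isProper_of_henselian_of_flat {X Y : Scheme.{u}} (f : X ⟶ Y)
    [IsSeparated f] [LocallyOfFinitePresentation f] [QuasiCompact f] [Flat f]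
    (B : Type u) [CommRing B] [IsLocalRing B] [HenselianRing B (IsLocalRing.maximalIdeal B)]
    (g : Spec (CommRingCat.of B) ⟶ Y)
    (hgen : ∀ η : Spec (CommRingCat.of B), (∀ η' : Spec (CommRingCat.of B), η' ⤳ η → η' = η) →
      Nonempty ↥(f.fiber (g η)) → GeometricallyConnected (f.fiberToSpecResidueField (g η)))
    (hy : IsProper (f.fiberToSpecResidueField (g (IsLocalRing.closedPoint B))))
    (hne : Nonempty ↥(f.fiber (g (IsLocalRing.closedPoint B)))) :
    IsProper (pullback.snd f g) := by
  refine isProper_of_henselian_of_forall_clopen f B g hy ?_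
  intro W hWcl hWp hWV
  have hopen : IsOpenMap (pullback.snd f g) := (pullback.snd f g).isOpenMap
  -- the image of `W` is everything
  have himg : pullback.snd f g '' (W : Set ↥(pullback f g)) = Set.univ := by
    have hcl : IsClosed (pullback.snd f g '' (W : Set ↥(pullback f g))) := by
      have : pullback.snd f g '' (W : Set ↥(pullback f g)) =
          Set.range (W.ι ≫ pullback.snd f g) := by
        rw [Scheme.Hom.comp_base, TopCat.coe_comp, Set.range_comp, Scheme.Opens.range_ι]
      rw [this]
      exact (W.ι ≫ pullback.snd f g).isClosedMap.isClosed_range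
    have hop : IsOpen (pullback.snd f g '' (W : Set ↥(pullback f g))) := hopen _ W.2
    have hmem : IsLocalRing.closedPoint B ∈ pullback.snd f g '' (W : Set ↥(pullback f g)) := by
      obtain ⟨x₀⟩ := hne
      have hx₀ : f (f.fiberι _ x₀) = g (IsLocalRing.closedPoint B) := by
        have := (f.range_fiberι (g (IsLocalRing.closedPoint B))).le ⟨x₀, rfl⟩
        exact this
      obtain ⟨z, hz1, hz2⟩ := Scheme.Pullback.exists_preimage_pullback _ _ hx₀
      exact ⟨z, hWV hz2, hz2⟩
    have := (IsLocalRing.closedPoint_mem_iff (R := B) (U := ⟨_, hop⟩)).mp hmem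
    exact congrArg (fun U : Opens (PrimeSpectrum B) => (U : Set (PrimeSpectrum B))) this
  ext x
  simp only [Opens.coe_top, Set.mem_univ, iff_true]
  by_contra hx
  -- a minimal prime below the image of `x`
  obtain ⟨p, hpmin, hple⟩ := Ideal.exists_minimalPrimes_le
    (bot_le : (⊥ : Ideal B) ≤ (pullback.snd f g x).asIdeal)
  let η : Spec (CommRingCat.of B) := ⟨p, hpmin.1.1⟩
  have hηx : η ⤳ pullback.snd f g x := (PrimeSpectrum.le_iff_specializes η _).mp hple
  have hηmax : ∀ η' : Spec (CommRingCat.of B), η' ⤳ η → η' = η := by
    intro η' h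
    have h1 : η'.asIdeal ≤ p := (PrimeSpectrum.le_iff_specializes η' η).mpr h
    exact PrimeSpectrum.ext (le_antisymm h1 (hpmin.2 ⟨η'.2, bot_le⟩ h1))
  -- the fibre over `η` meets `W` and its complement
  have h1 : η ∈ pullback.snd f g '' ((W : Set ↥(pullback f g))ᶜ) :=
    hηx.mem_open (hopen _ hWcl.isOpen_compl) ⟨x, hx, rfl⟩
  have h2 : η ∈ pullback.snd f g '' (W : Set ↥(pullback f g)) := by rw [himg]; trivial
  obtain ⟨x₁, hx₁, hx₁η⟩ := h1
  obtain ⟨x₂, hx₂, hx₂η⟩ := h2
  have hne' : Nonempty ↥(f.fiber (g η)) := by
    have : pullback.fst f g x₂ ∈ Set.range (f.fiberι (g η)) := by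
      rw [f.range_fiberι]
      change f (pullback.fst f g x₂) = g η
      rw [← hx₂η, ← Scheme.Hom.comp_apply, ← Scheme.Hom.comp_apply, pullback.condition]
    obtain ⟨z, -⟩ := this
    exact ⟨z⟩
  haveI := geometricallyConnected_fiber_pullback f g η (hgen η hηmax hne')
  haveI : ConnectedSpace ↥((pullback.snd f g).fiber η) :=
    GeometricallyConnected.connectedSpace_of_subsingleton
      (f := (pullback.snd f g).fiberToSpecResidueField η)
  have hconn : _root_.IsPreconnected (pullback.snd f g ⁻¹' {η}) := by
    rw [← (pullback.snd f g).range_fiberι, ← Set.image_univ]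
    exact (isConnected_univ.image _ ((pullback.snd f g).fiberι _).continuous.continuousOn).isPreconnected
  exact hx₁ (hconn.subset_isClopen ⟨hWcl, W.2⟩ ⟨x₂, hx₂η, hx₂⟩ hx₁η)



/-- A flat morphism maps maximal points (points without proper generizations) to maximal
points. -/
theorem maximal_of_flat {T S : Scheme.{u}} (g : T ⟶ S) [Flat g] (η : T)
    (hη : ∀ η' : T, η' ⤳ η → η' = η) : ∀ ξ : S, ξ ⤳ g η → ξ = g η := by
  intro ξ hξ
  obtain ⟨η', hη', rfl⟩ := Flat.generalizingMap g hξ
  rw [hη η' hη']

open IsLocalRing in
set_option backward.isDefEq.respectTransparency false in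
theorem flat_fromSpecCompletion (Y : Scheme.{u}) [IsLocallyNoetherian Y] (y : Y) :
    Flat (fromSpecCompletion Y y) := by
  haveI : IsNoetherianRing (Y.presheaf.stalk y) := inferInstance
  haveI : Module.Flat (Y.presheaf.stalk y)
      (AdicCompletion (maximalIdeal (Y.presheaf.stalk y)) (Y.presheaf.stalk y)) :=
    AdicCompletion.flat_of_isNoetherian (maximalIdeal (Y.presheaf.stalk y))
  haveI : Flat (Spec.map (CommRingCat.ofHom (algebraMap (Y.presheaf.stalk y)
      (AdicCompletion (maximalIdeal (Y.presheaf.stalk y)) (Y.presheaf.stalk y))))) := by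
    rw [Flat.SpecMap_iff]
    exact RingHom.flat_algebraMap_iff.mpr inferInstance
  haveI := Groth.Agent.Lib.Helper6.flat_fromSpecStalk Y y
  unfold fromSpecCompletion
  infer_instance

open IsLocalRing in
set_option backward.isDefEq.respectTransparency false in
/-- **EGA IV 15.7.11-type statement (Noetherian case).** A flat separated morphism of finite type
over a locally Noetherian base whose fibres over the maximal points are geometrically connected
(when nonempty) and whose fibre over `s` is nonempty and proper is proper over a neighbourhood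
of `s`. -/
theorem exists_isProper_restrict_of_flat {X S : Scheme.{u}} [IsLocallyNoetherian S] (f : X ⟶ S)
    [Flat f] [IsSeparated f] [LocallyOfFiniteType f] [QuasiCompact f]
    (hgen : ∀ η : S, (∀ η' : S, η' ⤳ η → η' = η) → Nonempty ↥(f.fiber η) →
      GeometricallyConnected (f.fiberToSpecResidueField η))
    (s : S) (hne : Nonempty ↥(f.fiber s)) (hs : IsProper (f.fiberToSpecResidueField s)) :
    ∃ U : S.Opens, s ∈ U ∧ IsProper (f ∣_ U) := by
  haveI : IsNoetherianRing (S.presheaf.stalk s) := inferInstance
  haveI := flat_fromSpecCompletion S s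
  refine exists_isProper_restrict_of_completion f s ?_
  refine isProper_of_henselian_of_flat f _ (fromSpecCompletion S s) ?_
    (by rw [fromSpecCompletion_closedPoint]; exact hs)
    (by rw [fromSpecCompletion_closedPoint]; exact hne)
  intro η hη hne'
  exact hgen _ (maximal_of_flat (fromSpecCompletion S s) η hη) hne'


open IsLocalRing in
/-- Every point of a scheme has a generization which is a maximal point. -/
theorem exists_maximal_generization (S : Scheme.{u}) (s : S) :
    ∃ η : S, η ⤳ s ∧ ∀ η' : S, η' ⤳ η → η' = η := by
  obtain ⟨p, hpmin, hple⟩ := Ideal.exists_minimalPrimes_le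
    (bot_le : (⊥ : Ideal (S.presheaf.stalk s)) ≤ maximalIdeal (S.presheaf.stalk s))
  let η₀ : Spec (S.presheaf.stalk s) := ⟨p, hpmin.1.1⟩
  have hη₀ : ∀ η' : Spec (S.presheaf.stalk s), η' ⤳ η₀ → η' = η₀ := by
    intro η' h
    have h1 : η'.asIdeal ≤ p := (PrimeSpectrum.le_iff_specializes η' η₀).mpr h
    exact PrimeSpectrum.ext (le_antisymm h1 (hpmin.2 ⟨η'.2, bot_le⟩ h1))
  haveI := Groth.Agent.Lib.Helper6.flat_fromSpecStalk S s
  refine ⟨S.fromSpecStalk s η₀, ?_, maximal_of_flat (S.fromSpecStalk s) η₀ hη₀⟩
  have : S.fromSpecStalk s η₀ ∈ Set.range (S.fromSpecStalk s) := ⟨η₀, rfl⟩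
  rw [Scheme.range_fromSpecStalk] at this
  exact this

end Groth.Agent.Lib.Helper9.ProperHens
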