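import Groth.Agent.Lib.Helper9SchImageQcC
import Groth.Agent.Lib.Helper12Proper
import Groth.Agent.S9964
import Groth.Agent.S10278
import Groth.Agent.S10279
import Groth.Agent.S9925
import Groth.Agent.S9926
import Groth.Agent.S10301
import Groth.Agent.S9937
import Groth.Agent.S9985
import Groth.Agent.S9953
import Groth.Agent.S9915
import Groth.Agent.S9922

/-!
# Images of spaces proper over a base under universally closed morphisms (algebraic spaces)
-/

set_option autoImplicit false
universe u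
open CategoryTheory CategoryTheory.Limits AlgebraicGeometry
open AlgSp

namespace Groth.Agent.Lib.Helper9.ProperImage

/-- Let `h : Z ⟶ Y` be a universally closed morphism of algebraic spaces over `B` with `Z` proper
over `B` and `Y` locally of finite type over `B`. Then the image of `|h|` is closed and underlies
a closed subspace of `Y` (the scheme theoretic image) which is proper over `B`. -/
theorem exists_closedSubspace_image_isProperMor {S : Scheme.{u}} {Z Y B : AlgSp.Space S}
    (h : Z ⟶ Y) (b : Y ⟶ B) (hb : AlgSp.LocP @LocallyOfFiniteType b.hom)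
    (hhuc : AlgSp.IsUnivClosedMor h.hom) (hZ : AlgSp.IsProperMor (h ≫ b).hom) :
    IsClosed (Set.range (AlgSp.Points.map h.hom)) ∧
      ∃ (Z' : AlgSp.Space S) (i' : Z' ⟶ Y), AlgSp.RepWith @IsClosedImmersion i'.hom ∧
        Set.range (AlgSp.Points.map i'.hom) = Set.range (AlgSp.Points.map h.hom) ∧
        AlgSp.IsProperMor (i' ≫ b).hom := by
  have hhcl : IsClosed (Set.range (AlgSp.Points.map h.hom)) :=
    (hhuc Y.property (𝟙 Y.obj) (𝟙 Z.obj) h.hom (IsPullback.id_horiz h.hom)).isClosed_range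
  have hhqc : AlgSp.IsQuasiCompactMor h.hom := Groth.Agent.S9925.result h hhuc
  obtain ⟨Z', i', hZ'⟩ := Groth.Agent.S9964.result h
  obtain ⟨f', hf'⟩ := hZ'.2.1
  have hfac : (⟨f'⟩ : Z ⟶ Z') ≫ i' = h := by
    ext : 1
    exact hf'
  obtain ⟨h', hh'⟩ : ∃ h' : Z ⟶ Z', h' = ⟨f'⟩ := ⟨_, rfl⟩
  rw [← hh'] at hfac
  have hfac' : h'.hom ≫ i'.hom = h.hom := by rw [← hfac]; rfl
  have hdense := Groth.Agent.Lib.Helper9.SchImageQc.range_subset_closure Z.property Y.property
    h.hom hhqc i'.hom hZ'
  rw [hhcl.closure_eq] at hdense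
  have hinj : Function.Injective (AlgSp.Points.map i'.hom) :=
    Groth.Agent.S10301.injective_map_of_repWith (P := @IsClosedImmersion)
      (fun _ _ g hg => by haveI : IsClosedImmersion g := hg; exact g.isClosedEmbedding.injective)
      i'.hom hZ'.1
  have hsurj : AlgSp.IsSurjectiveMor h'.hom := by
    intro z
    obtain ⟨x, hx⟩ := hdense ⟨z, rfl⟩
    refine ⟨x, hinj ?_⟩
    rw [← AlgSp.Points.map_comp, hfac', hx]
  have hrange : Set.range (AlgSp.Points.map i'.hom) = Set.range (AlgSp.Points.map h.hom) := by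
    apply Set.Subset.antisymm hdense
    rintro _ ⟨z, rfl⟩
    exact ⟨AlgSp.Points.map h'.hom z, by rw [← AlgSp.Points.map_comp, hfac']⟩
  have hi's : AlgSp.IsSeparatedMor i'.hom := Groth.Agent.S9937.result i' hZ'.1
  obtain ⟨hA, -⟩ := Groth.Agent.S10278.result h' h i' hfac hi's
  obtain ⟨hh'uc, -⟩ := hA hhuc
  have htri : h' ≫ (i' ≫ b) = h ≫ b := by rw [← Category.assoc, hfac]
  refine ⟨hhcl, Z', i', hZ'.1, hrange, ?_, ⟨?_, ?_⟩, ?_⟩
  · exact (Groth.Agent.S9926.result h' (h ≫ b) (i' ≫ b) htri hsurj hh'uc).2 hZ.1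
  · refine Groth.Agent.S9985.result @LocallyOfFiniteType (Or.inl rfl) i' b
      (Groth.Agent.S9953.result i' ?_) hb
    exact (AlgSp.repWith_iff _ _).2 ⟨hZ'.1.1, fun U V g fst snd sq => by
      haveI : IsClosedImmersion snd.left := hZ'.1.2 g fst snd sq
      exact (inferInstance : IsImmersion snd.left)⟩
  · exact Groth.Agent.S9915.result h' (h ≫ b) (i' ≫ b) htri hsurj hZ.2.1.2
  · exact Groth.Agent.S10279.result h' (h ≫ b) (i' ≫ b) htri hZ.2.2 hsurj

end Groth.Agent.Lib.Helper9.ProperImage
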