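import Mathlib
import Groth.Agent.Lib.Helper9ProperNhdCore

/-!
# Domination of local rings by valuation rings of the function field vs. lifts
-/

open CategoryTheory CategoryTheory.Limits AlgebraicGeometry IsLocalRing TopologicalSpace

universe u

namespace Groth.Agent.Lib.Helper9.ProperNhd

set_option backward.isDefEq.respectTransparency false

/-- A morphism from the spectrum of a local ring lands in every open containing the image of the
closed point. -/
lemma range_subset_of_closedPoint_mem {R : Type u} [CommRing R] [IsLocalRing R] {Y : Scheme.{u}}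
    (b : Spec (CommRingCat.of R) ⟶ Y) (V : Y.Opens) (h : b (closedPoint R) ∈ V) :
    Set.range b ⊆ (V : Set Y) := by
  rintro _ ⟨z, rfl⟩
  exact ((IsLocalRing.specializes_closedPoint z).map b.continuous).mem_open V.2 h

/-- Two morphisms from the spectrum of a valuation subring agreeing at the generic point and at
the closed point are equal. -/
theorem eq_of_comp_eq_of_closedPoint {L : Type u} [Field L] (A : ValuationSubring L)
    {Y : Scheme.{u}} (b₁ b₂ : Spec (CommRingCat.of A) ⟶ Y)
    (h : Spec.map (CommRingCat.ofHom A.subtype) ≫ b₁ = Spec.map (CommRingCat.ofHom A.subtype) ≫ b₂)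
    (hc : b₁ (closedPoint A) = b₂ (closedPoint A)) : b₁ = b₂ := by
  obtain ⟨V, hV, hyV, -⟩ := exists_isAffineOpen_mem_and_subset (U := ⊤)
    (x := b₁ (closedPoint A)) (by simp)
  haveI : IsAffine V := hV
  have hr₁ : Set.range b₁ ⊆ Set.range V.ι := by
    simpa using range_subset_of_closedPoint_mem b₁ V hyV
  have hr₂ : Set.range b₂ ⊆ Set.range V.ι := by
    simpa using range_subset_of_closedPoint_mem b₂ V (hc ▸ hyV)
  let c₁ := IsOpenImmersion.lift V.ι b₁ hr₁
  let c₂ := IsOpenImmersion.lift V.ι b₂ hr₂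
  have hc₁ : c₁ ≫ V.ι = b₁ := IsOpenImmersion.lift_fac _ _ _
  have hc₂ : c₂ ≫ V.ι = b₂ := IsOpenImmersion.lift_fac _ _ _
  have hcc : Spec.map (CommRingCat.ofHom A.subtype) ≫ c₁ =
      Spec.map (CommRingCat.ofHom A.subtype) ≫ c₂ := by
    rw [← cancel_mono V.ι, Category.assoc, Category.assoc, hc₁, hc₂, h]
  have halg : Spec.map (CommRingCat.ofHom (algebraMap A L)) =
      Spec.map (CommRingCat.ofHom A.subtype) := rfl
  let S₂ : ValuativeCommSq (terminal.from (V : Scheme.{u})) :=
    { R := A, K := L, i₁ := Spec.map (CommRingCat.ofHom A.subtype) ≫ c₁,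
      i₂ := terminal.from _,
      commSq := ⟨Subsingleton.elim _ _⟩ }
  have huniq := IsSeparated.valuativeCriterion (terminal.from (V : Scheme.{u})) S₂
  have h12 : c₁ = c₂ := by
    have h := huniq.elim ⟨c₁, by rw [halg], Subsingleton.elim _ _⟩
      ⟨c₂, by rw [halg, ← hcc], Subsingleton.elim _ _⟩
    exact congrArg CommSq.LiftStruct.l h
  rw [← hc₁, ← hc₂, h12]


/-- A morphism from `Spec A` whose restriction to the generic point is `fromSpecStalk ξ`: the
local ring at the image of the closed point is dominated by `A`. -/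
theorem dominates_of_lift {X : Scheme.{u}} [IsIntegral X]
    (A : ValuationSubring X.functionField) (l : Spec (CommRingCat.of A) ⟶ X)
    (hl : Spec.map (CommRingCat.ofHom A.subtype) ≫ l = X.fromSpecStalk (genericPoint X)) :
    (∀ r : X.presheaf.stalk (l (closedPoint A)),
        (X.presheaf.stalkSpecializes (genericPoint_specializes (l (closedPoint A)))) r ∈ A) ∧
      (∀ r ∈ maximalIdeal (X.presheaf.stalk (l (closedPoint A))),
        (X.presheaf.stalkSpecializes (genericPoint_specializes (l (closedPoint A)))) r ∈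
          A.nonunits) := by
  set x := l (closedPoint A) with hx
  let θ : X.presheaf.stalk x ⟶ CommRingCat.of A := Scheme.stalkClosedPointTo l
  have hθl : Spec.map θ ≫ X.fromSpecStalk x = l := Scheme.Spec_stalkClosedPointTo_fromSpecStalk l
  have key : θ ≫ CommRingCat.ofHom A.subtype =
      X.presheaf.stalkSpecializes (genericPoint_specializes x) := by
    apply Spec.map_injective
    rw [← cancel_mono (X.fromSpecStalk x), Spec.map_comp, Category.assoc, hθl, hl,
      Scheme.SpecMap_stalkSpecializes_fromSpecStalk]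
  have key' : ∀ r, (X.presheaf.stalkSpecializes (genericPoint_specializes x)) r = (θ r : _) := by
    intro r
    rw [← key]
    rfl
  refine ⟨fun r => ?_, fun r hr => ?_⟩
  · rw [key']; exact (θ r).2
  · rw [key', ValuationSubring.mem_nonunits_iff_exists_mem_maximalIdeal]
    refine ⟨(θ r).2, ?_⟩
    rw [mem_maximalIdeal, mem_nonunits_iff] at hr ⊢
    intro hu
    exact hr (IsLocalHom.map_nonunit (f := θ.hom) r hu)


/-- From domination of `O_{Y,y}` by a valuation subring `A` of a field `L` (through a ring map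
`φ : O_{Y,y} → L`), a morphism `Spec A ⟶ Y` centred at `y`. -/
theorem exists_hom_of_dominates {Y : Scheme.{u}} (y : Y) {L : Type u} [Field L]
    (A : ValuationSubring L) (φ : Y.presheaf.stalk y ⟶ CommRingCat.of L)
    (h1 : ∀ r : Y.presheaf.stalk y, φ r ∈ A)
    (h2 : ∀ r ∈ maximalIdeal (Y.presheaf.stalk y), φ r ∈ A.nonunits) :
    ∃ a : Spec (CommRingCat.of A) ⟶ Y, a (closedPoint A) = y ∧
      Spec.map (CommRingCat.ofHom A.subtype) ≫ a = Spec.map φ ≫ Y.fromSpecStalk y := by
  let γ : Y.presheaf.stalk y ⟶ CommRingCat.of A := CommRingCat.ofHom (φ.hom.codRestrict A h1)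
  have hγ : γ ≫ CommRingCat.ofHom A.subtype = φ := by
    ext r; rfl
  have hloc : IsLocalHom γ.hom := by
    constructor
    intro r hu
    by_contra hr
    have hr' : r ∈ maximalIdeal (Y.presheaf.stalk y) := by
      rw [mem_maximalIdeal, mem_nonunits_iff]; exact hr
    have h3 := h2 r hr'
    rw [ValuationSubring.mem_nonunits_iff_exists_mem_maximalIdeal] at h3
    obtain ⟨h4, h5⟩ := h3
    rw [mem_maximalIdeal, mem_nonunits_iff] at h5
    exact h5 hu
  refine ⟨Spec.map γ ≫ Y.fromSpecStalk y, ?_, ?_⟩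
  · rw [Scheme.Hom.comp_apply]
    have : Spec.map γ (closedPoint A) = closedPoint (Y.presheaf.stalk y) :=
      comap_closedPoint γ.hom
    rw [this, Scheme.fromSpecStalk_closedPoint]
  · rw [← Category.assoc, ← Spec.map_comp, hγ]

/-- The direction "proper over a neighbourhood implies domination". -/
theorem dominates_of_universallyClosed_restrict {X Y : Scheme.{u}} [IsIntegral X]
    (f : X ⟶ Y) (y : Y) (hξ : f (genericPoint X) ⤳ y) (U : Y.Opens) (hyU : y ∈ U)
    [UniversallyClosed (f ∣_ U)] (A : ValuationSubring X.functionField)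
    (h1 : ∀ r : Y.presheaf.stalk y,
      (Y.presheaf.stalkSpecializes hξ ≫ f.stalkMap (genericPoint X)) r ∈ A)
    (h2 : ∀ r ∈ maximalIdeal (Y.presheaf.stalk y),
      (Y.presheaf.stalkSpecializes hξ ≫ f.stalkMap (genericPoint X)) r ∈ A.nonunits) :
    ∃ x : X, f x = y ∧
      (∀ r : X.presheaf.stalk x,
        (X.presheaf.stalkSpecializes (genericPoint_specializes x)) r ∈ A) ∧
      (∀ r ∈ maximalIdeal (X.presheaf.stalk x),
        (X.presheaf.stalkSpecializes (genericPoint_specializes x)) r ∈ A.nonunits) := by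
  obtain ⟨a, ha, hsq⟩ := exists_hom_of_dominates y A
    (Y.presheaf.stalkSpecializes hξ ≫ f.stalkMap (genericPoint X)) h1 h2
  have hsq' : Spec.map (CommRingCat.ofHom A.subtype) ≫ a =
      X.fromSpecStalk (genericPoint X) ≫ f := by
    rw [hsq, Spec.map_comp, Category.assoc, Scheme.SpecMap_stalkSpecializes_fromSpecStalk,
      Scheme.SpecMap_stalkMap_fromSpecStalk]
  -- restrict to `U`
  have hra : Set.range a ⊆ Set.range U.ι := by
    simpa using range_subset_of_closedPoint_mem a U (ha ▸ hyU)
  let a₀ := IsOpenImmersion.lift U.ι a hra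
  have ha₀ : a₀ ≫ U.ι = a := IsOpenImmersion.lift_fac _ _ _
  have hrt : Set.range (X.fromSpecStalk (genericPoint X)) ⊆ Set.range (f ⁻¹ᵁ U).ι := by
    rintro _ ⟨z, rfl⟩
    have h3 : f (X.fromSpecStalk (genericPoint X) z) ∈ U := by
      rw [← Scheme.Hom.comp_apply, ← hsq', Scheme.Hom.comp_apply]
      obtain ⟨u, hu⟩ := hra (Set.mem_range_self (Spec.map (CommRingCat.ofHom A.subtype) z))
      have hu2 : U.ι u ∈ U := u.2
      rw [hu] at hu2
      exact hu2
    simpa using h3
  let t₀ := IsOpenImmersion.lift (f ⁻¹ᵁ U).ι (X.fromSpecStalk (genericPoint X)) hrt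
  have ht₀ : t₀ ≫ (f ⁻¹ᵁ U).ι = X.fromSpecStalk (genericPoint X) :=
    IsOpenImmersion.lift_fac _ _ _
  have hex : ValuativeCriterion.Existence (f ∣_ U) := by
    have := UniversallyClosed.eq_valuativeCriterion ▸ (inferInstance : UniversallyClosed (f ∣_ U))
    exact this.1
  let S₁ : ValuativeCommSq (f ∣_ U) :=
    { R := A, K := X.functionField, i₁ := t₀, i₂ := a₀,
      commSq := ⟨by
        rw [← cancel_mono U.ι, Category.assoc, morphismRestrict_ι, ← Category.assoc, ht₀,
          Category.assoc, ha₀]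
        exact hsq'.symm⟩ }
  obtain ⟨⟨l₀, hl1, hl2⟩⟩ := (hex S₁).exists_lift
  let l := l₀ ≫ (f ⁻¹ᵁ U).ι
  have hl : Spec.map (CommRingCat.ofHom A.subtype) ≫ l = X.fromSpecStalk (genericPoint X) := by
    rw [← ht₀, ← Category.assoc]
    exact congrArg (· ≫ (f ⁻¹ᵁ U).ι) hl1
  have hlf : l ≫ f = a := by
    rw [Category.assoc, ← morphismRestrict_ι, ← Category.assoc, ← ha₀]
    exact congrArg (· ≫ U.ι) hl2
  obtain ⟨hd1, hd2⟩ := dominates_of_lift A l hl
  refine ⟨l (closedPoint A), ?_, hd1, hd2⟩
  rw [← Scheme.Hom.comp_apply, hlf, ha]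


/-- The direction "domination implies DVR lifts". -/
theorem dvrLifts_of_dominates {X Y : Scheme.{u}} [IsIntegral X] (f : X ⟶ Y) (y : Y)
    (hξ : f (genericPoint X) ⤳ y)
    (hval : ∀ A : ValuationSubring X.functionField, IsDiscreteValuationRing A →
      (∀ r : Y.presheaf.stalk y,
        (Y.presheaf.stalkSpecializes hξ ≫ f.stalkMap (genericPoint X)) r ∈ A) →
      (∀ r ∈ maximalIdeal (Y.presheaf.stalk y),
        (Y.presheaf.stalkSpecializes hξ ≫ f.stalkMap (genericPoint X)) r ∈ A.nonunits) →
      ∃ x : X, f x = y ∧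
        (∀ r : X.presheaf.stalk x,
          (X.presheaf.stalkSpecializes (genericPoint_specializes x)) r ∈ A) ∧
        (∀ r ∈ maximalIdeal (X.presheaf.stalk x),
          (X.presheaf.stalkSpecializes (genericPoint_specializes x)) r ∈ A.nonunits)) :
    DvrLifts f y {genericPoint X} := by
  intro d hd L _ e _ A' hA' a ha hcomm
  rw [Set.mem_singleton_iff] at hd
  subst hd
  subst ha
  -- the field isomorphism
  obtain ⟨θc, hθc⟩ : ∃ θc : X.presheaf.stalk (genericPoint X) ⟶ CommRingCat.of L,
      θc = X.residue (genericPoint X) ≫ e := ⟨_, rfl⟩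
  let θ : X.functionField →+* L := θc.hom
  have hθinj : Function.Injective θ := RingHom.injective θ
  have hθsurj : Function.Surjective θ := by
    have h1 : Function.Surjective e.hom := (ConcreteCategory.bijective_of_isIso e).2
    have h2 : Function.Surjective (X.residue (genericPoint X)).hom := X.residue_surjective (genericPoint X)
    have : θ = e.hom.comp (X.residue (genericPoint X)).hom := by
      change θc.hom = _
      rw [hθc]; rfl
    rw [this]
    exact h1.comp h2
  have hθSpec : Spec.map θc ≫ X.fromSpecStalk (genericPoint X) =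
      Spec.map e ≫ X.fromSpecResidueField (genericPoint X) := by
    rw [hθc, Spec.map_comp, Category.assoc]
    rfl
  let A : ValuationSubring X.functionField := A'.comap θ
  let ρ : A →+* A' := θ.restrict A A' (fun x hx => hx)
  have hρinj : Function.Injective ρ := fun x y hxy =>
    Subtype.ext (hθinj (congrArg Subtype.val hxy))
  have hρsurj : Function.Surjective ρ := by
    rintro ⟨z, hz⟩
    obtain ⟨k, rfl⟩ := hθsurj z
    exact ⟨⟨k, hz⟩, rfl⟩
  let ρe : A ≃+* A' := RingEquiv.ofBijective ρ ⟨hρinj, hρsurj⟩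
  haveI := hA'
  have hA : IsDiscreteValuationRing A := IsDiscreteValuationRing.RingEquivClass.isDiscreteValuationRing ρe.symm
  -- the local homomorphism from `a`
  let γ : Y.presheaf.stalk (a (closedPoint A')) ⟶ CommRingCat.of A' := Scheme.stalkClosedPointTo a
  have hγa : Spec.map γ ≫ Y.fromSpecStalk (a (closedPoint A')) = a := Scheme.Spec_stalkClosedPointTo_fromSpecStalk a
  obtain ⟨φY, hφYdef⟩ : ∃ φY : Y.presheaf.stalk (a (closedPoint A')) ⟶
      X.presheaf.stalk (genericPoint X),
      φY = Y.presheaf.stalkSpecializes hξ ≫ f.stalkMap (genericPoint X) := ⟨_, rfl⟩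
  have hφY : Spec.map φY ≫ Y.fromSpecStalk (a (closedPoint A')) =
      X.fromSpecStalk (genericPoint X) ≫ f := by
    rw [hφYdef, Spec.map_comp, Category.assoc, Scheme.SpecMap_stalkSpecializes_fromSpecStalk,
      Scheme.SpecMap_stalkMap_fromSpecStalk]
  have key1 : γ ≫ CommRingCat.ofHom A'.subtype = φY ≫ θc := by
    apply Spec.map_injective
    rw [← cancel_mono (Y.fromSpecStalk (a (closedPoint A')))]
    calc Spec.map (γ ≫ CommRingCat.ofHom A'.subtype) ≫ Y.fromSpecStalk (a (closedPoint A'))
        = Spec.map (CommRingCat.ofHom A'.subtype) ≫ Spec.map γ ≫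
            Y.fromSpecStalk (a (closedPoint A')) := by rw [Spec.map_comp, Category.assoc]
      _ = Spec.map (CommRingCat.ofHom A'.subtype) ≫ a := by rw [hγa]
      _ = Spec.map e ≫ X.fromSpecResidueField (genericPoint X) ≫ f := hcomm
      _ = (Spec.map θc ≫ X.fromSpecStalk (genericPoint X)) ≫ f := by
          rw [hθSpec, Category.assoc]
      _ = Spec.map θc ≫ Spec.map φY ≫ Y.fromSpecStalk (a (closedPoint A')) := by
          rw [Category.assoc, hφY]
      _ = Spec.map (φY ≫ θc) ≫ Y.fromSpecStalk (a (closedPoint A')) := by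
          rw [Spec.map_comp, Category.assoc]
  have key1' : ∀ r, θ (φY r) = (γ r : L) := by
    intro r
    have := congrArg (fun g => g r) key1
    exact this.symm
  have h1 : ∀ r : Y.presheaf.stalk (a (closedPoint A')), φY r ∈ A := by
    intro r
    rw [ValuationSubring.mem_comap, key1']
    exact (γ r).2
  have h2 : ∀ r ∈ maximalIdeal (Y.presheaf.stalk (a (closedPoint A'))), φY r ∈ A.nonunits := by
    intro r hr
    rw [ValuationSubring.mem_nonunits_iff_exists_mem_maximalIdeal]
    refine ⟨h1 r, ?_⟩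
    rw [mem_maximalIdeal, mem_nonunits_iff] at hr ⊢
    intro hu
    have hu' : IsUnit (ρ ⟨φY r, h1 r⟩) := hu.map ρ
    have : ρ ⟨φY r, h1 r⟩ = γ r := Subtype.ext (key1' r)
    rw [this] at hu'
    exact hr (IsLocalHom.map_nonunit (f := γ.hom) r hu')
  rw [hφYdef] at h1 h2
  obtain ⟨x, hfx, hx1, hx2⟩ := hval A hA h1 h2
  let ψ := X.presheaf.stalkSpecializes (genericPoint_specializes x)
  let lam : X.presheaf.stalk x ⟶ CommRingCat.of A' :=
    CommRingCat.ofHom ((θ.comp ψ.hom).codRestrict A' (fun r => hx1 r))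
  have hlam : lam ≫ CommRingCat.ofHom A'.subtype = ψ ≫ θc := by
    ext r; rfl
  have hlamloc : IsLocalHom lam.hom := by
    constructor
    intro r hu
    by_contra hr
    have hr' : r ∈ maximalIdeal (X.presheaf.stalk x) := by
      rw [mem_maximalIdeal, mem_nonunits_iff]; exact hr
    have h3 := hx2 r hr'
    rw [ValuationSubring.mem_nonunits_iff_exists_mem_maximalIdeal] at h3
    obtain ⟨h4, h5⟩ := h3
    rw [mem_maximalIdeal, mem_nonunits_iff] at h5
    apply h5
    have h6 : ρe ⟨ψ r, h4⟩ = lam r := Subtype.ext rfl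
    have h7 : IsUnit (ρe ⟨ψ r, h4⟩) := by rw [h6]; exact hu
    exact (MulEquiv.isUnit_map ρe.toMulEquiv).mp h7
  let l : Spec (CommRingCat.of A') ⟶ X := Spec.map lam ≫ X.fromSpecStalk x
  have hlc : l (closedPoint A') = x := by
    rw [Scheme.Hom.comp_apply]
    have : Spec.map lam (closedPoint A') = closedPoint (X.presheaf.stalk x) :=
      comap_closedPoint lam.hom
    rw [this, Scheme.fromSpecStalk_closedPoint]
  have hl2 : Spec.map (CommRingCat.ofHom A'.subtype) ≫ l =
      Spec.map e ≫ X.fromSpecResidueField (genericPoint X) := by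
    rw [← Category.assoc, ← Spec.map_comp, hlam, Spec.map_comp, Category.assoc,
      Scheme.SpecMap_stalkSpecializes_fromSpecStalk, hθSpec]
  refine ⟨l, ?_, hl2⟩
  apply eq_of_comp_eq_of_closedPoint A'
  · rw [← Category.assoc, hl2, hcomm, Category.assoc]
  · rw [Scheme.Hom.comp_apply, hlc, hfx]

end Groth.Agent.Lib.Helper9.ProperNhd
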