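import Mathlib
import Groth.Agent.Lib.Helper9ProperNhdDom
import Groth.Agent.Lib.Helper10RedInd

/-!
# Properness at a point of the closure of a subset: DVR sections criterion (lemmas)
-/

open CategoryTheory CategoryTheory.Limits AlgebraicGeometry IsLocalRing TopologicalSpace

universe u

namespace Groth.Agent.Lib.Helper9.ProperNhd

set_option backward.isDefEq.respectTransparency false

/-- A field between a domain and its fraction field (as a factorization) is the fraction field. -/
lemma bijective_of_comp_eq_algebraMap {A K L : Type*} [CommRing A] [IsDomain A] [Field K] [Field L]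
    [Algebra A L] [IsFractionRing A L] (i : A →+* K) (q : K →+* L)
    (h : q.comp i = algebraMap A L) : Function.Bijective q := by
  refine ⟨q.injective, fun z => ?_⟩
  obtain ⟨x, y, -, rfl⟩ := IsFractionRing.div_surjective (A := A) z
  refine ⟨i x / i y, ?_⟩
  rw [map_div₀, ← RingHom.comp_apply, ← RingHom.comp_apply, h]

/-- Residue-field version. -/
lemma bijective_of_SpecMap_comp_fromSpecResidueField {A : Type u} [CommRing A] [IsDomain A]
    {L : Type u} [Field L] [Algebra A L] [IsFractionRing A L] (z : Spec (CommRingCat.of A))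
    (q : (Spec (CommRingCat.of A)).residueField z ⟶ CommRingCat.of L)
    (h : Spec.map q ≫ (Spec (CommRingCat.of A)).fromSpecResidueField z =
      Spec.map (CommRingCat.ofHom (algebraMap A L))) : Function.Bijective q.hom := by
  let i : CommRingCat.of A ⟶ (Spec (CommRingCat.of A)).residueField z :=
    CommRingCat.ofHom (algebraMap A z.asIdeal.ResidueField) ≫
      (Scheme.Spec.residueFieldIso (CommRingCat.of A) z).inv
  have hi : Spec.map i = (Spec (CommRingCat.of A)).fromSpecResidueField z := by
    rw [Spec.map_comp]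
    exact Scheme.Spec.map_residueFieldIso_inv_eq_fromSpecResidueField (CommRingCat.of A) z
  have h2 : i ≫ q = CommRingCat.ofHom (algebraMap A L) := by
    apply Spec.map_injective
    rw [Spec.map_comp, hi, h]
  apply bijective_of_comp_eq_algebraMap (A := A) i.hom q.hom
  rw [← CommRingCat.hom_comp, h2]
  rfl

/-- Two `L`-points with the same image point and the same composite to `S` agree, if the residue
field map at that point is surjective. -/
theorem eq_of_comp_eq_of_apply_eq {P S : Scheme.{u}} (π : P ⟶ S) {L : Type u} [Field L]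
    (τ τ' : Spec (CommRingCat.of L) ⟶ P) (h : τ ≫ π = τ' ≫ π) (x : P)
    (hτ : τ (closedPoint L) = x) (hτ' : τ' (closedPoint L) = x)
    (hsurj : Function.Surjective (π.residueFieldMap x).hom) : τ = τ' := by
  obtain ⟨⟨x₁, ρ₁⟩, rfl⟩ := (Scheme.SpecToEquivOfField L P).symm.surjective τ
  obtain ⟨⟨x₂, ρ₂⟩, rfl⟩ := (Scheme.SpecToEquivOfField L P).symm.surjective τ'
  simp only [Scheme.SpecToEquivOfField_symm_apply] at h hτ hτ' ⊢
  have hx1 : x₁ = x := by
    simpa [Scheme.fromSpecResidueField_apply] using hτ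
  have hx2 : x₂ = x := by
    simpa [Scheme.fromSpecResidueField_apply] using hτ'
  subst hx1
  subst hx2
  have hepi : Epi (π.residueFieldMap x₂) :=
    ConcreteCategory.epi_of_surjective _ hsurj
  have : ρ₁ = ρ₂ := by
    rw [← cancel_epi (π.residueFieldMap x₂)]
    apply Spec.map_injective
    rw [← cancel_mono (S.fromSpecResidueField (π x₂)), Spec.map_comp, Spec.map_comp,
      Category.assoc, Category.assoc, Scheme.Hom.SpecMap_residueFieldMap_fromSpecResidueField,
      ← Category.assoc, ← Category.assoc]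
    exact h
  rw [this]


open Scheme.IdealSheafData in
/-- A morphism from a reduced scheme with range in a closed set factors through the reduced
induced closed subscheme. -/
theorem exists_lift_subschemeι {T W : Scheme.{u}} [IsReduced T] (g : T ⟶ W) (C : Closeds W)
    (hg : Set.range g ⊆ (C : Set W)) :
    ∃ g' : T ⟶ (vanishingIdeal C).subscheme, g' ≫ (vanishingIdeal C).subschemeι = g := by
  have hker : (vanishingIdeal C).subschemeι.ker ≤ g.ker := by
    rw [ker_subschemeι, Groth.Agent.Lib.Helper10.RedInd.ker_eq_vanishingIdeal_of_isReduced]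
    apply vanishingIdeal_antimono
    change (Closeds.closure (Set.range g) : Set W) ⊆ (C : Set W)
    exact closure_minimal hg C.isClosed
  exact ⟨IsClosedImmersion.lift _ g hker, IsClosedImmersion.lift_fac _ _ _⟩

/-- Every point of a quasi-sober T0 space is a specialization of a maximal point. -/
theorem exists_maximal_specializes {T : Type*} [TopologicalSpace T] [QuasiSober T] [T0Space T]
    (z : T) : ∃ d : T, d ⤳ z ∧ ∀ d' : T, d' ⤳ d → d' = d := by
  obtain ⟨d, hd⟩ := QuasiSober.sober (isIrreducible_irreducibleComponent (x := z))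
    isClosed_irreducibleComponent
  refine ⟨d, ?_, ?_⟩
  · rw [specializes_iff_mem_closure, hd.def]
    exact mem_irreducibleComponent
  · intro d' hd'
    have h1 : irreducibleComponent z ⊆ closure {d'} := by
      rw [← hd.def]
      exact hd'.closure_subset  -- placeholder
    have h2 : closure {d'} = irreducibleComponent z :=
      eq_irreducibleComponent (isIrreducible_singleton.closure).isPreirreducible h1
    have h3 : d ⤳ d' := by
      rw [specializes_iff_mem_closure, hd.def, ← h2]
      exact subset_closure rfl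
    exact (hd'.antisymm h3).eq


open Scheme.IdealSheafData in
/-- Points of the reduced closed subscheme on `closure Z` are specializations of points over
`Z`, if the maximal points of `closure Z` lie in `Z`. -/
theorem exists_mem_specializes_closure {X : Scheme.{u}} (Z : Set X) (C : Closeds X)
    (hC : (C : Set X) = closure Z)
    (hZ : ∀ z ∈ closure Z, (∀ z' ∈ closure Z, z ∈ closure {z'} → z' = z) → z ∈ Z)
    (z : (vanishingIdeal C).subscheme) :
    ∃ d ∈ ((vanishingIdeal C).subschemeι ⁻¹' Z), d ⤳ z := by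
  have hrι : Set.range (vanishingIdeal C).subschemeι = closure Z := by
    rw [(vanishingIdeal C).range_subschemeι, coe_support_vanishingIdeal, hC]
  obtain ⟨d, hd1, hd2⟩ := exists_maximal_specializes z
  refine ⟨d, ?_, hd1⟩
  apply hZ
  · rw [← hrι]; exact ⟨d, rfl⟩
  · intro z' hz' hdz'
    rw [← hrι] at hz'
    obtain ⟨d'', rfl⟩ := hz'
    have h1 : (vanishingIdeal C).subschemeι d'' ⤳ (vanishingIdeal C).subschemeι d := by
      rw [specializes_iff_mem_closure]; exact hdz'
    have h2 : d'' ⤳ d :=
      ((vanishingIdeal C).subschemeι.isEmbedding.isInducing.specializes_iff).mp h1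
    rw [hd2 d'' h2]


/-- The image of the point of `Spec L` in `Spec A` (`A` a valuation subring of `L`) is the generic
point. -/
lemma SpecMap_subtype_closedPoint {L : Type u} [Field L] (A : ValuationSubring L) :
    Spec.map (CommRingCat.ofHom A.subtype) (closedPoint L) =
      genericPoint (Spec (CommRingCat.of A)) := by
  rw [genericPoint_eq_bot_of_affine]
  apply PrimeSpectrum.ext
  change Ideal.comap A.subtype (maximalIdeal L) = ⊥
  rw [IsLocalRing.maximalIdeal_eq_bot]
  exact Ideal.comap_bot_of_injective _ Subtype.val_injective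

open Scheme.IdealSheafData in
set_option maxHeartbeats 1000000 in
/-- DVR lifts for the reduced subscheme on `closure Z` from the sections hypothesis. -/
theorem dvrLifts_of_sections {X Y : Scheme.{u}} (f : X ⟶ Y) (Z : Set X) (C : Closeds X)
    (hC : (C : Set X) = closure Z) (y : Y)
    (h : ∀ (A' : Type u) [CommRing A'] [IsDomain A'] [IsDiscreteValuationRing A']
        (g : Spec (CommRingCat.of A') ⟶ Y), g (closedPoint A') = y →
        ∀ x' : ↥(pullback f g), (pullback.fst f g) x' ∈ Z →
          (pullback.snd f g) x' = genericPoint (Spec (CommRingCat.of A')) →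
          Function.Bijective ((pullback.snd f g).residueFieldMap x').hom →
          ∃ s : Spec (CommRingCat.of A') ⟶ pullback f g, s ≫ pullback.snd f g = 𝟙 _ ∧
            x' ∈ Set.range s) :
    DvrLifts ((vanishingIdeal C).subschemeι ≫ f) y ((vanishingIdeal C).subschemeι ⁻¹' Z) := by
  intro d hd L _ e _ A hA a ha hcomm
  haveI := hA
  obtain ⟨ιC, hιC⟩ : ∃ ιC : (vanishingIdeal C).subscheme ⟶ X, ιC = (vanishingIdeal C).subschemeι :=
    ⟨_, rfl⟩
  rw [← hιC] at hcomm hd ⊢
  obtain ⟨ε, hε⟩ : ∃ ε : Spec (CommRingCat.of L) ⟶ Spec (CommRingCat.of A),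
    ε = Spec.map (CommRingCat.ofHom A.subtype) := ⟨_, rfl⟩
  rw [← hε] at hcomm ⊢
  obtain ⟨t₀, ht₀⟩ : ∃ t₀ : Spec (CommRingCat.of L) ⟶ (vanishingIdeal C).subscheme,
    t₀ = Spec.map e ≫ (vanishingIdeal C).subscheme.fromSpecResidueField d := ⟨_, rfl⟩
  have ht₀pt : t₀ (closedPoint L) = d := by
    rw [ht₀, Scheme.Hom.comp_apply, Scheme.fromSpecResidueField_apply]
  have hcomm' : ε ≫ a = t₀ ≫ ιC ≫ f := by
    rw [hcomm, ht₀, Category.assoc]
  rw [← Category.assoc, ← ht₀] at hcomm
  have hεpt : ε (closedPoint L) = genericPoint (Spec (CommRingCat.of A)) := by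
    rw [hε]; exact SpecMap_subtype_closedPoint A
  let τ : Spec (CommRingCat.of L) ⟶ pullback f a :=
    pullback.lift (t₀ ≫ ιC) ε (by rw [Category.assoc, hcomm'])
  have hτ1 : τ ≫ pullback.fst f a = t₀ ≫ ιC := pullback.lift_fst _ _ _
  have hτ2 : τ ≫ pullback.snd f a = ε := pullback.lift_snd _ _ _
  obtain ⟨x', hx'⟩ : ∃ x' : ↥(pullback f a), x' = τ (closedPoint L) := ⟨_, rfl⟩
  have hfst : (pullback.fst f a) x' = ιC d := by
    rw [hx', ← Scheme.Hom.comp_apply, hτ1, Scheme.Hom.comp_apply, ht₀pt]
  have hsnd : (pullback.snd f a) x' = genericPoint (Spec (CommRingCat.of A)) := by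
    rw [hx', ← Scheme.Hom.comp_apply, hτ2, hεpt]
  have hbij : Function.Bijective ((pullback.snd f a).residueFieldMap x').hom := by
    subst hx'
    let r₁ := (pullback.snd f a).residueFieldMap (τ (closedPoint L))
    let r₂ : (pullback f a).residueField (τ (closedPoint L)) ⟶ CommRingCat.of L :=
      Scheme.descResidueField (Scheme.stalkClosedPointTo τ)
    have hr₂ : Spec.map r₂ ≫ (pullback f a).fromSpecResidueField (τ (closedPoint L)) = τ :=
      Scheme.descResidueField_stalkClosedPointTo_fromSpecResidueField L _ τ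
    have hq : Spec.map (r₁ ≫ r₂) ≫
        (Spec (CommRingCat.of A)).fromSpecResidueField ((pullback.snd f a) (τ (closedPoint L))) =
        Spec.map (CommRingCat.ofHom (algebraMap A L)) := by
      rw [Spec.map_comp, Category.assoc,
        Scheme.Hom.SpecMap_residueFieldMap_fromSpecResidueField, ← Category.assoc, hr₂, hτ2, hε]
      rfl
    have hqb := bijective_of_SpecMap_comp_fromSpecResidueField (A := A) (L := L) _ (r₁ ≫ r₂) hq
    refine ⟨RingHom.injective _, ?_⟩
    have hr₂inj : Function.Injective r₂.hom := RingHom.injective _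
    have hcomp : Function.Surjective (r₂.hom ∘ r₁.hom) := by
      have := hqb.2
      rwa [CommRingCat.hom_comp, RingHom.coe_comp] at this
    exact Function.Surjective.of_comp_left hcomp hr₂inj
  obtain ⟨s, hs1, hs2⟩ := h A a ha x' (hfst ▸ hd) hsnd hbij
  -- the section restricted to the generic point is `τ`
  have hττ' : τ = ε ≫ s := by
    apply eq_of_comp_eq_of_apply_eq (pullback.snd f a) τ (ε ≫ s) _ x' hx'.symm _ hbij.2
    · rw [hτ2, Category.assoc, hs1, Category.comp_id]
    · obtain ⟨w, hw⟩ := hs2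
      have hw2 : w = ε (closedPoint L) := by
        have h3 : (s ≫ pullback.snd f a) w = w := by rw [hs1]; rfl
        rw [Scheme.Hom.comp_apply, hw, hsnd] at h3
        rw [← h3, hεpt]
      rw [Scheme.Hom.comp_apply, ← hw2, hw]
  let l : Spec (CommRingCat.of A) ⟶ X := s ≫ pullback.fst f a
  have hlf : l ≫ f = a := by
    rw [Category.assoc, pullback.condition, ← Category.assoc, hs1, Category.id_comp]
  have hεl : ε ≫ l = t₀ ≫ ιC := by
    rw [← Category.assoc, ← hττ', hτ1]
  -- lift through the closed subscheme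
  have hrange : Set.range l ⊆ (C : Set X) := by
    rintro _ ⟨w, rfl⟩
    have h1 : ε (closedPoint L) ⤳ w := by rw [hεpt]; exact genericPoint_specializes w
    have h2 : l (ε (closedPoint L)) ∈ (C : Set X) := by
      have hrι : Set.range (vanishingIdeal C).subschemeι = (C : Set X) := by
        rw [(vanishingIdeal C).range_subschemeι, coe_support_vanishingIdeal]
      rw [← Scheme.Hom.comp_apply, hεl, Scheme.Hom.comp_apply, ht₀pt, hιC, ← hrι]
      exact ⟨d, rfl⟩
    exact (h1.map l.continuous).mem_closed C.isClosed h2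
  obtain ⟨l', hl'⟩ := exists_lift_subschemeι l C hrange
  rw [← hιC] at hl'
  haveI : Mono ιC := by rw [hιC]; infer_instance
  refine ⟨l', ?_, ?_⟩
  · rw [← Category.assoc, hl', hlf]
  · rw [← cancel_mono ιC, Category.assoc, hl', hεl, ht₀]


open Scheme.IdealSheafData in
/-- Transfer of properness between the restriction of the reduced subscheme on `C` and the
reduced subscheme on the preimage of `C`. -/
theorem isProper_subschemeι_comp_restrict {X Y : Scheme.{u}} (f : X ⟶ Y) (C : Closeds X)
    (U : Y.Opens) (hprop : IsProper (((vanishingIdeal C).subschemeι ≫ f) ∣_ U))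
    (CU : Closeds ((f ⁻¹ᵁ U : X.Opens) : Scheme.{u}))
    (hCU : (CU : Set ((f ⁻¹ᵁ U : X.Opens) : Scheme.{u})) = (f ⁻¹ᵁ U).ι ⁻¹' (C : Set X)) :
    IsProper ((vanishingIdeal CU).subschemeι ≫ (f ∣_ U)) := by
  have hrι : Set.range (vanishingIdeal C).subschemeι = (C : Set X) := by
    rw [(vanishingIdeal C).range_subschemeι, coe_support_vanishingIdeal]
  haveI : IsReduced (vanishingIdeal C).subscheme :=
    Groth.Agent.Lib.Helper10.RedInd.isReduced_subscheme_vanishingIdeal C
  haveI : IsReduced ((vanishingIdeal C).subschemeι ⁻¹ᵁ (f ⁻¹ᵁ U)).toScheme :=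
    isReduced_of_isOpenImmersion ((vanishingIdeal C).subschemeι ⁻¹ᵁ (f ⁻¹ᵁ U)).ι
  haveI : IsReduced (vanishingIdeal CU).subscheme :=
    Groth.Agent.Lib.Helper10.RedInd.isReduced_subscheme_vanishingIdeal CU
  haveI : IsClosedImmersion ((vanishingIdeal C).subschemeι ∣_ (f ⁻¹ᵁ U)) :=
    IsZariskiLocalAtTarget.restrict (P := @IsClosedImmersion) inferInstance _
  have hrange : Set.range ((vanishingIdeal C).subschemeι ∣_ (f ⁻¹ᵁ U)) =
      Set.range (vanishingIdeal CU).subschemeι := by
    rw [range_morphismRestrict, (vanishingIdeal CU).range_subschemeι,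
      coe_support_vanishingIdeal, hCU, hrι]
    rfl
  obtain ⟨e, he⟩ := Groth.Agent.Lib.Helper10.RedInd.exists_iso_of_isClosedImmersion
    ((vanishingIdeal C).subschemeι ∣_ (f ⁻¹ᵁ U)) (vanishingIdeal CU).subschemeι hrange
  have heq : (vanishingIdeal CU).subschemeι ≫ (f ∣_ U) =
      e.inv ≫ (((vanishingIdeal C).subschemeι ≫ f) ∣_ U) := by
    rw [morphismRestrict_comp, ← Category.assoc, ← he, e.inv_hom_id_assoc]
  rw [heq]
  infer_instance


open Scheme.IdealSheafData in
set_option maxHeartbeats 1000000 in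
/-- From properness of the reduced subscheme on the closure (over `U ∋ y`) to sections. -/
theorem exists_section_of_isProper {X Y : Scheme.{u}} (f : X ⟶ Y) (Z : Set X) (y : Y)
    (U : Y.Opens) (hyU : y ∈ U) (CU : Closeds ((f ⁻¹ᵁ U : X.Opens) : Scheme.{u}))
    (hCU : (CU : Set ((f ⁻¹ᵁ U : X.Opens) : Scheme.{u})) = (f ⁻¹ᵁ U).ι ⁻¹' (closure Z))
    (hprop : IsProper ((vanishingIdeal CU).subschemeι ≫ (f ∣_ U)))
    (A' : Type u) [CommRing A'] [IsDomain A'] [IsDiscreteValuationRing A']
    (g : Spec (CommRingCat.of A') ⟶ Y) (hg : g (closedPoint A') = y) (x' : ↥(pullback f g))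
    (hx'Z : (pullback.fst f g) x' ∈ Z)
    (hx'η : (pullback.snd f g) x' = genericPoint (Spec (CommRingCat.of A')))
    (hbij : Function.Bijective ((pullback.snd f g).residueFieldMap x').hom) :
    ∃ s : Spec (CommRingCat.of A') ⟶ pullback f g, s ≫ pullback.snd f g = 𝟙 _ ∧
      x' ∈ Set.range s := by
  obtain ⟨ε, hε⟩ : ∃ ε : Spec (CommRingCat.of (FractionRing A')) ⟶ Spec (CommRingCat.of A'),
    ε = Spec.map (CommRingCat.ofHom (algebraMap A' (FractionRing A'))) := ⟨_, rfl⟩
  have hεpt : ε (closedPoint (FractionRing A')) = genericPoint (Spec (CommRingCat.of A')) := by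
    rw [hε, genericPoint_eq_bot_of_affine]
    apply PrimeSpectrum.ext
    change Ideal.comap (algebraMap A' (FractionRing A')) (maximalIdeal (FractionRing A')) = ⊥
    rw [IsLocalRing.maximalIdeal_eq_bot]
    exact Ideal.comap_bot_of_injective _ (IsFractionRing.injective A' (FractionRing A'))
  obtain ⟨q, hq⟩ : ∃ q : (Spec (CommRingCat.of A')).residueField ((pullback.snd f g) x') ⟶
      CommRingCat.of (FractionRing A'),
      Spec.map q ≫ (Spec (CommRingCat.of A')).fromSpecResidueField ((pullback.snd f g) x') = ε := by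
    have hz : (pullback.snd f g) x' = ε (closedPoint (FractionRing A')) := by rw [hx'η, hεpt]
    rw [hz]
    exact ⟨Scheme.descResidueField (Scheme.stalkClosedPointTo ε),
      Scheme.descResidueField_stalkClosedPointTo_fromSpecResidueField (FractionRing A') _ ε⟩
  haveI : IsIso ((pullback.snd f g).residueFieldMap x') :=
    (ConcreteCategory.isIso_iff_bijective _).mpr hbij
  let ρ : (pullback f g).residueField x' ⟶ CommRingCat.of (FractionRing A') :=
    inv ((pullback.snd f g).residueFieldMap x') ≫ q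
  let σ : Spec (CommRingCat.of (FractionRing A')) ⟶ pullback f g :=
    Spec.map ρ ≫ (pullback f g).fromSpecResidueField x'
  have hσ2 : σ ≫ pullback.snd f g = ε := by
    rw [Category.assoc, ← Scheme.Hom.SpecMap_residueFieldMap_fromSpecResidueField,
      ← Category.assoc, ← Spec.map_comp, IsIso.hom_inv_id_assoc, hq]
  have hσpt : σ (closedPoint (FractionRing A')) = x' := by
    rw [Scheme.Hom.comp_apply, Scheme.fromSpecResidueField_apply]
  obtain ⟨t, ht⟩ : ∃ t : Spec (CommRingCat.of (FractionRing A')) ⟶ X,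
    t = σ ≫ pullback.fst f g := ⟨_, rfl⟩
  have htf : t ≫ f = ε ≫ g := by
    rw [ht, Category.assoc, pullback.condition, ← Category.assoc, hσ2]
  have htpt : ∀ w, t w ∈ Z := by
    intro w
    have : w = closedPoint (FractionRing A') := Subsingleton.elim _ _
    rw [this, ht, Scheme.Hom.comp_apply, hσpt]
    exact hx'Z
  have hgU : Set.range g ⊆ Set.range U.ι := by
    simpa using range_subset_of_closedPoint_mem g U (hg ▸ hyU)
  let g₁ := IsOpenImmersion.lift U.ι g hgU
  have hg₁ : g₁ ≫ U.ι = g := IsOpenImmersion.lift_fac _ _ _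
  have htU : Set.range t ⊆ Set.range (f ⁻¹ᵁ U).ι := by
    rintro _ ⟨w, rfl⟩
    have h3 : f (t w) ∈ U := by
      rw [← Scheme.Hom.comp_apply, htf, Scheme.Hom.comp_apply]
      obtain ⟨u, hu⟩ := hgU (Set.mem_range_self (ε w))
      have hu2 : U.ι u ∈ U := u.2
      rw [hu] at hu2
      exact hu2
    simpa using h3
  let t₁ := IsOpenImmersion.lift (f ⁻¹ᵁ U).ι t htU
  have ht₁ : t₁ ≫ (f ⁻¹ᵁ U).ι = t := IsOpenImmersion.lift_fac _ _ _
  have ht₁C : Set.range t₁ ⊆ (CU : Set ((f ⁻¹ᵁ U : X.Opens) : Scheme.{u})) := by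
    rintro _ ⟨w, rfl⟩
    rw [hCU]
    change (f ⁻¹ᵁ U).ι (t₁ w) ∈ closure Z
    rw [← Scheme.Hom.comp_apply, ht₁]
    exact subset_closure (htpt w)
  obtain ⟨t₂, ht₂⟩ := exists_lift_subschemeι t₁ CU ht₁C
  have hex : ValuativeCriterion.Existence ((vanishingIdeal CU).subschemeι ≫ (f ∣_ U)) := by
    have := UniversallyClosed.eq_valuativeCriterion ▸
      (inferInstance : UniversallyClosed ((vanishingIdeal CU).subschemeι ≫ (f ∣_ U)))
    exact this.1
  let S₁ : ValuativeCommSq ((vanishingIdeal CU).subschemeι ≫ (f ∣_ U)) :=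
    { R := A', K := FractionRing A', i₁ := t₂, i₂ := g₁,
      commSq := ⟨by
        rw [← cancel_mono U.ι]
        calc (t₂ ≫ (vanishingIdeal CU).subschemeι ≫ (f ∣_ U)) ≫ U.ι
            = (t₂ ≫ (vanishingIdeal CU).subschemeι) ≫ ((f ∣_ U) ≫ U.ι) := by
              simp only [Category.assoc]
          _ = t₁ ≫ (f ⁻¹ᵁ U).ι ≫ f := by rw [ht₂, morphismRestrict_ι]
          _ = t ≫ f := by rw [← Category.assoc, ht₁]
          _ = ε ≫ g := htf
          _ = (Spec.map (CommRingCat.ofHom (algebraMap A' (FractionRing A'))) ≫ g₁) ≫ U.ι := by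
              rw [Category.assoc, hg₁, hε]⟩ }
  obtain ⟨⟨l₀, hl1, hl2⟩⟩ := (hex S₁).exists_lift
  obtain ⟨l, hl⟩ : ∃ l : Spec (CommRingCat.of A') ⟶ X,
    l = l₀ ≫ (vanishingIdeal CU).subschemeι ≫ (f ⁻¹ᵁ U).ι := ⟨_, rfl⟩
  have hlf : l ≫ f = g := by
    rw [hl, Category.assoc, Category.assoc, ← morphismRestrict_ι, ← Category.assoc,
      ← Category.assoc, Category.assoc l₀, ← hg₁]
    exact congrArg (· ≫ U.ι) hl2
  have hεl : ε ≫ l = t := by
    calc ε ≫ l = (ε ≫ l₀) ≫ (vanishingIdeal CU).subschemeι ≫ (f ⁻¹ᵁ U).ι := by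
          rw [hl, Category.assoc]
      _ = t₂ ≫ (vanishingIdeal CU).subschemeι ≫ (f ⁻¹ᵁ U).ι := by
          rw [hε]
          exact congrArg (· ≫ (vanishingIdeal CU).subschemeι ≫ (f ⁻¹ᵁ U).ι) hl1
      _ = t := by rw [← Category.assoc, ht₂, ht₁]
  let s : Spec (CommRingCat.of A') ⟶ pullback f g :=
    pullback.lift l (𝟙 _) (by rw [hlf, Category.id_comp])
  have hs1 : s ≫ pullback.snd f g = 𝟙 _ := pullback.lift_snd _ _ _
  have hεs : ε ≫ s = σ := by
    apply pullback.hom_ext
    · rw [Category.assoc, pullback.lift_fst, hεl, ht]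
    · rw [Category.assoc, hs1, Category.comp_id, hσ2]
  refine ⟨s, hs1, ε (closedPoint (FractionRing A')), ?_⟩
  rw [← Scheme.Hom.comp_apply, hεs, hσpt]

end Groth.Agent.Lib.Helper9.ProperNhd
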