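import Groth.Agent.Lib.Helper9ProperImage
import Groth.Agent.S9917
import Groth.Agent.S10175
import Groth.Agent.S10280

/-!
# Finite jointly surjective families of morphisms of algebraic spaces

Family versions of "universal closedness / quasi-compactness / separatedness descend along a
surjective (universally closed) morphism".
-/

set_option autoImplicit false
universe u
open CategoryTheory CategoryTheory.Limits AlgebraicGeometry
open AlgSp

namespace Groth.Agent.Lib.Helper9.ProperUnion

open Groth.Agent.Lib.Helper12.Proper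

variable {S : Scheme.{u}}

/-- Universal closedness can be cancelled on the left by a finite jointly surjective family. -/
lemma isUnivClosedMor_of_jointly_surjective_comp {ι : Type*} [Finite ι] {X : ι → AlgSp.Sp S}
    {Y W : AlgSp.Sp S} (f : ∀ k, X k ⟶ Y) (g : Y ⟶ W)
    (hf : ∀ y : AlgSp.Points Y, ∃ k x, AlgSp.Points.map (f k) x = y)
    (h : ∀ k, AlgSp.IsUnivClosedMor (f k ≫ g)) : AlgSp.IsUnivClosedMor g := by
  intro Z Z' hZ c fst snd sq
  have hcl : ∀ k, IsClosedMap (AlgSp.Points.map (pullback.snd (f k) fst ≫ snd)) := fun k =>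
    h k hZ c (pullback.fst (f k) fst) (pullback.snd (f k) fst ≫ snd)
      ((IsPullback.of_hasPullback (f k) fst).paste_vert sq)
  have hsurj : ∀ y' : AlgSp.Points Z', ∃ k w, AlgSp.Points.map (pullback.snd (f k) fst) w = y' := by
    intro y'
    obtain ⟨k, x, hx⟩ := hf (AlgSp.Points.map fst y')
    obtain ⟨w, hw1, -⟩ := Groth.Agent.S10175.exists_point_of_isPullback
      (IsPullback.of_hasPullback (f k) fst).flip y' x hx.symm
    exact ⟨k, w, hw1⟩
  intro C hC
  have himg : AlgSp.Points.map snd '' C = ⋃ k, AlgSp.Points.map (pullback.snd (f k) fst ≫ snd) ''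
      (AlgSp.Points.map (pullback.snd (f k) fst) ⁻¹' C) := by
    ext y
    simp only [Set.mem_image, Set.mem_iUnion, Set.mem_preimage]
    constructor
    · rintro ⟨c', hc', rfl⟩
      obtain ⟨k, w, rfl⟩ := hsurj c'
      exact ⟨k, w, hc', AlgSp.Points.map_comp _ _ _⟩
    · rintro ⟨k, w, hw, rfl⟩
      exact ⟨_, hw, (AlgSp.Points.map_comp _ _ _).symm⟩
  rw [himg]
  exact isClosed_iUnion_of_finite
    (fun k => hcl k _ (hC.preimage (AlgSp.Points.continuous_map _)))

/-- Quasi-compactness descends along a finite jointly surjective family. -/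
lemma isQuasiCompactMor_of_jointly_surjective {ι : Type*} [Finite ι] {X : ι → AlgSp.Sp S}
    {Y Z : AlgSp.Sp S} (hY : AlgSp.IsAlgSpace Y) (hZ : AlgSp.IsAlgSpace Z)
    (f : ∀ k, X k ⟶ Y) (q : Y ⟶ Z)
    (hf : ∀ y : AlgSp.Points Y, ∃ k x, AlgSp.Points.map (f k) x = y)
    (hp : ∀ k, AlgSp.IsQuasiCompactMor (f k ≫ q)) : AlgSp.IsQuasiCompactMor q := by
  intro W W' hW hWc g fst snd sq
  have hW' : AlgSp.IsAlgSpace W' := Groth.Agent.S9874.isAlgSpace_of_isPullback hZ.diag hY hW sq
  rw [Groth.Agent.S10174.isQuasiCompactSp_iff hW']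
  have hcomp : ∀ k, CompactSpace (AlgSp.Points (pullback (f k) fst)) := fun k =>
    Groth.Agent.S9917.compactSpace_points_of_isQuasiCompactSp
      (hp k hW hWc g _ _ ((IsPullback.of_hasPullback (f k) fst).paste_vert sq))
  have huniv : (Set.univ : Set (AlgSp.Points W')) =
      ⋃ k, Set.range (AlgSp.Points.map (pullback.snd (f k) fst)) := by
    symm
    rw [Set.eq_univ_iff_forall]
    intro w'
    obtain ⟨k, x, hx⟩ := hf (AlgSp.Points.map fst w')
    obtain ⟨p, hp1, -⟩ := Groth.Agent.S10175.exists_point_of_isPullback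
      (IsPullback.of_hasPullback (f k) fst).flip w' x hx.symm
    exact Set.mem_iUnion.2 ⟨k, p, hp1⟩
  refine ⟨?_⟩
  rw [huniv]
  exact isCompact_iUnion (fun k => by
    haveI := hcomp k
    exact isCompact_range (AlgSp.Points.continuous_map _))

/-- For `f : X ⟶ Y` universally closed over `B` with `X` separated over `B`, the composite of `f`
with the diagonal of `Y` over `B` is universally closed. -/
lemma isUnivClosedMor_comp_diagonal {X Y B : AlgSp.Space S} (f : X ⟶ Y) (p : X ⟶ B)
    (q : Y ⟶ B) (comm : f ≫ q = p) (hc : AlgSp.IsUnivClosedMor f.hom)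
    (hsep : AlgSp.IsSeparatedMor p.hom) :
    AlgSp.IsUnivClosedMor (f.hom ≫ pullback.diagonal q.hom) := by
  have hcomm : f.hom ≫ q.hom = p.hom := by rw [← comm]; rfl
  have hXX : AlgSp.IsAlgSpace (pullback p.hom p.hom) :=
    Groth.Agent.S9874.isAlgSpace_of_isPullback B.property.diag X.property X.property
      (IsPullback.of_hasPullback _ _)
  have hYX : AlgSp.IsAlgSpace (pullback q.hom p.hom) :=
    Groth.Agent.S9874.isAlgSpace_of_isPullback B.property.diag Y.property X.property
      (IsPullback.of_hasPullback _ _)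
  have hYY : AlgSp.IsAlgSpace (pullback q.hom q.hom) :=
    Groth.Agent.S9874.isAlgSpace_of_isPullback B.property.diag Y.property Y.property
      (IsPullback.of_hasPullback _ _)
  have wa : (pullback.fst p.hom p.hom ≫ f.hom) ≫ q.hom = pullback.snd p.hom p.hom ≫ p.hom := by
    rw [Category.assoc, hcomm, pullback.condition]
  have wb : pullback.fst q.hom p.hom ≫ q.hom = (pullback.snd q.hom p.hom ≫ f.hom) ≫ q.hom := by
    rw [Category.assoc, hcomm, pullback.condition]
  obtain ⟨a, ha1, ha2⟩ : ∃ a : pullback p.hom p.hom ⟶ pullback q.hom p.hom,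
      a ≫ pullback.fst q.hom p.hom = pullback.fst p.hom p.hom ≫ f.hom ∧
      a ≫ pullback.snd q.hom p.hom = pullback.snd p.hom p.hom :=
    ⟨pullback.lift _ _ wa, pullback.lift_fst _ _ _, pullback.lift_snd _ _ _⟩
  obtain ⟨b, hb1, hb2⟩ : ∃ b : pullback q.hom p.hom ⟶ pullback q.hom q.hom,
      b ≫ pullback.fst q.hom q.hom = pullback.fst q.hom p.hom ∧
      b ≫ pullback.snd q.hom q.hom = pullback.snd q.hom p.hom ≫ f.hom :=
    ⟨pullback.lift _ _ wb, pullback.lift_fst _ _ _, pullback.lift_snd _ _ _⟩
  have sq1 : IsPullback a (pullback.fst p.hom p.hom) (pullback.fst q.hom p.hom) f.hom := by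
    refine IsPullback.of_right ?_ ha1 (IsPullback.of_hasPullback q.hom p.hom).flip
    rw [ha2, hcomm]
    exact (IsPullback.of_hasPullback p.hom p.hom).flip
  have sq2 : IsPullback b (pullback.snd q.hom p.hom) (pullback.snd q.hom q.hom) f.hom := by
    refine IsPullback.of_right ?_ hb2 (IsPullback.of_hasPullback q.hom q.hom)
    rw [hb1, hcomm]
    exact IsPullback.of_hasPullback q.hom p.hom
  have hua : AlgSp.IsUnivClosedMor a := isUnivClosedMor_baseChange sq1.flip hc
  have hub : AlgSp.IsUnivClosedMor b := isUnivClosedMor_baseChange sq2.flip hc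
  have hab : AlgSp.IsUnivClosedMor (a ≫ b) := isUnivClosedMor_comp hYX hYY a b hua hub
  have hΔ : f.hom ≫ pullback.diagonal q.hom = pullback.diagonal p.hom ≫ a ≫ b := by
    apply pullback.hom_ext
    · rw [Category.assoc, pullback.diagonal_fst, Category.comp_id, Category.assoc, Category.assoc,
        hb1, ha1, ← Category.assoc, pullback.diagonal_fst, Category.id_comp]
    · rw [Category.assoc, pullback.diagonal_snd, Category.comp_id, Category.assoc, Category.assoc,
        hb2, ← Category.assoc a, ha2, ← Category.assoc, pullback.diagonal_snd, Category.id_comp]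
  have hΔp : AlgSp.IsUnivClosedMor (pullback.diagonal p.hom) :=
    isUnivClosedMor_of_isClosedImmersion _ hsep
  have hcomp : AlgSp.IsUnivClosedMor (pullback.diagonal p.hom ≫ a ≫ b) :=
    isUnivClosedMor_comp hXX hYY _ _ hΔp hab
  rw [← hΔ] at hcomp
  exact hcomp

/-- Separatedness descends along a finite jointly surjective family of universally closed
morphisms. -/
lemma isSeparatedMor_of_jointly_surjective {ι : Type*} [Finite ι] {Y B : AlgSp.Space S}
    (X : ι → AlgSp.Space S) (f : ∀ k, X k ⟶ Y) (q : Y ⟶ B)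
    (hf : ∀ y : AlgSp.Points Y.obj, ∃ k x, AlgSp.Points.map (f k).hom x = y)
    (hc : ∀ k, AlgSp.IsUnivClosedMor (f k).hom)
    (hsep : ∀ k, AlgSp.IsSeparatedMor (f k ≫ q).hom) : AlgSp.IsSeparatedMor q.hom := by
  have key : ∀ k, AlgSp.IsUnivClosedMor ((f k).hom ≫ pullback.diagonal q.hom) := fun k =>
    isUnivClosedMor_comp_diagonal (f k) (f k ≫ q) q rfl (hc k) (hsep k)
  have hΔq : AlgSp.IsUnivClosedMor (pullback.diagonal q.hom) :=
    isUnivClosedMor_of_jointly_surjective_comp (fun k => (f k).hom) (pullback.diagonal q.hom) hf key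
  exact Groth.Agent.S10280.isSeparatedMor_of_isUnivClosedMor_diagonal q hΔq

end Groth.Agent.Lib.Helper9.ProperUnion
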