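import Mathlib

/-!
# Valuation rings with prescribed residue field extension (helper9)

`RefVal.exists_valuationSubring_residue`: for a local ring `O`, a ring map `ρ : O → L` to a field and a field
`k₁` over the residue field of `O`, there are a field extension `L₁` of `L` and a valuation subring `B₁` of `L₁`
dominating `O` whose residue field contains `k₁` (over the residue field of `O`).
-/

set_option autoImplicit false
set_option linter.style.haveILetI false
universe u

namespace Groth.Agent.Lib.Helper9.RefVal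

open IsLocalRing

theorem exists_valuationSubring_residue {O L k₁ : Type u} [CommRing O] [IsLocalRing O] [Field L]
    [Field k₁] (ρ : O →+* L) (σ : O →+* k₁) (hσ : ∀ o, σ o = 0 ↔ o ∈ maximalIdeal O) :
    ∃ (L₁ : Type u) (_ : Field L₁) (ι : L →+* L₁) (B₁ : ValuationSubring L₁) (θ : O →+* B₁)
      (τ : k₁ →+* ResidueField B₁),
      (∀ o, ((θ o : B₁) : L₁) = ι (ρ o)) ∧ IsLocalHom θ ∧ ∀ o, residue B₁ (θ o) = τ (σ o) := by
  classical
  let ev : MvPolynomial k₁ O →+* k₁ := MvPolynomial.eval₂Hom σ id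
  haveI h𝔫 : (RingHom.ker ev).IsPrime := RingHom.ker_isPrime ev
  let ρ₁ : MvPolynomial k₁ O →+* FractionRing (MvPolynomial k₁ L) :=
    (algebraMap (MvPolynomial k₁ L) (FractionRing (MvPolynomial k₁ L))).comp (MvPolynomial.map ρ)
  have hker : ∀ o, ρ o = 0 → o ∈ maximalIdeal O := by
    intro o ho
    rw [mem_maximalIdeal, mem_nonunits_iff]
    intro hu
    have h1 := hu.map ρ
    rw [ho] at h1
    exact not_isUnit_zero h1
  have hρ₁ : ∀ P : MvPolynomial k₁ O, P ∉ RingHom.ker ev → ρ₁ P ≠ 0 := by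
    intro P hP h0
    apply hP
    have h1 : MvPolynomial.map ρ P = 0 :=
      IsFractionRing.injective (MvPolynomial k₁ L) (FractionRing (MvPolynomial k₁ L))
        (by rw [map_zero]; exact h0)
    have h2 : ∀ m, σ (P.coeff m) = 0 := fun m => (hσ _).2 (hker _ (by
      have h3 := congrArg (MvPolynomial.coeff m) h1
      rw [MvPolynomial.coeff_map, MvPolynomial.coeff_zero] at h3
      exact h3))
    rw [RingHom.mem_ker]
    change MvPolynomial.eval₂ σ id P = 0
    rw [MvPolynomial.eval₂_eq]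
    exact Finset.sum_eq_zero (fun m _ => by rw [h2 m, zero_mul])
  -- the localization at the kernel of the evaluation
  let ρ₂ : Localization.AtPrime (RingHom.ker ev) →+* FractionRing (MvPolynomial k₁ L) :=
    IsLocalization.lift (M := (RingHom.ker ev).primeCompl) (g := ρ₁)
      (fun y => isUnit_iff_ne_zero.2 (hρ₁ y.1 y.2))
  have hρ₂ : ∀ P, ρ₂ (algebraMap _ _ P) = ρ₁ P := fun P => IsLocalization.lift_eq _ P
  have hev : ∀ P : MvPolynomial k₁ O, P ∉ RingHom.ker ev → ev P ≠ 0 := fun P hP h0 =>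
    hP ((RingHom.mem_ker).2 h0)
  let ev₂ : Localization.AtPrime (RingHom.ker ev) →+* k₁ :=
    IsLocalization.lift (M := (RingHom.ker ev).primeCompl) (g := ev)
      (fun y => isUnit_iff_ne_zero.2 (hev y.1 y.2))
  have hev₂ : ∀ P, ev₂ (algebraMap _ _ P) = ev P := fun P => IsLocalization.lift_eq _ P
  obtain ⟨B₁, hB₁, hloc⟩ := IsLocalRing.exists_factor_valuationRing ρ₂
  obtain ⟨θ₂, hθ₂⟩ : ∃ θ₂ : Localization.AtPrime (RingHom.ker ev) →+* B₁,
      θ₂ = ρ₂.codRestrict B₁.toSubring hB₁ := ⟨_, rfl⟩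
  haveI : IsLocalHom θ₂ := by rw [hθ₂]; exact hloc
  have hθ₂v : ∀ r, ((θ₂ r : B₁) : FractionRing (MvPolynomial k₁ L)) = ρ₂ r := fun r => by
    rw [hθ₂]; rfl
  obtain ⟨θ₀, hθ₀⟩ : ∃ θ₀ : O →+* Localization.AtPrime (RingHom.ker ev),
      θ₀ = (algebraMap (MvPolynomial k₁ O) (Localization.AtPrime (RingHom.ker ev))).comp
        MvPolynomial.C := ⟨_, rfl⟩
  have hevC : ∀ o, ev (MvPolynomial.C o) = σ o := fun o => by
    change MvPolynomial.eval₂ σ id (MvPolynomial.C o) = σ o
    rw [MvPolynomial.eval₂_C]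
  haveI hθ₀loc : IsLocalHom θ₀ := by
    refine ⟨fun o ho => ?_⟩
    rw [hθ₀, RingHom.comp_apply,
      IsLocalization.AtPrime.isUnit_to_map_iff (Localization.AtPrime (RingHom.ker ev))
        (RingHom.ker ev)] at ho
    have h1 : ev (MvPolynomial.C o) ≠ 0 := hev _ ho
    rw [hevC] at h1
    by_contra hu
    exact h1 ((hσ o).2 ((mem_maximalIdeal o).2 (mem_nonunits_iff.2 hu)))
  -- the residue field of the localization is `k₁`
  haveI hev₂loc : IsLocalHom ev₂ := by
    refine ⟨fun r hr => ?_⟩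
    obtain ⟨⟨P, s⟩, hPs⟩ := IsLocalization.surj (RingHom.ker ev).primeCompl r
    have h1 : ev₂ r * ev s.1 = ev P := by
      have h2 := congrArg ev₂ hPs
      rw [map_mul, hev₂, hev₂] at h2
      exact h2
    have h3 : ev P ≠ 0 := by
      rw [← h1]
      exact mul_ne_zero hr.ne_zero (hev s.1 s.2)
    have h4 : IsUnit (algebraMap (MvPolynomial k₁ O) (Localization.AtPrime (RingHom.ker ev)) P) := by
      rw [IsLocalization.AtPrime.isUnit_to_map_iff (Localization.AtPrime (RingHom.ker ev))
        (RingHom.ker ev)]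
      exact fun hP => h3 ((RingHom.mem_ker).1 hP)
    have h5 : IsUnit (algebraMap (MvPolynomial k₁ O) (Localization.AtPrime (RingHom.ker ev)) s.1) :=
      IsLocalization.map_units _ s
    rw [← hPs] at h4
    exact isUnit_of_mul_isUnit_left h4
  have hsurj : Function.Surjective (ResidueField.lift ev₂) := by
    intro s
    refine ⟨residue _ (algebraMap (MvPolynomial k₁ O) (Localization.AtPrime (RingHom.ker ev))
      (MvPolynomial.X s)), ?_⟩
    rw [ResidueField.lift_residue_apply, hev₂]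
    change MvPolynomial.eval₂ σ id (MvPolynomial.X s) = s
    rw [MvPolynomial.eval₂_X]; rfl
  let e₀ : ResidueField (Localization.AtPrime (RingHom.ker ev)) ≃+* k₁ :=
    RingEquiv.ofBijective (ResidueField.lift ev₂) ⟨(ResidueField.lift ev₂).injective, hsurj⟩
  have he₀ : ∀ o, e₀.symm (σ o) = residue _ (θ₀ o) := by
    intro o
    rw [RingEquiv.symm_apply_eq]
    change σ o = ResidueField.lift ev₂ (residue _ (θ₀ o))
    rw [ResidueField.lift_residue_apply, hθ₀, RingHom.comp_apply, hev₂, hevC]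
  refine ⟨FractionRing (MvPolynomial k₁ L), inferInstance,
    (algebraMap (MvPolynomial k₁ L) (FractionRing (MvPolynomial k₁ L))).comp MvPolynomial.C, B₁,
    θ₂.comp θ₀, (ResidueField.map θ₂).comp (e₀.symm : k₁ →+* _), ?_, ?_, ?_⟩
  · intro o
    rw [RingHom.comp_apply, hθ₂v, hθ₀, RingHom.comp_apply, hρ₂]
    change (algebraMap (MvPolynomial k₁ L) (FractionRing (MvPolynomial k₁ L)))
      (MvPolynomial.map ρ (MvPolynomial.C o)) = _
    rw [MvPolynomial.map_C]
    rfl
  · exact RingHom.isLocalHom_comp _ _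
  · intro o
    rw [RingHom.comp_apply, RingHom.comp_apply]
    change _ = ResidueField.map θ₂ (e₀.symm (σ o))
    rw [he₀]
    rfl

end Groth.Agent.Lib.Helper9.RefVal
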