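import Mathlib
import Groth.Agent.Lib.Helper9RefVal
import Groth.Agent.S19892

/-!
# Ring theory for the refined valuative criterion (helper9)
-/

set_option autoImplicit false
set_option linter.style.haveILetI false
universe u

namespace Groth.Agent.Lib.Helper9.RefCore

open IsLocalRing

/-- ring version of `RefVal.exists_valuationSubring_residue`: the local ring is the localization of `R` at the
kernel of `σ₀`. -/
theorem exists_valuationSubring_of_ker_le {R L k₁ : Type u} [CommRing R] [Field L] [Field k₁]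
    (ρ₀ : R →+* L) (σ₀ : R →+* k₁) (hker : ∀ r, ρ₀ r = 0 → σ₀ r = 0) :
    ∃ (L₁ : Type u) (_ : Field L₁) (ι : L →+* L₁) (B₁ : ValuationSubring L₁) (θ₀ : R →+* B₁)
      (τ : k₁ →+* ResidueField B₁),
      (∀ r, ((θ₀ r : B₁) : L₁) = ι (ρ₀ r)) ∧ ∀ r, residue B₁ (θ₀ r) = τ (σ₀ r) := by
  haveI hp : (RingHom.ker σ₀).IsPrime := RingHom.ker_isPrime σ₀
  have hσu : ∀ y : (RingHom.ker σ₀).primeCompl, IsUnit (σ₀ y) := by
    intro y
    rw [isUnit_iff_ne_zero]
    exact fun h0 => y.2 ((RingHom.mem_ker).2 h0)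
  have hρu : ∀ y : (RingHom.ker σ₀).primeCompl, IsUnit (ρ₀ y) := by
    intro y
    rw [isUnit_iff_ne_zero]
    exact fun h0 => y.2 ((RingHom.mem_ker).2 (hker _ h0))
  let O := Localization.AtPrime (RingHom.ker σ₀)
  let ρ : O →+* L := IsLocalization.lift (M := (RingHom.ker σ₀).primeCompl) (g := ρ₀) hρu
  let σ : O →+* k₁ := IsLocalization.lift (M := (RingHom.ker σ₀).primeCompl) (g := σ₀) hσu
  have hσ : ∀ o : O, σ o = 0 ↔ o ∈ maximalIdeal O := by
    intro o
    obtain ⟨r, s, rfl⟩ := IsLocalization.exists_mk'_eq (RingHom.ker σ₀).primeCompl o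
    rw [IsLocalization.AtPrime.mk'_mem_maximal_iff (S := O) (I := RingHom.ker σ₀)]
    change IsLocalization.lift hσu _ = 0 ↔ _
    rw [IsLocalization.lift_mk'_spec, mul_zero, RingHom.mem_ker]
  obtain ⟨L₁, hL₁, ι, B₁, θ, τ, h1, -, h3⟩ :=
    Groth.Agent.Lib.Helper9.RefVal.exists_valuationSubring_residue ρ σ hσ
  refine ⟨L₁, hL₁, ι, B₁, θ.comp (algebraMap R O), τ, fun r => ?_, fun r => ?_⟩
  · rw [RingHom.comp_apply, h1]
    congr 1
    exact IsLocalization.lift_eq hρu r
  · rw [RingHom.comp_apply, h3]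
    congr 1
    exact IsLocalization.lift_eq hσu r

/-- the map from `A` to the valuation ring produced by `exists_residue_lift`. -/
theorem exists_domExt_map {A K : Type u} [CommRing A] [IsDomain A] [ValuationRing A] [Field K]
    [Algebra A K] [IsFractionRing A K] {L₁ : Type u} [Field L₁] (B₁ : ValuationSubring L₁)
    (κ₁ : K →+* ResidueField B₁) (A' : ValuationSubring (ResidueField B₁))
    (hA'1 : ∀ a : A, κ₁ (algebraMap A K a) ∈ A')
    (hA'2 : ∀ t : K, κ₁ t ∈ A' → ∃ a : A, algebraMap A K a = t)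
    (C : ValuationSubring L₁) (hCB : C ≤ B₁)
    (hC : ∀ b : B₁, residue B₁ b ∈ A' → (b : L₁) ∈ C)
    (hC' : ∀ c : C, residue B₁ (ValuationSubring.inclusion C B₁ hCB c) ∈ A')
    {K'' : Type u} [Field K''] (A'' : ValuationSubring K'') (γC : C →+* A'') [IsLocalHom γC]
    (ρk : ResidueField B₁ →+* K'')
    (hγ : ∀ c : C, ((γC c : A'') : K'') = ρk (residue B₁ (ValuationSubring.inclusion C B₁ hCB c))) :
    ∃ φ : A →+* A'', IsLocalHom φ ∧ ∀ a, ((φ a : A'') : K'') = ρk (κ₁ (algebraMap A K a)) := by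
  have hmem : ∀ a : A, ρk (κ₁ (algebraMap A K a)) ∈ A'' := by
    intro a
    obtain ⟨b, hb⟩ := residue_surjective (R := B₁) (κ₁ (algebraMap A K a))
    have hbC : (b : L₁) ∈ C := hC b (by rw [hb]; exact hA'1 a)
    have := hγ ⟨(b : L₁), hbC⟩
    have e : ValuationSubring.inclusion C B₁ hCB ⟨(b : L₁), hbC⟩ = b := Subtype.ext rfl
    rw [e, hb] at this
    rw [← this]
    exact (γC _).2
  let φ : A →+* A'' := ((ρk.comp κ₁).comp (algebraMap A K)).codRestrict A''.toSubring hmem
  refine ⟨φ, ⟨fun a ha => ?_⟩, fun a => rfl⟩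
  -- locality
  obtain ⟨b, hb⟩ := residue_surjective (R := B₁) (κ₁ (algebraMap A K a))
  have hbC : (b : L₁) ∈ C := hC b (by rw [hb]; exact hA'1 a)
  have e : ValuationSubring.inclusion C B₁ hCB ⟨(b : L₁), hbC⟩ = b := Subtype.ext rfl
  have hγb : γC ⟨(b : L₁), hbC⟩ = φ a := by
    apply Subtype.ext
    rw [hγ, e, hb]
    rfl
  have hu : IsUnit (⟨(b : L₁), hbC⟩ : C) := by
    apply isUnit_of_map_unit γC
    rw [hγb]
    exact ha
  obtain ⟨c', hc'⟩ := hu.exists_right_inv
  -- the residue of the inverse is in `A'`, and is the inverse of the image of `a`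
  have h1 : κ₁ (algebraMap A K a) *
      residue B₁ (ValuationSubring.inclusion C B₁ hCB c') = 1 := by
    rw [← hb, ← e, ← map_mul, ← map_mul, hc', map_one, map_one]
  have ha0 : algebraMap A K a ≠ 0 := by
    intro h0
    rw [h0, map_zero, zero_mul] at h1
    exact zero_ne_one h1
  have h2 : κ₁ ((algebraMap A K a)⁻¹) ∈ A' := by
    have : κ₁ ((algebraMap A K a)⁻¹) = residue B₁ (ValuationSubring.inclusion C B₁ hCB c') := by
      rw [map_inv₀]
      exact inv_eq_of_mul_eq_one_right h1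
    rw [this]
    exact hC' c'
  obtain ⟨a', ha'⟩ := hA'2 _ h2
  refine isUnit_iff_exists_inv.2 ⟨a', ?_⟩
  apply IsFractionRing.injective A K
  rw [map_mul, ha', map_one, mul_inv_cancel₀ ha0]

end Groth.Agent.Lib.Helper9.RefCore
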