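import Mathlib
import Groth.Agent.Lib.Helper9SepDomExtB

/-!
# Localizing and reducing a dominating extension of a composite valuation ring (helper9)

Let `C ≤ B` be valuation subrings of a field `L` and `A'` a valuation ring dominating `C` (with fraction field `L'`).
Then there are a valuation subring `B'` of `L'` containing `A'` and dominating `B` (a localization of `A'`) and a
valuation subring `A''` of the residue field of `B'`, the image of `A'`, such that `C ⟶ A''` is local.
-/

set_option autoImplicit false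
set_option linter.style.haveILetI false
universe u

namespace Groth.Agent.Lib.Helper9.RefExt

open IsLocalRing Groth.Agent.Lib.Helper9.SepDomExt

theorem exists_localization_quotient {L L' A' : Type u} [Field L] [Field L'] [CommRing A']
    [IsDomain A'] [ValuationRing A'] [Algebra A' L'] [IsFractionRing A' L']
    (C B : ValuationSubring L) (hCB : C ≤ B) (ψ' : L →+* L') (φ' : C →+* A')
    (hc : (algebraMap A' L').comp φ' = ψ'.comp (algebraMap C L)) [IsLocalHom φ'] :
    ∃ (B' : ValuationSubring L') (inclB' : A' →+* B') (ιB : B →+* B')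
      (A'' : ValuationSubring (ResidueField B')) (γ : A' →+* A''),
      (∀ a, ((inclB' a : B') : L') = algebraMap A' L' a) ∧
      (∀ b : B, ((ιB b : B') : L') = ψ' b) ∧ IsLocalHom ιB ∧
      (∀ a, ((γ a : A'') : ResidueField B') = residue B' (inclB' a)) ∧
      IsLocalHom (γ.comp φ') := by
  classical
  have hc' : ∀ c : C, algebraMap A' L' (φ' c) = ψ' (c : L) := fun c => RingHom.congr_fun hc c
  have hinjA' : Function.Injective (algebraMap A' L') := IsFractionRing.injective A' L'
  -- the prime of `A'` over the prime of `C` defined by `B`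
  have hff : φ'.FaithfullyFlat := faithfullyFlat_of_domExt φ' ψ' hc
  obtain ⟨q, hq⟩ := (RingHom.FaithfullyFlat.iff_flat_and_comap_surjective.1 hff).2
    ⟨C.idealOfLE B hCB, inferInstance⟩
  have hqmem : ∀ c : C, φ' c ∈ q.asIdeal ↔ ¬ IsUnit (ValuationSubring.inclusion C B hCB c) := by
    intro c
    have h1 := congrArg PrimeSpectrum.asIdeal hq
    have h2 : φ' c ∈ q.asIdeal ↔ c ∈ (PrimeSpectrum.comap φ' q).asIdeal := Iff.rfl
    rw [h2, h1]
    change ValuationSubring.inclusion C B hCB c ∈ maximalIdeal B ↔ _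
    rw [mem_maximalIdeal, mem_nonunits_iff]
  -- `A'` as a valuation subring of `L'`
  obtain ⟨V', hV'def⟩ : ∃ V' : ValuationSubring L',
      V' = (ValuationRing.valuation A' L').valuationSubring := ⟨_, rfl⟩
  have hV' : ∀ z : L', z ∈ V' ↔ ∃ a, algebraMap A' L' a = z := fun z => by
    rw [hV'def]; exact ValuationRing.mem_integer_iff A' L' z
  let ε₀ : A' →+* V' :=
    { toFun := fun a => ⟨algebraMap A' L' a, (hV' _).2 ⟨a, rfl⟩⟩
      map_one' := Subtype.ext (map_one _)
      map_mul' := fun a b => Subtype.ext (map_mul _ a b)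
      map_zero' := Subtype.ext (map_zero _)
      map_add' := fun a b => Subtype.ext (map_add _ a b) }
  have hε₀ : Function.Bijective ε₀ := by
    constructor
    · intro a b hab
      exact hinjA' (congrArg Subtype.val hab)
    · rintro ⟨z, hz⟩
      obtain ⟨a, rfl⟩ := (hV' z).1 hz
      exact ⟨a, rfl⟩
  let εq : A' ≃+* V' := RingEquiv.ofBijective ε₀ hε₀
  have hεq : ∀ a, ((εq a : V') : L') = algebraMap A' L' a := fun a => rfl
  obtain ⟨P, hPdef⟩ : ∃ P : Ideal V', P = Ideal.comap (εq.symm : V' →+* A') q.asIdeal := ⟨_, rfl⟩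
  haveI hPprime : P.IsPrime := by rw [hPdef]; exact Ideal.comap_isPrime _ _
  have hPmem : ∀ a, εq a ∈ P ↔ a ∈ q.asIdeal := fun a => by
    rw [hPdef, Ideal.mem_comap]
    change εq.symm (εq a) ∈ q.asIdeal ↔ _
    rw [RingEquiv.symm_apply_apply]
  obtain ⟨B', hB'def⟩ : ∃ B' : ValuationSubring L', B' = V'.ofPrime P := ⟨_, rfl⟩
  have hV'B' : V' ≤ B' := by rw [hB'def]; exact ValuationSubring.le_ofPrime V' P
  obtain ⟨inclB', hinclB'⟩ : ∃ inclB' : A' →+* B',
      ∀ a, ((inclB' a : B') : L') = algebraMap A' L' a :=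
    ⟨(ValuationSubring.inclusion V' B' hV'B').comp (εq : A' →+* V'), fun a => rfl⟩
  have hunit : ∀ a, IsUnit (inclB' a) ↔ a ∉ q.asIdeal := by
    intro a
    rw [ValuationSubring.valuation_eq_one_iff, ← hPmem]
    have h1 : ((inclB' a : B') : L') = ((εq a : V') : L') := by rw [hinclB', hεq]
    rw [h1]
    subst hB'def
    exact ValuationSubring.ofPrime_valuation_eq_one_iff_mem_primeCompl V' P (εq a)
  -- general facts on units of valuation subrings
  have hinvmem : ∀ (x : B'), IsUnit x → ((x : B') : L')⁻¹ ∈ B' := by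
    intro x hx
    obtain ⟨y, hy⟩ := hx.exists_right_inv
    have h1 : ((x : B') : L') * ((y : B') : L') = 1 := congrArg Subtype.val hy
    rw [inv_eq_of_mul_eq_one_right h1]
    exact y.2
  -- elements of `B` map into `B'`
  have hinclC : ∀ (c : C), ψ' (c : L) = ((inclB' (φ' c) : B') : L') := fun c => by
    rw [hinclB', hc']
  have hmemB : ∀ b : B, ψ' (b : L) ∈ B' := by
    intro b
    rcases C.mem_or_inv_mem (b : L) with hbC | hbC
    · have h1 := hinclC ⟨(b : L), hbC⟩
      rw [h1]
      exact (inclB' _).2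
    · by_cases hb0 : (b : L) = 0
      · rw [hb0, map_zero]; exact B'.zero_mem
      · have hu : IsUnit (ValuationSubring.inclusion C B hCB ⟨(b : L)⁻¹, hbC⟩) := by
          refine IsUnit.of_mul_eq_one b ?_
          apply Subtype.ext
          change (b : L)⁻¹ * (b : L) = 1
          exact inv_mul_cancel₀ hb0
        have h2 : φ' ⟨(b : L)⁻¹, hbC⟩ ∉ q.asIdeal := fun h => ((hqmem _).1 h) hu
        have h3 := hinvmem _ ((hunit _).2 h2)
        rw [← hinclC] at h3
        change (ψ' (b : L)⁻¹)⁻¹ ∈ B' at h3
        rw [map_inv₀, inv_inv] at h3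
        exact h3
  obtain ⟨ιB, hιB⟩ : ∃ ιB : B →+* B', ∀ b : B, ((ιB b : B') : L') = ψ' b :=
    ⟨(ψ'.comp B.subtype).codRestrict B'.toSubring hmemB, fun b => rfl⟩
  have hιBloc : IsLocalHom ιB := by
    refine ⟨fun b hb => ?_⟩
    by_contra hnu
    have hbC : (b : L) ∈ C := by
      rcases C.mem_or_inv_mem (b : L) with h | h
      · exact h
      · exfalso
        apply hnu
        by_cases hb0 : (b : L) = 0
        · exfalso
          have h0 : ιB b = 0 := Subtype.ext (by rw [hιB, hb0, map_zero]; rfl)
          rw [h0] at hb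
          exact not_isUnit_zero hb
        · refine IsUnit.of_mul_eq_one (⟨(b : L)⁻¹, hCB h⟩ : B) ?_
          apply Subtype.ext
          change (b : L) * (b : L)⁻¹ = 1
          exact mul_inv_cancel₀ hb0
    have h1 : ¬ IsUnit (ValuationSubring.inclusion C B hCB ⟨(b : L), hbC⟩) := hnu
    have h2 : φ' ⟨(b : L), hbC⟩ ∈ q.asIdeal := (hqmem _).2 h1
    have h3 : ¬ IsUnit (inclB' (φ' ⟨(b : L), hbC⟩)) := fun h => ((hunit _).1 h) h2
    apply h3
    have h4 : inclB' (φ' ⟨(b : L), hbC⟩) = ιB b := Subtype.ext (by rw [← hinclC, hιB])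
    rw [h4]
    exact hb
  -- the image of `A'` in the residue field of `B'`
  have hmemV' : ∀ x : B', ((x : B') : L') ∈ V' → ∃ a, inclB' a = x := by
    intro x hx
    obtain ⟨a, ha⟩ := (hV' _).1 hx
    exact ⟨a, Subtype.ext (by rw [hinclB', ha])⟩
  let A'' : ValuationSubring (ResidueField B') :=
    { toSubring := ((residue B').comp inclB').range
      mem_or_inv_mem' := by
        intro x
        obtain ⟨b', rfl⟩ := residue_surjective x
        rcases V'.mem_or_inv_mem ((b' : B') : L') with h | h
        · left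
          obtain ⟨a, rfl⟩ := hmemV' b' h
          exact ⟨a, rfl⟩
        · by_cases hb0 : b' = 0
          · left
            rw [hb0, map_zero]
            exact Subring.zero_mem _
          · right
            have hb0' : ((b' : B') : L') ≠ 0 := fun h0 => hb0 (Subtype.ext h0)
            obtain ⟨a, ha⟩ := (hV' _).1 h
            refine ⟨a, ?_⟩
            have h1 : inclB' a * b' = 1 := by
              apply Subtype.ext
              change ((inclB' a : B') : L') * ((b' : B') : L') = 1
              rw [hinclB', ha]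
              exact inv_mul_cancel₀ hb0'
            have h2 := congrArg (residue B') h1
            rw [map_mul, map_one] at h2
            exact (eq_inv_of_mul_eq_one_left h2) }
  have hA''mem : ∀ x : ResidueField B', x ∈ A'' ↔ ∃ a, residue B' (inclB' a) = x := fun x => Iff.rfl
  let γ : A' →+* A'' :=
    { toFun := fun a => ⟨residue B' (inclB' a), ⟨a, rfl⟩⟩
      map_one' := Subtype.ext (by simp)
      map_mul' := fun a b => Subtype.ext (by simp)
      map_zero' := Subtype.ext (by simp)
      map_add' := fun a b => Subtype.ext (by simp) }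
  have hγ : ∀ a, ((γ a : A'') : ResidueField B') = residue B' (inclB' a) := fun a => rfl
  refine ⟨B', inclB', ιB, A'', γ, hinclB', hιB, hιBloc, hγ, ⟨fun c hcu => ?_⟩⟩
  obtain ⟨y, hy⟩ := hcu.exists_right_inv
  obtain ⟨a, ha⟩ := (hA''mem _).1 y.2
  have h1 : residue B' (inclB' (φ' c * a)) = 1 := by
    have h2 : ((γ (φ' c) * y : A'') : ResidueField B') = 1 := congrArg Subtype.val hy
    rw [map_mul, map_mul, ha]
    exact h2
  have h3 : ¬ IsUnit (inclB' (1 - φ' c * a)) := by
    have h4 : residue B' (inclB' (1 - φ' c * a)) = 0 := by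
      rw [map_sub, map_sub, map_one, map_one, h1, sub_self]
    exact (mem_nonunits_iff.1 ((mem_maximalIdeal _).1 ((residue_eq_zero_iff _).1 h4)))
  have h5 : 1 - φ' c * a ∈ q.asIdeal := by
    by_contra h
    exact h3 ((hunit _).2 h)
  have h6 : 1 - φ' c * a ∈ nonunits A' := by
    rw [mem_nonunits_iff]
    intro hu
    exact q.isPrime.ne_top (Ideal.eq_top_of_isUnit_mem _ h5 hu)
  have h7 : IsUnit (φ' c * a) := isUnit_of_mem_nonunits_one_sub_self _ h6
  exact isUnit_of_map_unit φ' c (isUnit_of_mul_isUnit_left h7)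

end Groth.Agent.Lib.Helper9.RefExt
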