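import Mathlib
import Groth.Agent.Lib.Helper9RefExtAlg
import Groth.Prelude.Def_AlgSpMor5

/-!
# Cutting a lift over a dominating extension of a composite valuation ring down to the residue valuation ring
(helper9)
-/

set_option autoImplicit false
set_option linter.style.haveILetI false
set_option backward.isDefEq.respectTransparency false
set_option maxHeartbeats 1600000
universe u
open CategoryTheory CategoryTheory.Limits AlgebraicGeometry Opposite
open AlgSp

namespace Groth.Agent.Lib.Helper9.RefExt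

open IsLocalRing

variable {S : Scheme.{u}}

/-- `Spec` of ring maps: a commutative square of ring maps gives a commutative square of spectra. -/
lemma specMap_comp_eq {R₁ R₂ R₃ R₄ : Type u} [CommRing R₁] [CommRing R₂] [CommRing R₃] [CommRing R₄]
    (a : R₂ →+* R₁) (b : R₄ →+* R₂) (c : R₃ →+* R₁) (d : R₄ →+* R₃) (h : a.comp b = c.comp d) :
    Spec.map (CommRingCat.ofHom a) ≫ Spec.map (CommRingCat.ofHom b) =
      Spec.map (CommRingCat.ofHom c) ≫ Spec.map (CommRingCat.ofHom d) := by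
  rw [← Spec.map_comp, ← Spec.map_comp, ← CommRingCat.ofHom_comp, ← CommRingCat.ofHom_comp, h]

theorem exists_residue_lift {X Y : AlgSp.Sp S} (f : X ⟶ Y) {L : Type u} [Field L]
    (C B : ValuationSubring L) (hCB : C ≤ B) (strC : Spec (CommRingCat.of C) ⟶ S)
    (topC : (AlgSp.yon S).obj (Over.mk (Spec.map (CommRingCat.ofHom (algebraMap C L)) ≫ strC)) ⟶ X)
    (botC : (AlgSp.yon S).obj (Over.mk strC) ⟶ Y)
    (hcommC : topC ≫ f = (AlgSp.yon S).map (Over.homMk
      (Spec.map (CommRingCat.ofHom (algebraMap C L))) rfl :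
        Over.mk (Spec.map (CommRingCat.ofHom (algebraMap C L)) ≫ strC) ⟶ Over.mk strC) ≫ botC)
    (β : (AlgSp.yon S).obj (Over.mk (Spec.map (CommRingCat.ofHom
      (ValuationSubring.inclusion C B hCB)) ≫ strC)) ⟶ X)
    (hβ1 : ∀ jLB : Over.mk (Spec.map (CommRingCat.ofHom (algebraMap C L)) ≫ strC) ⟶
        Over.mk (Spec.map (CommRingCat.ofHom (ValuationSubring.inclusion C B hCB)) ≫ strC),
      jLB.left = Spec.map (CommRingCat.ofHom (algebraMap B L)) → (AlgSp.yon S).map jLB ≫ β = topC)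
    (hβ2 : β ≫ f = (AlgSp.yon S).map (Over.homMk
      (Spec.map (CommRingCat.ofHom (ValuationSubring.inclusion C B hCB))) rfl :
        Over.mk (Spec.map (CommRingCat.ofHom (ValuationSubring.inclusion C B hCB)) ≫ strC) ⟶
          Over.mk strC) ≫ botC)
    (hU : ∀ sq' : AlgSp.ValSq f,
      (∃ a : sq'.ptK ⟶ Over.mk (Spec.map (CommRingCat.ofHom (algebraMap C L)) ≫ strC),
        sq'.top = (AlgSp.yon S).map a ≫ topC) → sq'.HasUniq)
    {L' A' : Type u} [Field L'] [CommRing A'] [IsDomain A'] [ValuationRing A'] [Algebra A' L']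
    [IsFractionRing A' L'] (ψ' : L →+* L') (φ' : C →+* A')
    (hc : (algebraMap A' L').comp φ' = ψ'.comp (algebraMap C L)) [IsLocalHom φ']
    (l : (AlgSp.yon S).obj (Over.mk (Spec.map (CommRingCat.ofHom φ') ≫ strC)) ⟶ X)
    (hl1 : ∀ (jK'A' : Over.mk (Spec.map (CommRingCat.ofHom (algebraMap A' L')) ≫
        Spec.map (CommRingCat.ofHom φ') ≫ strC) ⟶ Over.mk (Spec.map (CommRingCat.ofHom φ') ≫ strC))
      (jψ : Over.mk (Spec.map (CommRingCat.ofHom (algebraMap A' L')) ≫
        Spec.map (CommRingCat.ofHom φ') ≫ strC) ⟶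
          Over.mk (Spec.map (CommRingCat.ofHom (algebraMap C L)) ≫ strC)),
      jK'A'.left = Spec.map (CommRingCat.ofHom (algebraMap A' L')) →
      jψ.left = Spec.map (CommRingCat.ofHom ψ') →
      (AlgSp.yon S).map jK'A' ≫ l = (AlgSp.yon S).map jψ ≫ topC)
    (hl2 : l ≫ f = (AlgSp.yon S).map (Over.homMk (Spec.map (CommRingCat.ofHom φ')) rfl :
      Over.mk (Spec.map (CommRingCat.ofHom φ') ≫ strC) ⟶ Over.mk strC) ≫ botC) :
    ∃ (K'' : Type u) (_ : Field K'') (A'' : ValuationSubring K'') (γC : C →+* A'')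
      (ρk : ResidueField B →+* K'')
      (l'' : (AlgSp.yon S).obj (Over.mk (Spec.map (CommRingCat.ofHom γC) ≫ strC)) ⟶ X),
      IsLocalHom γC ∧
      (∀ c : C, ((γC c : A'') : K'') = ρk (residue B (ValuationSubring.inclusion C B hCB c))) ∧
      l'' ≫ f = (AlgSp.yon S).map (Over.homMk (Spec.map (CommRingCat.ofHom γC)) rfl :
        Over.mk (Spec.map (CommRingCat.ofHom γC) ≫ strC) ⟶ Over.mk strC) ≫ botC ∧
      ∀ (jk : Over.mk (Spec.map (CommRingCat.ofHom (algebraMap A'' K'')) ≫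
          Spec.map (CommRingCat.ofHom γC) ≫ strC) ⟶
          Over.mk (Spec.map (CommRingCat.ofHom (ValuationSubring.inclusion C B hCB)) ≫ strC)),
        jk.left = Spec.map (CommRingCat.ofHom (ρk.comp (residue B))) →
        (AlgSp.yon S).map (Over.homMk (Spec.map (CommRingCat.ofHom (algebraMap A'' K''))) rfl :
          Over.mk (Spec.map (CommRingCat.ofHom (algebraMap A'' K'')) ≫
            Spec.map (CommRingCat.ofHom γC) ≫ strC) ⟶
            Over.mk (Spec.map (CommRingCat.ofHom γC) ≫ strC)) ≫ l'' = (AlgSp.yon S).map jk ≫ β := by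
  obtain ⟨B', inclB', ιB, A'', γ, h1, h2, h3, h4, h5⟩ :=
    exists_localization_quotient C B hCB ψ' φ' hc
  haveI := h3
  -- ring identities
  have R1 : ιB.comp (ValuationSubring.inclusion C B hCB) = inclB'.comp φ' := by
    refine RingHom.ext fun c => Subtype.ext ?_
    rw [RingHom.comp_apply, RingHom.comp_apply, h2, h1]
    exact (RingHom.congr_fun hc c).symm
  have R2 : (algebraMap B' L').comp inclB' = algebraMap A' L' := RingHom.ext fun a => h1 a
  have R3 : (algebraMap B' L').comp ιB = ψ'.comp (algebraMap B L) := RingHom.ext fun b => h2 b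
  have R4 : (algebraMap A'' (ResidueField B')).comp γ = (residue B').comp inclB' :=
    RingHom.ext fun a => h4 a
  have R5 : (residue B').comp ιB = (ResidueField.map ιB).comp (residue B) :=
    RingHom.ext fun b => (ResidueField.map_residue ιB b).symm
  have R6 : ((algebraMap B' L').comp inclB').comp φ' = ψ'.comp (algebraMap C L) := by
    rw [R2, hc]
  -- the square for `B'`
  obtain ⟨a, hal⟩ : ∃ a : Over.mk (Spec.map (CommRingCat.ofHom (algebraMap B' L')) ≫
      Spec.map (CommRingCat.ofHom inclB') ≫ Spec.map (CommRingCat.ofHom φ') ≫ strC) ⟶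
      Over.mk (Spec.map (CommRingCat.ofHom (algebraMap C L)) ≫ strC),
      a.left = Spec.map (CommRingCat.ofHom ψ') := ⟨Over.homMk (Spec.map (CommRingCat.ofHom ψ')) (by
        change Spec.map _ ≫ Spec.map _ ≫ _ = Spec.map _ ≫ Spec.map _ ≫ Spec.map _ ≫ _
        rw [← Spec.map_comp_assoc, ← Spec.map_comp_assoc, ← Spec.map_comp_assoc,
          ← CommRingCat.ofHom_comp, ← CommRingCat.ofHom_comp, ← CommRingCat.ofHom_comp, R6]), rfl⟩
  obtain ⟨jB'A', hjB'A'⟩ : ∃ j : Over.mk (Spec.map (CommRingCat.ofHom inclB') ≫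
      Spec.map (CommRingCat.ofHom φ') ≫ strC) ⟶ Over.mk (Spec.map (CommRingCat.ofHom φ') ≫ strC),
      j.left = Spec.map (CommRingCat.ofHom inclB') := ⟨Over.homMk _ rfl, rfl⟩
  obtain ⟨jA'C, hjA'C, hl2⟩ : ∃ j : Over.mk (Spec.map (CommRingCat.ofHom φ') ≫ strC) ⟶ Over.mk strC,
      j.left = Spec.map (CommRingCat.ofHom φ') ∧ l ≫ f = (AlgSp.yon S).map j ≫ botC :=
    ⟨Over.homMk _ rfl, rfl, hl2⟩
  obtain ⟨jLC, hjLC, hcommC⟩ : ∃ j : Over.mk (Spec.map (CommRingCat.ofHom (algebraMap C L)) ≫ strC) ⟶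
      Over.mk strC, j.left = Spec.map (CommRingCat.ofHom (algebraMap C L)) ∧
      topC ≫ f = (AlgSp.yon S).map j ≫ botC := ⟨Over.homMk _ rfl, rfl, hcommC⟩
  obtain ⟨jBC, hjBC, hβ2⟩ : ∃ j : Over.mk (Spec.map (CommRingCat.ofHom
      (ValuationSubring.inclusion C B hCB)) ≫ strC) ⟶ Over.mk strC,
      j.left = Spec.map (CommRingCat.ofHom (ValuationSubring.inclusion C B hCB)) ∧
      β ≫ f = (AlgSp.yon S).map j ≫ botC := ⟨Over.homMk _ rfl, rfl, hβ2⟩
  obtain ⟨jLB, hjLB⟩ : ∃ j : Over.mk (Spec.map (CommRingCat.ofHom (algebraMap C L)) ≫ strC) ⟶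
      Over.mk (Spec.map (CommRingCat.ofHom (ValuationSubring.inclusion C B hCB)) ≫ strC),
      j.left = Spec.map (CommRingCat.ofHom (algebraMap B L)) := ⟨Over.homMk _ (by
        change Spec.map _ ≫ Spec.map _ ≫ _ = Spec.map _ ≫ _
        rw [← Spec.map_comp_assoc, ← CommRingCat.ofHom_comp]; rfl), rfl⟩
  obtain ⟨jB'B, hjB'B⟩ : ∃ j : Over.mk (Spec.map (CommRingCat.ofHom inclB') ≫
      Spec.map (CommRingCat.ofHom φ') ≫ strC) ⟶
      Over.mk (Spec.map (CommRingCat.ofHom (ValuationSubring.inclusion C B hCB)) ≫ strC),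
      j.left = Spec.map (CommRingCat.ofHom ιB) := ⟨Over.homMk _ (by
        change Spec.map _ ≫ Spec.map _ ≫ _ = Spec.map _ ≫ Spec.map _ ≫ _
        rw [← Spec.map_comp_assoc, ← Spec.map_comp_assoc, ← CommRingCat.ofHom_comp,
          ← CommRingCat.ofHom_comp, R1]), rfl⟩
  have hβ1' := hβ1 jLB hjLB
  -- the two lifts agree
  have key : (AlgSp.yon S).map jB'A' ≫ l = (AlgSp.yon S).map jB'B ≫ β := by
    obtain ⟨jj, hjj⟩ : ∃ jj : Over.mk (Spec.map (CommRingCat.ofHom (algebraMap B' L')) ≫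
        Spec.map (CommRingCat.ofHom inclB') ≫ Spec.map (CommRingCat.ofHom φ') ≫ strC) ⟶
        Over.mk (Spec.map (CommRingCat.ofHom inclB') ≫ Spec.map (CommRingCat.ofHom φ') ≫ strC),
        jj.left = Spec.map (CommRingCat.ofHom (algebraMap B' L')) := ⟨Over.homMk _ rfl, rfl⟩
    obtain ⟨e, he⟩ : ∃ e : Over.mk (Spec.map (CommRingCat.ofHom (algebraMap B' L')) ≫
        Spec.map (CommRingCat.ofHom inclB') ≫ Spec.map (CommRingCat.ofHom φ') ≫ strC) ⟶
        Over.mk (Spec.map (CommRingCat.ofHom (algebraMap A' L')) ≫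
          Spec.map (CommRingCat.ofHom φ') ≫ strC), e.left = 𝟙 _ := ⟨Over.homMk (𝟙 _) (by
          change 𝟙 _ ≫ Spec.map _ ≫ Spec.map _ ≫ _ = Spec.map _ ≫ Spec.map _ ≫ Spec.map _ ≫ _
          rw [Category.id_comp, ← Spec.map_comp_assoc (CommRingCat.ofHom inclB'),
            ← CommRingCat.ofHom_comp, R2]), rfl⟩
    obtain ⟨jK'A', hjK'A'⟩ : ∃ j : Over.mk (Spec.map (CommRingCat.ofHom (algebraMap A' L')) ≫
        Spec.map (CommRingCat.ofHom φ') ≫ strC) ⟶ Over.mk (Spec.map (CommRingCat.ofHom φ') ≫ strC),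
        j.left = Spec.map (CommRingCat.ofHom (algebraMap A' L')) := ⟨Over.homMk _ rfl, rfl⟩
    obtain ⟨jψ, hjψ⟩ : ∃ j : Over.mk (Spec.map (CommRingCat.ofHom (algebraMap A' L')) ≫
        Spec.map (CommRingCat.ofHom φ') ≫ strC) ⟶
        Over.mk (Spec.map (CommRingCat.ofHom (algebraMap C L)) ≫ strC),
        j.left = Spec.map (CommRingCat.ofHom ψ') := ⟨Over.homMk _ (by
          change Spec.map _ ≫ Spec.map _ ≫ _ = Spec.map _ ≫ Spec.map _ ≫ _
          rw [← Spec.map_comp_assoc, ← Spec.map_comp_assoc, ← CommRingCat.ofHom_comp,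
            ← CommRingCat.ofHom_comp, hc]), rfl⟩
    have hl1' := hl1 jK'A' jψ hjK'A' hjψ
    have E1 : jj ≫ jB'A' = e ≫ jK'A' := by
      apply Over.OverMorphism.ext
      rw [Over.comp_left, Over.comp_left, hjj, hjB'A', he, hjK'A', Category.id_comp]
      rw [← Spec.map_comp, ← CommRingCat.ofHom_comp, R2]
    have E2 : a = e ≫ jψ := by
      apply Over.OverMorphism.ext
      rw [Over.comp_left, hal, he, hjψ, Category.id_comp]
    have E3 : a ≫ jLC = jj ≫ jB'A' ≫ jA'C := by
      apply Over.OverMorphism.ext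
      rw [Over.comp_left, Over.comp_left, Over.comp_left, hal, hjLC, hjj, hjB'A', hjA'C]
      rw [← Spec.map_comp, ← Spec.map_comp, ← Spec.map_comp, ← CommRingCat.ofHom_comp,
        ← CommRingCat.ofHom_comp, ← CommRingCat.ofHom_comp, ← R6]
      rfl
    have E4 : jj ≫ jB'B = a ≫ jLB := by
      apply Over.OverMorphism.ext
      rw [Over.comp_left, Over.comp_left, hjj, hjB'B, hal, hjLB]
      exact specMap_comp_eq _ _ _ _ R3
    have E5 : jB'B ≫ jBC = jB'A' ≫ jA'C := by
      apply Over.OverMorphism.ext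
      rw [Over.comp_left, Over.comp_left, hjB'B, hjBC, hjB'A', hjA'C]
      exact specMap_comp_eq _ _ _ _ R1
    let sqB' : AlgSp.ValSq f :=
      { A := B', K := L'
        str := Spec.map (CommRingCat.ofHom inclB') ≫ Spec.map (CommRingCat.ofHom φ') ≫ strC
        top := (AlgSp.yon S).map a ≫ topC
        bot := (AlgSp.yon S).map (jB'A' ≫ jA'C) ≫ botC
        comm := by
          have hjj' : jj = Over.homMk (Spec.map (CommRingCat.ofHom (algebraMap B' L'))) rfl := by
            apply Over.OverMorphism.ext; rw [hjj]; rfl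
          rw [← hjj', Category.assoc, hcommC, ← Functor.map_comp_assoc, E3,
            ← Functor.map_comp_assoc] }
    have hjj' : sqB'.j = jj := by
      apply Over.OverMorphism.ext; rw [hjj]; rfl
    refine hU sqB' ⟨a, rfl⟩ _ _ ?_ ?_ ?_ ?_
    · rw [hjj']
      change (AlgSp.yon S).map jj ≫ (AlgSp.yon S).map jB'A' ≫ l = (AlgSp.yon S).map a ≫ topC
      rw [← Functor.map_comp_assoc, E1, Functor.map_comp_assoc, hl1', E2,
        Functor.map_comp_assoc]
    · change ((AlgSp.yon S).map jB'A' ≫ l) ≫ f = (AlgSp.yon S).map (jB'A' ≫ jA'C) ≫ botC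
      rw [Category.assoc, hl2, Functor.map_comp_assoc]
    · rw [hjj']
      change (AlgSp.yon S).map jj ≫ (AlgSp.yon S).map jB'B ≫ β = (AlgSp.yon S).map a ≫ topC
      rw [← Functor.map_comp_assoc, E4, Functor.map_comp_assoc, hβ1']
    · change ((AlgSp.yon S).map jB'B ≫ β) ≫ f = (AlgSp.yon S).map (jB'A' ≫ jA'C) ≫ botC
      rw [Category.assoc, hβ2, ← Functor.map_comp_assoc, E5]
  -- the output
  obtain ⟨jA''A', hjA''A'⟩ : ∃ j : Over.mk (Spec.map (CommRingCat.ofHom (γ.comp φ')) ≫ strC) ⟶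
      Over.mk (Spec.map (CommRingCat.ofHom φ') ≫ strC),
      j.left = Spec.map (CommRingCat.ofHom γ) := ⟨Over.homMk _ (by
        change Spec.map _ ≫ Spec.map _ ≫ _ = Spec.map _ ≫ _
        rw [← Spec.map_comp_assoc, ← CommRingCat.ofHom_comp]), rfl⟩
  refine ⟨ResidueField B', inferInstance, A'', γ.comp φ', ResidueField.map ιB,
    (AlgSp.yon S).map jA''A' ≫ l, h5, ?_, ?_, ?_⟩
  · intro c
    rw [RingHom.comp_apply, h4]
    have := RingHom.congr_fun R1 c
    rw [RingHom.comp_apply, RingHom.comp_apply] at this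
    rw [← this, ResidueField.map_residue]
  · rw [Category.assoc, hl2, ← Functor.map_comp_assoc]
    congr 2
    apply Over.OverMorphism.ext
    rw [Over.comp_left, hjA''A', hjA'C, ← Spec.map_comp, ← CommRingCat.ofHom_comp]
    rfl
  · intro jk hjk
    obtain ⟨r, hr⟩ : ∃ r : Over.mk (Spec.map (CommRingCat.ofHom (algebraMap A'' (ResidueField B'))) ≫
        Spec.map (CommRingCat.ofHom (γ.comp φ')) ≫ strC) ⟶
        Over.mk (Spec.map (CommRingCat.ofHom inclB') ≫ Spec.map (CommRingCat.ofHom φ') ≫ strC),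
        r.left = Spec.map (CommRingCat.ofHom (residue B')) := ⟨Over.homMk _ (by
          change Spec.map _ ≫ Spec.map _ ≫ Spec.map _ ≫ _ = Spec.map _ ≫ Spec.map _ ≫ _
          rw [← Spec.map_comp_assoc, ← Spec.map_comp_assoc, ← Spec.map_comp_assoc,
            ← CommRingCat.ofHom_comp, ← CommRingCat.ofHom_comp, ← CommRingCat.ofHom_comp,
            ← RingHom.comp_assoc, R4, RingHom.comp_assoc]), rfl⟩
    obtain ⟨jK''A'', hjK''A''⟩ : ∃ j : Over.mk (Spec.map (CommRingCat.ofHom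
        (algebraMap A'' (ResidueField B'))) ≫ Spec.map (CommRingCat.ofHom (γ.comp φ')) ≫ strC) ⟶
        Over.mk (Spec.map (CommRingCat.ofHom (γ.comp φ')) ≫ strC),
        j = Over.homMk (Spec.map (CommRingCat.ofHom (algebraMap A'' (ResidueField B')))) rfl :=
      ⟨_, rfl⟩
    rw [← hjK''A'']
    have hjl : jK''A''.left = Spec.map (CommRingCat.ofHom (algebraMap A'' (ResidueField B'))) := by
      rw [hjK''A'']; rfl
    have F1 : jK''A'' ≫ jA''A' = r ≫ jB'A' := by
      apply Over.OverMorphism.ext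
      rw [Over.comp_left, Over.comp_left, hjl, hjA''A', hr, hjB'A']
      exact specMap_comp_eq _ _ _ _ R4
    have F2 : r ≫ jB'B = jk := by
      apply Over.OverMorphism.ext
      rw [Over.comp_left, hr, hjB'B, hjk, ← Spec.map_comp, ← CommRingCat.ofHom_comp, R5]
    rw [← Functor.map_comp_assoc, F1, Functor.map_comp_assoc, key, ← Functor.map_comp_assoc, F2]

end Groth.Agent.Lib.Helper9.RefExt
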