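import Mathlib
import Groth.Agent.Lib.Helper9RefCoreAlg
import Groth.Agent.Lib.Helper9RefExtGeom
import Groth.Prelude.Def_AlgSpMor5

/-!
# The refined valuative criterion: the affine core (helper9)
-/

set_option autoImplicit false
set_option linter.style.haveILetI false
set_option backward.isDefEq.respectTransparency false
set_option maxHeartbeats 1600000
universe u
open CategoryTheory CategoryTheory.Limits AlgebraicGeometry Opposite
open AlgSp

namespace Groth.Agent.Lib.Helper9.RefCore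

open IsLocalRing Groth.Agent.Lib.Helper9.RefExt

variable {S : Scheme.{u}}

theorem hasLiftExt_of_affine_data {U X Y : AlgSp.Sp S} (f : X ⟶ Y) (h : U ⟶ X)
    (hv : ∀ sq : AlgSp.ValSq f, (∃ t : (AlgSp.yon S).obj sq.ptK ⟶ U, t ≫ h = sq.top) →
      sq.HasUniq ∧ sq.HasLiftExt)
    (sq : AlgSp.ValSq f) {RV RW : Type u} [CommRing RV] [CommRing RW]
    (strV : Spec (CommRingCat.of RV) ⟶ S) (p : (AlgSp.yon S).obj (Over.mk strV) ⟶ Y)
    (m' : RV →+* sq.A) (hstr : sq.str = Spec.map (CommRingCat.ofHom m') ≫ strV)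
    (hbot : ∀ jm : sq.ptA ⟶ Over.mk strV, jm.left = Spec.map (CommRingCat.ofHom m') →
      sq.bot = (AlgSp.yon S).map jm ≫ p)
    (q' : RV →+* RW)
    (c : (AlgSp.yon S).obj (Over.mk (Spec.map (CommRingCat.ofHom q') ≫ strV)) ⟶ X)
    (hcf : c ≫ f = (AlgSp.yon S).map (Over.homMk (Spec.map (CommRingCat.ofHom q')) rfl :
      Over.mk (Spec.map (CommRingCat.ofHom q') ≫ strV) ⟶ Over.mk strV) ≫ p)
    {Ω₀ : Type u} [Field Ω₀] (κ : sq.K →+* Ω₀) (σ₀ : RW →+* Ω₀)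
    (hσκ : σ₀.comp q' = (κ.comp (algebraMap sq.A sq.K)).comp m')
    (hσtop : ∀ jκ : Over.mk (Spec.map (CommRingCat.ofHom σ₀) ≫
        Spec.map (CommRingCat.ofHom q') ≫ strV) ⟶ sq.ptK,
      jκ.left = Spec.map (CommRingCat.ofHom κ) →
      (AlgSp.yon S).map (Over.homMk (Spec.map (CommRingCat.ofHom σ₀)) rfl :
        Over.mk (Spec.map (CommRingCat.ofHom σ₀) ≫ Spec.map (CommRingCat.ofHom q') ≫ strV) ⟶
          Over.mk (Spec.map (CommRingCat.ofHom q') ≫ strV)) ≫ c = (AlgSp.yon S).map jκ ≫ sq.top)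
    {L : Type u} [Field L] (ρ₀ : RW →+* L) (hker : ∀ r, ρ₀ r = 0 → σ₀ r = 0)
    (hρ : ∃ t : (AlgSp.yon S).obj (Over.mk (Spec.map (CommRingCat.ofHom ρ₀) ≫
        Spec.map (CommRingCat.ofHom q') ≫ strV)) ⟶ U,
      t ≫ h = (AlgSp.yon S).map (Over.homMk (Spec.map (CommRingCat.ofHom ρ₀)) rfl :
        Over.mk (Spec.map (CommRingCat.ofHom ρ₀) ≫ Spec.map (CommRingCat.ofHom q') ≫ strV) ⟶
          Over.mk (Spec.map (CommRingCat.ofHom q') ≫ strV)) ≫ c) :
    sq.HasLiftExt := by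
  obtain ⟨t, ht⟩ := hρ
  obtain ⟨L₁, hL₁, ι, B₁, θ₀, τ, hθ1, hθ2⟩ := exists_valuationSubring_of_ker_le ρ₀ σ₀ hker
  obtain ⟨κ₁, hκ₁⟩ : ∃ κ₁ : sq.K →+* ResidueField B₁, κ₁ = τ.comp κ := ⟨_, rfl⟩
  obtain ⟨A', hA'1, hA'2⟩ :=
    Groth.Agent.S19892.exists_valuationSubring_dominating sq.A sq.K (ResidueField B₁) κ₁
  have hπ : ∀ b : B₁, residue B₁ b = 0 ↔ ¬ IsUnit b := fun b => by
    rw [residue_eq_zero_iff, mem_maximalIdeal, mem_nonunits_iff]
  obtain ⟨C, hCdef⟩ : ∃ C : ValuationSubring L₁,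
      C = Groth.Agent.S19892.compositeVal B₁ (residue B₁) hπ A' := ⟨_, rfl⟩
  have hCmem : ∀ z : L₁, z ∈ C ↔ ∃ hz : z ∈ B₁, residue B₁ ⟨z, hz⟩ ∈ A' := fun z => by
    rw [hCdef]; exact Groth.Agent.S19892.mem_compositeVal B₁ (residue B₁) hπ A' z
  have hCB : C ≤ B₁ := fun z hz => ((hCmem z).1 hz).1
  have hC : ∀ b : B₁, residue B₁ b ∈ A' → (b : L₁) ∈ C := fun b hb => (hCmem _).2 ⟨b.2, hb⟩
  have hC' : ∀ c : C, residue B₁ (ValuationSubring.inclusion C B₁ hCB c) ∈ A' :=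
    fun c => ((hCmem _).1 c.2).2
  have hresθ : ∀ r : RV, residue B₁ (θ₀ (q' r)) = κ₁ (algebraMap sq.A sq.K (m' r)) := by
    intro r
    rw [hθ2, hκ₁]
    exact congrArg τ (RingHom.congr_fun hσκ r)
  have hmemC : ∀ r : RV, (B₁.subtype.comp (θ₀.comp q')) r ∈ C := fun r =>
    hC (θ₀ (q' r)) (by rw [hresθ]; exact hA'1 (m' r))
  obtain ⟨ν, hν⟩ : ∃ ν : RV →+* C, ∀ r, ((ν r : C) : L₁) = ((θ₀ (q' r) : B₁) : L₁) :=
    ⟨(B₁.subtype.comp (θ₀.comp q')).codRestrict C hmemC, fun r => rfl⟩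
  have I1 : (algebraMap C L₁).comp ν = (ι.comp ρ₀).comp q' :=
    RingHom.ext fun r => by
      rw [RingHom.comp_apply, RingHom.comp_apply, RingHom.comp_apply, ← hθ1]; exact hν r
  have I2 : (ValuationSubring.inclusion C B₁ hCB).comp ν = θ₀.comp q' :=
    RingHom.ext fun r => Subtype.ext (hν r)
  have I3 : (algebraMap B₁ L₁).comp θ₀ = ι.comp ρ₀ := RingHom.ext fun r => hθ1 r
  -- names for the hypotheses' morphisms
  obtain ⟨jq, hjq, hcf⟩ : ∃ j : Over.mk (Spec.map (CommRingCat.ofHom q') ≫ strV) ⟶ Over.mk strV,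
      j.left = Spec.map (CommRingCat.ofHom q') ∧ c ≫ f = (AlgSp.yon S).map j ≫ p :=
    ⟨_, rfl, hcf⟩
  obtain ⟨jρ, hjρ, ht⟩ : ∃ j : Over.mk (Spec.map (CommRingCat.ofHom ρ₀) ≫
      Spec.map (CommRingCat.ofHom q') ≫ strV) ⟶ Over.mk (Spec.map (CommRingCat.ofHom q') ≫ strV),
      j.left = Spec.map (CommRingCat.ofHom ρ₀) ∧ t ≫ h = (AlgSp.yon S).map j ≫ c := ⟨_, rfl, ht⟩
  -- the square for `C`
  obtain ⟨strC, hstrC⟩ : ∃ strC : Spec (CommRingCat.of C) ⟶ S,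
      strC = Spec.map (CommRingCat.ofHom ν) ≫ strV := ⟨_, rfl⟩
  obtain ⟨jν, hjν⟩ : ∃ j : Over.mk strC ⟶ Over.mk strV, j.left = Spec.map (CommRingCat.ofHom ν) :=
    ⟨Over.homMk (Spec.map (CommRingCat.ofHom ν)) hstrC.symm, rfl⟩
  obtain ⟨aC', haC'⟩ : ∃ j : Over.mk (Spec.map (CommRingCat.ofHom (algebraMap C L₁)) ≫ strC) ⟶
      Over.mk (Spec.map (CommRingCat.ofHom ρ₀) ≫ Spec.map (CommRingCat.ofHom q') ≫ strV),
      j.left = Spec.map (CommRingCat.ofHom ι) := ⟨Over.homMk (Spec.map (CommRingCat.ofHom ι)) (by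
        change Spec.map _ ≫ Spec.map _ ≫ Spec.map _ ≫ _ = Spec.map _ ≫ _
        rw [hstrC, ← Spec.map_comp_assoc, ← Spec.map_comp_assoc, ← Spec.map_comp_assoc,
          ← CommRingCat.ofHom_comp, ← CommRingCat.ofHom_comp, ← CommRingCat.ofHom_comp, I1,
          RingHom.comp_assoc]), rfl⟩
  obtain ⟨jLC, hjLC⟩ : ∃ j : Over.mk (Spec.map (CommRingCat.ofHom (algebraMap C L₁)) ≫ strC) ⟶
      Over.mk strC, j = Over.homMk (Spec.map (CommRingCat.ofHom (algebraMap C L₁))) rfl := ⟨_, rfl⟩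
  have hjLCl : jLC.left = Spec.map (CommRingCat.ofHom (algebraMap C L₁)) := by rw [hjLC]; rfl
  obtain ⟨topC, htopC⟩ : ∃ topC : (AlgSp.yon S).obj (Over.mk (Spec.map (CommRingCat.ofHom
      (algebraMap C L₁)) ≫ strC)) ⟶ X, topC = (AlgSp.yon S).map (aC' ≫ jρ) ≫ c := ⟨_, rfl⟩
  obtain ⟨botC, hbotC⟩ : ∃ botC : (AlgSp.yon S).obj (Over.mk strC) ⟶ Y,
      botC = (AlgSp.yon S).map jν ≫ p := ⟨_, rfl⟩
  have hcommC : topC ≫ f = (AlgSp.yon S).map jLC ≫ botC := by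
    rw [htopC, hbotC, Category.assoc, hcf, ← Functor.map_comp_assoc, ← Functor.map_comp_assoc]
    congr 2
    apply Over.OverMorphism.ext
    rw [Over.comp_left, Over.comp_left, Over.comp_left, haC', hjρ, hjq, hjLCl, hjν,
      ← Spec.map_comp, ← Spec.map_comp, ← Spec.map_comp, ← CommRingCat.ofHom_comp,
      ← CommRingCat.ofHom_comp, ← CommRingCat.ofHom_comp, I1, RingHom.comp_assoc]
  have hthrough : ∃ t' : (AlgSp.yon S).obj (Over.mk (Spec.map (CommRingCat.ofHom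
      (algebraMap C L₁)) ≫ strC)) ⟶ U, t' ≫ h = topC :=
    ⟨(AlgSp.yon S).map aC' ≫ t, by rw [Category.assoc, ht, htopC, Functor.map_comp_assoc]⟩
  -- the arrow for `B₁`
  obtain ⟨bW, hbW⟩ : ∃ j : Over.mk (Spec.map (CommRingCat.ofHom
      (ValuationSubring.inclusion C B₁ hCB)) ≫ strC) ⟶
      Over.mk (Spec.map (CommRingCat.ofHom q') ≫ strV),
      j.left = Spec.map (CommRingCat.ofHom θ₀) := ⟨Over.homMk (Spec.map (CommRingCat.ofHom θ₀)) (by
        change Spec.map _ ≫ Spec.map _ ≫ _ = Spec.map _ ≫ _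
        rw [hstrC, ← Spec.map_comp_assoc, ← Spec.map_comp_assoc, ← CommRingCat.ofHom_comp,
          ← CommRingCat.ofHom_comp, I2]), rfl⟩
  obtain ⟨jBC, hjBC⟩ : ∃ j : Over.mk (Spec.map (CommRingCat.ofHom
      (ValuationSubring.inclusion C B₁ hCB)) ≫ strC) ⟶ Over.mk strC,
      j = Over.homMk (Spec.map (CommRingCat.ofHom (ValuationSubring.inclusion C B₁ hCB))) rfl :=
    ⟨_, rfl⟩
  have hjBCl : jBC.left = Spec.map (CommRingCat.ofHom (ValuationSubring.inclusion C B₁ hCB)) := by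
    rw [hjBC]; rfl
  obtain ⟨β, hβ⟩ : ∃ β : (AlgSp.yon S).obj (Over.mk (Spec.map (CommRingCat.ofHom
      (ValuationSubring.inclusion C B₁ hCB)) ≫ strC)) ⟶ X, β = (AlgSp.yon S).map bW ≫ c :=
    ⟨_, rfl⟩
  have hβ1 : ∀ jLB : Over.mk (Spec.map (CommRingCat.ofHom (algebraMap C L₁)) ≫ strC) ⟶
      Over.mk (Spec.map (CommRingCat.ofHom (ValuationSubring.inclusion C B₁ hCB)) ≫ strC),
      jLB.left = Spec.map (CommRingCat.ofHom (algebraMap B₁ L₁)) →
      (AlgSp.yon S).map jLB ≫ β = topC := by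
    intro jLB hjLB
    rw [hβ, htopC, ← Functor.map_comp_assoc]
    congr 2
    apply Over.OverMorphism.ext
    rw [Over.comp_left, Over.comp_left, hjLB, hbW, haC', hjρ, ← Spec.map_comp, ← Spec.map_comp,
      ← CommRingCat.ofHom_comp, ← CommRingCat.ofHom_comp, I3]
  have hβ2 : β ≫ f = (AlgSp.yon S).map jBC ≫ botC := by
    rw [hβ, hbotC, Category.assoc, hcf, ← Functor.map_comp_assoc, ← Functor.map_comp_assoc]
    congr 2
    apply Over.OverMorphism.ext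
    rw [Over.comp_left, Over.comp_left, hbW, hjq, hjBCl, hjν, ← Spec.map_comp, ← Spec.map_comp,
      ← CommRingCat.ofHom_comp, ← CommRingCat.ofHom_comp, I2]
  have hUq : ∀ sq' : AlgSp.ValSq f,
      (∃ a : sq'.ptK ⟶ Over.mk (Spec.map (CommRingCat.ofHom (algebraMap C L₁)) ≫ strC),
        sq'.top = (AlgSp.yon S).map a ≫ topC) → sq'.HasUniq := by
    rintro sq' ⟨a, ha⟩
    obtain ⟨t', ht'⟩ := hthrough
    exact (hv sq' ⟨(AlgSp.yon S).map a ≫ t', by rw [Category.assoc, ht', ha]⟩).1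
  have hcommC' := hcommC
  rw [hjLC] at hcommC'
  have hβ2' := hβ2
  rw [hjBC] at hβ2'
  let sqC : AlgSp.ValSq f :=
    { A := C, K := L₁, str := strC, top := topC, bot := botC, comm := hcommC' }
  obtain ⟨eC, l, hl1, hl2⟩ := (hv sqC hthrough).2
  haveI := eC.isLocalHom
  obtain ⟨K'', hK'', A'', γC, ρk, l'', hγloc, hγ, hl''f, hl''k⟩ :=
    exists_residue_lift f C B₁ hCB strC topC botC hcommC' β hβ1 hβ2' hUq (L' := eC.K')
      (A' := eC.A') eC.ψ eC.φ eC.comm l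
      (by
        intro j1 j2 h1 h2
        have e1 : j1 = Over.homMk (Spec.map (CommRingCat.ofHom (algebraMap eC.A' eC.K'))) rfl :=
          Over.OverMorphism.ext h1
        have e2 : j2 = Over.homMk (Spec.map (CommRingCat.ofHom eC.ψ)) (Over.w j2 ▸ by rw [h2]) :=
          Over.OverMorphism.ext h2
        rw [e1, e2]
        exact hl1) hl2
  haveI := hγloc
  obtain ⟨φe, hφeloc, hφe⟩ := exists_domExt_map B₁ κ₁ A' hA'1 hA'2 C hCB hC hC' A'' γC ρk hγ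
  have J1 : φe.comp m' = γC.comp ν := RingHom.ext fun r => Subtype.ext (by
    rw [RingHom.comp_apply, RingHom.comp_apply, hφe, hγ]
    have := RingHom.congr_fun I2 r
    rw [RingHom.comp_apply, RingHom.comp_apply] at this
    rw [this, hresθ])
  have J2 : (algebraMap A'' K'').comp φe = (ρk.comp κ₁).comp (algebraMap sq.A sq.K) :=
    RingHom.ext fun a => hφe a
  have J3 : (ρk.comp (residue B₁)).comp θ₀ = (ρk.comp τ).comp σ₀ := RingHom.ext fun r => by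
    rw [RingHom.comp_apply, RingHom.comp_apply, RingHom.comp_apply, RingHom.comp_apply, hθ2]
  have J4 : (ρk.comp (residue B₁)).comp (ValuationSubring.inclusion C B₁ hCB) =
      (algebraMap A'' K'').comp γC := RingHom.ext fun c => (hγ c).symm
  have J5 : ρk.comp κ₁ = (ρk.comp τ).comp κ := by rw [hκ₁, RingHom.comp_assoc]
  have J6 : ((ρk.comp τ).comp σ₀).comp q' = ((algebraMap A'' K'').comp φe).comp m' := by
    rw [J2, J5, RingHom.comp_assoc, hσκ]
    rfl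
  refine ⟨{ A' := A'', K' := K'', φ := φe, ψ := ρk.comp κ₁, comm := J2, isLocalHom := hφeloc }, ?_⟩
  obtain ⟨iso, hiso⟩ : ∃ j : Over.mk (Spec.map (CommRingCat.ofHom φe) ≫ sq.str) ⟶
      Over.mk (Spec.map (CommRingCat.ofHom γC) ≫ strC), j.left = 𝟙 _ := ⟨Over.homMk (𝟙 _) (by
        change 𝟙 _ ≫ Spec.map _ ≫ _ = Spec.map _ ≫ _
        rw [Category.id_comp, hstrC, hstr, ← Spec.map_comp_assoc, ← Spec.map_comp_assoc,
          ← CommRingCat.ofHom_comp, ← CommRingCat.ofHom_comp, J1]), rfl⟩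
  refine ⟨(AlgSp.yon S).map iso ≫ l'', ?_, ?_⟩
  · -- restriction to the generic point
    obtain ⟨jK, hjK⟩ : ∃ j : Over.mk (Spec.map (CommRingCat.ofHom (algebraMap A'' K'')) ≫
        Spec.map (CommRingCat.ofHom φe) ≫ sq.str) ⟶ Over.mk (Spec.map (CommRingCat.ofHom φe) ≫ sq.str),
        j = Over.homMk (Spec.map (CommRingCat.ofHom (algebraMap A'' K''))) rfl := ⟨_, rfl⟩
    have hjKl : jK.left = Spec.map (CommRingCat.ofHom (algebraMap A'' K'')) := by rw [hjK]; rfl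
    obtain ⟨jψe, hjψe⟩ : ∃ j : Over.mk (Spec.map (CommRingCat.ofHom (algebraMap A'' K'')) ≫
        Spec.map (CommRingCat.ofHom φe) ≫ sq.str) ⟶ sq.ptK,
        j = Over.homMk (Spec.map (CommRingCat.ofHom (ρk.comp κ₁))) (by
          change Spec.map _ ≫ Spec.map _ ≫ _ = Spec.map _ ≫ Spec.map _ ≫ _
          rw [← Spec.map_comp_assoc, ← Spec.map_comp_assoc, ← CommRingCat.ofHom_comp,
            ← CommRingCat.ofHom_comp, J2]) := ⟨_, rfl⟩
    have hjψel : jψe.left = Spec.map (CommRingCat.ofHom (ρk.comp κ₁)) := by rw [hjψe]; rfl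
    suffices hgoal : (AlgSp.yon S).map jK ≫ (AlgSp.yon S).map iso ≫ l'' =
        (AlgSp.yon S).map jψe ≫ sq.top by
      rw [hjK, hjψe] at hgoal
      exact hgoal
    obtain ⟨isoK, hisoK⟩ : ∃ j : Over.mk (Spec.map (CommRingCat.ofHom (algebraMap A'' K'')) ≫
        Spec.map (CommRingCat.ofHom φe) ≫ sq.str) ⟶
        Over.mk (Spec.map (CommRingCat.ofHom (algebraMap A'' K'')) ≫
          Spec.map (CommRingCat.ofHom γC) ≫ strC), j.left = 𝟙 _ := ⟨Over.homMk (𝟙 _) (by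
          change 𝟙 _ ≫ Spec.map _ ≫ Spec.map _ ≫ _ = Spec.map _ ≫ Spec.map _ ≫ _
          rw [Category.id_comp, hstrC, hstr, ← Spec.map_comp_assoc (CommRingCat.ofHom ν),
            ← Spec.map_comp_assoc (CommRingCat.ofHom m'), ← CommRingCat.ofHom_comp,
            ← CommRingCat.ofHom_comp, J1]), rfl⟩
    obtain ⟨jKC, hjKC⟩ : ∃ j : Over.mk (Spec.map (CommRingCat.ofHom (algebraMap A'' K'')) ≫
          Spec.map (CommRingCat.ofHom γC) ≫ strC) ⟶ Over.mk (Spec.map (CommRingCat.ofHom γC) ≫ strC),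
        j = Over.homMk (Spec.map (CommRingCat.ofHom (algebraMap A'' K''))) rfl := ⟨_, rfl⟩
    have hjKCl : jKC.left = Spec.map (CommRingCat.ofHom (algebraMap A'' K'')) := by rw [hjKC]; rfl
    obtain ⟨jk, hjk⟩ : ∃ j : Over.mk (Spec.map (CommRingCat.ofHom (algebraMap A'' K'')) ≫
          Spec.map (CommRingCat.ofHom γC) ≫ strC) ⟶
          Over.mk (Spec.map (CommRingCat.ofHom (ValuationSubring.inclusion C B₁ hCB)) ≫ strC),
        j.left = Spec.map (CommRingCat.ofHom (ρk.comp (residue B₁))) := ⟨Over.homMk _ (by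
          change Spec.map _ ≫ Spec.map _ ≫ _ = Spec.map _ ≫ Spec.map _ ≫ _
          rw [← Spec.map_comp_assoc, ← Spec.map_comp_assoc, ← CommRingCat.ofHom_comp,
            ← CommRingCat.ofHom_comp, J4]), rfl⟩
    have hk := hl''k jk hjk
    rw [← hjKC] at hk
    obtain ⟨jσ, hjσ⟩ : ∃ j : Over.mk (Spec.map (CommRingCat.ofHom σ₀) ≫
        Spec.map (CommRingCat.ofHom q') ≫ strV) ⟶ Over.mk (Spec.map (CommRingCat.ofHom q') ≫ strV),
        j = Over.homMk (Spec.map (CommRingCat.ofHom σ₀)) rfl := ⟨_, rfl⟩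
    have hjσl : jσ.left = Spec.map (CommRingCat.ofHom σ₀) := by rw [hjσ]; rfl
    obtain ⟨jκ, hjκ⟩ : ∃ j : Over.mk (Spec.map (CommRingCat.ofHom σ₀) ≫
        Spec.map (CommRingCat.ofHom q') ≫ strV) ⟶ sq.ptK,
        j.left = Spec.map (CommRingCat.ofHom κ) := ⟨Over.homMk _ (by
          change Spec.map _ ≫ Spec.map _ ≫ _ = Spec.map _ ≫ Spec.map _ ≫ _
          rw [hstr, ← Spec.map_comp_assoc, ← Spec.map_comp_assoc, ← Spec.map_comp_assoc,
            ← CommRingCat.ofHom_comp, ← CommRingCat.ofHom_comp, ← CommRingCat.ofHom_comp, hσκ,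
            RingHom.comp_assoc]), rfl⟩
    have hσ := hσtop jκ hjκ
    rw [← hjσ] at hσ
    obtain ⟨jτ, hjτ⟩ : ∃ j : Over.mk (Spec.map (CommRingCat.ofHom (algebraMap A'' K'')) ≫
        Spec.map (CommRingCat.ofHom φe) ≫ sq.str) ⟶ Over.mk (Spec.map (CommRingCat.ofHom σ₀) ≫
        Spec.map (CommRingCat.ofHom q') ≫ strV),
        j.left = Spec.map (CommRingCat.ofHom (ρk.comp τ)) := ⟨Over.homMk _ (by
          change Spec.map _ ≫ Spec.map _ ≫ Spec.map _ ≫ _ = Spec.map _ ≫ Spec.map _ ≫ _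
          rw [hstr, ← Spec.map_comp_assoc, ← Spec.map_comp_assoc, ← Spec.map_comp_assoc,
            ← Spec.map_comp_assoc, ← CommRingCat.ofHom_comp, ← CommRingCat.ofHom_comp,
            ← CommRingCat.ofHom_comp, ← CommRingCat.ofHom_comp, ← J6]), rfl⟩
    have G1 : jK ≫ iso = isoK ≫ jKC := by
      apply Over.OverMorphism.ext
      rw [Over.comp_left, Over.comp_left, hjKl, hiso, hisoK, hjKCl, Category.id_comp]
      exact Category.comp_id _
    have G2 : jψe = jτ ≫ jκ := by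
      apply Over.OverMorphism.ext
      rw [Over.comp_left, hjψel, hjτ, hjκ, ← Spec.map_comp, ← CommRingCat.ofHom_comp, J5]
    have G3 : isoK ≫ jk ≫ bW = jτ ≫ jσ := by
      apply Over.OverMorphism.ext
      rw [Over.comp_left, Over.comp_left, Over.comp_left, hisoK, hjk, hbW, hjτ, hjσl,
        Category.id_comp]
      exact specMap_comp_eq _ _ _ _ J3
    calc (AlgSp.yon S).map jK ≫ (AlgSp.yon S).map iso ≫ l''
        = (AlgSp.yon S).map (jK ≫ iso) ≫ l'' := by rw [Functor.map_comp_assoc]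
      _ = (AlgSp.yon S).map isoK ≫ (AlgSp.yon S).map jKC ≫ l'' := by
          rw [G1, Functor.map_comp_assoc]
      _ = (AlgSp.yon S).map isoK ≫ (AlgSp.yon S).map jk ≫ (AlgSp.yon S).map bW ≫ c := by
          rw [hk, hβ]
      _ = (AlgSp.yon S).map (isoK ≫ jk ≫ bW) ≫ c := by
          rw [Functor.map_comp_assoc, Functor.map_comp_assoc]
      _ = (AlgSp.yon S).map jτ ≫ (AlgSp.yon S).map jσ ≫ c := by
          rw [G3, Functor.map_comp_assoc]
      _ = (AlgSp.yon S).map jτ ≫ (AlgSp.yon S).map jκ ≫ sq.top := by rw [hσ]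
      _ = (AlgSp.yon S).map jψe ≫ sq.top := by rw [G2, Functor.map_comp_assoc]
  · -- composition with `f`
    obtain ⟨jφe, hjφe⟩ : ∃ j : Over.mk (Spec.map (CommRingCat.ofHom φe) ≫ sq.str) ⟶ sq.ptA,
        j = Over.homMk (Spec.map (CommRingCat.ofHom φe)) rfl := ⟨_, rfl⟩
    have hjφel : jφe.left = Spec.map (CommRingCat.ofHom φe) := by rw [hjφe]; rfl
    suffices hgoal : ((AlgSp.yon S).map iso ≫ l'') ≫ f = (AlgSp.yon S).map jφe ≫ sq.bot by
      rw [hjφe] at hgoal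
      exact hgoal
    obtain ⟨jm, hjm⟩ : ∃ j : sq.ptA ⟶ Over.mk strV, j.left = Spec.map (CommRingCat.ofHom m') :=
      ⟨Over.homMk (Spec.map (CommRingCat.ofHom m')) hstr.symm, rfl⟩
    obtain ⟨jγ, hjγ⟩ : ∃ j : Over.mk (Spec.map (CommRingCat.ofHom γC) ≫ strC) ⟶ Over.mk strC,
        j = Over.homMk (Spec.map (CommRingCat.ofHom γC)) rfl := ⟨_, rfl⟩
    have hjγl : jγ.left = Spec.map (CommRingCat.ofHom γC) := by rw [hjγ]; rfl
    rw [← hjγ] at hl''f
    rw [Category.assoc, hl''f, hbotC, hbot jm hjm, ← Functor.map_comp_assoc,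
      ← Functor.map_comp_assoc, ← Functor.map_comp_assoc]
    congr 2
    apply Over.OverMorphism.ext
    rw [Over.comp_left, Over.comp_left, Over.comp_left, hiso, hjγl, hjν, hjφel, hjm,
      Category.id_comp]
    exact (specMap_comp_eq _ _ _ _ J1).symm

/-- the same with a general structure morphism on `Spec RW`. -/
theorem hasLiftExt_of_affine_data' {U X Y : AlgSp.Sp S} (f : X ⟶ Y) (h : U ⟶ X)
    (hv : ∀ sq : AlgSp.ValSq f, (∃ t : (AlgSp.yon S).obj sq.ptK ⟶ U, t ≫ h = sq.top) →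
      sq.HasUniq ∧ sq.HasLiftExt)
    (sq : AlgSp.ValSq f) {RV RW : Type u} [CommRing RV] [CommRing RW]
    (strV : Spec (CommRingCat.of RV) ⟶ S) (p : (AlgSp.yon S).obj (Over.mk strV) ⟶ Y)
    (m' : RV →+* sq.A) (hstr : sq.str = Spec.map (CommRingCat.ofHom m') ≫ strV)
    (hbot : ∀ jm : sq.ptA ⟶ Over.mk strV, jm.left = Spec.map (CommRingCat.ofHom m') →
      sq.bot = (AlgSp.yon S).map jm ≫ p)
    (q' : RV →+* RW) (strW : Spec (CommRingCat.of RW) ⟶ S)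
    (hstrW : strW = Spec.map (CommRingCat.ofHom q') ≫ strV)
    (c : (AlgSp.yon S).obj (Over.mk strW) ⟶ X)
    (hcf : ∀ jq : Over.mk strW ⟶ Over.mk strV, jq.left = Spec.map (CommRingCat.ofHom q') →
      c ≫ f = (AlgSp.yon S).map jq ≫ p)
    {Ω₀ : Type u} [Field Ω₀] (κ : sq.K →+* Ω₀) (σ₀ : RW →+* Ω₀)
    (hσκ : σ₀.comp q' = (κ.comp (algebraMap sq.A sq.K)).comp m')
    (hσtop : ∀ (jσ : Over.mk (Spec.map (CommRingCat.ofHom σ₀) ≫ strW) ⟶ Over.mk strW)
      (jκ : Over.mk (Spec.map (CommRingCat.ofHom σ₀) ≫ strW) ⟶ sq.ptK),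
      jσ.left = Spec.map (CommRingCat.ofHom σ₀) → jκ.left = Spec.map (CommRingCat.ofHom κ) →
      (AlgSp.yon S).map jσ ≫ c = (AlgSp.yon S).map jκ ≫ sq.top)
    {L : Type u} [Field L] (ρ₀ : RW →+* L) (hker : ∀ r, ρ₀ r = 0 → σ₀ r = 0)
    (hρ : ∃ t : (AlgSp.yon S).obj (Over.mk (Spec.map (CommRingCat.ofHom ρ₀) ≫ strW)) ⟶ U,
      ∀ jρ : Over.mk (Spec.map (CommRingCat.ofHom ρ₀) ≫ strW) ⟶ Over.mk strW,
        jρ.left = Spec.map (CommRingCat.ofHom ρ₀) → t ≫ h = (AlgSp.yon S).map jρ ≫ c) :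
    sq.HasLiftExt := by
  subst hstrW
  obtain ⟨t, ht⟩ := hρ
  exact hasLiftExt_of_affine_data f h hv sq strV p m' hstr hbot q' c (hcf _ rfl) κ σ₀ hσκ
    (fun jκ hjκ => hσtop _ jκ rfl hjκ) ρ₀ hker ⟨t, ht _ rfl⟩

end Groth.Agent.Lib.Helper9.RefCore
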