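import Mathlib
import Groth.Agent.Lib.Helper12ClosureImage
import Groth.Agent.S9874
import Groth.Agent.S9913
import Groth.Agent.S10175
import Groth.Agent.S10176
import Groth.Agent.S10177
import Groth.Agent.S10180

/-!
# Points of an étale affine chart are specializations of points in the image of a dense quasi-compact morphism
(helper9)
-/

set_option autoImplicit false
set_option linter.style.haveILetI false
set_option backward.isDefEq.respectTransparency false
universe u
open CategoryTheory CategoryTheory.Limits AlgebraicGeometry Opposite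
open AlgSp

namespace Groth.Agent.Lib.Helper9.RefSp

variable {S : Scheme.{u}}

theorem exists_specializes_chart {U X : AlgSp.Space S} (h : U ⟶ X)
    (hh : AlgSp.IsQuasiCompactMor h.hom) (hd : DenseRange (AlgSp.Points.map h.hom)) {W : Over S}
    [IsAffine W.left] (c : (AlgSp.yon S).obj W ⟶ X.obj) (hce : AlgSp.RepWith @Etale c)
    (w : W.left) :
    ∃ (U'' : Over S) (g : U'' ⟶ W) (t : (AlgSp.yon S).obj U'' ⟶ U.obj) (u'' : U''.left),
      t ≫ h.hom = (AlgSp.yon S).map g ≫ c ∧ g.left u'' ⤳ w := by
  have hsq : IsPullback (pullback.fst h.hom c) (pullback.snd h.hom c) h.hom c :=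
    IsPullback.of_hasPullback h.hom c
  have hP : AlgSp.IsAlgSpace (pullback h.hom c) :=
    Groth.Agent.S9874.isAlgSpace_of_isPullback X.property.diag U.property
      (AlgSp.IsAlgSpace.yon_obj W) hsq
  have hPc : AlgSp.IsQuasiCompactSp (pullback h.hom c) :=
    hh (AlgSp.IsAlgSpace.yon_obj W) (Groth.Agent.S9913.isQuasiCompactSp_yon_of_compact W) c _ _ hsq
  obtain ⟨U'', q, hUa, hqe, hqs⟩ :=
    (Groth.Agent.S10180.result (⟨pullback h.hom c, hP⟩ : AlgSp.Space S)).1 hPc
  haveI : IsAffine U''.left := hUa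
  obtain ⟨g, hg⟩ := (AlgSp.yon S).map_surjective (q ≫ pullback.snd h.hom c)
  haveI : QuasiCompact g.left := inferInstance
  have hsub : AlgSp.Points.ofPt c ⁻¹' Set.range (AlgSp.Points.map h.hom) ⊆ Set.range g.left := by
    rintro t ⟨x, hx⟩
    have e : AlgSp.Points.map c (AlgSp.Points.ofScheme _ t) = AlgSp.Points.map h.hom x := by
      rw [← AlgSp.Points.ofPt_eq_map_ofScheme]
      exact hx.symm
    obtain ⟨π, hπ1, -⟩ := Groth.Agent.S10175.exists_point_of_isPullback hsq.flip _ _ e
    obtain ⟨u, rfl⟩ := Groth.Agent.S10177.surjective_ofPt q hqs π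
    refine ⟨u, ?_⟩
    apply (AlgSp.Points.schemeEquiv _).injective
    change AlgSp.Points.ofPt (𝟙 _) (g.left u) = AlgSp.Points.ofScheme _ t
    rw [← hπ1, AlgSp.Points.map_ofPt, ← hg, ← Groth.Agent.S10176.ofPt_map_comp, Category.comp_id]
  have hdense : Dense (Set.range g.left) :=
    (Dense.preimage hd (Groth.Agent.S10176.isOpenMap_ofPt c hce)).mono hsub
  obtain ⟨u'', hu''⟩ :=
    Groth.Agent.Lib.Helper12.exists_specializes_of_mem_closure_range g.left w (hdense w)
  refine ⟨U'', g, q ≫ pullback.fst h.hom c, u'', ?_, hu''⟩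
  rw [Category.assoc, pullback.condition, ← Category.assoc, hg]

end Groth.Agent.Lib.Helper9.RefSp
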