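import Mathlib
import Groth.Agent.Lib.Helper9RefCore
import Groth.Agent.Lib.Helper9RefSp

/-!
# The refined valuative criterion: squares whose bottom arrow factors through an affine étale chart (helper9)
-/

set_option autoImplicit false
set_option linter.style.haveILetI false
set_option backward.isDefEq.respectTransparency false
set_option maxHeartbeats 1600000
universe u
open CategoryTheory CategoryTheory.Limits AlgebraicGeometry Opposite
open AlgSp

namespace Groth.Agent.Lib.Helper9.RefChart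

open IsLocalRing Groth.Agent.Lib.Helper9.RefExt Groth.Agent.Lib.Helper9.RefCore

variable {S : Scheme.{u}}

theorem hasLiftExt_of_chart {U X Y : AlgSp.Space S} (f : X ⟶ Y) (h : U ⟶ X)
    (hf : AlgSp.IsQuasiCompactMor f.hom) (hh : AlgSp.IsQuasiCompactMor h.hom)
    (hd : DenseRange (AlgSp.Points.map h.hom))
    (hv : ∀ sq : AlgSp.ValSq f.hom, (∃ t : (AlgSp.yon S).obj sq.ptK ⟶ U.obj, t ≫ h.hom = sq.top) →
      sq.HasUniq ∧ sq.HasLiftExt)
    (sq : AlgSp.ValSq f.hom) {RV : Type u} [CommRing RV] (strV : Spec (CommRingCat.of RV) ⟶ S)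
    (p : (AlgSp.yon S).obj (Over.mk strV) ⟶ Y.obj) (hp : AlgSp.RepWith @Etale p)
    (m' : RV →+* sq.A) (hstr : sq.str = Spec.map (CommRingCat.ofHom m') ≫ strV)
    (hbot : ∀ jm : sq.ptA ⟶ Over.mk strV, jm.left = Spec.map (CommRingCat.ofHom m') →
      sq.bot = (AlgSp.yon S).map jm ≫ p) :
    sq.HasLiftExt := by
  haveI : IsAffine (Over.mk strV).left := (inferInstance : IsAffine (Spec (CommRingCat.of RV)))
  have hsqV : IsPullback (pullback.fst f.hom p) (pullback.snd f.hom p) f.hom p :=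
    IsPullback.of_hasPullback _ _
  have hXV : AlgSp.IsAlgSpace (pullback f.hom p) :=
    Groth.Agent.S9874.isAlgSpace_of_isPullback Y.property.diag X.property
      (AlgSp.IsAlgSpace.yon_obj _) hsqV
  have hXVc : AlgSp.IsQuasiCompactSp (pullback f.hom p) :=
    hf (AlgSp.IsAlgSpace.yon_obj _) (Groth.Agent.S9913.isQuasiCompactSp_yon_of_compact _) p _ _ hsqV
  have hpr₁ : AlgSp.RepWith @Etale (pullback.fst f.hom p) :=
    MorphismProperty.of_isPullback (P := AlgSp.RepWith @Etale) hsqV.flip hp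
  obtain ⟨W₀, b₀, hW₀a, hb₀e, hb₀s⟩ :=
    (Groth.Agent.S10180.result (⟨pullback f.hom p, hXV⟩ : AlgSp.Space S)).1 hXVc
  haveI : IsAffine W₀.left := hW₀a
  -- the chart in `Spec` form
  obtain ⟨iW, hiW⟩ : ∃ iW : Spec (CommRingCat.of ↑Γ(W₀.left, ⊤)) ⟶ W₀.left, IsIso iW :=
    ⟨W₀.left.isoSpec.inv, inferInstance⟩
  obtain ⟨strW, hstrW⟩ : ∃ strW : Spec (CommRingCat.of ↑Γ(W₀.left, ⊤)) ⟶ S, strW = iW ≫ W₀.hom :=
    ⟨_, rfl⟩
  obtain ⟨gW, hgW⟩ : ∃ gW : Over.mk strW ⟶ W₀, gW.left = iW := ⟨Over.homMk iW hstrW.symm, rfl⟩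
  obtain ⟨b, hb⟩ : ∃ b : (AlgSp.yon S).obj (Over.mk strW) ⟶ pullback f.hom p,
      b = (AlgSp.yon S).map gW ≫ b₀ := ⟨_, rfl⟩
  have hbe : AlgSp.RepWith @Etale b := by
    rw [hb]
    exact (AlgSp.RepWith @Etale).comp_mem _ _
      ((AlgSp.repWith_yon_map_iff _ gW).2 (by rw [hgW]; infer_instance)) hb₀e
  have hbs : AlgSp.RepWith @Surjective b := by
    rw [hb]
    exact (AlgSp.RepWith @Surjective).comp_mem _ _
      ((AlgSp.repWith_yon_map_iff _ gW).2 (by rw [hgW]; infer_instance)) hb₀s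
  obtain ⟨c, hc⟩ : ∃ c : (AlgSp.yon S).obj (Over.mk strW) ⟶ X.obj, c = b ≫ pullback.fst f.hom p :=
    ⟨_, rfl⟩
  have hce : AlgSp.RepWith @Etale c := by
    rw [hc]
    exact (AlgSp.RepWith @Etale).comp_mem _ _ hbe hpr₁
  obtain ⟨qW, hqW⟩ := (AlgSp.yon S).map_surjective (b ≫ pullback.snd f.hom p)
  obtain ⟨q'c, hq'c⟩ := Spec.map_surjective qW.left
  obtain ⟨q', hq'⟩ : ∃ q' : RV →+* ↑Γ(W₀.left, ⊤), Spec.map (CommRingCat.ofHom q') = qW.left :=
    ⟨q'c.hom, hq'c⟩
  have hstrWq : strW = Spec.map (CommRingCat.ofHom q') ≫ strV := by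
    rw [hq']; exact (Over.w qW).symm
  have hcf : ∀ jq : Over.mk strW ⟶ Over.mk strV, jq.left = Spec.map (CommRingCat.ofHom q') →
      c ≫ f.hom = (AlgSp.yon S).map jq ≫ p := by
    intro jq hjq
    have : jq = qW := Over.OverMorphism.ext (by rw [hjq, hq'])
    rw [this, hqW, hc, Category.assoc, Category.assoc, pullback.condition]
  -- the point of the fibre of the chart over `Spec K`
  obtain ⟨jm, hjm⟩ : ∃ jm : sq.ptA ⟶ Over.mk strV, jm.left = Spec.map (CommRingCat.ofHom m') :=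
    ⟨Over.homMk _ hstr.symm, rfl⟩
  have hbotm := hbot jm hjm
  obtain ⟨tV, htV1, htV2⟩ : ∃ tV : (AlgSp.yon S).obj sq.ptK ⟶ pullback f.hom p,
      tV ≫ pullback.fst f.hom p = sq.top ∧
      tV ≫ pullback.snd f.hom p = (AlgSp.yon S).map (sq.j ≫ jm) :=
    ⟨pullback.lift sq.top ((AlgSp.yon S).map (sq.j ≫ jm))
      (by rw [sq.comm, hbotm, Functor.map_comp_assoc]), pullback.lift_fst _ _ _,
      pullback.lift_snd _ _ _⟩
  obtain ⟨F, wF, prF, sqF⟩ := hbs.1 tV
  haveI : Surjective wF.left := hbs.2 _ _ wF sqF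
  obtain ⟨y, -⟩ := Scheme.Hom.surjective wF.left (closedPoint sq.K)
  obtain ⟨prW, hprW⟩ := (AlgSp.yon S).map_surjective prF
  obtain ⟨σc, hσc⟩ := Spec.map_surjective (F.left.fromSpecResidueField y ≫ prW.left)
  obtain ⟨κc, hκc⟩ := Spec.map_surjective (F.left.fromSpecResidueField y ≫ wF.left)
  obtain ⟨σ₀, hσ₀⟩ : ∃ σ₀ : ↑Γ(W₀.left, ⊤) →+* ↑(F.left.residueField y),
      Spec.map (CommRingCat.ofHom σ₀) = F.left.fromSpecResidueField y ≫ prW.left := ⟨σc.hom, hσc⟩
  obtain ⟨κ, hκ⟩ : ∃ κ : sq.K →+* ↑(F.left.residueField y),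
      Spec.map (CommRingCat.ofHom κ) = F.left.fromSpecResidueField y ≫ wF.left := ⟨κc.hom, hκc⟩
  have hFcomm : prW ≫ qW = wF ≫ sq.j ≫ jm := by
    apply (AlgSp.yon S).map_injective
    rw [Functor.map_comp, hprW, hqW, ← Category.assoc, sqF.w, Category.assoc, htV2,
      ← Functor.map_comp]
  have hσκ : σ₀.comp q' = (κ.comp (algebraMap sq.A sq.K)).comp m' := by
    have h1 : Spec.map (CommRingCat.ofHom (σ₀.comp q')) =
        Spec.map (CommRingCat.ofHom ((κ.comp (algebraMap sq.A sq.K)).comp m')) := by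
      rw [CommRingCat.ofHom_comp, CommRingCat.ofHom_comp, CommRingCat.ofHom_comp, Spec.map_comp,
        Spec.map_comp, Spec.map_comp, hσ₀, hκ, hq', Category.assoc, Category.assoc]
      have h2 := congrArg (fun z => z.left) hFcomm
      simp only [Over.comp_left] at h2
      rw [h2, hjm]
      rfl
    have h3 := Spec.map_injective h1
    exact congrArg (fun z => z.hom) h3
  have hσtop : ∀ (jσ : Over.mk (Spec.map (CommRingCat.ofHom σ₀) ≫ strW) ⟶ Over.mk strW)
      (jκ : Over.mk (Spec.map (CommRingCat.ofHom σ₀) ≫ strW) ⟶ sq.ptK),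
      jσ.left = Spec.map (CommRingCat.ofHom σ₀) → jκ.left = Spec.map (CommRingCat.ofHom κ) →
      (AlgSp.yon S).map jσ ≫ c = (AlgSp.yon S).map jκ ≫ sq.top := by
    intro jσ jκ hjσ hjκ
    obtain ⟨jy, hjy⟩ : ∃ jy : Over.mk (Spec.map (CommRingCat.ofHom σ₀) ≫ strW) ⟶ F,
        jy.left = F.left.fromSpecResidueField y := ⟨Over.homMk (F.left.fromSpecResidueField y) (by
          change _ = Spec.map _ ≫ _
          rw [hσ₀, Category.assoc]
          congr 1
          exact (Over.w prW).symm), rfl⟩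
    have e1 : jσ = jy ≫ prW := by
      apply Over.OverMorphism.ext
      rw [Over.comp_left, hjσ, hjy, hσ₀]
    have e2 : jκ = jy ≫ wF := by
      apply Over.OverMorphism.ext
      rw [Over.comp_left, hjκ, hjy, hκ]
    rw [e1, e2, Functor.map_comp_assoc, Functor.map_comp_assoc, hprW, hc, ← htV1,
      ← Category.assoc prF, sqF.w, Category.assoc]
  -- a generization of the point in the image of `U`
  haveI : IsAffine (Over.mk strW).left :=
    (inferInstance : IsAffine (Spec (CommRingCat.of ↑Γ(W₀.left, ⊤))))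
  obtain ⟨U'', g, t, u'', htg, hsp⟩ :=
    Groth.Agent.Lib.Helper9.RefSp.exists_specializes_chart h hh hd c hce
      (Spec.map (CommRingCat.ofHom σ₀) (closedPoint ↑(F.left.residueField y)))
  obtain ⟨ρc, hρc⟩ := Spec.map_surjective (U''.left.fromSpecResidueField u'' ≫ g.left)
  obtain ⟨ρ₀, hρ₀⟩ : ∃ ρ₀ : ↑Γ(W₀.left, ⊤) →+* ↑(U''.left.residueField u''),
      Spec.map (CommRingCat.ofHom ρ₀) = U''.left.fromSpecResidueField u'' ≫ g.left := ⟨ρc.hom, hρc⟩
  have hker : ∀ r, ρ₀ r = 0 → σ₀ r = 0 := by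
    intro r hr
    have h1 : Spec.map (CommRingCat.ofHom ρ₀) (closedPoint ↑(U''.left.residueField u'')) =
        g.left u'' := by
      rw [hρ₀, Scheme.Hom.comp_apply]
      congr 1
      exact Scheme.fromSpecResidueField_apply _ _
    rw [← h1] at hsp
    have h2 := (PrimeSpectrum.le_iff_specializes _ _).2 hsp
    have h3 : r ∈ (Spec.map (CommRingCat.ofHom ρ₀)
        (closedPoint ↑(U''.left.residueField u''))).asIdeal := by
      change ρ₀ r ∈ maximalIdeal _
      rw [hr]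
      exact zero_mem _
    have h4 := h2 h3
    change σ₀ r ∈ maximalIdeal _ at h4
    rw [mem_maximalIdeal, mem_nonunits_iff, isUnit_iff_ne_zero, not_not] at h4
    exact h4
  have hρ : ∃ t' : (AlgSp.yon S).obj (Over.mk (Spec.map (CommRingCat.ofHom ρ₀) ≫ strW)) ⟶ U.obj,
      ∀ jρ : Over.mk (Spec.map (CommRingCat.ofHom ρ₀) ≫ strW) ⟶ Over.mk strW,
        jρ.left = Spec.map (CommRingCat.ofHom ρ₀) → t' ≫ h.hom = (AlgSp.yon S).map jρ ≫ c := by
    obtain ⟨ju, hju⟩ : ∃ ju : Over.mk (Spec.map (CommRingCat.ofHom ρ₀) ≫ strW) ⟶ U'',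
        ju.left = U''.left.fromSpecResidueField u'' :=
      ⟨Over.homMk (U''.left.fromSpecResidueField u'') (by
          change _ = Spec.map _ ≫ _
          rw [hρ₀, Category.assoc]
          congr 1
          exact (Over.w g).symm), rfl⟩
    refine ⟨(AlgSp.yon S).map ju ≫ t, fun jρ hjρ => ?_⟩
    have e1 : jρ = ju ≫ g := by
      apply Over.OverMorphism.ext
      rw [Over.comp_left, hjρ, hju, hρ₀]
    rw [Category.assoc, htg, e1, Functor.map_comp_assoc]
  exact hasLiftExt_of_affine_data' f.hom h.hom hv sq strV p m' hstr hbot q' strW hstrWq c hcf κ σ₀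
    hσκ hσtop ρ₀ hker hρ

end Groth.Agent.Lib.Helper9.RefChart
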