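import Mathlib
import Groth.Prelude.Def_AlgSpMor5

/-!
# The valuative square extended along a dominating extension (helper9)
-/

set_option autoImplicit false
set_option linter.style.haveILetI false
set_option backward.isDefEq.respectTransparency false
universe u
open CategoryTheory CategoryTheory.Limits AlgebraicGeometry Opposite
open AlgSp

namespace Groth.Agent.Lib.Helper9.RefExtSq

variable {S : Scheme.{u}}

/-- the structure morphism compatibility of `Spec K' ⟶ Spec K`. -/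
lemma domExt_w {X Y : AlgSp.Sp S} {f : X ⟶ Y} (sq : AlgSp.ValSq f) (e : sq.DomExt) :
    Spec.map (CommRingCat.ofHom e.ψ) ≫ sq.ptK.hom = e.ptK'.hom := by
  change Spec.map _ ≫ Spec.map _ ≫ _ = Spec.map _ ≫ Spec.map _ ≫ _
  rw [← Spec.map_comp_assoc, ← Spec.map_comp_assoc, ← CommRingCat.ofHom_comp,
    ← CommRingCat.ofHom_comp, e.comm]

/-- the square extended along a dominating extension. -/
noncomputable def extSq {X Y : AlgSp.Sp S} {f : X ⟶ Y} (sq : AlgSp.ValSq f) (e : sq.DomExt) :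
    AlgSp.ValSq f where
  A := e.A'
  K := e.K'
  str := Spec.map (CommRingCat.ofHom e.φ) ≫ sq.str
  top := (AlgSp.yon S).map (Over.homMk (Spec.map (CommRingCat.ofHom e.ψ)) (domExt_w sq e) :
    e.ptK' ⟶ sq.ptK) ≫ sq.top
  bot := (AlgSp.yon S).map (Over.homMk (Spec.map (CommRingCat.ofHom e.φ)) rfl :
    e.ptA' ⟶ sq.ptA) ≫ sq.bot
  comm := by
    rw [Category.assoc, sq.comm, ← Functor.map_comp_assoc, ← Functor.map_comp_assoc]
    congr 2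
    apply Over.OverMorphism.ext
    change Spec.map _ ≫ Spec.map _ = Spec.map _ ≫ Spec.map _
    rw [← Spec.map_comp, ← Spec.map_comp, ← CommRingCat.ofHom_comp, ← CommRingCat.ofHom_comp,
      e.comm]

/-- a lift after extension of the extended square gives a lift after extension of the square. -/
theorem hasLiftExt_of_extSq {X Y : AlgSp.Sp S} {f : X ⟶ Y} (sq : AlgSp.ValSq f) (e : sq.DomExt)
    (h : (extSq sq e).HasLiftExt) : sq.HasLiftExt := by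
  obtain ⟨e₂, l, hl1, hl2⟩ := h
  haveI := e.isLocalHom
  haveI := e₂.isLocalHom
  obtain ⟨φ₂, hφ₂⟩ : ∃ φ₂ : e.A' →+* e₂.A', φ₂ = e₂.φ := ⟨_, rfl⟩
  obtain ⟨ψ₂, hψ₂⟩ : ∃ ψ₂ : e.K' →+* e₂.K', ψ₂ = e₂.ψ := ⟨_, rfl⟩
  have hc₂ : (algebraMap e₂.A' e₂.K').comp φ₂ = ψ₂.comp (algebraMap e.A' e.K') := by
    rw [hφ₂, hψ₂]; exact e₂.comm
  have hcomm : (algebraMap e₂.A' e₂.K').comp (φ₂.comp e.φ) =
      (ψ₂.comp e.ψ).comp (algebraMap sq.A sq.K) := by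
    rw [← RingHom.comp_assoc, hc₂, RingHom.comp_assoc, e.comm, RingHom.comp_assoc]
  have hloc : IsLocalHom (φ₂.comp e.φ) := by
    rw [hφ₂]; exact RingHom.isLocalHom_comp _ _
  -- names for the morphisms of the hypotheses
  obtain ⟨j'₂, hj'₂, hl1⟩ : ∃ j : e₂.ptK' ⟶ e₂.ptA',
      j.left = Spec.map (CommRingCat.ofHom (algebraMap e₂.A' e₂.K')) ∧
      (AlgSp.yon S).map j ≫ l = (AlgSp.yon S).map (Over.homMk (Spec.map (CommRingCat.ofHom e₂.ψ))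
        (domExt_w (extSq sq e) e₂) : e₂.ptK' ⟶ (extSq sq e).ptK) ≫ (extSq sq e).top :=
    ⟨_, rfl, hl1⟩
  obtain ⟨jψ₂, hjψ₂, hl1⟩ : ∃ j : e₂.ptK' ⟶ (extSq sq e).ptK,
      j.left = Spec.map (CommRingCat.ofHom ψ₂) ∧
      (AlgSp.yon S).map j'₂ ≫ l = (AlgSp.yon S).map j ≫ (extSq sq e).top := by
    subst hψ₂
    exact ⟨_, rfl, hl1⟩
  obtain ⟨jφ₂, hjφ₂, hl2⟩ : ∃ j : e₂.ptA' ⟶ (extSq sq e).ptA,
      j.left = Spec.map (CommRingCat.ofHom φ₂) ∧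
      l ≫ f = (AlgSp.yon S).map j ≫ (extSq sq e).bot := by
    subst hφ₂
    exact ⟨_, rfl, hl2⟩
  obtain ⟨jψ₁, hjψ₁, htop⟩ : ∃ j : e.ptK' ⟶ sq.ptK, j.left = Spec.map (CommRingCat.ofHom e.ψ) ∧
      (extSq sq e).top = (AlgSp.yon S).map j ≫ sq.top := ⟨_, rfl, rfl⟩
  obtain ⟨jφ₁, hjφ₁, hbot⟩ : ∃ j : e.ptA' ⟶ sq.ptA, j.left = Spec.map (CommRingCat.ofHom e.φ) ∧
      (extSq sq e).bot = (AlgSp.yon S).map j ≫ sq.bot := ⟨_, rfl, rfl⟩
  refine ⟨{ A' := e₂.A', K' := e₂.K', φ := φ₂.comp e.φ, ψ := ψ₂.comp e.ψ, comm := hcomm,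
            isLocalHom := hloc }, ?_⟩
  obtain ⟨θ, hθ⟩ : ∃ θ : Over.mk (Spec.map (CommRingCat.ofHom (φ₂.comp e.φ)) ≫ sq.str) ⟶ e₂.ptA',
      θ.left = 𝟙 _ := ⟨Over.homMk (𝟙 _) (by
        subst hφ₂
        change 𝟙 _ ≫ Spec.map _ ≫ Spec.map _ ≫ sq.str = Spec.map _ ≫ sq.str
        rw [Category.id_comp, CommRingCat.ofHom_comp, Spec.map_comp, Category.assoc]), rfl⟩
  obtain ⟨θK, hθK⟩ : ∃ θK : Over.mk (Spec.map (CommRingCat.ofHom (algebraMap e₂.A' e₂.K')) ≫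
      Spec.map (CommRingCat.ofHom (φ₂.comp e.φ)) ≫ sq.str) ⟶ e₂.ptK',
      θK.left = 𝟙 _ := ⟨Over.homMk (𝟙 _) (by
        subst hφ₂
        change 𝟙 _ ≫ Spec.map _ ≫ Spec.map _ ≫ Spec.map _ ≫ sq.str = Spec.map _ ≫ Spec.map _ ≫ sq.str
        rw [Category.id_comp, CommRingCat.ofHom_comp, Spec.map_comp, Category.assoc]), rfl⟩
  obtain ⟨j', hj'⟩ : ∃ j : Over.mk (Spec.map (CommRingCat.ofHom (algebraMap e₂.A' e₂.K')) ≫
      Spec.map (CommRingCat.ofHom (φ₂.comp e.φ)) ≫ sq.str) ⟶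
      Over.mk (Spec.map (CommRingCat.ofHom (φ₂.comp e.φ)) ≫ sq.str),
      j = Over.homMk (Spec.map (CommRingCat.ofHom (algebraMap e₂.A' e₂.K'))) rfl := ⟨_, rfl⟩
  have hj'l : j'.left = Spec.map (CommRingCat.ofHom (algebraMap e₂.A' e₂.K')) := by rw [hj']; rfl
  obtain ⟨jψ, hjψ⟩ : ∃ j : Over.mk (Spec.map (CommRingCat.ofHom (algebraMap e₂.A' e₂.K')) ≫
      Spec.map (CommRingCat.ofHom (φ₂.comp e.φ)) ≫ sq.str) ⟶ sq.ptK,
      j = Over.homMk (Spec.map (CommRingCat.ofHom (ψ₂.comp e.ψ))) (by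
        change Spec.map _ ≫ Spec.map _ ≫ _ = Spec.map _ ≫ Spec.map _ ≫ _
        rw [← Spec.map_comp_assoc, ← Spec.map_comp_assoc, ← CommRingCat.ofHom_comp,
          ← CommRingCat.ofHom_comp, hcomm]) := ⟨_, rfl⟩
  have hjψl : jψ.left = Spec.map (CommRingCat.ofHom (ψ₂.comp e.ψ)) := by rw [hjψ]; rfl
  obtain ⟨jφ, hjφ⟩ : ∃ j : Over.mk (Spec.map (CommRingCat.ofHom (φ₂.comp e.φ)) ≫ sq.str) ⟶ sq.ptA,
      j = Over.homMk (Spec.map (CommRingCat.ofHom (φ₂.comp e.φ))) rfl := ⟨_, rfl⟩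
  have hjφl : jφ.left = Spec.map (CommRingCat.ofHom (φ₂.comp e.φ)) := by rw [hjφ]; rfl
  have E1 : j' ≫ θ = θK ≫ j'₂ := by
    apply Over.OverMorphism.ext
    rw [Over.comp_left, Over.comp_left, hj'l, hθ, hθK, hj'₂, Category.id_comp]
    exact Category.comp_id _
  have E2 : θK ≫ jψ₂ ≫ jψ₁ = jψ := by
    apply Over.OverMorphism.ext
    rw [Over.comp_left, Over.comp_left, hθK, hjψ₂, hjψ₁, hjψl, Category.id_comp, ← Spec.map_comp,
      ← CommRingCat.ofHom_comp]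
  have E3 : θ ≫ jφ₂ ≫ jφ₁ = jφ := by
    apply Over.OverMorphism.ext
    rw [Over.comp_left, Over.comp_left, hθ, hjφ₂, hjφ₁, hjφl, Category.id_comp, ← Spec.map_comp,
      ← CommRingCat.ofHom_comp]
  refine ⟨(AlgSp.yon S).map θ ≫ l, ?_, ?_⟩
  · suffices hgoal : (AlgSp.yon S).map j' ≫ (AlgSp.yon S).map θ ≫ l =
        (AlgSp.yon S).map jψ ≫ sq.top by
      rw [hj', hjψ] at hgoal
      exact hgoal
    calc (AlgSp.yon S).map j' ≫ (AlgSp.yon S).map θ ≫ l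
        = (AlgSp.yon S).map (j' ≫ θ) ≫ l := by rw [Functor.map_comp_assoc]
      _ = (AlgSp.yon S).map θK ≫ (AlgSp.yon S).map j'₂ ≫ l := by rw [E1, Functor.map_comp_assoc]
      _ = (AlgSp.yon S).map θK ≫ (AlgSp.yon S).map jψ₂ ≫ (AlgSp.yon S).map jψ₁ ≫ sq.top := by
          rw [hl1, htop]
      _ = (AlgSp.yon S).map (θK ≫ jψ₂ ≫ jψ₁) ≫ sq.top := by
          rw [Functor.map_comp_assoc, Functor.map_comp_assoc]
      _ = (AlgSp.yon S).map jψ ≫ sq.top := by rw [E2]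
  · suffices hgoal : ((AlgSp.yon S).map θ ≫ l) ≫ f = (AlgSp.yon S).map jφ ≫ sq.bot by
      rw [hjφ] at hgoal
      exact hgoal
    calc ((AlgSp.yon S).map θ ≫ l) ≫ f
        = (AlgSp.yon S).map θ ≫ (AlgSp.yon S).map jφ₂ ≫ (AlgSp.yon S).map jφ₁ ≫ sq.bot := by
          rw [Category.assoc, hl2, hbot]
      _ = (AlgSp.yon S).map (θ ≫ jφ₂ ≫ jφ₁) ≫ sq.bot := by
          rw [Functor.map_comp_assoc, Functor.map_comp_assoc]
      _ = (AlgSp.yon S).map jφ ≫ sq.bot := by rw [E3]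

end Groth.Agent.Lib.Helper9.RefExtSq
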