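import Mathlib
import Groth.Agent.Lib.Helper9RefChart
import Groth.Agent.Lib.Helper9RefExtSq
import Groth.Agent.Lib.Helper9FinSepRing
import Groth.Agent.Lib.Helper4DVREx
import Groth.Agent.S10292
import Groth.Agent.S9947
import Groth.Agent.S9906
import Groth.Agent.S10288
import Groth.Agent.S10280
import Groth.Agent.S9912
import Groth.Agent.Lib.Helper9DvrUnivClosed

/-!
# The refined valuative criterion: existence part and universal closedness (helper9)
-/

set_option autoImplicit false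
set_option linter.style.haveILetI false
set_option backward.isDefEq.respectTransparency false
set_option maxHeartbeats 1600000
universe u
open CategoryTheory CategoryTheory.Limits AlgebraicGeometry Opposite
open AlgSp

namespace Groth.Agent.Lib.Helper9.RefMain

open IsLocalRing Groth.Agent.Lib.Helper9.RefExtSq Groth.Agent.Lib.Helper9.RefChart
open Groth.Agent.Lib.Helper4

variable {S : Scheme.{u}}

theorem existVC_of_refined {U X Y : AlgSp.Space S} (f : X ⟶ Y) (h : U ⟶ X)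
    (hf : AlgSp.IsQuasiCompactMor f.hom) (hh : AlgSp.IsQuasiCompactMor h.hom)
    (hd : DenseRange (AlgSp.Points.map h.hom))
    (hv : ∀ sq : AlgSp.ValSq f.hom, (∃ t : (AlgSp.yon S).obj sq.ptK ⟶ U.obj, t ≫ h.hom = sq.top) →
      sq.HasUniq ∧ sq.HasLiftExt) : AlgSp.ExistVC f.hom := by
  intro sq
  obtain ⟨V₀, p₀, hp₀e, hp₀s⟩ := Y.property.atlas
  have hflat : AlgSp.LocP @Flat p₀ :=
    Groth.Agent.S9947.locP_of_repWith_etale @Flat (fun g hg => by haveI := hg; infer_instance) p₀ hp₀e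
  have hb : AlgSp.Points.ofPt sq.bot (closedPoint sq.A) ∈ Set.range (AlgSp.Points.map p₀) :=
    Groth.Agent.S9906.surjective_map_of_repWith _ hp₀s _
  obtain ⟨A₁, _, _, _, φ₁, hφ₁inj, hφ₁loc, l₁, hl₁⟩ := Groth.Agent.S10292.result
    (X := ⟨(AlgSp.yon S).obj V₀, AlgSp.IsAlgSpace.yon_obj V₀⟩) (Y := Y)
    (ObjectProperty.homMk p₀) hflat sq.A sq.str sq.bot hb
  obtain ⟨ψ₁, hψ₁⟩ := Groth.Agent.Lib.Helper9.FinSep.exists_fractionRing_lift (K₁ := sq.K) φ₁ hφ₁inj
  let e₁ : sq.DomExt :=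
    { A' := A₁, K' := FractionRing A₁, φ := φ₁, ψ := ψ₁, comm := hψ₁.symm, isLocalHom := hφ₁loc }
  apply hasLiftExt_of_extSq sq e₁
  obtain ⟨m₀, hm₀⟩ := (AlgSp.yon S).map_surjective l₁
  obtain ⟨V, hV, hmV, -⟩ := exists_isAffineOpen_mem_and_subset (U := ⊤)
    (x := m₀.left (closedPoint A₁)) trivial
  obtain ⟨lam, hlam⟩ := DVREx.exists_factor_fromSpec (R := CommRingCat.of A₁) m₀.left hV hmV
  obtain ⟨strV, hstrV⟩ : ∃ strV : Spec (CommRingCat.of ↑Γ(V₀.left, V)) ⟶ S,
      strV = hV.fromSpec ≫ V₀.hom := ⟨_, rfl⟩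
  obtain ⟨jV, hjV⟩ : ∃ jV : Over.mk strV ⟶ V₀, jV.left = hV.fromSpec :=
    ⟨Over.homMk hV.fromSpec hstrV.symm, rfl⟩
  have hp : AlgSp.RepWith @Etale ((AlgSp.yon S).map jV ≫ p₀) :=
    (AlgSp.RepWith @Etale).comp_mem _ _
      ((AlgSp.repWith_yon_map_iff _ jV).2 (by rw [hjV]; infer_instance)) hp₀e
  have hstr1 : Spec.map (CommRingCat.ofHom φ₁) ≫ sq.str =
      Spec.map (CommRingCat.ofHom lam.hom) ≫ strV := by
    have h1 := Over.w m₀
    change m₀.left ≫ V₀.hom = Spec.map (CommRingCat.ofHom φ₁) ≫ sq.str at h1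
    rw [← h1, hlam, hstrV, Category.assoc]
    rfl
  refine hasLiftExt_of_chart f h hf hh hd hv (extSq sq e₁) strV ((AlgSp.yon S).map jV ≫ p₀) hp
    lam.hom hstr1 ?_
  intro jm hjm
  change (AlgSp.yon S).map (Over.homMk (Spec.map (CommRingCat.ofHom φ₁)) rfl :
    Over.mk (Spec.map (CommRingCat.ofHom φ₁) ≫ sq.str) ⟶ Over.mk sq.str) ≫ sq.bot =
    (AlgSp.yon S).map jm ≫ (AlgSp.yon S).map jV ≫ p₀
  have hl₁' : (AlgSp.yon S).map m₀ ≫ p₀ = (AlgSp.yon S).map (Over.homMk
      (Spec.map (CommRingCat.ofHom φ₁)) rfl :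
      Over.mk (Spec.map (CommRingCat.ofHom φ₁) ≫ sq.str) ⟶ Over.mk sq.str) ≫ sq.bot := by
    rw [hm₀]; exact hl₁
  rw [← hl₁', ← Functor.map_comp_assoc]
  congr 2
  apply Over.OverMorphism.ext
  rw [Over.comp_left, hjV]
  change m₀.left = jm.left ≫ hV.fromSpec
  rw [hjm, hlam]
  rfl

theorem isUnivClosedMor_of_refined {U X Y : AlgSp.Space S} (f : X ⟶ Y) (h : U ⟶ X)
    (hf : AlgSp.IsQuasiCompactMor f.hom) (hh : AlgSp.IsQuasiCompactMor h.hom)
    (hd : DenseRange (AlgSp.Points.map h.hom))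
    (hv : ∀ sq : AlgSp.ValSq f.hom, (∃ t : (AlgSp.yon S).obj sq.ptK ⟶ U.obj, t ≫ h.hom = sq.top) →
      sq.HasUniq ∧ sq.HasLiftExt) : AlgSp.IsUnivClosedMor f.hom :=
  Groth.Agent.S10288.result f hf (existVC_of_refined f h hf hh hd hv)

theorem isSeparatedMor_of_refined {U X Y : AlgSp.Space S} (f : X ⟶ Y) (h : U ⟶ X)
    (hh : AlgSp.IsQuasiCompactMor h.hom)
    (hd : DenseRange (AlgSp.Points.map h.hom))
    (hv : ∀ sq : AlgSp.ValSq f.hom, (∃ t : (AlgSp.yon S).obj sq.ptK ⟶ U.obj, t ≫ h.hom = sq.top) →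
      sq.HasUniq)
    (hqs : AlgSp.IsQuasiSeparatedMor f.hom) : AlgSp.IsSeparatedMor f.hom := by
  have hXX : AlgSp.IsAlgSpace (pullback f.hom f.hom) :=
    Groth.Agent.S9874.isAlgSpace_of_isPullback Y.property.diag X.property X.property
      (IsPullback.of_hasPullback _ _)
  have hΔqc : AlgSp.IsQuasiCompactMor (pullback.diagonal f.hom) :=
    Groth.Agent.S9912.isQuasiCompactMor_of_repWith X.property hXX.diag _ hqs
  have hΔfst : pullback.diagonal f.hom ≫ pullback.fst f.hom f.hom = 𝟙 _ :=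
    pullback.diagonal_fst _
  have hΔsnd : pullback.diagonal f.hom ≫ pullback.snd f.hom f.hom = 𝟙 _ :=
    pullback.diagonal_snd _
  have hvΔ : ∀ sqΔ : AlgSp.ValSq (pullback.diagonal f.hom),
      (∃ t : (AlgSp.yon S).obj sqΔ.ptK ⟶ U.obj, t ≫ h.hom = sqΔ.top) →
      sqΔ.HasUniq ∧ sqΔ.HasLiftExt := by
    rintro sqΔ ⟨t, ht⟩
    refine ⟨?_, ?_⟩
    · intro l l' _ h2 _ h4
      have e1 : l = sqΔ.bot ≫ pullback.fst f.hom f.hom := by
        rw [← h2, Category.assoc, hΔfst, Category.comp_id]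
      have e2 : l' = sqΔ.bot ≫ pullback.fst f.hom f.hom := by
        rw [← h4, Category.assoc, hΔfst, Category.comp_id]
      rw [e1, e2]
    · apply Groth.Agent.Lib.Helper9.DvrUnivClosed.hasLiftExt_of_hasLift
      have hta : sqΔ.top = (AlgSp.yon S).map sqΔ.j ≫ sqΔ.bot ≫ pullback.fst f.hom f.hom := by
        have h1 := congrArg (fun z => z ≫ pullback.fst f.hom f.hom) sqΔ.comm
        simp only [Category.assoc] at h1
        rw [hΔfst, Category.comp_id] at h1
        exact h1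
      have htb : sqΔ.top = (AlgSp.yon S).map sqΔ.j ≫ sqΔ.bot ≫ pullback.snd f.hom f.hom := by
        have h1 := congrArg (fun z => z ≫ pullback.snd f.hom f.hom) sqΔ.comm
        simp only [Category.assoc] at h1
        rw [hΔsnd, Category.comp_id] at h1
        exact h1
      let sqf : AlgSp.ValSq f.hom :=
        { A := sqΔ.A, K := sqΔ.K, str := sqΔ.str, top := sqΔ.top
          bot := (sqΔ.bot ≫ pullback.fst f.hom f.hom) ≫ f.hom
          comm := by
            have h1 := congrArg (fun z => z ≫ f.hom) hta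
            simp only [Category.assoc] at h1
            simp only [Category.assoc]
            exact h1 }
      have hab : sqΔ.bot ≫ pullback.fst f.hom f.hom = sqΔ.bot ≫ pullback.snd f.hom f.hom := by
        refine hv sqf ⟨t, ht⟩ _ _ hta.symm rfl htb.symm ?_
        change (sqΔ.bot ≫ pullback.snd f.hom f.hom) ≫ f.hom =
          (sqΔ.bot ≫ pullback.fst f.hom f.hom) ≫ f.hom
        rw [Category.assoc, Category.assoc, pullback.condition]
      refine ⟨sqΔ.bot ≫ pullback.fst f.hom f.hom, hta.symm, ?_⟩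
      apply pullback.hom_ext
      · rw [Category.assoc, hΔfst, Category.comp_id]
      · rw [Category.assoc, hΔsnd, Category.comp_id, hab]
  have hΔ : AlgSp.IsUnivClosedMor (pullback.diagonal f.hom) :=
    isUnivClosedMor_of_refined (X := X) (Y := ⟨pullback f.hom f.hom, hXX⟩)
      (ObjectProperty.homMk (pullback.diagonal f.hom)) h hΔqc hh hd hvΔ
  exact Groth.Agent.S10280.isSeparatedMor_of_isUnivClosedMor_diagonal f hΔ

end Groth.Agent.Lib.Helper9.RefMain
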