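import Mathlib
import Groth.Agent.Lib.Helper9Deligne

/-!
# The Yoneda embedding of a small abelian category into abelian sheaves for the regular topology (helper9)
-/

set_option autoImplicit false
open CategoryTheory CategoryTheory.Limits Opposite
universe u

namespace Groth.Agent.Lib.Helper9.RegYoneda

variable {A : Type u} [SmallCategory A] [Abelian A] [Preregular A]

/-- the representable additive presheaves are sheaves for the regular topology -/
lemma isSheaf_preadditiveYoneda (X : A) :
    Presheaf.IsSheaf (regularTopology A) (preadditiveYoneda.obj X) := by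
  rw [Presheaf.isSheaf_iff_isSheaf_forget (s := forget AddCommGrpCat.{u})]
  rw [isSheaf_iff_isSheaf_of_type]
  exact regularTopology.isSheaf_yoneda_obj X

/-- the Yoneda embedding into abelian sheaves -/
noncomputable def G : A ⥤ Sheaf (regularTopology A) AddCommGrpCat.{u} where
  obj X := ⟨preadditiveYoneda.obj X, isSheaf_preadditiveYoneda X⟩
  map f := ⟨preadditiveYoneda.map f⟩
  map_id X := by ext : 1; exact preadditiveYoneda.map_id X
  map_comp f g := by ext : 1; exact preadditiveYoneda.map_comp f g

lemma G_comp : G ⋙ sheafToPresheaf (regularTopology A) AddCommGrpCat.{u} = preadditiveYoneda := rfl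

instance : (G (A := A)).Full :=
  haveI : (G ⋙ sheafToPresheaf (regularTopology A) AddCommGrpCat.{u}).Full := by
    rw [G_comp]; infer_instance
  Functor.Full.of_comp_faithful G (sheafToPresheaf (regularTopology A) AddCommGrpCat.{u})

instance : (G (A := A)).Faithful :=
  haveI : (G ⋙ sheafToPresheaf (regularTopology A) AddCommGrpCat.{u}).Faithful := by
    rw [G_comp]; infer_instance
  Functor.Faithful.of_comp G (sheafToPresheaf (regularTopology A) AddCommGrpCat.{u})

/-- the functor of the statement is the Yoneda embedding -/
noncomputable def iso :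
    preadditiveYoneda ⋙ presheafToSheaf (regularTopology A) AddCommGrpCat.{u} ≅ G (A := A) :=
  (Functor.associator G (sheafToPresheaf _ _) (presheafToSheaf _ _)) ≪≫
    Functor.isoWhiskerLeft G (asIso (sheafificationAdjunction (regularTopology A) AddCommGrpCat.{u}).counit) ≪≫
    G.rightUnitor

instance : (G (A := A)).Additive where
  map_add {X Y f g} := by
    ext U : 3
    apply AddCommGrpCat.ext
    intro (x : U.unop ⟶ X)
    exact Preadditive.comp_add _ _ _ x f g

instance (K : Type) [SmallCategory K] :
    PreservesLimitsOfShape K (preadditiveYoneda (C := A)) := by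
  refine preservesLimitsOfShape_of_evaluation _ K (fun k => ?_)
  have e : preadditiveYoneda ⋙ (evaluation Aᵒᵖ AddCommGrpCat.{u}).obj k ≅
      preadditiveCoyoneda.obj k :=
    NatIso.ofComponents (fun X => Iso.refl _) (by
      intro X Y f
      apply AddCommGrpCat.ext
      intro x
      rfl)
  haveI : PreservesLimitsOfSize.{0, 0} (preadditiveCoyoneda.obj k) :=
    preservesLimitsOfSize_shrink.{0, u, 0, u} _
  exact preservesLimitsOfShape_of_natIso e.symm

instance : PreservesFiniteLimits (G (A := A)) := by
  constructor
  intro K _ _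
  haveI : PreservesLimitsOfShape K
      (G ⋙ sheafToPresheaf (regularTopology A) AddCommGrpCat.{u}) := by
    rw [G_comp]; infer_instance
  exact preservesLimitsOfShape_of_reflects_of_preserves G
    (sheafToPresheaf (regularTopology A) AddCommGrpCat.{u})

/-- the Yoneda embedding sends epimorphisms to epimorphisms of sheaves -/
lemma epi_G_map {X Y : A} (p : X ⟶ Y) [Epi p] : Epi ((G (A := A)).map p) := by
  haveI : Sheaf.IsLocallySurjective ((G (A := A)).map p) := by
    constructor
    intro U s
    -- `s : U ⟶ Y`
    let s' : U ⟶ Y := s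
    haveI : Epi (pullback.fst s' p) := inferInstance
    haveI : IsRegularEpi (pullback.fst s' p) := ⟨⟨(normalEpiOfEpi (pullback.fst s' p)).regularEpi⟩⟩
    haveI : EffectiveEpi (pullback.fst s' p) := inferInstance
    refine (regularTopology.mem_sieves_iff_hasEffectiveEpi _).2
      ⟨pullback s' p, pullback.fst s' p, inferInstance, ?_⟩
    refine ⟨(pullback.snd s' p : pullback s' p ⟶ X), ?_⟩
    exact (pullback.condition (f := s') (g := p)).symm
  infer_instance

instance : PreservesFiniteColimits (G (A := A)) := by
  refine ((Functor.preservesFiniteColimits_tfae (G (A := A))).out 0 3).1 ?_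
  intro S hS
  have h0 : PreservesFiniteLimits (G (A := A)) := inferInstance
  have h2 : ∀ (S : ShortComplex A), S.ShortExact → (S.map G).Exact ∧ Mono (G.map S.f) :=
    ((Functor.preservesFiniteLimits_tfae (G (A := A))).out 3 0).1 h0
  have h1 := h2 S hS
  haveI := hS.epi_g
  exact ⟨h1.1, epi_G_map S.g⟩

theorem hasEnoughPoints_regular :
    GrothendieckTopology.HasEnoughPoints.{u} (regularTopology A) := by
  refine Groth.Agent.Lib.Helper9.Deligne.hasEnoughPoints (regularTopology A) ?_
  intro U S hS
  obtain ⟨Y, π, hπ, hS'⟩ := (regularTopology.mem_sieves_iff_hasEffectiveEpi S).1 hS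
  refine ⟨1, fun _ => Y, fun _ => π, fun _ => hS', ?_⟩
  exact (regularTopology.mem_sieves_iff_hasEffectiveEpi _).2
    ⟨Y, π, hπ, Sieve.ofArrows_mk (fun _ : Fin 1 => Y) (fun _ => π) 0⟩

theorem main :
    (preadditiveYoneda ⋙ presheafToSheaf (regularTopology A) AddCommGrpCat.{u}).Full ∧
    (preadditiveYoneda ⋙ presheafToSheaf (regularTopology A) AddCommGrpCat.{u}).Faithful ∧
    PreservesFiniteLimits (preadditiveYoneda ⋙ presheafToSheaf (regularTopology A) AddCommGrpCat.{u}) ∧
    PreservesFiniteColimits (preadditiveYoneda ⋙ presheafToSheaf (regularTopology A) AddCommGrpCat.{u}) ∧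
    GrothendieckTopology.HasEnoughPoints.{u, u, u} (regularTopology A) :=
  ⟨Functor.Full.of_iso (iso (A := A)).symm, Functor.Faithful.of_iso (iso (A := A)).symm,
    preservesFiniteLimits_of_natIso (iso (A := A)).symm,
    preservesFiniteColimits_of_natIso (iso (A := A)).symm, hasEnoughPoints_regular⟩

end Groth.Agent.Lib.Helper9.RegYoneda
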