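import Mathlib.CategoryTheory.Sites.Sheafification
import Mathlib.CategoryTheory.Sites.Limits
import Mathlib.CategoryTheory.Sites.LeftExact
import Mathlib.CategoryTheory.Sites.Canonical
import Mathlib.CategoryTheory.Limits.Shapes.Products

/-!
# Helper9Rep: morphisms out of sheafified representables

`Hom(a(h_X), F) ≃ F(X)` and a criterion for `a(h_X)` to be the coproduct of the `a(h_{Y i})`.
-/

set_option autoImplicit false

universe u

open CategoryTheory CategoryTheory.Limits Opposite

namespace Groth.Agent.Lib.Helper9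

variable {C : Type u} [SmallCategory C] (J : GrothendieckTopology C)

/-- `Hom(a(h_X), F) ≃ F(X)`. -/
noncomputable def shYonedaEquiv (X : C) (F : Sheaf J (Type u)) :
    ((presheafToSheaf J (Type u)).obj (yoneda.obj X) ⟶ F) ≃ F.obj.obj (op X) :=
  ((sheafificationAdjunction J (Type u)).homEquiv (yoneda.obj X) F).trans yonedaEquiv

lemma shYonedaEquiv_map_comp {X Y : C} (s : Y ⟶ X) (F : Sheaf J (Type u))
    (φ : (presheafToSheaf J (Type u)).obj (yoneda.obj X) ⟶ F) :
    shYonedaEquiv J Y F ((presheafToSheaf J (Type u)).map (yoneda.map s) ≫ φ) =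
      F.obj.map s.op (shYonedaEquiv J X F φ) := by
  unfold shYonedaEquiv
  simp only [Equiv.trans_apply]
  rw [Adjunction.homEquiv_naturality_left]
  exact (yonedaEquiv_naturality _ _).symm

lemma shYonedaEquiv_comp {X : C} {F G : Sheaf J (Type u)}
    (φ : (presheafToSheaf J (Type u)).obj (yoneda.obj X) ⟶ F) (ψ : F ⟶ G) :
    shYonedaEquiv J X G (φ ≫ ψ) = ψ.hom.app (op X) (shYonedaEquiv J X F φ) := by
  unfold shYonedaEquiv
  simp only [Equiv.trans_apply]
  rw [Adjunction.homEquiv_naturality_right]
  rw [yonedaEquiv_comp]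
  rfl

/-- `a(h_X)` with the maps induced by `s i : Y i ⟶ X` is a coproduct of the `a(h_{Y i})` iff
every sheaf `F` satisfies `F(X) ≃ ∏ F(Y i)` via restriction. -/
theorem isColimit_cofan_sheafify_iff {X : C} {ι : Type u} (Y : ι → C) (s : ∀ i, Y i ⟶ X) :
    Nonempty (IsColimit (Cofan.mk ((presheafToSheaf J (Type u)).obj (yoneda.obj X))
      (fun i => (presheafToSheaf J (Type u)).map (yoneda.map (s i))))) ↔
    ∀ F : Sheaf J (Type u), Function.Bijective
      (fun (t : F.obj.obj (op X)) (i : ι) => F.obj.map (s i).op t) := by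
  constructor
  · rintro ⟨hc⟩ F
    constructor
    · intro t t' htt'
      obtain ⟨φ, rfl⟩ := (shYonedaEquiv J X F).surjective t
      obtain ⟨φ', rfl⟩ := (shYonedaEquiv J X F).surjective t'
      congr 1
      refine Cofan.IsColimit.hom_ext hc _ _ ?_
      intro i
      apply (shYonedaEquiv J (Y i) F).injective
      have := congrFun htt' i
      simp only [cofan_mk_inj]
      rw [shYonedaEquiv_map_comp, shYonedaEquiv_map_comp]
      exact this
    · intro e
      refine ⟨shYonedaEquiv J X F (Cofan.IsColimit.desc hc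
        (fun i => (shYonedaEquiv J (Y i) F).symm (e i))), ?_⟩
      funext i
      have := Cofan.IsColimit.fac hc (fun i => (shYonedaEquiv J (Y i) F).symm (e i)) i
      simp only [cofan_mk_inj] at this
      show F.obj.map (s i).op (shYonedaEquiv J X F _) = e i
      rw [← shYonedaEquiv_map_comp, this, Equiv.apply_symm_apply]
  · intro h
    refine ⟨Cofan.IsColimit.mk _
      (fun t => (shYonedaEquiv J X t.pt).symm
        ((h t.pt).2 (fun i => shYonedaEquiv J (Y i) t.pt (t.inj i))).choose) ?_ ?_⟩
    · intro t i
      apply (shYonedaEquiv J (Y i) t.pt).injective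
      simp only [cofan_mk_inj]
      rw [shYonedaEquiv_map_comp, Equiv.apply_symm_apply]
      exact congrFun ((h t.pt).2 (fun i => shYonedaEquiv J (Y i) t.pt (t.inj i))).choose_spec i
    · intro t m hm
      apply (shYonedaEquiv J X t.pt).injective
      rw [Equiv.apply_symm_apply]
      apply (h t.pt).1
      rw [((h t.pt).2 (fun i => shYonedaEquiv J (Y i) t.pt (t.inj i))).choose_spec]
      funext i
      have := hm i
      simp only [cofan_mk_inj] at this
      show t.pt.obj.map (s i).op (shYonedaEquiv J X t.pt m) = _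
      rw [← shYonedaEquiv_map_comp, this]

end Groth.Agent.Lib.Helper9
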