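import Mathlib
import Groth.Agent.Lib.Helper4DVREx
import Groth.Prelude.Def_AlgSpMor5

/-!
# For a representable morphism the existence part of the valuative criterion needs no extensions (helper9)
-/

set_option autoImplicit false
set_option linter.style.haveILetI false
universe u
open CategoryTheory CategoryTheory.Limits AlgebraicGeometry Opposite

namespace Groth.Agent.Lib.Helper9.RepVC

open Groth.Agent.Lib.Helper4

section ring

variable {A K A' K' : Type u} [CommRing A] [IsDomain A] [ValuationRing A] [Field K] [Algebra A K]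
  [IsFractionRing A K] [CommRing A'] [IsDomain A'] [Field K'] [Algebra A' K']
  [IsFractionRing A' K'] (φ : A →+* A') (ψ : K →+* K')
  (hc : (algebraMap A' K').comp φ = ψ.comp (algebraMap A K))

include hc in
/-- A dominating extension `A'` of a valuation ring `A` meets the fraction field of `A` in `A`. -/
lemma exists_of_mem_of_domExt [IsLocalHom φ] (k : K) (hk : ∃ a', algebraMap A' K' a' = ψ k) :
    ∃ a, algebraMap A K a = k := by
  by_cases hk0 : k = 0
  · exact ⟨0, by rw [map_zero, hk0]⟩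
  obtain ⟨a, ha⟩ | ⟨a, ha⟩ := ValuationRing.isInteger_or_isInteger A k
  · exact ⟨a, ha⟩
  · obtain ⟨a', ha'⟩ := hk
    have h1 : algebraMap A' K' (φ a * a') = 1 := by
      have h2 := RingHom.congr_fun hc a
      rw [RingHom.comp_apply, RingHom.comp_apply] at h2
      rw [map_mul, h2, ha', ha, ← map_mul, inv_mul_cancel₀ hk0, map_one]
    have h3 : φ a * a' = 1 := IsFractionRing.injective A' K' (by rw [h1, map_one])
    have hu : IsUnit a := isUnit_of_map_unit φ a (IsUnit.of_mul_eq_one _ h3)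
    obtain ⟨b, hb⟩ := hu.exists_right_inv
    refine ⟨b, ?_⟩
    have h4 : algebraMap A K a * algebraMap A K b = 1 := by rw [← map_mul, hb, map_one]
    rw [ha] at h4
    have h5 := congrArg (fun t => k * t) h4
    simp only [← mul_assoc, mul_inv_cancel₀ hk0, one_mul, mul_one] at h5
    exact h5

include hc in
/-- Scheme level: a morphism `W ⟶ Spec A` with a section over `Spec K` which extends over a dominating extension
of `A` has a section extending the given one. -/
theorem exists_section_of_domExt [IsLocalHom φ] [IsLocalRing A'] {W : Scheme.{u}}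
    (w : W ⟶ Spec (CommRingCat.of A)) (ξ : Spec (CommRingCat.of K) ⟶ W)
    (ℓ : Spec (CommRingCat.of A') ⟶ W)
    (hξ : ξ ≫ w = Spec.map (CommRingCat.ofHom (algebraMap A K)))
    (hℓξ : Spec.map (CommRingCat.ofHom (algebraMap A' K')) ≫ ℓ =
      Spec.map (CommRingCat.ofHom ψ) ≫ ξ) :
    ∃ s : Spec (CommRingCat.of A) ⟶ W, s ≫ w = 𝟙 _ ∧
      Spec.map (CommRingCat.ofHom (algebraMap A K)) ≫ s = ξ := by
  obtain ⟨W₀, hW₀, hℓW₀, -⟩ := exists_isAffineOpen_mem_and_subset (U := ⊤)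
    (x := ℓ (IsLocalRing.closedPoint A')) trivial
  obtain ⟨lam, hlam⟩ := DVREx.exists_factor_fromSpec (R := CommRingCat.of A') ℓ hW₀ hℓW₀
  have hsub : ∀ z, ℓ z ∈ W₀ := by
    intro z
    have h2 : hW₀.fromSpec ((Spec.map lam) z) ∈ Set.range hW₀.fromSpec := ⟨_, rfl⟩
    rw [hW₀.range_fromSpec] at h2
    rw [hlam, Scheme.Hom.comp_apply]
    exact h2
  have hξW₀ : ξ (IsLocalRing.closedPoint K) ∈ W₀ := by
    haveI : Subsingleton (PrimeSpectrum K) := inferInstance
    have h1 : IsLocalRing.closedPoint K =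
        (Spec.map (CommRingCat.ofHom ψ)) (IsLocalRing.closedPoint K') := Subsingleton.elim _ _
    rw [h1]
    have h2 : ξ ((Spec.map (CommRingCat.ofHom ψ)) (IsLocalRing.closedPoint K')) =
        (Spec.map (CommRingCat.ofHom ψ) ≫ ξ) (IsLocalRing.closedPoint K') := rfl
    have h3 : (Spec.map (CommRingCat.ofHom (algebraMap A' K')) ≫ ℓ) (IsLocalRing.closedPoint K') =
        ℓ ((Spec.map (CommRingCat.ofHom (algebraMap A' K'))) (IsLocalRing.closedPoint K')) := rfl
    rw [h2, ← hℓξ, h3]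
    exact hsub _
  obtain ⟨lamK, hlamK⟩ := DVREx.exists_factor_fromSpec (R := CommRingCat.of K) ξ hW₀ hξW₀
  have hcompat : lamK ≫ CommRingCat.ofHom ψ = lam ≫ CommRingCat.ofHom (algebraMap A' K') := by
    apply DVREx.fromSpec_cancel hW₀
    rw [Spec.map_comp, Category.assoc, ← hlamK, ← hℓξ, Spec.map_comp, Category.assoc, ← hlam]
  have hcompat' : ∀ r : Γ(W, W₀), ψ (lamK.hom r) = algebraMap A' K' (lam.hom r) := fun r =>
    congrArg (fun t => t.hom r) hcompat
  have hmem : ∀ r : Γ(W, W₀), ∃ a, algebraMap A K a = lamK.hom r := fun r =>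
    exists_of_mem_of_domExt φ ψ hc _ ⟨lam.hom r, (hcompat' r).symm⟩
  have hinj : Function.Injective (algebraMap A K) := IsFractionRing.injective A K
  choose lamA hlamA using hmem
  let lamA' : Γ(W, W₀) →+* A :=
    { toFun := lamA
      map_one' := hinj (by rw [hlamA]; simp)
      map_mul' := fun a b => hinj (by rw [hlamA, map_mul, map_mul, hlamA, hlamA])
      map_zero' := hinj (by rw [hlamA]; simp)
      map_add' := fun a b => hinj (by rw [hlamA, map_add, map_add, hlamA, hlamA]) }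
  have hlamA' : CommRingCat.ofHom lamA' ≫ CommRingCat.ofHom (algebraMap A K) = lamK := by
    ext r
    exact hlamA r
  have hs2 : Spec.map (CommRingCat.ofHom (algebraMap A K)) ≫
      (Spec.map (CommRingCat.ofHom lamA') ≫ hW₀.fromSpec) = ξ := by
    rw [← Category.assoc, ← Spec.map_comp, hlamA', ← hlamK]
  refine ⟨Spec.map (CommRingCat.ofHom lamA') ≫ hW₀.fromSpec, ?_, hs2⟩
  obtain ⟨θ, hθ⟩ : ∃ θ : CommRingCat.of A ⟶ CommRingCat.of A,
      Spec.map θ = (Spec.map (CommRingCat.ofHom lamA') ≫ hW₀.fromSpec) ≫ w :=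
    ⟨Spec.preimage _, Spec.map_preimage _⟩
  have h1 : Spec.map (θ ≫ CommRingCat.ofHom (algebraMap A K)) =
      Spec.map (CommRingCat.ofHom (algebraMap A K)) := by
    rw [Spec.map_comp, hθ, ← Category.assoc, hs2, hξ]
  have h2 : θ ≫ CommRingCat.ofHom (algebraMap A K) = CommRingCat.ofHom (algebraMap A K) :=
    Spec.map_injective h1
  have h3 : θ = 𝟙 _ := by
    ext a
    apply hinj
    exact congrArg (fun t => t.hom a) h2
  rw [← hθ, h3, Spec.map_id]

end ring

variable {S : Scheme.{u}}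

set_option backward.isDefEq.respectTransparency false in
/-- For a representable morphism, a valuative square with a lift after a dominating extension has a lift. -/
theorem hasLift_of_hasLiftExt_of_representable {X Y : AlgSp.Sp S} (f : X ⟶ Y)
    (hf : AlgSp.Representable f) (sq : AlgSp.ValSq f) (h : sq.HasLiftExt) : sq.HasLift := by
  obtain ⟨e, l, hl1, hl2⟩ := h
  obtain ⟨W, w, pr, sqW⟩ := hf sq.bot
  obtain ⟨jφ, hjφ⟩ : ∃ jφ : e.ptA' ⟶ sq.ptA,
      jφ = Over.homMk (Spec.map (CommRingCat.ofHom e.φ)) rfl := ⟨_, rfl⟩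
  rw [← hjφ] at hl2
  obtain ⟨j', hj'⟩ : ∃ j' : e.ptK' ⟶ e.ptA',
      j' = Over.homMk (Spec.map (CommRingCat.ofHom (algebraMap e.A' e.K'))) rfl := ⟨_, rfl⟩
  rw [← hj'] at hl1
  obtain ⟨jψ, hjψl, hl1⟩ : ∃ jψ : e.ptK' ⟶ sq.ptK, jψ.left = Spec.map (CommRingCat.ofHom e.ψ) ∧
      (AlgSp.yon S).map j' ≫ l = (AlgSp.yon S).map jψ ≫ sq.top := ⟨_, rfl, hl1⟩
  have hjφl : jφ.left = Spec.map (CommRingCat.ofHom e.φ) := by rw [hjφ]; rfl
  have hj'l : j'.left = Spec.map (CommRingCat.ofHom (algebraMap e.A' e.K')) := by rw [hj']; rfl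
  have hjl : sq.j.left = Spec.map (CommRingCat.ofHom (algebraMap sq.A sq.K)) := rfl
  -- the sections over `Spec K` and `Spec A'`
  obtain ⟨ξ₀, hξ₀1, hξ₀2⟩ : ∃ ξ₀ : (AlgSp.yon S).obj sq.ptK ⟶ (AlgSp.yon S).obj W,
      ξ₀ ≫ pr = sq.top ∧ ξ₀ ≫ (AlgSp.yon S).map w = (AlgSp.yon S).map sq.j :=
    ⟨sqW.lift _ _ sq.comm, sqW.lift_fst _ _ _, sqW.lift_snd _ _ _⟩
  obtain ⟨ξ, rfl⟩ := (AlgSp.yon S).map_surjective ξ₀
  obtain ⟨ℓ₀, hℓ₀1, hℓ₀2⟩ : ∃ ℓ₀ : (AlgSp.yon S).obj e.ptA' ⟶ (AlgSp.yon S).obj W,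
      ℓ₀ ≫ pr = l ∧ ℓ₀ ≫ (AlgSp.yon S).map w = (AlgSp.yon S).map jφ :=
    ⟨sqW.lift _ _ hl2, sqW.lift_fst _ _ _, sqW.lift_snd _ _ _⟩
  obtain ⟨ℓ, rfl⟩ := (AlgSp.yon S).map_surjective ℓ₀
  have hξw : ξ ≫ w = sq.j :=
    (AlgSp.yon S).map_injective (by rw [Functor.map_comp]; exact hξ₀2)
  have hℓw : ℓ ≫ w = jφ :=
    (AlgSp.yon S).map_injective (by rw [Functor.map_comp]; exact hℓ₀2)
  have hjj : j' ≫ jφ = jψ ≫ sq.j := by
    apply Over.OverMorphism.ext
    rw [Over.comp_left, Over.comp_left, hj'l, hjφl, hjψl, hjl, ← Spec.map_comp, ← Spec.map_comp,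
      ← CommRingCat.ofHom_comp, ← CommRingCat.ofHom_comp, e.comm]
  have hcompat : j' ≫ ℓ = jψ ≫ ξ := by
    apply (AlgSp.yon S).map_injective
    apply sqW.hom_ext
    · rw [Functor.map_comp, Functor.map_comp, Category.assoc, Category.assoc, hℓ₀1, hξ₀1, hl1]
    · rw [← Functor.map_comp, ← Functor.map_comp, Category.assoc, Category.assoc, hℓw, hξw, hjj]
  -- the scheme level section
  haveI := e.isLocalHom
  obtain ⟨s, hs1, hs2⟩ := exists_section_of_domExt e.φ e.ψ e.comm (W := W.left) w.left ξ.left ℓ.left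
    (by rw [← Over.comp_left, hξw]; rfl)
    (by rw [← hj'l, ← hjψl, ← Over.comp_left, ← Over.comp_left, hcompat])
  have hsw : s ≫ W.hom = sq.str := by
    rw [← Over.w w, ← Category.assoc, hs1, Category.id_comp]
    rfl
  obtain ⟨sO, hsO⟩ : ∃ sO : sq.ptA ⟶ W, sO.left = s := ⟨Over.homMk s hsw, rfl⟩
  have E1 : sq.j ≫ sO = ξ := by
    apply Over.OverMorphism.ext
    rw [Over.comp_left, hsO, hjl]
    exact hs2
  have E2 : sO ≫ w = 𝟙 _ := by
    apply Over.OverMorphism.ext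
    rw [Over.comp_left, hsO]
    exact hs1
  refine ⟨(AlgSp.yon S).map sO ≫ pr, ?_, ?_⟩
  · rw [← Category.assoc, ← Functor.map_comp, E1, hξ₀1]
  · rw [Category.assoc, sqW.w, ← Category.assoc, ← Functor.map_comp, E2,
      CategoryTheory.Functor.map_id, Category.id_comp]

end Groth.Agent.Lib.Helper9.RepVC
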