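import Mathlib
import Groth.Agent.Lib.Helper9ResTrdeg

/-!
# Residue transcendence degree at closed points over Jacobson schemes (helper9)
-/

set_option autoImplicit false
set_option linter.style.haveILetI false
set_option backward.isDefEq.respectTransparency false
open CategoryTheory CategoryTheory.Limits AlgebraicGeometry Opposite
universe u

namespace Groth.Agent.Lib.Helper9.ResTrdeg

/-- closed points of the source of a morphism locally of finite type to a Jacobson scheme have
finite residue field extensions -/
theorem finite_residueFieldMap_of_isClosed {X Y : Scheme.{u}} (f : X ⟶ Y) [LocallyOfFiniteType f]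
    [JacobsonSpace Y] (x : X) (hx : IsClosed ({x} : Set X)) :
    (f.residueFieldMap x).hom.Finite := by
  haveI := isClosed_singleton_iff_isClosedImmersion.mp hx
  haveI : IsFinite (X.fromSpecResidueField x ≫ f) :=
    (isFinite_iff_locallyOfFiniteType_of_jacobsonSpace
      (f := X.fromSpecResidueField x ≫ f)).mpr inferInstance
  have e : X.fromSpecResidueField x ≫ f =
      Spec.map (f.residueFieldMap x) ≫ Y.fromSpecResidueField (f x) :=
    (Scheme.Hom.SpecMap_residueFieldMap_fromSpecResidueField f x).symm
  rw [e] at this
  haveI : IsFinite (Spec.map (f.residueFieldMap x)) :=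
    IsFinite.of_comp _ (Y.fromSpecResidueField (f x))
  exact (IsFinite.SpecMap_iff _).1 inferInstance

theorem resTrdeg_eq_zero_of_isClosed {X Y : Scheme.{u}} (f : X ⟶ Y) [LocallyOfFiniteType f]
    [JacobsonSpace Y] (x : X) (hx : IsClosed ({x} : Set X)) : Dual3.resTrdeg f x = 0 := by
  unfold Dual3.resTrdeg
  letI a2 : Algebra (Y.residueField (f x)) (X.residueField x) :=
    (f.residueFieldMap x).hom.toAlgebra
  haveI : Module.Finite (Y.residueField (f x)) (X.residueField x) :=
    finite_residueFieldMap_of_isClosed f x hx
  exact trdeg_eq_zero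

/-- points over a closed point under a locally quasi-finite morphism are closed -/
theorem isClosed_singleton_of_lqf {T U : Scheme.{u}} (e : T ⟶ U) [LocallyQuasiFinite e] (z : T)
    (hu : IsClosed ({e z} : Set U)) : IsClosed ({z} : Set T) := by
  have hcl : IsClosed (e ⁻¹' {e z}) := hu.preimage e.continuous
  have hd : _root_.IsDiscrete (e ⁻¹' {e z}) := e.isDiscrete_preimage_singleton (e z)
  haveI : DiscreteTopology (e ⁻¹' {e z}) := isDiscrete_iff_discreteTopology.mp hd
  have h1 : IsClosed ({⟨z, rfl⟩} : Set (e ⁻¹' {e z})) := isClosed_discrete _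
  have h2 := hcl.isClosedEmbedding_subtypeVal.isClosedMap _ h1
  simpa using h2

end Groth.Agent.Lib.Helper9.ResTrdeg
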