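import Mathlib
import Groth.Agent.Lib.Helper9SepDomExtB
import Groth.Agent.Lib.Helper12DecentDesc
import Groth.Agent.Lib.Helper12Proper
import Groth.Agent.S9919
import Groth.Agent.S9964
import Groth.Agent.S9984
import Groth.Agent.S10532

/-!
# For a separated morphism of algebraic spaces, a valuative square with a lift after a dominating extension has a lift
(helper9)
-/

set_option autoImplicit false
set_option linter.style.haveILetI false
set_option backward.isDefEq.respectTransparency false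
set_option maxHeartbeats 800000
universe u
open CategoryTheory CategoryTheory.Limits AlgebraicGeometry Opposite
open AlgSp

namespace Groth.Agent.Lib.Helper9.SepDomExt

open Groth.Agent.Lib.Helper9 Groth.Agent.Lib.Helper12

variable {S : Scheme.{u}}

theorem hasLift_of_domExt_of_separated {X Y : AlgSp.Sp S} (hX : AlgSp.IsAlgSpace X)
    (hY : AlgSp.IsAlgSpace Y) (f : X ⟶ Y) (hf : AlgSp.IsSeparatedMor f) (sq : AlgSp.ValSq f)
    (e : sq.DomExt) (he : e.HasLift) : sq.HasLift := by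
  obtain ⟨l', hl'1, hl'2⟩ := he
  -- the morphisms of spectra over `S`
  obtain ⟨jφ, hjφ⟩ : ∃ jφ : e.ptA' ⟶ sq.ptA,
      jφ = Over.homMk (Spec.map (CommRingCat.ofHom e.φ)) rfl := ⟨_, rfl⟩
  rw [← hjφ] at hl'2
  obtain ⟨j', hj'⟩ : ∃ j' : e.ptK' ⟶ e.ptA',
      j' = Over.homMk (Spec.map (CommRingCat.ofHom (algebraMap e.A' e.K'))) rfl := ⟨_, rfl⟩
  rw [← hj'] at hl'1
  obtain ⟨jψ, hjψl, hl'1⟩ : ∃ jψ : e.ptK' ⟶ sq.ptK, jψ.left = Spec.map (CommRingCat.ofHom e.ψ) ∧
      (AlgSp.yon S).map j' ≫ l' = (AlgSp.yon S).map jψ ≫ sq.top := ⟨_, rfl, hl'1⟩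
  have hjφl : jφ.left = Spec.map (CommRingCat.ofHom e.φ) := by rw [hjφ]; rfl
  have hj'l : j'.left = Spec.map (CommRingCat.ofHom (algebraMap e.A' e.K')) := by rw [hj']; rfl
  have hjl : sq.j.left = Spec.map (CommRingCat.ofHom (algebraMap sq.A sq.K)) := rfl
  -- faithful flatness
  haveI : IsLocalHom e.φ := e.isLocalHom
  have hff : (CommRingCat.ofHom e.φ).hom.FaithfullyFlat := faithfullyFlat_of_domExt e.φ e.ψ e.comm
  obtain ⟨hflat, hsurj⟩ := (AlgebraicGeometry.flat_and_surjective_SpecMap_iff (CommRingCat.ofHom e.φ)).2 hff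
  haveI : Flat jφ.left := by rw [hjφl]; exact hflat
  haveI : Surjective jφ.left := by rw [hjφl]; exact hsurj
  haveI : IsAffine sq.ptA.left := inferInstanceAs (IsAffine (Spec (CommRingCat.of sq.A)))
  haveI : IsAffine e.ptA'.left := inferInstanceAs (IsAffine (Spec (CommRingCat.of e.A')))
  -- the fibre product `Spec K ×_{Spec A} Spec A'`
  obtain ⟨P₀, p₁, p₂, d₀, hP₀, hd1, hd2, hd₀⟩ := exists_pullback_dominant e.φ e.ψ e.comm
  haveI := hd₀
  have hp12 : p₁ ≫ sq.ptK.hom = p₂ ≫ e.ptA'.hom := by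
    change p₁ ≫ Spec.map _ ≫ sq.str = p₂ ≫ Spec.map _ ≫ sq.str
    rw [← Category.assoc, hP₀.w, Category.assoc]
  obtain ⟨sndP, hsndP⟩ : ∃ sndP : Over.mk (p₂ ≫ e.ptA'.hom) ⟶ e.ptA', sndP = Over.homMk p₂ rfl :=
    ⟨_, rfl⟩
  obtain ⟨fstP, hfstP⟩ : ∃ fstP : Over.mk (p₂ ≫ e.ptA'.hom) ⟶ sq.ptK, fstP = Over.homMk p₁ hp12 :=
    ⟨_, rfl⟩
  have hd₀w : d₀ ≫ p₂ ≫ e.ptA'.hom = e.ptK'.hom := by
    rw [← Category.assoc, hd2]; rfl
  obtain ⟨d, hd⟩ : ∃ d : e.ptK' ⟶ Over.mk (p₂ ≫ e.ptA'.hom), d = Over.homMk d₀ hd₀w := ⟨_, rfl⟩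
  have hsndPl : sndP.left = p₂ := by rw [hsndP]; rfl
  have hfstPl : fstP.left = p₁ := by rw [hfstP]; rfl
  have hdl : d.left = d₀ := by rw [hd]; rfl
  have sqP : IsPullback fstP sndP sq.j jφ := by
    refine IsPullback.of_map (Over.forget S) ?_ ?_
    · apply Over.OverMorphism.ext
      rw [Over.comp_left, Over.comp_left, hfstPl, hsndPl, hjφl]
      exact hP₀.w
    · change IsPullback fstP.left sndP.left sq.j.left jφ.left
      rw [hfstPl, hsndPl, hjφl]
      exact hP₀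
  have hdfst : d ≫ fstP = jψ := by
    apply Over.OverMorphism.ext
    rw [Over.comp_left, hdl, hfstPl, hjψl]
    exact hd1
  have hdsnd : d ≫ sndP = j' := by
    apply Over.OverMorphism.ext
    rw [Over.comp_left, hdl, hsndPl, hj'l]
    exact hd2
  haveI : IsSchemeTheoreticallyDominant d.left := by rw [hdl]; exact hd₀
  -- `Spec K ×_{Spec A} Spec A' ⟶ Spec A'` is scheme theoretically dominant
  haveI : QuasiCompact sq.j.left := by
    change QuasiCompact (Spec.map (CommRingCat.ofHom (algebraMap sq.A sq.K)))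
    infer_instance
  haveI : IsSchemeTheoreticallyDominant sq.j.left := by
    rw [hjl]
    exact isSchemeTheoreticallyDominant_specMap _ (IsFractionRing.injective sq.A sq.K)
  have hpbl : IsPullback fstP.left sndP.left sq.j.left jφ.left := sqP.map (Over.forget S)
  haveI : IsSchemeTheoreticallyDominant sndP.left :=
    IsSchemeTheoreticallyDominant.of_isPullback hpbl
  -- the base change to `Spec A`
  have hXA : AlgSp.IsAlgSpace (pullback f sq.bot) :=
    Groth.Agent.S9874.isAlgSpace_of_isPullback hY.diag hX (AlgSp.IsAlgSpace.yon_obj _)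
      (IsPullback.of_hasPullback f sq.bot)
  obtain ⟨x, hx1, hx2⟩ : ∃ x : (AlgSp.yon S).obj sq.ptK ⟶ pullback f sq.bot,
      x ≫ pullback.fst f sq.bot = sq.top ∧ x ≫ pullback.snd f sq.bot = (AlgSp.yon S).map sq.j :=
    ⟨pullback.lift _ _ sq.comm, pullback.lift_fst _ _ _, pullback.lift_snd _ _ _⟩
  obtain ⟨σ₀, hσ₀1, hσ₀2⟩ : ∃ σ₀ : (AlgSp.yon S).obj e.ptA' ⟶ pullback f sq.bot,
      σ₀ ≫ pullback.fst f sq.bot = l' ∧ σ₀ ≫ pullback.snd f sq.bot = (AlgSp.yon S).map jφ :=
    ⟨pullback.lift _ _ hl'2, pullback.lift_fst _ _ _, pullback.lift_snd _ _ _⟩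
  have hsep2 : AlgSp.IsSeparatedMor (pullback.snd f sq.bot) :=
    Proper.isSeparatedMor_baseChange (IsPullback.of_hasPullback f sq.bot) hf
  have hqs2 : AlgSp.IsQuasiSeparatedMor (pullback.snd f sq.bot) :=
    (AlgSp.repWith_iff _ _).2 ⟨hsep2.1, fun U V g fst snd sq' => by
      haveI : IsClosedImmersion snd.left := hsep2.2 g fst snd sq'
      exact (inferInstance : QuasiCompact snd.left)⟩
  have hxqc : AlgSp.IsQuasiCompactMor x :=
    Groth.Agent.S9919.isQuasiCompactMor_of_comp (AlgSp.IsAlgSpace.yon_obj _) hXA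
      (AlgSp.IsAlgSpace.yon_obj _) x (pullback.snd f sq.bot)
      (by rw [hx2]; exact DecentDesc.isQuasiCompactMor_yon_map sq.j) hqs2
  -- the scheme theoretic image of `x`
  obtain ⟨Z, i, hZ⟩ := Groth.Agent.S9964.result
    (X := ⟨(AlgSp.yon S).obj sq.ptK, AlgSp.IsAlgSpace.yon_obj _⟩) (Y := ⟨pullback f sq.bot, hXA⟩)
    (ObjectProperty.homMk x)
  change AlgSp.IsSchImage x i.hom at hZ
  obtain ⟨xZ, hxZ⟩ := hZ.2.1
  -- the base change to `Spec A'`
  have sqA' := IsPullback.of_hasPullback (pullback.snd f sq.bot) ((AlgSp.yon S).map jφ)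
  have hXA' : AlgSp.IsAlgSpace (pullback (pullback.snd f sq.bot) ((AlgSp.yon S).map jφ)) :=
    Groth.Agent.S9874.isAlgSpace_of_isPullback (AlgSp.IsAlgSpace.yon_obj _).diag hXA
      (AlgSp.IsAlgSpace.yon_obj _) sqA'
  have hb : AlgSp.LocP @Flat (pullback.fst (pullback.snd f sq.bot) ((AlgSp.yon S).map jφ)) :=
    Groth.Agent.S9984.result @Flat (Or.inr (Or.inr (Or.inl rfl)))
      (X := ⟨(AlgSp.yon S).obj e.ptA', AlgSp.IsAlgSpace.yon_obj _⟩)
      (Y := ⟨(AlgSp.yon S).obj sq.ptA, AlgSp.IsAlgSpace.yon_obj _⟩)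
      (Y' := ⟨pullback f sq.bot, hXA⟩)
      (X' := ⟨pullback (pullback.snd f sq.bot) ((AlgSp.yon S).map jφ), hXA'⟩)
      (ObjectProperty.homMk ((AlgSp.yon S).map jφ)) (ObjectProperty.homMk (pullback.snd f sq.bot))
      (ObjectProperty.homMk (pullback.snd (pullback.snd f sq.bot) ((AlgSp.yon S).map jφ)))
      (ObjectProperty.homMk (pullback.fst (pullback.snd f sq.bot) ((AlgSp.yon S).map jφ)))
      sqA'.flip (Groth.Agent.Lib.Helper15LocEss.locP_yon_map_of_flat jφ inferInstance)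
  -- the base change of `x`
  have hf''c : ((AlgSp.yon S).map fstP ≫ x) ≫ pullback.snd f sq.bot =
      (AlgSp.yon S).map sndP ≫ (AlgSp.yon S).map jφ := by
    rw [Category.assoc, hx2, ← Functor.map_comp, ← Functor.map_comp, sqP.w]
  obtain ⟨f'', hf''1, hf''2⟩ : ∃ f'' : (AlgSp.yon S).obj (Over.mk (p₂ ≫ e.ptA'.hom)) ⟶
      pullback (pullback.snd f sq.bot) ((AlgSp.yon S).map jφ),
      f'' ≫ pullback.fst (pullback.snd f sq.bot) ((AlgSp.yon S).map jφ) =
        (AlgSp.yon S).map fstP ≫ x ∧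
      f'' ≫ pullback.snd (pullback.snd f sq.bot) ((AlgSp.yon S).map jφ) = (AlgSp.yon S).map sndP :=
    ⟨pullback.lift _ _ hf''c, pullback.lift_fst _ _ _, pullback.lift_snd _ _ _⟩
  have sqF : IsPullback ((AlgSp.yon S).map fstP) f'' x
      (pullback.fst (pullback.snd f sq.bot) ((AlgSp.yon S).map jφ)) := by
    refine (IsPullback.of_right ?_ hf''1 sqA'.flip).flip
    rw [hf''2, hx2]
    exact (sqP.map (AlgSp.yon S)).flip
  have sqZ' := IsPullback.of_hasPullback i.hom
    (pullback.fst (pullback.snd f sq.bot) ((AlgSp.yon S).map jφ))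
  have hZ' : AlgSp.IsSchImage f'' (pullback.snd i.hom
      (pullback.fst (pullback.snd f sq.bot) ((AlgSp.yon S).map jφ))) :=
    SchImageQc.isSchImage_flat_base_change (AlgSp.IsAlgSpace.yon_obj _) hXA hXA' x hxqc i.hom hZ _ hb
      _ f'' sqF _ _ sqZ'
  have hZ'alg : AlgSp.IsAlgSpace (pullback i.hom
      (pullback.fst (pullback.snd f sq.bot) ((AlgSp.yon S).map jφ))) :=
    SchImage2.isAlgSpace_of_closedImmersion hXA' _ hZ'.1.1
  -- the section
  obtain ⟨σ, hσ1, hσ2⟩ : ∃ σ : (AlgSp.yon S).obj e.ptA' ⟶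
      pullback (pullback.snd f sq.bot) ((AlgSp.yon S).map jφ),
      σ ≫ pullback.fst (pullback.snd f sq.bot) ((AlgSp.yon S).map jφ) = σ₀ ∧
      σ ≫ pullback.snd (pullback.snd f sq.bot) ((AlgSp.yon S).map jφ) = 𝟙 _ :=
    ⟨pullback.lift σ₀ (𝟙 _) (by rw [hσ₀2, Category.id_comp]), pullback.lift_fst _ _ _,
      pullback.lift_snd _ _ _⟩
  have hsep3 : AlgSp.IsSeparatedMor (pullback.snd (pullback.snd f sq.bot) ((AlgSp.yon S).map jφ)) :=
    Proper.isSeparatedMor_baseChange sqA' hsep2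
  have hσcl : AlgSp.RepWith @IsClosedImmersion σ :=
    repWith_isClosedImmersion_of_section _ σ hσ2 hsep3
  haveI : Mono σ := SchImage2.mono_of_closedImmersion hσcl
  -- `f''` factors through the section
  have hkey : (AlgSp.yon S).map fstP ≫ sq.top = (AlgSp.yon S).map sndP ≫ l' := by
    refine eq_of_separated_of_dominant f hf d _ _ ?_ ?_
    · rw [Category.assoc, sq.comm, Category.assoc, hl'2, ← Category.assoc, ← Category.assoc,
        ← Functor.map_comp, ← Functor.map_comp, sqP.w]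
    · rw [← Category.assoc, ← Category.assoc, ← Functor.map_comp, ← Functor.map_comp, hdfst, hdsnd,
        hl'1]
  have hfσ : f'' = (AlgSp.yon S).map sndP ≫ σ := by
    apply pullback.hom_ext
    · rw [hf''1, Category.assoc, hσ1]
      apply pullback.hom_ext
      · rw [Category.assoc, hx1, Category.assoc, hσ₀1, hkey]
      · rw [Category.assoc, hx2, Category.assoc, hσ₀2, ← Functor.map_comp, ← Functor.map_comp, sqP.w]
    · rw [hf''2, Category.assoc, hσ2, Category.comp_id]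
  -- the section is the scheme theoretic image of `f''`
  have hσim : AlgSp.IsSchImage f'' σ := by
    refine ⟨hσcl, ⟨_, hfσ.symm⟩, ?_⟩
    intro Z₃ i₃ hZ₃ hi₃ hf₃
    obtain ⟨f₃, hf₃⟩ := hf₃
    obtain ⟨W₃, w₃, fst₃, sq₃⟩ := hi₃.1 σ
    haveI : IsClosedImmersion w₃.left := hi₃.2 _ _ w₃ sq₃
    obtain ⟨k₃, hk₃⟩ := (AlgSp.yon S).map_surjective (sq₃.lift f₃ ((AlgSp.yon S).map sndP) (by
      rw [hf₃, hfσ]))
    have hk₃w : k₃ ≫ w₃ = sndP := by
      apply (AlgSp.yon S).map_injective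
      rw [Functor.map_comp, hk₃, sq₃.lift_snd]
    haveI : IsIso w₃.left := isIso_of_closedImmersion_of_dominant w₃.left k₃.left sndP.left (by
      rw [← Over.comp_left, hk₃w])
    haveI : IsIso ((Over.forget S).map w₃) := by
      show IsIso w₃.left
      infer_instance
    haveI : IsIso w₃ := isIso_of_reflects_iso w₃ (Over.forget S)
    refine ⟨(AlgSp.yon S).map (inv w₃) ≫ fst₃, ?_⟩
    rw [Category.assoc, sq₃.w, ← Category.assoc, ← Functor.map_comp, IsIso.inv_hom_id,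
      CategoryTheory.Functor.map_id, Category.id_comp]
  obtain ⟨ε, hε⟩ := SchImage2.isSchImage_unique hZ'alg (AlgSp.IsAlgSpace.yon_obj _) hZ' hσim
  -- descent
  have sqc : IsPullback (pullback.fst i.hom
      (pullback.fst (pullback.snd f sq.bot) ((AlgSp.yon S).map jφ)))
      (pullback.snd i.hom (pullback.fst (pullback.snd f sq.bot) ((AlgSp.yon S).map jφ)) ≫
        pullback.snd (pullback.snd f sq.bot) ((AlgSp.yon S).map jφ))
      (i.hom ≫ pullback.snd f sq.bot) ((AlgSp.yon S).map jφ) := sqZ'.paste_vert sqA'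
  have hc' : pullback.snd i.hom (pullback.fst (pullback.snd f sq.bot) ((AlgSp.yon S).map jφ)) ≫
      pullback.snd (pullback.snd f sq.bot) ((AlgSp.yon S).map jφ) = ε.hom := by
    rw [← hε, Category.assoc, hσ2, Category.comp_id]
  have hloc := Groth.Agent.S10532.result S (fun _ : PUnit.{u + 1} => (AlgSp.yon S).obj e.ptA')
    (fun _ => (AlgSp.yon S).map jφ) (AlgSp.IsAlgSpace.yon_obj _) (fun _ => AlgSp.IsAlgSpace.yon_obj _)
    (isFpqcCover_single jφ) (i.hom ≫ pullback.snd f sq.bot) Z.property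
    (fun _ => pullback i.hom (pullback.fst (pullback.snd f sq.bot) ((AlgSp.yon S).map jφ)))
    (fun _ => pullback.snd i.hom (pullback.fst (pullback.snd f sq.bot) ((AlgSp.yon S).map jφ)) ≫
        pullback.snd (pullback.snd f sq.bot) ((AlgSp.yon S).map jφ))
    (fun _ => pullback.fst i.hom (pullback.fst (pullback.snd f sq.bot) ((AlgSp.yon S).map jφ)))
    (fun _ => hZ'alg) (fun _ => sqc)
  haveI : IsIso (i.hom ≫ pullback.snd f sq.bot) := by
    have h := hloc.2 (fun _ => by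
      rw [hc']
      exact (MorphismProperty.isomorphisms.iff _).2 inferInstance)
    exact (MorphismProperty.isomorphisms.iff _).1 h
  -- the lift
  refine ⟨inv (i.hom ≫ pullback.snd f sq.bot) ≫ i.hom ≫ pullback.fst f sq.bot, ?_, ?_⟩
  · have h1 : (AlgSp.yon S).map sq.j ≫ inv (i.hom ≫ pullback.snd f sq.bot) = xZ := by
      rw [IsIso.comp_inv_eq, ← Category.assoc, hxZ, hx2]
    rw [← Category.assoc, h1, ← Category.assoc, hxZ, hx1]
  · rw [Category.assoc, Category.assoc, pullback.condition, ← Category.assoc i.hom,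
      IsIso.inv_hom_id_assoc]

end Groth.Agent.Lib.Helper9.SepDomExt
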