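import Mathlib
import Groth.Agent.Lib.Helper4DVREx
import Groth.Agent.S9874
import Groth.Agent.S9900
import Groth.Agent.S9947
import Groth.Agent.S9951
import Groth.Agent.S9984
import Groth.Agent.S9985
import Groth.Agent.S10290
import Groth.Agent.S10534

/-!
# Separatedness via discrete valuation rings over a locally Noetherian base (helper9)
* `isFpqcCover_of_atlas`: an étale surjective chart of a sheaf is an fpqc covering.
* `isSeparatedMor_of_dvr_uniq`: quasi-separated + locally of finite type over a locally Noetherian base +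
  uniqueness for discrete valuation rings implies separated.
-/

set_option autoImplicit false
set_option linter.style.haveILetI false
set_option backward.isDefEq.respectTransparency false
universe u
open CategoryTheory CategoryTheory.Limits AlgebraicGeometry Opposite
open AlgSp

namespace Groth.Agent.Lib.Helper9.SepDvr

open Groth.Agent.Lib.Helper4

variable {S : Scheme.{u}}

/-- an étale surjective chart is an fpqc covering. -/
theorem isFpqcCover_of_atlas {P : AlgSp.Sp S} {T : Over S} (c : (AlgSp.yon S).obj T ⟶ P)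
    (hce : AlgSp.RepWith @Etale c) (hcs : AlgSp.RepWith @Surjective c) :
    AlgSp.IsFpqcCover (fun _ : PUnit.{u + 1} => (AlgSp.yon S).obj T) (fun _ => c) := by
  refine ⟨fun _ => Groth.Agent.S9947.locP_of_repWith_etale @Flat
    (fun g hg => by haveI := hg; infer_instance) c hce, ?_⟩
  intro Z hZ h
  haveI := hZ
  obtain ⟨Z', w, pr, sq⟩ := hce.1 h
  haveI : Etale w.left := hce.2 h _ w sq
  haveI : Surjective w.left := hcs.2 h _ w sq
  -- a finite family of affine opens of `Z'` whose images cover `Z`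
  let 𝒱 := Z'.left.affineCover
  have hopen : ∀ i : 𝒱.I₀, IsOpen (Set.range (𝒱.f i ≫ w.left)) := fun i =>
    (𝒱.f i ≫ w.left).isOpenMap.isOpen_range
  have hcov : (Set.univ : Set Z.left) ⊆ ⋃ i : 𝒱.I₀, Set.range (𝒱.f i ≫ w.left) := by
    intro z _
    obtain ⟨z', rfl⟩ := w.left.surjective z
    obtain ⟨i, y, rfl⟩ := 𝒱.exists_eq z'
    exact Set.mem_iUnion.2 ⟨i, y, rfl⟩
  obtain ⟨t, ht⟩ := isCompact_univ.elim_finite_subcover _ hopen hcov
  let e : t ≃ Fin t.card := t.equivFin
  let W : Fin t.card → Over S := fun j => Over.mk (𝒱.f (e.symm j).1 ≫ Z'.hom)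
  let ιW : ∀ j, W j ⟶ Z' := fun j => Over.homMk (𝒱.f (e.symm j).1) rfl
  refine ⟨t.card, W, fun j => ιW j ≫ w, fun j => ?_, fun j => ?_, fun z => ?_,
    fun j => ⟨PUnit.unit, (AlgSp.yon S).map (ιW j) ≫ pr, ?_⟩⟩
  · change IsAffine (𝒱.X (e.symm j).1)
    infer_instance
  · change Flat (𝒱.f (e.symm j).1 ≫ w.left)
    infer_instance
  · obtain ⟨i, hi, hz⟩ : ∃ i ∈ t, z ∈ Set.range (𝒱.f i ≫ w.left) := by
      have := ht (Set.mem_univ z)
      simpa only [Set.mem_iUnion, exists_prop] using this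
    obtain ⟨j, hj⟩ := e.symm.surjective ⟨i, hi⟩
    have hz' : z ∈ Set.range (𝒱.f (e.symm j).1 ≫ w.left) := by rw [hj]; exact hz
    obtain ⟨y, hy⟩ := hz'
    exact ⟨j, y, hy⟩
  · rw [Category.assoc, sq.w, Functor.map_comp, Category.assoc]

/-- quasi-separated, locally of finite type over a locally Noetherian base, uniqueness for discrete
valuation rings: separated. -/
theorem isSeparatedMor_of_dvr_uniq {X Y : AlgSp.Space S} (f : X ⟶ Y)
    (hqs : AlgSp.IsQuasiSeparatedMor f.hom) (hft : AlgSp.LocP @LocallyOfFiniteType f.hom)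
    (hY : AlgSp.IsLocNoethSp Y.obj)
    (hu : ∀ sq : AlgSp.ValSq f.hom, IsDiscreteValuationRing sq.A → sq.HasUniq) :
    AlgSp.IsSeparatedMor f.hom := by
  have hP : AlgSp.IsAlgSpace (pullback f.hom f.hom) :=
    Groth.Agent.S9874.isAlgSpace_of_isPullback Y.property.diag X.property X.property
      (IsPullback.of_hasPullback _ _)
  let PP : AlgSp.Space S := ⟨pullback f.hom f.hom, hP⟩
  let sndP : PP ⟶ X := ObjectProperty.homMk (pullback.snd f.hom f.hom)
  let fstP : PP ⟶ X := ObjectProperty.homMk (pullback.fst f.hom f.hom)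
  have h1 : AlgSp.LocP @LocallyOfFiniteType sndP.hom :=
    Groth.Agent.S9984.result @LocallyOfFiniteType (Or.inl rfl) f f fstP sndP
      (IsPullback.of_hasPullback _ _) hft
  have h2 : AlgSp.LocP @LocallyOfFiniteType (sndP ≫ f).hom :=
    Groth.Agent.S9985.result _ (Or.inl rfl) sndP f h1 hft
  obtain ⟨T₀, c, hce, hcs, hT₀⟩ := Groth.Agent.S9951.result (sndP ≫ f) h2 hY
  haveI : IsLocallyNoetherian T₀.left := hT₀
  change (AlgSp.yon S).obj T₀ ⟶ pullback f.hom f.hom at c
  have hcov := isFpqcCover_of_atlas c hce hcs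
  obtain ⟨W₀, w₀, pr₀, psq⟩ := hqs.1 c
  have hloc := (Groth.Agent.S10534.result S) (fun _ : PUnit.{u+1} => (AlgSp.yon S).obj T₀)
    (fun _ => c) hP (fun _ => AlgSp.IsAlgSpace.yon_obj _) hcov
    (pullback.diagonal f.hom) X.property (fun _ => (AlgSp.yon S).obj W₀)
    (fun _ => (AlgSp.yon S).map w₀) (fun _ => pr₀) (fun _ => AlgSp.IsAlgSpace.yon_obj _)
    (fun _ => psq)
  refine hloc.2 (fun _ => ?_)
  rw [AlgSp.repWith_yon_map_iff]
  obtain ⟨hrep, hlft, hmono, hsep, -⟩ := Groth.Agent.S9900.result f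
  haveI : LocallyOfFiniteType w₀.left := hlft.2 c pr₀ w₀ psq
  haveI : Mono w₀.left := hmono.2 c pr₀ w₀ psq
  haveI : IsSeparated w₀.left := hsep.2 c pr₀ w₀ psq
  haveI : QuasiCompact w₀.left := hqs.2 c pr₀ w₀ psq
  have hpa : pr₀ = (AlgSp.yon S).map w₀ ≫ c ≫ pullback.fst f.hom f.hom := by
    have := psq.w =≫ pullback.fst f.hom f.hom
    rwa [Category.assoc, pullback.diagonal_fst, Category.comp_id, Category.assoc] at this
  have hpb : pr₀ = (AlgSp.yon S).map w₀ ≫ c ≫ pullback.snd f.hom f.hom := by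
    have := psq.w =≫ pullback.snd f.hom f.hom
    rwa [Category.assoc, pullback.diagonal_snd, Category.comp_id, Category.assoc] at this
  have hex : ValuativeCriterion.Existence w₀.left := by
    refine DVREx.existence_of_dvr' w₀.left (fun A _ _ hA x y hxy => ?_)
    have hi₁ : x ≫ W₀.hom =
        Spec.map (CommRingCat.ofHom (algebraMap A (FractionRing A))) ≫ y ≫ T₀.hom := by
      have h := hxy =≫ T₀.hom
      rw [Category.assoc, Category.assoc, Over.w w₀] at h
      exact h
    let i₂' : Over.mk (y ≫ T₀.hom) ⟶ T₀ := Over.homMk y rfl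
    let jj : Over.mk (Spec.map (CommRingCat.ofHom (algebraMap A (FractionRing A))) ≫ y ≫ T₀.hom) ⟶
        Over.mk (y ≫ T₀.hom) :=
      Over.homMk (Spec.map (CommRingCat.ofHom (algebraMap A (FractionRing A)))) rfl
    let i₁' : Over.mk (Spec.map (CommRingCat.ofHom (algebraMap A (FractionRing A))) ≫ y ≫ T₀.hom) ⟶ W₀ :=
      Over.homMk x hi₁
    have hcomm' : i₁' ≫ w₀ = jj ≫ i₂' := Over.OverMorphism.ext hxy
    have e : (AlgSp.yon S).map jj ≫ (AlgSp.yon S).map i₂' =
        (AlgSp.yon S).map i₁' ≫ (AlgSp.yon S).map w₀ := by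
      rw [← Functor.map_comp, ← Functor.map_comp, hcomm']
    obtain ⟨l₁, hl₁⟩ : ∃ l₁ : (AlgSp.yon S).obj (Over.mk (y ≫ T₀.hom)) ⟶ X.obj,
        l₁ = (AlgSp.yon S).map i₂' ≫ c ≫ pullback.fst f.hom f.hom := ⟨_, rfl⟩
    obtain ⟨l₂, hl₂⟩ : ∃ l₂ : (AlgSp.yon S).obj (Over.mk (y ≫ T₀.hom)) ⟶ X.obj,
        l₂ = (AlgSp.yon S).map i₂' ≫ c ≫ pullback.snd f.hom f.hom := ⟨_, rfl⟩
    have hj1 : (AlgSp.yon S).map jj ≫ l₁ = (AlgSp.yon S).map i₁' ≫ pr₀ := by
      rw [hl₁, hpa]
      simpa only [Category.assoc] using e =≫ (c ≫ pullback.fst f.hom f.hom)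
    have hj2 : (AlgSp.yon S).map jj ≫ l₂ = (AlgSp.yon S).map i₁' ≫ pr₀ := by
      rw [hl₂, hpb]
      simpa only [Category.assoc] using e =≫ (c ≫ pullback.snd f.hom f.hom)
    have hf12 : l₁ ≫ f.hom = l₂ ≫ f.hom := by
      rw [hl₁, hl₂]
      simp only [Category.assoc, pullback.condition]
    let vsq : AlgSp.ValSq f.hom :=
      { A := A, K := FractionRing A, str := y ≫ T₀.hom, top := (AlgSp.yon S).map i₁' ≫ pr₀,
        bot := l₁ ≫ f.hom, comm := by rw [← hj1, Category.assoc] }
    have huniq : l₁ = l₂ := hu vsq hA l₁ l₂ hj1 rfl hj2 hf12.symm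
    have hd : l₁ ≫ pullback.diagonal f.hom = (AlgSp.yon S).map i₂' ≫ c := by
      apply pullback.hom_ext
      · rw [Category.assoc, pullback.diagonal_fst, Category.comp_id, hl₁, Category.assoc]
      · rw [Category.assoc, pullback.diagonal_snd, Category.comp_id, huniq, hl₂, Category.assoc]
    obtain ⟨s, hs⟩ := (AlgSp.yon S).map_surjective (psq.lift l₁ ((AlgSp.yon S).map i₂') hd)
    have hsw : s ≫ w₀ = i₂' := by
      apply (AlgSp.yon S).map_injective
      rw [Functor.map_comp, hs, psq.lift_snd]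
    have hsl : s.left ≫ w₀.left = y := by
      rw [← Over.comp_left, hsw]; rfl
    refine ⟨s.left, hsl, ?_⟩
    rw [← cancel_mono w₀.left, Category.assoc, hsl, hxy]
  haveI : UniversallyClosed w₀.left := UniversallyClosed.of_valuativeCriterion w₀.left hex
  haveI : IsProper w₀.left := { }
  exact (IsClosedImmersion.iff_isProper_and_mono w₀.left).2 ⟨inferInstance, inferInstance⟩

end Groth.Agent.Lib.Helper9.SepDvr
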