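import Mathlib
import Groth.Agent.Lib.Helper9DvrSpec
import Groth.Agent.Lib.Helper9SepDvr
import Groth.Agent.Lib.Helper4DVRRef2
import Groth.Agent.S10175
import Groth.Agent.S10176
import Groth.Agent.S10177

/-!
# Separatedness via discrete valuation rings, refined version (helper9)
* `exists_chart_closure`: for `f : X ⟶ Y` of finite type and an étale chart `p : h_V ⟶ Y` with `V` affine, a quasi-compact
  chart `U` of `X ×_Y V` with `g : U ⟶ V` quasi-compact locally of finite type detecting the closure of the image.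
* `isSeparatedMor_of_chart_existence`: separatedness from the existence part of the valuative criterion for the
  base change of the diagonal to locally Noetherian étale charts.
* `isSeparatedMor_of_dvr_uniq_refined`.
-/

set_option autoImplicit false
set_option linter.style.haveILetI false
set_option backward.isDefEq.respectTransparency false
universe u
open CategoryTheory CategoryTheory.Limits AlgebraicGeometry Opposite
open AlgSp

namespace Groth.Agent.Lib.Helper9.SepDvrRef

open Groth.Agent.Lib.Helper4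

variable {S : Scheme.{u}}

theorem exists_chart_closure {X Y : AlgSp.Sp S} (hX : AlgSp.IsAlgSpace X) (hYa : AlgSp.IsAlgSpace Y)
    (f : X ⟶ Y) (hft : AlgSp.IsFiniteTypeMor f) {V : Over S} [IsAffine V.left]
    (p : (AlgSp.yon S).obj V ⟶ Y) (hp : AlgSp.RepWith @Etale p) :
    ∃ (U : Over S) (a : (AlgSp.yon S).obj U ⟶ X) (g : U ⟶ V), AlgSp.RepWith @Etale a ∧
      a ≫ f = (AlgSp.yon S).map g ≫ p ∧ LocallyOfFiniteType g.left ∧ QuasiCompact g.left ∧
      ∀ v : V.left, AlgSp.Points.ofPt p v ∈ closure (Set.range (AlgSp.Points.map f)) →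
        v ∈ closure (Set.range g.left) := by
  have hinv : (MorphismProperty.inverseImage (@Etale.{u}) (Over.forget S)).IsStableUnderComposition :=
    MorphismProperty.IsStableUnderComposition.inverseImage _
  haveI : (AlgSp.RepWith (S := S) @Etale.{u}).IsStableUnderComposition :=
    MorphismProperty.relative_isStableUnderComposition _
  haveI : (AlgSp.RepWith (S := S) @Etale.{u}).IsStableUnderBaseChange :=
    MorphismProperty.relative_isStableUnderBaseChange _
  have hsq : IsPullback (pullback.fst f p) (pullback.snd f p) f p := IsPullback.of_hasPullback f p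
  have hP : AlgSp.IsAlgSpace (pullback f p) :=
    Groth.Agent.S9874.isAlgSpace_of_isPullback hYa.diag hX (AlgSp.IsAlgSpace.yon_obj _) hsq
  have hVqc : AlgSp.IsQuasiCompactSp ((AlgSp.yon S).obj V) :=
    ⟨_, 𝟙 _, AlgSp.repWith_id _ _, AlgSp.repWith_id _ _, (inferInstance : CompactSpace V.left)⟩
  obtain ⟨U, a, hae, has, hUc⟩ := hft.2 (AlgSp.IsAlgSpace.yon_obj _) hVqc p _ _ hsq
  haveI : CompactSpace U.left := hUc
  obtain ⟨g, hg⟩ := (AlgSp.yon S).map_surjective (a ≫ pullback.snd f p)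
  have hfe : AlgSp.RepWith @Etale (pullback.fst f p) :=
    MorphismProperty.of_isPullback (P := AlgSp.RepWith @Etale) hsq.flip hp
  have hae' : AlgSp.RepWith @Etale (a ≫ pullback.fst f p) := MorphismProperty.comp_mem _ _ _ hae hfe
  have hcomm : (a ≫ pullback.fst f p) ≫ f = (AlgSp.yon S).map g ≫ p := by
    rw [Category.assoc, pullback.condition, ← Category.assoc, hg]
  have hlft : LocallyOfFiniteType g.left := hft.1 (a ≫ pullback.fst f p) p g hae' hp hcomm
  have hqc : QuasiCompact g.left := quasiCompact_of_compactSpace g.left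
  refine ⟨U, a ≫ pullback.fst f p, g, hae', hcomm, hlft, hqc, fun v hv => ?_⟩
  have hsub : AlgSp.Points.ofPt p ⁻¹' Set.range (AlgSp.Points.map f) ⊆ Set.range g.left := by
    rintro t ⟨x, hx⟩
    have e : AlgSp.Points.map p (AlgSp.Points.ofScheme _ t) = AlgSp.Points.map f x := by
      rw [← AlgSp.Points.ofPt_eq_map_ofScheme]
      exact hx.symm
    obtain ⟨π, hπ1, -⟩ := Groth.Agent.S10175.exists_point_of_isPullback hsq.flip _ _ e
    obtain ⟨u, rfl⟩ := Groth.Agent.S10177.surjective_ofPt a has π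
    refine ⟨u, ?_⟩
    apply (AlgSp.Points.schemeEquiv _).injective
    change AlgSp.Points.ofPt (𝟙 _) (g.left u) = AlgSp.Points.ofScheme _ t
    rw [← hπ1, AlgSp.Points.map_ofPt, ← hg, ← Groth.Agent.S10176.ofPt_map_comp, Category.comp_id]
  have h1 : v ∈ AlgSp.Points.ofPt p ⁻¹' closure (Set.range (AlgSp.Points.map f)) :=
    Set.mem_preimage.2 hv
  exact closure_mono hsub
    ((Groth.Agent.S10176.isOpenMap_ofPt p hp).preimage_closure_subset_closure_preimage h1)

/-- separatedness from the existence part of the valuative criterion for the base change of the diagonal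
to locally Noetherian étale charts of `X ×_Y X`. -/
theorem isSeparatedMor_of_chart_existence {X Y : AlgSp.Space S} (f : X ⟶ Y)
    (hqs : AlgSp.IsQuasiSeparatedMor f.hom) (hft : AlgSp.LocP @LocallyOfFiniteType f.hom)
    (hY : AlgSp.IsLocNoethSp Y.obj)
    (H : ∀ (T₀ W₀ : Over S) (c : (AlgSp.yon S).obj T₀ ⟶ pullback f.hom f.hom) (w₀ : W₀ ⟶ T₀)
      (pr₀ : (AlgSp.yon S).obj W₀ ⟶ X.obj), AlgSp.RepWith @Etale c → IsLocallyNoetherian T₀.left →
      IsPullback pr₀ ((AlgSp.yon S).map w₀) (pullback.diagonal f.hom) c →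
      ValuativeCriterion.Existence w₀.left) :
    AlgSp.IsSeparatedMor f.hom := by
  have hP : AlgSp.IsAlgSpace (pullback f.hom f.hom) :=
    Groth.Agent.S9874.isAlgSpace_of_isPullback Y.property.diag X.property X.property
      (IsPullback.of_hasPullback _ _)
  let PP : AlgSp.Space S := ⟨pullback f.hom f.hom, hP⟩
  let sndP : PP ⟶ X := ObjectProperty.homMk (pullback.snd f.hom f.hom)
  let fstP : PP ⟶ X := ObjectProperty.homMk (pullback.fst f.hom f.hom)
  have h1 : AlgSp.LocP @LocallyOfFiniteType sndP.hom :=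
    Groth.Agent.S9984.result @LocallyOfFiniteType (Or.inl rfl) f f fstP sndP
      (IsPullback.of_hasPullback _ _) hft
  have h2 : AlgSp.LocP @LocallyOfFiniteType (sndP ≫ f).hom :=
    Groth.Agent.S9985.result _ (Or.inl rfl) sndP f h1 hft
  obtain ⟨T₀, c, hce, hcs, hT₀⟩ := Groth.Agent.S9951.result (sndP ≫ f) h2 hY
  haveI : IsLocallyNoetherian T₀.left := hT₀
  change (AlgSp.yon S).obj T₀ ⟶ pullback f.hom f.hom at c
  have hcov := Groth.Agent.Lib.Helper9.SepDvr.isFpqcCover_of_atlas c hce hcs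
  obtain ⟨W₀, w₀, pr₀, psq⟩ := hqs.1 c
  have hloc := (Groth.Agent.S10534.result S) (fun _ : PUnit.{u+1} => (AlgSp.yon S).obj T₀)
    (fun _ => c) hP (fun _ => AlgSp.IsAlgSpace.yon_obj _) hcov
    (pullback.diagonal f.hom) X.property (fun _ => (AlgSp.yon S).obj W₀)
    (fun _ => (AlgSp.yon S).map w₀) (fun _ => pr₀) (fun _ => AlgSp.IsAlgSpace.yon_obj _)
    (fun _ => psq)
  refine hloc.2 (fun _ => ?_)
  rw [AlgSp.repWith_yon_map_iff]
  obtain ⟨hrep, hlft, hmono, hsep, -⟩ := Groth.Agent.S9900.result f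
  haveI : LocallyOfFiniteType w₀.left := hlft.2 c pr₀ w₀ psq
  haveI : Mono w₀.left := hmono.2 c pr₀ w₀ psq
  haveI : IsSeparated w₀.left := hsep.2 c pr₀ w₀ psq
  haveI : QuasiCompact w₀.left := hqs.2 c pr₀ w₀ psq
  have hex : ValuativeCriterion.Existence w₀.left := H T₀ W₀ c w₀ pr₀ hce hT₀ psq
  haveI : UniversallyClosed w₀.left := UniversallyClosed.of_valuativeCriterion w₀.left hex
  haveI : IsProper w₀.left := { }
  exact (IsClosedImmersion.iff_isProper_and_mono w₀.left).2 ⟨inferInstance, inferInstance⟩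

/-- refined version: uniqueness only for squares whose generic point factors through `h : U ⟶ X` of finite type with
dense image. -/
theorem isSeparatedMor_of_dvr_uniq_refined {U X Y : AlgSp.Space S} (h : U ⟶ X) (f : X ⟶ Y)
    (hY : AlgSp.IsLocNoethSp Y.obj) (hflt : AlgSp.LocP @LocallyOfFiniteType f.hom)
    (hfqs : AlgSp.IsQuasiSeparatedMor f.hom) (hh : AlgSp.IsFiniteTypeMor h.hom)
    (hdense : Dense (Set.range (AlgSp.Points.map h.hom)))
    (hval : ∀ sq : AlgSp.ValSq (h.hom ≫ f.hom), IsDiscreteValuationRing sq.A →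
      ∀ l l' : (AlgSp.yon S).obj sq.ptA ⟶ X.obj,
        (AlgSp.yon S).map sq.j ≫ l = sq.top ≫ h.hom ∧ l ≫ f.hom = sq.bot →
        (AlgSp.yon S).map sq.j ≫ l' = sq.top ≫ h.hom ∧ l' ≫ f.hom = sq.bot → l = l') :
    AlgSp.IsSeparatedMor f.hom := by
  refine isSeparatedMor_of_chart_existence f hfqs hflt hY ?_
  intro T₀ W₀ c w₀ pr₀ hce hT₀ psq
  haveI := hT₀
  obtain ⟨hrep, hlft, hmono, hsep, -⟩ := Groth.Agent.S9900.result f
  haveI : LocallyOfFiniteType w₀.left := hlft.2 c pr₀ w₀ psq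
  haveI : Mono w₀.left := hmono.2 c pr₀ w₀ psq
  haveI : IsSeparated w₀.left := hsep.2 c pr₀ w₀ psq
  haveI : QuasiCompact w₀.left := hfqs.2 c pr₀ w₀ psq
  have hinv : (MorphismProperty.inverseImage (@Etale.{u}) (Over.forget S)).IsStableUnderComposition :=
    MorphismProperty.IsStableUnderComposition.inverseImage _
  haveI : (AlgSp.RepWith (S := S) @Etale.{u}).IsStableUnderComposition :=
    MorphismProperty.relative_isStableUnderComposition _
  haveI : (AlgSp.RepWith (S := S) @Etale.{u}).IsStableUnderBaseChange :=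
    MorphismProperty.relative_isStableUnderBaseChange _
  have hpr₀ : AlgSp.RepWith @Etale pr₀ :=
    MorphismProperty.of_isPullback (P := AlgSp.RepWith @Etale) psq.flip hce
  have hpa : pr₀ = (AlgSp.yon S).map w₀ ≫ c ≫ pullback.fst f.hom f.hom := by
    have := psq.w =≫ pullback.fst f.hom f.hom
    rwa [Category.assoc, pullback.diagonal_fst, Category.comp_id, Category.assoc] at this
  have hpb : pr₀ = (AlgSp.yon S).map w₀ ≫ c ≫ pullback.snd f.hom f.hom := by
    have := psq.w =≫ pullback.snd f.hom f.hom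
    rwa [Category.assoc, pullback.diagonal_snd, Category.comp_id, Category.assoc] at this
  haveI : IsLocallyNoetherian W₀.left := LocallyOfFiniteType.isLocallyNoetherian w₀.left
  refine DVRRef.existence_of_dvr_refined w₀.left (fun x => ?_)
  -- an affine open neighbourhood of `x`
  obtain ⟨W', hW', hxW', -⟩ := exists_isAffineOpen_mem_and_subset (U := ⊤) (x := x) trivial
  haveI : IsAffine W'.toScheme := hW'
  obtain ⟨ι', hι'⟩ : ∃ ι' : Over.mk (W'.ι ≫ W₀.hom) ⟶ W₀, ι' = Over.homMk W'.ι rfl := ⟨_, rfl⟩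
  have hιe : AlgSp.RepWith @Etale ((AlgSp.yon S).map ι') := by
    rw [AlgSp.repWith_yon_map_iff, hι']
    change Etale W'.ι
    infer_instance
  obtain ⟨e, hedef⟩ : ∃ e : (AlgSp.yon S).obj (Over.mk (W'.ι ≫ W₀.hom)) ⟶ X.obj,
      e = (AlgSp.yon S).map ι' ≫ pr₀ := ⟨_, rfl⟩
  have he : AlgSp.RepWith @Etale e := by
    rw [hedef]
    exact MorphismProperty.comp_mem _ _ _ hιe hpr₀
  haveI : IsAffine (Over.mk (W'.ι ≫ W₀.hom)).left := hW'
  obtain ⟨U'', a, g, hae, hag, hglft, hgqc, hcl⟩ :=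
    exists_chart_closure U.property X.property h.hom hh e he
  haveI := hglft
  haveI := hgqc
  haveI : IsLocallyNoetherian (Over.mk (W'.ι ≫ W₀.hom)).left :=
    (inferInstance : IsLocallyNoetherian W'.toScheme)
  haveI : IsLocallyNoetherian U''.left := LocallyOfFiniteType.isLocallyNoetherian g.left
  obtain ⟨x', hx'⟩ : ∃ x' : (Over.mk (W'.ι ≫ W₀.hom)).left, W'.ι x' = x :=
    ⟨(⟨x, hxW'⟩ : W'.toScheme), rfl⟩
  have hx'cl : x' ∈ closure (Set.range g.left) := hcl x' (hdense _)
  obtain ⟨u, hu⟩ := DVRSch.exists_specializes_of_mem_closure_range g.left hx'cl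
  obtain ⟨k, hk⟩ : ∃ k : U''.left ⟶ W₀.left, k = g.left ≫ W'.ι := ⟨_, rfl⟩
  haveI : LocallyOfFiniteType k := by rw [hk]; infer_instance
  have hdx : k u ⤳ x := by
    have := hu.map W'.ι.continuous
    rw [hx'] at this
    rw [hk]
    exact this
  refine ⟨k u, hdx, U''.left.residueField u, inferInstance, k.residueFieldMap u,
    Groth.Agent.Lib.Helper9.DvrSpec.essFiniteType_residueFieldMap k u, ?_⟩
  intro V hV y hy
  -- the generic point
  obtain ⟨xL, hxL⟩ : ∃ xL : Spec (CommRingCat.of (U''.left.residueField u)) ⟶ W₀.left,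
      xL = Spec.map (k.residueFieldMap u) ≫ W₀.left.fromSpecResidueField (k u) := ⟨_, rfl⟩
  have hxLk : xL = U''.left.fromSpecResidueField u ≫ k := by
    rw [hxL]
    exact Scheme.Hom.SpecMap_residueFieldMap_fromSpecResidueField k u
  have hxy : xL ≫ w₀.left =
      Spec.map (CommRingCat.ofHom (algebraMap V (U''.left.residueField u))) ≫ y := by
    rw [hxL, Category.assoc]
    exact hy.symm
  have hi₁ : xL ≫ W₀.hom =
      Spec.map (CommRingCat.ofHom (algebraMap V (U''.left.residueField u))) ≫ y ≫ T₀.hom := by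
    have h := hxy =≫ T₀.hom
    rw [Category.assoc, Category.assoc, Over.w w₀] at h
    exact h
  have hiU : U''.left.fromSpecResidueField u ≫ U''.hom =
      Spec.map (CommRingCat.ofHom (algebraMap V (U''.left.residueField u))) ≫ y ≫ T₀.hom := by
    rw [← hi₁, hxLk, hk, ← Over.w g]
    simp only [Category.assoc]
    rfl
  let i₂' : Over.mk (y ≫ T₀.hom) ⟶ T₀ := Over.homMk y rfl
  let jj : Over.mk (Spec.map (CommRingCat.ofHom (algebraMap V (U''.left.residueField u))) ≫ y ≫ T₀.hom) ⟶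
      Over.mk (y ≫ T₀.hom) :=
    Over.homMk (Spec.map (CommRingCat.ofHom (algebraMap V (U''.left.residueField u)))) rfl
  let i₁' : Over.mk (Spec.map (CommRingCat.ofHom (algebraMap V (U''.left.residueField u))) ≫ y ≫ T₀.hom) ⟶
      W₀ := Over.homMk xL hi₁
  let iU : Over.mk (Spec.map (CommRingCat.ofHom (algebraMap V (U''.left.residueField u))) ≫ y ≫ T₀.hom) ⟶
      U'' := Over.homMk (U''.left.fromSpecResidueField u) hiU
  have hiUg : iU ≫ g ≫ ι' = i₁' := by
    apply Over.OverMorphism.ext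
    change U''.left.fromSpecResidueField u ≫ g.left ≫ ι'.left = xL
    rw [hxLk, hk, hι']
    rfl
  have htop : ((AlgSp.yon S).map iU ≫ a) ≫ h.hom = (AlgSp.yon S).map i₁' ≫ pr₀ := by
    rw [Category.assoc, hag, hedef, ← hiUg, Functor.map_comp, Functor.map_comp]
    simp only [Category.assoc]
  have hcomm' : i₁' ≫ w₀ = jj ≫ i₂' := Over.OverMorphism.ext hxy
  have e' : (AlgSp.yon S).map jj ≫ (AlgSp.yon S).map i₂' =
      (AlgSp.yon S).map i₁' ≫ (AlgSp.yon S).map w₀ := by
    rw [← Functor.map_comp, ← Functor.map_comp, hcomm']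
  obtain ⟨l₁, hl₁⟩ : ∃ l₁ : (AlgSp.yon S).obj (Over.mk (y ≫ T₀.hom)) ⟶ X.obj,
      l₁ = (AlgSp.yon S).map i₂' ≫ c ≫ pullback.fst f.hom f.hom := ⟨_, rfl⟩
  obtain ⟨l₂, hl₂⟩ : ∃ l₂ : (AlgSp.yon S).obj (Over.mk (y ≫ T₀.hom)) ⟶ X.obj,
      l₂ = (AlgSp.yon S).map i₂' ≫ c ≫ pullback.snd f.hom f.hom := ⟨_, rfl⟩
  have hj1 : (AlgSp.yon S).map jj ≫ l₁ = (AlgSp.yon S).map i₁' ≫ pr₀ := by
    rw [hl₁, hpa]
    simpa only [Category.assoc] using e' =≫ (c ≫ pullback.fst f.hom f.hom)
  have hj2 : (AlgSp.yon S).map jj ≫ l₂ = (AlgSp.yon S).map i₁' ≫ pr₀ := by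
    rw [hl₂, hpb]
    simpa only [Category.assoc] using e' =≫ (c ≫ pullback.snd f.hom f.hom)
  have hf12 : l₁ ≫ f.hom = l₂ ≫ f.hom := by
    rw [hl₁, hl₂]
    simp only [Category.assoc, pullback.condition]
  have hcommv : ((AlgSp.yon S).map iU ≫ a) ≫ (h.hom ≫ f.hom) =
      (AlgSp.yon S).map jj ≫ (l₁ ≫ f.hom) := by
    calc ((AlgSp.yon S).map iU ≫ a) ≫ (h.hom ≫ f.hom)
        = (((AlgSp.yon S).map iU ≫ a) ≫ h.hom) ≫ f.hom := (Category.assoc _ _ _).symm
      _ = ((AlgSp.yon S).map i₁' ≫ pr₀) ≫ f.hom := by rw [htop]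
      _ = ((AlgSp.yon S).map jj ≫ l₁) ≫ f.hom := by rw [hj1]
      _ = _ := Category.assoc _ _ _
  let vsq : AlgSp.ValSq (h.hom ≫ f.hom) :=
    { A := V, K := U''.left.residueField u, str := y ≫ T₀.hom, top := (AlgSp.yon S).map iU ≫ a,
      bot := l₁ ≫ f.hom, comm := hcommv }
  have huniq : l₁ = l₂ :=
    hval vsq hV l₁ l₂ ⟨hj1.trans htop.symm, rfl⟩ ⟨hj2.trans htop.symm, hf12.symm⟩
  have hd : l₁ ≫ pullback.diagonal f.hom = (AlgSp.yon S).map i₂' ≫ c := by
    apply pullback.hom_ext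
    · rw [Category.assoc, pullback.diagonal_fst, Category.comp_id, hl₁, Category.assoc]
    · rw [Category.assoc, pullback.diagonal_snd, Category.comp_id, huniq, hl₂, Category.assoc]
  obtain ⟨s, hs⟩ := (AlgSp.yon S).map_surjective (psq.lift l₁ ((AlgSp.yon S).map i₂') hd)
  have hsw : s ≫ w₀ = i₂' := by
    apply (AlgSp.yon S).map_injective
    rw [Functor.map_comp, hs, psq.lift_snd]
  have hsl : s.left ≫ w₀.left = y := by
    rw [← Over.comp_left, hsw]; rfl
  refine ⟨s.left, hsl, ?_⟩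
  rw [← cancel_mono w₀.left, Category.assoc, hsl, hy, Category.assoc]

end Groth.Agent.Lib.Helper9.SepDvrRef
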