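import Groth.Agent.Lib.Helper9ShfQuot

set_option autoImplicit false

namespace Groth.Agent.Lib.Helper9

open CategoryTheory Limits MonoidalCategory CartesianMonoidalCategory MonObj

section SubGrpGeneral

variable {E : Type*} [Category* E] [CartesianMonoidalCategory E] {G : E} [GrpObj G]

/-- A monomorphism into a group object whose points are closed under the group operations
carries a group structure making it a homomorphism. -/
lemma exists_grpObj_of_mono {A : E} (j : A ⟶ G) [Mono j]
    (h1 : ∃ o : 𝟙_ E ⟶ A, o ≫ j = η)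
    (hmul : ∃ m : A ⊗ A ⟶ A, m ≫ j = (fst A A ≫ j) * (snd A A ≫ j))
    (hinv : ∃ i : A ⟶ A, i ≫ j = j⁻¹) :
    ∃ str : GrpObj A, @IsMonHom E _ _ A G str.toMonObj GrpObj.toMonObj j := by
  obtain ⟨o, ho⟩ := h1
  obtain ⟨m, hm⟩ := hmul
  obtain ⟨i, hi⟩ := hinv
  have K : ∀ {W : E} (a b : W ⟶ A), lift a b ≫ m ≫ j = (a ≫ j) * (b ≫ j) := by
    intro W a b
    rw [hm, comp_mul, lift_fst_assoc, lift_snd_assoc]
  have hone : ∀ (W : E) (t : W ⟶ 𝟙_ E), t ≫ η = (1 : W ⟶ G) := by
    intro W t
    rw [Hom.one_def, toUnit_unique t (toUnit W)]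
  let monA : MonObj A :=
    { one := o
      mul := m
      one_mul := by
        rw [← cancel_mono j, Category.assoc, hm, comp_mul, whiskerRight_fst_assoc,
          whiskerRight_snd_assoc, ho, hone, _root_.one_mul, leftUnitor_hom]
      mul_one := by
        rw [← cancel_mono j, Category.assoc, hm, comp_mul, whiskerLeft_fst_assoc,
          whiskerLeft_snd_assoc, ho, hone, _root_.mul_one, rightUnitor_hom]
      mul_assoc := by
        rw [← cancel_mono j]
        simp only [Category.assoc, hm, comp_mul, whiskerRight_fst_assoc, whiskerRight_snd_assoc,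
          whiskerLeft_fst_assoc, whiskerLeft_snd_assoc, associator_hom_fst_assoc,
          associator_hom_snd_fst_assoc, associator_hom_snd_snd_assoc, _root_.mul_assoc] }
  have hmon : @IsMonHom E _ _ A G monA GrpObj.toMonObj j :=
    { one_hom := ho
      mul_hom := by
        change m ≫ j = (j ⊗ₘ j) ≫ μ
        rw [hm, Hom.mul_def]
        congr 1
        apply CartesianMonoidalCategory.hom_ext <;> simp }
  let grpA : GrpObj A :=
    { monA with
      inv := i
      left_inv := by
        change lift i (𝟙 _) ≫ m = toUnit _ ≫ o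
        rw [← cancel_mono j, Category.assoc, K, hi, Category.id_comp, inv_mul_cancel,
          Category.assoc, ho, Hom.one_def]
      right_inv := by
        change lift (𝟙 _) i ≫ m = toUnit _ ≫ o
        rw [← cancel_mono j, Category.assoc, K, hi, Category.id_comp, mul_inv_cancel,
          Category.assoc, ho, Hom.one_def] }
  exact ⟨grpA, hmon⟩

/-- Pointwise subgroup predicate on a subobject of a group object. -/
structure IsSubgroupObj (K : Subobject G) : Prop where
  one_mem : ∀ W : E, K.Factors (1 : W ⟶ G)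
  mul_mem : ∀ (W : E) (x y : W ⟶ G), K.Factors x → K.Factors y → K.Factors (x * y)
  inv_mem : ∀ (W : E) (x : W ⟶ G), K.Factors x → K.Factors x⁻¹

lemma factors_iff_exists {X W : E} (K : Subobject X) (x : W ⟶ X) :
    K.Factors x ↔ ∃ a : W ⟶ (K : E), a ≫ K.arrow = x :=
  ⟨fun h => ⟨K.factorThru x h, K.factorThru_arrow x h⟩, by
    rintro ⟨a, rfl⟩
    exact K.factors_comp_arrow a⟩

lemma isSubgroupObj_of_grpObj (K : Subobject G) (str : GrpObj (K : E))
    (h : @IsMonHom E _ _ _ _ str.toMonObj GrpObj.toMonObj K.arrow) : IsSubgroupObj K := by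
  letI := str
  haveI := h
  refine ⟨fun W => ?_, fun W x y hx hy => ?_, fun W x hx => ?_⟩
  · rw [← MonObj.one_comp (f := K.arrow) (X := W)]
    exact K.factors_comp_arrow _
  · obtain ⟨a, rfl⟩ := (factors_iff_exists K x).1 hx
    obtain ⟨b, rfl⟩ := (factors_iff_exists K y).1 hy
    rw [← MonObj.mul_comp]
    exact K.factors_comp_arrow _
  · obtain ⟨a, rfl⟩ := (factors_iff_exists K x).1 hx
    rw [← GrpObj.inv_comp]
    exact K.factors_comp_arrow _

lemma exists_grpObj_of_isSubgroupObj (K : Subobject G) (hK : IsSubgroupObj K) :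
    ∃ str : GrpObj (K : E), @IsMonHom E _ _ _ _ str.toMonObj GrpObj.toMonObj K.arrow := by
  refine exists_grpObj_of_mono K.arrow ?_ ?_ ?_
  · have := hK.one_mem (𝟙_ E)
    rw [Hom.one_def, toUnit_unique (toUnit (𝟙_ E)) (𝟙 _), Category.id_comp] at this
    exact (factors_iff_exists K _).1 this
  · exact (factors_iff_exists K _).1 (hK.mul_mem _ _ _ (K.factors_comp_arrow _)
      (K.factors_comp_arrow _))
  · exact (factors_iff_exists K _).1 (hK.inv_mem _ _ K.factors_self)

lemma exists_grpObj_iff_isSubgroupObj (K : Subobject G) :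
    (∃ str : GrpObj (K : E), @IsMonHom E _ _ _ _ str.toMonObj GrpObj.toMonObj K.arrow) ↔
      IsSubgroupObj K :=
  ⟨fun ⟨str, h⟩ => isSubgroupObj_of_grpObj K str h, exists_grpObj_of_isSubgroupObj K⟩

end SubGrpGeneral

section SubobjMisc

variable {E : Type*} [Category* E]

lemma mk_le_iff_factors {X A : E} (m : A ⟶ X) [Mono m] (P : Subobject X) :
    Subobject.mk m ≤ P ↔ P.Factors m := by
  constructor
  · intro h
    rw [← Subobject.ofMkLE_arrow h]
    exact P.factors_comp_arrow _
  · intro h
    exact Subobject.mk_le_of_comm (P.factorThru m h) (P.factorThru_arrow m h)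

end SubobjMisc

section SubgroupCorrespondence

variable {E : Type*} [Category* E] [CartesianMonoidalCategory E] [ToposLike E]

lemma isSubgroupObj_pullback {G Q : E} [GrpObj G] [GrpObj Q] (f : G ⟶ Q) [IsMonHom f]
    (K' : Subobject Q) (hK' : IsSubgroupObj K') :
    IsSubgroupObj ((Subobject.pullback f).obj K') := by
  refine ⟨fun W => ?_, fun W x y hx hy => ?_, fun W x hx => ?_⟩
  · rw [factors_pullback_iff, MonObj.one_comp]
    exact hK'.one_mem W
  · rw [factors_pullback_iff] at hx hy ⊢
    rw [MonObj.mul_comp]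
    exact hK'.mul_mem W _ _ hx hy
  · rw [factors_pullback_iff] at hx ⊢
    rw [GrpObj.inv_comp]
    exact hK'.inv_mem W _ hx

/-- Normality of a subobject, pointwise. -/
def IsNormalSub {G : E} [GrpObj G] (K : Subobject G) : Prop :=
  ∀ (Y : E) (g : Y ⟶ G) (k : Y ⟶ (K : E)),
    ∃ k' : Y ⟶ (K : E), g * (k ≫ K.arrow) * g⁻¹ = k' ≫ K.arrow

lemma isNormalSub_iff {G : E} [GrpObj G] (K : Subobject G) :
    IsNormalSub K ↔ ∀ (Y : E) (g x : Y ⟶ G), K.Factors x → K.Factors (g * x * g⁻¹) := by
  constructor
  · intro h Y g x hx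
    obtain ⟨k, rfl⟩ := (factors_iff_exists K x).1 hx
    obtain ⟨k', hk'⟩ := h Y g k
    rw [hk']
    exact K.factors_comp_arrow _
  · intro h Y g k
    obtain ⟨k', hk'⟩ := (factors_iff_exists K _).1 (h Y g _ (K.factors_comp_arrow k))
    exact ⟨k', hk'.symm⟩

variable {G H : E} [GrpObj G] [GrpObj H] (u : H ⟶ G) [IsMonHom u] [Mono u]
  [hQ : GrpObj (coequalizer (fst G H) ((G ◁ u) ≫ μ))]
  [IsMonHom (coequalizer.π (fst G H) ((G ◁ u) ≫ μ))]

lemma isNormalSub_pullback_iff (K' : Subobject (coequalizer (fst G H) ((G ◁ u) ≫ μ))) :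
    IsNormalSub K' ↔
      IsNormalSub ((Subobject.pullback (coequalizer.π (fst G H) ((G ◁ u) ≫ μ))).obj K') := by
  rw [isNormalSub_iff, isNormalSub_iff]
  constructor
  · intro h Y g x hx
    rw [factors_pullback_iff] at hx ⊢
    rw [MonObj.mul_comp, MonObj.mul_comp, GrpObj.inv_comp]
    exact h Y _ _ hx
  · intro h Y b c hc
    obtain ⟨Y', e', he', g, x, hg, hx⟩ := ToposLike.exists_local_lift₂
      (coequalizer.π (fst G H) ((G ◁ u) ≫ μ)) inferInstance b c
    apply factors_of_epi_comp K' e' he'
    have h1 : K'.Factors (x ≫ coequalizer.π (fst G H) ((G ◁ u) ≫ μ)) := by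
      rw [← hx]
      exact Subobject.factors_of_factors_right _ hc
    have h2 := h Y' g x ((factors_pullback_iff _ _ _).2 h1)
    rw [factors_pullback_iff, MonObj.mul_comp, MonObj.mul_comp, GrpObj.inv_comp, ← hg, ← hx] at h2
    rw [MonObj.comp_mul, MonObj.comp_mul, GrpObj.comp_inv]
    exact h2

lemma u_comp_π_eq_one : u ≫ coequalizer.π (fst G H) ((G ◁ u) ≫ μ) = 1 := by
  rw [← MonObj.one_comp (f := coequalizer.π (fst G H) ((G ◁ u) ≫ μ)) (X := H)]
  symm
  apply (quot_π_eq_iff u _ _).2
  exact ⟨𝟙 H, by rw [Category.id_comp, _root_.one_mul]⟩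

/-- Correspondence between subgroups of `G/H` and subgroups of `G` containing `H`, in pointwise
form. -/
theorem subgroup_correspondence :
    Set.BijOn (Subobject.pullback (coequalizer.π (fst G H) ((G ◁ u) ≫ μ))).obj
      {K' | IsSubgroupObj K'} {K | Subobject.mk u ≤ K ∧ IsSubgroupObj K} := by
  refine ⟨?_, ?_, ?_⟩
  · intro K' hK'
    refine ⟨?_, isSubgroupObj_pullback _ K' hK'⟩
    rw [mk_le_iff_factors, factors_pullback_iff, u_comp_π_eq_one]
    exact hK'.one_mem H
  · exact Set.injOn_of_injective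
      (subobject_pullback_quotient' (quot_isKernelPair u) inferInstance).1
  · rintro K ⟨hu, hK⟩
    rw [mk_le_iff_factors] at hu
    have hstab : (Subobject.pullback (fst G H)).obj K =
        (Subobject.pullback ((G ◁ u) ≫ μ)).obj K := by
      apply subobject_ext_factors
      intro W r
      rw [factors_pullback_iff, factors_pullback_iff, comp_actR]
      have h1 : K.Factors (r ≫ snd G H ≫ u) :=
        Subobject.factors_of_factors_right _ (Subobject.factors_of_factors_right _ hu)
      constructor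
      · intro h
        exact hK.mul_mem W _ _ h h1
      · intro h
        have := hK.mul_mem W _ _ h (hK.inv_mem W _ h1)
        rwa [mul_inv_cancel_right] at this
    have hrange := (subobject_pullback_quotient' (quot_isKernelPair u) inferInstance).2
    have hmem : K ∈ Set.range
        (Subobject.pullback (coequalizer.π (fst G H) ((G ◁ u) ≫ μ))).obj := by
      rw [hrange]
      exact hstab
    obtain ⟨K', rfl⟩ := hmem
    refine ⟨K', ?_, rfl⟩
    have key : ∀ {W : E} (x : W ⟶ G),
        K'.Factors (x ≫ coequalizer.π (fst G H) ((G ◁ u) ≫ μ)) ↔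
          ((Subobject.pullback (coequalizer.π (fst G H) ((G ◁ u) ≫ μ))).obj K').Factors x :=
      fun x => (factors_pullback_iff _ _ _).symm
    refine ⟨fun W => ?_, fun W b c hb hc => ?_, fun W b hb => ?_⟩
    · rw [← MonObj.one_comp (f := coequalizer.π (fst G H) ((G ◁ u) ≫ μ)) (X := W), key]
      exact hK.one_mem W
    · obtain ⟨W', e', he', x, y, hx, hy⟩ := ToposLike.exists_local_lift₂
        (coequalizer.π (fst G H) ((G ◁ u) ≫ μ)) inferInstance b c
      apply factors_of_epi_comp K' e' he'
      rw [MonObj.comp_mul, hx, hy, ← MonObj.mul_comp, key]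
      apply hK.mul_mem
      · rw [← key, ← hx]
        exact Subobject.factors_of_factors_right _ hb
      · rw [← key, ← hy]
        exact Subobject.factors_of_factors_right _ hc
    · obtain ⟨W', e', he', x, hx⟩ := ToposLike.exists_local_lift'
        (coequalizer.π (fst G H) ((G ◁ u) ≫ μ)) inferInstance b
      apply factors_of_epi_comp K' e' he'
      rw [GrpObj.comp_inv, hx, ← GrpObj.inv_comp, key]
      apply hK.inv_mem
      rw [← key, ← hx]
      exact Subobject.factors_of_factors_right _ hb

/-- Correspondence between subgroups of `G/H` and subgroups of `G` containing `H`, together with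
the correspondence of normality. -/
theorem subgroup_correspondence_full :
    Set.BijOn (Subobject.pullback (coequalizer.π (fst G H) ((G ◁ u) ≫ μ))).obj
      {K' : Subobject (coequalizer (fst G H) ((G ◁ u) ≫ μ)) |
        ∃ str : GrpObj (K' : E),
          @IsMonHom E _ _ _ _ str.toMonObj hQ.toMonObj K'.arrow}
      {K : Subobject G | Subobject.mk u ≤ K ∧
        ∃ str : GrpObj (K : E),
          @IsMonHom E _ _ _ _ str.toMonObj GrpObj.toMonObj K.arrow} ∧
    ∀ (K' : Subobject (coequalizer (fst G H) ((G ◁ u) ≫ μ))),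
      ((∀ (Y : E) (g : Y ⟶ coequalizer (fst G H) ((G ◁ u) ≫ μ))
          (k : Y ⟶ (K' : E)),
          ∃ k' : Y ⟶ (K' : E), g * (k ≫ K'.arrow) * g⁻¹ = k' ≫ K'.arrow) ↔
        (∀ (Y : E) (g : Y ⟶ G)
          (k : Y ⟶ ((Subobject.pullback (coequalizer.π (fst G H) ((G ◁ u) ≫ μ))).obj K' : E)),
          ∃ k' : Y ⟶ ((Subobject.pullback (coequalizer.π (fst G H) ((G ◁ u) ≫ μ))).obj K' : E),
            g * (k ≫ ((Subobject.pullback
              (coequalizer.π (fst G H) ((G ◁ u) ≫ μ))).obj K').arrow) * g⁻¹ =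
              k' ≫ ((Subobject.pullback
                (coequalizer.π (fst G H) ((G ◁ u) ≫ μ))).obj K').arrow)) := by
  refine ⟨?_, fun K' => isNormalSub_pullback_iff u K'⟩
  have h1 : {K' : Subobject (coequalizer (fst G H) ((G ◁ u) ≫ μ)) |
        ∃ str : GrpObj (K' : E),
          @IsMonHom E _ _ _ _ str.toMonObj hQ.toMonObj K'.arrow} = {K' | IsSubgroupObj K'} :=
    Set.ext fun K' => exists_grpObj_iff_isSubgroupObj K'
  have h2 : {K : Subobject G | Subobject.mk u ≤ K ∧
        ∃ str : GrpObj (K : E),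
          @IsMonHom E _ _ _ _ str.toMonObj GrpObj.toMonObj K.arrow} =
      {K | Subobject.mk u ≤ K ∧ IsSubgroupObj K} :=
    Set.ext fun K => and_congr Iff.rfl (exists_grpObj_iff_isSubgroupObj K)
  rw [h1, h2]
  exact subgroup_correspondence u

end SubgroupCorrespondence

end Groth.Agent.Lib.Helper9
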