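import Mathlib

/-!
# A finite disjoint union of schemes finite over a base is finite over it (helper9)
-/

set_option autoImplicit false
universe u
open CategoryTheory CategoryTheory.Limits AlgebraicGeometry

namespace Groth.Agent.Lib.Helper9.SigmaFinite

/-- the existence part of the valuative criterion for a disjoint union. -/
lemma existence_sigmaDesc {ι : Type u} {Z : Scheme.{u}} (W : ι → Scheme.{u})
    (t : ∀ i, W i ⟶ Z) (ht : ∀ i, ValuativeCriterion.Existence (t i)) :
    ValuativeCriterion.Existence (Sigma.desc t) := by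
  intro Sq
  -- the unique point of `Spec K` lands in some member
  obtain ⟨i, y, hy⟩ := (sigmaOpenCover W).exists_eq
    (Sq.i₁ (IsLocalRing.closedPoint Sq.K))
  have hrange : Set.range Sq.i₁ ⊆ Set.range (Sigma.ι W i) := by
    rintro _ ⟨x, rfl⟩
    have hx : x = IsLocalRing.closedPoint Sq.K := Subsingleton.elim _ _
    rw [hx]
    exact ⟨y, hy⟩
  obtain ⟨l₁, hl₁⟩ : ∃ l₁ : Spec (.of Sq.K) ⟶ W i, l₁ ≫ Sigma.ι W i = Sq.i₁ :=
    ⟨IsOpenImmersion.lift (Sigma.ι W i) Sq.i₁ hrange, IsOpenImmersion.lift_fac _ _ _⟩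
  have hc : CommSq l₁ (Spec.map (CommRingCat.ofHom (algebraMap Sq.R Sq.K))) (t i) Sq.i₂ := by
    constructor
    rw [← Sq.commSq.w, ← hl₁, Category.assoc, Sigma.ι_desc]
  let S' : ValuativeCommSq (t i) := ⟨Sq.R, Sq.K, l₁, Sq.i₂, hc⟩
  obtain ⟨⟨l, h1, h2⟩⟩ := ht i S'
  refine ⟨⟨l ≫ Sigma.ι W i, ?_, ?_⟩⟩
  · rw [← Category.assoc]
    have : Spec.map (CommRingCat.ofHom (algebraMap Sq.R Sq.K)) ≫ l = l₁ := h1
    rw [this, hl₁]
  · rw [Category.assoc, Sigma.ι_desc]
    exact h2

/-- a finite disjoint union of affine schemes finite over an affine scheme is finite over it. -/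
theorem isFinite_sigmaDesc {ι : Type u} [Finite ι] {Z : Scheme.{u}} [IsAffine Z]
    (W : ι → Scheme.{u}) [∀ i, IsAffine (W i)] (t : ∀ i, W i ⟶ Z) (ht : ∀ i, IsFinite (t i)) :
    IsFinite (Sigma.desc t) := by
  haveI : IsAffine (∐ W) := inferInstance
  haveI : IsAffineHom (Sigma.desc t) := isAffineHom_of_isAffine _
  haveI : LocallyOfFiniteType (Sigma.desc t) :=
    IsZariskiLocalAtSource.sigmaDesc (P := @LocallyOfFiniteType) (fun i => inferInstance)
  haveI : UniversallyClosed (Sigma.desc t) := by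
    apply UniversallyClosed.of_valuativeCriterion
    apply existence_sigmaDesc
    intro i
    have h := (UniversallyClosed.eq_valuativeCriterion ▸
      (inferInstance : UniversallyClosed (t i)) : (ValuativeCriterion.Existence ⊓ @QuasiCompact) (t i))
    exact h.1
  rw [IsFinite.iff_isProper_and_isAffineHom]
  exact ⟨{}, inferInstance⟩

end Groth.Agent.Lib.Helper9.SigmaFinite
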