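import Mathlib.CategoryTheory.Sites.PrecoverageToGrothendieck
import Mathlib.CategoryTheory.Sites.Precoverage
import Mathlib.CategoryTheory.Sites.Coverage

set_option autoImplicit false

namespace Groth.Agent.Lib.Helper9

open CategoryTheory Limits

universe w v₁ u₁

section Bind

variable {C : Type u₁} [Category.{v₁} C]

/-- A precoverage stable under composition is stable under `Presieve.bind`. -/
lemma bind_mem (P : Precoverage C) [P.IsStableUnderComposition] {X : C} {R : Presieve X}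
    (hR : R ∈ P X) (Q : ∀ ⦃Y : C⦄ ⦃f : Y ⟶ X⦄, R f → Presieve Y)
    (hQ : ∀ ⦃Y : C⦄ ⦃f : Y ⟶ X⦄ (hf : R f), Q hf ∈ P Y) :
    Presieve.bind R Q ∈ P X := by
  let ι := { x : Σ Z, (Z ⟶ X) // R x.2 }
  let Xi : ι → C := fun i => i.1.1
  let fi : ∀ i : ι, Xi i ⟶ X := fun i => i.1.2
  let σ : ι → Type (max u₁ v₁) := fun i => { y : Σ W, (W ⟶ Xi i) // Q i.2 y.2 }
  let Yi : ∀ i : ι, σ i → C := fun i j => j.1.1
  let gi : ∀ (i : ι) (j : σ i), Yi i j ⟶ Xi i := fun i j => j.1.2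
  have e1 : Presieve.ofArrows Xi fi = R :=
    le_antisymm (fun Z g ⟨x⟩ => x.2) (fun Z g hg => .mk (⟨⟨_, _⟩, hg⟩ : ι))
  have e2 : ∀ i : ι, Presieve.ofArrows (Yi i) (gi i) = Q i.2 := fun i =>
    le_antisymm (fun Z g ⟨x⟩ => x.2) (fun Z g hg => .mk (⟨⟨_, _⟩, hg⟩ : σ i))
  have h1 : Presieve.ofArrows Xi fi ∈ P X := e1 ▸ hR
  have h2 : ∀ i : ι, Presieve.ofArrows (Yi i) (gi i) ∈ P (Xi i) := fun i => (e2 i) ▸ hQ i.2
  have h3 := Precoverage.comp_mem_coverings (J := P) fi h1 gi h2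
  have e3 : Presieve.ofArrows (fun p : Σ i, σ i => Yi _ p.2) (fun p => gi _ p.2 ≫ fi _) =
      Presieve.bind R Q := by
    refine le_antisymm ?_ ?_
    · rintro _ _ ⟨⟨i, j⟩⟩
      exact ⟨_, _, _, i.2, j.2, rfl⟩
    · rintro Z h ⟨Y, g, f, hf, hg, rfl⟩
      exact .mk (⟨⟨⟨Y, f⟩, hf⟩, ⟨⟨Z, g⟩, hg⟩⟩ : Σ i, σ i)
  exact e3 ▸ h3

end Bind

section CompCov

variable {C : Type u₁} [Category.{v₁} C] (C' : C → Prop) (P P' : Precoverage C)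

/-- A sieve contains a composite family `P' ∘ P` with middle objects in `C'`. -/
def CompCov (X : C) (S' : Sieve X) : Prop :=
  ∃ R ∈ P X, ∀ ⦃Y : C⦄ ⦃f : Y ⟶ X⦄, R f →
    C' Y ∧ ∃ R' ∈ P' Y, ∀ ⦃Z : C⦄ ⦃g : Z ⟶ Y⦄, R' g → S' (g ≫ f)

variable {C' P P'}

lemma CompCov.mono {X : C} {S T : Sieve X} (h : S ≤ T) (hS : CompCov C' P P' X S) :
    CompCov C' P P' X T := by
  obtain ⟨R, hR, H⟩ := hS
  refine ⟨R, hR, fun Y f hf => ?_⟩
  obtain ⟨hY, R', hR', H'⟩ := H hf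
  exact ⟨hY, R', hR', fun Z g hg => h _ (H' hg)⟩

lemma compCov_iff {X : C} {S' : Sieve X} :
    CompCov C' P P' X S' ↔
      ∃ (R : Presieve X) (_ : R ∈ P X) (_ : ∀ ⦃Y : C⦄ ⦃f : Y ⟶ X⦄, R f → C' Y)
        (R' : ∀ ⦃Y : C⦄ ⦃f : Y ⟶ X⦄, R f → Presieve Y),
        (∀ ⦃Y : C⦄ ⦃f : Y ⟶ X⦄ (hf : R f), R' hf ∈ P' Y) ∧
        ∀ ⦃Y : C⦄ ⦃f : Y ⟶ X⦄ (hf : R f) ⦃Z : C⦄ ⦃g : Z ⟶ Y⦄, R' hf g → S' (g ≫ f) := by
  constructor
  · rintro ⟨R, hR, H⟩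
    choose hC R' hR' H' using H
    exact ⟨R, hR, hC, R', hR', H'⟩
  · rintro ⟨R, hR, hC, R', hR', H'⟩
    exact ⟨R, hR, fun Y f hf => ⟨hC hf, R' hf, hR' hf, fun Z g hg => H' hf hg⟩⟩

/-- Composite covers are covering for the generated topology. -/
lemma CompCov.mem_toGrothendieck {X : C} {S' : Sieve X} (h : CompCov C' P P' X S') :
    S' ∈ (P ⊔ P').toGrothendieck X := by
  obtain ⟨R, hR, H⟩ := h
  have h1 : Sieve.generate R ∈ (P ⊔ P').toGrothendieck X :=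
    Precoverage.generate_mem_toGrothendieck (Or.inl hR)
  refine (P ⊔ P').toGrothendieck.transitive h1 S' ?_
  rintro Y f' ⟨Y', t, f, hf, rfl⟩
  rw [Sieve.pullback_comp]
  apply (P ⊔ P').toGrothendieck.pullback_stable
  obtain ⟨_, R', hR', H'⟩ := H hf
  have h2 : Sieve.generate R' ∈ (P ⊔ P').toGrothendieck Y' :=
    Precoverage.generate_mem_toGrothendieck (Or.inr hR')
  refine (P ⊔ P').toGrothendieck.superset_covering ?_ h2
  rw [Sieve.generate_le_iff]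
  intro Z g hg
  exact H' hg

variable [P.HasPullbacks] [P.IsStableUnderBaseChange] [P.IsStableUnderComposition]
  (hP'id : ∀ ⦃X : C⦄, C' X → Presieve.singleton (𝟙 X) ∈ P' X)
  (ha : ∀ ⦃X : C⦄ ⦃R : Presieve X⦄, R ∈ P' X → ∀ ⦃T : C⦄ (g : T ⟶ X), C' T →
    ∃ _ : R.HasPullbacks g, Presieve.pullbackArrows g R ∈ P' T)
  (hb : ∀ X : C, ∃ R ∈ P X, ∀ ⦃Y : C⦄ ⦃f : Y ⟶ X⦄, R f → C' Y)
  (hc : ∀ ⦃S : C⦄ ⦃R₁ : Presieve S⦄, R₁ ∈ P' S →
    ∀ (R₂ : ∀ ⦃Y : C⦄ ⦃f : Y ⟶ S⦄, R₁ f → Presieve Y),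
      (∀ ⦃Y : C⦄ ⦃f : Y ⟶ S⦄ (hf : R₁ f), R₂ hf ∈ P Y ∧ ∀ ⦃Z : C⦄ ⦃g : Z ⟶ Y⦄, R₂ hf g → C' Z) →
    ∀ (R₃ : ∀ ⦃Y : C⦄ ⦃f : Y ⟶ S⦄ (hf : R₁ f) ⦃Z : C⦄ ⦃g : Z ⟶ Y⦄, R₂ hf g → Presieve Z),
      (∀ ⦃Y : C⦄ ⦃f : Y ⟶ S⦄ (hf : R₁ f) ⦃Z : C⦄ ⦃g : Z ⟶ Y⦄ (hg : R₂ hf g), R₃ hf hg ∈ P' Z) →
    ∃ T ∈ P' S, ∀ ⦃W : C⦄ ⦃q : W ⟶ S⦄, T q →
      ∃ (Y Z V : C) (f : Y ⟶ S) (hf : R₁ f) (g : Z ⟶ Y) (hg : R₂ hf g) (h : V ⟶ Z) (_ : R₃ hf hg h)
        (r : W ⟶ V), r ≫ h ≫ g ≫ f = q)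

include hP'id hb in
omit [P.HasPullbacks] [P.IsStableUnderBaseChange] [P.IsStableUnderComposition] in
lemma compCov_top (X : C) : CompCov C' P P' X ⊤ := by
  obtain ⟨R, hR, hC⟩ := hb X
  exact ⟨R, hR, fun Y f hf => ⟨hC hf, _, hP'id (hC hf), fun Z g _ => trivial⟩⟩

include hP'id hb in
omit [P.HasPullbacks] [P.IsStableUnderBaseChange] in
lemma compCov_of_P {X : C} {R₀ : Presieve X} (hR₀ : R₀ ∈ P X) :
    CompCov C' P P' X (Sieve.generate R₀) := by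
  choose cov hcov hcovC using hb
  refine ⟨Presieve.bind R₀ (fun Y _ _ => cov Y), bind_mem P hR₀ _ (fun Y _ _ => hcov Y), ?_⟩
  rintro Z h ⟨Y, g, f, hf, hg, rfl⟩
  refine ⟨hcovC Y hg, _, hP'id (hcovC Y hg), ?_⟩
  rintro W k ⟨⟩
  rw [Category.id_comp]
  exact Sieve.downward_closed _ (Sieve.le_generate R₀ _ _ hf) g

include ha hb in
omit [P.HasPullbacks] [P.IsStableUnderBaseChange] [P.IsStableUnderComposition] in
lemma compCov_of_P' {X : C} {R₀ : Presieve X} (hR₀ : R₀ ∈ P' X) :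
    CompCov C' P P' X (Sieve.generate R₀) := by
  obtain ⟨R, hR, hC⟩ := hb X
  refine ⟨R, hR, fun Y f hf => ?_⟩
  obtain ⟨hpb, hmem⟩ := ha hR₀ f (hC hf)
  refine ⟨hC hf, _, hmem, ?_⟩
  rintro Z g ⟨W, h, hh⟩
  have := R₀.hasPullback f hh
  rw [← pullback.condition]
  exact Sieve.downward_closed _ (Sieve.le_generate R₀ _ _ hh) _

include ha hb in
lemma compCov_pullback {X : C} {S : Sieve X} (hS : CompCov C' P P' X S) {Y : C} (f : Y ⟶ X) :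
    CompCov C' P P' Y (S.pullback f) := by
  obtain ⟨R, hR, H⟩ := hS
  choose cov hcov hcovC using hb
  have hpb : R.HasPullbacks f := Precoverage.hasPullbacks_of_mem f hR
  have h1 : R.pullbackArrows f ∈ P Y := Precoverage.pullbackArrows_mem f hR
  refine ⟨Presieve.bind (R.pullbackArrows f) (fun M _ _ => cov M),
    bind_mem P h1 _ (fun M _ _ => hcov M), ?_⟩
  rintro T q ⟨M, t, m, hm, ht, rfl⟩
  obtain ⟨Xi, r, hr⟩ := hm
  have := R.hasPullback f hr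
  have hT : C' T := hcovC _ ht
  obtain ⟨hXi, R', hR', H'⟩ := H hr
  obtain ⟨hpb', hmem⟩ := ha hR' (t ≫ pullback.fst r f) hT
  refine ⟨hT, _, hmem, ?_⟩
  rintro Z g' ⟨W, g, hg⟩
  have := R'.hasPullback (t ≫ pullback.fst r f) hg
  change S ((pullback.snd g (t ≫ pullback.fst r f) ≫ t ≫ pullback.snd r f) ≫ f)
  have e : (pullback.snd g (t ≫ pullback.fst r f) ≫ t ≫ pullback.snd r f) ≫ f =
      pullback.fst g (t ≫ pullback.fst r f) ≫ g ≫ r := by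
    rw [Category.assoc, Category.assoc, ← pullback.condition, ← Category.assoc t,
      ← pullback.condition_assoc]
  rw [e]
  exact Sieve.downward_closed _ (H' hg) _

include hc in
omit [P.HasPullbacks] [P.IsStableUnderBaseChange] [P.IsStableUnderComposition] in
lemma compCov_transitive {X : C} {S R_ : Sieve X} (hS : CompCov C' P P' X S)
    (H : ∀ ⦃Y : C⦄ ⦃f : Y ⟶ X⦄, S f → CompCov C' P P' Y (R_.pullback f)) :
    CompCov C' P P' X R_ := by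
  obtain ⟨R, hR, HS⟩ := hS
  refine ⟨R, hR, fun Xi r hr => ?_⟩
  obtain ⟨hXi, R', hR', H'⟩ := HS hr
  have H2 : ∀ ⦃Y : C⦄ ⦃g : Y ⟶ Xi⦄, R' g → CompCov C' P P' Y (R_.pullback (g ≫ r)) :=
    fun Y g hg => H (H' hg)
  unfold CompCov at H2
  choose R₂ hR₂ H3 using H2
  choose hC₃ R₃ hR₃ H4 using H3
  obtain ⟨T, hT, HT⟩ := hc hR' R₂ (fun Y f hf => ⟨hR₂ hf, fun Z g hg => hC₃ hf hg⟩) R₃
    (fun Y f hf Z g hg => hR₃ hf hg)
  refine ⟨hXi, T, hT, ?_⟩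
  intro W q hq
  obtain ⟨Y, Z, V, f, hf, g, hg, h, hh, r', rfl⟩ := HT hq
  have := H4 hf hg hh
  change R_ ((h ≫ g) ≫ f ≫ r) at this
  have e : (r' ≫ h ≫ g ≫ f) ≫ r = r' ≫ (h ≫ g) ≫ f ≫ r := by simp only [Category.assoc]
  rw [e]
  exact Sieve.downward_closed _ this r'

include hP'id ha hb hc in
/-- Covering sieves of the topology generated by `P` and `P'` contain composite covers. -/
theorem compCov_of_mem_toGrothendieck {X : C} {S' : Sieve X}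
    (h : S' ∈ (P ⊔ P').toGrothendieck X) : CompCov C' P P' X S' := by
  rw [Precoverage.mem_toGrothendieck_iff] at h
  induction h with
  | of X S hS =>
    rcases hS with hS | hS
    · exact compCov_of_P hP'id hb hS
    · exact compCov_of_P' ha hb hS
  | top X => exact compCov_top hP'id hb X
  | pullback X S _ Y f ih => exact compCov_pullback ha hb ih f
  | transitive X S R _ _ ih1 ih2 => exact compCov_transitive hc ih1 ih2

end CompCov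

end Groth.Agent.Lib.Helper9
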