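import Groth.Agent.Lib.Helper9Site
import Mathlib.CategoryTheory.Sites.IsSheafFor
import Mathlib.CategoryTheory.Sites.SheafOfTypes

set_option autoImplicit false

namespace Groth.Agent.Lib.Helper9

open CategoryTheory Limits Opposite

universe w v₁ u₁

section CompSheaf

variable {C : Type u₁} [Category.{v₁} C] {C' : C → Prop} {P P' : Precoverage C}

lemma isSeparatedFor_of_le (F : Cᵒᵖ ⥤ Type w) {X : C} {B T : Presieve X} (h : B ≤ T)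
    (hB : Presieve.IsSeparatedFor F B) : Presieve.IsSeparatedFor F T := by
  intro x t₁ t₂ h₁ h₂
  refine hB.ext fun Y f hf => ?_
  rw [h₁ f (h _ _ hf), h₂ f (h _ _ hf)]

variable
  (hP'C : ∀ ⦃X : C⦄ ⦃R : Presieve X⦄, R ∈ P' X → C' X ∧ ∀ ⦃Y : C⦄ ⦃f : Y ⟶ X⦄, R f → C' Y)
  (ha : ∀ ⦃X : C⦄ ⦃R : Presieve X⦄, R ∈ P' X → ∀ ⦃T : C⦄ (g : T ⟶ X), C' T →
    ∃ _ : R.HasPullbacks g, Presieve.pullbackArrows g R ∈ P' T)
  (hb : ∀ X : C, ∃ R ∈ P X, ∀ ⦃Y : C⦄ ⦃f : Y ⟶ X⦄, R f → C' Y)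
  (F : Cᵒᵖ ⥤ Type w)
  (hFP : ∀ ⦃X : C⦄ ⦃R : Presieve X⦄, R ∈ P X → Presieve.IsSheafFor F R)
  (hFP' : ∀ ⦃X : C⦄ ⦃R : Presieve X⦄, R ∈ P' X → Presieve.IsSheafFor F R)

include hP'C ha hb hFP hFP' in
/-- A presheaf which is a sheaf for `P`-families and `P'`-families is a sheaf for composite
families. -/
lemma isSheafFor_bind_comp {X : C} {R : Presieve X} (hR : R ∈ P X)
    (R' : ∀ ⦃Y : C⦄ ⦃f : Y ⟶ X⦄, R f → Presieve Y)
    (hR' : ∀ ⦃Y : C⦄ ⦃f : Y ⟶ X⦄ (hf : R f), R' hf ∈ P' Y) :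
    Presieve.IsSheafFor F (Presieve.bind R R') := by
  rw [← Presieve.isSeparatedFor_and_exists_isAmalgamation_iff_isSheafFor]
  constructor
  · intro x t₁ t₂ h₁ h₂
    refine (hFP hR).isSeparatedFor.ext fun Y f hf => ?_
    refine (hFP' (hR' hf)).isSeparatedFor.ext fun Z g hg => ?_
    have e₁ := h₁ (g ≫ f) (Presieve.bind_comp f hf hg)
    have e₂ := h₂ (g ≫ f) (Presieve.bind_comp f hf hg)
    rw [op_comp, Functor.map_comp_apply] at e₁ e₂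
    rw [e₁, e₂]
  · intro x hx
    have hy : ∀ ⦃Y : C⦄ ⦃f : Y ⟶ X⦄ (hf : R f), Presieve.FamilyOfElements.Compatible
        (fun Z g hg => x (g ≫ f) (Presieve.bind_comp f hf hg) :
          Presieve.FamilyOfElements F (R' hf)) := by
      intro Y f hf Z₁ Z₂ W a₁ a₂ g₁ g₂ hg₁ hg₂ e
      exact hx a₁ a₂ _ _ (by rw [reassoc_of% e])
    let s : Presieve.FamilyOfElements F R := fun Y f hf =>
      (hFP' (hR' hf)).amalgamate _ (hy hf)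
    have hs : ∀ ⦃Y : C⦄ ⦃f : Y ⟶ X⦄ (hf : R f) ⦃Z : C⦄ ⦃g : Z ⟶ Y⦄ (hg : R' hf g),
        F.map g.op (s f hf) = x (g ≫ f) (Presieve.bind_comp f hf hg) :=
      fun Y f hf Z g hg => (hFP' (hR' hf)).valid_glue (hy hf) g hg
    have hsc : s.Compatible := by
      intro Y₁ Y₂ W b₁ b₂ f₁ f₂ hf₁ hf₂ e
      obtain ⟨RW, hRW, hCW⟩ := hb W
      refine (hFP hRW).isSeparatedFor.ext fun W' w hw => ?_
      have hW' : C' W' := hCW hw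
      obtain ⟨hpb₁, hmem₁⟩ := ha (hR' hf₁) (w ≫ b₁) hW'
      refine (hFP' hmem₁).isSeparatedFor.ext ?_
      rintro W₁ _ ⟨Z₁, g₁, hg₁⟩
      have := (R' hf₁).hasPullback (w ≫ b₁) hg₁
      have hW₁ : C' (pullback g₁ (w ≫ b₁)) :=
        (hP'C hmem₁).2 (Presieve.pullbackArrows.mk _ _ hg₁)
      obtain ⟨hpb₂, hmem₂⟩ := ha (hR' hf₂) (pullback.snd g₁ (w ≫ b₁) ≫ w ≫ b₂) hW₁
      refine (hFP' hmem₂).isSeparatedFor.ext ?_
      rintro W₂ _ ⟨Z₂, g₂, hg₂⟩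
      have := (R' hf₂).hasPullback (pullback.snd g₁ (w ≫ b₁) ≫ w ≫ b₂) hg₂
      simp only [← Functor.map_comp_apply, ← op_comp]
      have c₁ : pullback.snd g₂ (pullback.snd g₁ (w ≫ b₁) ≫ w ≫ b₂) ≫
          pullback.snd g₁ (w ≫ b₁) ≫ w ≫ b₁ =
          (pullback.snd g₂ (pullback.snd g₁ (w ≫ b₁) ≫ w ≫ b₂) ≫
            pullback.fst g₁ (w ≫ b₁)) ≫ g₁ := by
        rw [Category.assoc, pullback.condition]
      have c₂ : pullback.snd g₂ (pullback.snd g₁ (w ≫ b₁) ≫ w ≫ b₂) ≫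
          pullback.snd g₁ (w ≫ b₁) ≫ w ≫ b₂ =
          pullback.fst g₂ (pullback.snd g₁ (w ≫ b₁) ≫ w ≫ b₂) ≫ g₂ :=
        pullback.condition.symm
      have L : F.map (pullback.snd g₂ (pullback.snd g₁ (w ≫ b₁) ≫ w ≫ b₂) ≫
          pullback.snd g₁ (w ≫ b₁) ≫ w ≫ b₁).op (s f₁ hf₁) =
          F.map (pullback.snd g₂ (pullback.snd g₁ (w ≫ b₁) ≫ w ≫ b₂) ≫
            pullback.fst g₁ (w ≫ b₁)).op
            (x (g₁ ≫ f₁) (Presieve.bind_comp f₁ hf₁ hg₁)) := by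
        rw [c₁, op_comp, Functor.map_comp_apply, hs hf₁ hg₁]
      have Rr : F.map (pullback.snd g₂ (pullback.snd g₁ (w ≫ b₁) ≫ w ≫ b₂) ≫
          pullback.snd g₁ (w ≫ b₁) ≫ w ≫ b₂).op (s f₂ hf₂) =
          F.map (pullback.fst g₂ (pullback.snd g₁ (w ≫ b₁) ≫ w ≫ b₂)).op
            (x (g₂ ≫ f₂) (Presieve.bind_comp f₂ hf₂ hg₂)) := by
        rw [c₂, op_comp, Functor.map_comp_apply, hs hf₂ hg₂]
      rw [L, Rr]
      refine hx _ _ _ _ ?_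
      rw [← Category.assoc _ g₁, ← c₁, ← Category.assoc _ g₂, ← c₂]
      simp only [Category.assoc, e]
    refine ⟨(hFP hR).amalgamate s hsc, ?_⟩
    rintro Z h ⟨Y, g, f, hf, hg, rfl⟩
    rw [op_comp, Functor.map_comp_apply, (hFP hR).valid_glue hsc f hf, hs hf hg]

end CompSheaf

section MainSheaf

variable {C : Type u₁} [Category.{v₁} C] {C' : C → Prop} {P P' : Precoverage C}
  [P.HasPullbacks] [P.IsStableUnderBaseChange] [P.IsStableUnderComposition]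

/-- Sheaf criterion for the topology generated by `P` and `P'`. -/
theorem isSheaf_toGrothendieck_sup_iff
    (hP'C : ∀ ⦃X : C⦄ ⦃R : Presieve X⦄, R ∈ P' X → C' X ∧ ∀ ⦃Y : C⦄ ⦃f : Y ⟶ X⦄, R f → C' Y)
    (hP'id : ∀ ⦃X : C⦄, C' X → Presieve.singleton (𝟙 X) ∈ P' X)
    (ha : ∀ ⦃X : C⦄ ⦃R : Presieve X⦄, R ∈ P' X → ∀ ⦃T : C⦄ (g : T ⟶ X), C' T →
      ∃ _ : R.HasPullbacks g, Presieve.pullbackArrows g R ∈ P' T)
    (hb : ∀ X : C, ∃ R ∈ P X, ∀ ⦃Y : C⦄ ⦃f : Y ⟶ X⦄, R f → C' Y)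
    (hc : ∀ ⦃S : C⦄ ⦃R₁ : Presieve S⦄, R₁ ∈ P' S →
      ∀ (R₂ : ∀ ⦃Y : C⦄ ⦃f : Y ⟶ S⦄, R₁ f → Presieve Y),
        (∀ ⦃Y : C⦄ ⦃f : Y ⟶ S⦄ (hf : R₁ f), R₂ hf ∈ P Y ∧ ∀ ⦃Z : C⦄ ⦃g : Z ⟶ Y⦄, R₂ hf g → C' Z) →
      ∀ (R₃ : ∀ ⦃Y : C⦄ ⦃f : Y ⟶ S⦄ (hf : R₁ f) ⦃Z : C⦄ ⦃g : Z ⟶ Y⦄, R₂ hf g → Presieve Z),
        (∀ ⦃Y : C⦄ ⦃f : Y ⟶ S⦄ (hf : R₁ f) ⦃Z : C⦄ ⦃g : Z ⟶ Y⦄ (hg : R₂ hf g), R₃ hf hg ∈ P' Z) →
      ∃ T ∈ P' S, ∀ ⦃W : C⦄ ⦃q : W ⟶ S⦄, T q →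
        ∃ (Y Z V : C) (f : Y ⟶ S) (hf : R₁ f) (g : Z ⟶ Y) (hg : R₂ hf g) (h : V ⟶ Z) (_ : R₃ hf hg h)
          (r : W ⟶ V), r ≫ h ≫ g ≫ f = q)
    (F : Cᵒᵖ ⥤ Type w) :
    Presieve.IsSheaf (P ⊔ P').toGrothendieck F ↔
      (∀ ⦃X : C⦄ ⦃R : Presieve X⦄, R ∈ P X → Presieve.IsSheafFor F R) ∧
      (∀ ⦃X : C⦄ ⦃R : Presieve X⦄, R ∈ P' X → Presieve.IsSheafFor F R) := by
  constructor
  · intro h
    constructor
    · intro X R hR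
      rw [Presieve.isSheafFor_iff_generate]
      exact h _ (Precoverage.generate_mem_toGrothendieck (Or.inl hR))
    · intro X R hR
      rw [Presieve.isSheafFor_iff_generate]
      exact h _ (Precoverage.generate_mem_toGrothendieck (Or.inr hR))
  · rintro ⟨hFP, hFP'⟩
    have key : ∀ {Y : C} {T : Sieve Y}, T ∈ (P ⊔ P').toGrothendieck Y →
        ∃ B : Presieve Y, B ≤ T.arrows ∧ Presieve.IsSheafFor F B ∧
          Sieve.generate B ∈ (P ⊔ P').toGrothendieck Y := by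
      intro Y T hT
      obtain ⟨R, hR, hC, R', hR', H'⟩ :=
        compCov_iff.1 (compCov_of_mem_toGrothendieck hP'id ha hb hc hT)
      refine ⟨Presieve.bind R R', ?_, isSheafFor_bind_comp hP'C ha hb F hFP hFP' hR R' hR', ?_⟩
      · rintro Z h ⟨Y', g, f, hf, hg, rfl⟩
        exact H' hf hg
      · apply CompCov.mem_toGrothendieck (C' := C')
        rw [compCov_iff]
        exact ⟨R, hR, hC, R', hR', fun Y' f hf Z g hg =>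
          Sieve.le_generate _ _ _ (Presieve.bind_comp f hf hg)⟩
    intro X S' hS'
    obtain ⟨B, hB, hFB, hBJ⟩ := key hS'
    refine Presieve.isSheafFor_subsieve_aux F (S := Sieve.generate B) ?_ ?_ ?_
    · exact (Sieve.generate_le_iff B S').2 hB
    · exact (Presieve.isSheafFor_iff_generate B).1 hFB
    · intro Y f hf
      obtain ⟨B₂, hB₂, hFB₂, _⟩ := key ((P ⊔ P').toGrothendieck.pullback_stable f hBJ)
      exact isSeparatedFor_of_le F hB₂ hFB₂.isSeparatedFor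

end MainSheaf

end Groth.Agent.Lib.Helper9
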