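import Mathlib
import Groth.Agent.Lib.Helper9SpDimFormula
import Groth.Agent.Lib.Helper3SmDim

/-!
# Dimension formula for smooth morphisms of locally Noetherian schemes and algebraic spaces (helper9)
-/

set_option autoImplicit false
set_option linter.style.haveILetI false
set_option backward.isDefEq.respectTransparency false
open CategoryTheory CategoryTheory.Limits AlgebraicGeometry Opposite
universe u

namespace Groth.Agent.Lib.Helper9.SmDimFormula

open AlgSp Groth.Agent.Lib.Helper9.SpPoint Groth.Agent.Lib.Helper9.ChartIndep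
  Groth.Agent.Lib.Helper9.ChartIndepAt Groth.Agent.Lib.Helper9.SpDimFormula

/-- `dim_x X = dim_{f x} Y + dim_x X_{f x}` for a smooth morphism of locally Noetherian schemes -/
theorem localDim_eq_add_of_smooth {X Y : Scheme.{u}} [IsLocallyNoetherian X]
    [IsLocallyNoetherian Y] (f : X ⟶ Y) [Smooth f] (x : X) :
    FlatMor.localDim X x = FlatMor.localDim Y (f x) + FlatMor.fibreDimAt f x := by
  obtain ⟨U₁, hU₁, V₁, hV₁, hx₁, e₁, hf₁⟩ := Smooth.exists_isStandardSmooth f x
  obtain ⟨n, hn⟩ := Groth.Agent.Lib.Helper3.SmDim.exists_relDim_of_isStandardSmooth _ hf₁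
  rw [Groth.Agent.Lib.Helper3.SmDim.fibreDimAt_eq_of_chart f n x hU₁ hV₁ hx₁ e₁ hn]
  let g : (V₁ : Scheme.{u}) ⟶ Y := V₁.ι ≫ f
  haveI : Flat g := inferInstance
  haveI : LocallyOfFiniteType g := inferInstance
  have hrel : Cyc.HasRelDim g n := by
    rw [Groth.Agent.Lib.Helper3.RelDim.hasRelDim_iff_forall_fibreDimAt_eq]
    intro z
    rw [Groth.Agent.Lib.Helper3.FibDimEt.fibreDimAt_comp_of_etale]
    exact Groth.Agent.Lib.Helper3.SmDim.fibreDimAt_eq_of_chart f n _ hU₁ hV₁ z.2 e₁ hn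
  have key := Groth.Agent.Lib.Helper3.RelDimFlat.localDim_eq_add g n hrel ⟨x, hx₁⟩
  rw [Groth.Agent.Lib.Helper9.EtDim.localDim_eq_of_etale V₁.ι ⟨x, hx₁⟩] at key
  exact key

variable {S : Scheme.{u}}

theorem main {X Y : AlgSp.Space S} (f : X ⟶ Y)
    (hX : AlgSp.IsLocNoethSp X.obj) (hY : AlgSp.IsLocNoethSp Y.obj)
    (hf : AlgSp.LocP @Smooth f.hom)
    (x : AlgSp.Points X.obj) (d dX dY : WithBot ℕ∞)
    (hd : AlgSp.HasAtMor (fun _ _ h u => FlatMor.fibreDimAt h u = d) f.hom x)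
    (hx : AlgSp.HasAt (fun U u => FlatMor.localDim ↥U u = dX) X.obj x)
    (hy : AlgSp.HasAt (fun U u => FlatMor.localDim ↥U u = dY) Y.obj (AlgSp.Points.map f.hom x)) :
    dX = dY + d := by
  obtain ⟨U, V, a, b, h, u, ha, hb, hcomm, rfl, hNU, hNV⟩ :=
    exists_chartDiagram_locNoeth f hX hY x
  haveI := hNU
  haveI := hNV
  haveI : Smooth h.left := hf a b h ha hb hcomm
  have key := localDim_eq_add_of_smooth h.left u
  rw [hasAtMor_fibreDimAt_iff f.hom a b h u ha hb hcomm] at hd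
  rw [hasAt_localDim_iff a u ha] at hx
  have hpt : Points.map f.hom (Points.ofPt a u) = Points.ofPt b (h.left u) := by
    rw [Points.map_ofPt, hcomm, ofPt_yon_map_comp]
  rw [hpt, hasAt_localDim_iff b _ hb] at hy
  rw [← hx, ← hy, ← hd]
  exact key

end Groth.Agent.Lib.Helper9.SmDimFormula
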