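import Mathlib
import Groth.Agent.S1686
import Groth.Agent.Lib.Helper9SpChart
import Groth.Agent.Lib.Helper9SpDimFormula
import Groth.Prelude.Def_AlgSpSub
/-!
# helper9: the local dimension drops on an effective Cartier divisor of an algebraic space
`main10794`.
-/

set_option autoImplicit false
set_option linter.style.haveILetI false
set_option backward.isDefEq.respectTransparency false
universe u
open CategoryTheory CategoryTheory.Limits AlgebraicGeometry
open AlgSp

namespace Groth.Agent.Lib.Helper9.SpCartierDim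

theorem main10794 {S : Scheme.{u}} (X D : AlgSp.Space S) (i : D ⟶ X)
    (hD : AlgSp.IsEffCartierSub i.hom) (x : AlgSp.Points D.obj) (d : WithBot ℕ∞)
    (hd : AlgSp.HasAt (fun U u => FlatMor.localDim ↥U u = d) X.obj (AlgSp.Points.map i.hom x))
    (hfin : d ≠ ⊤) :
    AlgSp.HasAt (fun V v => FlatMor.localDim ↥V v < d) D.obj x := by
  obtain ⟨-, V, φ, I, fst, hφe, hφs, sq, hI⟩ := hD
  have hfe : AlgSp.RepWith @Etale fst := (AlgSp.RepWith @Etale).of_isPullback sq.flip hφe
  have hfs : AlgSp.RepWith @Surjective fst := (AlgSp.RepWith @Surjective).of_isPullback sq.flip hφs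
  obtain ⟨z, hz⟩ := Groth.Agent.Lib.Helper9.SpPoint.exists_atlas_point fst hfs x
  have hv : AlgSp.Points.ofPt φ (I.subschemeι z) = AlgSp.Points.map i.hom x := by
    have h1 := Groth.Agent.Lib.Helper9.SpPoint.ofPt_yon_map_comp
      (Over.homMk I.subschemeι rfl : Over.mk (I.subschemeι ≫ V.hom) ⟶ V) φ z
    have h2 : (Over.homMk I.subschemeι rfl : Over.mk (I.subschemeι ≫ V.hom) ⟶ V).left =
        I.subschemeι := rfl
    rw [h2] at h1
    exact h1.symm.trans (by rw [← sq.w, ← AlgSp.Points.map_ofPt, hz])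
  rw [← hv, Groth.Agent.Lib.Helper9.SpDimFormula.hasAt_localDim_iff φ _ hφe d] at hd
  refine ⟨Over.mk (I.subschemeι ≫ V.hom), fst, z, hfe, hz, ?_⟩
  have := Groth.Agent.S1686.result V.left I hI z (by rw [hd]; exact hfin)
  rw [hd] at this
  exact this

end Groth.Agent.Lib.Helper9.SpCartierDim
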