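import Mathlib
import Groth.Agent.Lib.Helper9CodimZeroFib
import Groth.Agent.Lib.Helper9SpRetro

/-!
# Fibres over points of codimension 0 for algebraic spaces (helper9)
-/

set_option autoImplicit false
set_option linter.style.haveILetI false
set_option backward.isDefEq.respectTransparency false
open CategoryTheory CategoryTheory.Limits AlgebraicGeometry Opposite
universe u

namespace Groth.Agent.Lib.Helper9.SpCodimZeroFib

open AlgSp Groth.Agent.Lib.Helper9.SpPoint Groth.Agent.Lib.Helper9.ChartIndep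
  Groth.Agent.Lib.Helper9.ChartIndepAt Groth.Agent.Lib.Helper9.SpDimFormula
  Groth.Agent.Lib.Helper9.SpQfAt Groth.Agent.Lib.Helper9.SpDimIneq
  Groth.Agent.Lib.Helper9.CodimZeroFib Groth.Agent.Lib.Helper9.SpRetro

variable {S : Scheme.{u}}

theorem main10399 {X Y : AlgSp.Space S} (f : X ⟶ Y)
    (hf : AlgSp.LocP @LocallyOfFiniteType f.hom) (y : AlgSp.Points Y.obj)
    (hy : AlgSp.HasAt (fun U u => ringKrullDim ↥(U.presheaf.stalk u) = 0) Y.obj y) :
    ((∀ x : AlgSp.Points X.obj, AlgSp.Points.map f.hom x = y →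
        AlgSp.HasAt (fun U u => ringKrullDim ↥(U.presheaf.stalk u) = 0) X.obj x) ↔
      (∀ x : AlgSp.Points X.obj, AlgSp.Points.map f.hom x = y →
        AlgSp.HasAtMor (fun U _ h u => ∃ W : U.Opens, u ∈ W ∧ LocallyQuasiFinite (W.ι ≫ h) ∧
          LocallyOfFiniteType (W.ι ≫ h)) f.hom x)) ∧
    ((∀ x : AlgSp.Points X.obj, AlgSp.Points.map f.hom x = y →
        AlgSp.HasAt (fun U u => ringKrullDim ↥(U.presheaf.stalk u) = 0) X.obj x →
        AlgSp.HasAtMor (fun U _ h u => ∃ W : U.Opens, u ∈ W ∧ LocallyQuasiFinite (W.ι ≫ h) ∧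
          LocallyOfFiniteType (W.ι ≫ h)) f.hom x) →
      ∀ x : AlgSp.Points X.obj, AlgSp.Points.map f.hom x = y →
        AlgSp.HasAt (fun U u => ringKrullDim ↥(U.presheaf.stalk u) = 0) X.obj x) := by
  obtain ⟨T, V₀, p, b₀, k, hp, hb₀, hcomm, hsurj⟩ := exists_global_chartDiagram f
  haveI : LocallyOfFiniteType k.left := hf p b₀ k hp hb₀ hcomm
  have hpt : ∀ t : T.left, Points.map f.hom (Points.ofPt p t) = Points.ofPt b₀ (k.left t) := by
    intro t
    rw [Points.map_ofPt, hcomm, ofPt_yon_map_comp]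
  have hv : ∀ v : V₀.left, Points.ofPt b₀ v = y →
      ringKrullDim (V₀.left.presheaf.stalk v) = 0 := by
    intro v hvy
    rw [← hvy] at hy
    exact (hasAt_stalkDim_iff b₀ v hb₀ 0).1 hy
  have e1 : ∀ t : T.left,
      AlgSp.HasAt (fun U u => ringKrullDim ↥(U.presheaf.stalk u) = 0) X.obj (Points.ofPt p t) ↔
        ringKrullDim (T.left.presheaf.stalk t) = 0 := fun t => hasAt_stalkDim_iff p t hp 0
  have e2 := fun t : T.left => hasAtMor_qfNear_iff f.hom hf p b₀ k t hp hb₀ hcomm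
  refine ⟨⟨fun H x hx => ?_, fun H x hx => ?_⟩, fun H x hx => ?_⟩
  · obtain ⟨t, rfl⟩ := hsurj x
    rw [e2]
    rw [hpt] at hx
    refine fibreDimAt_le_zero_of_forall_stalkDim_eq_zero k.left (k.left t) (hv _ hx)
      (fun t' ht' => ?_) t rfl
    rw [← e1]
    refine H _ ?_
    rw [hpt, ht', hx]
  · obtain ⟨t, rfl⟩ := hsurj x
    rw [e1]
    have hq := H _ hx
    rw [e2] at hq
    rw [hpt] at hx
    exact stalkDim_eq_zero_of_fibreDimAt_le_zero k.left (k.left t) (hv _ hx) t rfl hq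
  · obtain ⟨t, rfl⟩ := hsurj x
    rw [e1]
    rw [hpt] at hx
    refine stalkDim_eq_zero_of_generic_qf k.left (k.left t) (hv _ hx) (fun t' ht' h0 => ?_) t rfl
    rw [← e2]
    refine H _ ?_ ((e1 t').2 h0)
    rw [hpt, ht', hx]

end Groth.Agent.Lib.Helper9.SpCodimZeroFib
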