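import Mathlib
import Groth.Agent.Lib.Helper9FibStalkBC
import Groth.Agent.Lib.Helper9SpBaseChange
import Groth.Agent.Lib.Helper9SpRelDimStalk
import Groth.Agent.Lib.Helper4DimFormulaAF
import Groth.Agent.S9984

/-!
# Base change of the dimension of the local ring of the fibre, for algebraic spaces (helper9)
-/

set_option autoImplicit false
set_option linter.style.haveILetI false
set_option backward.isDefEq.respectTransparency false
open CategoryTheory CategoryTheory.Limits AlgebraicGeometry Opposite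
universe u

namespace Groth.Agent.Lib.Helper9.SpFibStalkBC

open AlgSp Groth.Agent.Lib.Helper9.SpPoint Groth.Agent.Lib.Helper9.ChartIndep
  Groth.Agent.Lib.Helper9.ChartIndepAt Groth.Agent.Lib.Helper9.SpDimFormula
  Groth.Agent.Lib.Helper9.SpBaseChange Groth.Agent.Lib.Helper9.SpRelDimStalk
  Groth.Agent.Lib.Helper4.DimFormula Groth.Agent.Lib.Helper9.FibStalkBC

variable {S : Scheme.{u}}

/-- the dimension of the local ring of the fibre is independent of the chart diagram (for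
morphisms locally of finite type) -/
theorem hasAtMor_fibStalk_iff {X Y : AlgSp.Space S} (f : X ⟶ Y)
    (hf : LocP @LocallyOfFiniteType f.hom) {U V : Over S}
    (a : (yon S).obj U ⟶ X.obj) (b : (yon S).obj V ⟶ Y.obj) (h : U ⟶ V) (u : U.left)
    (ha : RepWith @Etale a) (hb : RepWith @Etale b) (hcomm : a ≫ f.hom = (yon S).map h ≫ b)
    (e : WithBot ℕ∞) :
    HasAtMor (fun _ _ h u => ringKrullDim ↥((h.fiber (h u)).presheaf.stalk (h.asFiber u)) = e)
        f.hom (Points.ofPt a u) ↔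
      ringKrullDim ((h.left.fiber (h.left u)).presheaf.stalk (h.left.asFiber u)) = e := by
  constructor
  · rintro ⟨U', V', a', b', h', u', ha', hb', hcomm', hpt, hR⟩
    haveI : LocallyOfFiniteType h.left := hf a b h ha hb hcomm
    haveI : LocallyOfFiniteType h'.left := hf a' b' h' ha' hb' hcomm'
    have hd := chart_indep (fun (U V : Scheme.{u}) (h : U ⟶ V) (u : U) => FlatMor.fibreDimAt h u)
      etSqInv_fibreDimAt f.hom a b h u ha hb hcomm a' b' h' u' ha' hb' hcomm' hpt.symm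
    have hr := chart_indep (fun (U V : Scheme.{u}) (h : U ⟶ V) (u : U) => Dual3.resTrdeg h u)
      etSqInv_resTrdeg f.hom a b h u ha hb hcomm a' b' h' u' ha' hb' hcomm' hpt.symm
    have t1 : Dual3.resTrdeg h.left u = ((ptTrdeg h.left u : ℕ) : Cardinal.{u}) :=
      trdeg_eq_ptTrdeg h.left u
    have t2 : Dual3.resTrdeg h'.left u' = ((ptTrdeg h'.left u' : ℕ) : Cardinal.{u}) :=
      trdeg_eq_ptTrdeg h'.left u'
    rw [t1, t2] at hr
    have hr' : ptTrdeg h.left u = ptTrdeg h'.left u' := by exact_mod_cast hr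
    rw [fibreDimAt_eq_stalk_add_ptTrdeg h.left u, fibreDimAt_eq_stalk_add_ptTrdeg h'.left u',
      hr'] at hd
    rw [← hR]
    exact withBot_enat_add_nat_cancel _ hd
  · intro hR
    exact ⟨U, V, a, b, h, u, ha, hb, hcomm, rfl, hR⟩

/-- base change of a chart diagram through a point of the base change -/
theorem exists_bc_chartDiagram {X Y Y' X' : AlgSp.Space S} (f : X ⟶ Y) (g : Y' ⟶ Y)
    (g' : X' ⟶ X) (f' : X' ⟶ Y') (sq : IsPullback g'.hom f'.hom f.hom g.hom)
    (x' : Points X'.obj) {U V : Over S} (a : (yon S).obj U ⟶ X.obj) (b : (yon S).obj V ⟶ Y.obj)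
    (h : U ⟶ V) (u : U.left)
    (ha : RepWith @Etale a) (hb : RepWith @Etale b) (hcomm : a ≫ f.hom = (yon S).map h ≫ b)
    (hux : Points.ofPt a u = Points.map g'.hom x') :
    ∃ (W : Over S) (b' : (yon S).obj W ⟶ Y'.obj) (k : W ⟶ V)
      (a'' : (yon S).obj (pullback h k) ⟶ X'.obj) (p' : (pullback h k).left),
      RepWith @Etale b' ∧ b' ≫ g.hom = (yon S).map k ≫ b ∧ RepWith @Etale a'' ∧
      a'' ≫ g'.hom = (yon S).map (pullback.fst h k) ≫ a ∧
      a'' ≫ f'.hom = (yon S).map (pullback.snd h k) ≫ b' ∧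
      Points.ofPt a'' p' = x' ∧ (pullback.fst h k).left p' = u := by
  obtain ⟨p, hp, rfl⟩ := exists_geomPoint_mk X' x'
  -- lift the geometric point of `X` to `U`
  have hξ : (p.map g'.hom).IsGeometric := hp
  obtain ⟨lu, hlu⟩ := exists_lift_of_ofPt_eq_mk' (p.map g'.hom) hξ (EtOver.mk a ha) u hux
  obtain ⟨ut, hut⟩ : ∃ ut : p.pt ⟶ U, ut = lu.1 := ⟨_, rfl⟩
  have hut_a : (yon S).map ut ≫ a = p.toHom ≫ g'.hom := by
    rw [hut, ← FieldPt.toHom_map]
    exact lu.2
  have hut_u : ut.left (default : Spec (CommRingCat.of p.K)) = u := by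
    rw [hut]
    exact hlu
  -- a chart of `Y'` through the image point, and a lift of the geometric point
  obtain ⟨V₀', b₀', hb₀', hsb₀'⟩ := Y'.property.atlas
  obtain ⟨v₀', hv₀'⟩ := exists_atlas_point b₀' hsb₀' (Points.mk (p.map f'.hom))
  have hη : (p.map f'.hom).IsGeometric := hp
  obtain ⟨lv, -⟩ := exists_lift_of_ofPt_eq_mk' (p.map f'.hom) hη (EtOver.mk b₀' hb₀') v₀' hv₀'
  obtain ⟨vt, hvt⟩ : ∃ vt : p.pt ⟶ V₀', vt = lv.1 := ⟨_, rfl⟩
  have hvt_b : (yon S).map vt ≫ b₀' = p.toHom ≫ f'.hom := by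
    rw [hvt, ← FieldPt.toHom_map]
    exact lv.2
  -- the chart `W = V₀' ×_Y V` of `Y'`
  have hpb := hb.1.isPullback (b₀' ≫ g.hom)
  have het : Etale (hb.1.snd (b₀' ≫ g.hom)).left := hb.2 _ _ _ hpb
  have hb' : RepWith @Etale ((yon S).map (hb.1.snd (b₀' ≫ g.hom)) ≫ b₀') :=
    (repWith_isMultiplicative (S := S) @Etale).comp_mem _ _
      ((repWith_yon_map_iff _ _).2 het) hb₀'
  have hk : ((yon S).map (hb.1.snd (b₀' ≫ g.hom)) ≫ b₀') ≫ g.hom =
      (yon S).map (hb.1.fst' (b₀' ≫ g.hom)) ≫ b := by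
    rw [Category.assoc, hb.1.map_fst']
    exact hpb.w.symm
  have hcompat : (yon S).map (ut ≫ h) ≫ b = (yon S).map vt ≫ b₀' ≫ g.hom := by
    rw [Functor.map_comp, Category.assoc, ← hcomm, ← Category.assoc, hut_a, ← Category.assoc, hvt_b,
      Category.assoc, Category.assoc, sq.w]
  obtain ⟨wt, hwt⟩ : ∃ wt : p.pt ⟶ hb.1.pullback (b₀' ≫ g.hom),
      wt = hb.1.lift' (ut ≫ h) vt hcompat := ⟨_, rfl⟩
  have hw1 : wt ≫ hb.1.snd (b₀' ≫ g.hom) = vt := by
    rw [hwt]
    exact Functor.relativelyRepresentable.lift'_snd _ _ _ _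
  have hw2 : wt ≫ hb.1.fst' (b₀' ≫ g.hom) = ut ≫ h := by
    rw [hwt]
    exact Functor.relativelyRepresentable.lift'_fst _ _ _ _
  generalize hb.1.snd (b₀' ≫ g.hom) = e at *
  generalize hb.1.fst' (b₀' ≫ g.hom) = k at *
  clear hpb hwt
  generalize hb.1.pullback (b₀' ≫ g.hom) = W at *
  -- base change of the chart diagram
  obtain ⟨a'', ha'', h1, h2⟩ := exists_chart_baseChange X.property Y.property f.hom g.hom g'.hom
    f'.hom sq a b h ha hb hcomm _ k hb' hk
  obtain ⟨pt', hpt'⟩ : ∃ pt' : p.pt ⟶ pullback h k, pt' = pullback.lift ut wt hw2.symm := ⟨_, rfl⟩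
  have hp1 : pt' ≫ pullback.fst h k = ut := by rw [hpt', pullback.lift_fst]
  have hp2 : pt' ≫ pullback.snd h k = wt := by rw [hpt', pullback.lift_snd]
  have hpa : (yon S).map pt' ≫ a'' = p.toHom := by
    apply sq.hom_ext
    · rw [Category.assoc, h1, ← Category.assoc, ← Functor.map_comp, hp1, hut_a]
    · rw [Category.assoc, h2, ← Category.assoc, ← Functor.map_comp, hp2, ← Category.assoc,
        ← Functor.map_comp, hw1, hvt_b]
  refine ⟨W, _, k, a'', pt'.left (default : Spec (CommRingCat.of p.K)), hb', hk, ha'', h1, h2,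
    ?_, ?_⟩
  · rw [← ofPt_yon_map_comp, hpa]
    exact Points.ofPt_toHom p _
  · rw [← Scheme.Hom.comp_apply, ← Over.comp_left, hp1, hut_u]

theorem main10335 {X Y Y' X' : AlgSp.Space S} (f : X ⟶ Y) (g : Y' ⟶ Y)
    (g' : X' ⟶ X) (f' : X' ⟶ Y') (sq : IsPullback g'.hom f'.hom f.hom g.hom)
    (hf : AlgSp.LocP @LocallyOfFiniteType f.hom) :
    (∀ (x' : AlgSp.Points X'.obj) (e e' : WithBot ℕ∞) (r r' : Cardinal.{u}),
      AlgSp.HasAtMor (fun _ _ h u => ringKrullDim ↥((h.fiber (h u)).presheaf.stalk (h.asFiber u)) = e) f.hom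
          (AlgSp.Points.map g'.hom x') →
      AlgSp.HasAtMor (fun _ _ h u => Dual3.resTrdeg h u = r) f.hom (AlgSp.Points.map g'.hom x') →
      AlgSp.HasAtMor (fun _ _ h u => ringKrullDim ↥((h.fiber (h u)).presheaf.stalk (h.asFiber u)) = e') f'.hom x' →
      AlgSp.HasAtMor (fun _ _ h u => Dual3.resTrdeg h u = r') f'.hom x' →
        e' + ((Cardinal.toENat r' : ℕ∞) : WithBot ℕ∞) = e + ((Cardinal.toENat r : ℕ∞) : WithBot ℕ∞) ∧ e ≤ e') ∧
    (∀ (x : AlgSp.Points X.obj) (y' : AlgSp.Points Y'.obj) (e : WithBot ℕ∞),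
      AlgSp.Points.map f.hom x = AlgSp.Points.map g.hom y' →
      AlgSp.HasAtMor (fun _ _ h u => ringKrullDim ↥((h.fiber (h u)).presheaf.stalk (h.asFiber u)) = e) f.hom x →
        ∃ x' : AlgSp.Points X'.obj, AlgSp.Points.map g'.hom x' = x ∧ AlgSp.Points.map f'.hom x' = y' ∧
          AlgSp.HasAtMor (fun _ _ h u => ringKrullDim ↥((h.fiber (h u)).presheaf.stalk (h.asFiber u)) = e)
            f'.hom x') := by
  have hf' : AlgSp.LocP @LocallyOfFiniteType f'.hom :=
    Groth.Agent.S9984.result _ (Or.inl rfl) f g g' f' sq hf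
  constructor
  · intro x' e e' r r' he hr he' hr'
    obtain ⟨U, V, a, b, h, u, ha, hb, hcomm, hux, hdim⟩ := he
    haveI : LocallyOfFiniteType h.left := hf a b h ha hb hcomm
    have he : AlgSp.HasAtMor (fun _ _ h u =>
        ringKrullDim ↥((h.fiber (h u)).presheaf.stalk (h.asFiber u)) = e) f.hom
          (AlgSp.Points.map g'.hom x') := ⟨U, V, a, b, h, u, ha, hb, hcomm, hux, hdim⟩
    have hd : AlgSp.HasAtMor (fun _ _ h' u' => FlatMor.fibreDimAt h' u' =
        FlatMor.fibreDimAt h.left u) f.hom (Points.map g'.hom x') :=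
      ⟨U, V, a, b, h, u, ha, hb, hcomm, hux, rfl⟩
    have hd' := main10311 f g g' f' sq hf x' _ hd
    have e1 := SpRelDimStalk.main f hf _ _ e r hd he hr
    have e2 := SpRelDimStalk.main f' hf' _ _ e' r' hd' he' hr'
    refine ⟨e2.symm.trans e1, ?_⟩
    obtain ⟨W, b', k, a'', p', hb', hk, ha'', h1, h2, hp', hp'u⟩ :=
      exists_bc_chartDiagram f g g' f' sq x' a b h u ha hb hcomm hux
    have hsq : IsPullback (pullback.fst h k).left (pullback.snd h k).left h.left k.left :=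
      (IsPullback.of_hasPullback h k).map (Over.forget S)
    rw [← hp', hasAtMor_fibStalk_iff f' hf' a'' b' (pullback.snd h k) p' ha'' hb' h2] at he'
    rw [← hdim, ← he', ringKrullDim_stalk_asFiber, ringKrullDim_stalk_asFiber, ← hp'u]
    exact fibStalkDim_le_of_isPullback hsq p'
  · intro x y' e hxy he
    obtain ⟨U, V, a, b, h, u, ha, hb, hcomm, rfl, hdim⟩ := he
    haveI : LocallyOfFiniteType h.left := hf a b h ha hb hcomm
    obtain ⟨V₀', b₀', hb₀', hsb₀'⟩ := Y'.property.atlas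
    obtain ⟨v₀', rfl⟩ := exists_atlas_point b₀' hsb₀' y'
    have hv : Points.ofPt (b₀' ≫ g.hom) v₀' = Points.ofPt b (h.left u) := by
      rw [← Points.map_ofPt, ← hxy, Points.map_ofPt, hcomm, ofPt_yon_map_comp]
    obtain ⟨W, e₀, k, z, het, hb', hk, hz1, hz2⟩ :=
      exists_chart_diagram g.hom b₀' hb₀' v₀' b hb (h.left u) hv
    obtain ⟨a'', ha'', h1, h2⟩ := exists_chart_baseChange X.property Y.property f.hom g.hom g'.hom
      f'.hom sq a b h ha hb hcomm _ k hb' hk
    have hsq : IsPullback (pullback.fst h k).left (pullback.snd h k).left h.left k.left :=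
      (IsPullback.of_hasPullback h k).map (Over.forget S)
    obtain ⟨p', hp1, hp2, hp3⟩ := exists_fibStalkDim_eq_of_isPullback hsq u z hz2.symm
    refine ⟨Points.ofPt a'' p', ?_, ?_, ?_⟩
    · rw [Points.map_ofPt, h1, ofPt_yon_map_comp]
      exact congrArg _ hp1
    · rw [Points.map_ofPt, h2, ofPt_yon_map_comp, ofPt_yon_map_comp]
      have : (pullback.snd h k).left p' = z := hp2
      rw [this, hz1]
    · refine ⟨pullback h k, W, a'', _, pullback.snd h k, p', ha'', hb', h2, rfl, ?_⟩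
      show ringKrullDim ↥(((pullback.snd h k).left.fiber ((pullback.snd h k).left p')).presheaf.stalk
        ((pullback.snd h k).left.asFiber p')) = e
      rw [ringKrullDim_stalk_asFiber, hp3, ← ringKrullDim_stalk_asFiber]
      exact hdim

end Groth.Agent.Lib.Helper9.SpFibStalkBC
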