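import Mathlib
import Groth.Agent.Lib.Helper9SpBaseChange
import Groth.Agent.Lib.Helper3FibCritSch

/-!
# Flatness by fibres for morphisms of algebraic spaces (helper9)
-/

set_option autoImplicit false
set_option linter.style.haveILetI false
set_option backward.isDefEq.respectTransparency false
open CategoryTheory CategoryTheory.Limits AlgebraicGeometry Opposite
universe u

namespace Groth.Agent.Lib.Helper9.SpFlatFib

open AlgSp Groth.Agent.Lib.Helper9.SpPoint Groth.Agent.Lib.Helper9.ChartIndep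
  Groth.Agent.Lib.Helper9.ChartIndepAt Groth.Agent.Lib.Helper9.SpDimFormula
  Groth.Agent.Lib.Helper9.SpBaseChange

variable {S : Scheme.{u}}

/-- base change of a chart diagram of `f` along a chart of `g` over the target chart, for an
arbitrary fibre product `P = U ×_V W` of schemes over `S` -/
theorem exists_chart_baseChange' {X Y Y' X' : AlgSp.Sp S} (hX : IsAlgSpace X) (hY : IsAlgSpace Y)
    (f : X ⟶ Y) (g : Y' ⟶ Y) (g' : X' ⟶ X) (f' : X' ⟶ Y')
    (sq : IsPullback g' f' f g) {U V W P : Over S}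
    (a : (yon S).obj U ⟶ X) (b : (yon S).obj V ⟶ Y) (h : U ⟶ V)
    (ha : RepWith @Etale a) (hb : RepWith @Etale b) (hcomm : a ≫ f = (yon S).map h ≫ b)
    (b' : (yon S).obj W ⟶ Y') (k : W ⟶ V) (hb' : RepWith @Etale b')
    (hk : b' ≫ g = (yon S).map k ≫ b) (p1 : P ⟶ U) (p2 : P ⟶ W) (hP₀ : IsPullback p1 p2 h k) :
    ∃ a'' : (yon S).obj P ⟶ X', RepWith @Etale a'' ∧
      a'' ≫ g' = (yon S).map p1 ≫ a ∧ a'' ≫ f' = (yon S).map p2 ≫ b' := by
  have hP : IsPullback ((yon S).map p1) ((yon S).map p2)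
      ((yon S).map h) ((yon S).map k) := hP₀.map (yon S)
  have hw : ((yon S).map p1 ≫ a) ≫ f = ((yon S).map p2 ≫ b') ≫ g := by
    rw [Category.assoc, hcomm, Category.assoc, hk, ← Category.assoc, ← Category.assoc, hP.w]
  obtain ⟨a'', ha''⟩ : ∃ a'' : (yon S).obj P ⟶ X', a'' = sq.lift _ _ hw := ⟨_, rfl⟩
  have h1 : a'' ≫ g' = (yon S).map p1 ≫ a := by rw [ha'', sq.lift_fst]
  have h2 : a'' ≫ f' = (yon S).map p2 ≫ b' := by rw [ha'', sq.lift_snd]
  refine ⟨a'', ?_, h1, h2⟩
  have hφ := Groth.Agent.Lib.Helper12.BaseLocal.repWith_etale_lift hX hY f a b h ha hb hcomm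
  obtain ⟨φ, hφdef⟩ : ∃ φ : (yon S).obj U ⟶ pullback f b,
      φ = pullback.lift a ((yon S).map h) hcomm := ⟨_, rfl⟩
  rw [← hφdef] at hφ
  have hφ1 : φ ≫ pullback.fst f b = a := by rw [hφdef, pullback.lift_fst]
  have hφ2 : φ ≫ pullback.snd f b = (yon S).map h := by rw [hφdef, pullback.lift_snd]
  obtain ⟨φ', hφ'def⟩ : ∃ φ' : (yon S).obj P ⟶ pullback f' b',
      φ' = pullback.lift a'' ((yon S).map p2) h2 := ⟨_, rfl⟩
  have hφ'1 : φ' ≫ pullback.fst f' b' = a'' := by rw [hφ'def, pullback.lift_fst]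
  have hφ'2 : φ' ≫ pullback.snd f' b' = (yon S).map p2 := by
    rw [hφ'def, pullback.lift_snd]
  have hψw : (pullback.fst f' b' ≫ g') ≫ f = (pullback.snd f' b' ≫ (yon S).map k) ≫ b := by
    rw [Category.assoc, sq.w, ← Category.assoc, pullback.condition, Category.assoc, hk,
      Category.assoc]
  obtain ⟨ψ, hψdef⟩ : ∃ ψ : pullback f' b' ⟶ pullback f b,
      ψ = pullback.lift (pullback.fst f' b' ≫ g') (pullback.snd f' b' ≫ (yon S).map k) hψw :=
    ⟨_, rfl⟩
  have hψ1 : ψ ≫ pullback.fst f b = pullback.fst f' b' ≫ g' := by rw [hψdef, pullback.lift_fst]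
  have hψ2 : ψ ≫ pullback.snd f b = pullback.snd f' b' ≫ (yon S).map k := by
    rw [hψdef, pullback.lift_snd]
  have big : IsPullback (pullback.fst f' b' ≫ g') (pullback.snd f' b') f (b' ≫ g) :=
    (IsPullback.of_hasPullback f' b').paste_horiz sq
  have bot : IsPullback ψ (pullback.snd f' b') (pullback.snd f b) ((yon S).map k) := by
    refine IsPullback.of_right ?_ hψ2 (IsPullback.of_hasPullback f b)
    rw [hψ1, ← hk]
    exact big
  have hcommtop : (yon S).map p1 ≫ φ = φ' ≫ ψ := by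
    apply pullback.hom_ext
    · rw [Category.assoc, hφ1, Category.assoc, hψ1, ← Category.assoc, hφ'1, h1]
    · rw [Category.assoc, hφ2, Category.assoc, hψ2, ← Category.assoc, hφ'2, hP.w]
  have top : IsPullback ((yon S).map p1) φ' φ ψ := by
    refine IsPullback.of_bot ?_ hcommtop bot
    rw [hφ'2, hφ2]
    exact hP
  have hφ' : RepWith @Etale φ' :=
    MorphismProperty.of_isPullback (P := AlgSp.RepWith @Etale) top hφ
  have hfst : RepWith @Etale (pullback.fst f' b') :=
    MorphismProperty.of_isPullback (P := AlgSp.RepWith @Etale)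
      (IsPullback.of_hasPullback f' b').flip hb'
  rw [← hφ'1]
  exact (repWith_isMultiplicative (S := S) @Etale).comp_mem _ _ hφ' hfst

/-- the hypothesis on fibres -/
def FibHyp {X Y Z : AlgSp.Space S} (f : X ⟶ Y) (h : Y ⟶ Z) : Prop :=
  ∀ (K : Type u) [Field K] (sK : Spec (CommRingCat.of K) ⟶ S)
      (z : (AlgSp.yon S).obj (Over.mk sK) ⟶ Z.obj) (Xz Yz : AlgSp.Sp S)
      (pX : Xz ⟶ X.obj) (qX : Xz ⟶ (AlgSp.yon S).obj (Over.mk sK))
      (pY : Yz ⟶ Y.obj) (qY : Yz ⟶ (AlgSp.yon S).obj (Over.mk sK)) (fz : Xz ⟶ Yz),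
      IsPullback pX qX (f ≫ h).hom z → IsPullback pY qY h.hom z → fz ≫ pY = pX ≫ f.hom → fz ≫ qY = qX →
      AlgSp.LocP @Flat fz

/-- under the hypothesis on fibres, the maps of fibres of a chart tower are flat -/
theorem flat_fiberMap_of_fibHyp {X Y Z : AlgSp.Space S} (f : X ⟶ Y) (h : Y ⟶ Z)
    (hfib : FibHyp f h) {U V T : Over S} (a : (yon S).obj U ⟶ X.obj) (b : (yon S).obj V ⟶ Y.obj)
    (c : (yon S).obj T ⟶ Z.obj) (k : U ⟶ V) (m : V ⟶ T)
    (ha : RepWith @Etale a) (hb : RepWith @Etale b) (hc : RepWith @Etale c)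
    (hc1 : a ≫ f.hom = (yon S).map k ≫ b) (hc2 : b ≫ h.hom = (yon S).map m ≫ c) (s : T.left) :
    Flat (MoreMor.fiberMap k.left m.left s) := by
  let sK : Spec (CommRingCat.of (T.left.residueField s)) ⟶ S :=
    T.left.fromSpecResidueField s ≫ T.hom
  let pt : Over S := Over.mk sK
  let kκ : pt ⟶ T := Over.homMk (T.left.fromSpecResidueField s) rfl
  -- the fibre of `k ≫ m`
  let PX : Over S := Over.mk ((k.left ≫ m.left).fiberι s ≫ U.hom)
  let p1X : PX ⟶ U := Over.homMk ((k.left ≫ m.left).fiberι s) rfl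
  have hwX : (k.left ≫ m.left).fiberToSpecResidueField s ≫ sK =
      (k.left ≫ m.left).fiberι s ≫ U.hom := by
    show _ ≫ (T.left.fromSpecResidueField s ≫ T.hom) = _
    rw [← Category.assoc, ← (k.left ≫ m.left).fiber_fac s, Category.assoc, Category.assoc,
      Over.w, Over.w]
  let p2X : PX ⟶ pt := Over.homMk ((k.left ≫ m.left).fiberToSpecResidueField s) hwX
  have hPX : IsPullback p1X p2X (k ≫ m) kκ := by
    refine IsPullback.of_map (Over.forget S) ?_ ?_
    · apply Over.OverMorphism.ext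
      exact (k.left ≫ m.left).fiber_fac s
    · exact IsPullback.of_hasPullback (k.left ≫ m.left) (T.left.fromSpecResidueField s)
  -- the fibre of `m`
  let PY : Over S := Over.mk (m.left.fiberι s ≫ V.hom)
  let p1Y : PY ⟶ V := Over.homMk (m.left.fiberι s) rfl
  have hwY : m.left.fiberToSpecResidueField s ≫ sK = m.left.fiberι s ≫ V.hom := by
    show _ ≫ (T.left.fromSpecResidueField s ≫ T.hom) = _
    rw [← Category.assoc, ← m.left.fiber_fac s, Category.assoc, Over.w]
  let p2Y : PY ⟶ pt := Over.homMk (m.left.fiberToSpecResidueField s) hwY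
  have hPY : IsPullback p1Y p2Y m kκ := by
    refine IsPullback.of_map (Over.forget S) ?_ ?_
    · apply Over.OverMorphism.ext
      exact m.left.fiber_fac s
    · exact IsPullback.of_hasPullback m.left (T.left.fromSpecResidueField s)
  -- the map of fibres
  have hφ1 : MoreMor.fiberMap k.left m.left s ≫ m.left.fiberι s =
      (k.left ≫ m.left).fiberι s ≫ k.left := pullback.lift_fst _ _ _
  have hφ2 : MoreMor.fiberMap k.left m.left s ≫ m.left.fiberToSpecResidueField s =
      (k.left ≫ m.left).fiberToSpecResidueField s := pullback.lift_snd _ _ _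
  have hwφ : MoreMor.fiberMap k.left m.left s ≫ (m.left.fiberι s ≫ V.hom) =
      (k.left ≫ m.left).fiberι s ≫ U.hom := by
    rw [← Category.assoc, hφ1, Category.assoc, Over.w]
  let φ : PX ⟶ PY := Over.homMk (MoreMor.fiberMap k.left m.left s) hwφ
  have hφp1 : φ ≫ p1Y = p1X ≫ k := by
    apply Over.OverMorphism.ext
    exact hφ1
  have hφp2 : φ ≫ p2Y = p2X := by
    apply Over.OverMorphism.ext
    exact hφ2
  -- the fibres of the spaces
  let z : (yon S).obj pt ⟶ Z.obj := (yon S).map kκ ≫ c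
  have hcomp : a ≫ (f ≫ h).hom = (yon S).map (k ≫ m) ≫ c := by
    change a ≫ f.hom ≫ h.hom = _
    rw [← Category.assoc, hc1, Category.assoc, hc2, Functor.map_comp, Category.assoc]
  have hfzw : (pullback.fst (f ≫ h).hom z ≫ f.hom) ≫ h.hom = pullback.snd (f ≫ h).hom z ≫ z := by
    rw [Category.assoc]
    exact pullback.condition
  obtain ⟨fz, hfz⟩ : ∃ fz : pullback (f ≫ h).hom z ⟶ pullback h.hom z,
      fz = pullback.lift (pullback.fst (f ≫ h).hom z ≫ f.hom) (pullback.snd (f ≫ h).hom z) hfzw :=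
    ⟨_, rfl⟩
  have hfz1 : fz ≫ pullback.fst h.hom z = pullback.fst (f ≫ h).hom z ≫ f.hom := by
    rw [hfz, pullback.lift_fst]
  have hfz2 : fz ≫ pullback.snd h.hom z = pullback.snd (f ≫ h).hom z := by
    rw [hfz, pullback.lift_snd]
  have hflat : LocP @Flat fz := hfib (T.left.residueField s) sK z _ _ _ _ _ _ fz
    (IsPullback.of_hasPullback _ _) (IsPullback.of_hasPullback _ _) hfz1 hfz2
  have hid : RepWith @Etale (𝟙 ((yon S).obj pt)) := repWith_id _ pt
  have hkz : 𝟙 ((yon S).obj pt) ≫ z = (yon S).map kκ ≫ c := Category.id_comp _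
  obtain ⟨aX, haX, haX1, haX2⟩ := exists_chart_baseChange' X.property Z.property (f ≫ h).hom z
    (pullback.fst (f ≫ h).hom z) (pullback.snd (f ≫ h).hom z) (IsPullback.of_hasPullback _ _)
    a c (k ≫ m) ha hc hcomp (𝟙 _) kκ hid hkz p1X p2X hPX
  obtain ⟨aY, haY, haY1, haY2⟩ := exists_chart_baseChange' Y.property Z.property h.hom z
    (pullback.fst h.hom z) (pullback.snd h.hom z) (IsPullback.of_hasPullback _ _)
    b c m hb hc hc2 (𝟙 _) kκ hid hkz p1Y p2Y hPY
  have hcommz : aX ≫ fz = (yon S).map φ ≫ aY := by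
    apply pullback.hom_ext
    · rw [Category.assoc, hfz1, ← Category.assoc, haX1, Category.assoc, hc1, Category.assoc,
        haY1, ← Category.assoc, ← Category.assoc, ← Functor.map_comp, ← Functor.map_comp, hφp1]
    · rw [Category.assoc, hfz2, haX2, Category.assoc, haY2, ← Category.assoc,
        ← Functor.map_comp, hφp2]
  exact hflat aX aY φ haX haY hcommz

/-- points of a fibre product of schemes -/
theorem exists_preimage_of_isPullback {P U W V : Scheme.{u}} {fst : P ⟶ U} {snd : P ⟶ W}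
    {h : U ⟶ V} {k : W ⟶ V} (sq : IsPullback fst snd h k) (u : U) (w : W) (e : h u = k w) :
    ∃ p : P, fst p = u ∧ snd p = w := by
  obtain ⟨p₀, h1, h2⟩ := Scheme.Pullback.exists_preimage_pullback (f := h) (g := k) u w e
  refine ⟨sq.isoPullback.inv p₀, ?_, ?_⟩
  · rw [← Scheme.Hom.comp_apply, sq.isoPullback_inv_fst]
    exact h1
  · rw [← Scheme.Hom.comp_apply, sq.isoPullback_inv_snd]
    exact h2

/-- flatness of the top arrow of a chart tower -/
theorem flat_of_tower {X Y Z : AlgSp.Space S} (f : X ⟶ Y) (h : Y ⟶ Z)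
    (hfp : AlgSp.LocP @LocallyOfFinitePresentation (f ≫ h).hom)
    (hfl : AlgSp.LocP @Flat (f ≫ h).hom) (hft : AlgSp.LocP @LocallyOfFiniteType h.hom)
    (hfib : FibHyp f h) {U V T : Over S} (a : (yon S).obj U ⟶ X.obj) (b : (yon S).obj V ⟶ Y.obj)
    (c : (yon S).obj T ⟶ Z.obj) (k : U ⟶ V) (m : V ⟶ T)
    (ha : RepWith @Etale a) (hb : RepWith @Etale b) (hc : RepWith @Etale c)
    (hc1 : a ≫ f.hom = (yon S).map k ≫ b) (hc2 : b ≫ h.hom = (yon S).map m ≫ c) :
    Flat k.left := by
  have hcomp : a ≫ (f ≫ h).hom = (yon S).map (k ≫ m) ≫ c := by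
    change a ≫ f.hom ≫ h.hom = _
    rw [← Category.assoc, hc1, Category.assoc, hc2, Functor.map_comp, Category.assoc]
  haveI : LocallyOfFinitePresentation (k.left ≫ m.left) := hfp a c (k ≫ m) ha hc hcomp
  haveI : LocallyOfFiniteType m.left := hft b c m hb hc hc2
  haveI hflat : Flat (k.left ≫ m.left) := hfl a c (k ≫ m) ha hc hcomp
  apply Flat.of_stalkMap
  intro u
  apply Groth.Agent.Lib.Helper3.FibCritSch.flat_stalkMap_of_flat_of_fiberMap k.left m.left u
  · exact Flat.stalkMap (k.left ≫ m.left) u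
  · haveI := flat_fiberMap_of_fibHyp f h hfib a b c k m ha hb hc hc1 hc2 (m.left (k.left u))
    exact Flat.stalkMap _ _

theorem main10603 {X Y Z : AlgSp.Space S} (f : X ⟶ Y) (h : Y ⟶ Z)
    (hfp : AlgSp.LocP @LocallyOfFinitePresentation (f ≫ h).hom)
    (hfl : AlgSp.LocP @Flat (f ≫ h).hom) (hft : AlgSp.LocP @LocallyOfFiniteType h.hom)
    (hfib : FibHyp f h) :
    AlgSp.LocP @Flat f.hom ∧ (AlgSp.IsSurjectiveMor f.hom → AlgSp.LocP @Flat h.hom) := by
  have part1 : AlgSp.LocP @Flat f.hom := by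
    intro U V a b k ha hb hc1
    apply Flat.of_stalkMap
    intro u
    obtain ⟨T, c, hc, hcs⟩ := Z.property.atlas
    obtain ⟨V', e, m, z, het, hb', hc2, hz⟩ :=
      exists_chart_diagram_atlas h.hom b hb (k.left u) c hc hcs
    have hsq : IsPullback (pullback.fst k e).left (pullback.snd k e).left k.left e.left :=
      (IsPullback.of_hasPullback k e).map (Over.forget S)
    haveI := het
    haveI het1 : Etale (pullback.fst k e).left :=
      MorphismProperty.of_isPullback (P := @Etale) hsq.flip het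
    have ha' : RepWith @Etale ((yon S).map (pullback.fst k e) ≫ a) :=
      (repWith_isMultiplicative (S := S) @Etale).comp_mem _ _
        ((repWith_yon_map_iff _ _).2 het1) ha
    have hc1' : ((yon S).map (pullback.fst k e) ≫ a) ≫ f.hom =
        (yon S).map (pullback.snd k e) ≫ ((yon S).map e ≫ b) := by
      rw [Category.assoc, hc1, ← Category.assoc, ← Functor.map_comp, pullback.condition,
        Functor.map_comp, Category.assoc]
    obtain ⟨u', hu'1, hu'2⟩ := exists_preimage_of_isPullback hsq u z hz.symm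
    haveI hfl' : Flat (pullback.snd k e).left :=
      flat_of_tower f h hfp hfl hft hfib _ _ c _ m ha' hb' hc hc1' hc2
    have h3 : (((pullback.fst k e).left ≫ k.left).stalkMap u').hom.Flat := by
      rw [hsq.w]
      exact Groth.Agent.Lib.Helper5.FiberMor.flat_comp (pullback.snd k e).left e.left u'
        (Flat.stalkMap _ _) (Flat.stalkMap _ _)
    have h5 := Groth.Agent.Lib.Helper5.FiberMor.flat_of_comp (pullback.fst k e).left k.left u' h3
      (Flat.stalkMap _ _)
    rw [hu'1] at h5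
    exact h5
  refine ⟨part1, fun hs => ?_⟩
  intro V T b c m hb hc hc2
  apply Flat.of_stalkMap
  intro v
  obtain ⟨x, hx⟩ := hs (Points.ofPt b v)
  obtain ⟨U₀, a₀, ha₀, hs₀⟩ := X.property.atlas
  obtain ⟨u₀, hu₀⟩ := exists_atlas_point a₀ hs₀ x
  have hv : Points.ofPt (a₀ ≫ f.hom) u₀ = Points.ofPt b v := by
    rw [← Points.map_ofPt, hu₀, hx]
  obtain ⟨U, e, k, u, het, ha, hc1, hu1, hu2⟩ := exists_chart_diagram f.hom a₀ ha₀ u₀ b hb v hv
  haveI hk : Flat k.left := part1 _ b k ha hb hc1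
  have hcomp : ((yon S).map e ≫ a₀) ≫ (f ≫ h).hom = (yon S).map (k ≫ m) ≫ c := by
    change ((yon S).map e ≫ a₀) ≫ f.hom ≫ h.hom = _
    rw [← Category.assoc, hc1, Category.assoc, hc2, Functor.map_comp, Category.assoc]
  haveI hkm : Flat (k.left ≫ m.left) := hfl _ c (k ≫ m) ha hc hcomp
  have h5 := Groth.Agent.Lib.Helper5.FiberMor.flat_of_comp k.left m.left u (Flat.stalkMap _ u)
    (Flat.stalkMap _ u)
  rw [hu2] at h5
  exact h5

end Groth.Agent.Lib.Helper9.SpFlatFib
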