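import Mathlib
import Groth.Prelude.Def_AlgSpMor5
import Groth.Agent.Lib.Helper9SpDimFormula
import Groth.Agent.Lib.Helper3CompDim

/-!
# Relative dimension of a composite of morphisms of algebraic spaces (helper9)
-/

set_option autoImplicit false
set_option linter.style.haveILetI false
set_option backward.isDefEq.respectTransparency false
open CategoryTheory CategoryTheory.Limits AlgebraicGeometry Opposite
universe u

namespace Groth.Agent.Lib.Helper9.SpRelDimComp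

open AlgSp Groth.Agent.Lib.Helper9.SpPoint Groth.Agent.Lib.Helper9.ChartIndep
  Groth.Agent.Lib.Helper9.ChartIndepAt Groth.Agent.Lib.Helper9.SpDimFormula

variable {S : Scheme.{u}}

/-- towers of chart diagrams through any point -/
theorem exists_chartTower {X Y Z : AlgSp.Space S} (f : X ⟶ Y) (g : Y ⟶ Z) (x : Points X.obj) :
    ∃ (U V W : Over S) (a : (yon S).obj U ⟶ X.obj) (b : (yon S).obj V ⟶ Y.obj)
      (c : (yon S).obj W ⟶ Z.obj) (h₁ : U ⟶ V) (h₂ : V ⟶ W) (u : U.left),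
      RepWith @Etale a ∧ RepWith @Etale b ∧ RepWith @Etale c ∧
        a ≫ f.hom = (yon S).map h₁ ≫ b ∧ b ≫ g.hom = (yon S).map h₂ ≫ c ∧
        Points.ofPt a u = x := by
  obtain ⟨U₀, a₀, ha₀, hs₀⟩ := X.property.atlas
  obtain ⟨u₀, hu₀⟩ := exists_atlas_point a₀ hs₀ x
  obtain ⟨V, W, b, c, h₂, v, hb, hc, hcomm₂, hv⟩ := exists_chartDiagram g (Points.map f.hom x)
  have hpt : Points.ofPt (a₀ ≫ f.hom) u₀ = Points.ofPt b v := by
    rw [hv, ← hu₀, Points.map_ofPt]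
  obtain ⟨T, e, k, z, het, hTa, hcomm, hz1, hz2⟩ :=
    exists_chart_diagram f.hom a₀ ha₀ u₀ b hb v hpt
  refine ⟨T, V, W, (yon S).map e ≫ a₀, b, c, k, h₂, z, hTa, hb, hc, hcomm, hcomm₂, ?_⟩
  rw [ofPt_yon_map_comp, hz1, hu₀]

theorem main {X Y Z : AlgSp.Space S} (f : X ⟶ Y) (g : Y ⟶ Z)
    (hf : AlgSp.LocP @LocallyOfFiniteType f.hom) (hg : AlgSp.LocP @LocallyOfFiniteType g.hom)
    (x : AlgSp.Points X.obj) (a b : WithBot ℕ∞)
    (ha : AlgSp.HasAtMor (fun _ _ h u => FlatMor.fibreDimAt h u = a) f.hom x)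
    (hb : AlgSp.HasAtMor (fun _ _ h u => FlatMor.fibreDimAt h u = b) g.hom
      (AlgSp.Points.map f.hom x)) :
    AlgSp.HasAtMor (fun _ _ h u => FlatMor.fibreDimAt h u ≤ a + b) (f ≫ g).hom x ∧
    (AlgSp.IsFlatAtMor f.hom x →
      AlgSp.HasAtMor (fun _ _ h u => FlatMor.fibreDimAt h u = a + b) (f ≫ g).hom x) := by
  obtain ⟨U, V, W, p, q, r, h₁, h₂, u, hp, hq, hr, hc₁, hc₂, rfl⟩ := exists_chartTower f g x
  haveI : LocallyOfFiniteType h₁.left := hf p q h₁ hp hq hc₁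
  haveI : LocallyOfFiniteType h₂.left := hg q r h₂ hq hr hc₂
  rw [hasAtMor_fibreDimAt_iff f.hom p q h₁ u hp hq hc₁] at ha
  have hpt : Points.map f.hom (Points.ofPt p u) = Points.ofPt q (h₁.left u) := by
    rw [Points.map_ofPt, hc₁, ofPt_yon_map_comp]
  rw [hpt, hasAtMor_fibreDimAt_iff g.hom q r h₂ _ hq hr hc₂] at hb
  have key := Groth.Agent.Lib.Helper3.CompDim.fibreDimAt_comp h₁.left h₂.left u
  have hc : p ≫ (f ≫ g).hom = (yon S).map (h₁ ≫ h₂) ≫ r := by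
    change p ≫ f.hom ≫ g.hom = _
    rw [← Category.assoc, hc₁, Category.assoc, hc₂, Functor.map_comp, Category.assoc]
  rw [ha, hb] at key
  refine ⟨⟨U, W, p, r, h₁ ≫ h₂, u, hp, hr, hc, rfl, key.1⟩, fun hfl => ?_⟩
  exact ⟨U, W, p, r, h₁ ≫ h₂, u, hp, hr, hc, rfl, key.2 (hfl p q h₁ u hp hq hc₁ rfl)⟩

end Groth.Agent.Lib.Helper9.SpRelDimComp
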