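import Mathlib
import Groth.Agent.Lib.Helper9FlatPt
import Groth.Agent.Lib.Helper9SpFlatFib
import Groth.Agent.Lib.Helper9SpFibStalkBC
import Groth.Agent.Lib.Helper9SpRelDimComp
import Groth.Agent.Lib.Helper9SpPoint6
import Groth.Agent.Lib.Helper12FPDescent

/-!
# The flat locus of a morphism of algebraic spaces: openness and base change (helper9)
-/

set_option autoImplicit false
set_option linter.style.haveILetI false
set_option backward.isDefEq.respectTransparency false
open CategoryTheory CategoryTheory.Limits AlgebraicGeometry Opposite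
universe u

namespace Groth.Agent.Lib.Helper9.SpFlatLocus

open AlgSp Groth.Agent.Lib.Helper9.SpPoint Groth.Agent.Lib.Helper9.ChartIndep
  Groth.Agent.Lib.Helper9.ChartIndepAt Groth.Agent.Lib.Helper9.SpDimFormula
  Groth.Agent.Lib.Helper9.SpBaseChange Groth.Agent.Lib.Helper9.SpFlatFib
  Groth.Agent.Lib.Helper9.FlatPt Groth.Agent.Lib.Helper9.SpFibStalkBC
  Groth.Agent.Lib.Helper9.SpRelDimComp

variable {S : Scheme.{u}}

/-- chart independence of an invariant of étale squares whose lower arrow lies in a class `C` -/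
theorem chart_indep_rel {α : Type*} (C : MorphismProperty Scheme.{u})
    (Q : ∀ (U V : Scheme.{u}), (U ⟶ V) → U → α)
    (hQ : ∀ {U U' V V' : Scheme.{u}} (h : U ⟶ V) (h' : U' ⟶ V') (a : U' ⟶ U) (b : V' ⟶ V),
      Etale a → Etale b → h' ≫ b = a ≫ h → C h → ∀ u' : U', Q U V h (a u') = Q U' V' h' u')
    {X Y : Sp S} (f : X ⟶ Y) (hf : LocP C f) {U V U' V' : Over S}
    (a : (yon S).obj U ⟶ X) (b : (yon S).obj V ⟶ Y) (h : U ⟶ V) (u : U.left)
    (ha : RepWith @Etale a) (hb : RepWith @Etale b) (hcomm : a ≫ f = (yon S).map h ≫ b)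
    (a' : (yon S).obj U' ⟶ X) (b' : (yon S).obj V' ⟶ Y) (h' : U' ⟶ V') (u' : U'.left)
    (ha' : RepWith @Etale a') (hb' : RepWith @Etale b') (hcomm' : a' ≫ f = (yon S).map h' ≫ b')
    (hpt : Points.ofPt a u = Points.ofPt a' u') :
    Q U.left V.left h.left u = Q U'.left V'.left h'.left u' := by
  let A : EtOver X := EtOver.mk a ha
  let A' : EtOver X := EtOver.mk a' ha'
  let B : EtOver Y := EtOver.mk b hb
  let B' : EtOver Y := EtOver.mk b' hb'
  obtain ⟨z, hz1, hz2⟩ := exists_point_pullback a A' u u' hpt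
  let P : Over S := ha'.1.pullback a
  let pr1 : P ⟶ U := ha'.1.snd a
  let pr2 : P ⟶ U' := ha'.1.fst' a
  have hpb := ha'.1.isPullback a
  have het1 : Etale pr1.left := ha'.2 a _ _ hpb
  have hw : (yon S).map pr2 ≫ a' = (yon S).map pr1 ≫ a := by
    rw [ha'.1.map_fst']
    exact hpb.w
  have het2 : Etale pr2.left := by
    have := EtOver.etale_left (EtOver.prodSnd A A')
    exact this
  have hk : (yon S).map (pr2 ≫ h') ≫ b' = (yon S).map (pr1 ≫ h) ≫ b := by
    rw [Functor.map_comp, Category.assoc, ← hcomm', ← Category.assoc, hw, Category.assoc, hcomm,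
      Functor.map_comp, Category.assoc]
  let k : P ⟶ (EtOver.prodObj B B').obj.left := B'.property.1.lift' (pr2 ≫ h') (pr1 ≫ h) hk
  have hk1 : k ≫ (EtOver.prodFst B B').hom.left = pr1 ≫ h :=
    Functor.relativelyRepresentable.lift'_snd _ _ _ _
  have hk2 : k ≫ (EtOver.prodSnd B B').hom.left = pr2 ≫ h' :=
    Functor.relativelyRepresentable.lift'_fst _ _ _ _
  have hq1 := EtOver.etale_left (EtOver.prodFst B B')
  have hq2 := EtOver.etale_left (EtOver.prodSnd B B')
  have e1 := hQ h.left k.left pr1.left (EtOver.prodFst B B').hom.left.left het1 hq1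
    (congrArg (fun m => m.left) hk1) (hf a b h ha hb hcomm) z
  have e2 := hQ h'.left k.left pr2.left (EtOver.prodSnd B B').hom.left.left het2 hq2
    (congrArg (fun m => m.left) hk2) (hf a' b' h' ha' hb' hcomm') z
  have hz1' : pr1.left z = u := hz1
  have hz2' : pr2.left z = u' := hz2
  rw [hz1'] at e1
  rw [hz2'] at e2
  rw [e1, e2]

/-- flatness at a point of an algebraic space can be read on any chart diagram -/
theorem isFlatAtMor_iff {X Y : Sp S} (f : X ⟶ Y) (hf : LocP @LocallyOfFinitePresentation f)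
    {U V : Over S} (a : (yon S).obj U ⟶ X) (b : (yon S).obj V ⟶ Y) (k : U ⟶ V) (u : U.left)
    (ha : RepWith @Etale a) (hb : RepWith @Etale b) (hcomm : a ≫ f = (yon S).map k ≫ b) :
    IsFlatAtMor f (Points.ofPt a u) ↔ (k.left.stalkMap u).hom.Flat := by
  constructor
  · intro H
    exact H a b k u ha hb hcomm rfl
  · intro H U' V' a' b' k' u' ha' hb' hcomm' hpt
    have key := chart_indep_rel (@LocallyOfFinitePresentation)
      (fun (U V : Scheme.{u}) (h : U ⟶ V) (u : U) => (h.stalkMap u).hom.Flat)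
      (fun h h' a b ha hb comm hC u' => by
        haveI := ha
        haveI := hb
        haveI := hC
        exact propext (flat_stalkMap_etSq_iff h h' a b comm u'))
      f hf a b k u ha hb hcomm a' b' k' u' ha' hb' hcomm' hpt.symm
    show (k'.left.stalkMap u').hom.Flat
    rw [← key]
    exact H

/-- `f` is locally of finite presentation if `f ≫ h` is and `h` is locally of finite type -/
theorem locP_lfp_of_comp {X Y Z : AlgSp.Space S} (f : X ⟶ Y) (h : Y ⟶ Z)
    (hfp : LocP @LocallyOfFinitePresentation (f ≫ h).hom)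
    (hft : LocP @LocallyOfFiniteType h.hom) : LocP @LocallyOfFinitePresentation f.hom := by
  intro U V a b k ha hb hc1
  obtain ⟨T, c, hc, hcs⟩ := Z.property.atlas
  have hpb := hc.1.isPullback (b ≫ h.hom)
  have het : Etale (hc.1.snd (b ≫ h.hom)).left := hc.2 _ _ _ hpb
  have hes : Surjective (hc.1.snd (b ≫ h.hom)).left := hcs.2 _ _ _ hpb
  have hb' : RepWith @Etale ((yon S).map (hc.1.snd (b ≫ h.hom)) ≫ b) :=
    (repWith_isMultiplicative (S := S) @Etale).comp_mem _ _
      ((repWith_yon_map_iff _ _).2 het) hb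
  have hc2 : ((yon S).map (hc.1.snd (b ≫ h.hom)) ≫ b) ≫ h.hom =
      (yon S).map (hc.1.fst' (b ≫ h.hom)) ≫ c := by
    rw [Category.assoc, hc.1.map_fst']
    exact hpb.w.symm
  generalize hc.1.snd (b ≫ h.hom) = e at *
  generalize hc.1.fst' (b ≫ h.hom) = m at *
  clear hpb
  generalize hc.1.pullback (b ≫ h.hom) = V' at *
  have hsq : IsPullback (pullback.fst k e).left (pullback.snd k e).left k.left e.left :=
    (IsPullback.of_hasPullback k e).map (Over.forget S)
  haveI := het
  haveI het1 : Etale (pullback.fst k e).left :=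
    MorphismProperty.of_isPullback (P := @Etale) hsq.flip het
  haveI hes1 : Surjective (pullback.fst k e).left :=
    MorphismProperty.of_isPullback (P := @Surjective) hsq.flip hes
  have ha' : RepWith @Etale ((yon S).map (pullback.fst k e) ≫ a) :=
    (repWith_isMultiplicative (S := S) @Etale).comp_mem _ _
      ((repWith_yon_map_iff _ _).2 het1) ha
  have hcomp : ((yon S).map (pullback.fst k e) ≫ a) ≫ (f ≫ h).hom =
      (yon S).map (pullback.snd k e ≫ m) ≫ c := by
    change ((yon S).map (pullback.fst k e) ≫ a) ≫ f.hom ≫ h.hom = _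
    rw [Category.assoc, ← Category.assoc a, hc1, Category.assoc, ← Category.assoc,
      ← Functor.map_comp, pullback.condition, Functor.map_comp, Category.assoc,
      ← Category.assoc ((yon S).map e), hc2, Functor.map_comp, Category.assoc]
  have h1 : LocallyOfFinitePresentation ((pullback.snd k e).left ≫ m.left) :=
    hfp _ c (pullback.snd k e ≫ m) ha' hc hcomp
  have h2 : LocallyOfFiniteType m.left := hft _ c m hb' hc hc2
  haveI h3 : LocallyOfFinitePresentation (pullback.snd k e).left :=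
    Groth.Agent.Lib.Helper6.locallyOfFinitePresentation_of_comp h2 h1
  haveI : LocallyOfFinitePresentation ((pullback.fst k e).left ≫ k.left) := by
    rw [hsq.w]
    infer_instance
  exact Groth.Agent.Lib.Helper12.FPDescent.locallyOfFinitePresentation_of_etale_cover_source
    (pullback.fst k e).left k.left

/-- the flat locus is open -/
theorem isOpen_flatLocus {X Y : AlgSp.Space S} (f : X ⟶ Y)
    (hf : LocP @LocallyOfFinitePresentation f.hom) :
    IsOpen {x : AlgSp.Points X.obj | AlgSp.IsFlatAtMor f.hom x} := by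
  rw [isOpen_iff_forall_mem_open]
  intro x hx
  obtain ⟨U, V, a, b, k, u, ha, hb, hcomm, rfl⟩ := exists_chartDiagram f x
  haveI : LocallyOfFinitePresentation k.left := hf a b k ha hb hcomm
  refine ⟨Points.ofPt a '' {t : U.left | (k.left.stalkMap t).hom.Flat}, ?_, ?_, ?_⟩
  · rintro _ ⟨t, ht, rfl⟩
    exact (isFlatAtMor_iff f.hom hf a b k t ha hb hcomm).2 ht
  · exact isOpenMap_ofPt (EtOver.mk a ha) _ (Groth.Agent.S0386.result k.left)
  · exact ⟨u, (isFlatAtMor_iff f.hom hf a b k u ha hb hcomm).1 hx, rfl⟩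

/-- base change of the flat locus -/
theorem isFlatAtMor_baseChange_iff {X Y Z X' Y' Z' : AlgSp.Space S} (f : X ⟶ Y) (h : Y ⟶ Z)
    (hfp : AlgSp.LocP @LocallyOfFinitePresentation (f ≫ h).hom)
    (hfl : AlgSp.LocP @Flat (f ≫ h).hom) (hft : AlgSp.LocP @LocallyOfFiniteType h.hom)
    (g : Z' ⟶ Z) (f' : X' ⟶ Y') (h' : Y' ⟶ Z') (pX : X' ⟶ X) (pY : Y' ⟶ Y)
    (sq1 : IsPullback pY.hom h'.hom h.hom g.hom) (sq2 : IsPullback pX.hom f'.hom f.hom pY.hom)
    (x' : AlgSp.Points X'.obj) :
    AlgSp.IsFlatAtMor f'.hom x' ↔ AlgSp.IsFlatAtMor f.hom (AlgSp.Points.map pX.hom x') := by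
  have hlfp : LocP @LocallyOfFinitePresentation f.hom := locP_lfp_of_comp f h hfp hft
  have hlfp' : LocP @LocallyOfFinitePresentation f'.hom :=
    Groth.Agent.S9984.result _ (Or.inr (Or.inl rfl)) f pY pX f' sq2 hlfp
  have sqO : IsPullback pX.hom (f' ≫ h').hom (f ≫ h).hom g.hom := sq2.paste_vert sq1
  obtain ⟨U, V, T, a, b, c, k, m, u, ha, hb, hc, hc1, hc2, hux⟩ :=
    exists_chartTower f h (Points.map pX.hom x')
  have hcomp : a ≫ (f ≫ h).hom = (yon S).map (k ≫ m) ≫ c := by
    change a ≫ f.hom ≫ h.hom = _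
    rw [← Category.assoc, hc1, Category.assoc, hc2, Functor.map_comp, Category.assoc]
  haveI : LocallyOfFinitePresentation (k.left ≫ m.left) := hfp a c (k ≫ m) ha hc hcomp
  haveI : LocallyOfFiniteType m.left := hft b c m hb hc hc2
  haveI : Flat (k.left ≫ m.left) := hfl a c (k ≫ m) ha hc hcomp
  obtain ⟨T', c', n, a'', p', hc', hn, ha'', h1, h2, hp', hp'u⟩ :=
    exists_bc_chartDiagram (f ≫ h) g pX (f' ≫ h') sqO x' a c (k ≫ m) u ha hc hcomp hux
  obtain ⟨b'', hb'', h3, h4⟩ := exists_chart_baseChange Y.property Z.property h.hom g.hom pY.hom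
    h'.hom sq1 b c m hb hc hc2 c' n hc' hn
  have hw : (pullback.fst (k ≫ m) n ≫ k) ≫ m = pullback.snd (k ≫ m) n ≫ n := by
    rw [Category.assoc]
    exact pullback.condition
  obtain ⟨k'', hk''⟩ : ∃ k'' : pullback (k ≫ m) n ⟶ pullback m n,
      k'' = pullback.lift (pullback.fst (k ≫ m) n ≫ k) (pullback.snd (k ≫ m) n) hw := ⟨_, rfl⟩
  have hk1 : k'' ≫ pullback.fst m n = pullback.fst (k ≫ m) n ≫ k := by
    rw [hk'', pullback.lift_fst]
  have hk2 : k'' ≫ pullback.snd m n = pullback.snd (k ≫ m) n := by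
    rw [hk'', pullback.lift_snd]
  have hcomm'' : a'' ≫ f'.hom = (yon S).map k'' ≫ b'' := by
    apply sq1.hom_ext
    · rw [Category.assoc, ← sq2.w, ← Category.assoc, h1, Category.assoc, hc1, Category.assoc, h3,
        ← Category.assoc, ← Category.assoc, ← Functor.map_comp, ← Functor.map_comp, hk1]
    · rw [Category.assoc ((yon S).map k''), h4, ← Category.assoc ((yon S).map k''),
        ← Functor.map_comp, hk2, Category.assoc]
      exact h2
  have sqU : IsPullback (pullback.fst (k ≫ m) n).left (pullback.snd (k ≫ m) n).left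
      (k.left ≫ m.left) n.left :=
    (IsPullback.of_hasPullback (k ≫ m) n).map (Over.forget S)
  have sqV : IsPullback (pullback.fst m n).left (pullback.snd m n).left m.left n.left :=
    (IsPullback.of_hasPullback m n).map (Over.forget S)
  have key := flat_stalkMap_baseChange_iff k.left m.left n.left _ _ _ _ k''.left sqU sqV
    (congrArg (fun t => t.left) hk1) (congrArg (fun t => t.left) hk2) p'
  rw [← hp', isFlatAtMor_iff f'.hom hlfp' a'' b'' k'' p' ha'' hb'' hcomm'', key, hp',
    ← hux, isFlatAtMor_iff f.hom hlfp a b k u ha hb hc1]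
  have : (pullback.fst (k ≫ m) n).left p' = u := hp'u
  rw [this]

theorem main10609 {X Y Z : AlgSp.Space S} (f : X ⟶ Y) (h : Y ⟶ Z)
    (hfp : AlgSp.LocP @LocallyOfFinitePresentation (f ≫ h).hom) (hfl : AlgSp.LocP @Flat (f ≫ h).hom)
    (hft : AlgSp.LocP @LocallyOfFiniteType h.hom) :
    IsOpen {x : AlgSp.Points X.obj | AlgSp.IsFlatAtMor f.hom x} ∧
    ∀ (X' Y' Z' : AlgSp.Space S) (g : Z' ⟶ Z) (f' : X' ⟶ Y') (h' : Y' ⟶ Z') (pX : X' ⟶ X) (pY : Y' ⟶ Y),
      IsPullback pY.hom h'.hom h.hom g.hom → IsPullback pX.hom f'.hom f.hom pY.hom →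
      {x' : AlgSp.Points X'.obj | AlgSp.IsFlatAtMor f'.hom x'} =
        AlgSp.Points.map pX.hom ⁻¹' {x : AlgSp.Points X.obj | AlgSp.IsFlatAtMor f.hom x} := by
  refine ⟨isOpen_flatLocus f (locP_lfp_of_comp f h hfp hft), ?_⟩
  intro X' Y' Z' g f' h' pX pY sq1 sq2
  ext x'
  exact isFlatAtMor_baseChange_iff f h hfp hfl hft g f' h' pX pY sq1 sq2 x'

end Groth.Agent.Lib.Helper9.SpFlatLocus
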