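import Mathlib
import Groth.Agent.Lib.Helper9SpFibreDim2
import Groth.Agent.S1240

/-!
# Relative dimension `≤ d` over a dense open subspace of the target (helper9)
-/

set_option autoImplicit false
set_option linter.style.haveILetI false
set_option backward.isDefEq.respectTransparency false
open CategoryTheory CategoryTheory.Limits AlgebraicGeometry Opposite
universe u

namespace Groth.Agent.Lib.Helper9.SpRelDimDense

open AlgSp Groth.Agent.Lib.Helper9.SpPoint Groth.Agent.Lib.Helper9.ChartIndep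
  Groth.Agent.Lib.Helper9.ChartIndepAt Groth.Agent.Lib.Helper9.SpDimFormula
  Groth.Agent.Lib.Helper9.SpQfAt Groth.Agent.Lib.Helper9.SpBaseChange
  Groth.Agent.Lib.Helper9.SpFibreDim

variable {S : Scheme.{u}}

/-- conditions on the relative dimension at a point are insensitive to base change -/
theorem hasAtMor_fibreDimAt_baseChange_iff (R : WithBot ℕ∞ → Prop)
    {X Y Y' X' : AlgSp.Space S} (f : X ⟶ Y) (g : Y' ⟶ Y)
    (g' : X' ⟶ X) (f' : X' ⟶ Y') (sq : IsPullback g'.hom f'.hom f.hom g.hom)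
    (hf : AlgSp.LocP @LocallyOfFiniteType f.hom) (x' : AlgSp.Points X'.obj) :
    AlgSp.HasAtMor (fun _ _ h u => R (FlatMor.fibreDimAt h u)) f'.hom x' ↔
      AlgSp.HasAtMor (fun _ _ h u => R (FlatMor.fibreDimAt h u)) f.hom
        (AlgSp.Points.map g'.hom x') := by
  obtain ⟨U, V, a, b, h, u, ha, hb, hcomm, hux⟩ := exists_chartDiagram f (Points.map g'.hom x')
  have hd : AlgSp.HasAtMor (fun _ _ h' u' => FlatMor.fibreDimAt h' u' =
      FlatMor.fibreDimAt h.left u) f.hom (Points.map g'.hom x') :=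
    ⟨U, V, a, b, h, u, ha, hb, hcomm, hux, rfl⟩
  obtain ⟨U', V', a', b', h', u', ha', hb', hcomm', hux', hdim⟩ :=
    main10311 f g g' f' sq hf x' _ hd
  have e1 := hasAtMor_iff (fun (U V : Scheme.{u}) (h : U ⟶ V) (u : U) => FlatMor.fibreDimAt h u)
    etSqInv_fibreDimAt R f.hom a b h u ha hb hcomm
  have e2 := hasAtMor_iff (fun (U V : Scheme.{u}) (h : U ⟶ V) (u : U) => FlatMor.fibreDimAt h u)
    etSqInv_fibreDimAt R f'.hom a' b' h' u' ha' hb' hcomm'
  rw [← hux, ← hux', e1, e2, hdim]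

theorem main10653 {X Y V : AlgSp.Space S} (f : X ⟶ Y) (j : V ⟶ Y) (d : ℕ)
    (hf1 : AlgSp.LocP @Flat f.hom) (hf2 : AlgSp.LocP @LocallyOfFiniteType f.hom)
    (hj1 : AlgSp.RepWith @IsOpenImmersion j.hom)
    (hj2 : Dense (Set.range (AlgSp.Points.map j.hom)))
    (P : AlgSp.Space S) (fst : P ⟶ X) (snd : P ⟶ V)
    (hP : IsPullback fst.hom snd.hom f.hom j.hom)
    (hV : ∀ x, AlgSp.HasAtMor (fun _ _ h u => FlatMor.fibreDimAt h u ≤ (d : WithBot ℕ∞))
      snd.hom x)
    (h : AlgSp.LocP @LocallyOfFinitePresentation f.hom ∨ AlgSp.IsQuasiCompactMor j.hom) :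
    ∀ x, AlgSp.HasAtMor (fun _ _ h u => FlatMor.fibreDimAt h u ≤ (d : WithBot ℕ∞)) f.hom x := by
  intro x
  obtain ⟨U₁, V₁, a, b, k, u, ha, hb, hcomm, rfl⟩ := exists_chartDiagram f x
  haveI : Flat k.left := hf1 a b k ha hb hcomm
  haveI : LocallyOfFiniteType k.left := hf2 a b k ha hb hcomm
  rw [hasAtMor_fibreDimAt_le_iff f.hom a b k u ha hb hcomm]
  have hjet : RepWith @Etale j.hom :=
    Groth.Agent.Lib.Helper15OpenSub.repWith_mono
      (fun A B g hg => by haveI := hg; infer_instance) hj1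
  have hjopen : IsOpenMap (Points.map j.hom) :=
    Groth.Agent.S9908.isOpenMap_map_of_repWith _
      (Groth.Agent.S10211.repWith_universallyOpen_of_etale hjet)
  have hWo : IsOpen (Points.ofPt b ⁻¹' Set.range (Points.map j.hom)) :=
    (hjopen.isOpen_range).preimage (Points.continuous_ofPt b)
  let W : V₁.left.Opens := ⟨Points.ofPt b ⁻¹' Set.range (Points.map j.hom), hWo⟩
  have hWd : Dense (W : Set V₁.left) := hj2.preimage (isOpenMap_ofPt (EtOver.mk b hb))
  have hle : ∀ t : U₁.left, k.left t ∈ W →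
      FlatMor.fibreDimAt k.left t ≤ ((d : ℕ) : WithBot ℕ∞) := by
    intro t ht
    obtain ⟨v', hv'⟩ := ht
    have e : Points.map f.hom (Points.ofPt a t) = Points.map j.hom v' := by
      rw [hv', Points.map_ofPt, hcomm, ofPt_yon_map_comp]
    obtain ⟨p, hp1, -⟩ := Groth.Agent.S10175.exists_point_of_isPullback hP _ _ e
    have := (hasAtMor_fibreDimAt_baseChange_iff (fun v => v ≤ (d : WithBot ℕ∞)) f j fst snd hP
      hf2 p).1 (hV p)
    rw [hp1] at this
    exact (hasAtMor_fibreDimAt_le_iff f.hom a b k t ha hb hcomm _).1 this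
  refine Groth.Agent.S1240.result k.left W hWd d hle ?_ u
  rcases h with hlfp | hqc
  · exact Or.inl (hlfp a b k ha hb hcomm)
  · right
    intro K hKc hKo
    -- the open subscheme `K` of `V₁`
    let Ko : V₁.left.Opens := ⟨K, hKo⟩
    let KO : Over S := Over.mk (Ko.ι ≫ V₁.hom)
    let ι : KO ⟶ V₁ := Over.homMk Ko.ι rfl
    haveI : CompactSpace KO.left := isCompact_iff_compactSpace.mp hKc
    have hKqc : IsQuasiCompactSp ((yon S).obj KO) :=
      ⟨KO, 𝟙 _, repWith_id _ _, repWith_id _ _, inferInstance⟩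
    have hpb := IsPullback.of_hasPullback j.hom ((yon S).map ι ≫ b)
    obtain ⟨T, c, hc, hcs, hTc⟩ := hqc (IsAlgSpace.yon_obj KO) hKqc ((yon S).map ι ≫ b) _ _ hpb
    haveI : CompactSpace T.left := hTc
    obtain ⟨τ, hτ⟩ := (yon S).map_surjective (c ≫ pullback.snd j.hom ((yon S).map ι ≫ b))
    have himg : (W : Set V₁.left) ∩ K = Set.range (τ.left ≫ Ko.ι) := by
      ext v
      constructor
      · rintro ⟨⟨v', hv'⟩, hvK⟩
        -- the point `⟨v, hvK⟩` of `K`
        let vk : KO.left := ⟨v, hvK⟩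
        have e : Points.map j.hom v' =
            Points.map ((yon S).map ι ≫ b) (Points.ofScheme KO vk) := by
          rw [← Points.ofPt_eq_map_ofScheme, ofPt_yon_map_comp]
          exact hv'
        obtain ⟨q, hq2, -⟩ := Groth.Agent.S10175.exists_point_of_isPullback hpb.flip _ _ e.symm
        obtain ⟨t, ht⟩ := exists_atlas_point c hcs q
        refine ⟨t, ?_⟩
        have h1 : Points.ofPt ((yon S).map τ) t = Points.ofScheme KO vk := by
          rw [hτ, ← Points.map_ofPt, ht, hq2]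
        have h2 := congrArg (Points.toScheme KO) h1
        rw [Points.toScheme_ofPt, Points.toScheme_ofScheme] at h2
        rw [Scheme.Hom.comp_apply, h2]
        rfl
      · rintro ⟨t, rfl⟩
        refine ⟨?_, (τ.left t).2⟩
        show Points.ofPt b ((τ.left ≫ Ko.ι) t) ∈ Set.range (Points.map j.hom)
        have h1 : Points.ofPt b ((τ.left ≫ Ko.ι) t) =
            Points.ofPt ((yon S).map (τ ≫ ι) ≫ b) t := by
          rw [ofPt_yon_map_comp]
          rfl
        rw [h1, Functor.map_comp, Category.assoc, hτ, Category.assoc, ← pullback.condition,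
          ← Category.assoc, ← Points.map_ofPt]
        exact ⟨_, rfl⟩
    rw [himg]
    exact isCompact_range (τ.left ≫ Ko.ι).continuous

end Groth.Agent.Lib.Helper9.SpRelDimDense
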