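import Mathlib
import Groth.Agent.Lib.Helper9SpFlatFib
import Groth.Agent.S9984
import Groth.Agent.S1312
import Groth.Agent.S1314

/-!
# Morphisms of thickenings of algebraic spaces: base change of chart diagrams (helper9)
-/

set_option autoImplicit false
set_option linter.style.haveILetI false
set_option backward.isDefEq.respectTransparency false
open CategoryTheory CategoryTheory.Limits AlgebraicGeometry Opposite
universe u

namespace Groth.Agent.Lib.Helper9.SpThick

open AlgSp Groth.Agent.Lib.Helper9.SpPoint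

variable {S : Scheme.{u}}

/-- base change of a chart diagram of `f'` to a cartesian morphism of thickenings -/
theorem exists_thick_chart {X X' Y Y' : AlgSp.Space S} (i : X ⟶ X') (j : Y ⟶ Y') (f : X ⟶ Y)
    (f' : X' ⟶ Y') (hi : AlgSp.IsThickMor i.hom) (hj : AlgSp.IsThickMor j.hom)
    (hcart : IsPullback i.hom f.hom f'.hom j.hom)
    {U' V' : Over S} (a' : (yon S).obj U' ⟶ X'.obj) (b' : (yon S).obj V' ⟶ Y'.obj) (k' : U' ⟶ V')
    (ha' : RepWith @Etale a') (hb' : RepWith @Etale b')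
    (hc' : a' ≫ f'.hom = (yon S).map k' ≫ b') :
    ∃ (U V : Over S) (iU : U ⟶ U') (iV : V ⟶ V') (a : (yon S).obj U ⟶ X.obj)
      (b : (yon S).obj V ⟶ Y.obj) (k : U ⟶ V),
      RepWith @Etale a ∧ RepWith @Etale b ∧ a ≫ f.hom = (yon S).map k ≫ b ∧
      MoreMor.IsThickening iU.left ∧ MoreMor.IsThickening iV.left ∧
      IsPullback iU.left k.left k'.left iV.left ∧
      a ≫ i.hom = (yon S).map iU ≫ a' ∧ b ≫ j.hom = (yon S).map iV ≫ b' := by
  have hpbU := hi.1.isPullback a'
  have hpbV := hj.1.isPullback b'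
  have hthU : MoreMor.IsThickening (hi.1.snd a').left := hi.2 _ _ _ hpbU
  have hthV : MoreMor.IsThickening (hj.1.snd b').left := hj.2 _ _ _ hpbV
  have haU : RepWith @Etale (hi.1.fst a') :=
    MorphismProperty.of_isPullback (P := AlgSp.RepWith @Etale) hpbU.flip ha'
  have hbV : RepWith @Etale (hj.1.fst b') :=
    MorphismProperty.of_isPullback (P := AlgSp.RepWith @Etale) hpbV.flip hb'
  have hcomp : (hi.1.fst a' ≫ f.hom) ≫ j.hom = (yon S).map (hi.1.snd a' ≫ k') ≫ b' := by
    rw [Category.assoc, ← hcart.w, ← Category.assoc, hpbU.w, Category.assoc, hc', Functor.map_comp,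
      Category.assoc]
  obtain ⟨k, hk⟩ : ∃ k : hi.1.pullback a' ⟶ hj.1.pullback b',
      k = hj.1.lift (hi.1.fst a' ≫ f.hom) (hi.1.snd a' ≫ k') hcomp := ⟨_, rfl⟩
  have hk1 : (yon S).map k ≫ hj.1.fst b' = hi.1.fst a' ≫ f.hom := by
    rw [hk]
    exact Functor.relativelyRepresentable.lift_fst _ _ _ _
  have hk2 : k ≫ hj.1.snd b' = hi.1.snd a' ≫ k' := by
    rw [hk]
    exact Functor.relativelyRepresentable.lift_snd _ _ _ _
  refine ⟨hi.1.pullback a', hj.1.pullback b', hi.1.snd a', hj.1.snd b', hi.1.fst a', hj.1.fst b', k,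
    haU, hbV, hk1.symm, hthU, hthV, ?_, hpbU.w, hpbV.w⟩
  -- the cartesian square
  have big : IsPullback (hi.1.fst a' ≫ f.hom) ((yon S).map (hi.1.snd a')) j.hom (a' ≫ f'.hom) :=
    hpbU.paste_horiz hcart.flip
  rw [← hk1, hc'] at big
  have left : IsPullback ((yon S).map k) ((yon S).map (hi.1.snd a')) ((yon S).map (hj.1.snd b'))
      ((yon S).map k') := by
    refine IsPullback.of_right big ?_ hpbV
    rw [← Functor.map_comp, ← Functor.map_comp, hk2]
  have left' : IsPullback k (hi.1.snd a') (hj.1.snd b') k' :=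
    IsPullback.of_map (yon S) hk2 left
  exact (left'.map (Over.forget S)).flip

theorem main10593 {X X' Y Y' : AlgSp.Space S} (i : X ⟶ X') (j : Y ⟶ Y')
    (f : X ⟶ Y) (f' : X' ⟶ Y')
    (hi : AlgSp.IsThickMor i.hom)
    (hj : AlgSp.IsThickMor j.hom)
    (hcart : IsPullback i.hom f.hom f'.hom j.hom)
    (hft : AlgSp.LocP @LocallyOfFiniteType f.hom) (hft' : AlgSp.LocP @LocallyOfFiniteType f'.hom) :
    (AlgSp.LocP (@LocallyQuasiFinite ⊓ @LocallyOfFiniteType) f.hom ↔
      AlgSp.LocP (@LocallyQuasiFinite ⊓ @LocallyOfFiniteType) f'.hom) ∧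
    (AlgSp.LocP (@LocallyOfFiniteType ⊓ @FormallyUnramified) f.hom ↔
      AlgSp.LocP (@LocallyOfFiniteType ⊓ @FormallyUnramified) f'.hom) := by
  refine ⟨⟨fun H => ?_, fun H => ?_⟩, ⟨fun H => ?_, fun H => ?_⟩⟩
  · intro U' V' a' b' k' ha' hb' hc'
    obtain ⟨U, V, iU, iV, a, b, k, ha, hb, hc, hthU, hthV, hsq, -, -⟩ :=
      exists_thick_chart i j f f' hi hj hcart a' b' k' ha' hb' hc'
    haveI : LocallyOfFiniteType k.left := hft a b k ha hb hc
    haveI : LocallyOfFiniteType k'.left := hft' a' b' k' ha' hb' hc'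
    have h1 := H a b k ha hb hc
    exact ⟨(Groth.Agent.S1312.result iU.left iV.left k.left k'.left hthV hsq).1 h1.1, inferInstance⟩
  · exact Groth.Agent.S9984.result _
      (Or.inr (Or.inr (Or.inr (Or.inr (Or.inr (Or.inl (fun A B g => Iff.rfl)))))))
      f' j i f hcart H
  · intro U' V' a' b' k' ha' hb' hc'
    obtain ⟨U, V, iU, iV, a, b, k, ha, hb, hc, hthU, hthV, hsq, -, -⟩ :=
      exists_thick_chart i j f f' hi hj hcart a' b' k' ha' hb' hc'
    haveI : LocallyOfFiniteType k.left := hft a b k ha hb hc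
    haveI : LocallyOfFiniteType k'.left := hft' a' b' k' ha' hb' hc'
    have h1 := H a b k ha hb hc
    exact ⟨inferInstance, (Groth.Agent.S1314.result iU.left iV.left k.left k'.left hthV hsq).1 h1.2⟩
  · exact Groth.Agent.S9984.result _
      (Or.inr (Or.inr (Or.inr (Or.inr (Or.inr (Or.inr (fun A B g => Iff.rfl)))))))
      f' j i f hcart H

end Groth.Agent.Lib.Helper9.SpThick
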