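import Mathlib
import Groth.Agent.Lib.Helper9SpThick
import Groth.Agent.Lib.Helper9SpFlatLocus
import Groth.Agent.Lib.Helper9SpRelDimDense
import Groth.Agent.S9947
import Groth.Agent.S10554
import Groth.Agent.S1381
import Groth.Agent.S1384
import Groth.Agent.S1385

/-!
# Deformations over a thickening of the base: chart towers (helper9)
-/

set_option autoImplicit false
set_option linter.style.haveILetI false
set_option backward.isDefEq.respectTransparency false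
open CategoryTheory CategoryTheory.Limits AlgebraicGeometry Opposite
universe u

namespace Groth.Agent.Lib.Helper9.SpDeform

open AlgSp Groth.Agent.Lib.Helper9.SpPoint Groth.Agent.Lib.Helper9.SpBaseChange
  Groth.Agent.Lib.Helper9.SpFlatFib

variable {S : Scheme.{u}}

/-- a chart tower whose source chart is an atlas -/
theorem exists_atlas_tower {X Y Z : AlgSp.Space S} (f : X ⟶ Y) (g : Y ⟶ Z) :
    ∃ (U V T : Over S) (a : (yon S).obj U ⟶ X.obj) (b : (yon S).obj V ⟶ Y.obj)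
      (c : (yon S).obj T ⟶ Z.obj) (k : U ⟶ V) (m : V ⟶ T),
      RepWith @Etale a ∧ RepWith @Surjective a ∧ RepWith @Etale b ∧ RepWith @Etale c ∧
        a ≫ f.hom = (yon S).map k ≫ b ∧ b ≫ g.hom = (yon S).map m ≫ c := by
  obtain ⟨U₀, a₀, ha₀, hs₀⟩ := X.property.atlas
  obtain ⟨V₀, b₀, hb₀, hsb₀⟩ := Y.property.atlas
  obtain ⟨T₀, c₀, hc₀, hsc₀⟩ := Z.property.atlas
  -- step 1
  have hpb1 := hc₀.1.isPullback (b₀ ≫ g.hom)
  have het1 : Etale (hc₀.1.snd (b₀ ≫ g.hom)).left := hc₀.2 _ _ _ hpb1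
  have hes1 : Surjective (hc₀.1.snd (b₀ ≫ g.hom)).left := hsc₀.2 _ _ _ hpb1
  have hb₁ : RepWith @Etale ((yon S).map (hc₀.1.snd (b₀ ≫ g.hom)) ≫ b₀) :=
    (repWith_isMultiplicative (S := S) @Etale).comp_mem _ _
      ((repWith_yon_map_iff _ _).2 het1) hb₀
  have hsb₁ : RepWith @Surjective ((yon S).map (hc₀.1.snd (b₀ ≫ g.hom)) ≫ b₀) :=
    (repWith_isMultiplicative (S := S) @Surjective).comp_mem _ _
      ((repWith_yon_map_iff _ _).2 hes1) hsb₀
  have hc2 : ((yon S).map (hc₀.1.snd (b₀ ≫ g.hom)) ≫ b₀) ≫ g.hom =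
      (yon S).map (hc₀.1.fst' (b₀ ≫ g.hom)) ≫ c₀ := by
    rw [Category.assoc, hc₀.1.map_fst']
    exact hpb1.w.symm
  generalize hc₀.1.snd (b₀ ≫ g.hom) = e₁ at *
  generalize hc₀.1.fst' (b₀ ≫ g.hom) = m at *
  clear hpb1
  generalize hc₀.1.pullback (b₀ ≫ g.hom) = V₁ at *
  obtain ⟨b₁, hb₁def⟩ : ∃ b₁ : (yon S).obj V₁ ⟶ Y.obj, b₁ = (yon S).map e₁ ≫ b₀ := ⟨_, rfl⟩
  rw [← hb₁def] at hb₁ hsb₁ hc2
  -- step 2
  have hpb2 := hb₁.1.isPullback (a₀ ≫ f.hom)
  have het2 : Etale (hb₁.1.snd (a₀ ≫ f.hom)).left := hb₁.2 _ _ _ hpb2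
  have hes2 : Surjective (hb₁.1.snd (a₀ ≫ f.hom)).left := hsb₁.2 _ _ _ hpb2
  have ha₁ : RepWith @Etale ((yon S).map (hb₁.1.snd (a₀ ≫ f.hom)) ≫ a₀) :=
    (repWith_isMultiplicative (S := S) @Etale).comp_mem _ _
      ((repWith_yon_map_iff _ _).2 het2) ha₀
  have hsa₁ : RepWith @Surjective ((yon S).map (hb₁.1.snd (a₀ ≫ f.hom)) ≫ a₀) :=
    (repWith_isMultiplicative (S := S) @Surjective).comp_mem _ _
      ((repWith_yon_map_iff _ _).2 hes2) hs₀
  have hc1 : ((yon S).map (hb₁.1.snd (a₀ ≫ f.hom)) ≫ a₀) ≫ f.hom =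
      (yon S).map (hb₁.1.fst' (a₀ ≫ f.hom)) ≫ b₁ := by
    rw [Category.assoc, hb₁.1.map_fst']
    exact hpb2.w.symm
  exact ⟨_, V₁, T₀, _, b₁, c₀, _, m, ha₁, hsa₁, hb₁, hc₀, hc1, hc2⟩

/-- base change of a chart tower along a thickening of the base -/
theorem exists_thick_tower {X X' Y Y' B B' : AlgSp.Space S} (iX : X ⟶ X') (iY : Y ⟶ Y')
    (iB : B ⟶ B') (f : X ⟶ Y) (f' : X' ⟶ Y') (g : Y ⟶ B) (g' : Y' ⟶ B')
    (hcX : IsPullback iX.hom (f ≫ g).hom (f' ≫ g').hom iB.hom)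
    (hcY : IsPullback iY.hom g.hom g'.hom iB.hom) (w : iX ≫ f' = f ≫ iY)
    (hB : AlgSp.IsThickMor iB.hom) {U' V' T' : Over S}
    (a' : (yon S).obj U' ⟶ X'.obj) (b' : (yon S).obj V' ⟶ Y'.obj) (c' : (yon S).obj T' ⟶ B'.obj)
    (k' : U' ⟶ V') (m' : V' ⟶ T')
    (ha' : RepWith @Etale a') (hb' : RepWith @Etale b') (hc' : RepWith @Etale c')
    (hc1' : a' ≫ f'.hom = (yon S).map k' ≫ b') (hc2' : b' ≫ g'.hom = (yon S).map m' ≫ c') :
    ∃ (U V T : Over S) (iU : U ⟶ U') (iV : V ⟶ V') (iT : T ⟶ T') (a : (yon S).obj U ⟶ X.obj)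
      (b : (yon S).obj V ⟶ Y.obj) (c : (yon S).obj T ⟶ B.obj) (k : U ⟶ V) (m : V ⟶ T),
      RepWith @Etale a ∧ RepWith @Etale b ∧ RepWith @Etale c ∧
      a ≫ f.hom = (yon S).map k ≫ b ∧ b ≫ g.hom = (yon S).map m ≫ c ∧
      MoreMor.IsThickening iT.left ∧
      IsPullback iU.left (k.left ≫ m.left) (k'.left ≫ m'.left) iT.left ∧
      IsPullback iV.left m.left m'.left iT.left ∧
      iU.left ≫ k'.left = k.left ≫ iV.left ∧
      a ≫ iX.hom = (yon S).map iU ≫ a' := by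
  have hpbT := hB.1.isPullback c'
  have hthT : MoreMor.IsThickening (hB.1.snd c').left := hB.2 _ _ _ hpbT
  have hcT : RepWith @Etale (hB.1.fst c') :=
    MorphismProperty.of_isPullback (P := AlgSp.RepWith @Etale) hpbT.flip hc'
  have hwT : hB.1.fst c' ≫ iB.hom = (yon S).map (hB.1.snd c') ≫ c' := hpbT.w
  generalize hB.1.snd c' = iT at *
  generalize hB.1.fst c' = c at *
  clear hpbT
  generalize hB.1.pullback c' = T at *
  have hcomp' : a' ≫ (f' ≫ g').hom = (yon S).map (k' ≫ m') ≫ c' := by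
    change a' ≫ f'.hom ≫ g'.hom = _
    rw [← Category.assoc, hc1', Category.assoc, hc2', Functor.map_comp, Category.assoc]
  obtain ⟨b, hb, hb1, hb2⟩ := exists_chart_baseChange Y'.property B'.property g'.hom iB.hom
    iY.hom g.hom hcY b' c' m' hb' hc' hc2' c iT hcT hwT
  obtain ⟨a, ha, ha1, ha2⟩ := exists_chart_baseChange X'.property B'.property (f' ≫ g').hom
    iB.hom iX.hom (f ≫ g).hom hcX a' c' (k' ≫ m') ha' hc' hcomp' c iT hcT hwT
  have hw : (pullback.fst (k' ≫ m') iT ≫ k') ≫ m' = pullback.snd (k' ≫ m') iT ≫ iT := by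
    rw [Category.assoc]
    exact pullback.condition
  obtain ⟨k, hk⟩ : ∃ k : pullback (k' ≫ m') iT ⟶ pullback m' iT,
      k = pullback.lift (pullback.fst (k' ≫ m') iT ≫ k') (pullback.snd (k' ≫ m') iT) hw := ⟨_, rfl⟩
  have hk1 : k ≫ pullback.fst m' iT = pullback.fst (k' ≫ m') iT ≫ k' := by
    rw [hk, pullback.lift_fst]
  have hk2 : k ≫ pullback.snd m' iT = pullback.snd (k' ≫ m') iT := by
    rw [hk, pullback.lift_snd]
  have hc1 : a ≫ f.hom = (yon S).map k ≫ b := by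
    apply hcY.hom_ext
    · have hw' : iX.hom ≫ f'.hom = f.hom ≫ iY.hom := congrArg (fun t => t.hom) w
      rw [Category.assoc, ← hw', ← Category.assoc, ha1, Category.assoc, hc1', Category.assoc, hb1,
        ← Category.assoc, ← Category.assoc, ← Functor.map_comp, ← Functor.map_comp, hk1]
    · rw [Category.assoc ((yon S).map k), hb2, ← Category.assoc ((yon S).map k),
        ← Functor.map_comp, hk2, Category.assoc]
      exact ha2
  have sqU : IsPullback (pullback.fst (k' ≫ m') iT).left (pullback.snd (k' ≫ m') iT).left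
      (k'.left ≫ m'.left) iT.left :=
    (IsPullback.of_hasPullback (k' ≫ m') iT).map (Over.forget S)
  have sqV : IsPullback (pullback.fst m' iT).left (pullback.snd m' iT).left m'.left iT.left :=
    (IsPullback.of_hasPullback m' iT).map (Over.forget S)
  refine ⟨pullback (k' ≫ m') iT, pullback m' iT, T, pullback.fst _ _, pullback.fst _ _, iT, a, b, c,
    k, pullback.snd m' iT, ha, hb, hcT, hc1, hb2, hthT, ?_, sqV, ?_, ha1⟩
  · have : k.left ≫ (pullback.snd m' iT).left = (pullback.snd (k' ≫ m') iT).left :=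
      congrArg (fun t => t.left) hk2
    rw [this]
    exact sqU
  · exact (congrArg (fun t => t.left) hk1).symm

/-- the seven classes of morphisms étale local on source and target -/
def Seven (P : MorphismProperty Scheme.{u}) : Prop :=
  P = @LocallyOfFiniteType ∨ P = @LocallyOfFinitePresentation ∨ P = @Flat ∨ P = @Smooth ∨ P = @Etale ∨
      (∀ ⦃A B : Scheme.{u}⦄ (g : A ⟶ B), P g ↔ (LocallyQuasiFinite g ∧ LocallyOfFiniteType g)) ∨
      (∀ ⦃A B : Scheme.{u}⦄ (g : A ⟶ B), P g ↔ (LocallyOfFiniteType g ∧ FormallyUnramified g))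

/-- transfer of a scheme-level deformation statement to algebraic spaces -/
theorem locP_deform_iff (P : MorphismProperty Scheme.{u}) (hP : Seven P)
    (hsch : ∀ {X X' Y Y' T T' : Scheme.{u}} (iX : X ⟶ X') (iY : Y ⟶ Y') (iT : T ⟶ T')
      (f : X ⟶ Y) (f' : X' ⟶ Y') (g : Y ⟶ T) (g' : Y' ⟶ T'),
      MoreMor.IsThickening iT → IsPullback iX (f ≫ g) (f' ≫ g') iT → IsPullback iY g g' iT →
      iX ≫ f' = f ≫ iY → Flat (f' ≫ g') → LocallyOfFinitePresentation (f' ≫ g') →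
      LocallyOfFiniteType g' → (P f ↔ P f'))
    {X X' Y Y' B B' : AlgSp.Space S} (iX : X ⟶ X') (iY : Y ⟶ Y')
    (iB : B ⟶ B') (f : X ⟶ Y) (f' : X' ⟶ Y') (g : Y ⟶ B) (g' : Y' ⟶ B')
    (hcX : IsPullback iX.hom (f ≫ g).hom (f' ≫ g').hom iB.hom)
    (hcY : IsPullback iY.hom g.hom g'.hom iB.hom) (w : iX ≫ f' = f ≫ iY)
    (hB : AlgSp.IsThickMor iB.hom)
    (hg' : AlgSp.LocP @LocallyOfFiniteType g'.hom)
    (hflat : AlgSp.LocP @Flat (f' ≫ g').hom)
    (hfp : AlgSp.LocP @LocallyOfFinitePresentation (f' ≫ g').hom) :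
    AlgSp.LocP P f.hom ↔ AlgSp.LocP P f'.hom := by
  have hw' : iX.hom ≫ f'.hom = f.hom ≫ iY.hom := congrArg (fun t => t.hom) w
  have hcart : IsPullback iX.hom f.hom f'.hom iY.hom := IsPullback.of_bot hcX hw' hcY
  refine ⟨fun H => ?_, fun H => Groth.Agent.S9984.result P hP f' iY iX f hcart H⟩
  obtain ⟨U', V', T', a', b', c', k', m', ha', hsa', hb', hc', hc1', hc2'⟩ :=
    exists_atlas_tower f' g'
  obtain ⟨U, V, T, iU, iV, iT, a, b, c, k, m, ha, hb, hc, hc1, hc2, hthT, sqU, sqV, hwsch, -⟩ :=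
    exists_thick_tower iX iY iB f f' g g' hcX hcY w hB a' b' c' k' m' ha' hb' hc' hc1' hc2'
  have hcomp' : a' ≫ (f' ≫ g').hom = (yon S).map (k' ≫ m') ≫ c' := by
    change a' ≫ f'.hom ≫ g'.hom = _
    rw [← Category.assoc, hc1', Category.assoc, hc2', Functor.map_comp, Category.assoc]
  have h1 : Flat (k'.left ≫ m'.left) := hflat a' c' (k' ≫ m') ha' hc' hcomp'
  have h2 : LocallyOfFinitePresentation (k'.left ≫ m'.left) := hfp a' c' (k' ≫ m') ha' hc' hcomp'
  have h3 : LocallyOfFiniteType m'.left := hg' b' c' m' hb' hc' hc2'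
  have key := hsch iU.left iV.left iT.left k.left k'.left m.left m'.left hthT sqU sqV hwsch h1 h2 h3
  exact Groth.Agent.S9947.result P hP f' a' b' k' ha' hsa' hb' hc1' (key.1 (H a b k ha hb hc1))

theorem main10599 {X X' Y Y' B B' : AlgSp.Space S} (iX : X ⟶ X') (iY : Y ⟶ Y') (iB : B ⟶ B')
    (f : X ⟶ Y) (f' : X' ⟶ Y') (g : Y ⟶ B) (g' : Y' ⟶ B')
    (hcX : IsPullback iX.hom (f ≫ g).hom (f' ≫ g').hom iB.hom) (hcY : IsPullback iY.hom g.hom g'.hom iB.hom)
    (w : iX ≫ f' = f ≫ iY)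
    (hB : AlgSp.IsThickMor iB.hom)
    (hg' : AlgSp.LocP @LocallyOfFiniteType g'.hom)
    (hflat : AlgSp.LocP @Flat (f' ≫ g').hom) (hfp : AlgSp.LocP @LocallyOfFinitePresentation (f' ≫ g').hom) (d : ℕ) :
    ((AlgSp.LocP @LocallyOfFiniteType f.hom ∧
        ∀ x, AlgSp.HasAtMor (fun _ _ h u => FlatMor.fibreDimAt h u = (d : WithBot ℕ∞)) f.hom x) ↔
      (AlgSp.LocP @LocallyOfFiniteType f'.hom ∧
        ∀ x', AlgSp.HasAtMor (fun _ _ h u => FlatMor.fibreDimAt h u = (d : WithBot ℕ∞)) f'.hom x')) ∧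
    (AlgSp.LocP @Flat f.hom ↔ AlgSp.LocP @Flat f'.hom) ∧
    (AlgSp.LocP (@LocallyQuasiFinite ⊓ @LocallyOfFiniteType) f.hom ↔
      AlgSp.LocP (@LocallyQuasiFinite ⊓ @LocallyOfFiniteType) f'.hom) ∧
    (AlgSp.LocP @Smooth f.hom ↔ AlgSp.LocP @Smooth f'.hom) ∧
    (AlgSp.LocP (@LocallyOfFiniteType ⊓ @FormallyUnramified) f.hom ↔
      AlgSp.LocP (@LocallyOfFiniteType ⊓ @FormallyUnramified) f'.hom) ∧
    (AlgSp.IsEtaleMor f.hom ↔ AlgSp.IsEtaleMor f'.hom) := by
  have hw' : iX.hom ≫ f'.hom = f.hom ≫ iY.hom := congrArg (fun t => t.hom) w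
  have hcart : IsPullback iX.hom f.hom f'.hom iY.hom := IsPullback.of_bot hcX hw' hcY
  have hthY : AlgSp.IsThickMor iY.hom :=
    MorphismProperty.of_isPullback (P := AlgSp.RepWith AlgSp.thick) hcY.flip hB
  have hthX : AlgSp.IsThickMor iX.hom :=
    MorphismProperty.of_isPullback (P := AlgSp.RepWith AlgSp.thick) hcart.flip hthY
  have hsX : Function.Surjective (Points.map iX.hom) :=
    Groth.Agent.S9906.surjective_map_of_repWith iX.hom
      ⟨hthX.1, fun _ _ g fst snd sq => (hthX.2 g fst snd sq).2⟩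
  have hlfp' : LocP @LocallyOfFinitePresentation f'.hom :=
    Groth.Agent.Lib.Helper9.SpFlatLocus.locP_lfp_of_comp f' g' hfp hg'
  have hlfp : LocP @LocallyOfFinitePresentation f.hom :=
    Groth.Agent.S9984.result _ (Or.inr (Or.inl rfl)) f' iY iX f hcart hlfp'
  have hft' : LocP @LocallyOfFiniteType f'.hom := fun U V a b k ha hb hc => by
    haveI := hlfp' a b k ha hb hc
    infer_instance
  have hft : LocP @LocallyOfFiniteType f.hom := fun U V a b k ha hb hc => by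
    haveI := hlfp a b k ha hb hc
    infer_instance
  have h93 := Groth.Agent.Lib.Helper9.SpThick.main10593 iX iY f f' hthX hthY hcart hft hft'
  have hdim : ∀ x : Points X.obj,
      AlgSp.HasAtMor (fun _ _ h u => FlatMor.fibreDimAt h u = (d : WithBot ℕ∞)) f.hom x ↔
      AlgSp.HasAtMor (fun _ _ h u => FlatMor.fibreDimAt h u = (d : WithBot ℕ∞)) f'.hom
        (Points.map iX.hom x) :=
    fun x => Groth.Agent.Lib.Helper9.SpRelDimDense.hasAtMor_fibreDimAt_baseChange_iff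
      (fun t => t = (d : WithBot ℕ∞)) f' iY iX f hcart hft' x
  refine ⟨⟨fun H => ⟨hft', fun x' => ?_⟩, fun H => ⟨hft, fun x => (hdim x).2 (H.2 _)⟩⟩, ?_, h93.1, ?_,
    h93.2, ?_⟩
  · obtain ⟨x, rfl⟩ := hsX x'
    exact (hdim x).1 (H.2 x)
  · exact locP_deform_iff @Flat (Or.inr (Or.inr (Or.inl rfl)))
      (fun iX iY iT f f' g g' hT hcX hcY w h1 h2 h3 => by
        haveI := h1
        haveI := h2
        haveI := h3
        exact Groth.Agent.S1381.result iX iY iT f f' g g' hT hcX hcY w)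
      iX iY iB f f' g g' hcX hcY w hB hg' hflat hfp
  · exact locP_deform_iff @Smooth (Or.inr (Or.inr (Or.inr (Or.inl rfl))))
      (fun iX iY iT f f' g g' hT hcX hcY w h1 h2 h3 => by
        haveI := h1
        haveI := h2
        haveI := h3
        exact Groth.Agent.S1384.result iX iY iT f f' g g' hT hcX hcY w)
      iX iY iB f f' g g' hcX hcY w hB hg' hflat hfp
  · have key := locP_deform_iff @Etale (Or.inr (Or.inr (Or.inr (Or.inr (Or.inl rfl)))))
      (fun iX iY iT f f' g g' hT hcX hcY w h1 h2 h3 => by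
        haveI := h1
        haveI := h2
        haveI := h3
        exact Groth.Agent.S1385.result iX iY iT f f' g g' hT hcX hcY w)
      iX iY iB f f' g g' hcX hcY w hB hg' hflat hfp
    constructor
    · intro H
      exact Groth.Agent.S10554.isEtaleMor_of_locP Y'.property f'.hom
        (key.1 (Groth.Agent.Lib.Helper12.SrcLocal.locP_etale_of_isEtaleMor f.hom H))
    · intro H
      exact Groth.Agent.S10554.isEtaleMor_of_locP Y.property f.hom
        (key.2 (Groth.Agent.Lib.Helper12.SrcLocal.locP_etale_of_isEtaleMor f'.hom H))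

end Groth.Agent.Lib.Helper9.SpDeform
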