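import Mathlib
import Groth.Agent.Lib.Helper9SpDeform

/-!
# Flatness over a thickening of the base (helper9)
-/

set_option autoImplicit false
set_option linter.style.haveILetI false
set_option backward.isDefEq.respectTransparency false
open CategoryTheory CategoryTheory.Limits AlgebraicGeometry Opposite
universe u

namespace Groth.Agent.Lib.Helper9.SpDeform

open AlgSp Groth.Agent.Lib.Helper9.SpPoint Groth.Agent.Lib.Helper9.SpBaseChange
  Groth.Agent.Lib.Helper9.SpFlatFib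

variable {S : Scheme.{u}}

/-- if `f` and `f ≫ g` are flat then `g` is flat at the points of the image of `f` -/
theorem isFlatAtMor_of_comp {X Y B : AlgSp.Space S} (f : X ⟶ Y) (g : Y ⟶ B)
    (hf : AlgSp.LocP @Flat f.hom) (hfg : AlgSp.LocP @Flat (f ≫ g).hom) (x : Points X.obj) :
    AlgSp.IsFlatAtMor g.hom (Points.map f.hom x) := by
  intro V T b c m v hb hc hc2 hpt
  obtain ⟨U₀, a₀, ha₀, hs₀⟩ := X.property.atlas
  obtain ⟨u₀, hu₀⟩ := exists_atlas_point a₀ hs₀ x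
  have hv : Points.ofPt (a₀ ≫ f.hom) u₀ = Points.ofPt b v := by
    rw [← Points.map_ofPt, hu₀, hpt]
  obtain ⟨U, e, k, u, het, ha, hc1, hu1, hu2⟩ := exists_chart_diagram f.hom a₀ ha₀ u₀ b hb v hv
  haveI hk : Flat k.left := hf _ b k ha hb hc1
  have hcomp : ((yon S).map e ≫ a₀) ≫ (f ≫ g).hom = (yon S).map (k ≫ m) ≫ c := by
    change ((yon S).map e ≫ a₀) ≫ f.hom ≫ g.hom = _
    rw [← Category.assoc, hc1, Category.assoc, hc2, Functor.map_comp, Category.assoc]
  haveI hkm : Flat (k.left ≫ m.left) := hfg _ c (k ≫ m) ha hc hcomp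
  have h5 := Groth.Agent.Lib.Helper5.FiberMor.flat_of_comp k.left m.left u (Flat.stalkMap _ u)
    (Flat.stalkMap _ u)
  rw [hu2] at h5
  exact h5

theorem main10598 {X X' Y Y' B B' : AlgSp.Space S} (iX : X ⟶ X') (iY : Y ⟶ Y') (iB : B ⟶ B')
    (f : X ⟶ Y) (f' : X' ⟶ Y') (g : Y ⟶ B) (g' : Y' ⟶ B')
    (hcX : IsPullback iX.hom (f ≫ g).hom (f' ≫ g').hom iB.hom) (hcY : IsPullback iY.hom g.hom g'.hom iB.hom)
    (w : iX ≫ f' = f ≫ iY)
    (hB : AlgSp.IsThickMor iB.hom)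
    (hg' : AlgSp.LocP @LocallyOfFiniteType g'.hom)
    (hflat : AlgSp.LocP @Flat (f' ≫ g').hom) (hfp : AlgSp.LocP @LocallyOfFinitePresentation (f' ≫ g').hom)
    (hf : AlgSp.LocP @Flat f.hom) :
    AlgSp.LocP @Flat f'.hom ∧
    ∀ x' : AlgSp.Points X'.obj, AlgSp.IsFlatAtMor g'.hom (AlgSp.Points.map f'.hom x') := by
  have h1 : AlgSp.LocP @Flat f'.hom :=
    (main10599 iX iY iB f f' g g' hcX hcY w hB hg' hflat hfp 0).2.1.1 hf
  exact ⟨h1, fun x' => isFlatAtMor_of_comp f' g' h1 hflat x'⟩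

end Groth.Agent.Lib.Helper9.SpDeform
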