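import Mathlib
import Groth.Agent.Lib.Helper12OpenSub
import Groth.Agent.S10194
import Groth.Agent.S10175
import Groth.Agent.S10609
import Groth.Agent.S9874

/-!
# Open loci in the base over which a base change has a property (helper9)
-/

set_option autoImplicit false
set_option linter.style.haveILetI false
open CategoryTheory CategoryTheory.Limits AlgebraicGeometry Opposite
universe u

namespace Groth.Agent.Lib.Helper9.SpWhere

open AlgSp

variable {S : Scheme.{u}}

/-- an open subset of the space of points is the set of points of an open subspace, and a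
morphism factors through it iff it does so on points -/
theorem exists_openSub (Z : AlgSp.Space S) (W₀ : Set (Points Z.obj)) (hW : IsOpen W₀) :
    ∃ (W : AlgSp.Space S) (w : W ⟶ Z), RepWith @IsOpenImmersion w.hom ∧
      ∀ (Z' : AlgSp.Space S) (g : Z' ⟶ Z),
        (∃ k : Z' ⟶ W, k ≫ w = g) ↔ Set.range (Points.map g.hom) ⊆ W₀ := by
  refine ⟨⟨Groth.Agent.Lib.Helper12.OpenSub.obj Z.obj W₀,
    Groth.Agent.Lib.Helper12.OpenSub.isAlgSpace_obj Z.property hW⟩,
    ObjectProperty.homMk (Groth.Agent.Lib.Helper12.OpenSub.incl Z.obj W₀),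
    Groth.Agent.Lib.Helper12.OpenSub.repWith_incl hW, ?_⟩
  intro Z' g
  rw [Groth.Agent.S10194.result _ (Groth.Agent.Lib.Helper12.OpenSub.repWith_incl hW) g]
  change _ ⊆ Set.range (Points.map (Groth.Agent.Lib.Helper12.OpenSub.incl Z.obj W₀)) ↔ _
  rw [Groth.Agent.Lib.Helper12.OpenSub.range_map_incl]

/-- flatness of a morphism of algebraic spaces is flatness at all points -/
theorem locP_flat_iff_forall {X Y : AlgSp.Sp S} (f : X ⟶ Y) :
    LocP @Flat f ↔ ∀ x : Points X, IsFlatAtMor f x := by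
  constructor
  · intro H x U V a b k u ha hb hc _
    haveI : Flat k.left := H a b k ha hb hc
    exact Flat.stalkMap k.left u
  · intro H U V a b k ha hb hc
    rw [Flat.iff_flat_stalkMap]
    intro u
    exact H (Points.ofPt a u) a b k u ha hb hc rfl

/-- the base of the flat locus: the largest open of `Z` over which `f` is universally flat -/
theorem main10642 {X Y Z : AlgSp.Space S}
    (f : X ⟶ Y) (p : X ⟶ Z) (q : Y ⟶ Z) (hc : f ≫ q = p)
    (hp1 : AlgSp.LocP @LocallyOfFinitePresentation p.hom) (hp2 : AlgSp.LocP @Flat p.hom)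
    (hp3 : AlgSp.IsClosedMor p.hom) (hq : AlgSp.LocP @LocallyOfFiniteType q.hom) :
    ∃ (W : AlgSp.Space S) (w : W ⟶ Z), AlgSp.RepWith @IsOpenImmersion w.hom ∧
      ∀ (Z' : AlgSp.Space S) (g : Z' ⟶ Z),
        (∃ k : Z' ⟶ W, k ≫ w = g) ↔
          ∀ (Y' : AlgSp.Space S) (gY : Y' ⟶ Y) (q' : Y' ⟶ Z'),
            IsPullback gY.hom q'.hom q.hom g.hom →
            ∀ (X' : AlgSp.Space S) (gX : X' ⟶ X) (f' : X' ⟶ Y'),
              IsPullback gX.hom f'.hom f.hom gY.hom →
                AlgSp.LocP @Flat f'.hom := by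
  subst hc
  obtain ⟨hopen, hbc⟩ := Groth.Agent.S10609.result f q hp1 hp2 hq
  set T : Set (Points X.obj) := {x | IsFlatAtMor f.hom x} with hT
  have hW₀ : IsOpen ((Points.map (f ≫ q).hom '' Tᶜ)ᶜ) :=
    (hp3 _ hopen.isClosed_compl).isOpen_compl
  obtain ⟨W, w, hw, hfac⟩ := exists_openSub Z _ hW₀
  refine ⟨W, w, hw, fun Z' g => ?_⟩
  rw [hfac Z' g]
  constructor
  · intro hsub Y' gY q' sq1 X' gX f' sq2
    rw [locP_flat_iff_forall]
    intro x'
    have h1 := hbc X' Y' Z' g f' q' gX gY sq1 sq2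
    have h2 : x' ∈ Points.map gX.hom ⁻¹' T := by
      show Points.map gX.hom x' ∈ T
      by_contra hx
      have h3 : Points.map (f ≫ q).hom (Points.map gX.hom x') ∈
          Points.map (f ≫ q).hom '' Tᶜ := ⟨_, hx, rfl⟩
      have h4 : Points.map (f ≫ q).hom (Points.map gX.hom x') =
          Points.map g.hom (Points.map (f' ≫ q').hom x') := by
        rw [← Points.map_comp, ← Points.map_comp]
        congr 1
        change gX.hom ≫ f.hom ≫ q.hom = (f'.hom ≫ q'.hom) ≫ g.hom
        rw [← Category.assoc, sq2.w, Category.assoc, sq1.w, Category.assoc]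
      rw [h4] at h3
      exact hsub ⟨_, rfl⟩ h3
    rw [← h1] at h2
    exact h2
  · intro H
    rintro _ ⟨z', rfl⟩ ⟨x, hx, hxz⟩
    -- canonical pullbacks
    have sq1 := IsPullback.of_hasPullback q.hom g.hom
    have hY' : IsAlgSpace (pullback q.hom g.hom) :=
      Groth.Agent.S9874.isAlgSpace_of_isPullback Z.property.diag Y.property Z'.property sq1
    have sq2 := IsPullback.of_hasPullback f.hom (pullback.fst q.hom g.hom)
    have hX' : IsAlgSpace (pullback f.hom (pullback.fst q.hom g.hom)) :=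
      Groth.Agent.S9874.isAlgSpace_of_isPullback Y.property.diag X.property hY' sq2
    let Y' : AlgSp.Space S := ⟨_, hY'⟩
    let X' : AlgSp.Space S := ⟨_, hX'⟩
    let gY : Y' ⟶ Y := ObjectProperty.homMk (pullback.fst q.hom g.hom)
    let q' : Y' ⟶ Z' := ObjectProperty.homMk (pullback.snd q.hom g.hom)
    let gX : X' ⟶ X := ObjectProperty.homMk (pullback.fst f.hom (pullback.fst q.hom g.hom))
    let f' : X' ⟶ Y' := ObjectProperty.homMk (pullback.snd f.hom (pullback.fst q.hom g.hom))
    have hfl := H Y' gY q' sq1 X' gX f' sq2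
    have h1 := hbc X' Y' Z' g f' q' gX gY sq1 sq2
    have big : IsPullback gX.hom (f' ≫ q').hom (f ≫ q).hom g.hom := sq2.paste_vert sq1
    obtain ⟨x', -, hx'1⟩ := Groth.Agent.S10175.result (f ≫ q) g (f' ≫ q') gX big.flip z' x hxz.symm
    have h2 : x' ∈ {x' : Points X'.obj | IsFlatAtMor f'.hom x'} :=
      (locP_flat_iff_forall f'.hom).1 hfl x'
    rw [h1] at h2
    have h3 : Points.map gX.hom x' ∈ T := h2
    rw [hx'1] at h3
    exact hx h3

end Groth.Agent.Lib.Helper9.SpWhere
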