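import Mathlib
import Groth.Agent.Lib.Helper9SpWhere
import Groth.Agent.Lib.Helper9SpFlatLocus
import Groth.Agent.Lib.Helper12LargestOpen
import Groth.Agent.Lib.Helper12OpenSub2
import Groth.Agent.S9962

/-!
# Open loci in the base over which a base change is flat and surjective (helper9)
-/

set_option autoImplicit false
set_option linter.style.haveILetI false
open CategoryTheory CategoryTheory.Limits AlgebraicGeometry Opposite
universe u

namespace Groth.Agent.Lib.Helper9.SpWhere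

open AlgSp

variable {S : Scheme.{u}}

/-- the canonical base change of `f : X ⟶ Y` over `Z` along `g : Z' ⟶ Z`, as algebraic spaces -/
theorem exists_canonical_bc {X Y Z Z' : AlgSp.Space S} (f : X ⟶ Y) (q : Y ⟶ Z) (g : Z' ⟶ Z) :
    ∃ (Y' : AlgSp.Space S) (gY : Y' ⟶ Y) (q' : Y' ⟶ Z') (X' : AlgSp.Space S) (gX : X' ⟶ X)
      (f' : X' ⟶ Y'), IsPullback gY.hom q'.hom q.hom g.hom ∧
        IsPullback gX.hom f'.hom f.hom gY.hom := by
  have sq1 := IsPullback.of_hasPullback q.hom g.hom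
  have hY' : IsAlgSpace (pullback q.hom g.hom) :=
    Groth.Agent.S9874.isAlgSpace_of_isPullback Z.property.diag Y.property Z'.property sq1
  have sq2 := IsPullback.of_hasPullback f.hom (pullback.fst q.hom g.hom)
  have hX' : IsAlgSpace (pullback f.hom (pullback.fst q.hom g.hom)) :=
    Groth.Agent.S9874.isAlgSpace_of_isPullback Y.property.diag X.property hY' sq2
  exact ⟨⟨_, hY'⟩, ObjectProperty.homMk (pullback.fst q.hom g.hom),
    ObjectProperty.homMk (pullback.snd q.hom g.hom), ⟨_, hX'⟩,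
    ObjectProperty.homMk (pullback.fst f.hom (pullback.fst q.hom g.hom)),
    ObjectProperty.homMk (pullback.snd f.hom (pullback.fst q.hom g.hom)), sq1, sq2⟩

/-- compatibility of the maps on points in a base change tower -/
theorem map_tower {X Y Z Z' Y' X' : AlgSp.Space S} (f : X ⟶ Y) (q : Y ⟶ Z) (g : Z' ⟶ Z)
    (gY : Y' ⟶ Y) (q' : Y' ⟶ Z') (gX : X' ⟶ X) (f' : X' ⟶ Y')
    (sq1 : IsPullback gY.hom q'.hom q.hom g.hom) (sq2 : IsPullback gX.hom f'.hom f.hom gY.hom)
    (x' : Points X'.obj) :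
    Points.map (f ≫ q).hom (Points.map gX.hom x') =
      Points.map g.hom (Points.map (f' ≫ q').hom x') := by
  rw [← Points.map_comp, ← Points.map_comp]
  congr 1
  change gX.hom ≫ f.hom ≫ q.hom = (f'.hom ≫ q'.hom) ≫ g.hom
  rw [← Category.assoc, sq2.w, Category.assoc, sq1.w, Category.assoc]

/-- flatness of the base change over the complement of the image of the non-flat locus -/
theorem flat_bc_of_range_subset {X Y Z : AlgSp.Space S} (f : X ⟶ Y) (q : Y ⟶ Z)
    (hp1 : AlgSp.LocP @LocallyOfFinitePresentation (f ≫ q).hom)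
    (hp2 : AlgSp.LocP @Flat (f ≫ q).hom) (hq : AlgSp.LocP @LocallyOfFiniteType q.hom)
    {Z' Y' X' : AlgSp.Space S} (g : Z' ⟶ Z) (gY : Y' ⟶ Y) (q' : Y' ⟶ Z') (gX : X' ⟶ X)
    (f' : X' ⟶ Y')
    (sq1 : IsPullback gY.hom q'.hom q.hom g.hom) (sq2 : IsPullback gX.hom f'.hom f.hom gY.hom)
    (hsub : Set.range (Points.map g.hom) ⊆
      (Points.map (f ≫ q).hom '' {x | IsFlatAtMor f.hom x}ᶜ)ᶜ) :
    AlgSp.LocP @Flat f'.hom := by
  obtain ⟨-, hbc⟩ := Groth.Agent.S10609.result f q hp1 hp2 hq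
  rw [locP_flat_iff_forall]
  intro x'
  have h1 := hbc X' Y' Z' g f' q' gX gY sq1 sq2
  have h2 : x' ∈ Points.map gX.hom ⁻¹' {x | IsFlatAtMor f.hom x} := by
    show Points.map gX.hom x' ∈ {x | IsFlatAtMor f.hom x}
    by_contra hx
    have h3 : Points.map (f ≫ q).hom (Points.map gX.hom x') ∈
        Points.map (f ≫ q).hom '' {x | IsFlatAtMor f.hom x}ᶜ := ⟨_, hx, rfl⟩
    rw [map_tower f q g gY q' gX f' sq1 sq2] at h3
    exact hsub ⟨_, rfl⟩ h3
  rw [← h1] at h2
  exact h2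

/-- conversely, flatness of a base change forces the base to avoid the image of the non-flat
locus -/
theorem range_subset_of_flat_bc {X Y Z : AlgSp.Space S} (f : X ⟶ Y) (q : Y ⟶ Z)
    (hp1 : AlgSp.LocP @LocallyOfFinitePresentation (f ≫ q).hom)
    (hp2 : AlgSp.LocP @Flat (f ≫ q).hom) (hq : AlgSp.LocP @LocallyOfFiniteType q.hom)
    {Z' Y' X' : AlgSp.Space S} (g : Z' ⟶ Z) (gY : Y' ⟶ Y) (q' : Y' ⟶ Z') (gX : X' ⟶ X)
    (f' : X' ⟶ Y')
    (sq1 : IsPullback gY.hom q'.hom q.hom g.hom) (sq2 : IsPullback gX.hom f'.hom f.hom gY.hom)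
    (hfl : AlgSp.LocP @Flat f'.hom) :
    Set.range (Points.map g.hom) ⊆
      (Points.map (f ≫ q).hom '' {x | IsFlatAtMor f.hom x}ᶜ)ᶜ := by
  obtain ⟨-, hbc⟩ := Groth.Agent.S10609.result f q hp1 hp2 hq
  rintro _ ⟨z', rfl⟩ ⟨x, hx, hxz⟩
  have h1 := hbc X' Y' Z' g f' q' gX gY sq1 sq2
  have big : IsPullback gX.hom (f' ≫ q').hom (f ≫ q).hom g.hom := sq2.paste_vert sq1
  obtain ⟨x', -, hx'1⟩ :=
    Groth.Agent.S10175.result (f ≫ q) g (f' ≫ q') gX big.flip z' x hxz.symm
  have h2 : x' ∈ {x' : Points X'.obj | IsFlatAtMor f'.hom x'} :=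
    (locP_flat_iff_forall f'.hom).1 hfl x'
  rw [h1] at h2
  have h3 : Points.map gX.hom x' ∈ {x | IsFlatAtMor f.hom x} := h2
  rw [hx'1] at h3
  exact hx h3

/-- flatness at a point passes to the restriction to an open subspace -/
theorem isFlatAtMor_precomp {A X Y : AlgSp.Sp S} (j : A ⟶ X) (hj : RepWith @Etale j) (f : X ⟶ Y)
    (x : Points A) (h : IsFlatAtMor f (Points.map j x)) : IsFlatAtMor (j ≫ f) x := by
  intro U V a b k u ha hb hc hu
  refine h (a ≫ j) b k u ((repWith_isMultiplicative (S := S) @Etale).comp_mem _ _ ha hj) hb ?_ ?_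
  · rw [Category.assoc]
    exact hc
  · rw [← Points.map_ofPt, hu]

/-- the image of an open set of flat points under a morphism locally of finite presentation is
open -/
theorem isOpen_image_of_flat {X Y : AlgSp.Space S} (f : X ⟶ Y)
    (hfp : LocP @LocallyOfFinitePresentation f.hom) (U : Set (Points X.obj)) (hU : IsOpen U)
    (hfl : ∀ x ∈ U, IsFlatAtMor f.hom x) : IsOpen (Points.map f.hom '' U) := by
  have hA := Groth.Agent.Lib.Helper12.OpenSub.isAlgSpace_obj X.property hU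
  have hj := Groth.Agent.Lib.Helper12.OpenSub.repWith_incl (X := X.obj) hU
  have hjet : RepWith @Etale (Groth.Agent.Lib.Helper12.OpenSub.incl X.obj U) :=
    Groth.Agent.Lib.Helper12.OpenSub.repWith_mono
      (fun _ _ g hg => by haveI : IsOpenImmersion g := hg; infer_instance) hj
  have h1 : LocP @LocallyOfFinitePresentation
      (Groth.Agent.Lib.Helper12.OpenSub.incl X.obj U ≫ f.hom) :=
    Groth.Agent.Lib.Helper12.LargestOpen.locP_precomp_repEtale _ _ _ hjet hfp
  have h2 : LocP @Flat (Groth.Agent.Lib.Helper12.OpenSub.incl X.obj U ≫ f.hom) := by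
    rw [locP_flat_iff_forall]
    intro a
    refine isFlatAtMor_precomp _ hjet f.hom a (hfl _ ?_)
    have : Points.map (Groth.Agent.Lib.Helper12.OpenSub.incl X.obj U) a ∈
        Set.range (Points.map (Groth.Agent.Lib.Helper12.OpenSub.incl X.obj U)) := ⟨a, rfl⟩
    rwa [Groth.Agent.Lib.Helper12.OpenSub.range_map_incl] at this
  have h3 := Groth.Agent.S9962.isUnivOpenMor_of_flat_lfp hA Y.property _ h2 h1
  have h4 : IsOpenMap (Points.map (Groth.Agent.Lib.Helper12.OpenSub.incl X.obj U ≫ f.hom)) :=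
    h3 Y.property (𝟙 _) (𝟙 _) (Groth.Agent.Lib.Helper12.OpenSub.incl X.obj U ≫ f.hom)
      (IsPullback.of_horiz_isIso ⟨by simp⟩)
  have h5 := h4.isOpen_range
  have h6 : Set.range (Points.map (Groth.Agent.Lib.Helper12.OpenSub.incl X.obj U ≫ f.hom)) =
      Points.map f.hom '' U := by
    ext y
    constructor
    · rintro ⟨a, rfl⟩
      have ha : Points.map (Groth.Agent.Lib.Helper12.OpenSub.incl X.obj U) a ∈
          Set.range (Points.map (Groth.Agent.Lib.Helper12.OpenSub.incl X.obj U)) := ⟨a, rfl⟩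
      rw [Groth.Agent.Lib.Helper12.OpenSub.range_map_incl] at ha
      exact ⟨_, ha, (Points.map_comp _ _ a).symm⟩
    · rintro ⟨x, hx, rfl⟩
      have hx' : x ∈ Set.range (Points.map (Groth.Agent.Lib.Helper12.OpenSub.incl X.obj U)) := by
        rw [Groth.Agent.Lib.Helper12.OpenSub.range_map_incl]
        exact hx
      obtain ⟨a, rfl⟩ := hx'
      exact ⟨a, Points.map_comp _ _ a⟩
  rwa [h6] at h5

theorem main10643 {X Y Z : AlgSp.Space S}
    (f : X ⟶ Y) (p : X ⟶ Z) (q : Y ⟶ Z) (hc : f ≫ q = p)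
    (hp1 : AlgSp.LocP @LocallyOfFinitePresentation p.hom) (hp2 : AlgSp.LocP @Flat p.hom)
    (hp3 : AlgSp.IsClosedMor p.hom) (hq1 : AlgSp.LocP @LocallyOfFiniteType q.hom)
    (hq2 : AlgSp.IsClosedMor q.hom) :
    ∃ (W : AlgSp.Space S) (w : W ⟶ Z), AlgSp.RepWith @IsOpenImmersion w.hom ∧
      ∀ (Z' : AlgSp.Space S) (g : Z' ⟶ Z),
        (∃ k : Z' ⟶ W, k ≫ w = g) ↔
          ∀ (Y' : AlgSp.Space S) (gY : Y' ⟶ Y) (q' : Y' ⟶ Z'),
            IsPullback gY.hom q'.hom q.hom g.hom →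
            ∀ (X' : AlgSp.Space S) (gX : X' ⟶ X) (f' : X' ⟶ Y'),
              IsPullback gX.hom f'.hom f.hom gY.hom →
                (AlgSp.IsSurjectiveMor f'.hom ∧ AlgSp.LocP @Flat f'.hom) := by
  subst hc
  obtain ⟨hopen, -⟩ := Groth.Agent.S10609.result f q hp1 hp2 hq1
  have hfp : LocP @LocallyOfFinitePresentation f.hom :=
    Groth.Agent.Lib.Helper9.SpFlatLocus.locP_lfp_of_comp f q hp1 hq1
  set T : Set (Points X.obj) := {x | IsFlatAtMor f.hom x} with hT
  set W₀ : Set (Points Z.obj) := (Points.map (f ≫ q).hom '' Tᶜ)ᶜ with hW₀def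
  have hW₀ : IsOpen W₀ := (hp3 _ hopen.isClosed_compl).isOpen_compl
  set U : Set (Points X.obj) := Points.map (f ≫ q).hom ⁻¹' W₀ with hUdef
  have hU : IsOpen U := hW₀.preimage (Points.continuous_map _)
  have hUT : ∀ x ∈ U, IsFlatAtMor f.hom x := by
    intro x hx
    by_contra hxT
    exact hx ⟨x, hxT, rfl⟩
  set O : Set (Points Y.obj) := Points.map f.hom '' U with hOdef
  have hO : IsOpen O := isOpen_image_of_flat f hfp U hU hUT
  have hA : IsOpen (W₀ ∩ (Points.map q.hom '' Oᶜ)ᶜ) :=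
    hW₀.inter (hq2 _ hO.isClosed_compl).isOpen_compl
  obtain ⟨W, w, hw, hfac⟩ := exists_openSub Z _ hA
  refine ⟨W, w, hw, fun Z' g => ?_⟩
  rw [hfac Z' g]
  constructor
  · intro hsub Y' gY q' sq1 X' gX f' sq2
    refine ⟨?_, flat_bc_of_range_subset f q hp1 hp2 hq1 g gY q' gX f' sq1 sq2
      (hsub.trans Set.inter_subset_left)⟩
    intro y'
    have hy : Points.map q.hom (Points.map gY.hom y') ∈ W₀ ∩ (Points.map q.hom '' Oᶜ)ᶜ := by
      have : Points.map q.hom (Points.map gY.hom y') = Points.map g.hom (Points.map q'.hom y') := by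
        rw [← Points.map_comp, ← Points.map_comp, sq1.w]
      rw [this]
      exact hsub ⟨_, rfl⟩
    have hyO : Points.map gY.hom y' ∈ O := by
      by_contra hn
      exact hy.2 ⟨_, hn, rfl⟩
    obtain ⟨x, -, hx⟩ := hyO
    obtain ⟨x', hx'1, -⟩ := Groth.Agent.S10175.result f gY f' gX sq2.flip y' x hx.symm
    exact ⟨x', hx'1⟩
  · intro H
    obtain ⟨Y', gY, q', X', gX, f', sq1, sq2⟩ := exists_canonical_bc f q g
    obtain ⟨hsurj, hfl⟩ := H Y' gY q' sq1 X' gX f' sq2
    have h1 := range_subset_of_flat_bc f q hp1 hp2 hq1 g gY q' gX f' sq1 sq2 hfl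
    intro z hz
    refine ⟨h1 hz, ?_⟩
    obtain ⟨z', rfl⟩ := hz
    rintro ⟨y, hy, hyz⟩
    obtain ⟨y', hy'1, hy'2⟩ := Groth.Agent.S10175.result q g q' gY sq1.flip z' y hyz.symm
    obtain ⟨x', rfl⟩ := hsurj y'
    apply hy
    refine ⟨Points.map gX.hom x', ?_, ?_⟩
    · show Points.map (f ≫ q).hom (Points.map gX.hom x') ∈ W₀
      rw [map_tower f q g gY q' gX f' sq1 sq2]
      exact h1 ⟨_, rfl⟩
    · rw [← hy'2, ← Points.map_comp, ← Points.map_comp, sq2.w]

end Groth.Agent.Lib.Helper9.SpWhere
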