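import Mathlib
import Groth.Agent.Lib.Helper9SpWhere2
import Groth.Agent.Lib.Helper12LocPNbhd
import Groth.Agent.Lib.Helper20BCDescSch
import Groth.Agent.Lib.Helper20EtLocalSch
import Groth.Agent.Lib.Helper9SpFibStalkBC

/-!
# The unramified locus of a morphism of algebraic spaces: openness and base change (helper9)
-/

set_option autoImplicit false
set_option linter.style.haveILetI false
set_option backward.isDefEq.respectTransparency false
open CategoryTheory CategoryTheory.Limits AlgebraicGeometry Opposite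
universe u

namespace Groth.Agent.Lib.Helper9.SpUnramLocus

open AlgSp Groth.Agent.Lib.Helper12.LocPCases Groth.Agent.Lib.Helper12.LocPNbhd
  Groth.Agent.Lib.Helper9.SpFibStalkBC

variable {S : Scheme.{u}}

/-- `f` is locally of finite type if `f ≫ h` is -/
theorem locP_lft_of_comp {X Y Z : AlgSp.Space S} (f : X ⟶ Y) (h : Y ⟶ Z)
    (hft : LocP @LocallyOfFiniteType (f ≫ h).hom) : LocP @LocallyOfFiniteType f.hom := by
  intro U V a b k ha hb hc1
  obtain ⟨T, c, hc, hcs⟩ := Z.property.atlas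
  have hpb := hc.1.isPullback (b ≫ h.hom)
  have het : Etale (hc.1.snd (b ≫ h.hom)).left := hc.2 _ _ _ hpb
  have hes : Surjective (hc.1.snd (b ≫ h.hom)).left := hcs.2 _ _ _ hpb
  have hb' : RepWith @Etale ((yon S).map (hc.1.snd (b ≫ h.hom)) ≫ b) :=
    (repWith_isMultiplicative (S := S) @Etale).comp_mem _ _
      ((repWith_yon_map_iff _ _).2 het) hb
  have hc2 : ((yon S).map (hc.1.snd (b ≫ h.hom)) ≫ b) ≫ h.hom =
      (yon S).map (hc.1.fst' (b ≫ h.hom)) ≫ c := by
    rw [Category.assoc, hc.1.map_fst']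
    exact hpb.w.symm
  generalize hc.1.snd (b ≫ h.hom) = e at *
  generalize hc.1.fst' (b ≫ h.hom) = m at *
  clear hpb
  generalize hc.1.pullback (b ≫ h.hom) = V' at *
  have hsq : IsPullback (pullback.fst k e).left (pullback.snd k e).left k.left e.left :=
    (IsPullback.of_hasPullback k e).map (Over.forget S)
  haveI := het
  haveI het1 : Etale (pullback.fst k e).left :=
    MorphismProperty.of_isPullback (P := @Etale) hsq.flip het
  haveI hes1 : Surjective (pullback.fst k e).left :=
    MorphismProperty.of_isPullback (P := @Surjective) hsq.flip hes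
  have ha' : RepWith @Etale ((yon S).map (pullback.fst k e) ≫ a) :=
    (repWith_isMultiplicative (S := S) @Etale).comp_mem _ _
      ((repWith_yon_map_iff _ _).2 het1) ha
  have hcomp : ((yon S).map (pullback.fst k e) ≫ a) ≫ (f ≫ h).hom =
      (yon S).map (pullback.snd k e ≫ m) ≫ c := by
    change ((yon S).map (pullback.fst k e) ≫ a) ≫ f.hom ≫ h.hom = _
    rw [Category.assoc, ← Category.assoc a, hc1, Category.assoc, ← Category.assoc,
      ← Functor.map_comp, pullback.condition, Functor.map_comp, Category.assoc,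
      ← Category.assoc ((yon S).map e), hc2, Functor.map_comp, Category.assoc]
  have h1 : LocallyOfFiniteType ((pullback.snd k e).left ≫ m.left) :=
    hft _ c (pullback.snd k e ≫ m) ha' hc hcomp
  haveI h3 : LocallyOfFiniteType (pullback.snd k e).left :=
    locallyOfFiniteType_of_comp _ m.left
  have h4 : LocallyOfFiniteType ((pullback.fst k e).left ≫ k.left) := by
    rw [hsq.w]
    infer_instance
  exact Groth.Agent.Lib.Helper12.Proper.lft_hsrc (pullback.fst k e).left k.left h4

/-- scheme level: unramifiedness near a point descends along an arbitrary base change of a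
morphism locally of finite type -/
theorem exists_unram_nbhd_of_baseChange {U V V' P : Scheme.{u}} (h : U ⟶ V)
    [LocallyOfFiniteType h] (k : V' ⟶ V) (fst : P ⟶ U) (snd : P ⟶ V')
    (sq : IsPullback fst snd h k) (p : P) (W' : P.Opens) (hp : p ∈ W')
    (hW' : FormallyUnramified (W'.ι ≫ snd)) :
    ∃ W : U.Opens, fst p ∈ W ∧ LocallyOfFiniteType (W.ι ≫ h) ∧ FormallyUnramified (W.ι ≫ h) := by
  have hsnd : sq.isoPullback.hom ≫ pullback.snd h k = snd := sq.isoPullback_hom_snd
  rw [← hsnd] at hW'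
  have H := Groth.Agent.Lib.Helper20.EtLocal.formallyUnramified_stalkMap_of_nbhd
    (sq.isoPullback.hom ≫ pullback.snd h k) p W' hp
  rw [Scheme.Hom.stalkMap_comp, CommRingCat.hom_comp,
    RingHom.FormallyUnramified.respectsIso.cancel_right_isIso] at H
  have H2 := Groth.Agent.Lib.Helper20.FlatDesc.formallyUnramified_stalkMap_of_baseChange h k _ H
  have hpt : (pullback.fst h k) (sq.isoPullback.hom p) = fst p := by
    rw [← Scheme.Hom.comp_apply, sq.isoPullback_hom_fst]
  rw [hpt] at H2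
  obtain ⟨W, hW, hWu⟩ := Groth.Agent.Lib.Helper20.EtLocal.exists_formallyUnramified_nbhd h _ H2
  exact ⟨W, hW, inferInstance, hWu⟩

/-- the unramified locus is open and commutes with base change -/
theorem main10312 {X Y Z Z' Y' X' : AlgSp.Space S} (f : X ⟶ Y)
    (p : X ⟶ Z) (q : Y ⟶ Z) (comm : f ≫ q = p) (hp : AlgSp.LocP @LocallyOfFiniteType p.hom) (g : Z' ⟶ Z)
    (a : Y' ⟶ Y) (q' : Y' ⟶ Z') (sq1 : IsPullback a.hom q'.hom q.hom g.hom)
    (b : X' ⟶ X) (f' : X' ⟶ Y') (sq2 : IsPullback b.hom f'.hom f.hom a.hom) :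
    IsOpen {x : AlgSp.Points X.obj | AlgSp.HasAtMor (fun U _ h u => ∃ W : U.Opens, u ∈ W ∧ LocallyOfFiniteType (W.ι ≫ h) ∧ FormallyUnramified (W.ι ≫ h)) f.hom x} ∧
    {x' : AlgSp.Points X'.obj | AlgSp.HasAtMor (fun U _ h u => ∃ W : U.Opens, u ∈ W ∧ LocallyOfFiniteType (W.ι ≫ h) ∧ FormallyUnramified (W.ι ≫ h)) f'.hom x'} =
      AlgSp.Points.map b.hom ⁻¹' {x : AlgSp.Points X.obj | AlgSp.HasAtMor (fun U _ h u => ∃ W : U.Opens, u ∈ W ∧ LocallyOfFiniteType (W.ι ≫ h) ∧ FormallyUnramified (W.ι ≫ h)) f.hom x} := by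
  subst comm
  have hlft : LocP @LocallyOfFiniteType f.hom := locP_lft_of_comp f q hp
  have hG := good_unram.{u}
  have key := fun {A B : AlgSp.Space S} (φ : A ⟶ B) (x : Points A.obj) =>
    hasAtMor_iff_exists_open (S := S) hG φ x
  constructor
  · rw [isOpen_iff_forall_mem_open]
    intro x hx
    obtain ⟨X₁, j, hj, hxj, hjf⟩ := (key f x).1 hx
    refine ⟨Set.range (Points.map j.hom), ?_,
      Groth.Agent.Lib.Helper12.OpenSub.isOpen_range_of_open j.hom hj, hxj⟩
    intro y hy
    exact (key f y).2 ⟨X₁, j, hj, hy, hjf⟩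
  · ext x'
    constructor
    · intro hx'
      rw [Set.mem_preimage, Set.mem_ofPred_eq]
      rw [Set.mem_ofPred_eq] at hx'
      obtain ⟨U, V, a₀, c₀, h, u, ha₀, hc₀, hcomm, hu⟩ :=
        exists_chart X.property Y.property f.hom (Points.map b.hom x')
      obtain ⟨W, c', k, a'', p', hc', hc'k, ha'', ha''1, ha''2, hp'1, hp'2⟩ :=
        exists_bc_chartDiagram f a b f' sq2 x' a₀ c₀ h u ha₀ hc₀ hcomm hu
      obtain ⟨U₁, V₁, a₁, c₁, h₁, u₁, ha₁, hc₁, hcomm₁, hu₁, W₁, hW₁, hPW₁⟩ := hx'
      obtain ⟨W'', hW'', hPW''⟩ := exists_open_of_chart hG f'.hom a'' c' (pullback.snd h k) ha'' hc'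
        ha''2 p' a₁ c₁ h₁ ha₁ hc₁ hcomm₁ u₁ (hp'1.trans hu₁.symm) W₁ hW₁ hPW₁
      have hsq : IsPullback (pullback.fst h k).left (pullback.snd h k).left h.left k.left :=
        (IsPullback.of_hasPullback h k).map (Over.forget S)
      haveI : LocallyOfFiniteType h.left := hlft a₀ c₀ h ha₀ hc₀ hcomm
      haveI : FormallyUnramified (W''.ι ≫ (pullback.snd h k).left) := hPW''.2
      obtain ⟨W₀, hW₀, h1, h2⟩ := exists_unram_nbhd_of_baseChange h.left k.left _ _ hsq p' W'' hW''
        inferInstance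
      rw [hp'2] at hW₀
      exact ⟨U, V, a₀, c₀, h, u, ha₀, hc₀, hcomm, hu, W₀, hW₀, h1, h2⟩
    · intro hx
      rw [Set.mem_preimage, Set.mem_ofPred_eq] at hx
      rw [Set.mem_ofPred_eq]
      obtain ⟨X₁, j, hj, ⟨x₁, hx₁⟩, hjf⟩ := (key f _).1 hx
      -- the open subspace `X₁ ×_X X'` of `X'`
      have sqj := IsPullback.of_hasPullback j.hom b.hom
      have hP : IsAlgSpace (pullback j.hom b.hom) :=
        Groth.Agent.S9874.isAlgSpace_of_isPullback X.property.diag X₁.property X'.property sqj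
      let P : AlgSp.Space S := ⟨_, hP⟩
      let j' : P ⟶ X' := ObjectProperty.homMk (pullback.snd j.hom b.hom)
      let b₁ : P ⟶ X₁ := ObjectProperty.homMk (pullback.fst j.hom b.hom)
      have hj' : RepWith @IsOpenImmersion j'.hom :=
        MorphismProperty.of_isPullback (P := RepWith @IsOpenImmersion) sqj hj
      have big : IsPullback b₁.hom (j' ≫ f').hom (j ≫ f).hom a.hom := sqj.paste_vert sq2
      have hjf' : LocP (@LocallyOfFiniteType ⊓ @FormallyUnramified) (j' ≫ f').hom :=
        hG.locP_baseChange X₁.property Y.property Y'.property big hjf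
      obtain ⟨z, -, hz⟩ := Groth.Agent.S10175.result b j b₁ j' sqj x₁ x' hx₁
      exact (key f' x').2 ⟨P, j', hj', ⟨z, hz⟩, hjf'⟩

end Groth.Agent.Lib.Helper9.SpUnramLocus
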