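import Mathlib
import Groth.Agent.Lib.Helper9SpWhere2
import Groth.Agent.Lib.Helper9SpUnramLocus

/-!
# Open loci in the base over which a base change has a property: the general pattern, and the
unramified case (helper9)
-/

set_option autoImplicit false
set_option linter.style.haveILetI false
open CategoryTheory CategoryTheory.Limits AlgebraicGeometry Opposite
universe u

namespace Groth.Agent.Lib.Helper9.SpWhere

open AlgSp Groth.Agent.Lib.Helper12.LocPCases Groth.Agent.Lib.Helper12.LocPNbhd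

variable {S : Scheme.{u}}

/-- the general pattern: if a property `R` of base changes of `f` is detected by an open locus
`T` of `|X|` compatible with base change, and `X ⟶ Z` is closed, then `R` holds exactly over an
open subspace of `Z` -/
theorem exists_where {X Y Z : AlgSp.Space S} (f : X ⟶ Y) (q : Y ⟶ Z)
    (hp3 : AlgSp.IsClosedMor (f ≫ q).hom) (T : Set (Points X.obj)) (hT : IsOpen T)
    (R : ∀ {X' Y' : AlgSp.Space S}, (X' ⟶ Y') → Prop)
    (hR : ∀ {Z' Y' X' : AlgSp.Space S} (g : Z' ⟶ Z) (gY : Y' ⟶ Y) (q' : Y' ⟶ Z') (gX : X' ⟶ X)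
      (f' : X' ⟶ Y'), IsPullback gY.hom q'.hom q.hom g.hom → IsPullback gX.hom f'.hom f.hom gY.hom →
      (R f' ↔ ∀ x' : Points X'.obj, Points.map gX.hom x' ∈ T)) :
    ∃ (W : AlgSp.Space S) (w : W ⟶ Z), AlgSp.RepWith @IsOpenImmersion w.hom ∧
      ∀ (Z' : AlgSp.Space S) (g : Z' ⟶ Z),
        (∃ k : Z' ⟶ W, k ≫ w = g) ↔
          ∀ (Y' : AlgSp.Space S) (gY : Y' ⟶ Y) (q' : Y' ⟶ Z'),
            IsPullback gY.hom q'.hom q.hom g.hom →
            ∀ (X' : AlgSp.Space S) (gX : X' ⟶ X) (f' : X' ⟶ Y'),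
              IsPullback gX.hom f'.hom f.hom gY.hom → R f' := by
  have hW₀ : IsOpen ((Points.map (f ≫ q).hom '' Tᶜ)ᶜ) :=
    (hp3 _ hT.isClosed_compl).isOpen_compl
  obtain ⟨W, w, hw, hfac⟩ := exists_openSub Z _ hW₀
  refine ⟨W, w, hw, fun Z' g => ?_⟩
  rw [hfac Z' g]
  constructor
  · intro hsub Y' gY q' sq1 X' gX f' sq2
    rw [hR g gY q' gX f' sq1 sq2]
    intro x'
    by_contra hx
    have h3 : Points.map (f ≫ q).hom (Points.map gX.hom x') ∈
        Points.map (f ≫ q).hom '' Tᶜ := ⟨_, hx, rfl⟩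
    rw [map_tower f q g gY q' gX f' sq1 sq2] at h3
    exact hsub ⟨_, rfl⟩ h3
  · intro H
    obtain ⟨Y', gY, q', X', gX, f', sq1, sq2⟩ := exists_canonical_bc f q g
    have h1 := (hR g gY q' gX f' sq1 sq2).1 (H Y' gY q' sq1 X' gX f' sq2)
    rintro _ ⟨z', rfl⟩ ⟨x, hx, hxz⟩
    have big : IsPullback gX.hom (f' ≫ q').hom (f ≫ q).hom g.hom := sq2.paste_vert sq1
    obtain ⟨x', -, hx'1⟩ :=
      Groth.Agent.S10175.result (f ≫ q) g (f' ≫ q') gX big.flip z' x hxz.symm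
    have h3 := h1 x'
    rw [hx'1] at h3
    exact hx h3

theorem main10639 {X Y Z : AlgSp.Space S}
    (f : X ⟶ Y) (p : X ⟶ Z) (q : Y ⟶ Z) (hc : f ≫ q = p)
    (hp1 : AlgSp.LocP @LocallyOfFiniteType p.hom) (hp2 : AlgSp.IsClosedMor p.hom) :
    ∃ (W : AlgSp.Space S) (w : W ⟶ Z), AlgSp.RepWith @IsOpenImmersion w.hom ∧
      ∀ (Z' : AlgSp.Space S) (g : Z' ⟶ Z),
        (∃ k : Z' ⟶ W, k ≫ w = g) ↔
          ∀ (Y' : AlgSp.Space S) (gY : Y' ⟶ Y) (q' : Y' ⟶ Z'),
            IsPullback gY.hom q'.hom q.hom g.hom →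
            ∀ (X' : AlgSp.Space S) (gX : X' ⟶ X) (f' : X' ⟶ Y'),
              IsPullback gX.hom f'.hom f.hom gY.hom →
                AlgSp.LocP (@LocallyOfFiniteType ⊓ @FormallyUnramified) f'.hom := by
  subst hc
  have hG := good_unram.{u}
  haveI : IsZariskiLocalAtSource
      (@LocallyOfFiniteType ⊓ @FormallyUnramified : MorphismProperty Scheme.{u}) :=
    zlocal_of_cases _ (Or.inr (Or.inr (Or.inr (Or.inr (Or.inr (Or.inr (fun _ _ _ => Iff.rfl)))))))
  have hopen := (Groth.Agent.Lib.Helper9.SpUnramLocus.main10312 f (f ≫ q) q rfl hp1 (𝟙 Z)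
    (𝟙 Y) q (IsPullback.of_horiz_isIso ⟨by simp⟩) (𝟙 X) f (IsPullback.of_horiz_isIso ⟨by simp⟩)).1
  refine exists_where f q hp2 _ hopen
    (fun {X' Y'} f' => AlgSp.LocP (@LocallyOfFiniteType ⊓ @FormallyUnramified) f'.hom) ?_
  intro Z' Y' X' g gY q' gX f' sq1 sq2
  have hbc := (Groth.Agent.Lib.Helper9.SpUnramLocus.main10312 f (f ≫ q) q rfl hp1 g gY q' sq1
    gX f' sq2).2
  rw [locP_iff_forall_hasAtMor hG X'.property Y'.property f'.hom]
  constructor
  · intro H x'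
    have h1 : x' ∈ {x' : Points X'.obj | HasAtMor (fun U _ h u => ∃ W : U.Opens, u ∈ W ∧
        LocallyOfFiniteType (W.ι ≫ h) ∧ FormallyUnramified (W.ι ≫ h)) f'.hom x'} := H x'
    rw [hbc] at h1
    exact h1
  · intro H x'
    have h1 : x' ∈ Points.map gX.hom ⁻¹' {x : Points X.obj | HasAtMor (fun U _ h u =>
        ∃ W : U.Opens, u ∈ W ∧ LocallyOfFiniteType (W.ι ≫ h) ∧ FormallyUnramified (W.ι ≫ h))
        f.hom x} := H x'
    rw [← hbc] at h1
    exact h1

end Groth.Agent.Lib.Helper9.SpWhere
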