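import Mathlib
import Groth.Agent.Lib.Helper9SpWhere3
import Groth.Agent.S9938
import Groth.Agent.S10262

/-!
# The open locus in the base over which a base change is unramified and universally injective
(helper9)
-/

set_option autoImplicit false
set_option linter.style.haveILetI false
open CategoryTheory CategoryTheory.Limits AlgebraicGeometry Opposite
universe u

namespace Groth.Agent.Lib.Helper9.SpWhereInj

section cat

variable {C : Type*} [Category C]

/-- the self fibre product of a base change is the base change of the self fibre product -/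
theorem isPullback_pr1 {X Y X' Y' XX XX' : C} {f : X ⟶ Y} {f' : X' ⟶ Y'} {gX : X' ⟶ X}
    {gY : Y' ⟶ Y} (sq2 : IsPullback gX f' f gY) {pr0 pr1 : XX ⟶ X}
    (hXX : IsPullback pr0 pr1 f f) {pr0' pr1' : XX' ⟶ X'} (hXX' : IsPullback pr0' pr1' f' f')
    (gXX : XX' ⟶ XX) (h0 : gXX ≫ pr0 = pr0' ≫ gX) (h1 : gXX ≫ pr1 = pr1' ≫ gX) :
    IsPullback gXX pr1' pr1 gX := by
  have s : IsPullback (pr0' ≫ gX) pr1' f (f' ≫ gY) := hXX'.paste_horiz sq2
  rw [← h0, ← sq2.w] at s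
  exact IsPullback.of_right s h1 hXX

/-- the diagonal of a base change is the base change of the diagonal -/
theorem isPullback_diag {X Y X' Y' XX XX' : C} {f : X ⟶ Y} {f' : X' ⟶ Y'} {gX : X' ⟶ X}
    {gY : Y' ⟶ Y} (sq2 : IsPullback gX f' f gY) {pr0 pr1 : XX ⟶ X}
    (hXX : IsPullback pr0 pr1 f f) {pr0' pr1' : XX' ⟶ X'} (hXX' : IsPullback pr0' pr1' f' f')
    (gXX : XX' ⟶ XX) (h0 : gXX ≫ pr0 = pr0' ≫ gX) (h1 : gXX ≫ pr1 = pr1' ≫ gX)
    (Δ : X ⟶ XX) (hΔ0 : Δ ≫ pr0 = 𝟙 X) (hΔ1 : Δ ≫ pr1 = 𝟙 X)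
    (Δ' : X' ⟶ XX') (hΔ'0 : Δ' ≫ pr0' = 𝟙 X') (hΔ'1 : Δ' ≫ pr1' = 𝟙 X') :
    IsPullback Δ' gX gXX Δ := by
  have t : IsPullback pr1' gXX gX pr1 := (isPullback_pr1 sq2 hXX hXX' gXX h0 h1).flip
  have s : IsPullback (Δ' ≫ pr1') gX gX (Δ ≫ pr1) := by
    rw [hΔ'1, hΔ1]
    exact IsPullback.of_horiz_isIso ⟨by simp⟩
  refine IsPullback.of_right s ?_ t
  apply hXX.hom_ext
  · rw [Category.assoc, h0, ← Category.assoc, hΔ'0, Category.assoc, hΔ0]
    simp
  · rw [Category.assoc, h1, ← Category.assoc, hΔ'1, Category.assoc, hΔ1]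
    simp

end cat

open AlgSp Groth.Agent.Lib.Helper12.LocPCases Groth.Agent.Lib.Helper12.LocPNbhd
  Groth.Agent.Lib.Helper9.SpWhere

variable {S : Scheme.{u}}

/-- the unramified locus of a morphism of algebraic spaces -/
def unramLocus {X Y : AlgSp.Space S} (f : X ⟶ Y) : Set (Points X.obj) :=
  {x : Points X.obj | HasAtMor (fun U _ h u => ∃ W : U.Opens, u ∈ W ∧
    LocallyOfFiniteType (W.ι ≫ h) ∧ FormallyUnramified (W.ι ≫ h)) f.hom x}

/-- a base change is unramified exactly when it lies over the unramified locus -/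
theorem locP_unram_bc_iff {X Y Z : AlgSp.Space S} (f : X ⟶ Y) (q : Y ⟶ Z)
    (hp1 : AlgSp.LocP @LocallyOfFiniteType (f ≫ q).hom)
    {Z' Y' X' : AlgSp.Space S} (g : Z' ⟶ Z) (gY : Y' ⟶ Y) (q' : Y' ⟶ Z') (gX : X' ⟶ X)
    (f' : X' ⟶ Y') (sq1 : IsPullback gY.hom q'.hom q.hom g.hom)
    (sq2 : IsPullback gX.hom f'.hom f.hom gY.hom) :
    AlgSp.LocP (@LocallyOfFiniteType ⊓ @FormallyUnramified) f'.hom ↔
      ∀ x' : Points X'.obj, Points.map gX.hom x' ∈ unramLocus f := by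
  have hG := good_unram.{u}
  haveI : IsZariskiLocalAtSource
      (@LocallyOfFiniteType ⊓ @FormallyUnramified : MorphismProperty Scheme.{u}) :=
    zlocal_of_cases _ (Or.inr (Or.inr (Or.inr (Or.inr (Or.inr (Or.inr (fun _ _ _ => Iff.rfl)))))))
  have hbc := (Groth.Agent.Lib.Helper9.SpUnramLocus.main10312 f (f ≫ q) q rfl hp1 g gY q' sq1
    gX f' sq2).2
  rw [locP_iff_forall_hasAtMor hG X'.property Y'.property f'.hom]
  constructor
  · intro H x'
    have h1 : x' ∈ {x' : Points X'.obj | HasAtMor (fun U _ h u => ∃ W : U.Opens, u ∈ W ∧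
        LocallyOfFiniteType (W.ι ≫ h) ∧ FormallyUnramified (W.ι ≫ h)) f'.hom x'} := H x'
    rw [hbc] at h1
    exact h1
  · intro H x'
    have h1 : x' ∈ Points.map gX.hom ⁻¹' {x : Points X.obj | HasAtMor (fun U _ h u =>
        ∃ W : U.Opens, u ∈ W ∧ LocallyOfFiniteType (W.ι ≫ h) ∧ FormallyUnramified (W.ι ≫ h))
        f.hom x} := H x'
    rw [← hbc] at h1
    exact h1

/-- the image of the unramified locus under the diagonal is open -/
theorem isOpen_diag_unramLocus {X Y : AlgSp.Space S} (f : X ⟶ Y)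
    (XX : AlgSp.Space S) (pr0 pr1 : XX ⟶ X) (hXX : IsPullback pr0.hom pr1.hom f.hom f.hom)
    (Δ : X.obj ⟶ XX.obj) (hΔ0 : Δ ≫ pr0.hom = 𝟙 _) (hΔ1 : Δ ≫ pr1.hom = 𝟙 _) :
    IsOpen (Points.map Δ '' unramLocus f) := by
  have hG := good_unram.{u}
  rw [isOpen_iff_forall_mem_open]
  rintro _ ⟨x, hx, rfl⟩
  obtain ⟨X₁, j, hj, hxj, hjf⟩ := (hasAtMor_iff_exists_open (S := S) hG f x).1 hx
  have hdiag : RepWith @IsOpenImmersion (pullback.diagonal (j ≫ f).hom) :=
    (Groth.Agent.S10262.result (j ≫ f)).1 hjf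
  have hmap : RepWith @IsOpenImmersion
      (pullback.map (j ≫ f).hom (j ≫ f).hom f.hom f.hom j.hom j.hom (𝟙 _)
        ((Category.comp_id _).trans rfl) ((Category.comp_id _).trans rfl)) :=
    MorphismProperty.pullbackMap (P := RepWith @IsOpenImmersion) hj hj rfl rfl
  have hiso : RepWith @IsOpenImmersion hXX.isoPullback.inv :=
    MorphismProperty.of_isIso (RepWith @IsOpenImmersion) _
  have heq : j.hom ≫ Δ = pullback.diagonal (j ≫ f).hom ≫
      pullback.map (j ≫ f).hom (j ≫ f).hom f.hom f.hom j.hom j.hom (𝟙 _)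
        ((Category.comp_id _).trans rfl) ((Category.comp_id _).trans rfl) ≫
      hXX.isoPullback.inv := by
    apply hXX.hom_ext
    · rw [Category.assoc, hΔ0, Category.assoc, Category.assoc, hXX.isoPullback_inv_fst,
        pullback.lift_fst, pullback.diagonal_fst_assoc, Category.comp_id]
    · rw [Category.assoc, hΔ1, Category.assoc, Category.assoc, hXX.isoPullback_inv_snd,
        pullback.lift_snd, pullback.diagonal_snd_assoc, Category.comp_id]
  have hjΔ : RepWith @IsOpenImmersion (j.hom ≫ Δ) := by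
    rw [heq]
    exact (repWith_isMultiplicative (S := S) @IsOpenImmersion).comp_mem _ _ hdiag
      ((repWith_isMultiplicative (S := S) @IsOpenImmersion).comp_mem _ _ hmap hiso)
  refine ⟨Set.range (Points.map (j.hom ≫ Δ)), ?_,
    Groth.Agent.Lib.Helper12.OpenSub.isOpen_range_of_open _ hjΔ, ?_⟩
  · rintro _ ⟨a, rfl⟩
    refine ⟨Points.map j.hom a, ?_, (Points.map_comp _ _ a).symm⟩
    exact (hasAtMor_iff_exists_open (S := S) hG f _).2 ⟨X₁, j, hj, ⟨a, rfl⟩, hjf⟩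
  · obtain ⟨a, rfl⟩ := hxj
    exact ⟨a, Points.map_comp _ _ a⟩

theorem main10640 {X Y Z : AlgSp.Space S}
    (f : X ⟶ Y) (p : X ⟶ Z) (q : Y ⟶ Z) (hc : f ≫ q = p)
    (XX : AlgSp.Space S) (pr0 pr1 : XX ⟶ X) (hXX : IsPullback pr0.hom pr1.hom f.hom f.hom)
    (hp1 : AlgSp.LocP @LocallyOfFiniteType p.hom) (hp2 : AlgSp.IsClosedMor p.hom)
    (hp3 : AlgSp.IsClosedMor (pr1 ≫ p).hom) :
    ∃ (W : AlgSp.Space S) (w : W ⟶ Z), AlgSp.RepWith @IsOpenImmersion w.hom ∧
      ∀ (Z' : AlgSp.Space S) (g : Z' ⟶ Z),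
        (∃ k : Z' ⟶ W, k ≫ w = g) ↔
          ∀ (Y' : AlgSp.Space S) (gY : Y' ⟶ Y) (q' : Y' ⟶ Z'),
            IsPullback gY.hom q'.hom q.hom g.hom →
            ∀ (X' : AlgSp.Space S) (gX : X' ⟶ X) (f' : X' ⟶ Y'),
              IsPullback gX.hom f'.hom f.hom gY.hom →
                (AlgSp.LocP (@LocallyOfFiniteType ⊓ @FormallyUnramified) f'.hom ∧
                  AlgSp.IsUnivInjectiveMor f'.hom) := by
  subst hc
  have hT : IsOpen (unramLocus f) :=
    (Groth.Agent.Lib.Helper9.SpUnramLocus.main10312 f (f ≫ q) q rfl hp1 (𝟙 Z)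
      (𝟙 Y) q (IsPullback.of_horiz_isIso ⟨by simp⟩) (𝟙 X) f
      (IsPullback.of_horiz_isIso ⟨by simp⟩)).1
  set Δ : X.obj ⟶ XX.obj := hXX.lift (𝟙 _) (𝟙 _) rfl with hΔdef
  have hΔ0 : Δ ≫ pr0.hom = 𝟙 _ := hXX.lift_fst _ _ _
  have hΔ1 : Δ ≫ pr1.hom = 𝟙 _ := hXX.lift_snd _ _ _
  have hO : IsOpen (Points.map Δ '' unramLocus f) :=
    isOpen_diag_unramLocus f XX pr0 pr1 hXX Δ hΔ0 hΔ1
  set T : Set (Points X.obj) := unramLocus f with hTdef
  set O : Set (Points XX.obj) := Points.map Δ '' T with hOdef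
  have hW₁ : IsOpen ((Points.map (f ≫ q).hom '' Tᶜ)ᶜ) :=
    (hp2 _ hT.isClosed_compl).isOpen_compl
  have hW₂ : IsOpen ((Points.map (pr1 ≫ f ≫ q).hom '' Oᶜ)ᶜ) :=
    (hp3 _ hO.isClosed_compl).isOpen_compl
  obtain ⟨W, w, hw, hfac⟩ := exists_openSub Z _ (hW₁.inter hW₂)
  refine ⟨W, w, hw, fun Z' g => ?_⟩
  rw [hfac Z' g]
  -- the data attached to a base change
  have key : ∀ (Y' : AlgSp.Space S) (gY : Y' ⟶ Y) (q' : Y' ⟶ Z')
      (_ : IsPullback gY.hom q'.hom q.hom g.hom) (X' : AlgSp.Space S) (gX : X' ⟶ X)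
      (f' : X' ⟶ Y') (_ : IsPullback gX.hom f'.hom f.hom gY.hom),
      ∃ gXX : pullback f'.hom f'.hom ⟶ XX.obj,
        IsPullback (pullback.diagonal f'.hom) gX.hom gXX Δ ∧
        IsPullback gXX (pullback.snd f'.hom f'.hom ≫ f'.hom ≫ q'.hom) (pr1 ≫ f ≫ q).hom g.hom := by
    intro Y' gY q' sq1 X' gX f' sq2
    have hXX' := IsPullback.of_hasPullback f'.hom f'.hom
    have hcond : (pullback.fst f'.hom f'.hom ≫ gX.hom) ≫ f.hom =
        (pullback.snd f'.hom f'.hom ≫ gX.hom) ≫ f.hom := by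
      rw [Category.assoc, Category.assoc, sq2.w, ← Category.assoc, ← Category.assoc,
        pullback.condition]
    refine ⟨hXX.lift _ _ hcond, ?_, ?_⟩
    · exact isPullback_diag sq2 hXX hXX' _ (hXX.lift_fst _ _ _) (hXX.lift_snd _ _ _) Δ hΔ0 hΔ1
        _ (pullback.diagonal_fst _) (pullback.diagonal_snd _)
    · have h1 := isPullback_pr1 sq2 hXX hXX' _ (hXX.lift_fst _ _ hcond) (hXX.lift_snd _ _ hcond)
      have h2 := (h1.paste_vert sq2).paste_vert sq1
      rw [Category.assoc, Category.assoc] at h2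
      exact h2
  constructor
  · intro hsub Y' gY q' sq1 X' gX f' sq2
    obtain ⟨gXX, hd, hbig⟩ := key Y' gY q' sq1 X' gX f' sq2
    constructor
    · rw [locP_unram_bc_iff f q hp1 g gY q' gX f' sq1 sq2]
      intro x'
      by_contra hx
      have h3 : Points.map (f ≫ q).hom (Points.map gX.hom x') ∈
          Points.map (f ≫ q).hom '' Tᶜ := ⟨_, hx, rfl⟩
      rw [map_tower f q g gY q' gX f' sq1 sq2] at h3
      exact (hsub ⟨_, rfl⟩).1 h3
    · refine (Groth.Agent.S9938.result f').2.2 ?_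
      intro xx'
      have hxx : Points.map gXX xx' ∈ O := by
        by_contra hn
        have h3 : Points.map (pr1 ≫ f ≫ q).hom (Points.map gXX xx') ∈
            Points.map (pr1 ≫ f ≫ q).hom '' Oᶜ := ⟨_, hn, rfl⟩
        rw [← Points.map_comp, hbig.w, Points.map_comp] at h3
        exact (hsub ⟨_, rfl⟩).2 h3
      obtain ⟨x, -, hx⟩ := hxx
      obtain ⟨x', hx'1, -⟩ :=
        Groth.Agent.S10175.exists_point_of_isPullback hd xx' x hx.symm
      exact ⟨x', hx'1⟩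
  · intro H
    obtain ⟨Y', gY, q', X', gX, f', sq1, sq2⟩ := exists_canonical_bc f q g
    obtain ⟨gXX, hd, hbig⟩ := key Y' gY q' sq1 X' gX f' sq2
    obtain ⟨hunr, hinj⟩ := H Y' gY q' sq1 X' gX f' sq2
    have h1 := (locP_unram_bc_iff f q hp1 g gY q' gX f' sq1 sq2).1 hunr
    have hsurj : IsSurjectiveMor (pullback.diagonal f'.hom) :=
      (Groth.Agent.S9938.result f').2.1 hinj
    rintro _ ⟨z', rfl⟩
    constructor
    · rintro ⟨x, hx, hxz⟩
      have big : IsPullback gX.hom (f' ≫ q').hom (f ≫ q).hom g.hom := sq2.paste_vert sq1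
      obtain ⟨x', -, hx'1⟩ :=
        Groth.Agent.S10175.result (f ≫ q) g (f' ≫ q') gX big.flip z' x hxz.symm
      have h3 := h1 x'
      rw [hx'1] at h3
      exact hx h3
    · rintro ⟨xx, hxx, hxxz⟩
      obtain ⟨xx', -, hxx'⟩ :=
        Groth.Agent.S10175.exists_point_of_isPullback hbig.flip z' xx hxxz.symm
      obtain ⟨x', rfl⟩ := hsurj xx'
      apply hxx
      refine ⟨Points.map gX.hom x', h1 x', ?_⟩
      rw [← hxx', ← Points.map_comp, ← Points.map_comp, hd.w]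

end Groth.Agent.Lib.Helper9.SpWhereInj
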