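import Mathlib
import Groth.Agent.Lib.Helper9ElemDistPushout
import Groth.Agent.Lib.Helper9SpWhereInj
import Groth.Agent.S10510
import Groth.Agent.S10262
import Groth.Agent.S9874
import Groth.Agent.S9948
import Groth.Agent.Lib.Helper12SrcLocal
import Groth.Agent.Lib.Helper12OpenSub2
import Groth.Agent.Lib.Helper12ZarGlue
import Groth.Prelude.Def_AlgSpSub

/-!
# Elementary distinguished squares of algebraic spaces are pushouts (helper9)
-/

set_option autoImplicit false
set_option linter.style.haveILetI false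
open CategoryTheory CategoryTheory.Limits AlgebraicGeometry Opposite
universe u

namespace Groth.Agent.Lib.Helper9.SpElemDist

open AlgSp Groth.Agent.S13210 Groth.Agent.Lib.Helper9 Groth.Agent.Lib.Helper9.ElemDistPushout

variable {S : Scheme.{u}}

/-- a map of sheaves through which every point of the target lifts locally is an epimorphism -/
theorem epi_of_local_lifts {A W : AlgSp.Sp S} (π : A ⟶ W)
    (h : ∀ (T : Over S) (t : (AlgSp.yon S).obj T ⟶ W), ∃ (κ : Type u) (Tk : κ → Over S)
      (c : ∀ k, Tk k ⟶ T), Sieve.ofArrows Tk c ∈ AlgSp.J S T ∧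
      ∀ k, ∃ l : (AlgSp.yon S).obj (Tk k) ⟶ A, l ≫ π = (AlgSp.yon S).map (c k) ≫ t) : Epi π := by
  rw [← Sheaf.isLocallySurjective_iff_epi]
  constructor
  intro T s
  obtain ⟨κ, Tk, c, hmem, hl⟩ := h T ((yEquiv T W).symm s)
  refine (AlgSp.J S).superset_covering ?_ hmem
  rw [Sieve.ofArrows, Sieve.generate_le_iff]
  rintro _ _ ⟨k⟩
  obtain ⟨l, hl⟩ := hl k
  refine ⟨yEquiv _ A l, ?_⟩
  rw [← yEquiv_comp, hl, ← Groth.Agent.Lib.Helper12.ZarGlue.map_yEquiv, Equiv.apply_symm_apply]

/-- a jointly surjective pair of flat morphisms locally of finite presentation is jointly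
epimorphic -/
theorem epi_coprodDesc {X A B : AlgSp.Space S} (g₁ : A ⟶ X) (g₂ : B ⟶ X)
    (h₁ : LocP @Flat g₁.hom ∧ LocP @LocallyOfFinitePresentation g₁.hom)
    (h₂ : LocP @Flat g₂.hom ∧ LocP @LocallyOfFinitePresentation g₂.hom)
    (hsurj : ∀ x : Points X.obj, x ∈ Set.range (Points.map g₁.hom) ∨
      x ∈ Set.range (Points.map g₂.hom)) : Epi (coprod.desc g₁.hom g₂.hom) := by
  apply epi_of_local_lifts
  intro T t
  let Xi : ULift.{u} Bool → AlgSp.Space S := fun i => match i with
    | ⟨true⟩ => A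
    | ⟨false⟩ => B
  let g : ∀ i, Xi i ⟶ X := fun i => match i with
    | ⟨true⟩ => g₁
    | ⟨false⟩ => g₂
  have hcov : AlgSp.IsFppfCover (fun i => (Xi i).obj) (fun i => (g i).hom) := by
    refine ⟨?_, fun x => ?_⟩
    · rintro ⟨_ | _⟩
      · exact h₂
      · exact h₁
    · rcases hsurj x with hx | hx
      · exact ⟨⟨true⟩, hx⟩
      · exact ⟨⟨false⟩, hx⟩
  obtain ⟨κ, Tk, c, hmem, hl⟩ := Groth.Agent.S10510.result X Xi g hcov T t
  refine ⟨κ, Tk, c, hmem, fun k => ?_⟩
  obtain ⟨⟨_ | _⟩, l, hl⟩ := hl k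
  · exact ⟨l ≫ coprod.inr, by rw [Category.assoc, coprod.inr_desc]; exact hl⟩
  · exact ⟨l ≫ coprod.inl, by rw [Category.assoc, coprod.inl_desc]; exact hl⟩

theorem locP_mono {P P' : MorphismProperty Scheme.{u}} (h : P ≤ P') {F G : AlgSp.Sp S}
    {f : F ⟶ G} (hf : LocP P f) : LocP P' f :=
  fun _ _ a b k ha hb hc => h _ (hf a b k ha hb hc)

/-- an open immersion is flat and locally of finite presentation -/
theorem flat_lfp_of_open {A X : AlgSp.Space S} (d : A ⟶ X)
    (hd : RepWith @IsOpenImmersion d.hom) :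
    LocP @Flat d.hom ∧ LocP @LocallyOfFinitePresentation d.hom := by
  constructor
  · rw [Groth.Agent.S9948.result @Flat (Or.inr (Or.inr (Or.inl rfl))) d hd.1]
    exact Groth.Agent.Lib.Helper12.OpenSub.repWith_mono
      (fun _ _ g hg => by haveI : IsOpenImmersion g := hg; infer_instance) hd
  · rw [Groth.Agent.S9948.result @LocallyOfFinitePresentation (Or.inr (Or.inl rfl)) d hd.1]
    exact Groth.Agent.Lib.Helper12.OpenSub.repWith_mono
      (fun _ _ g hg => by haveI : IsOpenImmersion g := hg; infer_instance) hd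

/-- two morphisms from an algebraic space to a sheaf which agree on two open subspaces covering
it are equal -/
theorem hom_ext_of_open_pair {X D₁ D₂ : AlgSp.Space S} (d₁ : D₁ ⟶ X) (d₂ : D₂ ⟶ X)
    (h₁ : RepWith @IsOpenImmersion d₁.hom) (h₂ : RepWith @IsOpenImmersion d₂.hom)
    (hsurj : ∀ x : Points X.obj, x ∈ Set.range (Points.map d₁.hom) ∨
      x ∈ Set.range (Points.map d₂.hom)) {Z : AlgSp.Sp S} (x y : X.obj ⟶ Z)
    (e₁ : d₁.hom ≫ x = d₁.hom ≫ y) (e₂ : d₂.hom ≫ x = d₂.hom ≫ y) : x = y := by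
  haveI := epi_coprodDesc d₁ d₂ (flat_lfp_of_open d₁ h₁) (flat_lfp_of_open d₂ h₂) hsurj
  rw [← cancel_epi (coprod.desc d₁.hom d₂.hom)]
  apply coprod.hom_ext
  · rw [← Category.assoc, ← Category.assoc, coprod.inl_desc, e₁]
  · rw [← Category.assoc, ← Category.assoc, coprod.inr_desc, e₂]

/-- the key point: a morphism from `V` compatible with `U` over `U ×_W V` coequalizes the kernel
pair of `f : V ⟶ W` -/
theorem kernelPair_eq {U V W P : AlgSp.Space S} (j : U ⟶ W) (f : V ⟶ W)
    (hj : RepWith @IsOpenImmersion j.hom) (hfet : LocP @Etale f.hom) {Tc Pc : AlgSp.Sp S}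
    (i : Tc ⟶ W.obj) (p₁ : Pc ⟶ Tc) (p₂ : Pc ⟶ V.obj)
    (hrange : Set.range (Points.map i) = (Set.range (Points.map j.hom))ᶜ)
    (hPc : IsPullback p₁ p₂ i f.hom) [Mono p₁] (p : P ⟶ U) (q : P ⟶ V)
    (hP : IsPullback p.hom q.hom j.hom f.hom) {Z : AlgSp.Sp S} (a : U.obj ⟶ Z) (b : V.obj ⟶ Z)
    (hab : p.hom ≫ a = q.hom ≫ b) :
    pullback.fst f.hom f.hom ≫ b = pullback.snd f.hom f.hom ≫ b := by
  have hVV : IsAlgSpace (pullback f.hom f.hom) :=
    Groth.Agent.S9874.isAlgSpace_of_isPullback W.property.diag V.property V.property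
      (IsPullback.of_hasPullback f.hom f.hom)
  have hΔ : RepWith @IsOpenImmersion (pullback.diagonal f.hom) :=
    (Groth.Agent.S10262.result f).1 (locP_mono (fun _ _ g hg => by
      haveI : Etale g := hg
      exact ⟨inferInstance, inferInstance⟩) hfet)
  have sqE := IsPullback.of_hasPullback (pullback.fst f.hom f.hom ≫ f.hom) j.hom
  have hE : IsAlgSpace (pullback (pullback.fst f.hom f.hom ≫ f.hom) j.hom) :=
    Groth.Agent.S9874.isAlgSpace_of_isPullback W.property.diag hVV U.property sqE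
  have he : RepWith @IsOpenImmersion (pullback.fst (pullback.fst f.hom f.hom ≫ f.hom) j.hom) :=
    MorphismProperty.of_isPullback (P := RepWith @IsOpenImmersion) sqE.flip hj
  refine hom_ext_of_open_pair (X := ⟨_, hVV⟩) (D₁ := V) (D₂ := ⟨_, hE⟩)
    (ObjectProperty.homMk (pullback.diagonal f.hom))
    (ObjectProperty.homMk (pullback.fst (pullback.fst f.hom f.hom ≫ f.hom) j.hom)) hΔ he ?_ _ _
    ?_ ?_
  · intro xx
    by_cases hw : Points.map (pullback.fst f.hom f.hom ≫ f.hom) xx ∈
        Set.range (Points.map j.hom)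
    · right
      change xx ∈ Set.range (Points.map (pullback.fst (pullback.fst f.hom f.hom ≫ f.hom) j.hom))
      rw [Groth.Agent.Lib.Helper12.OpenSub.range_map_fst_of_isPullback sqE]
      exact hw
    · left
      have hw' : Points.map (pullback.fst f.hom f.hom ≫ f.hom) xx ∈ Set.range (Points.map i) := by
        rw [hrange]
        exact hw
      obtain ⟨t, ht⟩ := hw'
      have sqT := IsPullback.of_hasPullback (pullback.fst f.hom f.hom ≫ f.hom) i
      obtain ⟨xx', hxx'1, -⟩ :=
        Groth.Agent.S10175.exists_point_of_isPullback sqT xx t ht.symm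
      set r := pullback.fst (pullback.fst f.hom f.hom ≫ f.hom) i with hr
      set s := pullback.snd (pullback.fst f.hom f.hom ≫ f.hom) i with hs
      have c0 : s ≫ i = (r ≫ pullback.fst f.hom f.hom) ≫ f.hom := by
        rw [Category.assoc]
        exact sqT.w.symm
      have c1 : s ≫ i = (r ≫ pullback.snd f.hom f.hom) ≫ f.hom := by
        rw [c0, Category.assoc, Category.assoc]
        exact congrArg (fun m => r ≫ m) pullback.condition
      have hm : hPc.lift s (r ≫ pullback.fst f.hom f.hom) c0 =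
          hPc.lift s (r ≫ pullback.snd f.hom f.hom) c1 := by
        rw [← cancel_mono p₁, hPc.lift_fst, hPc.lift_fst]
      have hr01 : r ≫ pullback.fst f.hom f.hom = r ≫ pullback.snd f.hom f.hom := by
        rw [← hPc.lift_snd s (r ≫ pullback.fst f.hom f.hom) c0, hm, hPc.lift_snd]
      have hrΔ : r = (r ≫ pullback.fst f.hom f.hom) ≫ pullback.diagonal f.hom := by
        apply pullback.hom_ext
        · rw [Category.assoc, pullback.diagonal_fst, Category.comp_id]
        · rw [Category.assoc, pullback.diagonal_snd, Category.comp_id, hr01]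
      refine ⟨Points.map (r ≫ pullback.fst f.hom f.hom) xx', ?_⟩
      change Points.map (pullback.diagonal f.hom) _ = xx
      rw [← Points.map_comp, ← hrΔ, hxx'1]
  · change pullback.diagonal f.hom ≫ pullback.fst f.hom f.hom ≫ b =
      pullback.diagonal f.hom ≫ pullback.snd f.hom f.hom ≫ b
    rw [pullback.diagonal_fst_assoc, pullback.diagonal_snd_assoc]
  · change pullback.fst (pullback.fst f.hom f.hom ≫ f.hom) j.hom ≫ pullback.fst f.hom f.hom ≫ b =
      pullback.fst (pullback.fst f.hom f.hom ≫ f.hom) j.hom ≫ pullback.snd f.hom f.hom ≫ b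
    set e := pullback.fst (pullback.fst f.hom f.hom ≫ f.hom) j.hom with he'
    set u := pullback.snd (pullback.fst f.hom f.hom ≫ f.hom) j.hom with hu'
    have c0 : u ≫ j.hom = (e ≫ pullback.fst f.hom f.hom) ≫ f.hom := by
      rw [Category.assoc]
      exact sqE.w.symm
    have c1 : u ≫ j.hom = (e ≫ pullback.snd f.hom f.hom) ≫ f.hom := by
      rw [c0, Category.assoc, Category.assoc]
      exact congrArg (fun m => e ≫ m) pullback.condition
    have h0 : e ≫ pullback.fst f.hom f.hom ≫ b = u ≫ a := by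
      rw [← Category.assoc, ← hP.lift_snd u (e ≫ pullback.fst f.hom f.hom) c0, Category.assoc,
        ← hab, ← Category.assoc, hP.lift_fst]
    have h1 : e ≫ pullback.snd f.hom f.hom ≫ b = u ≫ a := by
      rw [← Category.assoc, ← hP.lift_snd u (e ≫ pullback.snd f.hom f.hom) c1, Category.assoc,
        ← hab, ← Category.assoc, hP.lift_fst]
    rw [h0, h1]

theorem main10695 {U V W P : AlgSp.Space S} (j : U ⟶ W) (f : V ⟶ W)
    (hsq : AlgSp.IsElemDistSq j.hom f.hom) (p : P ⟶ U) (q : P ⟶ V)
    (hP : IsPullback p.hom q.hom j.hom f.hom) : IsPushout p q j f := by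
  obtain ⟨hj, hf, Tc, Pc, i, p₁, p₂, hi, hPc, hiso⟩ := hsq
  haveI := hiso
  have hfet : LocP @Etale f.hom :=
    Groth.Agent.Lib.Helper12.SrcLocal.locP_etale_of_isEtaleMor f.hom hf
  have hsurjW : ∀ w : Points W.obj, w ∈ Set.range (Points.map j.hom) ∨
      w ∈ Set.range (Points.map f.hom) := by
    intro w
    by_cases hw : w ∈ Set.range (Points.map j.hom)
    · exact Or.inl hw
    · right
      have hw' : w ∈ Set.range (Points.map i) := by
        rw [hi.2.1]
        exact hw
      obtain ⟨t, rfl⟩ := hw'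
      refine ⟨Points.map p₂ (Points.map (inv p₁) t), ?_⟩
      rw [← Points.map_comp, ← Points.map_comp, ← hPc.w, IsIso.inv_hom_id_assoc]
  haveI hepi : Epi (coprod.desc j.hom f.hom) :=
    epi_coprodDesc j f (flat_lfp_of_open j hj)
      ⟨locP_mono (fun _ _ g hg => by haveI : Etale g := hg; infer_instance) hfet,
        locP_mono (fun _ _ g hg => by haveI : Etale g := hg; infer_instance) hfet⟩ hsurjW
  haveI : Mono j.hom := Groth.Agent.Lib.Helper12.LargestOpen.mono_of_open j.hom hj
  have key : ∀ (Z : AlgSp.Space S) (a : U ⟶ Z) (b : V ⟶ Z), p ≫ a = q ≫ b →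
      ∃! h : W.obj ⟶ Z.obj, j.hom ≫ h = a.hom ∧ f.hom ≫ h = b.hom := by
    intro Z a b hab
    have hab' : p.hom ≫ a.hom = q.hom ≫ b.hom := congrArg (fun m => m.hom) hab
    refine existsUnique_desc j.hom f.hom p.hom q.hom hP hepi a.hom b.hom hab' ?_
    intro A x y hxy
    have hk := kernelPair_eq j f hj hfet i p₁ p₂ hi.2.1 hPc p q hP a.hom b.hom hab'
    rw [← pullback.lift_fst x y hxy, Category.assoc, hk, ← Category.assoc, pullback.lift_snd]
  have w : p ≫ j = q ≫ f := ObjectProperty.hom_ext _ hP.w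
  refine ⟨⟨w⟩, ⟨PushoutCocone.IsColimit.mk w
    (fun s => ObjectProperty.homMk (key s.pt s.inl s.inr s.condition).exists.choose) ?_ ?_ ?_⟩⟩
  · intro s
    exact ObjectProperty.hom_ext _ (key s.pt s.inl s.inr s.condition).exists.choose_spec.1
  · intro s
    exact ObjectProperty.hom_ext _ (key s.pt s.inl s.inr s.condition).exists.choose_spec.2
  · intro s m h1 h2
    apply ObjectProperty.hom_ext
    exact (key s.pt s.inl s.inr s.condition).unique
      ⟨congrArg (fun m => m.hom) h1, congrArg (fun m => m.hom) h2⟩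
      (key s.pt s.inl s.inr s.condition).exists.choose_spec

end Groth.Agent.Lib.Helper9.SpElemDist
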