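import Mathlib
import Groth.Agent.Lib.Helper9SpEt

/-!
# Binary products in the small coherent model of the étale site of a quasi-separated algebraic space
(helper9)
-/

set_option autoImplicit false
set_option linter.style.haveILetI false
set_option backward.isDefEq.respectTransparency false
open CategoryTheory CategoryTheory.Limits AlgebraicGeometry Opposite
universe u

namespace Groth.Agent.Lib.Helper9.SpEt

open AlgSp

variable {S : Scheme.{u}} (X : Sp S)

section Square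

variable {A B P : Over S} (a₁ : (yon S).obj A ⟶ X) (a₂ : (yon S).obj B ⟶ X)
  (p₁ : P ⟶ A) (p₂ : P ⟶ B)

/-- the fibre product of two schemes over `X` is the pullback of the diagonal of `X` -/
theorem isPullback_diag (hsq : IsPullback ((yon S).map p₂) ((yon S).map p₁) a₂ a₁) :
    IsPullback ((yon S).map p₁ ≫ a₁) ((yon S).map (prod.lift p₁ p₂)) (Limits.diag X)
      (prod.lift ((yon S).map (prod.fst : A ⨯ B ⟶ A) ≫ a₁)
        ((yon S).map (prod.snd : A ⨯ B ⟶ B) ≫ a₂)) := by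
  have hprod : IsLimit (BinaryFan.mk ((yon S).map (prod.fst : A ⨯ B ⟶ A))
      ((yon S).map (prod.snd : A ⨯ B ⟶ B))) :=
    mapIsLimitOfPreservesOfIsLimit (yon S) _ _ (prodIsProd A B)
  have e1 : (yon S).map (prod.lift p₁ p₂) ≫ (yon S).map (prod.fst : A ⨯ B ⟶ A) = (yon S).map p₁ := by
    rw [← Functor.map_comp, prod.lift_fst]
  have e2 : (yon S).map (prod.lift p₁ p₂) ≫ (yon S).map (prod.snd : A ⨯ B ⟶ B) = (yon S).map p₂ := by
    rw [← Functor.map_comp, prod.lift_snd]
  have hw : ((yon S).map p₁ ≫ a₁) ≫ Limits.diag X = (yon S).map (prod.lift p₁ p₂) ≫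
      prod.lift ((yon S).map (prod.fst : A ⨯ B ⟶ A) ≫ a₁)
        ((yon S).map (prod.snd : A ⨯ B ⟶ B) ≫ a₂) := by
    apply Limits.prod.hom_ext
    · rw [Category.assoc, Category.assoc, Limits.prod.lift_fst, Category.assoc, Limits.prod.lift_fst,
        Category.comp_id, ← Category.assoc, e1]
    · rw [Category.assoc, Category.assoc, Limits.prod.lift_snd, Category.assoc, Limits.prod.lift_snd,
        Category.comp_id, ← Category.assoc, e2, hsq.w]
  refine IsPullback.of_isLimit (c := PullbackCone.mk _ _ hw) (PullbackCone.IsLimit.mk _ ?_ ?_ ?_ ?_)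
  · intro s
    refine hsq.lift (s.snd ≫ (yon S).map prod.snd) (s.snd ≫ (yon S).map prod.fst) ?_
    have h1 := congrArg (fun t => t ≫ (prod.fst : X ⨯ X ⟶ X)) s.condition
    have h2 := congrArg (fun t => t ≫ (prod.snd : X ⨯ X ⟶ X)) s.condition
    simp only [Category.assoc, Limits.prod.lift_fst, Limits.prod.lift_snd, Category.comp_id] at h1 h2
    rw [Category.assoc, Category.assoc, ← h1, ← h2]
  · intro s
    have h1 := congrArg (fun t => t ≫ (prod.fst : X ⨯ X ⟶ X)) s.condition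
    simp only [Category.assoc, Limits.prod.lift_fst, Category.comp_id] at h1
    rw [← Category.assoc, hsq.lift_snd, Category.assoc, ← h1]
  · intro s
    apply BinaryFan.IsLimit.hom_ext hprod
    · show (_ ≫ _) ≫ (yon S).map prod.fst = _ ≫ (yon S).map prod.fst
      rw [Category.assoc, e1, hsq.lift_snd]
    · show (_ ≫ _) ≫ (yon S).map prod.snd = _ ≫ (yon S).map prod.snd
      rw [Category.assoc, e2, hsq.lift_fst]
  · intro s m h1 h2
    apply hsq.hom_ext
    · rw [hsq.lift_fst, ← h2, Category.assoc, e2]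
    · rw [hsq.lift_snd, ← h2, Category.assoc, e1]

end Square

section Products

variable [QuasiSeparatedSpace S] (hqs : IsQuasiSeparatedSp X)

include hqs in
theorem fpProp_prodObj (E₁ E₂ : EtOver X) (h₁ : fpProp X E₁) (h₂ : fpProp X E₂) :
    fpProp X (EtOver.prodObj E₁ E₂) := by
  obtain ⟨hc₁, hs₁⟩ := h₁
  obtain ⟨hc₂, hs₂⟩ := h₂
  have r : Representable E₂.obj.hom := E₂.property.1
  obtain ⟨p₁, hp₁⟩ : ∃ p₁ : E₂.property.1.pullback E₁.obj.hom ⟶ E₁.obj.left,
    p₁ = E₂.property.1.snd E₁.obj.hom := ⟨_, rfl⟩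
  obtain ⟨p₂, hp₂⟩ : ∃ p₂ : E₂.property.1.pullback E₁.obj.hom ⟶ E₂.obj.left,
    p₂ = E₂.property.1.fst' E₁.obj.hom := ⟨_, rfl⟩
  have hsq : IsPullback ((yon S).map p₂) ((yon S).map p₁) E₂.obj.hom E₁.obj.hom := by
    rw [hp₁, hp₂]
    exact E₂.property.1.isPullback' E₁.obj.hom
  have hpb := isPullback_diag X E₁.obj.hom E₂.obj.hom p₁ p₂ hsq
  obtain ⟨m, hm⟩ : ∃ m : E₂.property.1.pullback E₁.obj.hom ⟶ E₁.obj.left ⨯ E₂.obj.left,
    m = prod.lift p₁ p₂ := ⟨_, rfl⟩
  rw [← hm] at hpb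
  have hqc : QuasiCompact m.left := ((repWith_iff _ _).1 hqs).2 _ _ m hpb
  obtain ⟨ht1, ht2⟩ := Groth.Agent.Lib.Helper9.EtFp.qcqs_pullback E₁.obj.left.hom E₂.obj.left.hom
    (Over.prodLeftIsoPullback E₁.obj.left E₂.obj.left)
  have hmono : Mono m := by
    constructor
    intro T u v huv
    apply Functor.relativelyRepresentable.hom_ext' E₂.property.1
    · have := congrArg (fun t => t ≫ (prod.snd : E₁.obj.left ⨯ E₂.obj.left ⟶ _)) huv
      simp only [Category.assoc, hm, prod.lift_snd] at this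
      rw [hp₂] at this
      exact this
    · have := congrArg (fun t => t ≫ (prod.fst : E₁.obj.left ⨯ E₂.obj.left ⟶ _)) huv
      simp only [Category.assoc, hm, prod.lift_fst] at this
      rw [hp₁] at this
      exact this
  haveI : Mono m.left := inferInstance
  show CompactSpace (E₂.property.1.pullback E₁.obj.hom).left ∧
    QuasiSeparatedSpace (E₂.property.1.pullback E₁.obj.hom).left
  exact ⟨QuasiCompact.compactSpace_of_compactSpace m.left,
    quasiSeparatedSpace_of_quasiSeparated m.left⟩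

include hqs in
theorem isClosedUnderBinaryProducts :
    (fpProp X).IsClosedUnderLimitsOfShape (Discrete WalkingPair) := by
  constructor
  rintro V ⟨h⟩
  let E₁ := h.diag.obj ⟨WalkingPair.left⟩
  let E₂ := h.diag.obj ⟨WalkingPair.right⟩
  have hl : IsLimit ((Cone.postcompose (diagramIsoPair h.diag).hom).obj ⟨V, h.π⟩) :=
    (IsLimit.postcomposeHomEquiv (diagramIsoPair h.diag) _).symm h.isLimit
  let e : V ≅ EtOver.prodObj E₁ E₂ := hl.conePointUniqueUpToIso (EtOver.prodIsLimit E₁ E₂)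
  exact (fpProp X).prop_of_iso e.symm
    (fpProp_prodObj X hqs E₁ E₂ (h.prop_diag_obj _) (h.prop_diag_obj _))

include hqs in
theorem hasBinaryProducts_Cfp : HasBinaryProducts (Cfp X) := by
  haveI := isClosedUnderBinaryProducts X hqs
  haveI : HasBinaryProducts (Fp X) := inferInstance
  exact Adjunction.hasLimitsOfShape_of_equivalence (ULiftHom.down : ULiftHom.{u + 1} (Fp X) ⥤ Fp X)

end Products

section Cover

/-- a morphism between open subobjects induced by a morphism of the ambient objects -/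
noncomputable def openMap {E E' : EtOver X} (q : E ⟶ E') (W : E.obj.left.left.Opens)
    (W' : E'.obj.left.left.Opens) (h : W ≤ q.hom.left.left ⁻¹ᵁ W') :
    openObj X E W ⟶ openObj X E' W' := by
  have hr : Set.range (W.ι ≫ q.hom.left.left) ⊆ Set.range W'.ι := by
    rintro _ ⟨y, rfl⟩
    rw [Scheme.Opens.range_ι]
    have hy : W.ι y ∈ (W : Set E.obj.left.left) := by
      rw [← Scheme.Opens.range_ι W]
      exact Set.mem_range_self y
    exact h hy
  let φ : (W : Scheme.{u}) ⟶ (W' : Scheme.{u}) := IsOpenImmersion.lift W'.ι (W.ι ≫ q.hom.left.left) hr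
  have hφ : φ ≫ W'.ι = W.ι ≫ q.hom.left.left := IsOpenImmersion.lift_fac _ _ _
  let g : (openObj X E W).obj.left ⟶ (openObj X E' W').obj.left := Over.homMk φ (by
    change φ ≫ W'.ι ≫ E'.obj.left.hom = W.ι ≫ E.obj.left.hom
    rw [← Category.assoc, hφ, Category.assoc, Over.w q.hom.left])
  have hg : g ≫ EtOver.homOfEtale (Scheme.Etale.mk W'.ι) =
      EtOver.homOfEtale (Scheme.Etale.mk W.ι) ≫ q.hom.left := Over.OverMorphism.ext hφ
  refine EtOver.homMk g ?_
  change (yon S).map g ≫ (yon S).map (EtOver.homOfEtale (Scheme.Etale.mk W'.ι)) ≫ E'.obj.hom =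
    (yon S).map (EtOver.homOfEtale (Scheme.Etale.mk W.ι)) ≫ E.obj.hom
  rw [← Category.assoc, ← Functor.map_comp, hg, Functor.map_comp, Category.assoc, EtOver.w q]

lemma fpProp_openObj (E : EtOver X) (W : E.obj.left.left.Opens) (hW : IsAffineOpen W) :
    fpProp X (openObj X E W) := by
  haveI : IsAffine (openObj X E W).obj.left.left := hW
  exact ⟨inferInstance, inferInstance⟩

theorem exists_weakly_final_family (hqc : IsQuasiCompactSp X) :
    ∃ (κ : Type u) (_ : Finite κ) (U : κ → Cfp X),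
      ∀ V : Cfp X, ∃ R ∈ Jfp X V, ∀ ⦃W : Cfp X⦄ (f : W ⟶ V), R f → ∃ k, Nonempty (W ⟶ U k) := by
  obtain ⟨U₀, p, hpe, hps, hcomp⟩ := hqc
  haveI : CompactSpace U₀.left := hcomp
  let U' : EtOver X := EtOver.mk p hpe
  obtain ⟨s, hs⟩ := isCompact_univ.elim_finite_subcover
    (fun W : U₀.left.affineOpens => ((W.1 : U₀.left.Opens) : Set U₀.left))
    (fun W => W.1.isOpen) (by
      intro x _
      obtain ⟨W, hW, hxW, -⟩ : ∃ W : U₀.left.Opens, W ∈ U₀.left.affineOpens ∧ x ∈ W ∧ W ≤ ⊤ :=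
        (TopologicalSpace.Opens.isBasis_iff_nbhd.1 U₀.left.isBasis_affineOpens)
        (show x ∈ (⊤ : U₀.left.Opens) from trivial)
      exact Set.mem_iUnion.2 ⟨⟨W, hW⟩, hxW⟩)
  refine ⟨s, inferInstance, fun k => mk X (openObj X U' k.1.1) (fpProp_openObj X U' k.1.1 k.1.2), ?_⟩
  intro V
  let R : Sieve V :=
    { arrows := fun W f => ∃ k : s, Nonempty (W ⟶ mk X (openObj X U' k.1.1) (fpProp_openObj X U' k.1.1 k.1.2))
      downward_closed := by
        rintro W W' f ⟨k, ⟨g⟩⟩ h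
        exact ⟨k, ⟨h ≫ g⟩⟩ }
  refine ⟨R, ?_, fun W f hf => hf⟩
  rw [mem_Jfp_iff]
  intro x
  let V' : EtOver X := (G X).obj V
  let Q : EtOver X := EtOver.prodObj V' U'
  let q₁ : Q ⟶ V' := EtOver.prodFst V' U'
  let q₂ : Q ⟶ U' := EtOver.prodSnd V' U'
  have hsurj : Surjective q₁.hom.left.left :=
    ((repWith_iff _ _).1 hps).2 V'.obj.hom _ _ (U'.property.1.isPullback V'.obj.hom)
  obtain ⟨w₀, hw₀⟩ := hsurj.surj x
  obtain ⟨k, hk⟩ : ∃ k : s, q₂.hom.left.left w₀ ∈ (k.1.1 : U₀.left.Opens) := by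
    have := hs (Set.mem_univ (q₂.hom.left.left w₀))
    obtain ⟨k, hk⟩ := Set.mem_iUnion.1 this
    obtain ⟨hks, hk'⟩ := Set.mem_iUnion.1 hk
    exact ⟨⟨k, hks⟩, hk'⟩
  obtain ⟨W', hW', hwW', hle⟩ : ∃ W' : Q.obj.left.left.Opens, W' ∈ Q.obj.left.left.affineOpens ∧
      w₀ ∈ W' ∧ W' ≤ q₂.hom.left.left ⁻¹ᵁ (k.1.1 : U₀.left.Opens) :=
    (TopologicalSpace.Opens.isBasis_iff_nbhd.1 Q.obj.left.left.isBasis_affineOpens)
      (show w₀ ∈ q₂.hom.left.left ⁻¹ᵁ (k.1.1 : U₀.left.Opens) from hk)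
  let Z : Cfp X := mk X (openObj X Q W') (fpProp_openObj X Q W' hW')
  let r : Z ⟶ V := (G X).preimage (openHom X Q W' ≫ q₁)
  refine ⟨Z, r, (⟨w₀, hwW'⟩ : W'), ⟨k, ⟨(G X).preimage (openMap X q₂ W' k.1.1 hle)⟩⟩, ?_⟩
  rw [Functor.map_preimage]
  exact hw₀

end Cover

end Groth.Agent.Lib.Helper9.SpEt
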