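import Mathlib
import Groth.Agent.Lib.Helper9SpEtProd
import Groth.Agent.Lib.Helper9AlgSite
import Groth.Agent.Lib.Helper9ExtTransfer

/-!
# Étale cohomology of a quasi-compact quasi-separated algebraic space commutes with filtered colimits
(helper9)
-/

set_option autoImplicit false
set_option linter.style.haveILetI false
open CategoryTheory CategoryTheory.Limits AlgebraicGeometry Opposite Abelian
universe u

namespace Groth.Agent.Lib.Helper9.SpEt

open AlgSp

variable {S : Scheme.{u}} (X : Sp S)

/-- restriction of abelian étale sheaves to the small model -/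
noncomputable abbrev Rab : AbEt X ⥤ Sheaf (Jfp X) AddCommGrpCat.{u + 1} :=
  (G X).sheafPushforwardContinuous AddCommGrpCat.{u + 1} (Jfp X) (etTop X)

instance : (Rab X).IsEquivalence := by unfold Rab; infer_instance

instance : (Rab X).Additive where
  map_add := by intros; rfl

instance : (Rab X).PreservesInjectiveObjects :=
  Functor.preservesInjectiveObjects_of_adjunction_of_preservesMonomorphisms
    (Rab X).asEquivalence.symm.toAdjunction

/-- restriction commutes with the constant sheaf functors -/
noncomputable def constIso :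
    constantSheaf (etTop X) AddCommGrpCat.{u + 1} ⋙ Rab X ≅
      constantSheaf (Jfp X) AddCommGrpCat.{u + 1} :=
  Functor.associator _ _ _ ≪≫
    Functor.isoWhiskerLeft (Functor.const (EtOver X)ᵒᵖ)
      ((G X).pushforwardContinuousSheafificationCompatibility AddCommGrpCat.{u + 1} (Jfp X)
        (etTop X)).symm ≪≫
    (Functor.associator _ _ _).symm ≪≫
    Functor.isoWhiskerRight
      (NatIso.ofComponents (fun A => Iso.refl _) (by intro A B f; rfl) :
        Functor.const (EtOver X)ᵒᵖ ⋙ (Functor.whiskeringLeft _ _ AddCommGrpCat.{u + 1}).obj (G X).op ≅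
          Functor.const (Cfp X)ᵒᵖ)
      (presheafToSheaf (Jfp X) AddCommGrpCat.{u + 1})

/-- cohomology of the small model -/
noncomputable abbrev Hfp (n : ℕ) : Sheaf (Jfp X) AddCommGrpCat.{u + 1} ⥤ AddCommGrpCat.{u + 1} :=
  @Sheaf.functorH (Cfp X) _ (Jfp X)
    (inferInstance : HasSheafify (Jfp X) AddCommGrpCat.{u + 1}) _ n

/-- étale cohomology of `X` is the cohomology of the small model -/
noncomputable def hetfIso (n : ℕ) :
    HEtF X n ≅ Rab X ⋙ Hfp X n :=
  (NatIso.ofComponents (fun F => Iso.refl _) (by intro F G f; rfl) :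
    HEtF X n ≅ (extFunctor.{u + 1} n).obj
      (op ((constantSheaf (etTop X) AddCommGrpCat.{u + 1}).obj
        (AddCommGrpCat.of (ULift.{u + 1} ℤ))))) ≪≫
    ExtTransfer.extIso (Rab X) _ n ≪≫
    Functor.isoWhiskerLeft (Rab X)
      ((extFunctor.{u + 1} n).mapIso ((constIso X).app (AddCommGrpCat.of (ULift.{u + 1} ℤ))).symm.op ≪≫
        (Groth.Agent.Lib.Helper9.TFTop.functorHIso (Jfp X) n).symm)

theorem preservesColimitsOfShape_HEtF [QuasiSeparatedSpace S] (hqc : IsQuasiCompactSp X)
    (hqs : IsQuasiSeparatedSp X) (n : ℕ) (I : Type (u + 1)) [SmallCategory I] [IsFiltered I] :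
    PreservesColimitsOfShape I (HEtF X n) := by
  haveI := hasBinaryProducts_Cfp X hqs
  obtain ⟨κ, hκ, U, hU⟩ := exists_weakly_final_family X hqc
  haveI := hκ
  have h : PreservesColimitsOfShape I (Hfp X n) :=
    Groth.Agent.Lib.Helper9.AlgSite.preservesColimitsOfShape_functorH' (isQCSite X) U hU I n
  haveI := h
  exact preservesColimitsOfShape_of_natIso (hetfIso X n).symm

end Groth.Agent.Lib.Helper9.SpEt
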