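import Mathlib
import Groth.Agent.Lib.Helper9FinThick
import Groth.Agent.Lib.Helper9SpDeform
import Groth.Agent.Lib.Helper9SpDeform2
import Groth.Agent.Lib.Helper2Thick
import Groth.Agent.S1309
import Groth.Agent.S1310
import Groth.Agent.S1312
import Groth.Agent.S1317
import Groth.Agent.S1320
import Groth.Agent.S1321
import Groth.Agent.S1322

/-!
# Finite order thickenings of algebraic spaces: charts (helper9)
-/

set_option autoImplicit false
set_option linter.style.haveILetI false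
set_option backward.isDefEq.respectTransparency false
open CategoryTheory CategoryTheory.Limits AlgebraicGeometry Opposite
universe u

namespace Groth.Agent.Lib.Helper9.SpFinThick

open AlgSp Groth.Agent.Lib.Helper9.SpPoint Groth.Agent.Lib.Helper9.SpBaseChange
  Groth.Agent.Lib.Helper9.SpFlatFib Groth.Agent.Lib.Helper9.SpDeform

variable {S : Scheme.{u}}

/-- the represented pullback of a finite order thickening of sheaves along ANY étale scheme chart
(not necessarily affine) is a finite order thickening of schemes -/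
theorem isFiniteOrderThickening_chart {F G : AlgSp.Sp S} (i : F ⟶ G) (n : ℕ)
    (hi : AlgSp.IsNThickMor n i) {T T' : Over S} (c' : (yon S).obj T' ⟶ G)
    (hc' : RepWith @Etale c') (c : (yon S).obj T ⟶ F) (iT : T ⟶ T')
    (sq : IsPullback c ((yon S).map iT) i c') :
    MoreMor.IsThickening iT.left ∧ iT.left.ker ^ (n + 1) = ⊥ := by
  have hth : MoreMor.IsThickening iT.left := hi.1.2 _ _ _ sq
  refine ⟨hth, ?_⟩
  haveI : IsClosedImmersion iT.left := hth.1
  refine Groth.Agent.Lib.Helper9.FinThick.ker_pow_eq_bot_of_affine iT.left n ?_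
  intro V'
  let V'o : Over S := Over.mk (V'.1.ι ≫ T'.hom)
  let jV : V'o ⟶ T' := Over.homMk V'.1.ι rfl
  have hP₀ : IsPullback (pullback.fst iT jV) (pullback.snd iT jV) iT jV :=
    IsPullback.of_hasPullback iT jV
  have hPsch : IsPullback (pullback.fst iT jV).left (pullback.snd iT jV).left iT.left jV.left :=
    hP₀.map (Over.forget S)
  have hPy : IsPullback ((yon S).map (pullback.fst iT jV)) ((yon S).map (pullback.snd iT jV))
      ((yon S).map iT) ((yon S).map jV) := hP₀.map (yon S)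
  have hbig : IsPullback ((yon S).map (pullback.fst iT jV) ≫ c)
      ((yon S).map (pullback.snd iT jV)) i ((yon S).map jV ≫ c') :=
    (hPy.flip.paste_vert sq.flip).flip
  have hjV : RepWith @Etale ((yon S).map jV) := by
    rw [repWith_yon_map_iff]
    show Etale V'.1.ι
    infer_instance
  have hb : RepWith @Etale ((yon S).map jV ≫ c') :=
    (repWith_isMultiplicative (S := S) @Etale).comp_mem _ _ hjV hc'
  have hpz : powZero n (pullback.snd iT jV).left :=
    hi.2 ((yon S).map jV ≫ c') _ (pullback.snd iT jV) (show IsAffine V'.1.toScheme from V'.2) hb hbig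
  exact ⟨_, (pullback.snd iT jV).left, (pullback.fst iT jV).left, hPsch.flip, hpz⟩

/-- base change of a chart tower along a GIVEN chart square of the base -/
theorem exists_tower_over {X X' Y Y' B B' : AlgSp.Space S} (iX : X ⟶ X') (iY : Y ⟶ Y')
    (iB : B ⟶ B') (f : X ⟶ Y) (f' : X' ⟶ Y') (g : Y ⟶ B) (g' : Y' ⟶ B')
    (hcX : IsPullback iX.hom (f ≫ g).hom (f' ≫ g').hom iB.hom)
    (hcY : IsPullback iY.hom g.hom g'.hom iB.hom) (w : iX ≫ f' = f ≫ iY)
    {U' V' T' T : Over S}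
    (a' : (yon S).obj U' ⟶ X'.obj) (b' : (yon S).obj V' ⟶ Y'.obj) (c' : (yon S).obj T' ⟶ B'.obj)
    (k' : U' ⟶ V') (m' : V' ⟶ T')
    (ha' : RepWith @Etale a') (hb' : RepWith @Etale b') (hc' : RepWith @Etale c')
    (hc1' : a' ≫ f'.hom = (yon S).map k' ≫ b') (hc2' : b' ≫ g'.hom = (yon S).map m' ≫ c')
    (c : (yon S).obj T ⟶ B.obj) (iT : T ⟶ T') (hcT : RepWith @Etale c)
    (hwT : c ≫ iB.hom = (yon S).map iT ≫ c') :
    ∃ (U V : Over S) (iU : U ⟶ U') (iV : V ⟶ V') (a : (yon S).obj U ⟶ X.obj)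
      (b : (yon S).obj V ⟶ Y.obj) (k : U ⟶ V) (m : V ⟶ T),
      RepWith @Etale a ∧ RepWith @Etale b ∧
      a ≫ f.hom = (yon S).map k ≫ b ∧ b ≫ g.hom = (yon S).map m ≫ c ∧
      IsPullback iU.left (k.left ≫ m.left) (k'.left ≫ m'.left) iT.left ∧
      IsPullback iV.left m.left m'.left iT.left ∧
      iU.left ≫ k'.left = k.left ≫ iV.left ∧
      a ≫ iX.hom = (yon S).map iU ≫ a' := by
  have hcomp' : a' ≫ (f' ≫ g').hom = (yon S).map (k' ≫ m') ≫ c' := by
    change a' ≫ f'.hom ≫ g'.hom = _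
    rw [← Category.assoc, hc1', Category.assoc, hc2', Functor.map_comp, Category.assoc]
  obtain ⟨b, hb, hb1, hb2⟩ := exists_chart_baseChange Y'.property B'.property g'.hom iB.hom
    iY.hom g.hom hcY b' c' m' hb' hc' hc2' c iT hcT hwT
  obtain ⟨a, ha, ha1, ha2⟩ := exists_chart_baseChange X'.property B'.property (f' ≫ g').hom
    iB.hom iX.hom (f ≫ g).hom hcX a' c' (k' ≫ m') ha' hc' hcomp' c iT hcT hwT
  have hw : (pullback.fst (k' ≫ m') iT ≫ k') ≫ m' = pullback.snd (k' ≫ m') iT ≫ iT := by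
    rw [Category.assoc]
    exact pullback.condition
  obtain ⟨k, hk⟩ : ∃ k : pullback (k' ≫ m') iT ⟶ pullback m' iT,
      k = pullback.lift (pullback.fst (k' ≫ m') iT ≫ k') (pullback.snd (k' ≫ m') iT) hw := ⟨_, rfl⟩
  have hk1 : k ≫ pullback.fst m' iT = pullback.fst (k' ≫ m') iT ≫ k' := by
    rw [hk, pullback.lift_fst]
  have hk2 : k ≫ pullback.snd m' iT = pullback.snd (k' ≫ m') iT := by
    rw [hk, pullback.lift_snd]
  have hc1 : a ≫ f.hom = (yon S).map k ≫ b := by
    apply hcY.hom_ext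
    · have hw' : iX.hom ≫ f'.hom = f.hom ≫ iY.hom := congrArg (fun t => t.hom) w
      rw [Category.assoc, ← hw', ← Category.assoc, ha1, Category.assoc, hc1', Category.assoc, hb1,
        ← Category.assoc, ← Category.assoc, ← Functor.map_comp, ← Functor.map_comp, hk1]
    · rw [Category.assoc ((yon S).map k), hb2, ← Category.assoc ((yon S).map k),
        ← Functor.map_comp, hk2, Category.assoc]
      exact ha2
  have sqU : IsPullback (pullback.fst (k' ≫ m') iT).left (pullback.snd (k' ≫ m') iT).left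
      (k'.left ≫ m'.left) iT.left :=
    (IsPullback.of_hasPullback (k' ≫ m') iT).map (Over.forget S)
  have sqV : IsPullback (pullback.fst m' iT).left (pullback.snd m' iT).left m'.left iT.left :=
    (IsPullback.of_hasPullback m' iT).map (Over.forget S)
  refine ⟨pullback (k' ≫ m') iT, pullback m' iT, pullback.fst _ _, pullback.fst _ _, a, b,
    k, pullback.snd m' iT, ha, hb, hc1, hb2, ?_, sqV, ?_, ha1⟩
  · have : k.left ≫ (pullback.snd m' iT).left = (pullback.snd (k' ≫ m') iT).left :=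
      congrArg (fun t => t.left) hk2
    rw [this]
    exact sqU
  · exact (congrArg (fun t => t.left) hk1).symm

/-- transfer of a scheme-level deformation statement over a finite order thickening to algebraic
spaces -/
theorem locP_deform_fin_iff (P : MorphismProperty Scheme.{u}) (hP : Seven P)
    (hsch : ∀ {X X' Y Y' T T' : Scheme.{u}} (iX : X ⟶ X') (iY : Y ⟶ Y') (iT : T ⟶ T')
      (f : X ⟶ Y) (f' : X' ⟶ Y') (g : Y ⟶ T) (g' : Y' ⟶ T'),
      MoreMor.IsFiniteOrderThickening iT → IsPullback iX (f ≫ g) (f' ≫ g') iT →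
      IsPullback iY g g' iT → iX ≫ f' = f ≫ iY → Flat (f' ≫ g') → (P f ↔ P f'))
    {X X' Y Y' B B' : AlgSp.Space S} (iX : X ⟶ X') (iY : Y ⟶ Y')
    (iB : B ⟶ B') (f : X ⟶ Y) (f' : X' ⟶ Y') (g : Y ⟶ B) (g' : Y' ⟶ B')
    (hcX : IsPullback iX.hom (f ≫ g).hom (f' ≫ g').hom iB.hom)
    (hcY : IsPullback iY.hom g.hom g'.hom iB.hom) (w : iX ≫ f' = f ≫ iY)
    (hB : AlgSp.IsFinThickMor iB.hom)
    (hflat : AlgSp.LocP @Flat (f' ≫ g').hom) :
    AlgSp.LocP P f.hom ↔ AlgSp.LocP P f'.hom := by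
  have hw' : iX.hom ≫ f'.hom = f.hom ≫ iY.hom := congrArg (fun t => t.hom) w
  have hcart : IsPullback iX.hom f.hom f'.hom iY.hom := IsPullback.of_bot hcX hw' hcY
  refine ⟨fun H => ?_, fun H => Groth.Agent.S9984.result P hP f' iY iX f hcart H⟩
  obtain ⟨n, hn⟩ := hB
  obtain ⟨U', V', T', a', b', c', k', m', ha', hsa', hb', hc', hc1', hc2'⟩ :=
    exists_atlas_tower f' g'
  have hpbT := hn.1.1.isPullback c'
  have hfin := isFiniteOrderThickening_chart iB.hom n hn c' hc' _ _ hpbT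
  have hcT : RepWith @Etale (hn.1.1.fst c') :=
    MorphismProperty.of_isPullback (P := AlgSp.RepWith @Etale) hpbT.flip hc'
  have hthT : MoreMor.IsFiniteOrderThickening (hn.1.1.snd c').left :=
    ⟨hfin.1, ⟨n + 1, hfin.2.trans Scheme.IdealSheafData.zero_eq_bot.symm⟩⟩
  obtain ⟨U, V, iU, iV, a, b, k, m, ha, hb, hc1, hc2, sqU, sqV, hwsch, -⟩ :=
    exists_tower_over iX iY iB f f' g g' hcX hcY w a' b' c' k' m' ha' hb' hc' hc1' hc2'
      (hn.1.1.fst c') (hn.1.1.snd c') hcT hpbT.w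
  have hcomp' : a' ≫ (f' ≫ g').hom = (yon S).map (k' ≫ m') ≫ c' := by
    change a' ≫ f'.hom ≫ g'.hom = _
    rw [← Category.assoc, hc1', Category.assoc, hc2', Functor.map_comp, Category.assoc]
  have h1 : Flat (k'.left ≫ m'.left) := hflat a' c' (k' ≫ m') ha' hc' hcomp'
  have key := hsch iU.left iV.left (hn.1.1.snd c').left k.left k'.left m.left m'.left hthT sqU sqV
    hwsch h1
  exact Groth.Agent.S9947.result P hP f' a' b' k' ha' hsa' hb' hc1' (key.1 (H a b k ha hb hc1))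

theorem main10596 {X X' Y Y' B B' : AlgSp.Space S} (iX : X ⟶ X') (iY : Y ⟶ Y') (iB : B ⟶ B')
    (f : X ⟶ Y) (f' : X' ⟶ Y') (g : Y ⟶ B) (g' : Y' ⟶ B')
    (hcX : IsPullback iX.hom (f ≫ g).hom (f' ≫ g').hom iB.hom) (hcY : IsPullback iY.hom g.hom g'.hom iB.hom)
    (w : iX ≫ f' = f ≫ iY)
    (hB : AlgSp.IsFinThickMor iB.hom) (hflat : AlgSp.LocP @Flat (f' ≫ g').hom) (d : ℕ) :
    ((AlgSp.LocP @LocallyOfFiniteType f.hom ∧
        ∀ x, AlgSp.HasAtMor (fun _ _ h u => FlatMor.fibreDimAt h u = (d : WithBot ℕ∞)) f.hom x) ↔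
      (AlgSp.LocP @LocallyOfFiniteType f'.hom ∧
        ∀ x', AlgSp.HasAtMor (fun _ _ h u => FlatMor.fibreDimAt h u = (d : WithBot ℕ∞)) f'.hom x')) ∧
    (AlgSp.LocP @Flat f.hom ↔ AlgSp.LocP @Flat f'.hom) ∧
    (AlgSp.LocP @LocallyOfFiniteType f.hom ↔ AlgSp.LocP @LocallyOfFiniteType f'.hom) ∧
    (AlgSp.LocP (@LocallyQuasiFinite ⊓ @LocallyOfFiniteType) f.hom ↔
      AlgSp.LocP (@LocallyQuasiFinite ⊓ @LocallyOfFiniteType) f'.hom) ∧
    (AlgSp.LocP @LocallyOfFinitePresentation f.hom ↔ AlgSp.LocP @LocallyOfFinitePresentation f'.hom) ∧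
    (AlgSp.LocP @Smooth f.hom ↔ AlgSp.LocP @Smooth f'.hom) ∧
    (AlgSp.LocP (@LocallyOfFiniteType ⊓ @FormallyUnramified) f.hom ↔
      AlgSp.LocP (@LocallyOfFiniteType ⊓ @FormallyUnramified) f'.hom) ∧
    (AlgSp.IsEtaleMor f.hom ↔ AlgSp.IsEtaleMor f'.hom) := by
  have hw' : iX.hom ≫ f'.hom = f.hom ≫ iY.hom := congrArg (fun t => t.hom) w
  have hcart : IsPullback iX.hom f.hom f'.hom iY.hom := IsPullback.of_bot hcX hw' hcY
  obtain ⟨n, hn⟩ := id hB
  have hthY : AlgSp.IsThickMor iY.hom :=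
    MorphismProperty.of_isPullback (P := AlgSp.RepWith AlgSp.thick) hcY.flip hn.1
  have hthX : AlgSp.IsThickMor iX.hom :=
    MorphismProperty.of_isPullback (P := AlgSp.RepWith AlgSp.thick) hcart.flip hthY
  have hsX : Function.Surjective (Points.map iX.hom) :=
    Groth.Agent.S9906.surjective_map_of_repWith iX.hom
      ⟨hthX.1, fun _ _ g fst snd sq => (hthX.2 g fst snd sq).2⟩
  have hlft : AlgSp.LocP @LocallyOfFiniteType f.hom ↔ AlgSp.LocP @LocallyOfFiniteType f'.hom :=
    locP_deform_fin_iff @LocallyOfFiniteType (Or.inl rfl)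
      (fun iX iY iT f f' g g' hT hcX hcY w _ =>
        Groth.Agent.S1309.result iX iY f f'
          (Groth.Agent.Lib.Helper2.Thick.fthick_baseChange iY iT g g' hT hcY)
          (IsPullback.of_bot hcX w hcY))
      iX iY iB f f' g g' hcX hcY w hB hflat
  have hdim : ∀ (hft' : AlgSp.LocP @LocallyOfFiniteType f'.hom) (x : Points X.obj),
      AlgSp.HasAtMor (fun _ _ h u => FlatMor.fibreDimAt h u = (d : WithBot ℕ∞)) f.hom x ↔
      AlgSp.HasAtMor (fun _ _ h u => FlatMor.fibreDimAt h u = (d : WithBot ℕ∞)) f'.hom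
        (Points.map iX.hom x) :=
    fun hft' x => Groth.Agent.Lib.Helper9.SpRelDimDense.hasAtMor_fibreDimAt_baseChange_iff
      (fun t => t = (d : WithBot ℕ∞)) f' iY iX f hcart hft' x
  refine ⟨⟨fun H => ⟨hlft.1 H.1, fun x' => ?_⟩,
    fun H => ⟨hlft.2 H.1, fun x => (hdim H.1 x).2 (H.2 _)⟩⟩, ?_, hlft, ?_, ?_, ?_, ?_, ?_⟩
  · obtain ⟨x, rfl⟩ := hsX x'
    exact (hdim (hlft.1 H.1) x).1 (H.2 x)
  · exact locP_deform_fin_iff @Flat (Or.inr (Or.inr (Or.inl rfl)))
      (fun iX iY iT f f' g g' hT hcX hcY w h1 => by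
        haveI := h1
        exact Groth.Agent.S1317.result iX iY iT f f' g g' hT hcX hcY w)
      iX iY iB f f' g g' hcX hcY w hB hflat
  · exact locP_deform_fin_iff (@LocallyQuasiFinite ⊓ @LocallyOfFiniteType)
      (Or.inr (Or.inr (Or.inr (Or.inr (Or.inr (Or.inl (fun _ _ _ => Iff.rfl)))))))
      (fun iX iY iT f f' g g' hT hcX hcY w _ => by
        have hY := Groth.Agent.Lib.Helper2.Thick.fthick_baseChange iY iT g g' hT hcY
        have hc := IsPullback.of_bot hcX w hcY
        have h9 := Groth.Agent.S1309.result iX iY f f' hY hc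
        constructor
        · rintro ⟨hq, ht⟩
          haveI := ht
          haveI := h9.1 ht
          exact ⟨(Groth.Agent.S1312.result iX iY f f' hY.1 hc).1 hq, h9.1 ht⟩
        · rintro ⟨hq, ht⟩
          haveI := ht
          haveI := h9.2 ht
          exact ⟨(Groth.Agent.S1312.result iX iY f f' hY.1 hc).2 hq, h9.2 ht⟩)
      iX iY iB f f' g g' hcX hcY w hB hflat
  · exact locP_deform_fin_iff @LocallyOfFinitePresentation (Or.inr (Or.inl rfl))
      (fun iX iY iT f f' g g' hT hcX hcY w h1 => by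
        haveI := h1
        exact Groth.Agent.S1320.result iX iY iT f f' g g' hT hcX hcY w)
      iX iY iB f f' g g' hcX hcY w hB hflat
  · exact locP_deform_fin_iff @Smooth (Or.inr (Or.inr (Or.inr (Or.inl rfl))))
      (fun iX iY iT f f' g g' hT hcX hcY w h1 => by
        haveI := h1
        exact Groth.Agent.S1321.result iX iY iT f f' g g' hT hcX hcY w)
      iX iY iB f f' g g' hcX hcY w hB hflat
  · exact locP_deform_fin_iff (@LocallyOfFiniteType ⊓ @FormallyUnramified)
      (Or.inr (Or.inr (Or.inr (Or.inr (Or.inr (Or.inr (fun _ _ _ => Iff.rfl)))))))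
      (fun iX iY iT f f' g g' hT hcX hcY w _ => by
        have hY := Groth.Agent.Lib.Helper2.Thick.fthick_baseChange iY iT g g' hT hcY
        have hc := IsPullback.of_bot hcX w hcY
        have h9 := Groth.Agent.S1309.result iX iY f f' hY hc
        have h10 := Groth.Agent.S1310.result iX iY f f' hY hc
        exact ⟨fun H => ⟨h9.1 H.1, h10.1 H.2⟩, fun H => ⟨h9.2 H.1, h10.2 H.2⟩⟩)
      iX iY iB f f' g g' hcX hcY w hB hflat
  · have key := locP_deform_fin_iff @Etale (Or.inr (Or.inr (Or.inr (Or.inr (Or.inl rfl)))))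
      (fun iX iY iT f f' g g' hT hcX hcY w h1 => by
        haveI := h1
        exact Groth.Agent.S1322.result iX iY iT f f' g g' hT hcX hcY w)
      iX iY iB f f' g g' hcX hcY w hB hflat
    constructor
    · intro H
      exact Groth.Agent.S10554.isEtaleMor_of_locP Y'.property f'.hom
        (key.1 (Groth.Agent.Lib.Helper12.SrcLocal.locP_etale_of_isEtaleMor f.hom H))
    · intro H
      exact Groth.Agent.S10554.isEtaleMor_of_locP Y.property f.hom
        (key.2 (Groth.Agent.Lib.Helper12.SrcLocal.locP_etale_of_isEtaleMor f'.hom H))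

theorem main10595 {X X' Y Y' B B' : AlgSp.Space S} (iX : X ⟶ X') (iY : Y ⟶ Y') (iB : B ⟶ B')
    (f : X ⟶ Y) (f' : X' ⟶ Y') (g : Y ⟶ B) (g' : Y' ⟶ B')
    (hcX : IsPullback iX.hom (f ≫ g).hom (f' ≫ g').hom iB.hom) (hcY : IsPullback iY.hom g.hom g'.hom iB.hom)
    (w : iX ≫ f' = f ≫ iY)
    (hB : AlgSp.IsFinThickMor iB.hom) (hflat : AlgSp.LocP @Flat (f' ≫ g').hom)
    (hf : AlgSp.LocP @Flat f.hom) :
    AlgSp.LocP @Flat f'.hom ∧
    ∀ x' : AlgSp.Points X'.obj, AlgSp.IsFlatAtMor g'.hom (AlgSp.Points.map f'.hom x') := by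
  have h1 : AlgSp.LocP @Flat f'.hom :=
    (main10596 iX iY iB f f' g g' hcX hcY w hB hflat 0).2.1.1 hf
  exact ⟨h1, fun x' => isFlatAtMor_of_comp f' g' h1 hflat x'⟩

end Groth.Agent.Lib.Helper9.SpFinThick
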