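import Mathlib
import Groth.Agent.Lib.Helper9SpFinThick
import Groth.Agent.Lib.Helper9FinThickLft

/-!
# Cartesian morphisms of thickenings of algebraic spaces with finite order source thickening
(helper9)
-/

set_option autoImplicit false
set_option linter.style.haveILetI false
set_option backward.isDefEq.respectTransparency false
open CategoryTheory CategoryTheory.Limits AlgebraicGeometry Opposite
universe u

namespace Groth.Agent.Lib.Helper9.SpFinThick

open AlgSp Groth.Agent.Lib.Helper9.SpPoint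

variable {S : Scheme.{u}}

/-- base change of a chart diagram of `f'` to a cartesian morphism of thickenings, remembering the
chart square of `i` -/
theorem exists_thick_chart' {X X' Y Y' : AlgSp.Space S} (i : X ⟶ X') (j : Y ⟶ Y') (f : X ⟶ Y)
    (f' : X' ⟶ Y') (hi : AlgSp.IsThickMor i.hom) (hj : AlgSp.IsThickMor j.hom)
    (hcart : IsPullback i.hom f.hom f'.hom j.hom)
    {U' V' : Over S} (a' : (yon S).obj U' ⟶ X'.obj) (b' : (yon S).obj V' ⟶ Y'.obj) (k' : U' ⟶ V')
    (ha' : RepWith @Etale a') (hb' : RepWith @Etale b')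
    (hc' : a' ≫ f'.hom = (yon S).map k' ≫ b') :
    ∃ (U V : Over S) (iU : U ⟶ U') (iV : V ⟶ V') (a : (yon S).obj U ⟶ X.obj)
      (b : (yon S).obj V ⟶ Y.obj) (k : U ⟶ V),
      RepWith @Etale a ∧ RepWith @Etale b ∧ a ≫ f.hom = (yon S).map k ≫ b ∧
      MoreMor.IsThickening iU.left ∧ MoreMor.IsThickening iV.left ∧
      IsPullback iU.left k.left k'.left iV.left ∧
      IsPullback a ((yon S).map iU) i.hom a' ∧ IsPullback b ((yon S).map iV) j.hom b' := by
  have hpbU := hi.1.isPullback a'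
  have hpbV := hj.1.isPullback b'
  have hthU : MoreMor.IsThickening (hi.1.snd a').left := hi.2 _ _ _ hpbU
  have hthV : MoreMor.IsThickening (hj.1.snd b').left := hj.2 _ _ _ hpbV
  have haU : RepWith @Etale (hi.1.fst a') :=
    MorphismProperty.of_isPullback (P := AlgSp.RepWith @Etale) hpbU.flip ha'
  have hbV : RepWith @Etale (hj.1.fst b') :=
    MorphismProperty.of_isPullback (P := AlgSp.RepWith @Etale) hpbV.flip hb'
  have hcomp : (hi.1.fst a' ≫ f.hom) ≫ j.hom = (yon S).map (hi.1.snd a' ≫ k') ≫ b' := by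
    rw [Category.assoc, ← hcart.w, ← Category.assoc, hpbU.w, Category.assoc, hc', Functor.map_comp,
      Category.assoc]
  obtain ⟨k, hk⟩ : ∃ k : hi.1.pullback a' ⟶ hj.1.pullback b',
      k = hj.1.lift (hi.1.fst a' ≫ f.hom) (hi.1.snd a' ≫ k') hcomp := ⟨_, rfl⟩
  have hk1 : (yon S).map k ≫ hj.1.fst b' = hi.1.fst a' ≫ f.hom := by
    rw [hk]
    exact Functor.relativelyRepresentable.lift_fst _ _ _ _
  have hk2 : k ≫ hj.1.snd b' = hi.1.snd a' ≫ k' := by
    rw [hk]
    exact Functor.relativelyRepresentable.lift_snd _ _ _ _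
  refine ⟨hi.1.pullback a', hj.1.pullback b', hi.1.snd a', hj.1.snd b', hi.1.fst a', hj.1.fst b', k,
    haU, hbV, hk1.symm, hthU, hthV, ?_, hpbU, hpbV⟩
  -- the cartesian square
  have big : IsPullback (hi.1.fst a' ≫ f.hom) ((yon S).map (hi.1.snd a')) j.hom (a' ≫ f'.hom) :=
    hpbU.paste_horiz hcart.flip
  rw [← hk1, hc'] at big
  have left : IsPullback ((yon S).map k) ((yon S).map (hi.1.snd a')) ((yon S).map (hj.1.snd b'))
      ((yon S).map k') := by
    refine IsPullback.of_right big ?_ hpbV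
    rw [← Functor.map_comp, ← Functor.map_comp, hk2]
  have left' : IsPullback k (hi.1.snd a') (hj.1.snd b') k' :=
    IsPullback.of_map (yon S) hk2 left
  exact (left'.map (Over.forget S)).flip

theorem main10591 {X X' Y Y' : AlgSp.Space S} (i : X ⟶ X') (j : Y ⟶ Y')
    (f : X ⟶ Y) (f' : X' ⟶ Y')
    (hi : AlgSp.IsThickMor i.hom)
    (hj : AlgSp.IsThickMor j.hom) (w : i ≫ f' = f ≫ j)
    (hcart : IsPullback i.hom f.hom f'.hom j.hom)
    (hfo : AlgSp.IsFinThickMor i.hom) (d : ℕ) :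
    ((AlgSp.LocP @LocallyOfFiniteType f.hom ∧
        ∀ x, AlgSp.HasAtMor (fun _ _ h u => FlatMor.fibreDimAt h u = (d : WithBot ℕ∞)) f.hom x) ↔
      (AlgSp.LocP @LocallyOfFiniteType f'.hom ∧
        ∀ x', AlgSp.HasAtMor (fun _ _ h u => FlatMor.fibreDimAt h u = (d : WithBot ℕ∞)) f'.hom x')) ∧
    (AlgSp.LocP @LocallyOfFiniteType f.hom ↔ AlgSp.LocP @LocallyOfFiniteType f'.hom) ∧
    (AlgSp.LocP (@LocallyQuasiFinite ⊓ @LocallyOfFiniteType) f.hom ↔
      AlgSp.LocP (@LocallyQuasiFinite ⊓ @LocallyOfFiniteType) f'.hom) ∧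
    (AlgSp.LocP (@LocallyOfFiniteType ⊓ @FormallyUnramified) f.hom ↔
      AlgSp.LocP (@LocallyOfFiniteType ⊓ @FormallyUnramified) f'.hom) := by
  obtain ⟨n, hn⟩ := hfo
  have hsX : Function.Surjective (Points.map i.hom) :=
    Groth.Agent.S9906.surjective_map_of_repWith i.hom
      ⟨hi.1, fun _ _ g fst snd sq => (hi.2 g fst snd sq).2⟩
  have hlft : AlgSp.LocP @LocallyOfFiniteType f.hom ↔ AlgSp.LocP @LocallyOfFiniteType f'.hom := by
    refine ⟨fun H => ?_, fun H => Groth.Agent.S9984.result _ (Or.inl rfl) f' j i f hcart H⟩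
    intro U' V' a' b' k' ha' hb' hc'
    obtain ⟨U, V, iU, iV, a, b, k, ha, hb, hc, hthU, hthV, hsq, hpbU, -⟩ :=
      exists_thick_chart' i j f f' hi hj hcart a' b' k' ha' hb' hc'
    haveI : LocallyOfFiniteType k.left := H a b k ha hb hc
    have hfin := isFiniteOrderThickening_chart i.hom n hn a' ha' a iU hpbU
    have hfinU : MoreMor.IsFiniteOrderThickening iU.left :=
      ⟨hfin.1, ⟨n + 1, hfin.2.trans Scheme.IdealSheafData.zero_eq_bot.symm⟩⟩
    exact Groth.Agent.Lib.Helper9.FinThickLft.lft_of_fthick' iU.left iV.left k.left k'.left hthV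
      hfinU hsq
  have hdim : ∀ (hft' : AlgSp.LocP @LocallyOfFiniteType f'.hom) (x : Points X.obj),
      AlgSp.HasAtMor (fun _ _ h u => FlatMor.fibreDimAt h u = (d : WithBot ℕ∞)) f.hom x ↔
      AlgSp.HasAtMor (fun _ _ h u => FlatMor.fibreDimAt h u = (d : WithBot ℕ∞)) f'.hom
        (Points.map i.hom x) :=
    fun hft' x => Groth.Agent.Lib.Helper9.SpRelDimDense.hasAtMor_fibreDimAt_baseChange_iff
      (fun t => t = (d : WithBot ℕ∞)) f' j i f hcart hft' x
  have hft_of_q : ∀ {A B : AlgSp.Space S} (h : A ⟶ B),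
      AlgSp.LocP (@LocallyQuasiFinite ⊓ @LocallyOfFiniteType) h.hom →
      AlgSp.LocP @LocallyOfFiniteType h.hom :=
    fun h H U V a b k ha hb hc => (H a b k ha hb hc).2
  have hft_of_u : ∀ {A B : AlgSp.Space S} (h : A ⟶ B),
      AlgSp.LocP (@LocallyOfFiniteType ⊓ @FormallyUnramified) h.hom →
      AlgSp.LocP @LocallyOfFiniteType h.hom :=
    fun h H U V a b k ha hb hc => (H a b k ha hb hc).1
  refine ⟨⟨fun H => ⟨hlft.1 H.1, fun x' => ?_⟩,
    fun H => ⟨hlft.2 H.1, fun x => (hdim H.1 x).2 (H.2 _)⟩⟩, hlft, ⟨fun H => ?_, fun H => ?_⟩,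
    ⟨fun H => ?_, fun H => ?_⟩⟩
  · obtain ⟨x, rfl⟩ := hsX x'
    exact (hdim (hlft.1 H.1) x).1 (H.2 x)
  · have hft := hft_of_q f H
    exact (Groth.Agent.Lib.Helper9.SpThick.main10593 i j f f' hi hj hcart hft (hlft.1 hft)).1.1 H
  · have hft' := hft_of_q f' H
    exact (Groth.Agent.Lib.Helper9.SpThick.main10593 i j f f' hi hj hcart (hlft.2 hft') hft').1.2 H
  · have hft := hft_of_u f H
    exact (Groth.Agent.Lib.Helper9.SpThick.main10593 i j f f' hi hj hcart hft (hlft.1 hft)).2.1 H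
  · have hft' := hft_of_u f' H
    exact (Groth.Agent.Lib.Helper9.SpThick.main10593 i j f f' hi hj hcart (hlft.2 hft') hft').2.2 H

end Groth.Agent.Lib.Helper9.SpFinThick
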