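import Mathlib
import Groth.Agent.Lib.Helper9SpFlatFib
import Groth.Agent.Lib.Helper9FibCritNoeth
import Groth.Agent.Lib.Helper12NoethDescent

/-!
# Flatness by fibres for locally Noetherian algebraic spaces (helper9)
-/

set_option autoImplicit false
set_option linter.style.haveILetI false
set_option backward.isDefEq.respectTransparency false
open CategoryTheory CategoryTheory.Limits AlgebraicGeometry Opposite
universe u

namespace Groth.Agent.Lib.Helper9.SpFlatFibNoeth

open AlgSp Groth.Agent.Lib.Helper9.SpPoint Groth.Agent.Lib.Helper9.ChartIndep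
  Groth.Agent.Lib.Helper9.ChartIndepAt Groth.Agent.Lib.Helper9.SpDimFormula
  Groth.Agent.Lib.Helper9.SpBaseChange Groth.Agent.Lib.Helper9.SpFlatFib

variable {S : Scheme.{u}}

/-- every étale chart of a locally Noetherian algebraic space is locally Noetherian -/
theorem isLocallyNoetherian_of_chart {X : Sp S} (hX : IsLocNoethSp X) {U : Over S}
    (a : (yon S).obj U ⟶ X) (ha : RepWith @Etale a) : IsLocallyNoetherian U.left := by
  obtain ⟨U₀, a₀, ha₀, hs₀, hN₀⟩ := hX
  have hpb := ha₀.1.isPullback a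
  haveI het : Etale (ha₀.1.snd a).left := ha₀.2 _ _ _ hpb
  haveI hes : Surjective (ha₀.1.snd a).left := hs₀.2 _ _ _ hpb
  let A : EtOver X := EtOver.mk a ha
  let A₀ : EtOver X := EtOver.mk a₀ ha₀
  haveI het2 : Etale (ha₀.1.fst' a).left := by
    have := EtOver.etale_left (EtOver.prodSnd A A₀)
    exact this
  haveI := hN₀
  haveI : IsLocallyNoetherian (ha₀.1.pullback a).left :=
    LocallyOfFiniteType.isLocallyNoetherian (ha₀.1.fst' a).left
  exact Groth.Agent.Lib.Helper12.NoethDescent.isLocallyNoetherian_of_flat_lfp_surjective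
    (ha₀.1.snd a).left

/-- flatness of the top arrow of a chart tower, locally Noetherian case -/
theorem flat_of_tower_noeth {X Y Z : AlgSp.Space S} (f : X ⟶ Y) (h : Y ⟶ Z)
    (hX : AlgSp.IsLocNoethSp X.obj) (hY : AlgSp.IsLocNoethSp Y.obj)
    (hZ : AlgSp.IsLocNoethSp Z.obj)
    (hfl : AlgSp.LocP @Flat (f ≫ h).hom)
    (hfib : FibHyp f h) {U V T : Over S} (a : (yon S).obj U ⟶ X.obj) (b : (yon S).obj V ⟶ Y.obj)
    (c : (yon S).obj T ⟶ Z.obj) (k : U ⟶ V) (m : V ⟶ T)
    (ha : RepWith @Etale a) (hb : RepWith @Etale b) (hc : RepWith @Etale c)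
    (hc1 : a ≫ f.hom = (yon S).map k ≫ b) (hc2 : b ≫ h.hom = (yon S).map m ≫ c) :
    Flat k.left := by
  have hcomp : a ≫ (f ≫ h).hom = (yon S).map (k ≫ m) ≫ c := by
    change a ≫ f.hom ≫ h.hom = _
    rw [← Category.assoc, hc1, Category.assoc, hc2, Functor.map_comp, Category.assoc]
  haveI : IsLocallyNoetherian U.left := isLocallyNoetherian_of_chart hX a ha
  haveI : IsLocallyNoetherian V.left := isLocallyNoetherian_of_chart hY b hb
  haveI : IsLocallyNoetherian T.left := isLocallyNoetherian_of_chart hZ c hc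
  haveI hflat : Flat (k.left ≫ m.left) := hfl a c (k ≫ m) ha hc hcomp
  apply Flat.of_stalkMap
  intro u
  apply Groth.Agent.Lib.Helper9.FibCritNoeth.flat_stalkMap_of_flat_of_flat_fiberMap_noeth
    k.left m.left u
  · exact Flat.stalkMap (k.left ≫ m.left) u
  · exact flat_fiberMap_of_fibHyp f h hfib a b c k m ha hb hc hc1 hc2 _

/-- from flatness of the top arrows of chart towers to flatness of `f` (and of `h` when `f` is
surjective) -/
theorem main_of_tower {X Y Z : AlgSp.Space S} (f : X ⟶ Y) (h : Y ⟶ Z)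
    (hfl : AlgSp.LocP @Flat (f ≫ h).hom)
    (htower : ∀ {U V T : Over S} (a : (yon S).obj U ⟶ X.obj) (b : (yon S).obj V ⟶ Y.obj)
      (c : (yon S).obj T ⟶ Z.obj) (k : U ⟶ V) (m : V ⟶ T),
      RepWith @Etale a → RepWith @Etale b → RepWith @Etale c →
      a ≫ f.hom = (yon S).map k ≫ b → b ≫ h.hom = (yon S).map m ≫ c → Flat k.left) :
    AlgSp.LocP @Flat f.hom ∧ (AlgSp.IsSurjectiveMor f.hom → AlgSp.LocP @Flat h.hom) := by
  have part1 : AlgSp.LocP @Flat f.hom := by
    intro U V a b k ha hb hc1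
    apply Flat.of_stalkMap
    intro u
    obtain ⟨T, c, hc, hcs⟩ := Z.property.atlas
    obtain ⟨V', e, m, z, het, hb', hc2, hz⟩ :=
      exists_chart_diagram_atlas h.hom b hb (k.left u) c hc hcs
    have hsq : IsPullback (pullback.fst k e).left (pullback.snd k e).left k.left e.left :=
      (IsPullback.of_hasPullback k e).map (Over.forget S)
    haveI := het
    haveI het1 : Etale (pullback.fst k e).left :=
      MorphismProperty.of_isPullback (P := @Etale) hsq.flip het
    have ha' : RepWith @Etale ((yon S).map (pullback.fst k e) ≫ a) :=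
      (repWith_isMultiplicative (S := S) @Etale).comp_mem _ _
        ((repWith_yon_map_iff _ _).2 het1) ha
    have hc1' : ((yon S).map (pullback.fst k e) ≫ a) ≫ f.hom =
        (yon S).map (pullback.snd k e) ≫ ((yon S).map e ≫ b) := by
      rw [Category.assoc, hc1, ← Category.assoc, ← Functor.map_comp, pullback.condition,
        Functor.map_comp, Category.assoc]
    obtain ⟨u', hu'1, hu'2⟩ := exists_preimage_of_isPullback hsq u z hz.symm
    haveI hfl' : Flat (pullback.snd k e).left := htower _ _ c _ m ha' hb' hc hc1' hc2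
    have h3 : (((pullback.fst k e).left ≫ k.left).stalkMap u').hom.Flat := by
      rw [hsq.w]
      exact Groth.Agent.Lib.Helper5.FiberMor.flat_comp (pullback.snd k e).left e.left u'
        (Flat.stalkMap _ _) (Flat.stalkMap _ _)
    have h5 := Groth.Agent.Lib.Helper5.FiberMor.flat_of_comp (pullback.fst k e).left k.left u' h3
      (Flat.stalkMap _ _)
    rw [hu'1] at h5
    exact h5
  refine ⟨part1, fun hs => ?_⟩
  intro V T b c m hb hc hc2
  apply Flat.of_stalkMap
  intro v
  obtain ⟨x, hx⟩ := hs (Points.ofPt b v)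
  obtain ⟨U₀, a₀, ha₀, hs₀⟩ := X.property.atlas
  obtain ⟨u₀, hu₀⟩ := exists_atlas_point a₀ hs₀ x
  have hv : Points.ofPt (a₀ ≫ f.hom) u₀ = Points.ofPt b v := by
    rw [← Points.map_ofPt, hu₀, hx]
  obtain ⟨U, e, k, u, het, ha, hc1, hu1, hu2⟩ := exists_chart_diagram f.hom a₀ ha₀ u₀ b hb v hv
  haveI hk : Flat k.left := part1 _ b k ha hb hc1
  have hcomp : ((yon S).map e ≫ a₀) ≫ (f ≫ h).hom = (yon S).map (k ≫ m) ≫ c := by
    change ((yon S).map e ≫ a₀) ≫ f.hom ≫ h.hom = _
    rw [← Category.assoc, hc1, Category.assoc, hc2, Functor.map_comp, Category.assoc]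
  haveI hkm : Flat (k.left ≫ m.left) := hfl _ c (k ≫ m) ha hc hcomp
  have h5 := Groth.Agent.Lib.Helper5.FiberMor.flat_of_comp k.left m.left u (Flat.stalkMap _ u)
    (Flat.stalkMap _ u)
  rw [hu2] at h5
  exact h5

theorem main10604 {X Y Z : AlgSp.Space S} (f : X ⟶ Y) (h : Y ⟶ Z)
    (hX : AlgSp.IsLocNoethSp X.obj) (hYn : AlgSp.IsLocNoethSp Y.obj)
    (hZ : AlgSp.IsLocNoethSp Z.obj)
    (hfl : AlgSp.LocP @Flat (f ≫ h).hom) (hfib : FibHyp f h) :
    AlgSp.LocP @Flat f.hom ∧ (AlgSp.IsSurjectiveMor f.hom → AlgSp.LocP @Flat h.hom) :=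
  main_of_tower f h hfl (fun a b c k m ha hb hc hc1 hc2 =>
    flat_of_tower_noeth f h hX hYn hZ hfl hfib a b c k m ha hb hc hc1 hc2)

end Groth.Agent.Lib.Helper9.SpFlatFibNoeth
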