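import Groth.Prelude.Def_AlgSpGpd
import Groth.Agent.Lib.Helper9SpQuot

/-!
# Free actions of group sheaves: the shear map is a monomorphism (helper9)
-/

set_option autoImplicit false
set_option linter.unusedSectionVars false

namespace Groth.Agent.Lib.Helper9.SpFree

open CategoryTheory Limits Opposite AlgebraicGeometry Groth.Agent.Lib.Helper9
  MonoidalCategory MonObj CartesianMonoidalCategory AlgSp

universe u

variable {S : Scheme.{u}} {B : AlgSp.Sp S} {G X : Over B} [GrpObj G] (a : AlgSp.GAction G X)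

/-- the action on `T`-points -/
noncomputable def smul {T : Over B} (g : T ⟶ G) (x : T ⟶ X) : T ⟶ X := lift g x ≫ a.act

lemma one_smul {T : Over B} (x : T ⟶ X) : smul a (1 : T ⟶ G) x = x := by
  unfold smul
  rw [Hom.one_def]
  have h : lift (toUnit T ≫ η[G]) x = lift (toUnit T) x ≫ (η[G] ▷ X) := by
    rw [lift_whiskerRight]
  rw [h, Category.assoc, a.one_act, lift_leftUnitor_hom]

lemma mul_smul {T : Over B} (g h : T ⟶ G) (x : T ⟶ X) :
    smul a (g * h) x = smul a g (smul a h x) := by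
  unfold smul
  rw [Hom.mul_def]
  have h1 : lift (lift g h ≫ μ[G]) x = lift (lift g h) x ≫ (μ[G] ▷ X) := by
    rw [lift_whiskerRight]
  rw [h1, Category.assoc, a.mul_act, lift_lift_associator_hom_assoc, lift_whiskerLeft_assoc]

lemma eq_of_smul_eq (ha : a.IsFree) {T₀ : Over S} (β : (AlgSp.yon S).obj T₀ ⟶ B)
    (g g' : Over.mk β ⟶ G) (x : Over.mk β ⟶ X) (h : smul a g x = smul a g' x) : g = g' := by
  have h1 : smul a (g'⁻¹ * g) x = x := by
    rw [mul_smul, h, ← mul_smul, inv_mul_cancel, one_smul]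
  have h2 := ha β (g'⁻¹ * g) x h1
  have h3 : g'⁻¹ * g = 1 := h2
  exact (inv_mul_eq_one.mp h3).symm

theorem mono_shear (ha : a.IsFree) : Mono (lift a.act (snd G X)).left := by
  constructor
  intro W u v huv
  apply SpQuot.jEpi_yon W
  rintro ⟨T₀, p⟩
  dsimp only
  obtain ⟨u', hu'⟩ : ∃ u', u' = p ≫ u := ⟨_, rfl⟩
  obtain ⟨v', hv'⟩ : ∃ v', v' = p ≫ v := ⟨_, rfl⟩
  rw [← hu', ← hv']
  have huv' : u' ≫ (lift a.act (snd G X)).left = v' ≫ (lift a.act (snd G X)).left := by
    rw [hu', hv', Category.assoc, Category.assoc, huv]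
  have hβ : v' ≫ (G ⊗ X).hom = u' ≫ (G ⊗ X).hom := by
    rw [← Over.w (lift a.act (snd G X)), ← Category.assoc, ← Category.assoc, huv']
  let U' : Over.mk (u' ≫ (G ⊗ X).hom) ⟶ G ⊗ X := Over.homMk u' rfl
  let V' : Over.mk (u' ≫ (G ⊗ X).hom) ⟶ G ⊗ X := Over.homMk v' hβ
  have hUV : U' ≫ lift a.act (snd G X) = V' ≫ lift a.act (snd G X) := by
    apply Over.OverMorphism.ext
    exact huv'
  have hsnd : U' ≫ snd G X = V' ≫ snd G X := by
    have := congrArg (fun m => m ≫ snd X X) hUV
    simpa only [Category.assoc, lift_snd] using this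
  have hact : U' ≫ a.act = V' ≫ a.act := by
    have := congrArg (fun m => m ≫ fst X X) hUV
    simpa only [Category.assoc, lift_fst] using this
  have hU : U' = lift (U' ≫ fst G X) (U' ≫ snd G X) := by
    apply CartesianMonoidalCategory.hom_ext <;> simp
  have hV : V' = lift (V' ≫ fst G X) (U' ≫ snd G X) := by
    apply CartesianMonoidalCategory.hom_ext
    · simp
    · rw [lift_snd, hsnd]
  have hfst : U' ≫ fst G X = V' ≫ fst G X := by
    apply eq_of_smul_eq a ha (u' ≫ (G ⊗ X).hom) _ _ (U' ≫ snd G X)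
    unfold smul
    rw [← hU, ← hV, hact]
  have : U' = V' := by rw [hU, hV, hfst]
  exact congrArg (fun m => m.left) this

end Groth.Agent.Lib.Helper9.SpFree
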