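import Mathlib
import Groth.Agent.Lib.Helper9SpQfAt
import Groth.Agent.Lib.Helper9SpDimIneq
import Groth.Agent.S1608

/-!
# Quasi-finiteness over points of codimension ≤ 1 for algebraic spaces (helper9)
-/

set_option autoImplicit false
set_option linter.style.haveILetI false
set_option backward.isDefEq.respectTransparency false
open CategoryTheory CategoryTheory.Limits AlgebraicGeometry Opposite
universe u

namespace Groth.Agent.Lib.Helper9.SpQfCodim

open AlgSp Groth.Agent.Lib.Helper9.SpPoint Groth.Agent.Lib.Helper9.ChartIndep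
  Groth.Agent.Lib.Helper9.ChartIndepAt Groth.Agent.Lib.Helper9.SpDimFormula
  Groth.Agent.Lib.Helper9.SpQfAt Groth.Agent.Lib.Helper9.SpDimIneq

variable {S : Scheme.{u}}

theorem hasAt_stalkDim_le_iff {X : Sp S} {U : Over S}
    (a : (yon S).obj U ⟶ X) (u : U.left) (ha : RepWith @Etale a) (d : WithBot ℕ∞) :
    HasAt (fun U u => ringKrullDim ↥(U.presheaf.stalk u) ≤ d) X (Points.ofPt a u) ↔
      ringKrullDim (U.left.presheaf.stalk u) ≤ d :=
  hasAt_iff (fun (U : Scheme.{u}) (u : U) => ringKrullDim (U.presheaf.stalk u)) etInv_stalkDim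
    (fun t => t ≤ d) a u ha

theorem main10503 {X Y : AlgSp.Space S} (f : X ⟶ Y)
    (hf : AlgSp.LocP @LocallyOfFiniteType f.hom) (hY : AlgSp.IsLocNoethSp Y.obj)
    (y : AlgSp.Points Y.obj)
    (hy : AlgSp.HasAt (fun U u => ringKrullDim ↥(U.presheaf.stalk u) ≤ 1) Y.obj y)
    (h : ∀ x : AlgSp.Points X.obj,
      AlgSp.HasAt (fun U u => ringKrullDim ↥(U.presheaf.stalk u) = 0) X.obj x →
      AlgSp.HasAtMor (fun U _ h u => ∃ W : U.Opens, u ∈ W ∧ LocallyQuasiFinite (W.ι ≫ h) ∧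
        LocallyOfFiniteType (W.ι ≫ h)) f.hom x)
    (x : AlgSp.Points X.obj) (hx : AlgSp.Points.map f.hom x = y) :
    AlgSp.HasAtMor (fun U _ h u => ∃ W : U.Opens, u ∈ W ∧ LocallyQuasiFinite (W.ι ≫ h) ∧
      LocallyOfFiniteType (W.ι ≫ h)) f.hom x := by
  obtain ⟨V₀, b₀, hb₀, hsb₀, hN⟩ := hY
  obtain ⟨U₀, a₀, ha₀, hs₀⟩ := X.property.atlas
  obtain ⟨u₀, rfl⟩ := exists_atlas_point a₀ hs₀ x
  obtain ⟨T, e, k, z, het, hTa, hcomm, hz1⟩ :=
    exists_chart_diagram_atlas f.hom a₀ ha₀ u₀ b₀ hb₀ hsb₀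
  have hxz : Points.ofPt a₀ u₀ = Points.ofPt ((yon S).map e ≫ a₀) z := by
    rw [ofPt_yon_map_comp, hz1]
  rw [hxz] at hx ⊢
  generalize (yon S).map e ≫ a₀ = p at *
  haveI := hN
  haveI : LocallyOfFiniteType k.left := hf p b₀ k hTa hb₀ hcomm
  have hpt : Points.map f.hom (Points.ofPt p z) = Points.ofPt b₀ (k.left z) := by
    rw [Points.map_ofPt, hcomm, ofPt_yon_map_comp]
  rw [← hx, hpt, hasAt_stalkDim_le_iff b₀ _ hb₀] at hy
  rw [hasAtMor_qfNear_iff f.hom hf p b₀ k z hTa hb₀ hcomm,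
    ← Groth.Agent.Lib.Helper3.GrpHomQF.quasiFiniteAt_iff_fibreDimAt_le_zero]
  refine Groth.Agent.S1608.result k.left (k.left z) hy (fun Z hZ η hη => ?_) z rfl
  have hcl : closure {η} ∈ irreducibleComponents T.left := by
    rw [hη.def]
    exact hZ
  have h0 : HasAt (fun U u => ringKrullDim ↥(U.presheaf.stalk u) = 0) X.obj
      (Points.ofPt p η) :=
    ⟨T, p, η, hTa, rfl, ringKrullDim_stalk_eq_zero_of_generic _ η hcl⟩
  have := h _ h0
  rw [hasAtMor_qfNear_iff f.hom hf p b₀ k η hTa hb₀ hcomm] at this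
  exact (Groth.Agent.Lib.Helper3.GrpHomQF.quasiFiniteAt_iff_fibreDimAt_le_zero k.left η).2 this

end Groth.Agent.Lib.Helper9.SpQfCodim

namespace Groth.Agent.Lib.Helper9.SpQfCodim

open AlgSp Groth.Agent.Lib.Helper9.SpPoint Groth.Agent.Lib.Helper9.ChartIndep
  Groth.Agent.Lib.Helper9.ChartIndepAt Groth.Agent.Lib.Helper9.SpDimFormula
  Groth.Agent.Lib.Helper9.SpQfAt Groth.Agent.Lib.Helper9.SpDimIneq

/-- a dense open subset of a locally Noetherian scheme contains the generic points of the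
irreducible components -/
theorem mem_of_dense_of_generic (T : Scheme.{u}) [IsLocallyNoetherian T] (D : Set T)
    (hDo : IsOpen D) (hD : Dense D) (η : T) (hη : closure {η} ∈ irreducibleComponents T) :
    η ∈ D := by
  obtain ⟨N, hN, hηN⟩ : ∃ N : T.Opens, IsAffineOpen N ∧ η ∈ N := by
    obtain ⟨_, ⟨N, hN, rfl⟩, hηN, -⟩ := T.isBasis_affineOpens.exists_subset_of_mem_open
      (Set.mem_univ η) isOpen_univ
    exact ⟨N, hN, hηN⟩
  haveI : IsNoetherianRing Γ(T, N) := IsLocallyNoetherian.component_noetherian ⟨N, hN⟩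
  haveI : TopologicalSpace.NoetherianSpace ((N : Set T) : Type u) :=
    noetherianSpace_of_isAffineOpen N hN
  let η' : (N : Set T) := ⟨η, hηN⟩
  have hcl : ∀ A : Set (N : Set T), closure A = Subtype.val ⁻¹' closure (Subtype.val '' A) :=
    fun A => Topology.IsInducing.subtypeVal.closure_eq_preimage_closure_image A
  have hZ : closure {η'} ∈ irreducibleComponents ((N : Set T) : Type u) := by
    refine ⟨isIrreducible_singleton.closure, fun Z'' hZ'' hsub => ?_⟩
    have h1 : IsIrreducible (closure (Subtype.val '' Z'')) :=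
      (hZ''.image _ continuous_subtype_val.continuousOn).closure
    have h2 : closure {η} ⊆ closure (Subtype.val '' Z'') := by
      apply closure_mono
      rw [Set.singleton_subset_iff]
      exact ⟨η', hsub (subset_closure rfl), rfl⟩
    have h3 := hη.2 h1 h2
    intro t ht
    rw [hcl, Set.image_singleton]
    exact h3 (subset_closure ⟨t, ht, rfl⟩)
  obtain ⟨o, ho, hone, hoZ⟩ :=
    TopologicalSpace.NoetherianSpace.exists_isOpen_nonempty_subset_irreducibleComponent _ hZ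
  have hoT : IsOpen (Subtype.val '' o) := N.isOpen.isOpenMap_subtype_val o ho
  obtain ⟨t, ⟨t', ht'o, rfl⟩, htD⟩ := hD.inter_open_nonempty _ hoT (hone.image _)
  have h4 : t' ∈ closure {η'} := hoZ ht'o
  rw [hcl, Set.image_singleton] at h4
  have h5 : η ⤳ (t' : T) := specializes_iff_mem_closure.2 h4
  exact h5.mem_open hDo htD

variable {S : Scheme.{u}}

theorem main10456 {X Y : AlgSp.Space S} (f : X ⟶ Y)
    (hf : AlgSp.LocP @LocallyOfFiniteType f.hom) (hY : AlgSp.IsLocNoethSp Y.obj)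
    (y : AlgSp.Points Y.obj)
    (hy : AlgSp.HasAt (fun U u => ringKrullDim ↥(U.presheaf.stalk u) ≤ 1) Y.obj y)
    (h : Dense {x : AlgSp.Points X.obj | AlgSp.HasAtMor (fun U _ h u => ∃ W : U.Opens, u ∈ W ∧
      LocallyQuasiFinite (W.ι ≫ h) ∧ LocallyOfFiniteType (W.ι ≫ h)) f.hom x})
    (x : AlgSp.Points X.obj) (hx : AlgSp.Points.map f.hom x = y) :
    AlgSp.HasAtMor (fun U _ h u => ∃ W : U.Opens, u ∈ W ∧ LocallyQuasiFinite (W.ι ≫ h) ∧
      LocallyOfFiniteType (W.ι ≫ h)) f.hom x := by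
  obtain ⟨V₀, b₀, hb₀, hsb₀, hN⟩ := hY
  obtain ⟨U₀, a₀, ha₀, hs₀⟩ := X.property.atlas
  obtain ⟨u₀, rfl⟩ := exists_atlas_point a₀ hs₀ x
  obtain ⟨T, e, k, z, het, hTa, hcomm, hz1⟩ :=
    exists_chart_diagram_atlas f.hom a₀ ha₀ u₀ b₀ hb₀ hsb₀
  have hxz : Points.ofPt a₀ u₀ = Points.ofPt ((yon S).map e ≫ a₀) z := by
    rw [ofPt_yon_map_comp, hz1]
  rw [hxz] at hx ⊢
  generalize (yon S).map e ≫ a₀ = p at *
  haveI := hN
  haveI : LocallyOfFiniteType k.left := hf p b₀ k hTa hb₀ hcomm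
  haveI : IsLocallyNoetherian T.left := LocallyOfFiniteType.isLocallyNoetherian k.left
  have hpt : Points.map f.hom (Points.ofPt p z) = Points.ofPt b₀ (k.left z) := by
    rw [Points.map_ofPt, hcomm, ofPt_yon_map_comp]
  rw [← hx, hpt, hasAt_stalkDim_le_iff b₀ _ hb₀] at hy
  rw [hasAtMor_qfNear_iff f.hom hf p b₀ k z hTa hb₀ hcomm,
    ← Groth.Agent.Lib.Helper3.GrpHomQF.quasiFiniteAt_iff_fibreDimAt_le_zero]
  have hDT : Dense {t : T.left | FlatMor.fibreDimAt k.left t ≤ ((0 : ℕ) : WithBot ℕ∞)} := by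
    have hset : {t : T.left | FlatMor.fibreDimAt k.left t ≤ ((0 : ℕ) : WithBot ℕ∞)} =
        Points.ofPt p ⁻¹' {x : AlgSp.Points X.obj | AlgSp.HasAtMor (fun U _ h u =>
          ∃ W : U.Opens, u ∈ W ∧ LocallyQuasiFinite (W.ι ≫ h) ∧
            LocallyOfFiniteType (W.ι ≫ h)) f.hom x} := by
      ext t
      exact (hasAtMor_qfNear_iff f.hom hf p b₀ k t hTa hb₀ hcomm).symm
    rw [hset]
    exact h.preimage (isOpenMap_ofPt (EtOver.mk p hTa))
  refine Groth.Agent.S1608.result k.left (k.left z) hy (fun Z hZ η hη => ?_) z rfl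
  have hcl : closure {η} ∈ irreducibleComponents T.left := by
    rw [hη.def]
    exact hZ
  have := mem_of_dense_of_generic T.left _
    (Groth.Agent.Lib.Helper4.FibDim.isOpen_setOf_fibreDimAt_le k.left 0) hDT η hcl
  exact (Groth.Agent.Lib.Helper3.GrpHomQF.quasiFiniteAt_iff_fibreDimAt_le_zero k.left η).2
    (by exact_mod_cast this)

end Groth.Agent.Lib.Helper9.SpQfCodim
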