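import Mathlib
import Groth.Agent.Lib.Helper9SpQfCodim
import Groth.Agent.Lib.Helper4GenFiniteKA

/-!
# Quasi-finiteness over points of codimension ≤ 1 from transcendence degree 0 at generic points (helper9)
-/

set_option autoImplicit false
set_option linter.style.haveILetI false
set_option backward.isDefEq.respectTransparency false
open CategoryTheory CategoryTheory.Limits AlgebraicGeometry Opposite
universe u

namespace Groth.Agent.Lib.Helper9.SpQfTrdeg

open AlgSp Groth.Agent.Lib.Helper9.SpPoint Groth.Agent.Lib.Helper9.ChartIndep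
  Groth.Agent.Lib.Helper9.ChartIndepAt Groth.Agent.Lib.Helper9.SpDimFormula
  Groth.Agent.Lib.Helper9.SpQfAt Groth.Agent.Lib.Helper9.SpDimIneq
  Groth.Agent.Lib.Helper9.SpQfCodim

/-- variant of S1608 (same proof): only the generic points whose image specializes to `y` matter -/
theorem quasiFiniteAt_over_codim_le_one' {X Y : Scheme.{u}} (f : X ⟶ Y) [LocallyOfFiniteType f]
    (y : Y) [IsNoetherianRing (Y.presheaf.stalk y)] (hy : ringKrullDim (Y.presheaf.stalk y) ≤ 1)
    (hgen : ∀ Z ∈ irreducibleComponents (X : Type u), ∀ η : X, IsGenericPoint η Z →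
      f.base η ⤳ y → f.QuasiFiniteAt η)
    (x : X) (hx : f.base x = y) : f.QuasiFiniteAt x := by
  open Groth.Agent.Lib.Helper4.GenFinite Groth.Agent.Lib.Helper4.GenFiniteKA in
  subst hx
  apply quasiFiniteAt_of_forall_fiber_specializes_eq f x
  intro z z' hz hz' hzz'
  obtain ⟨η, hη⟩ := Groth.Agent.Lib.Helper14.exists_closure_eq_of_mem_irreducibleComponents
    (irreducibleComponent_mem_irreducibleComponents z)
  have hηz : η ⤳ z := by
    rw [specializes_iff_mem_closure, hη]; exact mem_irreducibleComponent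
  have hηy : f.base η ⤳ f.base x := by
    rw [← hz]
    exact hηz.map f.continuous
  have hqη : f.QuasiFiniteAt η :=
    hgen (irreducibleComponent z) (irreducibleComponent_mem_irreducibleComponents z) η
      (by rw [← hη]; exact isGenericPoint_closure) hηy
  by_cases hfη : f.base η = f.base z'
  · have e1 : z = η :=
      eq_of_quasiFiniteAt_of_specializes f hqη (hz.trans (hz'.symm.trans hfη.symm)) hηz
    have e2 : z' = η := eq_of_quasiFiniteAt_of_specializes f hqη hfη.symm (hηz.trans hzz')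
    rw [e1, e2]
  · haveI : IsNoetherianRing (Y.presheaf.stalk (f.base z')) := hz' ▸ inferInstance
    have hdim : ringKrullDim (Y.presheaf.stalk (f.base z')) ≤ 1 := hz' ▸ hy
    exact eq_of_specializes_of_quasiFiniteAt_generization f η z z' hηz hzz' (hz.trans hz'.symm) hfη
      hdim hqη

/-- at the generic point of an irreducible component, transcendence degree `0` over the image implies
quasi-finiteness -/
theorem quasiFiniteAt_of_generic_of_resTrdeg_zero {X Y : Scheme.{u}} (f : X ⟶ Y)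
    [LocallyOfFiniteType f] (η : X) (hη : closure {η} ∈ irreducibleComponents X)
    (h0 : Dual3.resTrdeg f η = 0) : f.QuasiFiniteAt η := by
  rw [Groth.Agent.Lib.Helper3.GrpHomQF.quasiFiniteAt_iff_fibreDimAt_le_zero,
    Groth.Agent.Lib.Helper9.SpRelDimStalk.fibreDimAt_eq_stalk_add_resTrdeg f η, h0]
  have key : ∀ p : f.fiber (f η), (f.fiberι (f η)) p = η →
      ringKrullDim ((f.fiber (f η)).presheaf.stalk p) ≤ 0 := by
    intro p hp
    have h1 := ringKrullDim_le_of_surjective ((f.fiberι (f η)).stalkMap p).hom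
      ((f.fiberι (f η)).stalkMap_surjective p)
    refine h1.trans ?_
    rw [hp, ringKrullDim_stalk_eq_zero_of_generic X η hη]
  have h2 := key (f.asFiber η) (f.fiberι_asFiber η)
  simpa using h2

variable {S : Scheme.{u}}

theorem main10455 {X Y : AlgSp.Space S} (f : X ⟶ Y)
    (hf : AlgSp.LocP @LocallyOfFiniteType f.hom) (hY : AlgSp.IsLocNoethSp Y.obj)
    (y : AlgSp.Points Y.obj)
    (hy : AlgSp.HasAt (fun U u => ringKrullDim ↥(U.presheaf.stalk u) ≤ 1) Y.obj y)
    (h : ∀ x : AlgSp.Points X.obj,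
      AlgSp.HasAt (fun U u => ringKrullDim ↥(U.presheaf.stalk u) = 0) X.obj x →
      AlgSp.Points.map f.hom x ⤳ y →
      AlgSp.HasAtMor (fun _ _ h u => Dual3.resTrdeg h u = 0) f.hom x)
    (x : AlgSp.Points X.obj) (hx : AlgSp.Points.map f.hom x = y) :
    AlgSp.HasAtMor (fun U _ h u => ∃ W : U.Opens, u ∈ W ∧ LocallyQuasiFinite (W.ι ≫ h) ∧
      LocallyOfFiniteType (W.ι ≫ h)) f.hom x := by
  obtain ⟨V₀, b₀, hb₀, hsb₀, hN⟩ := hY
  obtain ⟨U₀, a₀, ha₀, hs₀⟩ := X.property.atlas
  obtain ⟨u₀, rfl⟩ := exists_atlas_point a₀ hs₀ x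
  obtain ⟨T, e, k, z, het, hTa, hcomm, hz1⟩ :=
    exists_chart_diagram_atlas f.hom a₀ ha₀ u₀ b₀ hb₀ hsb₀
  have hxz : Points.ofPt a₀ u₀ = Points.ofPt ((yon S).map e ≫ a₀) z := by
    rw [ofPt_yon_map_comp, hz1]
  rw [hxz] at hx ⊢
  generalize (yon S).map e ≫ a₀ = p at *
  haveI := hN
  haveI : LocallyOfFiniteType k.left := hf p b₀ k hTa hb₀ hcomm
  have hpt : ∀ t : T.left, Points.map f.hom (Points.ofPt p t) = Points.ofPt b₀ (k.left t) := by
    intro t
    rw [Points.map_ofPt, hcomm, ofPt_yon_map_comp]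
  have hy' := hy
  rw [← hx, hpt, hasAt_stalkDim_le_iff b₀ _ hb₀] at hy'
  rw [hasAtMor_qfNear_iff f.hom hf p b₀ k z hTa hb₀ hcomm,
    ← Groth.Agent.Lib.Helper3.GrpHomQF.quasiFiniteAt_iff_fibreDimAt_le_zero]
  refine quasiFiniteAt_over_codim_le_one' k.left (k.left z) hy' (fun Z hZ η hη hηy => ?_) z rfl
  have hcl : closure {η} ∈ irreducibleComponents T.left := by
    rw [hη.def]
    exact hZ
  have h0 : HasAt (fun U u => ringKrullDim ↥(U.presheaf.stalk u) = 0) X.obj
      (Points.ofPt p η) :=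
    ⟨T, p, η, hTa, rfl, ringKrullDim_stalk_eq_zero_of_generic _ η hcl⟩
  have hsp : Points.map f.hom (Points.ofPt p η) ⤳ y := by
    rw [← hx, hpt, hpt]
    exact hηy.map (Points.continuous_ofPt b₀)
  have := h _ h0 hsp
  rw [Groth.Agent.Lib.Helper9.SpRelDimStalk.hasAtMor_resTrdeg_iff f.hom p b₀ k η hTa hb₀ hcomm]
    at this
  exact quasiFiniteAt_of_generic_of_resTrdeg_zero k.left η hcl this

end Groth.Agent.Lib.Helper9.SpQfTrdeg
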