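import Mathlib
import Groth.Agent.Lib.Helper9SpQfTrdeg
import Groth.Agent.Lib.Helper12QcPoint
import Groth.Agent.S10338
import Groth.Agent.S10341

/-!
# Quasi-finiteness at the generic point of an integral algebraic space (helper9)
-/

set_option autoImplicit false
set_option linter.style.haveILetI false
set_option backward.isDefEq.respectTransparency false
open CategoryTheory CategoryTheory.Limits AlgebraicGeometry Opposite
universe u

namespace Groth.Agent.Lib.Helper9.SpGenericQf

open AlgSp Groth.Agent.Lib.Helper9.SpPoint Groth.Agent.Lib.Helper9.ChartIndep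
  Groth.Agent.Lib.Helper9.ChartIndepAt Groth.Agent.Lib.Helper9.SpDimFormula
  Groth.Agent.Lib.Helper9.SpQfAt Groth.Agent.Lib.Helper9.SpDimIneq
  Groth.Agent.Lib.Helper9.SpQfCodim Groth.Agent.Lib.Helper9.SpQfTrdeg

/-- a point without proper generizations is the generic point of an irreducible component -/
theorem closure_mem_irreducibleComponents_of_forall_generization_eq (T : Scheme.{u}) (t : T)
    (h : ∀ t' : T, t' ⤳ t → t' = t) : closure {t} ∈ irreducibleComponents T := by
  obtain ⟨η, hη⟩ := QuasiSober.sober (isIrreducible_irreducibleComponent (x := t))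
    isClosed_irreducibleComponent
  have h1 : η ⤳ t := by
    rw [specializes_iff_mem_closure, hη.def]
    exact mem_irreducibleComponent
  rw [← h η h1, hη.def]
  exact irreducibleComponent_mem_irreducibleComponents t

/-- scheme level: at the generic point of an irreducible component, quasi-finite iff transcendence degree `0` -/
theorem resTrdeg_eq_zero_of_quasiFiniteAt {X Y : Scheme.{u}} (f : X ⟶ Y) (x : X)
    (hq : f.QuasiFiniteAt x) : Dual3.resTrdeg f x = 0 := by
  unfold Dual3.resTrdeg
  letI a2 : Algebra (Y.residueField (f x)) (X.residueField x) :=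
    (f.residueFieldMap x).hom.toAlgebra
  haveI : Module.Finite (Y.residueField (f x)) (X.residueField x) :=
    Groth.Agent.Lib.Helper20.ResFld.finite_residueFieldMap_of_quasiFiniteAt f x hq
  exact trdeg_eq_zero

variable {S : Scheme.{u}}

/-- in a decent space there are no specializations inside the fibres of étale charts -/
theorem eq_of_specializes_of_fibre {X : AlgSp.Space S} (hX : IsDecent X.obj) {U : Over S}
    (a : (yon S).obj U ⟶ X.obj) (ha : RepWith @Etale a) (u u' : U.left)
    (h : Points.ofPt a u = Points.ofPt a u') (hs : u' ⤳ u) : u = u' :=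
  Groth.Agent.S10341.result X (Points.ofPt a u)
    (fun V b hV hb => Groth.Agent.S10338.finite_fibre_of_isDecent hX _ V b hV hb) a ha u u' rfl
    h.symm hs

/-- a dominant morphism maps the generic point to the generic point -/
theorem map_generic {X Y : AlgSp.Space S} (hY : IsDecent Y.obj) (f : X ⟶ Y)
    (hd : AlgSp.IsDominantMor f.hom)
    (x : AlgSp.Points X.obj) (hx : IsGenericPoint x (Set.univ : Set (AlgSp.Points X.obj)))
    (y : AlgSp.Points Y.obj) (hy : IsGenericPoint y (Set.univ : Set (AlgSp.Points Y.obj))) :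
    Points.map f.hom x = y := by
  haveI : T0Space (Points Y.obj) := Groth.Agent.S10338.result Y hY
  have h1 : IsGenericPoint (Points.map f.hom x) (Set.univ : Set (AlgSp.Points Y.obj)) := by
    have h2 := image_closure_subset_closure_image (s := {x}) (Points.continuous_map f.hom)
    rw [hx.def, Set.image_univ, Set.image_singleton] at h2
    have h3 : closure (Set.range (Points.map f.hom)) ⊆ closure {Points.map f.hom x} :=
      closure_minimal h2 isClosed_closure
    rw [hd.closure_range] at h3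
    exact Set.eq_univ_of_univ_subset h3
  exact (h1.inseparable hy).eq

/-- the generic point of a decent space has no proper generizations in étale charts -/
theorem generic_chart {X : AlgSp.Space S} (hX : IsDecent X.obj)
    (x : AlgSp.Points X.obj) (hx : IsGenericPoint x (Set.univ : Set (AlgSp.Points X.obj)))
    {U : Over S} (a : (yon S).obj U ⟶ X.obj) (ha : RepWith @Etale a) (u : U.left)
    (hu : Points.ofPt a u = x) : closure {u} ∈ irreducibleComponents U.left := by
  haveI : T0Space (Points X.obj) := Groth.Agent.S10338.result X hX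
  apply closure_mem_irreducibleComponents_of_forall_generization_eq
  intro u' hu'
  have h1 : Points.ofPt a u' ⤳ Points.ofPt a u := hu'.map (Points.continuous_ofPt a)
  have h2 : Points.ofPt a u ⤳ Points.ofPt a u' := by
    rw [hu, specializes_iff_mem_closure, hx.def]
    trivial
  have h3 : Points.ofPt a u = Points.ofPt a u' := (h2.antisymm h1).eq
  exact (eq_of_specializes_of_fibre hX a ha u u' h3 hu').symm

theorem main10485 {X Y : AlgSp.Space S} (hXi : AlgSp.IsIntegralSp X.obj)
    (hYi : AlgSp.IsIntegralSp Y.obj)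
    (f : X ⟶ Y) (hft : AlgSp.LocP @LocallyOfFiniteType f.hom) (hd : AlgSp.IsDominantMor f.hom)
    (x : AlgSp.Points X.obj) (hx : IsGenericPoint x (Set.univ : Set (AlgSp.Points X.obj)))
    (y : AlgSp.Points Y.obj) (hy : IsGenericPoint y (Set.univ : Set (AlgSp.Points Y.obj))) :
    AlgSp.HasAtMor (fun U _ h u => ∃ W : U.Opens, u ∈ W ∧ LocallyQuasiFinite (W.ι ≫ h) ∧
      LocallyOfFiniteType (W.ι ≫ h)) f.hom x ↔
      (∀ x' : AlgSp.Points X.obj, AlgSp.Points.map f.hom x' = y → x' = x) := by
  obtain ⟨-, hXdec, -⟩ := hXi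
  obtain ⟨-, hYdec, -⟩ := hYi
  have hfx := map_generic hYdec f hd x hx y hy
  obtain ⟨U₀, a₀, ha₀, hs₀⟩ := X.property.atlas
  obtain ⟨V₀, b₀, hb₀, hsb₀⟩ := Y.property.atlas
  constructor
  · intro hqf x' hx'
    have hsp : x ⤳ x' := by
      rw [specializes_iff_mem_closure, hx.def]
      trivial
    obtain ⟨u₀, rfl⟩ := exists_atlas_point a₀ hs₀ x'
    obtain ⟨T, e, k, z', het, hTa, hcomm, hz1⟩ :=
      exists_chart_diagram_atlas f.hom a₀ ha₀ u₀ b₀ hb₀ hsb₀
    have hxz : Points.ofPt a₀ u₀ = Points.ofPt ((yon S).map e ≫ a₀) z' := by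
      rw [ofPt_yon_map_comp, hz1]
    rw [hxz] at hx' hsp ⊢
    generalize (yon S).map e ≫ a₀ = p at *
    haveI : LocallyOfFiniteType k.left := hft p b₀ k hTa hb₀ hcomm
    have hpt : ∀ t : T.left, Points.map f.hom (Points.ofPt p t) = Points.ofPt b₀ (k.left t) := by
      intro t
      rw [Points.map_ofPt, hcomm, ofPt_yon_map_comp]
    obtain ⟨px, hpx, -, hqx⟩ := hXdec x
    obtain ⟨z, hzz', hzx⟩ := Groth.Agent.Lib.Helper12.QcPoint.exists_generization
      (Points.ofPt p z') x hsp px hpx hqx p hTa z' rfl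
    have hk : k.left z' = k.left z := by
      apply eq_of_specializes_of_fibre hYdec b₀ hb₀ (k.left z') (k.left z)
      · rw [← hpt, ← hpt, hx', hzx, hfx]
      · exact hzz'.map k.left.continuous
    have hq : k.left.QuasiFiniteAt z := by
      rw [← hzx, hasAtMor_qfNear_iff f.hom hft p b₀ k z hTa hb₀ hcomm,
        ← Groth.Agent.Lib.Helper3.GrpHomQF.quasiFiniteAt_iff_fibreDimAt_le_zero] at hqf
      exact hqf
    have hzz : z' = z :=
      Groth.Agent.Lib.Helper4.GenFinite.eq_of_quasiFiniteAt_of_specializes k.left hq hk hzz'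
    rw [hzz, hzx]
  · intro huniq
    obtain ⟨u₀, rfl⟩ := exists_atlas_point a₀ hs₀ x
    obtain ⟨T, e, k, z, het, hTa, hcomm, hz1⟩ :=
      exists_chart_diagram_atlas f.hom a₀ ha₀ u₀ b₀ hb₀ hsb₀
    have hxz : Points.ofPt a₀ u₀ = Points.ofPt ((yon S).map e ≫ a₀) z := by
      rw [ofPt_yon_map_comp, hz1]
    rw [hxz] at hfx huniq hx ⊢
    generalize (yon S).map e ≫ a₀ = p at *
    haveI : LocallyOfFiniteType k.left := hft p b₀ k hTa hb₀ hcomm
    have hpt : ∀ t : T.left, Points.map f.hom (Points.ofPt p t) = Points.ofPt b₀ (k.left t) := by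
      intro t
      rw [Points.map_ofPt, hcomm, ofPt_yon_map_comp]
    rw [hasAtMor_qfNear_iff f.hom hft p b₀ k z hTa hb₀ hcomm,
      ← Groth.Agent.Lib.Helper3.GrpHomQF.quasiFiniteAt_iff_fibreDimAt_le_zero]
    apply Groth.Agent.Lib.Helper4.GenFiniteKA.quasiFiniteAt_of_forall_fiber_specializes_eq k.left z
    intro w w' hw hw' hww'
    have hpw : Points.ofPt p w = Points.ofPt p z := by
      apply huniq
      rw [hpt]
      rw [hw, ← hfx, hpt]
    have hpw' : Points.ofPt p w' = Points.ofPt p z := by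
      apply huniq
      rw [hpt]
      rw [hw', ← hfx, hpt]
    exact (eq_of_specializes_of_fibre hXdec p hTa w' w (hpw'.trans hpw.symm) hww').symm

theorem main10486 {X Y : AlgSp.Space S} (hXi : AlgSp.IsIntegralSp X.obj)
    (hYi : AlgSp.IsIntegralSp Y.obj)
    (f : X ⟶ Y) (hft : AlgSp.LocP @LocallyOfFiniteType f.hom) (hd : AlgSp.IsDominantMor f.hom)
    (x : AlgSp.Points X.obj) (hx : IsGenericPoint x (Set.univ : Set (AlgSp.Points X.obj)))
    (y : AlgSp.Points Y.obj) (hy : IsGenericPoint y (Set.univ : Set (AlgSp.Points Y.obj))) :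
    AlgSp.HasAtMor (fun _ _ h u => Dual3.resTrdeg h u = 0) f.hom x ↔
      (∀ x' : AlgSp.Points X.obj, AlgSp.Points.map f.hom x' = y → x' = x) := by
  rw [← main10485 hXi hYi f hft hd x hx y hy]
  obtain ⟨-, hXdec, -⟩ := hXi
  obtain ⟨U₀, a₀, ha₀, hs₀⟩ := X.property.atlas
  obtain ⟨V₀, b₀, hb₀, hsb₀⟩ := Y.property.atlas
  obtain ⟨u₀, rfl⟩ := exists_atlas_point a₀ hs₀ x
  obtain ⟨T, e, k, z, het, hTa, hcomm, hz1⟩ :=
    exists_chart_diagram_atlas f.hom a₀ ha₀ u₀ b₀ hb₀ hsb₀
  have hxz : Points.ofPt a₀ u₀ = Points.ofPt ((yon S).map e ≫ a₀) z := by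
    rw [ofPt_yon_map_comp, hz1]
  rw [hxz] at hx ⊢
  generalize (yon S).map e ≫ a₀ = p at *
  haveI : LocallyOfFiniteType k.left := hft p b₀ k hTa hb₀ hcomm
  have hgen := generic_chart hXdec _ hx p hTa z rfl
  rw [hasAtMor_qfNear_iff f.hom hft p b₀ k z hTa hb₀ hcomm,
    ← Groth.Agent.Lib.Helper3.GrpHomQF.quasiFiniteAt_iff_fibreDimAt_le_zero,
    Groth.Agent.Lib.Helper9.SpRelDimStalk.hasAtMor_resTrdeg_iff f.hom p b₀ k z hTa hb₀ hcomm]
  exact ⟨quasiFiniteAt_of_generic_of_resTrdeg_zero k.left z hgen,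
    resTrdeg_eq_zero_of_quasiFiniteAt k.left z⟩

end Groth.Agent.Lib.Helper9.SpGenericQf
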