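import Mathlib
import Groth.Agent.S9782
import Groth.Agent.Lib.Helper9SpChart
import Groth.Prelude.Def_AlgSpMor5
/-!
# helper9: geometric unibranchness descends along morphisms of algebraic spaces flat at a point
`nilradical_isPrime_of_flat_local`, `main10579`.
-/

set_option autoImplicit false
set_option linter.style.haveILetI false
set_option backward.isDefEq.respectTransparency false
universe u
open CategoryTheory CategoryTheory.Limits AlgebraicGeometry
open AlgSp

namespace Groth.Agent.Lib.Helper9.SpGeomUnibranch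

/-- a flat local homomorphism of local rings is injective -/
theorem injective_of_flat_of_isLocalHom {A B : Type u} [CommRing A] [CommRing B] [IsLocalRing A]
    [IsLocalRing B] (φ : A →+* B) [IsLocalHom φ] (hφ : φ.Flat) : Function.Injective φ := by
  algebraize [φ]
  haveI : IsLocalHom (algebraMap A B) := ‹IsLocalHom φ›
  haveI : Module.FaithfullyFlat A B := Module.FaithfullyFlat.of_flat_of_isLocalHom
  exact FaithfulSMul.algebraMap_injective A B

/-- the nilradical of the source of a flat local homomorphism is prime if that of the target is -/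
theorem nilradical_isPrime_of_flat_local {A B : Type u} [CommRing A] [CommRing B] [IsLocalRing A]
    [IsLocalRing B] (φ : A →+* B) [IsLocalHom φ] (hφ : φ.Flat) (h : (nilradical B).IsPrime) :
    (nilradical A).IsPrime :=
  Groth.Agent.Lib.Helper3.EtGU.nilradical_isPrime_of_injective φ
    (injective_of_flat_of_isLocalHom φ hφ) h

/-- geometric unibranchness descends along a morphism flat at a point. -/
theorem main10579 {S : Scheme.{u}} {X Y : AlgSp.Space S} (f : X ⟶ Y) (x : AlgSp.Points X.obj)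
    (hf : AlgSp.IsFlatAtMor f.hom x)
    (hX : ∀ (U : Over S) (a : (AlgSp.yon S).obj U ⟶ X.obj) (v : ↥U.left), AlgSp.RepWith @Etale a →
      AlgSp.Points.ofPt a v = x → CAlg2.IsGeomUnibranch ↥(U.left.presheaf.stalk v))
    (V : Over S) (b : (AlgSp.yon S).obj V ⟶ Y.obj) (w : ↥V.left) (hb : AlgSp.RepWith @Etale b)
    (hw : AlgSp.Points.ofPt b w = AlgSp.Points.map f.hom x) :
    CAlg2.IsGeomUnibranch ↥(V.left.presheaf.stalk w) := by
  apply Groth.Agent.S9782.isGeomUnibranch_of_forall_etale V.left w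
  intro V' g v' hg hgv
  obtain ⟨gO, hgO⟩ : ∃ gO : Over.mk (g ≫ V.hom) ⟶ V, gO = Over.homMk g rfl := ⟨_, rfl⟩
  have hgl : gO.left = g := by rw [hgO]; rfl
  have hb' : AlgSp.RepWith @Etale ((AlgSp.yon S).map gO ≫ b) :=
    (AlgSp.repWith_isMultiplicative (S := S) @Etale).comp_mem _ _
      ((AlgSp.repWith_yon_map_iff _ _).2 (by rw [hgl]; exact hg)) hb
  obtain ⟨U₀, a₀, ha₀e, ha₀s⟩ := X.property.atlas
  obtain ⟨u₀, hu₀⟩ := Groth.Agent.Lib.Helper9.SpPoint.exists_atlas_point a₀ ha₀s x
  have hpt : AlgSp.Points.ofPt (a₀ ≫ f.hom) u₀ =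
      AlgSp.Points.ofPt ((AlgSp.yon S).map gO ≫ b) v' := by
    rw [← AlgSp.Points.map_ofPt, hu₀, Groth.Agent.Lib.Helper9.SpPoint.ofPt_yon_map_comp, hgl]
    exact hw.symm.trans (congrArg (AlgSp.Points.ofPt b) hgv.symm)
  obtain ⟨W, e, k, z, he, hae, hcomm, hz1, hz2⟩ :=
    Groth.Agent.Lib.Helper9.SpPoint.exists_chart_diagram f.hom a₀ ha₀e u₀
      ((AlgSp.yon S).map gO ≫ b) hb' v' hpt
  have hzx : AlgSp.Points.ofPt ((AlgSp.yon S).map e ≫ a₀) z = x := by
    rw [Groth.Agent.Lib.Helper9.SpPoint.ofPt_yon_map_comp, hz1, hu₀]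
  have hflat : (Scheme.Hom.stalkMap k.left z).hom.Flat :=
    hf ((AlgSp.yon S).map e ≫ a₀) ((AlgSp.yon S).map gO ≫ b) k z hae hb' hcomm hzx
  have hGU : CAlg2.IsGeomUnibranch (W.left.presheaf.stalk z) :=
    hX W ((AlgSp.yon S).map e ≫ a₀) z hae hzx
  have hnil : (nilradical (W.left.presheaf.stalk z)).IsPrime := by
    haveI : IsDomain (CAlg2.red (W.left.presheaf.stalk z)) := hGU.1.1
    exact (Ideal.Quotient.isDomain_iff_prime _).mp inferInstance
  have hkz : k.left z = v' := hz2
  subst hkz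
  apply Groth.Agent.Lib.Helper3.EtNbhd.encard_eq_one_of_nilradical_isPrime
  exact nilradical_isPrime_of_flat_local (Scheme.Hom.stalkMap k.left z).hom hflat hnil

end Groth.Agent.Lib.Helper9.SpGeomUnibranch
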