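import Groth.Prelude.Def_AlgSpGpd
import Groth.Agent.Lib.Helper9SpQuot

/-!
# Quotients of restricted groupoids in fppf sheaves (helper9)
-/

set_option autoImplicit false
set_option linter.unusedSectionVars false

namespace Groth.Agent.Lib.Helper9.SpQuot

open CategoryTheory Limits Opposite AlgebraicGeometry Groth.Agent.Lib.Helper9
  Groth.Agent.Lib.Helper9.LocalRel

universe u

variable {S : Scheme.{u}} {B : AlgSp.Sp S}

/-- for a groupoid, the strict relation is an equivalence relation on all generalized points -/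
lemma sig_equivalence (G : AlgSp.GroupoidSp B) (T : AlgSp.Sp S) :
    _root_.Equivalence (Sig G.s G.t (T := T)) := by
  refine ⟨fun a => ⟨a ≫ G.e, ?_, ?_⟩, fun {a b} hab => ?_, fun {a b c} hab hbc => ?_⟩
  · rw [Category.assoc, G.e_s, Category.comp_id]
  · rw [Category.assoc, G.e_t, Category.comp_id]
  · obtain ⟨r, h1, h2⟩ := hab
    exact ⟨r ≫ G.i, by rw [Category.assoc, G.i_s, h2], by rw [Category.assoc, G.i_t, h1]⟩
  · obtain ⟨r, h1, h2⟩ := hab
    obtain ⟨r', h1', h2'⟩ := hbc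
    have h : r' ≫ G.s = r ≫ G.t := h1'.trans h2.symm
    exact ⟨pullback.lift r' r h ≫ G.c, (G.comp_s r' r h).trans h1, (G.comp_t r' r h).trans h2'⟩

theorem rho_of_groupoid (G : AlgSp.GroupoidSp B) {W : AlgSp.Sp S} (a b : W ⟶ G.U)
    (hab : a ≫ G.quotπ = b ≫ G.quotπ) : Rho G.s G.t a b := by
  refine rho_of_comp_eq_of_generators (fun _ => True)
    (fun W => ⟨PUnit.{1}, fun _ => W, fun _ => 𝟙 W, fun _ => trivial, fun Z a b h => by
      simpa using h PUnit.unit⟩)
    (fun T _ => sig_equivalence G T) (AlgSp.quotSpπ G.s G.t) (AlgSp.quotSp_condition G.s G.t)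
    (AlgSp.quotSpIsCoequalizer G.s G.t) a b hab

theorem groupoid_quot_restrict (G G' : AlgSp.GroupoidSp B) (φ : AlgSp.GroupoidSp.Hom G' G)
    (hφ : φ.IsRestriction) (ψ : G'.quot ⟶ G.quot) (hψ : G'.quotπ ≫ ψ = φ.fU ≫ G.quotπ) :
    Mono ψ ∧ (Epi (pullback.snd φ.fU G.t ≫ G.s) → IsIso ψ) := by
  haveI : Epi G'.quotπ := epi_quotSpπ G'.s G'.t
  haveI : Epi G.quotπ := epi_quotSpπ G.s G.t
  have hmono : Mono ψ := by
    constructor
    intro W x y hxy
    obtain ⟨W₁, e, he, a, b, ha, hb⟩ :=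
      ToposLike.exists_local_lift₂ G'.quotπ inferInstance x y
    have h1 : (a ≫ φ.fU) ≫ G.quotπ = (b ≫ φ.fU) ≫ G.quotπ := by
      rw [Category.assoc, Category.assoc, ← hψ, ← Category.assoc, ← Category.assoc, ← ha, ← hb,
        Category.assoc, Category.assoc, hxy]
    obtain ⟨W₂, e₂, he₂, r₀, hr1, hr2⟩ := rho_of_groupoid G (a ≫ φ.fU) (b ≫ φ.fU) h1
    have hp : (e₂ ≫ b) ≫ G'.pU = (e₂ ≫ a) ≫ G'.pU := by
      have e1 : (e₂ ≫ b) ≫ G'.pU = r₀ ≫ G.pR := by
        rw [← φ.fU_over, ← G.t_over, ← Category.assoc r₀, hr2]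
        simp only [Category.assoc]
      have e2 : (e₂ ≫ a) ≫ G'.pU = r₀ ≫ G.pR := by
        rw [← φ.fU_over, ← G.s_over, ← Category.assoc r₀, hr1]
        simp only [Category.assoc]
      rw [e1, e2]
    obtain ⟨l, hl1, hl2⟩ := hφ.exists_lift r₀ (pullback.lift (e₂ ≫ b) (e₂ ≫ a) hp) (by
      apply pullback.hom_ext
      · rw [Category.assoc, Category.assoc, G.j_fst, hr2]
        unfold AlgSp.GroupoidSp.Hom.prodMap
        simp only [pullback.map, pullback.lift_fst, pullback.lift_fst_assoc, Category.assoc]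
      · rw [Category.assoc, Category.assoc, G.j_snd, hr1]
        unfold AlgSp.GroupoidSp.Hom.prodMap
        simp only [pullback.map, pullback.lift_snd, pullback.lift_snd_assoc, Category.assoc])
    have hlt : l ≫ G'.t = e₂ ≫ b := by
      have := congrArg (fun m => m ≫ pullback.fst _ _) hl2
      simpa only [Category.assoc, G'.j_fst, pullback.lift_fst] using this
    have hls : l ≫ G'.s = e₂ ≫ a := by
      have := congrArg (fun m => m ≫ pullback.snd _ _) hl2
      simpa only [Category.assoc, G'.j_snd, pullback.lift_snd] using this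
    have h2 : e₂ ≫ a ≫ G'.quotπ = e₂ ≫ b ≫ G'.quotπ := by
      have hc : G'.s ≫ G'.quotπ = G'.t ≫ G'.quotπ := AlgSp.quotSp_condition G'.s G'.t
      rw [← Category.assoc, ← Category.assoc, ← hls, ← hlt, Category.assoc, Category.assoc, hc]
    haveI := he
    haveI := he₂
    rw [← cancel_epi e, ← cancel_epi e₂, ha, hb]
    exact h2
  refine ⟨hmono, fun hg => ?_⟩
  haveI := hg
  have h3 : (pullback.fst φ.fU G.t ≫ G'.quotπ) ≫ ψ = (pullback.snd φ.fU G.t ≫ G.s) ≫ G.quotπ := by
    have hc : G.s ≫ G.quotπ = G.t ≫ G.quotπ := AlgSp.quotSp_condition G.s G.t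
    rw [Category.assoc, hψ, ← Category.assoc, pullback.condition, Category.assoc, Category.assoc, hc]
  haveI : Epi ((pullback.fst φ.fU G.t ≫ G'.quotπ) ≫ ψ) := by rw [h3]; infer_instance
  haveI : Epi ψ := epi_of_epi (pullback.fst φ.fU G.t ≫ G'.quotπ) ψ
  exact ToposLike.isIso_of_mono_of_epi ψ hmono inferInstance

end Groth.Agent.Lib.Helper9.SpQuot
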