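import Mathlib
import Groth.Agent.Lib.Helper9SpDimIneq
import Groth.Agent.Lib.Helper12SrcLocal
import Groth.Agent.Lib.Helper12OpenSub2
import Groth.Agent.S9683
import Groth.Agent.S10175

/-!
# Integral morphisms of algebraic spaces and dimension (helper9)
-/

set_option autoImplicit false
set_option linter.style.haveILetI false
open CategoryTheory CategoryTheory.Limits AlgebraicGeometry Opposite
universe u

namespace Groth.Agent.Lib.Helper9.SpIntDim

open AlgSp Groth.Agent.Lib.Helper9.SpPoint Groth.Agent.Lib.Helper9.EtDim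

variable {S : Scheme.{u}}

/-- the restriction of an étale chart to an open subscheme is an étale chart -/
theorem repWith_etale_restrict {Y : AlgSp.Sp S} {V : Over S} (b : (yon S).obj V ⟶ Y)
    (hb : RepWith @Etale b) (V₁ : V.left.Opens) :
    RepWith @Etale ((yon S).map (Over.homMk V₁.ι rfl : Over.mk (V₁.ι ≫ V.hom) ⟶ V) ≫ b) :=
  (repWith_isMultiplicative (S := S) @Etale).comp_mem _ _
    ((repWith_yon_map_iff _ _).2 (inferInstance : Etale V₁.ι)) hb

/-- the dimension of an étale chart is at most the dimension of the space -/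
theorem topologicalKrullDim_le_dim {Y : AlgSp.Sp S} {V : Over S} (b : (yon S).obj V ⟶ Y)
    (hb : RepWith @Etale b) : topologicalKrullDim V.left ≤ AlgSp.dim Y := by
  unfold AlgSp.dim
  exact le_iSup_of_le V (le_iSup_of_le b (le_iSup_of_le hb le_rfl))

theorem main10448 {X Y : AlgSp.Space S} (f : X ⟶ Y) (hf : AlgSp.IsIntegralMor f.hom) :
    AlgSp.dim X.obj ≤ AlgSp.dim Y.obj := by
  obtain ⟨V₀, b₀, hb₀, hsb₀⟩ := Y.property.atlas
  unfold AlgSp.dim
  refine iSup_le fun U => iSup_le fun a => iSup_le fun ha => ?_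
  rw [topologicalKrullDim_le_iff]
  intro u
  obtain ⟨T, e, k, z, het, hTa, hcomm, hz⟩ :=
    exists_chart_diagram_atlas f.hom a ha u b₀ hb₀ hsb₀
  haveI := het
  obtain ⟨V₁, hV₁, hzV₁, -⟩ := exists_isAffineOpen_mem_and_subset (X := V₀.left)
    (x := k.left z) (U := ⊤) trivial
  have hb₁ := repWith_etale_restrict b₀ hb₀ V₁
  have hp₁ := repWith_etale_restrict _ hTa (k.left ⁻¹ᵁ V₁)
  have hk₁w : (k.left ∣_ V₁) ≫ (V₁.ι ≫ V₀.hom) = (k.left ⁻¹ᵁ V₁).ι ≫ T.hom := by
    rw [← Category.assoc, morphismRestrict_ι, Category.assoc, Over.w k]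
  obtain ⟨k₁, hk₁⟩ : ∃ k₁ : Over.mk ((k.left ⁻¹ᵁ V₁).ι ≫ T.hom) ⟶ Over.mk (V₁.ι ≫ V₀.hom),
      k₁ = Over.homMk (k.left ∣_ V₁) hk₁w := ⟨_, rfl⟩
  have hk₁ι : k₁ ≫ (Over.homMk V₁.ι rfl : Over.mk (V₁.ι ≫ V₀.hom) ⟶ V₀) =
      (Over.homMk (k.left ⁻¹ᵁ V₁).ι rfl : Over.mk ((k.left ⁻¹ᵁ V₁).ι ≫ T.hom) ⟶ T) ≫ k := by
    apply Over.OverMorphism.ext
    rw [hk₁]
    exact morphismRestrict_ι k.left V₁
  have hV₁aff : IsAffine (Over.mk (V₁.ι ≫ V₀.hom)).left := hV₁
  obtain ⟨W, i, fst, sq, hW, hi⟩ := hf hV₁aff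
    ((yon S).map (Over.homMk V₁.ι rfl : Over.mk (V₁.ι ≫ V₀.hom) ⟶ V₀) ≫ b₀)
  have hfst : RepWith @Etale fst :=
    (repWith_isStableUnderBaseChange (S := S) @Etale).of_isPullback sq.flip hb₁
  have hcomm₁ : ((yon S).map (Over.homMk (k.left ⁻¹ᵁ V₁).ι rfl :
      Over.mk ((k.left ⁻¹ᵁ V₁).ι ≫ T.hom) ⟶ T) ≫ (yon S).map e ≫ a) ≫ f.hom =
      (yon S).map k₁ ≫ (yon S).map (Over.homMk V₁.ι rfl : Over.mk (V₁.ι ≫ V₀.hom) ⟶ V₀) ≫ b₀ := by
    rw [Category.assoc, hcomm, ← Category.assoc, ← Functor.map_comp, ← hk₁ι, Functor.map_comp,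
      Category.assoc]
  obtain ⟨l, hl⟩ := (yon S).map_surjective (sq.lift _ _ hcomm₁)
  have hlet : Etale l.left :=
    Groth.Agent.Lib.Helper12.SrcLocal.etale_of_chart_comp fst _ l hfst hp₁
      (by rw [hl, sq.lift_fst])
  haveI := hlet
  haveI : IsIntegralHom i.left := hi
  -- the chain of dimensions
  have h1 : ringKrullDim (U.left.presheaf.stalk u) = ringKrullDim (T.left.presheaf.stalk z) := by
    rw [← hz]
    exact (ringKrullDim_stalk_eq_of_etale e.left z).symm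
  have hz₁ : z ∈ k.left ⁻¹ᵁ V₁ := hzV₁
  have h2 : ringKrullDim ((k.left ⁻¹ᵁ V₁).toScheme.presheaf.stalk ⟨z, hz₁⟩) =
      ringKrullDim (T.left.presheaf.stalk z) :=
    ringKrullDim_stalk_eq_of_etale (k.left ⁻¹ᵁ V₁).ι ⟨z, hz₁⟩
  have h3 : ringKrullDim ((k.left ⁻¹ᵁ V₁).toScheme.presheaf.stalk ⟨z, hz₁⟩) =
      ringKrullDim (W.left.presheaf.stalk (l.left ⟨z, hz₁⟩)) :=
    ringKrullDim_stalk_eq_of_etale l.left ⟨z, hz₁⟩
  rw [h1, ← h2, h3]
  refine ((topologicalKrullDim_le_iff W.left _).1 le_rfl _).trans ?_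
  refine (Groth.Agent.S9683.result i.left).1.trans ?_
  exact le_iSup_of_le _ (le_iSup_of_le _ (le_iSup_of_le hb₁ le_rfl))

/-- a base change of a surjective morphism of sheaves to a scheme is surjective on points -/
theorem surjective_of_isPullback {X Y : AlgSp.Sp S} (f : X ⟶ Y)
    (hs : AlgSp.IsSurjectiveMor f) {Z W : Over S} (g : (yon S).obj Z ⟶ Y) (i : W ⟶ Z)
    (fst : (yon S).obj W ⟶ X) (sq : IsPullback fst ((yon S).map i) f g) :
    Function.Surjective i.left := by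
  intro v
  obtain ⟨x, hx⟩ := hs (Points.map g (Points.ofScheme Z v))
  obtain ⟨p, hp, -⟩ := Groth.Agent.S10175.exists_point_of_isPullback sq.flip
    (Points.ofScheme Z v) x hx.symm
  refine ⟨Points.toScheme W p, ?_⟩
  have h1 : Points.map ((yon S).map i) (Points.ofScheme W (Points.toScheme W p)) =
      Points.ofScheme Z v := by
    rw [Points.ofScheme_toScheme]
    exact hp
  have h2 := congrArg (Points.toScheme Z) h1
  rw [Points.toScheme_ofScheme] at h2
  rw [← h2]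
  change _ = Points.toScheme Z (Points.ofPt (𝟙 _ ≫ (yon S).map i) _)
  rw [Category.id_comp, Points.toScheme_ofPt]

theorem main10449 {X Y : AlgSp.Space S} (f : X ⟶ Y) (hf : AlgSp.IsIntegralMor f.hom)
    (hs : AlgSp.IsSurjectiveMor f.hom) : AlgSp.dim Y.obj ≤ AlgSp.dim X.obj := by
  unfold AlgSp.dim
  refine iSup_le fun V => iSup_le fun b => iSup_le fun hb => ?_
  rw [topologicalKrullDim_le_iff]
  intro v
  obtain ⟨V₁, hV₁, hvV₁, -⟩ := exists_isAffineOpen_mem_and_subset (X := V.left)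
    (x := v) (U := ⊤) trivial
  have hb₁ := repWith_etale_restrict b hb V₁
  have hV₁aff : IsAffine (Over.mk (V₁.ι ≫ V.hom)).left := hV₁
  obtain ⟨W, i, fst, sq, hW, hi⟩ := hf hV₁aff
    ((yon S).map (Over.homMk V₁.ι rfl : Over.mk (V₁.ι ≫ V.hom) ⟶ V) ≫ b)
  have hfst : RepWith @Etale fst :=
    (repWith_isStableUnderBaseChange (S := S) @Etale).of_isPullback sq.flip hb₁
  haveI : IsIntegralHom i.left := hi
  have hsurj : Function.Surjective i.left := surjective_of_isPullback f.hom hs _ i fst sq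
  haveI : Surjective i.left := ⟨hsurj⟩
  have h2 : ringKrullDim (V₁.toScheme.presheaf.stalk ⟨v, hvV₁⟩) =
      ringKrullDim (V.left.presheaf.stalk v) :=
    ringKrullDim_stalk_eq_of_etale V₁.ι ⟨v, hvV₁⟩
  rw [← h2]
  refine ((topologicalKrullDim_le_iff V₁.toScheme _).1 le_rfl _).trans ?_
  have h3 : topologicalKrullDim W.left = topologicalKrullDim V₁.toScheme :=
    (Groth.Agent.S9683.result i.left).2 inferInstance
  rw [← h3]
  exact le_iSup_of_le W (le_iSup_of_le fst (le_iSup_of_le hfst le_rfl))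

end Groth.Agent.Lib.Helper9.SpIntDim
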