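import Mathlib
import Groth.Agent.Lib.Helper9SpGenericQf

/-!
# dim X ≤ dim Y + trdeg for dominant morphisms of integral algebraic spaces (helper9)
-/

set_option autoImplicit false
set_option linter.style.haveILetI false
set_option backward.isDefEq.respectTransparency false
open CategoryTheory CategoryTheory.Limits AlgebraicGeometry Opposite
universe u

namespace Groth.Agent.Lib.Helper9.SpIntegralDim

open AlgSp Groth.Agent.Lib.Helper9.SpGenericQf

variable {S : Scheme.{u}}

/-- in a decent space with a generic point, the generic point is the only point of codimension `0` -/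
theorem eq_generic_of_codim_zero {X : AlgSp.Space S} (hX : IsDecent X.obj)
    (x : AlgSp.Points X.obj) (hx : IsGenericPoint x (Set.univ : Set (AlgSp.Points X.obj)))
    (ξ : AlgSp.Points X.obj)
    (hξ : AlgSp.HasAt (fun U u => ringKrullDim ↥(U.presheaf.stalk u) = 0) X.obj ξ) : ξ = x := by
  obtain ⟨U, a, u, ha, rfl, hdim⟩ := hξ
  have hsp : x ⤳ Points.ofPt a u := by
    rw [specializes_iff_mem_closure, hx.def]
    trivial
  obtain ⟨px, hpx, -, hqx⟩ := hX x
  obtain ⟨u', hu'u, hu'x⟩ := Groth.Agent.Lib.Helper12.QcPoint.exists_generization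
    (Points.ofPt a u) x hsp px hpx hqx a ha u rfl
  rw [ringKrullDim_stalk_eq_coheight] at hdim
  have h0 : Order.coheight u = 0 := by exact_mod_cast hdim
  have hmax : IsMax u := Order.coheight_eq_zero.1 h0
  have h2 : u ⤳ u' := hmax hu'u
  have h3 : u' = u := (hu'u.antisymm h2).eq
  rw [← hu'x, h3]

theorem main10459 {X Y : AlgSp.Space S} (f : X ⟶ Y)
    (hY : AlgSp.IsLocNoethSp Y.obj) (hXi : AlgSp.IsIntegralSp X.obj)
    (hft : AlgSp.LocP @LocallyOfFiniteType f.hom)
    (x : AlgSp.Points X.obj) (hx : IsGenericPoint x (Set.univ : Set (AlgSp.Points X.obj))) (r : ℕ)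
    (hr : AlgSp.HasAtMor (fun _ _ h u => Dual3.resTrdeg h u = (r : Cardinal.{u})) f.hom x) :
    AlgSp.dim X.obj ≤ AlgSp.dim Y.obj + ((r : ℕ∞) : WithBot ℕ∞) := by
  obtain ⟨-, hXdec, -⟩ := hXi
  have h := Groth.Agent.Lib.Helper9.SpDimIneq.main324 f hY hft (r : Cardinal.{u}) (by
    intro ξ hξ s hs
    have hξx := eq_generic_of_codim_zero hXdec x hx ξ hξ
    subst hξx
    obtain ⟨U, V, a, b, h, u, ha, hb, hcomm, rfl, hs'⟩ := hs
    rw [Groth.Agent.Lib.Helper9.SpRelDimStalk.hasAtMor_resTrdeg_iff f.hom a b h u ha hb hcomm] at hr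
    rw [← hs', hr])
  rwa [Cardinal.toENat_nat] at h

end Groth.Agent.Lib.Helper9.SpIntegralDim
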