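import Mathlib
import Groth.Agent.Lib.Helper9IrrFin
import Groth.Agent.Lib.Helper9SpDimIneq
import Groth.Agent.S9874
import Groth.Agent.S10177

/-!
# Algebraic spaces with locally finitely many irreducible components (helper9)
-/

set_option autoImplicit false
set_option linter.style.haveILetI false
set_option backward.isDefEq.respectTransparency false
open CategoryTheory CategoryTheory.Limits AlgebraicGeometry Opposite
universe u

namespace Groth.Agent.Lib.Helper9.SpIrrFin

open AlgSp Groth.Agent.Lib.Helper9.IrrFin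

section Sch

/-- a point whose local ring has dimension `0` is the generic point of an irreducible component -/
theorem closure_mem_irreducibleComponents_of_dim_zero (T : Scheme.{u}) (t : T)
    (h : ringKrullDim (T.presheaf.stalk t) = 0) : closure {t} ∈ irreducibleComponents T := by
  rw [ringKrullDim_stalk_eq_coheight] at h
  have h0 : Order.coheight t = 0 := by exact_mod_cast h
  have hmax : IsMax t := Order.coheight_eq_zero.1 h0
  obtain ⟨η, hη⟩ := QuasiSober.sober (isIrreducible_irreducibleComponent (x := t))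
    isClosed_irreducibleComponent
  have h1 : η ⤳ t := by
    rw [specializes_iff_mem_closure, hη.def]
    exact mem_irreducibleComponent
  have h2 : t ⤳ η := hmax h1
  have h3 : η = t := (h1.antisymm h2).eq
  rw [← h3, hη.def]
  exact irreducibleComponent_mem_irreducibleComponents t

theorem finite_dimZero_of_finite_irreducibleComponents (T : Scheme.{u})
    (h : (irreducibleComponents T).Finite) :
    {t : T | ringKrullDim (T.presheaf.stalk t) = 0}.Finite := by
  have hinj : Function.Injective (fun t : T => closure ({t} : Set T)) := by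
    intro t t' htt'
    exact (inseparable_iff_closure_eq.2 htt').eq
  refine (h.preimage hinj.injOn).subset fun t ht => ?_
  exact closure_mem_irreducibleComponents_of_dim_zero T t ht

theorem finite_irreducibleComponents_of_finite_dimZero (T : Scheme.{u})
    (h : {t : T | ringKrullDim (T.presheaf.stalk t) = 0}.Finite) :
    (irreducibleComponents T).Finite := by
  refine (h.image (fun t : T => closure ({t} : Set T))).subset fun Z hZ => ?_
  obtain ⟨η, hη⟩ := QuasiSober.sober hZ.1 (isClosed_of_mem_irreducibleComponents Z hZ)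
  refine ⟨η, ?_, hη.def⟩
  apply Groth.Agent.Lib.Helper9.SpDimIneq.ringKrullDim_stalk_eq_zero_of_generic
  rw [hη.def]
  exact hZ

theorem finite_irreducibleComponents_of_locFinIrr_of_compact (T : Scheme.{u}) [CompactSpace T]
    (h : LocFinIrr T) : (irreducibleComponents T).Finite := by
  have h1 := h ⊤ isCompact_univ
  exact finite_irreducibleComponents_of_surjective (A := ↥(⊤ : T.Opens)) (X := T)
    (fun w => w.1) continuous_subtype_val (fun t => ⟨⟨t, trivial⟩, rfl⟩) h1

end Sch

variable {S : Scheme.{u}}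

/-- an atlas of the source over a given atlas of the target -/
theorem exists_atlas_over {X Y : Sp S} (hX : IsAlgSpace X) (hY : IsAlgSpace Y) (f : X ⟶ Y)
    {V : Over S} (b : (yon S).obj V ⟶ Y) (hbe : RepWith @Etale b) (hbs : RepWith @Surjective b) :
    ∃ (U : Over S) (a : (yon S).obj U ⟶ X) (h : U ⟶ V), RepWith @Etale a ∧
      RepWith @Surjective a ∧ a ≫ f = (yon S).map h ≫ b := by
  have hXV : IsAlgSpace (pullback f b) :=
    Groth.Agent.S9874.isAlgSpace_of_isPullback hY.diag hX (IsAlgSpace.yon_obj V)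
      (IsPullback.of_hasPullback f b)
  obtain ⟨U, a0, hae, has⟩ := hXV.atlas
  have hpr1 : RepWith @Etale (pullback.fst f b) :=
    MorphismProperty.of_isPullback (P := RepWith @Etale)
      (IsPullback.of_hasPullback f b).flip hbe
  have hpr1s : RepWith @Surjective (pullback.fst f b) :=
    MorphismProperty.of_isPullback (P := RepWith @Surjective)
      (IsPullback.of_hasPullback f b).flip hbs
  obtain ⟨h, hh⟩ := (yon S).map_surjective (a0 ≫ pullback.snd f b)
  have hae' : RepWith @Etale (a0 ≫ pullback.fst f b) :=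
    (RepWith @Etale).comp_mem _ _ hae hpr1
  have has' : RepWith @Surjective (a0 ≫ pullback.fst f b) :=
    (RepWith @Surjective).comp_mem _ _ has hpr1s
  refine ⟨U, a0 ≫ pullback.fst f b, h, hae', has', ?_⟩
  rw [Category.assoc, pullback.condition, ← Category.assoc, hh]

theorem main10303 {X Y : AlgSp.Space S} (f : X ⟶ Y)
    (hf : AlgSp.LocP @Flat f.hom) (hf' : AlgSp.LocP @LocallyOfFiniteType f.hom)
    (hY : AlgSp.EtaleLocally LocFinIrr Y.obj) : AlgSp.EtaleLocally LocFinIrr X.obj := by
  obtain ⟨V, b, hbe, hbs, hV⟩ := hY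
  obtain ⟨U, a, h, hae, has, hcomm⟩ := exists_atlas_over X.property Y.property f.hom b hbe hbs
  haveI : Flat h.left := hf a b h hae hbe hcomm
  haveI : LocallyOfFiniteType h.left := hf' a b h hae hbe hcomm
  exact ⟨U, a, hae, has, locFinIrr_of_flat_lft h.left hV⟩

/-- `LocFinIrr` for every chart, given one atlas with it -/
theorem locFinIrr_chart {X : Sp S} {U₀ : Over S} (p : (yon S).obj U₀ ⟶ X)
    (hpe : RepWith @Etale p) (hps : RepWith @Surjective p) (h₀ : LocFinIrr U₀.left)
    {U : Over S} (a : (yon S).obj U ⟶ X) (ha : RepWith @Etale a) : LocFinIrr U.left := by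
  have sq := hpe.rep.isPullback' a
  haveI : Etale (hpe.rep.snd a).left := hpe.property_snd a
  haveI : Surjective (hpe.rep.snd a).left := hps.2 a _ _ (hpe.rep.isPullback a)
  haveI : Etale (hpe.rep.fst' a).left := ha.2 p _ _ sq.flip
  have hR : LocFinIrr (hpe.rep.pullback a).left :=
    locFinIrr_of_flat_lft (hpe.rep.fst' a).left h₀
  exact locFinIrr_of_surjective_open (hpe.rep.snd a).left (hpe.rep.snd a).left.isOpenMap
    (hpe.rep.snd a).left.surjective hR

/-- the restriction of an étale chart to an open subscheme is an étale chart -/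
theorem repWith_etale_restrict' {Y : AlgSp.Sp S} {V : Over S} (b : (yon S).obj V ⟶ Y)
    (hb : RepWith @Etale b) (V₁ : V.left.Opens) :
    RepWith @Etale ((yon S).map (Over.homMk V₁.ι rfl : Over.mk (V₁.ι ≫ V.hom) ⟶ V) ≫ b) :=
  (repWith_isMultiplicative (S := S) @Etale).comp_mem _ _
    ((repWith_yon_map_iff _ _).2 (inferInstance : Etale V₁.ι)) hb

theorem main10304 (X : AlgSp.Space S) :
    (AlgSp.EtaleLocally LocFinIrr X.obj ↔
      ∀ (U : Over S) (a : (AlgSp.yon S).obj U ⟶ X.obj), AlgSp.RepWith @Etale a →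
        LocFinIrr U.left) ∧
    (AlgSp.EtaleLocally LocFinIrr X.obj ↔
      ∀ (Y : AlgSp.Space S) (g : Y ⟶ X), AlgSp.IsEtaleMor g.hom → AlgSp.IsQuasiCompactSp Y.obj →
        {y : AlgSp.Points Y.obj |
          AlgSp.HasAt (fun U u => ringKrullDim ↥(U.presheaf.stalk u) = 0) Y.obj y}.Finite) ∧
    (AlgSp.EtaleLocally LocFinIrr X.obj ↔
      ∀ (Y : AlgSp.Space S) (g : Y ⟶ X), AlgSp.IsEtaleMor g.hom → AlgSp.IsQuasiCompactSp Y.obj →
        (irreducibleComponents (AlgSp.Points Y.obj)).Finite) := by
  have A : AlgSp.EtaleLocally LocFinIrr X.obj →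
      ∀ (U : Over S) (a : (AlgSp.yon S).obj U ⟶ X.obj), AlgSp.RepWith @Etale a →
        LocFinIrr U.left := by
    rintro ⟨U₀, p, hpe, hps, h₀⟩ U a ha
    exact locFinIrr_chart p hpe hps h₀ a ha
  have A' : (∀ (U : Over S) (a : (AlgSp.yon S).obj U ⟶ X.obj), AlgSp.RepWith @Etale a →
      LocFinIrr U.left) → AlgSp.EtaleLocally LocFinIrr X.obj := by
    intro H
    obtain ⟨U₀, p, hpe, hps⟩ := X.property.atlas
    exact ⟨U₀, p, hpe, hps, H U₀ p hpe⟩
  -- the quasi-compact charts of a quasi-compact space étale over `X`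
  have B : AlgSp.EtaleLocally LocFinIrr X.obj → ∀ (Y : AlgSp.Space S) (g : Y ⟶ X),
      AlgSp.IsEtaleMor g.hom → AlgSp.IsQuasiCompactSp Y.obj →
      ∃ (U' : Over S) (p' : (yon S).obj U' ⟶ Y.obj), RepWith @Etale p' ∧ RepWith @Surjective p' ∧
        (irreducibleComponents U'.left).Finite := by
    intro hE Y g hg hqc
    obtain ⟨U', p', hp'e, hp's, hcpt⟩ := hqc
    haveI : CompactSpace U'.left := hcpt
    have hQ : LocFinIrr U'.left := A hE U' (p' ≫ g.hom) (hg p' hp'e)
    exact ⟨U', p', hp'e, hp's, finite_irreducibleComponents_of_locFinIrr_of_compact _ hQ⟩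
  -- the test spaces: compact opens of an atlas
  have C : ∀ (P : AlgSp.Space S → Prop),
      (∀ (Y : AlgSp.Space S) (g : Y ⟶ X), AlgSp.IsEtaleMor g.hom →
        AlgSp.IsQuasiCompactSp Y.obj → P Y) →
      ∀ {U₀ : Over S} (p : (yon S).obj U₀ ⟶ X.obj), RepWith @Etale p → ∀ (W : U₀.left.Opens),
        IsCompact (W : Set U₀.left) →
        P ⟨(yon S).obj (Over.mk (W.ι ≫ U₀.hom)), IsAlgSpace.yon_obj _⟩ := by
    intro P H U₀ p hpe W hW
    refine H ⟨(yon S).obj (Over.mk (W.ι ≫ U₀.hom)), IsAlgSpace.yon_obj _⟩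
      (ObjectProperty.homMk ((yon S).map (Over.homMk W.ι rfl : Over.mk (W.ι ≫ U₀.hom) ⟶ U₀) ≫ p))
      ?_ ?_
    · intro U'' φ hφ
      exact (repWith_isMultiplicative (S := S) @Etale).comp_mem _ _ hφ
        (repWith_etale_restrict' p hpe W)
    · refine ⟨Over.mk (W.ι ≫ U₀.hom), 𝟙 _, (RepWith (S := S) @Etale).id_mem _,
        (RepWith (S := S) @Surjective).id_mem _, ?_⟩
      exact isCompact_iff_compactSpace.1 hW
  refine ⟨⟨A, A'⟩, ⟨?_, ?_⟩, ⟨?_, ?_⟩⟩
  · intro hE Y g hg hqc
    obtain ⟨U', p', hp'e, hp's, hfin⟩ := B hE Y g hg hqc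
    refine ((finite_dimZero_of_finite_irreducibleComponents _ hfin).image
      (Points.ofPt p')).subset fun y hy => ?_
    obtain ⟨u, rfl⟩ := Groth.Agent.S10177.surjective_ofPt p' hp's y
    exact ⟨u, (Groth.Agent.Lib.Helper9.SpDimIneq.hasAt_stalkDim_iff p' u hp'e 0).1 hy, rfl⟩
  · intro H
    obtain ⟨U₀, p, hpe, hps⟩ := X.property.atlas
    refine ⟨U₀, p, hpe, hps, fun W hW => ?_⟩
    have h1 := C (fun Y => {y : AlgSp.Points Y.obj |
      AlgSp.HasAt (fun U u => ringKrullDim ↥(U.presheaf.stalk u) = 0) Y.obj y}.Finite) H p hpe W hW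
    have h2 : {w : W.toScheme | ringKrullDim (W.toScheme.presheaf.stalk w) = 0}.Finite := by
      refine (h1.preimage (Points.schemeEquiv (Over.mk (W.ι ≫ U₀.hom))).injective.injOn).subset
        fun w hw => ?_
      exact (Groth.Agent.Lib.Helper9.SpDimIneq.hasAt_stalkDim_iff
        (𝟙 ((yon S).obj (Over.mk (W.ι ≫ U₀.hom)))) w ((RepWith (S := S) @Etale).id_mem _) 0).2 hw
    exact finite_irreducibleComponents_of_finite_dimZero W.toScheme h2
  · intro hE Y g hg hqc
    obtain ⟨U', p', hp'e, hp's, hfin⟩ := B hE Y g hg hqc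
    exact finite_irreducibleComponents_of_surjective (Points.ofPt p') (Points.continuous_ofPt p')
      (Groth.Agent.S10177.surjective_ofPt p' hp's) hfin
  · intro H
    obtain ⟨U₀, p, hpe, hps⟩ := X.property.atlas
    refine ⟨U₀, p, hpe, hps, fun W hW => ?_⟩
    have h1 := C (fun Y => (irreducibleComponents (AlgSp.Points Y.obj)).Finite) H p hpe W hW
    exact finite_irreducibleComponents_of_surjective
      (Points.schemeHomeo (Over.mk (W.ι ≫ U₀.hom))).symm
      (Points.schemeHomeo (Over.mk (W.ι ≫ U₀.hom))).symm.continuous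
      (Points.schemeHomeo (Over.mk (W.ι ≫ U₀.hom))).symm.surjective h1

end Groth.Agent.Lib.Helper9.SpIrrFin
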