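import Mathlib
import Groth.Agent.S10176
import Groth.Agent.S10177

/-!
# Local finiteness of irreducible components of closed subsets of locally Noetherian algebraic spaces (helper9)
-/

set_option autoImplicit false
set_option linter.style.haveILetI false
set_option backward.isDefEq.respectTransparency false
open CategoryTheory CategoryTheory.Limits AlgebraicGeometry Opposite
universe u

namespace Groth.Agent.Lib.Helper9.SpIrrLocFin

open AlgSp

/-- the irreducible components of a subset `T` meeting an open set `N` whose trace on `T` is covered by the image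
of a space with finitely many irreducible components are finite in number -/
theorem finite_irreducibleComponents_meeting {X A : Type*} [TopologicalSpace X]
    [TopologicalSpace A] (T N : Set X) (hN : IsOpen N) (φ : A → X) (hφ : Continuous φ)
    (hφT : ∀ a, φ a ∈ T) (hcov : T ∩ N ⊆ Set.range φ)
    (hfin : (irreducibleComponents A).Finite) :
    {Z : ↥(irreducibleComponents ↥T) |
      ((Subtype.val '' (Z : Set ↥T)) ∩ N).Nonempty}.Finite := by
  classical
  let ψ : A → ↥T := fun a => ⟨φ a, hφT a⟩
  have hψ : Continuous ψ := hφ.subtype_mk _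
  have h𝒞 : ((fun C => closure (ψ '' C)) '' irreducibleComponents A).Finite := hfin.image _
  refine Set.Finite.of_finite_image (f := Subtype.val) (h𝒞.subset ?_) Subtype.val_injective.injOn
  rintro _ ⟨⟨Z, hZ⟩, hZN, rfl⟩
  change Z ∈ _
  obtain ⟨_, ⟨⟨t, htZ, rfl⟩, htN⟩⟩ := hZN
  let O : Set ↥T := Subtype.val ⁻¹' N
  have hO : IsOpen O := hN.preimage continuous_subtype_val
  -- `Z` is covered by the closed sets `Oᶜ` and `closure (ψ '' C)`
  have hcl : ∀ z ∈ insert Oᶜ h𝒞.toFinset, IsClosed z := by
    intro z hz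
    rw [Finset.mem_insert] at hz
    rcases hz with rfl | hz
    · exact hO.isClosed_compl
    · rw [Set.Finite.mem_toFinset] at hz
      obtain ⟨C, _, rfl⟩ := hz
      exact isClosed_closure
  have hcovZ : Z ⊆ ⋃₀ ((insert Oᶜ h𝒞.toFinset : Finset (Set ↥T)) : Set (Set ↥T)) := by
    intro s hs
    by_cases hsO : s ∈ O
    · obtain ⟨a, ha⟩ := hcov ⟨s.2, hsO⟩
      refine Set.mem_sUnion.2 ⟨closure (ψ '' irreducibleComponent a), ?_, ?_⟩
      · simp only [Finset.coe_insert, Set.Finite.coe_toFinset]
        exact Or.inr ⟨irreducibleComponent a,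
          irreducibleComponent_mem_irreducibleComponents a, rfl⟩
      · exact subset_closure ⟨a, mem_irreducibleComponent, Subtype.ext ha⟩
    · refine Set.mem_sUnion.2 ⟨Oᶜ, ?_, hsO⟩
      simp only [Finset.coe_insert]
      exact Or.inl rfl
  obtain ⟨z, hz, hZz⟩ := isIrreducible_iff_sUnion_isClosed.mp hZ.1
    (insert Oᶜ h𝒞.toFinset) hcl hcovZ
  rw [Finset.mem_insert] at hz
  rcases hz with rfl | hz
  · exact absurd htN (hZz htZ)
  · rw [Set.Finite.mem_toFinset] at hz
    obtain ⟨C, hC, rfl⟩ := hz
    have hirr : IsIrreducible (closure (ψ '' C)) := (hC.1.image ψ hψ.continuousOn).closure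
    have hZeq : Z = closure (ψ '' C) := subset_antisymm hZz (hZ.2 hirr hZz)
    rw [hZeq]
    exact ⟨C, hC, rfl⟩

variable {S : Scheme.{u}}

theorem main10491 (X : AlgSp.Space S)
    (hX : AlgSp.IsLocNoethSp X.obj) (T : Set (AlgSp.Points X.obj)) (_hT : IsClosed T) :
    LocallyFinite (fun Z : ↥(irreducibleComponents ↥T) =>
      ((↑) : ↥T → AlgSp.Points X.obj) '' (Z : Set ↥T)) := by
  obtain ⟨V, p, hpe, hps, hN⟩ := hX
  haveI : IsLocallyNoetherian V.left := hN
  intro x
  obtain ⟨v, rfl⟩ := Groth.Agent.S10177.surjective_ofPt p hps x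
  obtain ⟨V₁, hV₁, hvV₁, -⟩ := exists_isAffineOpen_mem_and_subset (X := V.left)
    (x := v) (U := ⊤) trivial
  have hNopen : IsOpen (Points.ofPt p '' (V₁ : Set V.left)) :=
    Groth.Agent.S10176.isOpenMap_ofPt p hpe _ V₁.2
  refine ⟨Points.ofPt p '' (V₁ : Set V.left), hNopen.mem_nhds ⟨v, hvV₁, rfl⟩, ?_⟩
  haveI : IsLocallyNoetherian V₁.toScheme := isLocallyNoetherian_of_isOpenImmersion V₁.ι
  haveI : CompactSpace V₁.toScheme := isCompact_iff_compactSpace.1 hV₁.isCompact
  haveI : IsNoetherian V₁.toScheme := {}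
  haveI : TopologicalSpace.NoetherianSpace ↥V₁ :=
    (IsNoetherian.noetherianSpace : TopologicalSpace.NoetherianSpace V₁.toScheme)
  let A : Set ↥V₁ := {w | Points.ofPt p w.1 ∈ T}
  haveI : TopologicalSpace.NoetherianSpace ↥A := TopologicalSpace.NoetherianSpace.set A
  exact finite_irreducibleComponents_meeting T (Points.ofPt p '' (V₁ : Set V.left)) hNopen
    (fun a : ↥A => Points.ofPt p a.1.1)
    ((Points.continuous_ofPt p).comp (continuous_subtype_val.comp continuous_subtype_val))
    (fun a => a.2)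
    (by
      rintro y ⟨hyT, w, hw, rfl⟩
      exact ⟨⟨⟨w, hw⟩, hyT⟩, rfl⟩)
    (TopologicalSpace.NoetherianSpace.finite_irreducibleComponents (α := ↥A))

end Groth.Agent.Lib.Helper9.SpIrrLocFin
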