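import Mathlib
import Groth.Prelude.Def_AlgSpEt
import Groth.Agent.Lib.Helper9SpEt

/-!
# Post-composition with an étale morphism of sheaves on small étale sites is continuous and cocontinuous (helper9)
-/

set_option autoImplicit false
universe u
open CategoryTheory CategoryTheory.Limits AlgebraicGeometry Topology TopologicalSpace
open AlgSp

namespace Groth.Agent.Lib.Helper9.SpPost

variable {S : Scheme.{u}} {X Y : AlgSp.Sp S} (f : X ⟶ Y) (hf : AlgSp.IsEtaleMor f)

lemma postcomp_toScheme :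
    AlgSp.EtOver.postcomp f hf ⋙ AlgSp.EtOver.toScheme Y = AlgSp.EtOver.toScheme X := rfl

instance : (AlgSp.EtOver.toScheme Y).ReflectsIsomorphisms := by
  unfold AlgSp.EtOver.toScheme AlgSp.EtOver.forget
  infer_instance

instance : ReflectsLimitsOfShape WalkingCospan (AlgSp.EtOver.toScheme Y) :=
  reflectsLimitsOfShape_of_reflectsIsomorphisms

instance : PreservesLimitsOfShape WalkingCospan (AlgSp.EtOver.postcomp f hf) := by
  haveI : PreservesLimitsOfShape WalkingCospan
      (AlgSp.EtOver.postcomp f hf ⋙ AlgSp.EtOver.toScheme Y) := by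
    rw [postcomp_toScheme]; infer_instance
  exact preservesLimitsOfShape_of_reflects_of_preserves _ (AlgSp.EtOver.toScheme Y)

theorem isContinuous_postcomp :
    (AlgSp.EtOver.postcomp f hf).IsContinuous (AlgSp.etTop X) (AlgSp.etTop Y) := by
  unfold AlgSp.etTop
  refine Functor.isContinuous_toGrothendieck_of_pullbacksPreservedBy (AlgSp.EtOver.postcomp f hf)
    (AlgSp.etPre X) (AlgSp.etPre Y) ?_
  intro E R hR
  obtain ⟨ι, Z, g, rfl⟩ := R.exists_eq_ofArrows
  rw [Precoverage.mem_comap_iff, Presieve.map_ofArrows]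
  rw [AlgSp.ofArrows_mem_etPre_iff] at hR ⊢
  exact hR


theorem isCocontinuous_postcomp :
    (AlgSp.EtOver.postcomp f hf).IsCocontinuous (AlgSp.etTop X) (AlgSp.etTop Y) := by
  constructor
  intro E T hT
  rw [Groth.Agent.Lib.Helper9.SpEt.mem_etTop_iff] at hT ⊢
  intro x
  obtain ⟨W, g, y, hTg, hy⟩ := hT x
  haveI : Etale g.hom.left.left := AlgSp.EtOver.etale_left g
  let W' : AlgSp.EtOver X := AlgSp.EtOver.mk ((AlgSp.yon S).map g.hom.left ≫ E.obj.hom)
    ((AlgSp.repWith_isMultiplicative (S := S) @Etale).comp_mem _ _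
      ((AlgSp.repWith_yon_map_iff _ _).2 (AlgSp.EtOver.etale_left g)) E.property)
  let g' : W' ⟶ E := AlgSp.EtOver.homMk g.hom.left rfl
  let e : (AlgSp.EtOver.postcomp f hf).obj W' ⟶ W := AlgSp.EtOver.homMk (𝟙 _) (by
    change (AlgSp.yon S).map (𝟙 W.obj.left) ≫ W.obj.hom =
      ((AlgSp.yon S).map g.hom.left ≫ E.obj.hom) ≫ f
    rw [CategoryTheory.Functor.map_id, Category.id_comp]
    exact (AlgSp.EtOver.w g).symm.trans (Category.assoc _ _ _).symm)
  have he : e ≫ g = (AlgSp.EtOver.postcomp f hf).map g' := by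
    apply AlgSp.EtOver.hom_ext
    change 𝟙 _ ≫ g.hom.left = g.hom.left
    exact Category.id_comp _
  refine ⟨W', g', y, ?_, hy⟩
  change T ((AlgSp.EtOver.postcomp f hf).map g')
  rw [← he]
  exact T.downward_closed hTg e

end Groth.Agent.Lib.Helper9.SpPost
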