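import Mathlib
import Groth.Agent.Lib.Helper9SpQfLocus

/-!
# Finiteness of fibres of a fibre product at a quasi-finite point (helper9)
-/

set_option autoImplicit false
set_option linter.style.haveILetI false
set_option backward.isDefEq.respectTransparency false
open CategoryTheory CategoryTheory.Limits AlgebraicGeometry Opposite
universe u

namespace Groth.Agent.Lib.Helper9.SpQfLocus

open AlgSp Groth.Agent.Lib.Helper9.SpPoint Groth.Agent.Lib.Helper9.SpQfAt

variable {S : Scheme.{u}}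

/-- finite type is stable under base change -/
theorem isFiniteTypeMor_of_isPullback {X Y Z W : AlgSp.Space S} (f : X ⟶ Y) (g : Z ⟶ Y)
    (p : W ⟶ X) (q : W ⟶ Z) (hW : IsPullback p.hom q.hom f.hom g.hom)
    (hft : AlgSp.IsFiniteTypeMor f.hom) : AlgSp.IsFiniteTypeMor q.hom := by
  refine ⟨Groth.Agent.S9984.result _ (Or.inl rfl) f g p q hW hft.1, ?_⟩
  intro Z₁ Z₁' hZ₁ hZ₁qc g₁ fst₁ snd₁ pb₁
  exact hft.2 hZ₁ hZ₁qc (g₁ ≫ g.hom) (fst₁ ≫ p.hom) snd₁ (pb₁.paste_horiz hW)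

theorem main10417 {X Y Z W : AlgSp.Space S} (f : X ⟶ Y)
    (g : Z ⟶ Y) (p : W ⟶ X) (q : W ⟶ Z) (hW : IsPullback p.hom q.hom f.hom g.hom)
    (x : AlgSp.Points X.obj) (z : AlgSp.Points Z.obj)
    (hft : AlgSp.IsFiniteTypeMor f.hom)
    (hf : AlgSp.HasAtMor (fun U _ h u => ∃ W : U.Opens, u ∈ W ∧ LocallyQuasiFinite (W.ι ≫ h) ∧
      LocallyOfFiniteType (W.ι ≫ h)) f.hom x) :
    {w : AlgSp.Points W.obj | AlgSp.Points.map p.hom w = x ∧
      AlgSp.Points.map q.hom w = z}.Finite := by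
  have hq := isFiniteTypeMor_of_isPullback f g p q hW hft
  refine (main9995 q hq z).subset ?_
  rintro w ⟨hwx, hwz⟩
  refine ⟨hwz, ?_⟩
  have : w ∈ qfLocus q := by
    rw [hasAtMor_qfNear_baseChange_iff f g p q hW hft.1 w, hwx]
    exact hf
  exact this

end Groth.Agent.Lib.Helper9.SpQfLocus
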