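import Mathlib
import Groth.Agent.Lib.Helper9SpQfLocus
import Groth.Agent.S5341
import Groth.Agent.Lib.Helper3CompDim

/-!
# Fibre of dimension zero at a point ⇒ locally quasi-finite near the image point (helper9)
-/

set_option autoImplicit false
set_option linter.style.haveILetI false
set_option backward.isDefEq.respectTransparency false
open CategoryTheory CategoryTheory.Limits AlgebraicGeometry Opposite
universe u

namespace Groth.Agent.Lib.Helper9.SpQfLocus

open AlgSp Groth.Agent.Lib.Helper9.SpPoint Groth.Agent.Lib.Helper9.ChartIndep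
  Groth.Agent.Lib.Helper9.ChartIndepAt Groth.Agent.Lib.Helper9.SpDimFormula
  Groth.Agent.Lib.Helper9.SpQfAt Groth.Agent.Lib.Helper9.SpBaseChange

variable {S : Scheme.{u}}

theorem main10329 {X Y F : AlgSp.Space S} (f : X ⟶ Y)
    (hf : AlgSp.LocP @LocallyOfFiniteType f.hom) (k : Type u) [Field k]
    (str : Spec (.of k) ⟶ S)
    (y : (AlgSp.yon S).obj (Over.mk str) ⟶ Y.obj) (p : F ⟶ X)
    (q : F.obj ⟶ (AlgSp.yon S).obj (Over.mk str))
    (sq : IsPullback p.hom q f.hom y) (z : AlgSp.Points F.obj)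
    (hz : AlgSp.HasAt (fun U u => FlatMor.localDim ↥U u = 0) F.obj z) :
    ∃ (X' : AlgSp.Space S) (j : X' ⟶ X), AlgSp.RepWith @IsOpenImmersion j.hom ∧
      AlgSp.Points.map p.hom z ∈ Set.range (AlgSp.Points.map j.hom) ∧
      AlgSp.LocP (@LocallyQuasiFinite ⊓ @LocallyOfFiniteType) (j ≫ f).hom := by
  obtain ⟨X', j, hj, hlqf, -, hbc⟩ := main10313 f hf
  refine ⟨X', j, hj, ?_, hlqf⟩
  let Y'' : AlgSp.Space S := ⟨(AlgSp.yon S).obj (Over.mk str), IsAlgSpace.yon_obj _⟩
  let g : Y'' ⟶ Y := ObjectProperty.homMk y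
  let f'' : F ⟶ Y'' := ObjectProperty.homMk q
  have sq' : IsPullback p.hom f''.hom f.hom g.hom := sq
  rw [hbc Y'' F g p f'' sq' z]
  have hq : AlgSp.LocP @LocallyOfFiniteType f''.hom :=
    Groth.Agent.S9984.result _ (Or.inl rfl) f g p f'' sq' hf
  obtain ⟨U, a, u, ha, rfl, hu⟩ := hz
  obtain ⟨h, hh⟩ := (yon S).map_surjective (a ≫ q)
  have hcomm : a ≫ f''.hom = (yon S).map h ≫ 𝟙 _ := by
    rw [Category.comp_id, hh]
    rfl
  have hid : RepWith @Etale (𝟙 ((yon S).obj (Over.mk str))) := repWith_id _ _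
  haveI : LocallyOfFiniteType h.left := hq a (𝟙 _) h ha hid hcomm
  haveI : Subsingleton ↥(Over.mk str).left :=
    Groth.Agent.Lib.Helper3.CompDim.subsingleton_Spec_of_isField (K := CommRingCat.of k)
      (Field.toIsField k)
  refine ⟨U, Over.mk str, a, 𝟙 _, h, u, ha, hid, hcomm, rfl, ?_⟩
  show ∃ W : U.left.Opens, u ∈ W ∧ LocallyQuasiFinite (W.ι ≫ h.left) ∧
    LocallyOfFiniteType (W.ι ≫ h.left)
  rw [qfNear_iff, Groth.Agent.S5341.fibreDimAt_eq_localDim_of_subsingleton, hu]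

end Groth.Agent.Lib.Helper9.SpQfLocus
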