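import Mathlib
import Groth.Agent.Lib.Helper4SchDenseB
import Groth.Agent.Lib.Helper12SchDense
import Groth.Prelude.Def_AlgSpSub
/-!
# helper9: intersection of scheme theoretically dense open subspaces of an algebraic space
`exists_opens_square` (replace an open immersion chart pullback by its open range),
`main9970`.
-/

set_option autoImplicit false
set_option backward.isDefEq.respectTransparency false
universe u
open CategoryTheory CategoryTheory.Limits AlgebraicGeometry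
open AlgSp

namespace Groth.Agent.Lib.Helper9.SpSchDenseInter

/-- a pullback square along a chart whose scheme leg is an open immersion can be replaced by the
square of the inclusion of its open range. -/
theorem exists_opens_square {S : Scheme.{u}} {F G : AlgSp.Sp S} (j : F ⟶ G) {T V₀ : Over S}
    (φ₀ : (AlgSp.yon S).obj V₀ ⟶ G) (t : T ⟶ V₀) [IsOpenImmersion t.left]
    (a : (AlgSp.yon S).obj T ⟶ F) (sqT : IsPullback a ((AlgSp.yon S).map t) j φ₀) :
    ∃ fst' : (AlgSp.yon S).obj (Over.mk (t.left.opensRange.ι ≫ V₀.hom)) ⟶ F,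
      IsPullback fst' ((AlgSp.yon S).map (Over.homMk t.left.opensRange.ι rfl :
        Over.mk (t.left.opensRange.ι ≫ V₀.hom) ⟶ V₀)) j φ₀ := by
  let e : T.left ≅ (t.left.opensRange : Scheme.{u}) := t.left.isoOpensRange
  have he : e.hom ≫ t.left.opensRange.ι = t.left := t.left.isoOpensRange_hom_ι
  let eO : T ≅ Over.mk (t.left.opensRange.ι ≫ V₀.hom) := Over.isoMk e (by
    show e.hom ≫ t.left.opensRange.ι ≫ V₀.hom = T.hom
    rw [← Category.assoc, he, Over.w t])
  have hcomp : eO.hom ≫ (Over.homMk t.left.opensRange.ι rfl :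
      Over.mk (t.left.opensRange.ι ≫ V₀.hom) ⟶ V₀) = t := by
    ext
    exact he
  refine ⟨(AlgSp.yon S).map eO.inv ≫ a, ?_⟩
  refine IsPullback.of_iso sqT ((AlgSp.yon S).mapIso eO) (Iso.refl _) (Iso.refl _) (Iso.refl _)
    ?_ ?_ ?_ ?_
  · simp only [Iso.refl_hom, Category.comp_id, Functor.mapIso_hom]
    rw [← Functor.map_comp_assoc, Iso.hom_inv_id, CategoryTheory.Functor.map_id, Category.id_comp]
  · simp only [Iso.refl_hom, Category.comp_id, Functor.mapIso_hom]
    rw [← Functor.map_comp, hcomp]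
  · simp
  · simp

/-- the intersection of two scheme theoretically dense open subspaces is scheme theoretically
dense. -/
theorem main9970 {S : Scheme.{u}} {U V X P : AlgSp.Space S} (jU : U ⟶ X) (jV : V ⟶ X)
    (hU : AlgSp.IsSchDense jU.hom) (hV : AlgSp.IsSchDense jV.hom) (fst : P ⟶ U) (snd : P ⟶ V)
    (sq : IsPullback fst.hom snd.hom jU.hom jV.hom) : AlgSp.IsSchDense (fst ≫ jU).hom := by
  have hUV := hU
  obtain ⟨hUo, V₀, φ₀, W₀, fst₀, hφe, hφs, sq₀, hW₀⟩ := hU
  -- open immersion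
  have hfst : AlgSp.RepWith @IsOpenImmersion fst.hom :=
    (AlgSp.RepWith @IsOpenImmersion).of_isPullback sq.flip hV.1
  have hcomp : AlgSp.RepWith @IsOpenImmersion (fst ≫ jU).hom :=
    (AlgSp.RepWith @IsOpenImmersion).comp_mem _ _ hfst hUo
  -- the open W₁ of the chart cut out by V
  obtain ⟨T, t, a, sqT⟩ := hV.1.1 φ₀
  haveI : IsOpenImmersion t.left := hV.1.2 _ _ t sqT
  obtain ⟨fst₁, sq₁⟩ := exists_opens_square jV.hom φ₀ t a sqT
  have hW₁ : CInt.IsSchematicallyDense t.left.opensRange :=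
    Groth.Agent.Lib.Helper4.SchDense.schDense_every_chart jV hV V₀ φ₀ hφe _ fst₁ sq₁
  -- the preimage of W₁ in W₀
  obtain ⟨ι₀, hι₀⟩ : ∃ ι₀ : Over.mk (W₀.ι ≫ V₀.hom) ⟶ V₀, ι₀ = Over.homMk W₀.ι rfl := ⟨_, rfl⟩
  rw [← hι₀] at sq₀
  obtain ⟨f, big⟩ := Groth.Agent.Lib.Helper4.SchDense.isPullback_preimage jV.hom ι₀ φ₀
    t.left.opensRange fst₁ sq₁
  rw [← sq₀.w] at big
  -- decompose along P = U ×_X V
  have left : IsPullback (sq.flip.lift f ((AlgSp.yon S).map _ ≫ fst₀) big.w)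
      ((AlgSp.yon S).map (Over.homMk (ι₀.left ⁻¹ᵁ t.left.opensRange).ι rfl :
        Over.mk ((ι₀.left ⁻¹ᵁ t.left.opensRange).ι ≫ (Over.mk (W₀.ι ≫ V₀.hom)).hom) ⟶ _))
      fst.hom fst₀ := by
    refine IsPullback.of_right ?_ (sq.flip.lift_snd _ _ _) sq.flip
    rw [sq.flip.lift_fst]
    exact big
  have outer := left.paste_vert sq₀
  rw [← Functor.map_comp] at outer
  set t' : Over.mk ((ι₀.left ⁻¹ᵁ t.left.opensRange).ι ≫ (Over.mk (W₀.ι ≫ V₀.hom)).hom) ⟶ V₀ :=
    (Over.homMk (ι₀.left ⁻¹ᵁ t.left.opensRange).ι rfl :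
        Over.mk ((ι₀.left ⁻¹ᵁ t.left.opensRange).ι ≫ (Over.mk (W₀.ι ≫ V₀.hom)).hom) ⟶ _) ≫ ι₀
    with ht'
  haveI : IsOpenImmersion t'.left := by
    have : t'.left = (ι₀.left ⁻¹ᵁ t.left.opensRange).ι ≫ ι₀.left := rfl
    rw [this]
    have : IsOpenImmersion ι₀.left := by rw [hι₀]; exact inferInstanceAs (IsOpenImmersion W₀.ι)
    infer_instance
  obtain ⟨fstN, sqN⟩ := exists_opens_square (fst ≫ jU).hom φ₀ t' _ outer
  refine ⟨hcomp, V₀, φ₀, t'.left.opensRange, fstN, hφe, hφs, sqN, ?_⟩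
  have hrange : t'.left.opensRange = W₀ ⊓ t.left.opensRange := by
    subst hι₀
    change ((W₀.ι ⁻¹ᵁ t.left.opensRange).ι ≫ W₀.ι).opensRange = _
    rw [Scheme.Hom.opensRange_comp, Scheme.Opens.opensRange_ι,
      Groth.Agent.Lib.Helper12.SchDense.image_preimage_ι, inf_comm]
  rw [hrange]
  exact Groth.Agent.Lib.Helper4.SchDense.schDense_inf W₀ _ hW₀ hW₁

end Groth.Agent.Lib.Helper9.SpSchDenseInter
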