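import Mathlib
import Groth.Agent.Lib.Helper9ClosedFamDescent
import Groth.Agent.Lib.Helper12EtSmST
import Groth.Agent.Lib.Helper12Proper
import Groth.Agent.S9934
import Groth.Agent.S9874
import Groth.Agent.S10175
import Groth.Agent.S10210
import Groth.Prelude.Def_AlgSpSub

/-!
# Separatedness from an elementary distinguished square (helper9)
-/

set_option autoImplicit false
set_option linter.style.haveILetI false
set_option backward.isDefEq.respectTransparency false
open CategoryTheory CategoryTheory.Limits AlgebraicGeometry Opposite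
universe u

namespace Groth.Agent.Lib.Helper9.SpSepDist

open AlgSp Groth.Agent.Lib.Helper12 Groth.Agent.Lib.Helper9.ClosedFamDescent

variable {S : Scheme.{u}}

/-- the piece `A ×_Y B` of an étale cover of `X ×_Y X` through a point, with the base change of the diagonal -/
theorem exists_piece {X Y : AlgSp.Sp S} (hX : IsAlgSpace X) (hY : IsAlgSpace Y) (g : X ⟶ Y)
    {A B PX PY : AlgSp.Sp S} (hA : IsAlgSpace A) (hB : IsAlgSpace B)
    (α : A ⟶ X) (β : B ⟶ X) (hα : IsEtaleMor α) (hβ : IsEtaleMor β)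
    {pA : PX ⟶ A} {pB : PX ⟶ B} (hPX : IsPullback pA pB α β)
    {qA : PY ⟶ A} {qB : PY ⟶ B} (hPY : IsPullback qA qB (α ≫ g) (β ≫ g))
    (c : PX ⟶ PY) (hcA : c ≫ qA = pA) (hcB : c ≫ qB = pB) (hc : RepWith @IsClosedImmersion c)
    (z : Points (pullback g g)) (a : Points A) (b : Points B)
    (ha : Points.map α a = Points.map (pullback.fst g g) z)
    (hb : Points.map β b = Points.map (pullback.snd g g) z) :
    ∃ (E : AlgSp.Sp S) (_ : IsAlgSpace E) (m : E ⟶ pullback g g) (_ : IsEtaleMor m)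
      (P : AlgSp.Sp S) (fst : P ⟶ X) (snd : P ⟶ E), IsPullback fst snd (pullback.diagonal g) m ∧
        RepWith @IsClosedImmersion snd ∧ z ∈ Set.range (Points.map m) := by
  have hZ : IsAlgSpace (pullback g g) :=
    Groth.Agent.S9874.isAlgSpace_of_isPullback hY.diag hX hX (IsPullback.of_hasPullback g g)
  have hZA : IsAlgSpace (pullback (α ≫ g) g) :=
    Groth.Agent.S9874.isAlgSpace_of_isPullback hY.diag hA hX (IsPullback.of_hasPullback (α ≫ g) g)
  have hPYalg : IsAlgSpace PY :=
    Groth.Agent.S9874.isAlgSpace_of_isPullback hY.diag hA hB hPY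
  -- the two intermediate maps
  obtain ⟨nA, hnA⟩ : ∃ nA : pullback (α ≫ g) g ⟶ pullback g g,
      nA = pullback.lift (pullback.fst (α ≫ g) g ≫ α) (pullback.snd (α ≫ g) g)
        (by rw [Category.assoc, pullback.condition]) := ⟨_, rfl⟩
  have hnA1 : nA ≫ pullback.fst g g = pullback.fst (α ≫ g) g ≫ α := by
    rw [hnA, pullback.lift_fst]
  have hnA2 : nA ≫ pullback.snd g g = pullback.snd (α ≫ g) g := by
    rw [hnA, pullback.lift_snd]
  obtain ⟨r, hr⟩ : ∃ r : PY ⟶ pullback (α ≫ g) g,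
      r = pullback.lift qA (qB ≫ β) (by rw [Category.assoc]; exact hPY.w) := ⟨_, rfl⟩
  have hr1 : r ≫ pullback.fst (α ≫ g) g = qA := by rw [hr, pullback.lift_fst]
  have hr2 : r ≫ pullback.snd (α ≫ g) g = qB ≫ β := by rw [hr, pullback.lift_snd]
  -- the two pullback squares
  have sqi : IsPullback nA (pullback.fst (α ≫ g) g) (pullback.fst g g) α := by
    refine IsPullback.of_right ?_ hnA1 (IsPullback.of_hasPullback g g).flip
    rw [hnA2]
    exact (IsPullback.of_hasPullback (α ≫ g) g).flip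
  have sqii : IsPullback r qB (pullback.snd (α ≫ g) g) β := by
    refine IsPullback.of_right ?_ hr2 (IsPullback.of_hasPullback (α ≫ g) g)
    rw [hr1]
    exact hPY
  have hnAet : IsEtaleMor nA := EtSmST.isEtaleMor_baseChange hA hX hZ sqi.flip hα
  have hret : IsEtaleMor r := EtSmST.isEtaleMor_baseChange hB hX hZA sqii.flip hβ
  have hmet : IsEtaleMor (r ≫ nA) := by
    intro T φ hφ
    rw [← Category.assoc]
    exact hnAet _ (hret φ hφ)
  have hm1 : (r ≫ nA) ≫ pullback.fst g g = qA ≫ α := by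
    rw [Category.assoc, hnA1, ← Category.assoc, hr1]
  have hm2 : (r ≫ nA) ≫ pullback.snd g g = qB ≫ β := by
    rw [Category.assoc, hnA2, hr2]
  refine ⟨PY, hPYalg, r ≫ nA, hmet, PX, pA ≫ α, c,
    isPullback_diagonal_piece g α β hPX hPY c hcA hcB (r ≫ nA) hm1 hm2, hc, ?_⟩
  -- the point
  obtain ⟨zA, hzA1, hzA2⟩ := Groth.Agent.S10175.exists_point_of_isPullback sqi z a ha.symm
  have hzb : Points.map (pullback.snd (α ≫ g) g) zA = Points.map β b := by
    rw [← hnA2, Points.map_comp, hzA1, hb]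
  obtain ⟨e, he1, he2⟩ := Groth.Agent.S10175.exists_point_of_isPullback sqii zA b hzb
  exact ⟨e, by rw [Points.map_comp, he1, hzA1]⟩

/-- the two members of an elementary distinguished square cover the points -/
theorem mem_range_of_isElemDistSq {U V X : AlgSp.Sp S} (j : U ⟶ X) (f : V ⟶ X)
    (hsq : IsElemDistSq j f) (x : Points X) :
    x ∈ Set.range (Points.map j) ∨ x ∈ Set.range (Points.map f) := by
  obtain ⟨-, -, T, P, i, p₁, p₂, ⟨-, hrange, -⟩, hpb, hiso⟩ := hsq
  by_cases hx : x ∈ Set.range (Points.map j)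
  · exact Or.inl hx
  · right
    have hx' : x ∈ Set.range (Points.map i) := by
      rw [hrange]
      exact hx
    obtain ⟨t, rfl⟩ := hx'
    haveI := hiso
    refine ⟨Points.map p₂ (Points.map (inv p₁) t), ?_⟩
    rw [← Points.map_comp, ← Points.map_comp, ← hpb.w, ← Category.assoc,
      IsIso.inv_hom_id, Category.id_comp]

theorem main10698 {U V X Y PX PY QX QY : AlgSp.Space S} (g : X ⟶ Y)
    (j : U ⟶ X) (f : V ⟶ X) (hsq : AlgSp.IsElemDistSq j.hom f.hom)
    (hU : AlgSp.IsSeparatedMor (j ≫ g).hom) (_hV : AlgSp.IsSeparatedMor (f ≫ g).hom)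
    (pX : PX ⟶ U) (qX : PX ⟶ V) (hPX : IsPullback pX.hom qX.hom j.hom f.hom)
    (pY : PY ⟶ U) (qY : PY ⟶ V) (hPY : IsPullback pY.hom qY.hom (j ≫ g).hom (f ≫ g).hom)
    (c : PX ⟶ PY) (hc₁ : c ≫ pY = pX) (hc₂ : c ≫ qY = qX) (hcl : AlgSp.IsClosedMor c.hom)
    (rX₁ rX₂ : QX ⟶ V) (hQX : IsPullback rX₁.hom rX₂.hom f.hom f.hom)
    (rY₁ rY₂ : QY ⟶ V) (hQY : IsPullback rY₁.hom rY₂.hom (f ≫ g).hom (f ≫ g).hom)
    (d : QX ⟶ QY) (hd₁ : d ≫ rY₁ = rX₁) (hd₂ : d ≫ rY₂ = rX₂)
    (hdcl : AlgSp.RepWith @IsClosedImmersion d.hom) : AlgSp.IsSeparatedMor g.hom := by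
  have hZ : IsAlgSpace (pullback g.hom g.hom) :=
    Groth.Agent.S9874.isAlgSpace_of_isPullback Y.property.diag X.property X.property
      (IsPullback.of_hasPullback g.hom g.hom)
  have hjet : IsEtaleMor j.hom := fun T φ hφ =>
    (RepWith (S := S) @Etale).comp_mem _ _ hφ
      (Groth.Agent.S10210.repWith_etale_of_isOpenImmersion hsq.1)
  have hfet : IsEtaleMor f.hom := hsq.2.1
  have hc₁' : c.hom ≫ pY.hom = pX.hom := congrArg (fun t => t.hom) hc₁
  have hc₂' : c.hom ≫ qY.hom = qX.hom := congrArg (fun t => t.hom) hc₂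
  have hd₁' : d.hom ≫ rY₁.hom = rX₁.hom := congrArg (fun t => t.hom) hd₁
  have hd₂' : d.hom ≫ rY₂.hom = rX₂.hom := congrArg (fun t => t.hom) hd₂
  have hPY' : IsPullback pY.hom qY.hom (j.hom ≫ g.hom) (f.hom ≫ g.hom) := hPY
  have hQY' : IsPullback rY₁.hom rY₂.hom (f.hom ≫ g.hom) (f.hom ≫ g.hom) := hQY
  have hU' : RepWith @IsClosedImmersion (pullback.diagonal (j.hom ≫ g.hom)) := hU
  -- `c` is a closed immersion
  have hqYsep : IsSeparatedMor qY.hom := Groth.Agent.Lib.Helper12.Proper.isSeparatedMor_baseChange hPY' hU'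
  have hqXopen : RepWith @IsOpenImmersion (c.hom ≫ qY.hom) := by
    rw [hc₂']
    exact MorphismProperty.of_isPullback (P := RepWith @IsOpenImmersion) hPX hsq.1
  have hcimm : RepWith @IsImmersion c.hom :=
    repWith_isImmersion_of_section qY.hom c.hom hqYsep hqXopen
  have hccl : RepWith @IsClosedImmersion c.hom :=
    (Groth.Agent.S9934.result c hcimm).2 hcl.isClosed_range
  -- `U ×_X U = U`
  haveI : Mono j.hom := Groth.Agent.S9928.mono_of_repWith @IsOpenImmersion
    (fun X Y g hg => by haveI : IsOpenImmersion g := hg; infer_instance) j.hom hsq.1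
  have hUU : IsPullback (𝟙 U.obj) (𝟙 U.obj) j.hom j.hom := IsKernelPair.id_of_mono j.hom
  change RepWith @IsClosedImmersion (pullback.diagonal g.hom)
  apply repWith_isClosedImmersion_of_pieces hZ
  intro z
  rcases mem_range_of_isElemDistSq j.hom f.hom hsq (Points.map (pullback.fst g.hom g.hom) z) with
    ⟨a, ha⟩ | ⟨a, ha⟩ <;>
  rcases mem_range_of_isElemDistSq j.hom f.hom hsq (Points.map (pullback.snd g.hom g.hom) z) with
    ⟨b, hb⟩ | ⟨b, hb⟩
  · exact exists_piece X.property Y.property g.hom U.property U.property j.hom j.hom hjet hjet hUU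
      (IsPullback.of_hasPullback (j.hom ≫ g.hom) (j.hom ≫ g.hom))
      (pullback.diagonal (j.hom ≫ g.hom)) (pullback.diagonal_fst _) (pullback.diagonal_snd _) hU'
      z a b ha hb
  · exact exists_piece X.property Y.property g.hom U.property V.property j.hom f.hom hjet hfet hPX
      hPY' c.hom hc₁' hc₂' hccl z a b ha hb
  · exact exists_piece X.property Y.property g.hom V.property U.property f.hom j.hom hfet hjet
      hPX.flip hPY'.flip c.hom hc₂' hc₁' hccl z a b ha hb
  · exact exists_piece X.property Y.property g.hom V.property V.property f.hom f.hom hfet hfet hQX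
      hQY' d.hom hd₁' hd₂' hdcl z a b ha hb

end Groth.Agent.Lib.Helper9.SpSepDist
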