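import Mathlib
import Groth.Agent.Lib.Helper12ThickTransfer
import Groth.Agent.Lib.Helper15DiagApps
import Groth.Agent.S10280

/-!
# Morphisms of thickenings of algebraic spaces: the diagonals (helper9)
-/

set_option autoImplicit false
set_option linter.style.haveILetI false
open CategoryTheory CategoryTheory.Limits AlgebraicGeometry Opposite
universe u

namespace Groth.Agent.Lib.Helper9.SpThickSep

open AlgSp Groth.Agent.Lib.Helper12.ThickTransfer Groth.Agent.Lib.Helper12.InfNbhdUniv

variable {S : Scheme.{u}}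

instance thick_isMultiplicative : MorphismProperty.IsMultiplicative (AlgSp.thick.{u}) where
  id_mem X := ⟨inferInstance, inferInstance⟩
  comp_mem f g hf hg := by
    haveI := hf.1
    haveI := hf.2
    haveI := hg.1
    haveI := hg.2
    exact ⟨inferInstance, inferInstance⟩

/-- for a morphism of thickenings `(f, f')`, the induced map of the fibre squares
`X ×_Y X ⟶ X' ×_{Y'} X'` is a thickening compatible with the diagonals -/
theorem exists_thick_diag {X X' Y Y' : AlgSp.Sp S} (i : X ⟶ X') (j : Y ⟶ Y') (f : X ⟶ Y)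
    (f' : X' ⟶ Y') (hi : AlgSp.IsThickMor i) [Mono j] (w : i ≫ f' = f ≫ j) :
    ∃ t : pullback f f ⟶ pullback f' f', AlgSp.IsThickMor t ∧
      i ≫ pullback.diagonal f' = pullback.diagonal f ≫ t := by
  have sqP : IsPullback (pullback.fst f f) (pullback.snd f f) (i ≫ f') (i ≫ f') := by
    have := isPullback_comp_mono j (IsPullback.of_hasPullback f f)
    rwa [← w] at this
  have sqQ := IsPullback.of_hasPullback (i ≫ f') f'
  have sqP' := IsPullback.of_hasPullback f' f'
  -- `r : P ⟶ Q`
  have hrw : pullback.fst f f ≫ i ≫ f' = (pullback.snd f f ≫ i) ≫ f' := by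
    rw [Category.assoc]
    exact sqP.w
  obtain ⟨r, hr1, hr2⟩ : ∃ r : pullback f f ⟶ pullback (i ≫ f') f',
      r ≫ pullback.fst (i ≫ f') f' = pullback.fst f f ∧
      r ≫ pullback.snd (i ≫ f') f' = pullback.snd f f ≫ i :=
    ⟨pullback.lift _ _ hrw, pullback.lift_fst _ _ _, pullback.lift_snd _ _ _⟩
  have sqr : IsPullback r (pullback.snd f f) (pullback.snd (i ≫ f') f') i := by
    refine IsPullback.of_right ?_ hr2 sqQ
    rw [hr1]
    exact sqP
  have htr : AlgSp.IsThickMor r :=
    MorphismProperty.of_isPullback (P := AlgSp.RepWith AlgSp.thick) sqr.flip hi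
  -- `q : Q ⟶ P'`
  have hqw : (pullback.fst (i ≫ f') f' ≫ i) ≫ f' = pullback.snd (i ≫ f') f' ≫ f' := by
    rw [Category.assoc]
    exact sqQ.w
  obtain ⟨q, hq1, hq2⟩ : ∃ q : pullback (i ≫ f') f' ⟶ pullback f' f',
      q ≫ pullback.fst f' f' = pullback.fst (i ≫ f') f' ≫ i ∧
      q ≫ pullback.snd f' f' = pullback.snd (i ≫ f') f' :=
    ⟨pullback.lift _ _ hqw, pullback.lift_fst _ _ _, pullback.lift_snd _ _ _⟩
  have sqq : IsPullback q (pullback.fst (i ≫ f') f') (pullback.fst f' f') i := by
    refine IsPullback.of_right ?_ hq1 sqP'.flip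
    rw [hq2]
    exact sqQ.flip
  have htq : AlgSp.IsThickMor q :=
    MorphismProperty.of_isPullback (P := AlgSp.RepWith AlgSp.thick) sqq.flip hi
  refine ⟨r ≫ q, (repWith_isMultiplicative (S := S) AlgSp.thick).comp_mem _ _ htr htq, ?_⟩
  apply pullback.hom_ext
  · simp only [Category.assoc, pullback.diagonal_fst, Category.comp_id, hq1]
    rw [← Category.assoc r, hr1, ← Category.assoc, pullback.diagonal_fst, Category.id_comp]
  · simp only [Category.assoc, pullback.diagonal_snd, Category.comp_id, hq2, hr2]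
    rw [← Category.assoc, pullback.diagonal_snd, Category.id_comp]

theorem main10589 {X X' Y Y' : AlgSp.Space S} (i : X ⟶ X') (j : Y ⟶ Y')
    (f : X ⟶ Y) (f' : X' ⟶ Y')
    (hi : AlgSp.IsThickMor i.hom)
    (hj : AlgSp.IsThickMor j.hom) (w : i ≫ f' = f ≫ j) :
    (AlgSp.IsSeparatedMor f.hom ↔ AlgSp.IsSeparatedMor f'.hom) ∧
    (AlgSp.IsQuasiSeparatedMor f.hom ↔ AlgSp.IsQuasiSeparatedMor f'.hom) := by
  have w0 : i.hom ≫ f'.hom = f.hom ≫ j.hom := congrArg (·.hom) w
  haveI : Mono j.hom := mono_of_thick j.hom hj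
  obtain ⟨t, ht, hw⟩ := exists_thick_diag i.hom j.hom f.hom f'.hom hi w0
  have hP := Groth.Agent.Lib.Helper15DiagApps.isAlgSpace_pullback_self f
  have hP' := Groth.Agent.Lib.Helper15DiagApps.isAlgSpace_pullback_self f'
  constructor
  · rw [(Groth.Agent.S10280.result f).1, (Groth.Agent.S10280.result f').1]
    exact univSp_iff i.hom t _ _ X.property X'.property hP hP' hi ht hw _ thickInv_closed
  · rw [Groth.Agent.Lib.Helper15DiagApps.isQuasiSeparatedMor_iff_qc_diagonal f,
      Groth.Agent.Lib.Helper15DiagApps.isQuasiSeparatedMor_iff_qc_diagonal f',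
      isQuasiCompactMor_iff_univSp, isQuasiCompactMor_iff_univSp]
    exact univSp_iff i.hom t _ _ X.property X'.property hP hP' hi ht hw _ thickInv_qc

end Groth.Agent.Lib.Helper9.SpThickSep
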