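import Mathlib
import Groth.Agent.Lib.Helper9TFColim

/-!
# Coherent objects of an algebraic topos: cohomology commutes with filtered colimits (helper9)
-/

set_option autoImplicit false
set_option linter.unusedSectionVars false
universe u
open CategoryTheory CategoryTheory.Limits Opposite Abelian

namespace Groth.Agent.Lib.Helper9.TFCoh

open Groth.Agent.S12106 ToposFin
open Groth.Agent.Lib.Helper9 Groth.Agent.Lib.Helper9.TFCartan Groth.Agent.Lib.Helper9.TFNerve
  Groth.Agent.Lib.Helper9.TFColim

variable {C : Type u} [SmallCategory C] {J : GrothendieckTopology C}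

theorem hasQCGenerators_of_isAlgebraic (hE : IsAlgebraic J) : HasQCGenerators J :=
  hasQCGenerators_iff.2 (IsAlgebraic.coveredBy_isQC hE)

/-- epimorphisms onto quasi-compact objects are refined by coherent objects -/
theorem exists_coherent_refinement (hE : IsAlgebraic J) {K P : Sh J} (g : P ⟶ K) (hK : IsQC K)
    (hg : Epi g) : ∃ (K' : Sh J) (h : K' ⟶ P), IsCoherent K' ∧ Epi (h ≫ g) := by
  have hj : JEpi (fun _ : PUnit.{u + 1} => g) := fun Z a b hab => (cancel_epi g).1 (hab PUnit.unit)
  obtain ⟨κ, hκ, A', π, idx, α, hπ, hA', hα⟩ :=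
    exists_finite_refinement (IsAlgebraic.coveredBy_isCoherent hE) hK (𝟙 K)
      (fun _ : PUnit.{u + 1} => g) hj
  refine ⟨∐ A', Limits.Sigma.desc α, ⟨?_, ?_⟩, ?_⟩
  · exact isQC_of_finite_cofan (Cofan.mk _ (Sigma.ι A')) (coproductIsCoproduct A')
      (fun k => (hA' k).1)
  · exact isQS_cofan (Cofan.mk _ (Sigma.ι A')) (coproductIsCoproduct A') (fun k => (hA' k).2)
  · have h1 : Limits.Sigma.desc α ≫ g = Limits.Sigma.desc π := by
      apply Limits.Sigma.hom_ext
      intro k
      rw [Limits.Sigma.ι_desc_assoc, Limits.Sigma.ι_desc]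
      exact (hα k).trans (Category.comp_id _)
    rw [h1]
    exact (jEpi_iff_epi_desc π).1 hπ

/-- the class of coherent objects of an algebraic topos -/
theorem colimData_coherent (hE : IsAlgebraic J) :
    ColimData J (IsCoherent (J := J)) (IsCoherent (J := J)) where
  nerve := fun f hK hK' n =>
    cechNerve_mem IsCoherent (fun e h => IsCoherent.of_iso h e) f hK'
      (fun a hY => isCoherent_pullback hE a f hY hK' hK.2) n
  refine := fun g hK hg => exists_coherent_refinement hE g hK.1 hg
  le := fun _ h => h
  trans := fun _ _ h X hX => h X hX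
  good := fun X hX _ _ _ _ c hc =>
    goodHom_Φ X c (goodHomE_of_isCoherent (hasQCGenerators_of_isAlgebraic hE) hX _
      (isColimitOfPreserves (Uf J) hc))

/-- SGA 4 VI 5.1: `H^q(K, -)` commutes with filtered colimits for `K` coherent in an algebraic
topos. -/
theorem preservesColimitsOfShape_ext_coherent (hE : IsAlgebraic J) (K : Sh J) (hK : IsCoherent K)
    (Λ : Type u) [SmallCategory Λ] [IsFiltered Λ] (q : ℕ) :
    PreservesColimitsOfShape Λ ((extFunctor.{u} q).obj (op ((Φ J).obj K))) :=
  preservesColimitsOfShape_ext J (colimData_coherent hE) K hK Λ q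

end Groth.Agent.Lib.Helper9.TFCoh
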