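import Groth.Agent.Lib.Helper9TFTop
import Groth.Agent.Lib.Helper9ExtFive
set_option autoImplicit false
set_option linter.style.haveILetI false
open CategoryTheory CategoryTheory.Limits Opposite Abelian
universe u
open ToposFin
open Groth.Agent.S12106 Groth.Agent.Lib.Helper16.FiltColim

namespace Groth.Agent.Lib.Helper9.TFHZ

variable {C : Type u} [SmallCategory C] (J : GrothendieckTopology C)

instance freeAb_preservesMonomorphisms : (freeAb J).PreservesMonomorphisms where
  preserves {X Y} f hf := by
    haveI : Mono ((sheafToPresheaf J (Type u)).map f) := inferInstance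
    haveI : ∀ V, Mono (((sheafToPresheaf J (Type u)).map f).app V) := fun V => inferInstance
    haveI : Mono (((Functor.whiskeringRight Cᵒᵖ _ _).obj AddCommGrpCat.free.{u}).map
        ((sheafToPresheaf J (Type u)).map f)) := by
      apply NatTrans.mono_of_mono_app
    exact (presheafToSheaf J AddCommGrpCat.{u}).map_mono _

/-- the short exact sequence `0 → ℤ[U] → ℤ[e] → ℤ/ℤ_U → 0` -/
noncomputable def sesU (U : Sh J) : ShortComplex (Sheaf J AddCommGrpCat.{u}) :=
  ShortComplex.mk ((freeAb J).map (terminal.from U)) (cokernel.π _) (cokernel.condition _)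

lemma sesU_shortExact (U : Sh J) [Mono (terminal.from U)] : (sesU J U).ShortExact := by
  haveI : Mono (sesU J U).f := by
    change Mono ((freeAb J).map (terminal.from U))
    infer_instance
  haveI : Epi (sesU J U).g := by
    change Epi (cokernel.π ((freeAb J).map (terminal.from U)))
    exact coequalizer.π_epi
  exact { exact := ShortComplex.exact_cokernel _ }

theorem preservesColimitsOfShape_HZ (hE : ToposFin.IsAlgebraic J)
    (hT : ToposFin.IsCoherent (⊤_ (ToposFin.Sh J)))
    (U : ToposFin.Sh J) [Mono (terminal.from U)] (hU : ToposFin.IsCoherent U)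
    (Λ : Type u) [SmallCategory Λ] [IsFiltered Λ] (q : ℕ) :
    PreservesColimitsOfShape Λ (ToposFin.HZFunctor U q) := by
  constructor
  intro F
  have g1 : ∀ n, GoodExt.{u} (sesU J U).X₁ n (colimit.cocone F) := fun n =>
    Groth.Agent.Lib.Helper9.TFColim.goodExt_main J (Groth.Agent.Lib.Helper9.TFCoh.colimData_coherent hE) n U hU Λ F
  have g2 : ∀ n, GoodExt.{u} (sesU J U).X₂ n (colimit.cocone F) := fun n =>
    Groth.Agent.Lib.Helper9.TFColim.goodExt_main J (Groth.Agent.Lib.Helper9.TFCoh.colimData_coherent hE) n (⊤_ _) hT Λ F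
  have hg := Groth.Agent.Lib.Helper9.ExtFive.goodExt_X₃ (sesU_shortExact J U) (colimit.cocone F) g1 g2 q
  refine preservesColimit_of_preserves_colimit_cocone (colimit.isColimit F) (isColimitOfGood ?_)
  constructor
  · intro x
    obtain ⟨i, y, hy⟩ := hg.surj x
    exact ⟨i, y, hy⟩
  · intro i y hy
    exact hg.inj i y hy

end Groth.Agent.Lib.Helper9.TFHZ
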