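import Groth.Agent.Lib.Helper9TFCoh
import Groth.Agent.S0882
set_option autoImplicit false
set_option linter.style.haveILetI false
open CategoryTheory CategoryTheory.Limits Opposite Abelian
universe u
open ToposFin
open Groth.Agent.S12106

namespace Groth.Agent.Lib.Helper9.TFRpush

variable {C : Type u} [SmallCategory C] (J : GrothendieckTopology C)

/-- `ℤ[ε X]` is the sheafification of the free abelian presheaf on the representable presheaf -/
noncomputable def freeEpsIso (X : C) :
    (Φ J).obj (eps J X) ≅ (presheafToSheaf J AddCommGrpCat.{u}).obj (yoneda.obj X ⋙ AddCommGrpCat.free.{u}) :=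
  (presheafToSheafCompComposeAndSheafifyIso J AddCommGrpCat.free.{u}).app (yoneda.obj X)

/-- `H^q(X, -)` of the site is `H^q(ε X, -)` of the topos -/
noncomputable def cohomologyPresheafFunctorIso (X : C) (q : ℕ) :
    (Sheaf.cohomologyPresheafFunctor.{u} J q).flip.obj (op X) ≅ HKFunctor (eps J X) q :=
  (NatIso.ofComponents (fun F => Iso.refl _) (by intro F G f; rfl) :
    (Sheaf.cohomologyPresheafFunctor.{u} J q).flip.obj (op X) ≅
      (extFunctor.{u} q).obj (op ((presheafToSheaf J AddCommGrpCat.{u}).obj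
        (yoneda.obj X ⋙ AddCommGrpCat.free.{u})))) ≪≫
    (extFunctor.{u} q).mapIso (freeEpsIso J X).op

theorem preservesColimitsOfShape_Rpush {D : Type u} [SmallCategory D] (K : GrothendieckTopology D)
    (hE : ToposFin.IsAlgebraic J)
    (u : D ⥤ C) [u.IsContinuous K J] (hu : ∀ V : D, ToposFin.IsCoherent (ToposFin.eps J (u.obj V)))
    (Λ : Type u) [SmallCategory Λ] [IsFiltered Λ] (q : ℕ) :
    PreservesColimitsOfShape Λ (CohSite.Rpush J K u q) := by
  constructor
  intro F
  apply Groth.Agent.S0882.result J K u F q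
  intro V
  refine ⟨PUnit, fun _ => V, fun _ => 𝟙 V, ?_, fun _ => ?_⟩
  · have : Sieve.ofArrows (fun _ : PUnit.{u+1} => V) (fun _ => 𝟙 V) = ⊤ := by
      rw [← Sieve.id_mem_iff_eq_top]
      exact ⟨V, 𝟙 V, 𝟙 V, Presieve.ofArrows.mk PUnit.unit, by simp⟩
    rw [this]
    exact K.top_mem V
  · have h : PreservesColimitsOfShape Λ (HKFunctor (eps J (u.obj V)) q) :=
      Groth.Agent.Lib.Helper9.TFCoh.preservesColimitsOfShape_ext_coherent hE _ (hu V) Λ q
    haveI : PreservesColimit F (HKFunctor (eps J (u.obj V)) q) := inferInstance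
    exact preservesColimit_of_natIso F (cohomologyPresheafFunctorIso J (u.obj V) q).symm

end Groth.Agent.Lib.Helper9.TFRpush
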