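import Groth.Agent.Lib.Helper9TFCoh

/-!
# S-acyclic sheaves in a locally coherent topos and filtered colimits (helper9)
-/

set_option autoImplicit false
set_option linter.style.haveILetI false
set_option linter.unusedSectionVars false
universe u
open CategoryTheory CategoryTheory.Limits Opposite Abelian

namespace Groth.Agent.Lib.Helper9.TFSAcyc

open Groth.Agent.S12106 ToposFin
open Groth.Agent.Lib.Helper9 Groth.Agent.Lib.Helper9.TFCartan Groth.Agent.Lib.Helper9.TFNerve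
  Groth.Agent.Lib.Helper9.TFColim

variable {C : Type u} [SmallCategory C] {J : GrothendieckTopology C}

/-- iso-closure of `S` -/
def Sbar (S : Set (Sh J)) (X : Sh J) : Prop := ∃ K ∈ S, Nonempty (X ≅ K)

/-- closure of `S` under isomorphisms and finite coproducts -/
inductive Splus (S : Set (Sh J)) : Sh J → Prop
  | of {X : Sh J} (h : Sbar S X) : Splus S X
  | coprod {κ : Type u} [Finite κ] {A : κ → Sh J} {X : Sh J} (ι : ∀ k, A k ⟶ X)
      (hc : Nonempty (IsColimit (Cofan.mk X ι))) (h : ∀ k, Splus S (A k)) : Splus S X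

variable {S : Set (Sh J)}

lemma Sbar.of_iso {X Y : Sh J} (e : X ≅ Y) (h : Sbar S X) : Sbar S Y := by
  obtain ⟨K, hK, ⟨e'⟩⟩ := h
  exact ⟨K, hK, ⟨e.symm ≪≫ e'⟩⟩

lemma Splus.of_iso {X Y : Sh J} (e : X ≅ Y) (h : Splus S X) : Splus S Y := by
  cases h with
  | of h => exact Splus.of (h.of_iso e)
  | coprod ι hc h =>
    obtain ⟨hc⟩ := hc
    refine Splus.coprod (fun k => ι k ≫ e.hom) ⟨?_⟩ h
    exact IsColimit.ofIsoColimit hc (Cocone.ext e (by rintro ⟨k⟩; rfl))

section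
variable (hqc : ∀ K ∈ S, IsQC K) (hgen : IsGenerating S) (hpb : ClosedUnderPullbacks S)
include hqc hgen hpb

lemma Sbar.isCoherent {X : Sh J} (h : Sbar S X) : IsCoherent X := by
  obtain ⟨K, hK, ⟨e⟩⟩ := h
  exact IsCoherent.of_iso (isCoherent_of_mem hqc hgen hpb hK) e.symm

lemma Splus.isCoherent {X : Sh J} (h : Splus S X) : IsCoherent X := by
  induction h with
  | of h => exact h.isCoherent hqc hgen hpb
  | coprod ι hc _ ih =>
    obtain ⟨hc⟩ := hc
    exact ⟨isQC_of_finite_cofan (Cofan.mk _ ι) hc (fun k => (ih k).1),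
      isQS_cofan (Cofan.mk _ ι) hc (fun k => (ih k).2)⟩

omit hqc hgen in
lemma sbar_pullback {Y K' K : Sh J} (a : Y ⟶ K) (f : K' ⟶ K) (hY : Sbar S Y) (hK' : Sbar S K')
    (hK : Sbar S K) : Sbar S (pullback a f) := by
  obtain ⟨Y₀, hY₀, ⟨eY⟩⟩ := hY
  obtain ⟨K'₀, hK'₀, ⟨eK'⟩⟩ := hK'
  obtain ⟨K₀, hK₀, ⟨eK⟩⟩ := hK
  obtain ⟨P, p, q, hP, hpq⟩ := hpb (eY.inv ≫ a ≫ eK.hom) (eK'.inv ≫ f ≫ eK.hom) hY₀ hK'₀ hK₀
  have h2 : IsPullback (p ≫ eY.inv) (q ≫ eK'.inv) a f :=
    IsPullback.of_iso hpq (Iso.refl P) eY.symm eK'.symm eK.symm (by simp) (by simp)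
      (by simp) (by simp)
  exact ⟨P, hP, ⟨h2.isoPullback.symm⟩⟩

omit hqc hgen in
lemma splus_pullback {K : Sh J} (hK : Sbar S K) : ∀ {Y : Sh J}, Splus S Y →
    ∀ (a : Y ⟶ K) {K' : Sh J} (f : K' ⟶ K), Splus S K' → Splus S (pullback a f) := by
  intro Y hY
  induction hY with
  | @of Y hY =>
    intro a K' f hK'
    induction hK' with
    | @of K' hK' => exact Splus.of (sbar_pullback hpb a f hY hK' hK)
    | @coprod κ _ A K' ι hc _ ih =>
      obtain ⟨hc⟩ := hc
      refine Splus.coprod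
        (fun k => (pullback.lift (pullback.fst a (ι k ≫ f)) (pullback.snd a (ι k ≫ f) ≫ ι k)
          (by simp [pullback.condition]) : pullback a (ι k ≫ f) ⟶ pullback a f))
        (sheaf_cofan_pullback (Cofan.mk K' ι) hc (pullback.snd a f)
          (fun k => pullback.snd a (ι k ≫ f)) _ (fun k => isPullback_lift_snd a f (ι k)))
        (fun k => ih k (ι k ≫ f))
  | @coprod κ _ A Y ι hc _ ih =>
    intro a K' f hK'
    obtain ⟨hc⟩ := hc
    refine Splus.coprod
      (fun k => (pullback.lift (pullback.fst (ι k ≫ a) f ≫ ι k) (pullback.snd (ι k ≫ a) f)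
        (by simp [pullback.condition]) : pullback (ι k ≫ a) f ⟶ pullback a f))
      (sheaf_cofan_pullback (Cofan.mk Y ι) hc (pullback.fst a f)
        (fun k => pullback.fst (ι k ≫ a) f) _ (fun k => isPullback_lift_fst (ι k) a f))
      (fun k => ih k (ι k ≫ a) f hK')

omit hpb in
lemma exists_splus_refinement {K P : Sh J} (g : P ⟶ K) (hK : IsQC K)
    (hg : Epi g) : ∃ (K' : Sh J) (h : K' ⟶ P), Splus S K' ∧ Epi (h ≫ g) := by
  have hj : JEpi (fun _ : PUnit.{u + 1} => g) := fun Z a b hab => (cancel_epi g).1 (hab PUnit.unit)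
  obtain ⟨κ, hκ, A', π, idx, α, hπ, hA', hα⟩ :=
    exists_finite_refinement ((isGenerating_iff S).1 hgen) hK (𝟙 K)
      (fun _ : PUnit.{u + 1} => g) hj
  refine ⟨∐ A', Limits.Sigma.desc α, ?_, ?_⟩
  · exact Splus.coprod (Sigma.ι A') ⟨coproductIsCoproduct A'⟩
      (fun k => Splus.of ⟨A' k, hA' k, ⟨Iso.refl _⟩⟩)
  · have h1 : Limits.Sigma.desc α ≫ g = Limits.Sigma.desc π := by
      apply Limits.Sigma.hom_ext
      intro k
      rw [Limits.Sigma.ι_desc_assoc, Limits.Sigma.ι_desc]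
      exact (hα k).trans (Category.comp_id _)
    rw [h1]
    exact (jEpi_iff_epi_desc π).1 hπ

end

/-- the free abelian sheaf of a colimit cofan -/
noncomputable def isColimitΦ {κ : Type u} {A : κ → Sh J} {X : Sh J} (ι : ∀ k, A k ⟶ X)
    (hc : IsColimit (Cofan.mk X ι)) :
    IsColimit (Cofan.mk ((Φ J).obj X) (fun k => (Φ J).map (ι k))) :=
  isColimitMapCoconeCofanMkEquiv (Φ J) _ _ (isColimitOfPreserves (Φ J) hc)

lemma lifts_splus (T : ShortComplex (Sheaf J AddCommGrpCat.{u}))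
    (h : ∀ K, Sbar S K → Lifts J T K) : ∀ X, Splus S X → Lifts J T X := by
  intro X hX
  induction hX with
  | of hX => exact h _ hX
  | @coprod κ _ A X ι hc _ ih =>
    obtain ⟨hc⟩ := hc
    intro s
    have hc' := isColimitΦ ι hc
    choose r hr using fun k => ih k ((Φ J).map (ι k) ≫ s)
    refine ⟨Cofan.IsColimit.desc hc' r, ?_⟩
    refine Cofan.IsColimit.hom_ext hc' _ _ (fun k => ?_)
    rw [Cofan.IsColimit.fac_assoc]
    exact hr k

lemma ext_eq_zero_splus (F : Sheaf J AddCommGrpCat.{u})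
    (hF : ∀ K ∈ S, ∀ (p : ℕ) (x : Ext.{u} ((Φ J).obj K) F (p + 1)), x = 0) :
    ∀ X, Splus S X → ∀ (p : ℕ) (x : Ext.{u} ((Φ J).obj X) F (p + 1)), x = 0 := by
  intro X hX
  induction hX with
  | @of X hX =>
    intro p x
    obtain ⟨K, hK, ⟨e⟩⟩ := hX
    have h1 : x = (Ext.mk₀ ((Φ J).map e.hom)).comp ((Ext.mk₀ ((Φ J).map e.inv)).comp x (zero_add _))
        (zero_add _) := by
      rw [← Ext.comp_assoc (Ext.mk₀ ((Φ J).map e.hom)) (Ext.mk₀ ((Φ J).map e.inv)) x
        (zero_add 0) (zero_add (p + 1)) (by omega), Ext.mk₀_comp_mk₀, ← Functor.map_comp,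
        e.hom_inv_id, CategoryTheory.Functor.map_id, Ext.mk₀_id_comp]
    rw [h1, hF K hK p ((Ext.mk₀ ((Φ J).map e.inv)).comp x (zero_add _)), Ext.comp_zero]
  | @coprod κ _ A X ι hc _ ih =>
    intro p x
    obtain ⟨hc⟩ := hc
    haveI := Fintype.ofFinite κ
    have hc' := isColimitΦ ι hc
    let e := Ext.biproductAddEquiv (biconeIsBilimitOfColimitCoconeOfIsColimit hc') F (p + 1)
    apply e.injective
    funext k
    exact (ih k p _).trans (ih k p _).symm

section
variable (hqc : ∀ K ∈ S, IsQC K) (hgen : IsGenerating S) (hpb : ClosedUnderPullbacks S)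
include hqc hgen hpb

theorem colimData : ColimData J (Sbar S) (Splus S) where
  nerve := fun f hK hK' n =>
    cechNerve_mem (Splus S) (fun e h => Splus.of_iso e h) f hK'
      (fun a hY => splus_pullback hpb hK hY a f hK') n
  refine := fun g hK hg => exists_splus_refinement hqc hgen g (hK.isCoherent hqc hgen hpb).1 hg
  le := fun _ h => Splus.of h
  trans := fun T _ h X hX => lifts_splus T h X hX
  good := fun X hX _ _ _ _ c hc =>
    goodHom_Φ X c (goodHomE_of_isCoherent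
      (hasQCGenerators_iff.2 (((isGenerating_iff S).1 hgen).mono hqc))
      (hX.isCoherent hqc hgen hpb) _ (isColimitOfPreserves (Uf J) hc))

/-- SGA 4 VI 5.2-type statement: a filtered colimit of `S`-acyclic sheaves is `S`-acyclic. -/
theorem ext_colimit_eq_zero_of_acyclic {Λ : Type u} [SmallCategory Λ] [IsFiltered Λ]
    (D : Λ ⥤ Sheaf J AddCommGrpCat.{u})
    (hD : ∀ (i : Λ) (K : Sh J), K ∈ S → ∀ (q : ℕ) (x : Ext.{u} ((Φ J).obj K) (D.obj i) (q + 1)), x = 0)
    (K : Sh J) (hK : K ∈ S) (q : ℕ) (x : Ext.{u} ((Φ J).obj K) (colimit D) (q + 1)) : x = 0 := by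
  have H := colimData hqc hgen hpb
  have hD' : ∀ i, PPrel J (Sbar S) (Splus S) (D.obj i) := by
    intro i K' K f hf hK hK'
    haveI := hf
    exact cechAcyc_of_coAcyc J f (D.obj i)
      (fun p x => ext_eq_zero_splus (D.obj i) (hD i) K (Splus.of hK) p x)
      (fun n p x => ext_eq_zero_splus (D.obj i) (hD i) _ (H.nerve f hK hK' n) p x)
  exact ext_colimit_eq_zero J H D (colimit.cocone D) (colimit.isColimit D) hD' K
    ⟨K, hK, ⟨Iso.refl _⟩⟩ q x

end

end Groth.Agent.Lib.Helper9.TFSAcyc
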