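import Mathlib
import Groth.Agent.Lib.Helper15FpqcRepWith
import Groth.Agent.Lib.Helper12Descent
import Groth.Prelude.Def_AlgSpInf
/-!
# helper9: thickenings of algebraic spaces are fpqc local on the base
-/

set_option autoImplicit false
set_option backward.isDefEq.respectTransparency false
universe u
open CategoryTheory CategoryTheory.Limits AlgebraicGeometry MorphismProperty
open AlgSp

namespace Groth.Agent.Lib.Helper9.ThickFpqc

theorem main10605 {S : Scheme.{u}} :
    AlgSp.IsLocalOnBase (S := S) AlgSp.IsFpqcCover AlgSp.IsThickMor := by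
  haveI : IsZariskiLocalAtTarget (AlgSp.thick.{u}) := by
    unfold AlgSp.thick
    infer_instance
  have hd : (AlgSp.thick.{u}).DescendsAlong
      (@Surjective ⊓ @Flat ⊓ @QuasiCompact : MorphismProperty Scheme.{u}) := by
    haveI : DescendsAlong @IsClosedImmersion
        (@Surjective ⊓ @Flat ⊓ @QuasiCompact : MorphismProperty Scheme.{u}) :=
      Groth.Agent.Lib.Helper12.descendsAlong_isClosedImmersion
    unfold AlgSp.thick
    infer_instance
  exact Groth.Agent.Lib.Helper15FpqcRepWith.isLocalOnBase_fpqc_repWith AlgSp.thick
    (fun _ _ f hf => by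
      have : IsClosedImmersion f := hf.1
      exact (inferInstance : IsAffineHom f))
    hd

end Groth.Agent.Lib.Helper9.ThickFpqc
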