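import Mathlib
import Groth.Prelude.Def_ProEtS
import Groth.Agent.Lib.Helper9WC2

set_option autoImplicit false
open CategoryTheory CategoryTheory.Limits AlgebraicGeometry Opposite
open Groth.Agent.Lib.Helper9.ProEt
universe u w v₁ v₂ u₁ u₂

/-!
# Sections of pulled back pro-étale sheaves over affine weakly contractible objects (helper9)
-/

namespace Groth.Agent.Lib.Helper9.LanElt

variable {C : Type u₁} [Category.{v₁} C] {D : Type u₂} [Category.{v₂} D] (L : C ⥤ D)
  (G : Cᵒᵖ ⥤ Type w) [∀ (F : Cᵒᵖ ⥤ Type w), L.op.HasLeftKanExtension F]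

/-- the element of the left Kan extension presheaf given by `a : W ⟶ L V` and a section over `V` -/
noncomputable def elt {W : D} {V : C} (a : W ⟶ L.obj V) (ξ : G.obj (op V)) :
    (L.op.lan.obj G).obj (op W) :=
  (L.op.lan.obj G).map a.op ((L.op.lanUnit.app G).app (op V) ξ)

lemma map_elt {W W' : D} (h : W' ⟶ W) {V : C} (a : W ⟶ L.obj V) (ξ : G.obj (op V)) :
    (L.op.lan.obj G).map h.op (elt L G a ξ) = elt L G (h ≫ a) ξ := by
  unfold elt
  rw [op_comp, Functor.map_comp]
  rfl

lemma elt_comp_map {W : D} {V V' : C} (b : V' ⟶ V) (a' : W ⟶ L.obj V') (ξ : G.obj (op V)) :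
    elt L G (a' ≫ L.map b) ξ = elt L G a' (G.map b.op ξ) := by
  unfold elt
  rw [op_comp, Functor.map_comp]
  have := NatTrans.naturality_apply (L.op.lanUnit.app G) b.op ξ
  exact congrArg ((L.op.lan.obj G).map a'.op) this.symm

variable [L.op.HasPointwiseLeftKanExtension G]

lemma exists_elt {W : D} (x : (L.op.lan.obj G).obj (op W)) :
    ∃ (V : C) (a : W ⟶ L.obj V) (ξ : G.obj (op V)), elt L G a ξ = x := by
  have hc := Functor.isPointwiseLeftKanExtensionLeftKanExtensionUnit L.op G (op W)
  obtain ⟨g, ξ, hξ⟩ := Types.jointly_surjective_of_isColimit hc x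
  exact ⟨g.left.unop, g.hom.unop, ξ, hξ⟩

lemma elt_eq_iff [RepresentablyFlat L] {W : D} {V V' : C} (a : W ⟶ L.obj V) (ξ : G.obj (op V))
    (a' : W ⟶ L.obj V') (ξ' : G.obj (op V')) (h : elt L G a ξ = elt L G a' ξ') :
    ∃ (V'' : C) (b : V'' ⟶ V) (b' : V'' ⟶ V') (a'' : W ⟶ L.obj V''),
      a'' ≫ L.map b = a ∧ a'' ≫ L.map b' = a' ∧ G.map b.op ξ = G.map b'.op ξ' := by
  have hc := Functor.isPointwiseLeftKanExtensionLeftKanExtensionUnit L.op G (op W)
  let i : CostructuredArrow L.op (op W) := CostructuredArrow.mk (Y := op V) a.op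
  let j : CostructuredArrow L.op (op W) := CostructuredArrow.mk (Y := op V') a'.op
  obtain ⟨k, f, g, hfg⟩ := (Types.FilteredColimit.isColimit_eq_iff _ hc (i := i) (j := j)
    (xi := ξ) (xj := ξ')).1 h
  refine ⟨k.left.unop, f.left.unop, g.left.unop, k.hom.unop, ?_, ?_, hfg⟩
  · have := CostructuredArrow.w f
    exact congrArg Quiver.Hom.unop this
  · have := CostructuredArrow.w g
    exact congrArg Quiver.Hom.unop this

end Groth.Agent.Lib.Helper9.LanElt

namespace Groth.Agent.Lib.Helper9.WC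

variable {X : Scheme.{u}}

section sig

variable {n : ℕ} (Z : Fin n → X.ProEt)

set_option backward.isDefEq.respectTransparency.types false in
lemma sigι_mem_topology : Sieve.ofArrows Z (sigι Z) ∈ Scheme.ProEt.topology X (sig Z) := by
  rw [mem_topology_iff]
  refine ⟨Presieve.ofArrows Z (sigι Z), ?_, Sieve.le_generate _⟩
  rw [mem_precoverage_iff, Presieve.map_ofArrows]
  refine Scheme.zariskiPrecoverage_le_propQCPrecoverage _ ?_
  exact (sigmaOpenCover (fun k => (Z k).left)).mem₀

instance (k : Fin n) : Mono (sigι Z k) := by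
  apply (Fg X).mono_of_mono_map
  change Mono (Sigma.ι (fun k => (Z k).left) k)
  infer_instance

/-- gluing sections of a sheaf of sets along a finite coproduct -/
lemma sig_glue (F : Sheaf (Scheme.ProEt.topology X) (Type w)) (x : ∀ k, F.obj.obj (op (Z k))) :
    ∃ t : F.obj.obj (op (sig Z)), ∀ k, F.obj.map (sigι Z k).op t = x k := by
  have hsh := (isSheaf_iff_isSheaf_of_type _ _).1 F.property
  have h1 : (Presieve.ofArrows Z (sigι Z)).IsSheafFor F.obj :=
    hsh.isSheafFor _ (sigι_mem_topology Z)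
  rw [Presieve.isSheafFor_arrows_iff] at h1
  have hc : Presieve.Arrows.Compatible F.obj (sigι Z) x := by
    intro i j T gi gj hg
    by_cases hij : i = j
    · subst hij
      rw [(cancel_mono (sigι Z i)).1 hg]
    · haveI : IsEmpty T.left := by
        have hg' : gi.left ≫ Sigma.ι (fun k => (Z k).left) i =
            gj.left ≫ Sigma.ι (fun k => (Z k).left) j := congrArg (fun f => f.left) hg
        exact isEmpty_of_commSq_sigmaι_of_ne ⟨hg'⟩ hij
      haveI := subsingleton_of_isEmpty F T
      exact Subsingleton.elim _ _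
  obtain ⟨t, ht, -⟩ := h1 x hc
  exact ⟨t, ht⟩

lemma sig_ext (F : Sheaf (Scheme.ProEt.topology X) (Type w)) (t t' : F.obj.obj (op (sig Z)))
    (h : ∀ k, F.obj.map (sigι Z k).op t = F.obj.map (sigι Z k).op t') : t = t' := by
  have hsh := (isSheaf_iff_isSheaf_of_type _ _).1 F.property
  refine (hsh.isSeparated _ (sigι_mem_topology Z)).ext ?_
  rintro T f ⟨Y, a, b, ⟨k⟩, rfl⟩
  rw [op_comp, Functor.map_comp]
  exact congrArg (F.obj.map a.op) (h k)

end sig

/-- on an affine weakly contractible object, a presheaf of sets which turns finite clopen decompositions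
into products has the same sections as its sheafification -/
theorem bijective_toSheafify' {U : X.ProEt} [IsAffine U.left] (hU : ProEtS.IsWC U)
    (P : X.ProEtᵒᵖ ⥤ Type (u + 1))
    (hinj : ∀ (D : Decomp X U) (x y : P.obj (op U)),
      (∀ k, P.map (D.hom k).op x = P.map (D.hom k).op y) → x = y)
    (hsurj : ∀ (D : Decomp X U) (x : ∀ k, P.obj (op (D.obj k))),
      ∃ t : P.obj (op U), ∀ k, P.map (D.hom k).op t = x k) :
    Function.Bijective ((toSheafify (Scheme.ProEt.topology X) P).app (op U)) := by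
  constructor
  · intro x y h
    obtain ⟨D, hD⟩ := exists_decomp_of_isWC hU _
      (Presheaf.equalizerSieve_mem (Scheme.ProEt.topology X) (toSheafify _ P) x y h)
    exact hinj D x y hD
  · intro z
    obtain ⟨D, hD⟩ := exists_decomp_of_isWC hU _
      (Presheaf.imageSieve_mem (Scheme.ProEt.topology X) (toSheafify _ P) z)
    choose x hx using hD
    obtain ⟨t, ht⟩ := hsurj D x
    refine ⟨t, ?_⟩
    have hsh := (isSheaf_iff_isSheaf_of_type _ _).1
      ((presheafToSheaf (Scheme.ProEt.topology X) (Type (u + 1))).obj P).property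
    refine (hsh.isSeparated _ D.mem_topology).ext ?_
    rintro T f ⟨Y, a, b, ⟨k⟩, rfl⟩
    have h1 : (sheafify (Scheme.ProEt.topology X) P).map (D.hom k).op
        ((toSheafify (Scheme.ProEt.topology X) P).app (op U) t) =
        (sheafify (Scheme.ProEt.topology X) P).map (D.hom k).op z := by
      rw [← hx k, ← ht k]
      exact (NatTrans.naturality_apply (toSheafify (Scheme.ProEt.topology X) P) (D.hom k).op t).symm
    rw [op_comp, Functor.map_comp]
    exact congrArg ((sheafify (Scheme.ProEt.topology X) P).map a.op) h1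


open Groth.Agent.Lib.Helper9.LanElt

section pullback

variable {Y : Scheme.{u}} (f : X ⟶ Y)

set_option backward.isDefEq.respectTransparency.types false in
instance preservesFiniteLimits_bcP : PreservesFiniteLimits (ProEtS.bcP f) := by
  have h : PreservesFiniteLimits (ProEtS.bcP f ⋙ Scheme.ProEt.forget X) := by
    let e : ProEtS.bcP f ⋙ Scheme.ProEt.forget X ≅ Scheme.ProEt.forget Y ⋙ Over.pullback f :=
      MorphismProperty.Over.pullbackCompForgetIso (P := @WeaklyEtale) (Q := ⊤) f
    exact preservesFiniteLimits_of_natIso e.symm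
  exact preservesFiniteLimits_of_reflects_of_preserves (ProEtS.bcP f) (Scheme.ProEt.forget X)

instance : RepresentablyFlat (ProEtS.bcP f) := flat_of_preservesFiniteLimits _

variable (F : Sheaf (Scheme.ProEt.topology Y) (Type (u + 1)))
  [∀ (G : Y.ProEtᵒᵖ ⥤ Type (u + 1)), (ProEtS.bcP f).op.HasLeftKanExtension G]
  [(ProEtS.bcP f).op.HasPointwiseLeftKanExtension F.obj]

lemma lan_surj {W : X.ProEt} (D : Decomp X W)
    (x : ∀ k, ((ProEtS.bcP f).op.lan.obj F.obj).obj (op (D.obj k))) :
    ∃ t : ((ProEtS.bcP f).op.lan.obj F.obj).obj (op W),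
      ∀ k, ((ProEtS.bcP f).op.lan.obj F.obj).map (D.hom k).op t = x k := by
  choose V a ξ hx using fun k => exists_elt (ProEtS.bcP f) F.obj (x k)
  obtain ⟨hc⟩ := D.isColimit
  obtain ⟨ξ', hξ'⟩ := sig_glue V F ξ
  let a' : W ⟶ (ProEtS.bcP f).obj (sig V) :=
    Cofan.IsColimit.desc hc (fun k => a k ≫ (ProEtS.bcP f).map (sigι V k))
  refine ⟨elt (ProEtS.bcP f) F.obj a' ξ', fun k => ?_⟩
  rw [map_elt]
  have h1 : D.hom k ≫ a' = a k ≫ (ProEtS.bcP f).map (sigι V k) :=
    Cofan.IsColimit.fac hc _ k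
  rw [h1, elt_comp_map, hξ' k, hx k]

lemma lan_inj {W : X.ProEt} (D : Decomp X W)
    (x y : ((ProEtS.bcP f).op.lan.obj F.obj).obj (op W))
    (h : ∀ k, ((ProEtS.bcP f).op.lan.obj F.obj).map (D.hom k).op x =
      ((ProEtS.bcP f).op.lan.obj F.obj).map (D.hom k).op y) : x = y := by
  obtain ⟨V, a, ξ, rfl⟩ := exists_elt (ProEtS.bcP f) F.obj x
  obtain ⟨V', a', ξ', rfl⟩ := exists_elt (ProEtS.bcP f) F.obj y
  obtain ⟨hc⟩ := D.isColimit
  have h' : ∀ k, elt (ProEtS.bcP f) F.obj (D.hom k ≫ a) ξ =
      elt (ProEtS.bcP f) F.obj (D.hom k ≫ a') ξ' := fun k => by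
    rw [← map_elt, ← map_elt]
    exact h k
  choose V'' b b' a'' hb hb' hξ using fun k => elt_eq_iff (ProEtS.bcP f) F.obj _ _ _ _ (h' k)
  let c : W ⟶ (ProEtS.bcP f).obj (sig V'') :=
    Cofan.IsColimit.desc hc (fun k => a'' k ≫ (ProEtS.bcP f).map (sigι V'' k))
  have hc1 : ∀ k, D.hom k ≫ c = a'' k ≫ (ProEtS.bcP f).map (sigι V'' k) := fun k =>
    Cofan.IsColimit.fac hc _ k
  have h1 : c ≫ (ProEtS.bcP f).map (sigDesc V'' b) = a := by
    apply Cofan.IsColimit.hom_ext hc
    intro k
    change D.hom k ≫ c ≫ _ = D.hom k ≫ a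
    rw [← Category.assoc, hc1 k, Category.assoc, ← Functor.map_comp, sigι_desc, hb k]
  have h2 : c ≫ (ProEtS.bcP f).map (sigDesc V'' b') = a' := by
    apply Cofan.IsColimit.hom_ext hc
    intro k
    change D.hom k ≫ c ≫ _ = D.hom k ≫ a'
    rw [← Category.assoc, hc1 k, Category.assoc, ← Functor.map_comp, sigι_desc, hb' k]
  have h3 : F.obj.map (sigDesc V'' b).op ξ = F.obj.map (sigDesc V'' b').op ξ' := by
    apply sig_ext V'' F
    intro k
    have e1 : F.obj.map (sigι V'' k).op (F.obj.map (sigDesc V'' b).op ξ) =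
        F.obj.map (b k).op ξ := by
      rw [← sigι_desc V'' b k, op_comp, Functor.map_comp]
      rfl
    have e2 : F.obj.map (sigι V'' k).op (F.obj.map (sigDesc V'' b').op ξ') =
        F.obj.map (b' k).op ξ' := by
      rw [← sigι_desc V'' b' k, op_comp, Functor.map_comp]
      rfl
    rw [e1, e2, hξ k]
  rw [← h1, ← h2, elt_comp_map, elt_comp_map, h3]

/-- the left Kan extension presheaf of a sheaf along base change has the same sections over an affine
weakly contractible object as its sheafification -/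
theorem bijective_toSheafify_lan {W : X.ProEt} [IsAffine W.left] (hW : ProEtS.IsWC W) :
    Function.Bijective ((toSheafify (Scheme.ProEt.topology X)
      ((ProEtS.bcP f).op.lan.obj F.obj)).app (op W)) :=
  bijective_toSheafify' hW _ (lan_inj f F) (lan_surj f F)

end pullback

end Groth.Agent.Lib.Helper9.WC
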