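import Mathlib
import Groth.Agent.Lib.Helper9ZeroDim1

/-!
# Affine schemes all of whose points are closed: clopen refinements (helper9)

* `isClosed_basicOpen`: basic opens are closed;
* `exists_disjoint_refinement`: every pointed open cover has a finite refinement by pairwise
  disjoint opens.
-/

set_option autoImplicit false
set_option linter.style.haveILetI false
set_option backward.isDefEq.respectTransparency false

universe u

open CategoryTheory CategoryTheory.Limits AlgebraicGeometry Opposite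

namespace Groth.Agent.Lib.Helper9.ZeroDim

variable {S : Scheme.{u}}

theorem isClosed_basicOpen (h1 : ∀ s : S, IsClosed ({s} : Set S)) (f : Γ(S, ⊤)) :
    IsClosed ((S.basicOpen f : S.Opens) : Set S) := by
  rw [← isOpen_compl_iff, isOpen_iff_forall_mem_open]
  intro x hx
  have hnu : ¬ IsUnit (S.presheaf.germ ⊤ x trivial f) := fun hu =>
    hx ((S.mem_basicOpen_top f x).2 hu)
  have hmem : S.presheaf.germ ⊤ x trivial f ∈ IsLocalRing.maximalIdeal (S.presheaf.stalk x) :=
    (IsLocalRing.mem_maximalIdeal _).2 hnu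
  obtain ⟨n, hn⟩ := isNilpotent_of_mem_maximalIdeal h1 x _ hmem
  rw [← map_pow] at hn
  obtain ⟨W', hxW', i1, i2, hW'⟩ := TopCat.Presheaf.germ_eq S.presheaf (U := ⊤) (V := ⊤) x
    trivial trivial (f ^ n) (0 : Γ(S, ⊤)) (by rw [hn, map_zero])
  refine ⟨W', ?_, W'.2, hxW'⟩
  intro y hy hyb
  have hu := (S.mem_basicOpen_top f y).1 hyb
  have h0 : S.presheaf.germ ⊤ y trivial (f ^ n) = 0 := by
    rw [← TopCat.Presheaf.germ_res_apply S.presheaf i1 y hy, hW', map_zero, map_zero]
  rw [map_pow] at h0
  exact (hu.pow n).ne_zero h0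

lemma exists_disjoint_clopen {X ι : Type*} [TopologicalSpace X] (C : ι → Set X)
    (hC : ∀ i, IsClopen (C i)) (T : Finset ι) :
    ∃ D : ι → Set X, (∀ i, IsOpen (D i)) ∧ (∀ i, D i ⊆ C i) ∧
      (∀ i ∈ T, ∀ j ∈ T, i ≠ j → ∀ x, x ∈ D i → x ∈ D j → False) ∧
      (∀ x, (∃ i ∈ T, x ∈ C i) → ∃ i ∈ T, x ∈ D i) := by
  classical
  induction T using Finset.induction_on with
  | empty => exact ⟨C, fun i => (hC i).2, fun i => subset_rfl, by simp, by simp⟩
  | insert a T ha ih =>
    obtain ⟨D, hD1, hD2, hD3, hD4⟩ := ih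
    have hU : IsClopen (⋃ i ∈ T, C i) := T.finite_toSet.isClopen_biUnion (fun i _ => hC i)
    have hne : ∀ i ∈ T, i ≠ a := fun i hi h => ha (h ▸ hi)
    refine ⟨Function.update D a (C a \ ⋃ i ∈ T, C i), ?_, ?_, ?_, ?_⟩
    · intro i
      by_cases h : i = a
      · subst h
        rw [Function.update_self]
        exact ((hC i).diff hU).2
      · rw [Function.update_of_ne h]
        exact hD1 i
    · intro i
      by_cases h : i = a
      · subst h
        rw [Function.update_self]
        exact Set.sdiff_subset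
      · rw [Function.update_of_ne h]
        exact hD2 i
    · have key : ∀ j ∈ T, ∀ x, x ∈ C a \ ⋃ i ∈ T, C i → x ∈ D j → False := by
        intro j hj x hx hxj
        exact hx.2 (Set.mem_biUnion hj (hD2 j hxj))
      intro i hi j hj hij x hxi hxj
      rw [Finset.mem_insert] at hi hj
      rcases hi with rfl | hi
      · rcases hj with rfl | hj
        · exact hij rfl
        · rw [Function.update_self] at hxi
          rw [Function.update_of_ne (hne j hj)] at hxj
          exact key j hj x hxi hxj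
      · rcases hj with rfl | hj
        · rw [Function.update_self] at hxj
          rw [Function.update_of_ne (hne i hi)] at hxi
          exact key i hi x hxj hxi
        · rw [Function.update_of_ne (hne i hi)] at hxi
          rw [Function.update_of_ne (hne j hj)] at hxj
          exact hD3 i hi j hj hij x hxi hxj
    · rintro x ⟨i, hi, hx⟩
      by_cases hxU : x ∈ ⋃ i ∈ T, C i
      · obtain ⟨j, hj, hxj⟩ := hD4 x (by simpa using hxU)
        exact ⟨j, Finset.mem_insert_of_mem hj, by rwa [Function.update_of_ne (hne j hj)]⟩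
      · rw [Finset.mem_insert] at hi
        rcases hi with rfl | hi
        · exact ⟨i, Finset.mem_insert_self _ _, by rw [Function.update_self]; exact ⟨hx, hxU⟩⟩
        · exact (hxU (Set.mem_biUnion hi hx)).elim

theorem exists_disjoint_refinement [IsAffine S] (h1 : ∀ s : S, IsClosed ({s} : Set S))
    (W : S → S.Opens) (hW : ∀ s, s ∈ W s) :
    ∃ (T : Finset S) (D : S → S.Opens), (∀ s, D s ≤ W s) ∧ (∀ x : S, ∃ s ∈ T, x ∈ D s) ∧
      (∀ s ∈ T, ∀ s' ∈ T, s ≠ s' → ∀ x, x ∈ D s → x ∈ D s' → False) := by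
  classical
  have hB := isBasis_basicOpen S
  have : ∀ s, ∃ f : Γ(S, ⊤), s ∈ S.basicOpen f ∧ S.basicOpen f ≤ W s := by
    intro s
    obtain ⟨_, ⟨_, ⟨f, rfl⟩, rfl⟩, hs, hle⟩ := hB.exists_subset_of_mem_open (hW s) (W s).2
    exact ⟨f, hs, hle⟩
  choose f hf1 hf2 using this
  let C : S → Set S := fun s => (S.basicOpen (f s) : Set S)
  have hC : ∀ s, IsClopen (C s) := fun s =>
    ⟨isClosed_basicOpen h1 (f s), (S.basicOpen (f s)).2⟩
  obtain ⟨T, hT⟩ := isCompact_univ.elim_finite_subcover C (fun s => (hC s).2)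
    (fun x _ => Set.mem_iUnion.2 ⟨x, hf1 x⟩)
  obtain ⟨D, hD1, hD2, hD3, hD4⟩ := exists_disjoint_clopen C hC T
  refine ⟨T, fun s => ⟨D s, hD1 s⟩, ?_, ?_, ?_⟩
  · intro s x hx
    exact hf2 s (hD2 s hx)
  · intro x
    have := hT (Set.mem_univ x)
    simp only [Set.mem_iUnion] at this
    obtain ⟨s, hs, hx⟩ := this
    exact hD4 x ⟨s, hs, hx⟩
  · intro s hs s' hs' hne x hx hx'
    exact hD3 s hs s' hs' hne x hx hx'

end Groth.Agent.Lib.Helper9.ZeroDim
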