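import Mathlib
import Groth.Prelude.Def_EtCore
import Groth.Agent.Lib.Helper9ZeroDim2
import Groth.Agent.Lib.Helper9CIEss
import Groth.Agent.Lib.Helper9Hens7

/-!
# Vanishing of étale cohomology on affine schemes with closed points and separably closed
residue fields (helper9)

* `exists_glue`, `ext_of_cover`: étale sheaves glue along disjoint open covers;
* `gsec_surjective_of_epi`: global sections are right exact;
* `subsingleton_H`: vanishing of higher cohomology.
-/

set_option autoImplicit false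
set_option linter.style.haveILetI false
set_option backward.isDefEq.respectTransparency false

universe u

open CategoryTheory CategoryTheory.Limits AlgebraicGeometry Opposite

namespace Groth.Agent.Lib.Helper9.ZeroDim

open Groth.Agent.Lib.Helper9.CIStalk (mem_smallEtale_iff)

variable {S : Scheme.{u}}

/-- an open subscheme as an object of the small étale site -/
noncomputable abbrev opn (W : S.Opens) : S.Etale := Scheme.Etale.mk W.ι

/-- the structure arrow of an open subscheme to the terminal object -/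
noncomputable abbrev toTop (W : S.Opens) : opn W ⟶ EtCoh.top S :=
  (EtCore.topIsTerminal S).from (opn W)

lemma toTop_left (W : S.Opens) : (toTop W).left = W.ι := by
  have h : (toTop W).left ≫ (EtCoh.top S).hom = (opn W).hom := Over.w (toTop W).hom
  exact (Category.comp_id _).symm.trans h

lemma hom_opn_ext {Z : S.Etale} {W : S.Opens} (a b : Z ⟶ opn W) : a = b := by
  have ha : a.left ≫ W.ι = Z.hom := Over.w a.hom
  have hb : b.left ≫ W.ι = Z.hom := Over.w b.hom
  have : a.left = b.left := by
    rw [← cancel_mono W.ι, ha, hb]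
  exact MorphismProperty.Over.Hom.ext (by exact this)

lemma hom_opn_mem {Z : S.Etale} {W : S.Opens} (a : Z ⟶ opn W) (z : Z.left) : Z.hom z ∈ W := by
  have ha : a.left ≫ W.ι = Z.hom := Over.w a.hom
  rw [← ha]
  exact (a.left z).2

theorem ofOpens_mem {ι : Type*} (D : ι → S.Opens) (hD : ∀ x : S, ∃ i, x ∈ D i) :
    Sieve.ofArrows (fun i => opn (D i)) (fun i => toTop (D i)) ∈
      S.smallEtaleTopology (EtCoh.top S) := by
  rw [mem_smallEtale_iff]
  intro x
  obtain ⟨i, hi⟩ := hD x
  refine ⟨opn (D i), toTop (D i), ⟨x, hi⟩, Sieve.ofArrows_mk _ _ i, ?_⟩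
  rw [toTop_left]
  rfl

theorem subsingleton_of_isEmpty (F : EtCoh.Ab S) (Z : S.Etale) [IsEmpty Z.left] :
    Subsingleton (F.obj.obj (op Z)) := by
  have hbot : (⊥ : Sieve Z) ∈ S.smallEtaleTopology Z := by
    rw [mem_smallEtale_iff]
    intro x
    exact isEmptyElim x
  refine ⟨fun a b => ?_⟩
  exact (Sheaf.isSeparated F) Z ⊥ hbot a b (fun Y f hf => hf.elim)

theorem ext_of_cover (G : EtCoh.Ab S) {ι : Type*} (D : ι → S.Opens)
    (hD : ∀ x : S, ∃ i, x ∈ D i) (a b : G.obj.obj (op (EtCoh.top S)))
    (h : ∀ i, G.obj.map (toTop (D i)).op a = G.obj.map (toTop (D i)).op b) : a = b := by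
  refine (Sheaf.isSeparated G) _ _ (ofOpens_mem D hD) a b ?_
  rintro Y f ⟨Z, k, _, ⟨i⟩, rfl⟩
  rw [op_comp, G.obj.map_comp]
  change G.obj.map k.op (G.obj.map (toTop (D i)).op a) = G.obj.map k.op (G.obj.map (toTop (D i)).op b)
  rw [h i]

theorem exists_glue (F : EtCoh.Ab S) {ι : Type*} (D : ι → S.Opens)
    (hcov : ∀ x : S, ∃ i, x ∈ D i)
    (hdisj : ∀ i j, i ≠ j → ∀ x, x ∈ D i → x ∈ D j → False)
    (f : ∀ i, F.obj.obj (op (opn (D i)))) :
    ∃ g : F.obj.obj (op (EtCoh.top S)), ∀ i, F.obj.map (toTop (D i)).op g = f i := by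
  have hsh : Presieve.IsSheaf S.smallEtaleTopology (F.obj ⋙ forget AddCommGrpCat.{u + 1}) :=
    (isSheaf_iff_isSheaf_of_type _ _).1
      ((sheafCompose S.smallEtaleTopology (forget AddCommGrpCat.{u + 1})).obj F).2
  have h1 := hsh.isSheafFor _ (ofOpens_mem D hcov)
  rw [Presieve.isSheafFor_arrows_iff] at h1
  obtain ⟨g, hg, -⟩ := h1 f (by
    intro i j Z gi gj hgij
    by_cases hij : i = j
    · subst hij
      rw [hom_opn_ext gi gj]
    · haveI : IsEmpty Z.left := ⟨fun z =>
        hdisj i j hij (Z.hom z) (hom_opn_mem gi z) (hom_opn_mem gj z)⟩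
      haveI := subsingleton_of_isEmpty F Z
      exact Subsingleton.elim (α := F.obj.obj (op Z)) _ _)
  exact ⟨g, hg⟩

/-- global sections preserve epimorphisms -/
theorem gsec_surjective_of_epi [IsAffine S] (h1 : ∀ s : S, IsClosed ({s} : Set S))
    (h2 : ∀ s : S, IsSepClosed (S.residueField s)) {F G : EtCoh.Ab S} (φ : F ⟶ G) [Epi φ] :
    Function.Surjective (φ.hom.app (op (EtCoh.top S))) := by
  intro t
  haveI : Sheaf.IsLocallySurjective φ := (Sheaf.isLocallySurjective_iff_epi' (φ := φ)).2 inferInstance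
  have hmem := Presheaf.imageSieve_mem S.smallEtaleTopology φ.hom (U := op (EtCoh.top S)) t
  rw [mem_smallEtale_iff] at hmem
  choose V f v hV hv using hmem
  have hloc : ∀ s : S, ∃ W : S.Opens, s ∈ W ∧ Presheaf.imageSieve φ.hom t (toTop W) := by
    intro s
    obtain ⟨W, hW, σ, hσ⟩ := exists_local_section h1 h2 (V s).hom (v s)
    have hs : (V s).hom (v s) = s := by
      have hw : (f s).left ≫ (EtCoh.top S).hom = (V s).hom := Over.w (f s).hom
      rw [← hw]
      exact hv s
    refine ⟨W, hs ▸ hW, ?_⟩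
    let σ' : opn W ⟶ V s := MorphismProperty.Over.homMk σ hσ trivial
    have h3 : toTop W = σ' ≫ f s := (EtCore.topIsTerminal S).hom_ext _ _
    rw [h3]
    exact Sieve.downward_closed _ (hV s) σ'
  choose W hW1 hW2 using hloc
  obtain ⟨T, D, hD1, hD2, hD3⟩ := exists_disjoint_refinement h1 W hW1
  have hD4 : ∀ i : T, Presheaf.imageSieve φ.hom t (toTop (D i)) := by
    intro i
    let k : opn (D i) ⟶ opn (W i) :=
      MorphismProperty.Over.homMk (S.homOfLE (hD1 i)) (by simp) trivial
    have h3 : toTop (D i) = k ≫ toTop (W i) := (EtCore.topIsTerminal S).hom_ext _ _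
    rw [h3]
    exact Sieve.downward_closed _ (hW2 i) k
  choose a ha using hD4
  have hcov : ∀ x : S, ∃ i : T, x ∈ D i := by
    intro x
    obtain ⟨s, hs, hx⟩ := hD2 x
    exact ⟨⟨s, hs⟩, hx⟩
  obtain ⟨g, hg⟩ := exists_glue F (fun i : T => D i) hcov
    (fun i j hij x hx hx' => hD3 i i.2 j j.2 (fun h => hij (Subtype.ext h)) x hx hx') a
  refine ⟨g, ?_⟩
  apply ext_of_cover G (fun i : T => D i) hcov
  intro i
  have h4 := NatTrans.naturality_apply φ.hom (toTop (D i)).op g
  rw [← h4, hg i]
  exact ha i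

theorem gsec_preservesEpimorphisms [IsAffine S] (h1 : ∀ s : S, IsClosed ({s} : Set S))
    (h2 : ∀ s : S, IsSepClosed (S.residueField s)) :
    (EtCore.gsec S).PreservesEpimorphisms where
  preserves {F G} φ _ := by
    rw [AddCommGrpCat.epi_iff_surjective]
    exact gsec_surjective_of_epi h1 h2 φ

/-- the constant sheaf `ℤ` is projective -/
theorem projective_constZ [IsAffine S] (h1 : ∀ s : S, IsClosed ({s} : Set S))
    (h2 : ∀ s : S, IsSepClosed (S.residueField s)) :
    Projective ((constantSheaf S.smallEtaleTopology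
      AddCommGrpCat.{u + 1}).obj (AddCommGrpCat.of (ULift.{u + 1} ℤ))) := by
  haveI := gsec_preservesEpimorphisms h1 h2
  exact (EtCore.constAdj S).map_projective _ Hens.projective_uliftInt

/-- vanishing of higher étale cohomology -/
theorem subsingleton_H [IsAffine S] (h1 : ∀ s : S, IsClosed ({s} : Set S))
    (h2 : ∀ s : S, IsSepClosed (S.residueField s)) (F : EtCoh.Ab S) (n : ℕ) :
    Subsingleton (EtCoh.H S F (n + 1)) := by
  haveI := projective_constZ h1 h2
  exact Abelian.Ext.subsingleton_of_projective _ _ _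

end Groth.Agent.Lib.Helper9.ZeroDim
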