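import Mathlib
import Groth.Prelude.Def_W4bk4goldsch23FF
import Groth.Prelude.Def_AdFn
import Groth.Agent.S10997
import Groth.Agent.S10983
import Groth.Agent.S10978

/-! Repartition-level strong approximation and `K/(O_{P} + O_P)`. -/

set_option autoImplicit false
universe u

namespace Groth.Agent.Lib.LeadAD
open FunFld

variable {k K : Type u} [Field k] [Field K] [Algebra k K]

/-- strong approximation for repartitions: away from `P` any repartition is integral modulo `K`. -/
theorem exists_sub_integral (hK : IsFunctionField k K) (P : Place k K)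
    (a : Place k K → K) (ha : a ∈ adele k K) :
    ∃ x : K, ∀ Q : Place k K, Q ≠ P → Q.1 (a Q - x) ≤ 1 := by
  classical
  have hfin : {Q : Place k K | ¬ Q.1 (a Q) ≤ 1}.Finite := ha
  set T : Finset (Place k K) := hfin.toFinset.erase P with hT
  let e := T.equivFin
  obtain ⟨y, hy1, hy2⟩ := Groth.Agent.S10997.result k K hK P T.card
    (fun i => ((e.symm i : T) : Place k K))
    (fun i j hij => e.symm.injective (Subtype.ext hij))
    (by
      rintro ⟨i, hi⟩
      have : ((e.symm i : T) : Place k K) ∈ T := (e.symm i).2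
      have hi' : ((e.symm i : T) : Place k K) = P := hi
      rw [hi', hT] at this
      exact (Finset.notMem_erase P _) this)
    (fun i => a ((e.symm i : T) : Place k K)) (fun _ => 0)
  refine ⟨y, fun Q hQ => ?_⟩
  by_cases hQT : Q ∈ T
  · have := hy1 (e ⟨Q, hQT⟩)
    simp only [Equiv.symm_apply_apply, neg_zero, WithZero.exp_zero] at this
    rw [← Valuation.map_neg, neg_sub, this]
  · have hQa : Q.1 (a Q) ≤ 1 := by
      by_contra hcon
      apply hQT
      rw [hT, Finset.mem_erase]
      exact ⟨hQ, by simpa using hcon⟩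
    have hQy : Q.1 y ≤ 1 := by
      apply hy2 Q hQ
      rintro ⟨i, hi⟩
      apply hQT
      rw [← hi]
      exact (e.symm i).2
    exact (Valuation.map_sub _ _ _).trans (max_le hQa hQy)

open Classical in
lemma single_mem_adele (P : Place k K) (f : K) :
    (Pi.single P f : Place k K → K) ∈ adele k K := by
  show ∀ᶠ Q : Place k K in Filter.cofinite, Q.1 ((Pi.single P f : Place k K → K) Q) ≤ 1
  rw [Filter.eventually_cofinite]
  apply Set.Finite.subset (Set.finite_singleton P)
  intro Q hQ
  by_contra hne
  apply hQ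
  have hne' : Q ≠ P := hne
  simp [Pi.single_eq_of_ne hne']

open Classical in
/-- the map `K → A/(A(0)+K)` placing `f` at `P`. -/
noncomputable def phi (P : Place k K) : K →ₗ[k] (adele k K ⧸ ADK (0 : Divisor k K)) :=
  (ADK (0 : Divisor k K)).mkQ ∘ₗ
    (LinearMap.codRestrict (adele k K) (LinearMap.single k (fun _ : Place k K => K) P)
      (fun f => single_mem_adele P f))

open Classical in
theorem ker_phi (P : Place k K) :
    LinearMap.ker (phi (k := k) (K := K) P) =
      Subalgebra.toSubmodule (AdFn.SInt ({P} : Set (Place k K))) ⊔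
        Subalgebra.toSubmodule (AdFn.SInt (({P} : Set (Place k K))ᶜ)) := by
  ext f
  rw [LinearMap.mem_ker, phi, LinearMap.comp_apply, Submodule.mkQ_apply,
    Submodule.Quotient.mk_eq_zero, ADK, Submodule.mem_comap, Submodule.mem_sup, Submodule.mem_sup]
  constructor
  · rintro ⟨α, hα, _, ⟨x, rfl⟩, hsum⟩
    have hsum' : ∀ Q : Place k K, α Q + x = (Pi.single P f : Place k K → K) Q := by
      intro Q
      have := congrFun hsum Q
      simpa [diag] using this
    refine ⟨x, ?_, f - x, ?_, by ring⟩
    · show x ∈ AdFn.SInt ({P} : Set (Place k K))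
      rw [AdFn.mem_SInt]
      intro Q hQ
      have hQ' : Q ≠ P := hQ
      have h1 := hsum' Q
      rw [Pi.single_eq_of_ne hQ'] at h1
      have hx : x = -α Q := by linear_combination h1
      rw [hx, Valuation.map_neg]
      simpa using hα Q
    · show f - x ∈ AdFn.SInt (({P} : Set (Place k K))ᶜ)
      rw [AdFn.mem_SInt]
      intro Q hQ
      have hQ' : Q = P := by simpa using hQ
      subst hQ'
      have h1 := hsum' Q
      rw [Pi.single_eq_same] at h1
      have hx : f - x = α Q := by linear_combination -h1
      rw [hx]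
      simpa using hα Q
  · rintro ⟨x, hx, o, ho, rfl⟩
    have hx' : x ∈ AdFn.SInt ({P} : Set (Place k K)) := hx
    have ho' : o ∈ AdFn.SInt (({P} : Set (Place k K))ᶜ) := ho
    rw [AdFn.mem_SInt] at hx' ho'
    refine ⟨fun Q => if Q = P then o else -x, ?_, diag k K x, ⟨x, rfl⟩, ?_⟩
    · intro Q
      show Q.1 (if Q = P then o else -x) ≤ WithZero.exp ((0 : Divisor k K) Q)
      simp only [Finsupp.coe_zero, Pi.zero_apply, WithZero.exp_zero]
      split_ifs with h
      · exact ho' Q (by simp [h])
      · rw [Valuation.map_neg]; exact hx' Q h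
    · funext Q
      by_cases h : Q = P
      · subst h
        simp [diag, add_comm]
      · simp [diag, h, Pi.single_eq_of_ne h]

open Classical in
theorem phi_surjective (hK : IsFunctionField k K) (P : Place k K) :
    Function.Surjective (phi (k := k) (K := K) P) := by
  intro c
  obtain ⟨⟨a, ha⟩, rfl⟩ := Submodule.Quotient.mk_surjective _ c
  obtain ⟨x, hx⟩ := exists_sub_integral hK P a ha
  refine ⟨a P - x, ?_⟩
  rw [phi, LinearMap.comp_apply, Submodule.mkQ_apply]
  symm
  rw [Submodule.Quotient.eq, ADK, Submodule.mem_comap, Submodule.mem_sup]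
  refine ⟨fun Q => if Q = P then 0 else a Q - x, ?_, diag k K x, ⟨x, rfl⟩, ?_⟩
  · intro Q
    show Q.1 (if Q = P then 0 else a Q - x) ≤ WithZero.exp ((0 : Divisor k K) Q)
    simp only [Finsupp.coe_zero, Pi.zero_apply, WithZero.exp_zero]
    split_ifs with h
    · simp
    · exact hx Q h
  · funext Q
    by_cases h : Q = P
    · subst h
      simp [diag]
    · simp [diag, h, Pi.single_eq_of_ne h]

theorem ell_zero (hK : IsFunctionField k K) : ell (0 : Divisor k K) = 1 := by
  rw [ell, Groth.Agent.S10978.result k K hK, Submodule.one_eq_span, finrank_span_singleton one_ne_zero]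

theorem finrank_quot (hK : IsFunctionField k K) (P : Place k K) :
    FiniteDimensional k (K ⧸ (Subalgebra.toSubmodule (AdFn.SInt ({P} : Set (Place k K))) ⊔
        Subalgebra.toSubmodule (AdFn.SInt (({P} : Set (Place k K))ᶜ)))) ∧
    Module.finrank k (K ⧸ (Subalgebra.toSubmodule (AdFn.SInt ({P} : Set (Place k K))) ⊔
        Subalgebra.toSubmodule (AdFn.SInt (({P} : Set (Place k K))ᶜ)))) = genus k K := by
  rw [← ker_phi P]
  obtain ⟨hfd, hrank⟩ := Groth.Agent.S10983.result k K hK (0 : Divisor k K)
  let e := LinearMap.quotKerEquivOfSurjective _ (phi_surjective hK P)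
  haveI := hfd
  refine ⟨e.symm.finiteDimensional, ?_⟩
  rw [e.finrank_eq]
  have hdeg : (0 : Divisor k K).deg = 0 := by simp [Divisor.deg]
  rw [hdeg, ell_zero hK] at hrank
  have : (Module.finrank k (adele k K ⧸ ADK (0 : Divisor k K)) : ℤ) = (genus k K : ℤ) := by
    rw [hrank]; simp
  exact_mod_cast this

end Groth.Agent.Lib.LeadAD
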