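import Mathlib
import Groth.Agent.Lib.LeadAD1

/-! Completed versions: density of `K` in `K_v`, `K_P/(O_{P} + Ô_P)`, adelic strong approximation. -/

set_option autoImplicit false
universe u

namespace Groth.Agent.Lib.LeadAD
open FunFld AdFn

variable {k K : Type u} [Field k] [Field K] [Algebra k K]

/-- `K` is dense in `K_v`: every element of `K_v` is congruent mod `O_v` to an element of `K`. -/
theorem exists_sub_mem_Ov (v : Place k K) (x : Kv v) : ∃ f : K, x - toKv v f ∈ Ov v := by
  have hopen : IsOpen {y : Kv v | x - y ∈ Ov v} := by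
    have : Continuous fun y : Kv v => x - y := continuous_const.sub continuous_id
    exact (isOpen_Ov v).preimage this
  have hx : x ∈ {y : Kv v | x - y ∈ Ov v} := by
    show x - x ∈ Ov v
    rw [sub_self]; exact zero_mem (Ov v)
  have hd : DenseRange ((↑) : WithVal v.1 → Kv v) := UniformSpace.Completion.denseRange_coe
  obtain ⟨f, hf⟩ := hd.exists_mem_open hopen ⟨x, hx⟩
  exact ⟨(WithVal.equiv v.1) f, hf⟩

lemma smul_mem_Ov (v : Place k K) (c : k) (x : Kv v) (hx : x ∈ Ov v) : c • x ∈ Ov v := by
  rw [Algebra.smul_def, IsScalarTower.algebraMap_apply k K (Kv v)]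
  exact mul_mem ((toKv_mem_Ov v _).2 (v.2.1 c)) hx

/-- `O_v` as a `k`-submodule of `K_v`. -/
noncomputable def OvSub (v : Place k K) : Submodule k (Kv v) where
  carrier := (Ov v : Set (Kv v))
  add_mem' ha hb := add_mem (S := ValuationSubring (Kv v)) ha hb
  zero_mem' := zero_mem (Ov v)
  smul_mem' c x hx := smul_mem_Ov v c x hx

lemma span_Ov (v : Place k K) : Submodule.span k (Ov v : Set (Kv v)) = OvSub v :=
  le_antisymm (Submodule.span_le.2 (fun _ hx => hx)) (fun _ hx => Submodule.subset_span hx)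

/-- the map `K → K_P / (O_{P} + Ô_P)`. -/
noncomputable def psi (P : Place k K) : K →ₗ[k] (Kv P ⧸
    (Subalgebra.toSubmodule ((SInt ({P} : Set (Place k K))).map
        (IsScalarTower.toAlgHom k K (Kv P))) ⊔ Submodule.span k (Ov P : Set (Kv P)))) :=
  (Submodule.mkQ _) ∘ₗ (IsScalarTower.toAlgHom k K (Kv P)).toLinearMap

theorem psi_surjective (P : Place k K) : Function.Surjective (psi (k := k) (K := K) P) := by
  intro c
  obtain ⟨x, rfl⟩ := Submodule.Quotient.mk_surjective _ c
  obtain ⟨f, hf⟩ := exists_sub_mem_Ov P x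
  refine ⟨f, ?_⟩
  rw [psi, LinearMap.comp_apply, Submodule.mkQ_apply]
  symm
  rw [Submodule.Quotient.eq]
  apply Submodule.mem_sup_right
  rw [span_Ov]
  exact hf

theorem ker_psi (P : Place k K) :
    LinearMap.ker (psi (k := k) (K := K) P) =
      Subalgebra.toSubmodule (SInt ({P} : Set (Place k K))) ⊔
        Subalgebra.toSubmodule (SInt (({P} : Set (Place k K))ᶜ)) := by
  ext f
  rw [LinearMap.mem_ker, psi, LinearMap.comp_apply, Submodule.mkQ_apply,
    Submodule.Quotient.mk_eq_zero, Submodule.mem_sup, Submodule.mem_sup, span_Ov]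
  constructor
  · rintro ⟨_, ⟨a, ha, rfl⟩, o, ho, hsum⟩
    refine ⟨a, ha, f - a, ?_, by ring⟩
    show f - a ∈ SInt (({P} : Set (Place k K))ᶜ)
    rw [mem_SInt]
    intro Q hQ
    have hQ' : Q = P := by simpa using hQ
    subst hQ'
    rw [← toKv_mem_Ov]
    have : toKv Q (f - a) = o := by
      rw [map_sub]
      change toKv Q a + o = toKv Q f at hsum
      rw [← hsum]; ring
    rw [this]
    exact ho
  · rintro ⟨a, ha, o, ho, rfl⟩
    refine ⟨toKv P a, ⟨a, ha, rfl⟩, toKv P o, ?_, ?_⟩
    · show toKv P o ∈ Ov P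
      rw [toKv_mem_Ov]
      have ho' : o ∈ SInt (({P} : Set (Place k K))ᶜ) := ho
      rw [mem_SInt] at ho'
      exact ho' P (by simp)
    · show toKv P a + toKv P o = toKv P (a + o)
      rw [map_add]

theorem finrank_quot_Kv (hK : IsFunctionField k K) (P : Place k K) :
    FiniteDimensional k (Kv P ⧸
        (Subalgebra.toSubmodule ((SInt ({P} : Set (Place k K))).map
            (IsScalarTower.toAlgHom k K (Kv P))) ⊔
          Submodule.span k (Ov P : Set (Kv P)))) ∧
    Module.finrank k (Kv P ⧸
        (Subalgebra.toSubmodule ((SInt ({P} : Set (Place k K))).map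
            (IsScalarTower.toAlgHom k K (Kv P))) ⊔
          Submodule.span k (Ov P : Set (Kv P)))) = genus k K := by
  obtain ⟨hfd, hrank⟩ := finrank_quot hK P
  rw [← ker_psi P] at hfd hrank
  let e := LinearMap.quotKerEquivOfSurjective _ (psi_surjective (k := k) (K := K) P)
  haveI := hfd
  exact ⟨e.finiteDimensional, by rw [← e.finrank_eq, hrank]⟩

/-- adelic strong approximation. -/
theorem adele_strong_approx (hK : IsFunctionField k K) [HasFinitePoles k K] (P : Place k K)
    (a : AdeleRing k K) :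
    ∃ f : K, ∀ v : Place k K, v ≠ P → AdeleRing.proj v (a - AdeleRing.diag f) ∈ Ov v := by
  classical
  have hfin : {v : Place k K | ¬ a.1 v ∈ (Ov v : Set (Kv v))}.Finite := a.2
  choose g hg using fun v : Place k K => exists_sub_mem_Ov v (a.1 v)
  set T : Finset (Place k K) := hfin.toFinset.erase P with hT
  let e := T.equivFin
  obtain ⟨y, hy1, hy2⟩ := Groth.Agent.S10997.result k K hK P T.card
    (fun i => ((e.symm i : T) : Place k K))
    (fun i j hij => e.symm.injective (Subtype.ext hij))
    (by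
      rintro ⟨i, hi⟩
      have : ((e.symm i : T) : Place k K) ∈ T := (e.symm i).2
      have hi' : ((e.symm i : T) : Place k K) = P := hi
      rw [hi', hT] at this
      exact (Finset.notMem_erase P _) this)
    (fun i => g ((e.symm i : T) : Place k K)) (fun _ => 0)
  refine ⟨y, fun Q hQ => ?_⟩
  rw [map_sub, AdeleRing.proj_diag, AdeleRing.proj_apply]
  by_cases hQT : Q ∈ T
  · have := hy1 (e ⟨Q, hQT⟩)
    simp only [Equiv.symm_apply_apply, neg_zero, WithZero.exp_zero] at this
    have h1 : toKv Q (g Q - y) ∈ Ov Q := by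
      rw [toKv_mem_Ov, ← Valuation.map_neg, neg_sub, this]
    have : a.1 Q - toKv Q y = (a.1 Q - toKv Q (g Q)) + toKv Q (g Q - y) := by
      rw [map_sub]; ring
    rw [this]
    exact add_mem (hg Q) h1
  · have hQa : a.1 Q ∈ Ov Q := by
      by_contra hcon
      apply hQT
      rw [hT, Finset.mem_erase]
      exact ⟨hQ, by simpa using hcon⟩
    have hQy : Q.1 y ≤ 1 := by
      apply hy2 Q hQ
      rintro ⟨i, hi⟩
      apply hQT
      rw [← hi]
      exact (e.symm i).2
    exact sub_mem hQa ((toKv_mem_Ov Q y).2 hQy)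

end Groth.Agent.Lib.LeadAD
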