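import Groth.Agent.Lib.LeadHY1

/-! Hyperelliptic function fields: `L(n (x)_∞) ∩ k(x)` consists of polynomials of degree `≤ n`. -/

namespace Groth.Agent.Lib.LeadHY

open Polynomial IntermediateField FunFld WithZero Groth.Agent.Lib.LeadFF Groth.Agent.Lib.LeadWD

universe u v
variable {k : Type u} {K : Type v} [Field k] [Field K] [Algebra k K]

lemma exists_pole (hK : IsFunctionField k K) {x : K} (hx : Transcendental k x) :
    ∃ P : Place k K, 1 < P.1 x := by
  have hx' : Transcendental k x⁻¹ := by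
    intro h
    exact hx (by simpa using h.inv)
  obtain ⟨P, hP⟩ := exists_place_lt_one hK hx'
  refine ⟨P, ?_⟩
  rw [map_inv₀] at hP
  have h0 : P.1 x ≠ 0 := by
    intro h
    have hx0 : x = 0 := by rwa [map_eq_zero] at h
    apply hx
    rw [hx0]
    exact isAlgebraic_zero
  by_contra hle
  rw [not_lt] at hle
  have : 1 ≤ (P.1 x)⁻¹ := (one_le_inv₀ (zero_lt_iff.mpr h0)).mpr hle
  exact not_lt.mpr this hP

/-- a rational function in `x` without poles at the places where `x` is finite is a polynomial. -/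
lemma polynomial_of_no_finite_poles (hK : IsFunctionField k K) {x : K} (hx : Transcendental k x)
    {u : K} (hu : u ∈ k⟮x⟯) (hfin : ∀ P : Place k K, P.1 x ≤ 1 → P.1 u ≤ 1) :
    ∃ p : k[X], u = aeval x p := by
  obtain ⟨p, q, hq0, hcop, hpq⟩ := exists_coprime_repr hx hu
  by_cases hqu : IsUnit q
  · obtain ⟨c, hc, rfl⟩ := Polynomial.isUnit_iff.mp hqu
    have hc0 : c ≠ 0 := hc.ne_zero
    refine ⟨C c⁻¹ * p, ?_⟩
    rw [map_mul, aeval_C, ← hpq, aeval_C]
    have : algebraMap k K c ≠ 0 := by
      rw [Ne, map_eq_zero_iff _ (algebraMap k K).injective]; exact hc0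
    rw [map_inv₀]
    field_simp
  · exfalso
    obtain ⟨π, hπirr, hπdvd⟩ := WfDvdMonoid.exists_irreducible_factor hqu hq0
    have hπdeg : π.natDegree ≠ 0 := by
      intro h0
      have := eq_C_of_natDegree_eq_zero h0
      rw [this] at hπirr
      have hne : π.coeff 0 ≠ 0 := by
        intro h; rw [h, map_zero] at hπirr; exact not_irreducible_zero hπirr
      exact hπirr.not_isUnit (isUnit_C.mpr (IsUnit.mk0 _ hne))
    have hπ0 : π ≠ 0 := hπirr.ne_zero
    have hπtr : Transcendental k (aeval x π) := hx.aeval π hπdeg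
      (mem_nonZeroDivisors_of_ne_zero (leadingCoeff_ne_zero.mpr hπ0))
    obtain ⟨P, hP⟩ := exists_place_lt_one hK hπtr
    have hxle : P.1 x ≤ 1 := by
      by_contra hgt
      rw [not_le] at hgt
      rw [val_aeval_of_pole P hgt π hπ0] at hP
      exact not_lt.mpr (one_le_pow₀ hgt.le) hP
    obtain ⟨q', rfl⟩ := hπdvd
    have hq1 : P.1 (aeval x (π * q')) < 1 := by
      rw [map_mul, map_mul]
      calc P.1 (aeval x π) * P.1 (aeval x q') ≤ P.1 (aeval x π) * 1 :=
            mul_le_mul' le_rfl (val_aeval_le_one P hxle q')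
        _ = P.1 (aeval x π) := mul_one _
        _ < 1 := hP
    have hp1 : P.1 (aeval x p) < 1 := by
      rw [← hpq, map_mul]
      calc P.1 u * P.1 (aeval x (π * q')) ≤ 1 * P.1 (aeval x (π * q')) :=
            mul_le_mul' (hfin P hxle) le_rfl
        _ = P.1 (aeval x (π * q')) := one_mul _
        _ < 1 := hq1
    have hcop' : IsCoprime p π := hcop.of_mul_right_left
    obtain ⟨a, b, hab⟩ := hcop'
    have h1 := congrArg (aeval x) hab
    rw [map_add, map_mul, map_mul, map_one] at h1
    have h2 : P.1 (aeval x a * aeval x p + aeval x b * aeval x π) < 1 := by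
      refine lt_of_le_of_lt (P.1.map_add _ _) (max_lt ?_ ?_)
      · rw [map_mul]
        calc P.1 (aeval x a) * P.1 (aeval x p) ≤ 1 * P.1 (aeval x p) :=
              mul_le_mul' (val_aeval_le_one P hxle a) le_rfl
          _ = P.1 (aeval x p) := one_mul _
          _ < 1 := hp1
      · rw [map_mul]
        calc P.1 (aeval x b) * P.1 (aeval x π) ≤ 1 * P.1 (aeval x π) :=
              mul_le_mul' (val_aeval_le_one P hxle b) le_rfl
          _ = P.1 (aeval x π) := one_mul _
          _ < 1 := hP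
    rw [h1, map_one] at h2
    exact lt_irrefl _ h2

/-- `L(n (x)_∞) ∩ k(x)`. -/
theorem mem_L_inter (hK : IsFunctionField k K) {x : K} (hx : Transcendental k x) (n : ℕ)
    {u : K} (hu : u ∈ k⟮x⟯) (huL : u ∈ L ((n : ℤ) • zdiv k x⁻¹)) :
    ∃ p : k[X], p.natDegree ≤ n ∧ u = aeval x p := by
  have hfin : ∀ P : Place k K, P.1 x ≤ 1 → P.1 u ≤ 1 := by
    intro P hP
    have := huL P
    rwa [exp_pole_of_le_one hK n P hP, exp_zero] at this
  obtain ⟨p, rfl⟩ := polynomial_of_no_finite_poles hK hx hu hfin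
  refine ⟨p, ?_, rfl⟩
  by_cases hp0 : p = 0
  · rw [hp0]; simp
  · obtain ⟨P, hP⟩ := exists_pole hK hx
    have := huL P
    rw [exp_pole_of_pole hK n P hP, val_aeval_of_pole P hP p hp0] at this
    exact (pow_le_pow_iff_right₀ hP).mp this

end Groth.Agent.Lib.LeadHY
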