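import Groth.Agent.Lib.LeadFF44
import Groth.Agent.Lib.LeadHY2

/-! Artin–Schreier curves `y² + y = f(x)` in characteristic 2 with poles at a finite set `B`:
orders of `y (x - α)^j` (S19045). -/

namespace Groth.Agent.Lib.LeadAS

open FunFld WithZero Polynomial Groth.Agent.Lib.LeadFF

universe u v
variable {k : Type u} {K : Type v} [Field k] [Field K] [Algebra k K] [Algebra (RatFunc k) K]
  [IsScalarTower k (RatFunc k) K]

lemma xsub_eq (α : k) : algebraMap (RatFunc k) K RatFunc.X - algebraMap k K α =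
    algebraMap (RatFunc k) K (RatFunc.X - RatFunc.C α) := by
  rw [map_sub, IsScalarTower.algebraMap_apply k (RatFunc k) K, RatFunc.algebraMap_eq_C]

lemma ord_eq_of_val {L : Type*} [Field L] [Algebra k L] (P : Place k L) {z : L} {c : ℤ}
    (h : P.1 z = exp c) : P.ord z = -c := by
  unfold Place.ord
  rw [h, log_exp]

/-- `y` is integral where `f` is. -/
lemma val_y_le_one {P : Place k K} {p : Place k (RatFunc k)} {e : ℕ} (he : IsOverWith P p e)
    {y : K} {f : RatFunc k} (heq : y ^ 2 + y = algebraMap (RatFunc k) K f) (hf : p.1 f ≤ 1) :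
    P.1 y ≤ 1 := by
  by_contra h
  rw [not_le] at h
  have h1 : P.1 y < P.1 (y ^ 2) := by
    rw [map_pow, pow_two]
    calc P.1 y = P.1 y * 1 := (mul_one _).symm
      _ < P.1 y * P.1 y := by
        apply mul_lt_mul_of_pos_left h
        exact lt_trans zero_lt_one h
  have h2 : P.1 (y ^ 2 + y) = P.1 (y ^ 2) := Valuation.map_add_eq_of_lt_left _ h1
  rw [heq, he f] at h2
  have h3 : P.1 (y ^ 2) ≤ 1 := by rw [← h2]; exact pow_le_one₀ zero_le' hf
  exact absurd (lt_trans h h1) (not_lt.mpr h3)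

/-- at a totally ramified pole, `v_P(y) = v_p(f)`. -/
lemma val_y_eq_of_pole {P : Place k K} {p : Place k (RatFunc k)} (he : IsOverWith P p 2)
    {y : K} {f : RatFunc k} (heq : y ^ 2 + y = algebraMap (RatFunc k) K f) (hf : 1 < p.1 f) :
    P.1 y = p.1 f := by
  have hPf : P.1 (y ^ 2 + y) = p.1 f ^ 2 := by rw [heq, he f]
  have hy1 : 1 < P.1 y := by
    by_contra h
    rw [not_lt] at h
    have : P.1 (y ^ 2 + y) ≤ 1 := by
      refine (P.1.map_add _ _).trans (max_le ?_ h)
      rw [map_pow]; exact pow_le_one₀ zero_le' h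
    rw [hPf] at this
    exact absurd (one_lt_pow₀ hf (by norm_num)) (not_lt.mpr this)
  have h1 : P.1 y < P.1 (y ^ 2) := by
    rw [map_pow, pow_two]
    calc P.1 y = P.1 y * 1 := (mul_one _).symm
      _ < P.1 y * P.1 y := by
        apply mul_lt_mul_of_pos_left hy1
        exact lt_trans zero_lt_one hy1
  have h2 : P.1 (y ^ 2 + y) = P.1 (y ^ 2) := Valuation.map_add_eq_of_lt_left _ h1
  rw [hPf, map_pow] at h2
  exact ((pow_left_inj₀ zero_le' zero_le' (by norm_num : (2 : ℕ) ≠ 0)).mp h2).symm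

section RatPlaces
variable (p : Place k (RatFunc k))

lemma algMap_X_sub_C (α : k) : algebraMap k[X] (RatFunc k) (X - C α) = RatFunc.X - RatFunc.C α := by
  rw [map_sub, RatFunc.algebraMap_X, RatFunc.algebraMap_C]

/-- `X - α` is a uniformizer at its place. -/
lemma val_X_sub_C {α : k} (h : p.1 (RatFunc.X - RatFunc.C α) < 1) :
    p.1 (RatFunc.X - RatFunc.C α) = exp (-1 : ℤ) := by
  rw [← algMap_X_sub_C] at h ⊢
  exact val_irreducible p (irreducible_X_sub_C α) h

lemma val_X_sub_C_other {α β : k} (h : p.1 (RatFunc.X - RatFunc.C α) < 1) (hne : β ≠ α) :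
    p.1 (RatFunc.X - RatFunc.C β) = 1 := by
  rw [← algMap_X_sub_C] at h ⊢
  apply val_poly_eq_one_of_not_dvd p (irreducible_X_sub_C α) h
  intro hdvd
  rw [dvd_iff_isRoot] at hdvd
  simp only [IsRoot, eval_sub, eval_X, eval_C] at hdvd
  exact hne (sub_eq_zero.mp hdvd).symm

lemma val_X_sub_C_infty {β : k} (h : 1 < p.1 RatFunc.X) :
    p.1 (RatFunc.X - RatFunc.C β) = p.1 RatFunc.X := by
  have hC : p.1 (RatFunc.C β) ≤ 1 := by
    rw [← RatFunc.algebraMap_eq_C]; exact p.2.1 β
  rw [sub_eq_add_neg]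
  apply Valuation.map_add_eq_of_lt_left
  rw [Valuation.map_neg]
  exact lt_of_le_of_lt hC h

end RatPlaces

section Conj

/-- the conjugate of a place under an automorphism. -/
def conjPlace (σ : K ≃ₐ[k] K) (P : Place k K) : Place k K :=
  ⟨P.1.comap (σ : K →+* K), fun c => by
      rw [Valuation.comap_apply]
      have : (σ : K →+* K) (algebraMap k K c) = algebraMap k K c := σ.commutes c
      rw [this]; exact P.2.1 c,
    fun γ => by
      obtain ⟨z, hz⟩ := P.2.2 γ
      refine ⟨σ.symm z, ?_⟩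
      rw [Valuation.comap_apply]
      have : (σ : K →+* K) (σ.symm z) = z := σ.apply_symm_apply z
      rw [this, hz]⟩

lemma conjPlace_apply (σ : K ≃ₐ[k] K) (P : Place k K) (z : K) :
    (conjPlace σ P).1 z = P.1 (σ z) := rfl

variable [CharP k 2]

variable (k) in
include k in
lemma two_eq_zero_K : (2 : K) = 0 := by
  have h2k : (2 : k) = 0 := CharTwo.two_eq_zero
  have : (2 : K) = algebraMap k K 2 := by rw [map_ofNat]
  rw [this, h2k, map_zero]

lemma minpoly_as {z : K} {f : RatFunc k} (hdeg : Module.finrank (RatFunc k) K = 2)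
    (hz : z ∉ Set.range (algebraMap (RatFunc k) K))
    (heq : z ^ 2 + z = algebraMap (RatFunc k) K f) :
    minpoly (RatFunc k) z = X ^ 2 + X - C f := by
  haveI : FiniteDimensional (RatFunc k) K :=
    Module.finite_of_finrank_pos (by rw [hdeg]; norm_num)
  have hint : IsIntegral (RatFunc k) z := Algebra.IsIntegral.isIntegral z
  set q : (RatFunc k)[X] := X ^ 2 + X - C f with hq
  have hqm : q.Monic := by
    rw [hq, add_sub_assoc]
    apply Monic.add_of_left (monic_X_pow 2)
    rw [degree_X_pow]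
    refine lt_of_le_of_lt (degree_sub_le _ _) (max_lt ?_ ?_)
    · rw [degree_X]; norm_num
    · exact lt_of_le_of_lt degree_C_le (by norm_num)
  have hqd : q.natDegree = 2 := by
    rw [hq, add_sub_assoc]
    rw [natDegree_add_eq_left_of_degree_lt, natDegree_X_pow]
    rw [degree_X_pow]
    refine lt_of_le_of_lt (degree_sub_le _ _) (max_lt ?_ ?_)
    · rw [degree_X]; norm_num
    · exact lt_of_le_of_lt degree_C_le (by norm_num)
  have hq0 : aeval z q = 0 := by
    rw [hq]; simp only [map_sub, map_add, map_pow, aeval_X, aeval_C]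
    rw [heq, sub_self]
  have hdvd : minpoly (RatFunc k) z ∣ q := minpoly.dvd _ _ hq0
  have h2 : 2 ≤ (minpoly (RatFunc k) z).natDegree :=
    (minpoly.two_le_natDegree_iff hint).mpr hz
  exact (eq_of_monic_of_dvd_of_natDegree_le (minpoly.monic hint) hqm hdvd (by rw [hqd]; exact h2)).symm

/-- the nontrivial automorphism `y ↦ y + 1`. -/
lemma exists_conj {y : K} {f : RatFunc k} (hdeg : Module.finrank (RatFunc k) K = 2)
    (hy : y ∉ Set.range (algebraMap (RatFunc k) K))
    (heq : y ^ 2 + y = algebraMap (RatFunc k) K f) :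
    ∃ σ : K ≃ₐ[RatFunc k] K, σ y = y + 1 := by
  haveI : Algebra.IsQuadraticExtension (RatFunc k) K := { finrank_eq_two' := hdeg }
  have h2 : (2 : K) = 0 := two_eq_zero_K k
  have heq' : (y + 1) ^ 2 + (y + 1) = algebraMap (RatFunc k) K f := by
    rw [← heq]
    have : (y + 1) ^ 2 + (y + 1) = y ^ 2 + y + 2 * (y + 1) := by ring
    rw [this, h2, zero_mul, add_zero]
  have hy' : y + 1 ∉ Set.range (algebraMap (RatFunc k) K) := by
    rintro ⟨a, ha⟩
    exact hy ⟨a - 1, by rw [map_sub, ha, map_one]; ring⟩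
  have hconj : IsConjRoot (RatFunc k) (y + 1) y := by
    rw [IsConjRoot, minpoly_as hdeg hy' heq', minpoly_as hdeg hy heq]
  exact hconj.exists_algEquiv

end Conj

end Groth.Agent.Lib.LeadAS
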