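import Groth.Agent.Lib.LeadAS9

/-! The family satisfies the pole bounds (for S19044). -/

namespace Groth.Agent.Lib.LeadAS

open FunFld WithZero Polynomial Groth.Agent.Lib.LeadFF

universe u
variable {k : Type u} [Field k]

lemma val_tinv_le_exp_one (p : Place k (RatFunc k)) {α : k}
    (hp : p.1 (RatFunc.X - RatFunc.C α) < 1) (β : k) : p.1 (tinv β) ≤ exp (1 : ℤ) := by
  by_cases hβ : β = α
  · rw [hβ]
    have := val_tinv_pow_at p hp 1
    rw [pow_one] at this
    rw [this]; simp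
  · have h1 : p.1 (RatFunc.X - RatFunc.C β) = 1 := val_X_sub_C_other p hp hβ
    have := val_tinv_pow_le_one p h1.ge 1
    rw [pow_one] at this
    refine this.trans ?_
    rw [← exp_zero, exp_le_exp]; norm_num

theorem Bd_fam1 (B : Finset k) (d : k → ℕ) (hd : ∀ β ∈ B, Odd (d β))
    (a : {a : ↥B × ℕ // 1 ≤ a.2 ∧ 2 * a.2 + 1 ≤ d (a.1 : k)}) : Bd B d (fam1 B d a) := by
  rw [fam1_eq]
  obtain ⟨⟨⟨α₀, hα₀⟩, j⟩, hj1, hj2⟩ := a
  simp only at hj1 hj2 ⊢
  refine ⟨fun α hα p hp => ?_, fun p _ hB => val_tinv_pow_le_one p (hB α₀ hα₀) _,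
    fun p hp => ?_⟩
  · by_cases hαα : α₀ = α
    · subst hαα
      rw [val_tinv_pow_at p hp, ← exp_nsmul, exp_le_exp]
      simp only [smul_eq_mul, nsmul_eq_mul]
      push_cast
      have : (2 * j + 1 : ℤ) ≤ (d α₀ : ℤ) := by exact_mod_cast hj2
      linarith
    · have h1 : p.1 (RatFunc.X - RatFunc.C α₀) = 1 := val_X_sub_C_other p hp hαα
      have h2 := val_tinv_pow_le_one p h1.ge (j + 1)
      refine (pow_le_one₀ zero_le' h2).trans ?_
      rw [← exp_zero, exp_le_exp]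
      positivity
  · rw [val_tinv_pow_infty p hp, exp_le_exp]
    push_cast
    have : (1 : ℤ) ≤ j := by exact_mod_cast hj1
    linarith

theorem Bd_fam2 (B : Finset k) (h0 : (0 : k) ∈ B) (d : k → ℕ) (hd : ∀ β ∈ B, Odd (d β))
    (b : {b : ↥B // (b : k) ≠ 0}) : Bd B d (fam2 B b) := by
  rw [fam2_eq]
  refine ⟨fun α hα p hp => ?_, fun p _ hB => ?_, fun p hp => val_tinv_sub_infty p hp _⟩
  · have h1 : p.1 (tinv (b.1 : k) - tinv 0) ≤ exp (1 : ℤ) :=
      (Valuation.map_sub _ _ _).trans (max_le (val_tinv_le_exp_one p hp _)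
        (val_tinv_le_exp_one p hp _))
    have h2 : p.1 (tinv (b.1 : k) - tinv 0) ^ 2 ≤ exp (1 : ℤ) ^ 2 :=
      pow_le_pow_left₀ zero_le' h1 2
    refine h2.trans ?_
    rw [← exp_nsmul, exp_le_exp]
    have : 1 ≤ d α := (hd α hα).pos
    simp only [smul_eq_mul, nsmul_eq_mul]
    push_cast
    have : (1 : ℤ) ≤ d α := by exact_mod_cast this
    linarith
  · refine (Valuation.map_sub _ _ _).trans (max_le ?_ ?_)
    · have := val_tinv_pow_le_one p (hB (b.1 : k) b.1.2) 1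
      rwa [pow_one] at this
    · have := val_tinv_pow_le_one p (hB 0 h0) 1
      rwa [pow_one] at this

end Groth.Agent.Lib.LeadAS
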