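import Mathlib

/-! Tate's trace of finite-potent endomorphisms. -/

set_option autoImplicit false

namespace Groth.Agent.Lib.LeadTR
open LinearMap Module

variable {k : Type*} {V : Type*} [Field k] [AddCommGroup V] [Module k V]

/-- a finite-potent endomorphism: some power has finite rank. -/
def FinPot (θ : Module.End k V) : Prop :=
  ∃ n : ℕ, FiniteDimensional k (LinearMap.range (θ ^ n))

lemma range_pow_stable (θ : Module.End k V) (n : ℕ) :
    ∀ x ∈ LinearMap.range (θ ^ n), θ x ∈ LinearMap.range (θ ^ n) := by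
  rintro _ ⟨y, rfl⟩
  refine ⟨θ y, ?_⟩
  rw [← Module.End.mul_apply, ← Module.End.mul_apply, ← pow_succ, ← pow_succ']

open Classical in
/-- Tate's trace. -/
noncomputable def Tr (θ : Module.End k V) : k :=
  if h : FinPot θ then
    LinearMap.trace k (LinearMap.range (θ ^ (Nat.find h)))
      (θ.restrict (range_pow_stable θ (Nat.find h)))
  else 0

/-- one step: if `θ W₁ ⊆ W₂ ⊆ W₁` the traces agree. -/
lemma trace_restrict_step (θ : Module.End k V) (W₁ W₂ : Submodule k V)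
    [FiniteDimensional k W₁] [FiniteDimensional k W₂] (h21 : W₂ ≤ W₁)
    (h12 : ∀ x ∈ W₁, θ x ∈ W₂) (hs1 : ∀ x ∈ W₁, θ x ∈ W₁) (hs2 : ∀ x ∈ W₂, θ x ∈ W₂) :
    LinearMap.trace k W₁ (θ.restrict hs1) = LinearMap.trace k W₂ (θ.restrict hs2) := by
  let a : W₁ →ₗ[k] W₂ := θ.restrict h12
  let ι : W₂ →ₗ[k] W₁ := Submodule.inclusion h21
  have e1 : θ.restrict hs1 = ι ∘ₗ a := by
    ext x; rfl
  have e2 : θ.restrict hs2 = a ∘ₗ ι := by
    ext x; rfl
  rw [e1, e2, LinearMap.trace_comp_comm']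

lemma trace_restrict_congr (θ : Module.End k V) {W₁ W₂ : Submodule k V} (h : W₁ = W₂)
    [FiniteDimensional k W₁] [FiniteDimensional k W₂]
    (hs1 : ∀ x ∈ W₁, θ x ∈ W₁) (hs2 : ∀ x ∈ W₂, θ x ∈ W₂) :
    LinearMap.trace k W₁ (θ.restrict hs1) = LinearMap.trace k W₂ (θ.restrict hs2) := by
  subst h; rfl

/-- if `θ^j W₁ ⊆ W₂ ⊆ W₁` (both stable) the traces agree. -/
lemma trace_restrict_pow (θ : Module.End k V) (j : ℕ) :
    ∀ (W₁ W₂ : Submodule k V) [FiniteDimensional k W₁] [FiniteDimensional k W₂] (_ : W₂ ≤ W₁)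
    (_ : ∀ x ∈ W₁, (θ ^ j) x ∈ W₂) (hs1 : ∀ x ∈ W₁, θ x ∈ W₁) (hs2 : ∀ x ∈ W₂, θ x ∈ W₂),
    LinearMap.trace k W₁ (θ.restrict hs1) = LinearMap.trace k W₂ (θ.restrict hs2) := by
  induction j with
  | zero =>
    intro W₁ W₂ _ _ h21 h12 hs1 hs2
    have : W₁ = W₂ := le_antisymm (fun x hx => by simpa using h12 x hx) h21
    exact trace_restrict_congr θ this hs1 hs2
  | succ j ih =>
    intro W₁ W₂ _ _ h21 h12 hs1 hs2
    set W' : Submodule k V := W₂ ⊔ W₁.map θ with hW'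
    have hmap : W₁.map θ ≤ W₁ := by
      rintro _ ⟨x, hx, rfl⟩; exact hs1 x hx
    have hW'1 : W' ≤ W₁ := sup_le h21 hmap
    haveI : FiniteDimensional k W' := Submodule.finiteDimensional_of_le hW'1
    have hsW' : ∀ x ∈ W', θ x ∈ W' := by
      intro x hx
      obtain ⟨y, hy, z, hz, rfl⟩ := Submodule.mem_sup.1 hx
      rw [map_add]
      refine Submodule.add_mem _ (Submodule.mem_sup_left (hs2 y hy)) (Submodule.mem_sup_right ?_)
      exact ⟨z, hmap hz, rfl⟩
    have h1 : LinearMap.trace k W₁ (θ.restrict hs1) = LinearMap.trace k W' (θ.restrict hsW') :=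
      trace_restrict_step θ W₁ W' hW'1
        (fun x hx => Submodule.mem_sup_right ⟨x, hx, rfl⟩) hs1 hsW'
    rw [h1]
    apply ih W' W₂ le_sup_left _ hsW' hs2
    intro x hx
    obtain ⟨y, hy, z, hz, rfl⟩ := Submodule.mem_sup.1 hx
    rw [map_add]
    refine Submodule.add_mem _ ?_ ?_
    · -- θ^j y ∈ W₂ as W₂ stable
      have : ∀ m : ℕ, (θ ^ m) y ∈ W₂ := by
        intro m
        induction m with
        | zero => simpa using hy
        | succ m ihm => rw [pow_succ', Module.End.mul_apply]; exact hs2 _ ihm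
      exact this j
    · obtain ⟨w, hw, rfl⟩ := hz
      have := h12 w hw
      rwa [pow_succ, Module.End.mul_apply] at this

lemma range_pow_le_of_le (θ : Module.End k V) {m n : ℕ} (h : m ≤ n) :
    LinearMap.range (θ ^ n) ≤ LinearMap.range (θ ^ m) := by
  rintro _ ⟨y, rfl⟩
  obtain ⟨d, rfl⟩ := Nat.exists_eq_add_of_le h
  exact ⟨(θ ^ d) y, by rw [pow_add, Module.End.mul_apply]⟩

/-- `Tr θ` is the trace of `θ` on any stable finite-dimensional `W` containing some `range θ^n`. -/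
theorem Tr_eq (θ : Module.End k V) (W : Submodule k V) [FiniteDimensional k W]
    (hst : ∀ x ∈ W, θ x ∈ W) (n : ℕ) (hn : LinearMap.range (θ ^ n) ≤ W) :
    Tr θ = LinearMap.trace k W (θ.restrict hst) := by
  classical
  haveI hfdn : FiniteDimensional k (LinearMap.range (θ ^ n)) := Submodule.finiteDimensional_of_le hn
  have h : FinPot θ := ⟨n, hfdn⟩
  rw [Tr, dif_pos h]
  have hm : Nat.find h ≤ n := Nat.find_min' h hfdn
  haveI : FiniteDimensional k (LinearMap.range (θ ^ (Nat.find h))) := Nat.find_spec h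
  have hle := range_pow_le_of_le θ hm
  rw [trace_restrict_pow θ n (LinearMap.range (θ ^ (Nat.find h))) (LinearMap.range (θ ^ n)) hle
      (fun x _ => ⟨x, rfl⟩) (range_pow_stable θ _) (range_pow_stable θ n),
    trace_restrict_pow θ n W (LinearMap.range (θ ^ n)) hn
      (fun x _ => ⟨x, rfl⟩) hst (range_pow_stable θ n)]

theorem Tr_of_nilpotent (θ : Module.End k V) (n : ℕ) (h : θ ^ n = 0) : Tr θ = 0 := by
  have hr : LinearMap.range (θ ^ n) ≤ (⊥ : Submodule k V) := by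
    rw [h]; simp
  rw [Tr_eq θ ⊥ (by intro x hx; simp only [Submodule.mem_bot] at hx ⊢; rw [hx, map_zero]) n hr]
  have : (θ.restrict (p := (⊥ : Submodule k V)) (q := ⊥)
      (by intro x hx; simp only [Submodule.mem_bot] at hx ⊢; rw [hx, map_zero])) = 0 := by
    apply LinearMap.ext
    intro x
    exact Subsingleton.elim _ _
  rw [this, map_zero]

theorem Tr_smul (c : k) (θ : Module.End k V) (h : FinPot θ) : Tr (c • θ) = c * Tr θ := by
  obtain ⟨n, hn⟩ := h
  haveI := hn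
  set W := LinearMap.range (θ ^ n)
  have hst : ∀ x ∈ W, θ x ∈ W := range_pow_stable θ n
  have hst' : ∀ x ∈ W, (c • θ) x ∈ W := fun x hx => by
    rw [LinearMap.smul_apply]; exact W.smul_mem c (hst x hx)
  have hr : LinearMap.range ((c • θ) ^ n) ≤ W := by
    rintro _ ⟨y, rfl⟩
    rw [smul_pow, LinearMap.smul_apply]
    exact W.smul_mem _ ⟨y, rfl⟩
  rw [Tr_eq (c • θ) W hst' n hr, Tr_eq θ W hst n le_rfl]
  have : (c • θ).restrict hst' = c • θ.restrict hst := by
    ext x; rfl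
  rw [this, map_smul, smul_eq_mul]

/-- `Tr (fg) = Tr (gf)`. -/
theorem Tr_comm {V' : Type*} [AddCommGroup V'] [Module k V'] (f : V' →ₗ[k] V) (g : V →ₗ[k] V')
    (h : FinPot (f ∘ₗ g)) : Tr (f ∘ₗ g) = Tr (g ∘ₗ f) := by
  obtain ⟨n, hn⟩ := h
  haveI := hn
  set θ : Module.End k V := f ∘ₗ g with hθ
  set ξ : Module.End k V' := g ∘ₗ f with hξ
  set W := LinearMap.range (θ ^ n) with hW
  set W' := W.map g with hW'
  haveI : FiniteDimensional k W' := by
    rw [hW']; infer_instance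
  have hst : ∀ x ∈ W, θ x ∈ W := range_pow_stable θ n
  have hfW' : ∀ x ∈ W', f x ∈ W := by
    rintro _ ⟨y, hy, rfl⟩
    exact hst y hy
  have hgW : ∀ x ∈ W, g x ∈ W' := fun x hx => ⟨x, hx, rfl⟩
  have hst' : ∀ x ∈ W', ξ x ∈ W' := fun x hx => hgW _ (hfW' x hx)
  have hpow : ∀ m : ℕ, ξ ^ (m + 1) = g ∘ₗ (θ ^ m) ∘ₗ f := by
    intro m
    induction m with
    | zero => simp [hξ]; rfl
    | succ m ih =>
      rw [pow_succ, ih, pow_succ]
      ext x
      simp [hξ, hθ, Module.End.mul_apply]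
  have hr : LinearMap.range (ξ ^ (n + 1)) ≤ W' := by
    rintro _ ⟨y, rfl⟩
    rw [hpow n]
    exact ⟨(θ ^ n) (f y), ⟨f y, rfl⟩, rfl⟩
  rw [Tr_eq θ W hst n le_rfl, Tr_eq ξ W' hst' (n + 1) hr]
  let a : W →ₗ[k] W' := g.restrict hgW
  let b : W' →ₗ[k] W := f.restrict hfW'
  have e1 : θ.restrict hst = b ∘ₗ a := by ext x; rfl
  have e2 : ξ.restrict hst' = a ∘ₗ b := by ext x; rfl
  rw [e1, e2, LinearMap.trace_comp_comm']

end Groth.Agent.Lib.LeadTR
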