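import Mathlib
import Groth.Agent.Lib.LeadTR1

/-! Near-inclusions, the algebras `E, E₁, E₂, E₀` and linearity of Tate's trace on `E₀`. -/

set_option autoImplicit false

namespace Groth.Agent.Lib.LeadTR
open LinearMap Module

variable {k : Type*} {V : Type*} [Field k] [AddCommGroup V] [Module k V]

/-- `X ≺ Y`: `X ⊆ Y + W` with `W` finite dimensional. -/
def Nle (X Y : Submodule k V) : Prop :=
  ∃ W : Submodule k V, FiniteDimensional k W ∧ X ≤ Y ⊔ W

lemma Nle.of_le {X Y : Submodule k V} (h : X ≤ Y) : Nle X Y :=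
  ⟨⊥, inferInstance, h.trans le_sup_left⟩

lemma Nle.refl (X : Submodule k V) : Nle X X := Nle.of_le le_rfl

lemma Nle.trans {X Y Z : Submodule k V} (h1 : Nle X Y) (h2 : Nle Y Z) : Nle X Z := by
  obtain ⟨W₁, hW₁, h1⟩ := h1
  obtain ⟨W₂, hW₂, h2⟩ := h2
  haveI := hW₁
  haveI := hW₂
  refine ⟨W₂ ⊔ W₁, inferInstance, h1.trans ?_⟩
  rw [← sup_assoc]
  exact sup_le_sup_right h2 _

lemma Nle.mono_left {X X' Y : Submodule k V} (h : X' ≤ X) (h1 : Nle X Y) : Nle X' Y :=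
  (Nle.of_le h).trans h1

lemma Nle.mono_right {X Y Y' : Submodule k V} (h1 : Nle X Y) (h : Y ≤ Y') : Nle X Y' :=
  h1.trans (Nle.of_le h)

lemma Nle.map {V' : Type*} [AddCommGroup V'] [Module k V'] {X Y : Submodule k V} (h : Nle X Y)
    (θ : V →ₗ[k] V') : Nle (X.map θ) (Y.map θ) := by
  obtain ⟨W, hW, h⟩ := h
  haveI := hW
  refine ⟨W.map θ, inferInstance, ?_⟩
  rw [← Submodule.map_sup]
  exact Submodule.map_mono h

lemma Nle.sup {X₁ X₂ Y : Submodule k V} (h1 : Nle X₁ Y) (h2 : Nle X₂ Y) : Nle (X₁ ⊔ X₂) Y := by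
  obtain ⟨W₁, hW₁, h1⟩ := h1
  obtain ⟨W₂, hW₂, h2⟩ := h2
  haveI := hW₁
  haveI := hW₂
  refine ⟨W₁ ⊔ W₂, inferInstance, sup_le ?_ ?_⟩
  · exact h1.trans (sup_le_sup_left le_sup_left _)
  · exact h2.trans (sup_le_sup_left le_sup_right _)

lemma Nle.of_finiteDimensional (X Y : Submodule k V) [FiniteDimensional k X] : Nle X Y :=
  ⟨X, inferInstance, le_sup_right⟩

lemma nle_bot_iff {X : Submodule k V} : Nle X ⊥ ↔ FiniteDimensional k X := by
  constructor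
  · rintro ⟨W, hW, h⟩
    haveI := hW
    rw [bot_sup_eq] at h
    exact Submodule.finiteDimensional_of_le h
  · intro h
    exact Nle.of_finiteDimensional X ⊥

variable (A : Submodule k V)

/-- `θ A ≺ A`. -/
def InE (θ : Module.End k V) : Prop := Nle (A.map θ) A
/-- `θ V ≺ A`. -/
def InE1 (θ : Module.End k V) : Prop := Nle (LinearMap.range θ) A
/-- `θ A ≺ 0`. -/
def InE2 (θ : Module.End k V) : Prop := FiniteDimensional k (A.map θ)

variable {A}

lemma InE1.inE {θ : Module.End k V} (h : InE1 A θ) : InE A θ :=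
  Nle.mono_left (by rintro _ ⟨x, _, rfl⟩; exact ⟨x, rfl⟩) h

lemma InE2.inE {θ : Module.End k V} (h : InE2 A θ) : InE A θ := by
  haveI : FiniteDimensional k (A.map θ) := h
  exact Nle.of_finiteDimensional _ _

lemma inE_one : InE A (1 : Module.End k V) := by
  show Nle (A.map LinearMap.id) A
  rw [Submodule.map_id]
  exact Nle.refl A

lemma map_mul_eq (θ ξ : Module.End k V) (X : Submodule k V) :
    X.map (θ * ξ) = (X.map ξ).map θ := by
  rw [← Submodule.map_comp]; rfl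

lemma range_mul_eq (θ ξ : Module.End k V) :
    LinearMap.range (θ * ξ) = (LinearMap.range ξ).map θ := by
  rw [Module.End.mul_eq_comp, LinearMap.range_comp]

lemma InE.mul {θ ξ : Module.End k V} (h1 : InE A θ) (h2 : InE A ξ) : InE A (θ * ξ) := by
  show Nle (A.map (θ * ξ)) A
  rw [map_mul_eq]
  exact (Nle.map h2 θ).trans h1

lemma InE.add {θ ξ : Module.End k V} (h1 : InE A θ) (h2 : InE A ξ) : InE A (θ + ξ) := by
  refine Nle.mono_left ?_ (Nle.sup h1 h2)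
  rintro _ ⟨x, hx, rfl⟩
  exact Submodule.add_mem _ (Submodule.mem_sup_left ⟨x, hx, rfl⟩)
    (Submodule.mem_sup_right ⟨x, hx, rfl⟩)

lemma InE.smul (c : k) {θ : Module.End k V} (h1 : InE A θ) : InE A (c • θ) := by
  refine Nle.mono_left ?_ h1
  rintro _ ⟨x, hx, rfl⟩
  exact ⟨c • x, A.smul_mem c hx, by simp⟩

lemma InE.neg {θ : Module.End k V} (h1 : InE A θ) : InE A (-θ) := by
  have := InE.smul (-1 : k) h1
  simpa using this

lemma InE.sub {θ ξ : Module.End k V} (h1 : InE A θ) (h2 : InE A ξ) : InE A (θ - ξ) := by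
  rw [sub_eq_add_neg]; exact h1.add h2.neg

lemma InE1.add {θ ξ : Module.End k V} (h1 : InE1 A θ) (h2 : InE1 A ξ) : InE1 A (θ + ξ) := by
  refine Nle.mono_left ?_ (Nle.sup h1 h2)
  rintro _ ⟨x, rfl⟩
  exact Submodule.add_mem _ (Submodule.mem_sup_left ⟨x, rfl⟩) (Submodule.mem_sup_right ⟨x, rfl⟩)

lemma InE1.smul (c : k) {θ : Module.End k V} (h1 : InE1 A θ) : InE1 A (c • θ) := by
  refine Nle.mono_left ?_ h1
  rintro _ ⟨x, rfl⟩
  exact ⟨c • x, by simp⟩

lemma InE1.neg {θ : Module.End k V} (h1 : InE1 A θ) : InE1 A (-θ) := by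
  have := InE1.smul (-1 : k) h1
  simpa using this

lemma InE1.sub {θ ξ : Module.End k V} (h1 : InE1 A θ) (h2 : InE1 A ξ) : InE1 A (θ - ξ) := by
  rw [sub_eq_add_neg]; exact h1.add h2.neg

lemma InE2.add {θ ξ : Module.End k V} (h1 : InE2 A θ) (h2 : InE2 A ξ) : InE2 A (θ + ξ) := by
  haveI : FiniteDimensional k (A.map θ) := h1
  haveI : FiniteDimensional k (A.map ξ) := h2
  refine Submodule.finiteDimensional_of_le (S₂ := A.map θ ⊔ A.map ξ) ?_
  rintro _ ⟨x, hx, rfl⟩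
  exact Submodule.add_mem _ (Submodule.mem_sup_left ⟨x, hx, rfl⟩)
    (Submodule.mem_sup_right ⟨x, hx, rfl⟩)

lemma InE2.smul (c : k) {θ : Module.End k V} (h1 : InE2 A θ) : InE2 A (c • θ) := by
  haveI : FiniteDimensional k (A.map θ) := h1
  refine Submodule.finiteDimensional_of_le (S₂ := A.map θ) ?_
  rintro _ ⟨x, hx, rfl⟩
  exact ⟨c • x, A.smul_mem c hx, by simp⟩

lemma InE2.neg {θ : Module.End k V} (h1 : InE2 A θ) : InE2 A (-θ) := by
  have := InE2.smul (-1 : k) h1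
  simpa using this

lemma InE2.sub {θ ξ : Module.End k V} (h1 : InE2 A θ) (h2 : InE2 A ξ) : InE2 A (θ - ξ) := by
  rw [sub_eq_add_neg]; exact h1.add h2.neg

lemma InE1.mul_right {θ : Module.End k V} (h : InE1 A θ) (ξ : Module.End k V) :
    InE1 A (θ * ξ) := by
  refine Nle.mono_left ?_ h
  rintro _ ⟨x, rfl⟩
  exact ⟨ξ x, rfl⟩

lemma InE1.mul_left {θ : Module.End k V} (h : InE1 A θ) {ξ : Module.End k V} (hξ : InE A ξ) :
    InE1 A (ξ * θ) := by
  show Nle (LinearMap.range (ξ * θ)) A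
  rw [range_mul_eq]
  exact (Nle.map h ξ).trans hξ

lemma InE2.mul_right {θ : Module.End k V} (h : InE2 A θ) {ξ : Module.End k V} (hξ : InE A ξ) :
    InE2 A (θ * ξ) := by
  haveI : FiniteDimensional k (A.map θ) := h
  show FiniteDimensional k (A.map (θ * ξ))
  rw [map_mul_eq]
  obtain ⟨W, hW, hle⟩ := hξ
  haveI := hW
  refine Submodule.finiteDimensional_of_le (S₂ := A.map θ ⊔ W.map θ) ?_
  rw [← Submodule.map_sup]
  exact Submodule.map_mono hle

lemma InE2.mul_left {θ : Module.End k V} (h : InE2 A θ) (ξ : Module.End k V) :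
    InE2 A (ξ * θ) := by
  haveI : FiniteDimensional k (A.map θ) := h
  show FiniteDimensional k (A.map (ξ * θ))
  rw [map_mul_eq]
  infer_instance

/-- `E₂ · E₁` has finite rank. -/
lemma finiteDimensional_range_mul {θ ξ : Module.End k V} (h2 : InE2 A θ) (h1 : InE1 A ξ) :
    FiniteDimensional k (LinearMap.range (θ * ξ)) := by
  haveI : FiniteDimensional k (A.map θ) := h2
  rw [range_mul_eq]
  obtain ⟨W, hW, hle⟩ := h1
  haveI := hW
  refine Submodule.finiteDimensional_of_le (S₂ := A.map θ ⊔ W.map θ) ?_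
  rw [← Submodule.map_sup]
  exact Submodule.map_mono hle

variable (A) in
/-- `E₀ = E₁ ∩ E₂` as a submodule of `End V`. -/
def E0 : Submodule k (Module.End k V) where
  carrier := {θ | InE1 A θ ∧ InE2 A θ}
  add_mem' h1 h2 := ⟨h1.1.add h2.1, h1.2.add h2.2⟩
  zero_mem' := by
    refine ⟨Nle.of_le (by simp), ?_⟩
    show FiniteDimensional k (A.map (0 : Module.End k V))
    rw [Submodule.map_zero]; infer_instance
  smul_mem' c _ h := ⟨h.1.smul c, h.2.smul c⟩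

lemma mem_E0 {θ : Module.End k V} : θ ∈ E0 A ↔ InE1 A θ ∧ InE2 A θ := Iff.rfl

lemma E0.finPot {θ : Module.End k V} (h : θ ∈ E0 A) : FinPot θ :=
  ⟨2, by rw [pow_two]; exact finiteDimensional_range_mul h.2 h.1⟩

lemma E0.mul_left {θ : Module.End k V} (h : θ ∈ E0 A) {ξ : Module.End k V} (hξ : InE A ξ) :
    ξ * θ ∈ E0 A := ⟨h.1.mul_left hξ, h.2.mul_left ξ⟩

lemma E0.mul_right {θ : Module.End k V} (h : θ ∈ E0 A) {ξ : Module.End k V} (hξ : InE A ξ) :
    θ * ξ ∈ E0 A := ⟨h.1.mul_right ξ, h.2.mul_right hξ⟩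

/-- additivity of Tate's trace on `E₀`. -/
theorem Tr_add {θ ξ : Module.End k V} (hθ : θ ∈ E0 A) (hξ : ξ ∈ E0 A) :
    Tr (θ + ξ) = Tr θ + Tr ξ := by
  haveI h1 : FiniteDimensional k (LinearMap.range (θ * θ)) := finiteDimensional_range_mul hθ.2 hθ.1
  haveI h2 : FiniteDimensional k (LinearMap.range (θ * ξ)) := finiteDimensional_range_mul hθ.2 hξ.1
  haveI h3 : FiniteDimensional k (LinearMap.range (ξ * θ)) := finiteDimensional_range_mul hξ.2 hθ.1
  haveI h4 : FiniteDimensional k (LinearMap.range (ξ * ξ)) := finiteDimensional_range_mul hξ.2 hξ.1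
  set W : Submodule k V := LinearMap.range (θ * θ) ⊔ LinearMap.range (θ * ξ) ⊔
    LinearMap.range (ξ * θ) ⊔ LinearMap.range (ξ * ξ) with hW
  have hmem : ∀ (a b : Module.End k V), (a = θ ∨ a = ξ) → (b = θ ∨ b = ξ) → ∀ x, (a * b) x ∈ W := by
    intro a b ha hb x
    rcases ha with rfl | rfl <;> rcases hb with rfl | rfl
    · exact Submodule.mem_sup_left (Submodule.mem_sup_left (Submodule.mem_sup_left ⟨x, rfl⟩))
    · exact Submodule.mem_sup_left (Submodule.mem_sup_left (Submodule.mem_sup_right ⟨x, rfl⟩))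
    · exact Submodule.mem_sup_left (Submodule.mem_sup_right ⟨x, rfl⟩)
    · exact Submodule.mem_sup_right ⟨x, rfl⟩
  have hstab : ∀ (c : Module.End k V), (c = θ ∨ c = ξ) → ∀ x ∈ W, c x ∈ W := by
    intro c hc x hx
    have key : ∀ (a b : Module.End k V), (a = θ ∨ a = ξ) → (b = θ ∨ b = ξ) →
        ∀ y ∈ LinearMap.range (a * b), c y ∈ W := by
      rintro a b ha hb _ ⟨z, rfl⟩
      have := hmem c a hc ha (b z)
      simpa [Module.End.mul_apply] using this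
    rw [hW] at hx
    obtain ⟨y₁, hy₁, y₂, hy₂, rfl⟩ := Submodule.mem_sup.1 hx
    obtain ⟨y₃, hy₃, y₄, hy₄, rfl⟩ := Submodule.mem_sup.1 hy₁
    obtain ⟨y₅, hy₅, y₆, hy₆, rfl⟩ := Submodule.mem_sup.1 hy₃
    simp only [map_add]
    exact W.add_mem (W.add_mem (W.add_mem (key θ θ (Or.inl rfl) (Or.inl rfl) _ hy₅)
      (key θ ξ (Or.inl rfl) (Or.inr rfl) _ hy₆)) (key ξ θ (Or.inr rfl) (Or.inl rfl) _ hy₄))
      (key ξ ξ (Or.inr rfl) (Or.inr rfl) _ hy₂)
  have hstθ := hstab θ (Or.inl rfl)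
  have hstξ := hstab ξ (Or.inr rfl)
  have hstθξ : ∀ x ∈ W, (θ + ξ) x ∈ W := fun x hx => by
    rw [LinearMap.add_apply]; exact W.add_mem (hstθ x hx) (hstξ x hx)
  have hrθ : LinearMap.range (θ ^ 2) ≤ W := by
    rintro _ ⟨x, rfl⟩; rw [pow_two]; exact hmem θ θ (Or.inl rfl) (Or.inl rfl) x
  have hrξ : LinearMap.range (ξ ^ 2) ≤ W := by
    rintro _ ⟨x, rfl⟩; rw [pow_two]; exact hmem ξ ξ (Or.inr rfl) (Or.inr rfl) x
  have hrθξ : LinearMap.range ((θ + ξ) ^ 2) ≤ W := by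
    rintro _ ⟨x, rfl⟩
    have : ((θ + ξ) ^ 2) x = (θ * θ) x + (θ * ξ) x + ((ξ * θ) x + (ξ * ξ) x) := by
      rw [pow_two, mul_add, add_mul, add_mul]
      simp only [LinearMap.add_apply]
      abel
    rw [this]
    exact W.add_mem (W.add_mem (hmem θ θ (Or.inl rfl) (Or.inl rfl) x)
      (hmem θ ξ (Or.inl rfl) (Or.inr rfl) x)) (W.add_mem (hmem ξ θ (Or.inr rfl) (Or.inl rfl) x)
      (hmem ξ ξ (Or.inr rfl) (Or.inr rfl) x))
  rw [Tr_eq (θ + ξ) W hstθξ 2 hrθξ, Tr_eq θ W hstθ 2 hrθ, Tr_eq ξ W hstξ 2 hrξ, ← map_add]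
  rfl

variable (A) in
/-- Tate's trace as a linear map on `E₀`. -/
noncomputable def TrL : E0 A →ₗ[k] k where
  toFun θ := Tr (θ : Module.End k V)
  map_add' θ ξ := Tr_add θ.2 ξ.2
  map_smul' c θ := Tr_smul c θ.1 (E0.finPot θ.2)

lemma Tr_neg {θ : Module.End k V} (hθ : θ ∈ E0 A) : Tr (-θ) = -Tr θ := by
  have := Tr_smul (-1 : k) θ (E0.finPot hθ)
  simpa using this

lemma Tr_sub {θ ξ : Module.End k V} (hθ : θ ∈ E0 A) (hξ : ξ ∈ E0 A) :
    Tr (θ - ξ) = Tr θ - Tr ξ := by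
  rw [sub_eq_add_neg, Tr_add hθ ((E0 A).neg_mem hξ), Tr_neg hξ, sub_eq_add_neg]

lemma Tr_sum {ι : Type*} (s : Finset ι) (θ : ι → Module.End k V) (hθ : ∀ i ∈ s, θ i ∈ E0 A) :
    Tr (∑ i ∈ s, θ i) = ∑ i ∈ s, Tr (θ i) := by
  classical
  induction s using Finset.induction_on with
  | empty => simp [Tr_of_nilpotent (0 : Module.End k V) 1 (by simp)]
  | insert a s ha ih =>
    rw [Finset.sum_insert ha, Finset.sum_insert ha,
      Tr_add (hθ a (Finset.mem_insert_self a s))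
        ((E0 A).sum_mem fun i hi => hθ i (Finset.mem_insert_of_mem hi)),
      ih fun i hi => hθ i (Finset.mem_insert_of_mem hi)]

/-- `Tr [θ, ξ] = 0` for `θ ∈ E₁`, `ξ ∈ E₂` (both in `E`). -/
theorem Tr_commutator_E1_E2 {θ ξ : Module.End k V} (hθ : InE1 A θ) (hξ : InE2 A ξ) :
    Tr (θ * ξ - ξ * θ) = 0 := by
  have h1 : θ * ξ ∈ E0 A := ⟨hθ.mul_right ξ, hξ.mul_left θ⟩
  have h2 : ξ * θ ∈ E0 A := ⟨hθ.mul_left hξ.inE, hξ.mul_right hθ.inE⟩
  rw [Tr_sub h1 h2, sub_eq_zero]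
  exact Tr_comm θ ξ (E0.finPot h1)

end Groth.Agent.Lib.LeadTR
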