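import Mathlib
import Groth.Agent.Lib.LeadTR2

/-! The abstract residue `Tr [π f, g]` and its basic properties. -/

set_option autoImplicit false

namespace Groth.Agent.Lib.LeadTR
open LinearMap Module

variable {k : Type*} {V : Type*} [Field k] [AddCommGroup V] [Module k V]
variable {A : Submodule k V}

/-- the abstract residue with respect to a projection `π`. -/
noncomputable def resP (π f g : Module.End k V) : k := Tr (π * f * g - g * (π * f))

lemma isProj_inE1 {π : Module.End k V} (hπ : LinearMap.IsProj A π) : InE1 A π :=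
  Nle.of_le (by rintro _ ⟨x, rfl⟩; exact hπ.map_mem x)

lemma isProj_one_sub_inE2 {π : Module.End k V} (hπ : LinearMap.IsProj A π) : InE2 A (1 - π) := by
  have : A.map (1 - π) = ⊥ := by
    rw [eq_bot_iff]
    rintro _ ⟨x, hx, rfl⟩
    simp [hπ.map_id x hx]
  show FiniteDimensional k (A.map (1 - π))
  rw [this]; infer_instance

lemma finrank_inE1 (X : Submodule k V) {θ : Module.End k V}
    (h : FiniteDimensional k (LinearMap.range θ)) : InE1 X θ := by
  haveI := h
  exact Nle.of_finiteDimensional _ _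

lemma finrank_inE2 (X : Submodule k V) {θ : Module.End k V}
    (h : FiniteDimensional k (LinearMap.range θ)) : InE2 X θ := by
  haveI := h
  exact Submodule.finiteDimensional_of_le (S₂ := LinearMap.range θ)
    (by rintro _ ⟨x, _, rfl⟩; exact ⟨x, rfl⟩)

lemma finrank_mem_E0 (X : Submodule k V) {θ : Module.End k V}
    (h : FiniteDimensional k (LinearMap.range θ)) : θ ∈ E0 X :=
  ⟨finrank_inE1 X h, finrank_inE2 X h⟩

lemma finrank_mul_left {θ : Module.End k V} (h : FiniteDimensional k (LinearMap.range θ))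
    (ξ : Module.End k V) : FiniteDimensional k (LinearMap.range (ξ * θ)) := by
  haveI := h
  rw [range_mul_eq]; infer_instance

lemma finrank_mul_right {θ : Module.End k V} (h : FiniteDimensional k (LinearMap.range θ))
    (ξ : Module.End k V) : FiniteDimensional k (LinearMap.range (θ * ξ)) := by
  haveI := h
  exact Submodule.finiteDimensional_of_le (S₂ := LinearMap.range θ)
    (by rintro _ ⟨x, rfl⟩; exact ⟨ξ x, rfl⟩)

/-- a finite rank commutator has trace zero. -/
lemma Tr_commutator_finrank {θ : Module.End k V} (h : FiniteDimensional k (LinearMap.range θ))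
    (ξ : Module.End k V) : Tr (θ * ξ - ξ * θ) = 0 := by
  have h1 : θ * ξ ∈ E0 (⊥ : Submodule k V) := finrank_mem_E0 _ (finrank_mul_right h ξ)
  have h2 : ξ * θ ∈ E0 (⊥ : Submodule k V) := finrank_mem_E0 _ (finrank_mul_left h ξ)
  rw [Tr_sub h1 h2, sub_eq_zero]
  exact Tr_comm θ ξ (E0.finPot h1)

lemma commutator_mem_E0 {π f g : Module.End k V} (hπ : LinearMap.IsProj A π) (hf : InE A f)
    (hg : InE A g) (hfg : f * g = g * f) : π * f * g - g * (π * f) ∈ E0 A := by
  have h1 : InE1 A (π * f) := (isProj_inE1 hπ).mul_right f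
  have h2 : InE2 A ((1 - π) * f) := (isProj_one_sub_inE2 hπ).mul_right hf
  refine ⟨(h1.mul_right g).sub (h1.mul_left hg), ?_⟩
  have : π * f * g - g * (π * f) = -(((1 - π) * f) * g - g * ((1 - π) * f)) := by
    have e1 : (1 - π) * f * g = f * g - π * f * g := by noncomm_ring
    have e2 : g * ((1 - π) * f) = g * f - g * (π * f) := by noncomm_ring
    rw [e1, e2, hfg]; abel
  rw [this]
  exact ((h2.mul_right hg).sub (h2.mul_left g)).neg

/-- `Tr [δ, g] = 0` for `δ ∈ E₀`, `g ∈ E`. -/
theorem Tr_commutator_E0 {π δ g : Module.End k V} (hπ : LinearMap.IsProj A π) (hδ : δ ∈ E0 A)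
    (hg : InE A g) : Tr (δ * g - g * δ) = 0 := by
  have hg1 : InE1 A (π * g) := (isProj_inE1 hπ).mul_right g
  have hg2 : InE2 A ((1 - π) * g) := (isProj_one_sub_inE2 hπ).mul_right hg
  have hsplit : δ * g - g * δ = (δ * (π * g) - (π * g) * δ) + (δ * ((1 - π) * g) - ((1 - π) * g) * δ) := by
    noncomm_ring
  have m1 : δ * (π * g) - (π * g) * δ ∈ E0 A :=
    (E0 A).sub_mem (E0.mul_right hδ hg1.inE) (E0.mul_left hδ hg1.inE)
  have m2 : δ * ((1 - π) * g) - ((1 - π) * g) * δ ∈ E0 A :=
    (E0 A).sub_mem (E0.mul_right hδ hg2.inE) (E0.mul_left hδ hg2.inE)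
  rw [hsplit, Tr_add m1 m2, Tr_commutator_E1_E2 hδ.1 hg2]
  have := Tr_commutator_E1_E2 hg1 hδ.2
  have hneg : δ * (π * g) - (π * g) * δ = -((π * g) * δ - δ * (π * g)) := by abel
  rw [hneg, Tr_neg ((E0 A).sub_mem (E0.mul_left hδ hg1.inE) (E0.mul_right hδ hg1.inE)), this]
  simp

lemma InE2.of_nle {A' : Submodule k V} {θ : Module.End k V} (h : InE2 A' θ) (hA : Nle A A') :
    InE2 A θ := by
  haveI : FiniteDimensional k (A'.map θ) := h
  obtain ⟨W, hW, hle⟩ := hA
  haveI := hW
  refine Submodule.finiteDimensional_of_le (S₂ := A'.map θ ⊔ W.map θ) ?_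
  rw [← Submodule.map_sup]
  exact Submodule.map_mono hle

/-- independence of the projection (also for a commensurable smaller `A'`). -/
theorem resP_indep {A' : Submodule k V} {π π' f g : Module.End k V} (hπ : LinearMap.IsProj A π)
    (hπ' : LinearMap.IsProj A' π') (hA'A : A' ≤ A) (hAA' : Nle A A')
    (hf : InE A f) (hg : InE A g) (hfg : f * g = g * f) : resP π f g = resP π' f g := by
  set δ : Module.End k V := (π - π') * f with hδ
  have hπ'1 : InE1 A π' := Nle.of_le (by rintro _ ⟨x, rfl⟩; exact hA'A (hπ'.map_mem x))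
  have hδ1 : InE1 A δ := ((isProj_inE1 hπ).sub hπ'1).mul_right f
  have hδ2 : InE2 A δ := by
    have e : δ = (1 - π') * f - (1 - π) * f := by rw [hδ]; noncomm_ring
    rw [e]
    exact (((isProj_one_sub_inE2 hπ').of_nle hAA').mul_right hf).sub
      ((isProj_one_sub_inE2 hπ).mul_right hf)
  have hδ0 : δ ∈ E0 A := ⟨hδ1, hδ2⟩
  have hθ : π * f * g - g * (π * f) ∈ E0 A := commutator_mem_E0 hπ hf hg hfg
  have hcomm : δ * g - g * δ ∈ E0 A := (E0 A).sub_mem (E0.mul_right hδ0 hg) (E0.mul_left hδ0 hg)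
  have hsplit : π' * f * g - g * (π' * f) = (π * f * g - g * (π * f)) - (δ * g - g * δ) := by
    rw [hδ]; noncomm_ring
  rw [resP, resP, hsplit, Tr_sub hθ hcomm, Tr_commutator_E0 hπ hδ0 hg, sub_zero]

/-- (R1): if `f, g` stabilize `A` the residue vanishes. -/
theorem resP_eq_zero_of_stable {π f g : Module.End k V} (hπ : LinearMap.IsProj A π)
    (hf : ∀ x ∈ A, f x ∈ A) (hg : ∀ x ∈ A, g x ∈ A) (hfg : f * g = g * f) :
    resP π f g = 0 := by
  apply Tr_of_nilpotent _ 2
  rw [pow_two]
  have hA : ∀ x, (π * f * g - g * (π * f)) x ∈ A := by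
    intro x
    simp only [LinearMap.sub_apply, Module.End.mul_apply]
    exact A.sub_mem (hπ.map_mem _) (hg _ (hπ.map_mem _))
  have h0 : ∀ x ∈ A, (π * f * g - g * (π * f)) x = 0 := by
    intro x hx
    simp only [LinearMap.sub_apply, Module.End.mul_apply]
    rw [hπ.map_id _ (hf _ (hg x hx)), hπ.map_id _ (hf x hx)]
    have := congrArg (fun φ : Module.End k V => φ x) hfg
    simp only [Module.End.mul_apply] at this
    rw [this, sub_self]
  ext x
  rw [Module.End.mul_apply, h0 _ (hA x)]
  rfl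

end Groth.Agent.Lib.LeadTR
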