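import Mathlib
import Groth.Agent.Lib.LeadTR3

/-! The abstract global residue theorem: if `B` is stable, `A ∩ B` finite dimensional and `A + B`
cofinite, the residue along `A` vanishes. -/

set_option autoImplicit false

namespace Groth.Agent.Lib.LeadTR
open LinearMap Module

variable {k : Type*} {V : Type*} [Field k] [AddCommGroup V] [Module k V]

theorem resP_eq_zero_of_global {A B : Submodule k V} {π f g : Module.End k V}
    (hπ : LinearMap.IsProj A π) (hf : InE A f) (hg : InE A g) (hfg : f * g = g * f)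
    (hfB : ∀ x ∈ B, f x ∈ B) (hgB : ∀ x ∈ B, g x ∈ B)
    (hfd : FiniteDimensional k (A ⊓ B : Submodule k V))
    (hcof : ∃ W : Submodule k V, FiniteDimensional k W ∧ A ⊔ B ⊔ W = ⊤) :
    resP π f g = 0 := by
  haveI := hfd
  set C₀ : Submodule k V := A ⊓ B with hC₀
  obtain ⟨q, hq⟩ := Submodule.exists_isCompl C₀
  set A'' : Submodule k V := A ⊓ q with hA''
  have hC₀A : C₀ ≤ A := inf_le_left
  have hC₀B : C₀ ≤ B := inf_le_right
  have hA''A : A'' ≤ A := inf_le_left
  have hA''q : A'' ≤ q := inf_le_right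
  have hAsup : A'' ⊔ C₀ = A := by
    have := sup_inf_assoc_of_le q hC₀A
    rw [hq.sup_eq_top, top_inf_eq] at this
    rw [sup_comm, hA'', inf_comm A q]
    exact this.symm
  have hdisjA''B : Disjoint A'' B := by
    rw [disjoint_iff, eq_bot_iff]
    intro x hx
    have h1 : x ∈ C₀ := ⟨hA''A hx.1, hx.2⟩
    have h2 : x ∈ q := hA''q hx.1
    have : x ∈ C₀ ⊓ q := ⟨h1, h2⟩
    rwa [hq.inf_eq_bot] at this
  set D : Submodule k V := A'' ⊔ B with hD
  have hDeq : A ⊔ B ≤ D := by
    refine sup_le ?_ le_sup_right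
    rw [← hAsup]
    exact sup_le le_sup_left (hC₀B.trans le_sup_right)
  obtain ⟨C, hC⟩ := Submodule.exists_isCompl D
  obtain ⟨W, hW, hWtop⟩ := hcof
  haveI := hW
  -- `C` is finite dimensional
  have hCfd : FiniteDimensional k C := by
    set P := C.projection D hC.symm with hP
    refine Submodule.finiteDimensional_of_le (S₂ := W.map P) ?_
    intro c hc
    have hcV : c ∈ (A ⊔ B ⊔ W : Submodule k V) := by rw [hWtop]; trivial
    obtain ⟨d, hd, w, hw, rfl⟩ := Submodule.mem_sup.1 hcV
    refine ⟨w, hw, ?_⟩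
    have h1 : P d = 0 := (Submodule.projection_apply_eq_zero_iff hC.symm).2 (hDeq hd)
    have h2 : P (d + w) = d + w := Submodule.projection_apply_of_mem_left hC.symm hc
    rw [map_add, h1, zero_add] at h2
    exact h2
  haveI := hCfd
  have h₁ : IsCompl A'' (B ⊔ C) := hdisjA''B.isCompl_sup_right_of_isCompl_sup_left hC
  have h₂ : IsCompl B (A'' ⊔ C) := by
    apply hdisjA''B.symm.isCompl_sup_right_of_isCompl_sup_left
    rwa [sup_comm]
  set π₁ : Module.End k V := A''.projection (B ⊔ C) h₁ with hπ₁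
  set π₂ : Module.End k V := B.projection (A'' ⊔ C) h₂ with hπ₂
  set π₃ : Module.End k V := C.projection D hC.symm with hπ₃
  have hsum : π₁ + π₂ + π₃ = 1 := by
    ext x
    have hx : x ∈ (D ⊔ C : Submodule k V) := by rw [hC.sup_eq_top]; trivial
    obtain ⟨d, hd, c, hc, rfl⟩ := Submodule.mem_sup.1 hx
    obtain ⟨a, ha, b, hb, rfl⟩ := Submodule.mem_sup.1 hd
    have e1 : π₁ (a + b + c) = a := by
      rw [map_add, map_add, Submodule.projection_apply_of_mem_left h₁ ha,
        (Submodule.projection_apply_eq_zero_iff h₁).2 (Submodule.mem_sup_left hb),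
        (Submodule.projection_apply_eq_zero_iff h₁).2 (Submodule.mem_sup_right hc)]
      simp
    have e2 : π₂ (a + b + c) = b := by
      rw [map_add, map_add, Submodule.projection_apply_of_mem_left h₂ hb,
        (Submodule.projection_apply_eq_zero_iff h₂).2 (Submodule.mem_sup_left ha),
        (Submodule.projection_apply_eq_zero_iff h₂).2 (Submodule.mem_sup_right hc)]
      simp
    have e3 : π₃ (a + b + c) = c := by
      rw [map_add, Submodule.projection_apply_of_mem_left hC.symm hc,
        (Submodule.projection_apply_eq_zero_iff hC.symm).2 (Submodule.add_mem _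
          (Submodule.mem_sup_left ha) (Submodule.mem_sup_right hb))]
      simp
    simp only [LinearMap.add_apply, Module.End.one_apply]
    rw [e1, e2, e3]
  have hπ₂B : LinearMap.IsProj B π₂ :=
    ⟨fun x => Submodule.projection_apply_mem h₂ x,
      fun x hx => Submodule.projection_apply_of_mem_left h₂ hx⟩
  have hπ₃fin : FiniteDimensional k (LinearMap.range π₃) := by
    rw [hπ₃, Submodule.range_projection]; exact hCfd
  -- the finite rank projection onto `C₀`
  set ρ₀ : Module.End k V := C₀.projection q hq with hρ₀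
  have hρ₀fin : FiniteDimensional k (LinearMap.range ρ₀) := by
    rw [hρ₀, Submodule.range_projection]; infer_instance
  set ρ : Module.End k V := ρ₀ * π₂ with hρ
  have hρfin : FiniteDimensional k (LinearMap.range ρ) := finrank_mul_right hρ₀fin π₂
  have hπA : LinearMap.IsProj A (π₁ + ρ) := by
    refine ⟨fun x => ?_, fun x hx => ?_⟩
    · rw [LinearMap.add_apply]
      refine A.add_mem (hA''A (Submodule.projection_apply_mem h₁ x)) (hC₀A ?_)
      rw [hρ, Module.End.mul_apply]
      exact Submodule.projection_apply_mem hq _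
    · rw [← hAsup] at hx
      obtain ⟨a, ha, c, hc, rfl⟩ := Submodule.mem_sup.1 hx
      have e1 : π₁ (a + c) = a := by
        rw [map_add, Submodule.projection_apply_of_mem_left h₁ ha,
          (Submodule.projection_apply_eq_zero_iff h₁).2 (Submodule.mem_sup_left (hC₀B hc))]
        simp
      have e2 : π₂ (a + c) = c := by
        rw [map_add, Submodule.projection_apply_of_mem_left h₂ (hC₀B hc),
          (Submodule.projection_apply_eq_zero_iff h₂).2 (Submodule.mem_sup_left ha)]
        simp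
      rw [LinearMap.add_apply, e1, hρ, Module.End.mul_apply, e2,
        Submodule.projection_apply_of_mem_left hq hc]
  rw [resP_indep hπ hπA le_rfl (Nle.refl A) hf hg hfg]
  -- split
  set θ₁ : Module.End k V := π₁ * f * g - g * (π₁ * f) with hθ₁
  set θ₂ : Module.End k V := π₂ * f * g - g * (π₂ * f) with hθ₂
  set θ₃ : Module.End k V := π₃ * f * g - g * (π₃ * f) with hθ₃
  set θρ : Module.End k V := ρ * f * g - g * (ρ * f) with hθρ
  have hρf : FiniteDimensional k (LinearMap.range (ρ * f)) := finrank_mul_right hρfin f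
  have hθρfin : θρ ∈ E0 A := by
    refine (E0 A).sub_mem (finrank_mem_E0 A ?_) (finrank_mem_E0 A ?_)
    · exact finrank_mul_right hρf g
    · exact finrank_mul_left hρf g
  have hTrρ : Tr θρ = 0 := by
    have := Tr_commutator_finrank hρf g
    rwa [← mul_assoc] at this
  have htot : (π₁ + ρ) * f * g - g * ((π₁ + ρ) * f) ∈ E0 A := commutator_mem_E0 hπA hf hg hfg
  have hsplit : (π₁ + ρ) * f * g - g * ((π₁ + ρ) * f) = θ₁ + θρ := by
    rw [hθ₁, hθρ]; noncomm_ring
  have hθ₁mem : θ₁ ∈ E0 A := by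
    have : θ₁ = ((π₁ + ρ) * f * g - g * ((π₁ + ρ) * f)) - θρ := by rw [hsplit]; abel
    rw [this]; exact (E0 A).sub_mem htot hθρfin
  rw [resP, hsplit, Tr_add hθ₁mem hθρfin, hTrρ, add_zero]
  -- `θ₁ = -(θ₂ + θ₃)`
  have hfEB : InE B f := Nle.of_le (by rintro _ ⟨x, hx, rfl⟩; exact hfB x hx)
  have hgEB : InE B g := Nle.of_le (by rintro _ ⟨x, hx, rfl⟩; exact hgB x hx)
  have hθ₂mem : θ₂ ∈ E0 B := commutator_mem_E0 hπ₂B hfEB hgEB hfg
  have hπ₃f : FiniteDimensional k (LinearMap.range (π₃ * f)) := finrank_mul_right hπ₃fin f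
  have hθ₃mem : θ₃ ∈ E0 B := by
    refine (E0 B).sub_mem (finrank_mem_E0 B ?_) (finrank_mem_E0 B ?_)
    · exact finrank_mul_right hπ₃f g
    · exact finrank_mul_left hπ₃f g
  have hTr₂ : Tr θ₂ = 0 := resP_eq_zero_of_stable hπ₂B hfB hgB hfg
  have hTr₃ : Tr θ₃ = 0 := by
    have := Tr_commutator_finrank hπ₃f g
    rwa [← mul_assoc] at this
  have hrel : θ₁ = -(θ₂ + θ₃) := by
    have h1 : π₁ = 1 - π₂ - π₃ := by rw [← hsum]; abel
    rw [hθ₁, hθ₂, hθ₃, h1]
    have : (1 - π₂ - π₃) * f * g - g * ((1 - π₂ - π₃) * f) =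
        (f * g - g * f) - ((π₂ * f * g - g * (π₂ * f)) + (π₃ * f * g - g * (π₃ * f))) := by
      noncomm_ring
    rw [this, hfg, sub_self, zero_sub]
  rw [hrel, Tr_neg ((E0 B).add_mem hθ₂mem hθ₃mem), Tr_add hθ₂mem hθ₃mem, hTr₂, hTr₃]
  simp

end Groth.Agent.Lib.LeadTR
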