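import Mathlib
import Groth.Agent.Lib.LeadTR4

/-! Local set-up on Laurent series: the filtration, the projection onto power series, and the
multiplication operators. -/

set_option autoImplicit false

namespace Groth.Agent.Lib.LeadTR
open LinearMap Module HahnSeries

variable {k F : Type*} [Field k] [Field F] [Algebra k F]

/-- the `k`-submodule of Laurent series with vanishing coefficients below `j`. -/
def Afil (k : Type*) {F : Type*} [Field k] [Field F] [Algebra k F] (j : ℤ) :
    Submodule k (LaurentSeries F) where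
  carrier := {x | ∀ i < j, x.coeff i = 0}
  add_mem' hx hy i hi := by rw [coeff_add, hx i hi, hy i hi, add_zero]
  zero_mem' i _ := rfl
  smul_mem' c x hx i hi := by rw [coeff_smul, hx i hi, smul_zero]

lemma mem_Afil {j : ℤ} {x : LaurentSeries F} : x ∈ Afil k j ↔ ∀ i < j, x.coeff i = 0 := Iff.rfl

lemma Afil_anti {i j : ℤ} (h : i ≤ j) : Afil k (F := F) j ≤ Afil k i :=
  fun _ hx l hl => hx l (lt_of_lt_of_le hl h)

lemma exists_mem_Afil (x : LaurentSeries F) : ∃ n : ℤ, x ∈ Afil k n := by
  by_cases hx : x = 0
  · exact ⟨0, by rw [hx]; exact (Afil k 0).zero_mem⟩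
  · exact ⟨x.order, fun i hi => coeff_eq_zero_of_lt_order hi⟩

lemma mul_mem_Afil {i j : ℤ} {x y : LaurentSeries F} (hx : x ∈ Afil k i) (hy : y ∈ Afil k j) :
    x * y ∈ Afil k (i + j) := by
  intro l hl
  rw [coeff_mul]
  apply Finset.sum_eq_zero
  rintro ⟨p, q⟩ hpq
  rw [Finset.mem_addAntidiagonal] at hpq
  obtain ⟨hp, hq, hsum⟩ := hpq
  exfalso
  have hp' : i ≤ p := by
    by_contra hlt
    push_neg at hlt
    exact hp (hx p hlt)
  have hq' : j ≤ q := by
    by_contra hlt
    push_neg at hlt
    exact hq (hy q hlt)
  simp only at hsum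
  omega

/-- the negative part. -/
noncomputable def negP (k : Type*) (F : Type*) [Field k] [Field F] [Algebra k F] :
    Module.End k (LaurentSeries F) := truncLTLinearMap k (0 : ℤ)

/-- the projection onto power series. -/
noncomputable def posP (k : Type*) (F : Type*) [Field k] [Field F] [Algebra k F] :
    Module.End k (LaurentSeries F) := 1 - negP k F

lemma coeff_negP (x : LaurentSeries F) (i : ℤ) :
    (negP k F x).coeff i = if i < 0 then x.coeff i else 0 := rfl

lemma coeff_posP (x : LaurentSeries F) (i : ℤ) :
    (posP k F x).coeff i = if i < 0 then 0 else x.coeff i := by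
  rw [posP, LinearMap.sub_apply, Module.End.one_apply, coeff_sub, coeff_negP]
  split_ifs <;> simp

lemma posP_mem (x : LaurentSeries F) : posP k F x ∈ Afil k 0 := by
  intro i hi
  rw [coeff_posP, if_pos hi]

lemma posP_of_mem {x : LaurentSeries F} (hx : x ∈ Afil k 0) : posP k F x = x := by
  ext i
  rw [coeff_posP]
  split_ifs with h
  · exact (hx i h).symm
  · rfl

lemma isProj_posP : LinearMap.IsProj (Afil k (F := F) 0) (posP k F) :=
  ⟨posP_mem, fun _ hx => posP_of_mem hx⟩

lemma posP_mem_Afil {j : ℤ} {x : LaurentSeries F} (hx : x ∈ Afil k j) :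
    posP k F x ∈ Afil k (max j 0) := by
  intro i hi
  rw [coeff_posP]
  split_ifs with h
  · rfl
  · exact hx i (by omega)

/-- Laurent polynomials supported in `[n, m)`. -/
def Wwin (k : Type*) {F : Type*} [Field k] [Field F] [Algebra k F] (n m : ℤ) :
    Submodule k (LaurentSeries F) where
  carrier := {x | ∀ i, ¬ (n ≤ i ∧ i < m) → x.coeff i = 0}
  add_mem' hx hy i hi := by rw [coeff_add, hx i hi, hy i hi, add_zero]
  zero_mem' i _ := rfl
  smul_mem' c x hx i hi := by rw [coeff_smul, hx i hi, smul_zero]

instance Wwin_fd [FiniteDimensional k F] (n m : ℤ) : FiniteDimensional k (Wwin k (F := F) n m) := by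
  let Φ : Wwin k (F := F) n m →ₗ[k] (Finset.Ico n m → F) :=
    { toFun := fun x i => (x : LaurentSeries F).coeff i
      map_add' := fun x y => by ext i; simp
      map_smul' := fun c x => by ext i; simp }
  apply FiniteDimensional.of_injective Φ
  intro x y hxy
  apply Subtype.ext
  ext i
  by_cases hi : n ≤ i ∧ i < m
  · exact congrFun hxy ⟨i, Finset.mem_Ico.2 hi⟩
  · rw [x.2 i hi, y.2 i hi]

lemma Afil_nle [FiniteDimensional k F] (n : ℤ) : Nle (Afil k (F := F) n) (Afil k 0) := by
  refine ⟨Wwin k n 0, inferInstance, ?_⟩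
  intro x hx
  have : x = posP k F x + negP k F x := by
    rw [posP, LinearMap.sub_apply, Module.End.one_apply]; abel
  rw [this]
  refine Submodule.add_mem _ (Submodule.mem_sup_left (posP_mem x)) (Submodule.mem_sup_right ?_)
  intro i hi
  rw [coeff_negP]
  split_ifs with h
  · exact hx i (by omega)
  · rfl

lemma smul_eq_C_mul (c : k) (x : LaurentSeries F) : c • x = C (algebraMap k F c) * x := by
  rw [HahnSeries.C_mul_eq_smul, algebraMap_smul]

/-- multiplication by a Laurent series as a `k`-linear endomorphism. -/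
noncomputable def mulL (k : Type*) {F : Type*} [Field k] [Field F] [Algebra k F]
    (u : LaurentSeries F) : Module.End k (LaurentSeries F) where
  toFun x := u * x
  map_add' := mul_add u
  map_smul' c x := by
    simp only [RingHom.id_apply]
    rw [smul_eq_C_mul, smul_eq_C_mul]
    ring

lemma mulL_apply (u x : LaurentSeries F) : mulL k u x = u * x := rfl

lemma mulL_add (u u' : LaurentSeries F) : mulL k (u + u') = mulL k u + mulL k u' := by
  ext x; simp [mulL_apply, add_mul]

lemma mulL_sub (u u' : LaurentSeries F) : mulL k (u - u') = mulL k u - mulL k u' := by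
  ext x; simp [mulL_apply, sub_mul]

lemma mulL_zero : mulL k (0 : LaurentSeries F) = 0 := by
  ext x; simp [mulL_apply]

lemma mulL_sum {ι : Type*} (s : Finset ι) (u : ι → LaurentSeries F) :
    mulL k (∑ i ∈ s, u i) = ∑ i ∈ s, mulL k (u i) := by
  ext x; simp [mulL_apply, Finset.sum_mul]

lemma mulL_comm (u w : LaurentSeries F) : mulL k u * mulL k w = mulL k w * mulL k u := by
  ext x
  simp only [Module.End.mul_apply, mulL_apply]
  ring

lemma mulL_inE [FiniteDimensional k F] (u : LaurentSeries F) : InE (Afil k (F := F) 0) (mulL k u) := by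
  obtain ⟨n, hn⟩ := exists_mem_Afil (k := k) u
  refine Nle.mono_left ?_ (Afil_nle (k := k) (F := F) n)
  rintro _ ⟨x, hx, rfl⟩
  have := mul_mem_Afil hn hx
  rwa [add_zero] at this

/-- the local commutator operator. -/
noncomputable def thetaL (k : Type*) {F : Type*} [Field k] [Field F] [Algebra k F]
    (u w : LaurentSeries F) : Module.End k (LaurentSeries F) :=
  posP k F * mulL k u * mulL k w - mulL k w * (posP k F * mulL k u)

lemma thetaL_mem_E0 [FiniteDimensional k F] (u w : LaurentSeries F) :
    thetaL k u w ∈ E0 (Afil k (F := F) 0) :=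
  commutator_mem_E0 isProj_posP (mulL_inE u) (mulL_inE w) (mulL_comm u w)

lemma thetaL_add_left (u u' w : LaurentSeries F) :
    thetaL k (u + u') w = thetaL k u w + thetaL k u' w := by
  simp only [thetaL, mulL_add]; noncomm_ring

lemma thetaL_add_right (u w w' : LaurentSeries F) :
    thetaL k u (w + w') = thetaL k u w + thetaL k u w' := by
  simp only [thetaL, mulL_add]; noncomm_ring

lemma thetaL_apply (u w x : LaurentSeries F) :
    thetaL k u w x = posP k F (u * (w * x)) - w * posP k F (u * x) := rfl

end Groth.Agent.Lib.LeadTR
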