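import Mathlib
import Groth.Agent.Lib.LeadTR5

/-! Local computation I: the topologically nilpotent case and monomials. -/

set_option autoImplicit false

namespace Groth.Agent.Lib.LeadTR
open LinearMap Module HahnSeries

variable {k F : Type*} [Field k] [Field F] [Algebra k F]

/-- if `ord u + ord w ≥ 1` the local commutator is nilpotent. -/
theorem Tr_thetaL_of_pos {n m : ℤ} {u w : LaurentSeries F} (hu : u ∈ Afil k n) (hw : w ∈ Afil k m)
    (hnm : 1 ≤ n + m) : Tr (thetaL k u w) = 0 := by
  set θ := thetaL k u w with hθ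
  have ha : ∀ (j : ℤ) (x : LaurentSeries F), x ∈ Afil k j → θ x ∈ Afil k (j + 1) := by
    intro j x hx
    rw [hθ, thetaL_apply]
    refine Submodule.sub_mem _ ?_ ?_
    · have h1 : u * (w * x) ∈ Afil k (n + (m + j)) := mul_mem_Afil hu (mul_mem_Afil hw hx)
      exact Afil_anti (by have := le_max_left (n + (m + j)) 0; omega) (posP_mem_Afil h1)
    · have h1 : u * x ∈ Afil k (n + j) := mul_mem_Afil hu hx
      have h2 := mul_mem_Afil hw (posP_mem_Afil h1)
      exact Afil_anti (by have := le_max_left (n + j) 0; omega) h2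
  set j₀ : ℤ := max (-n - m) (-n) with hj₀
  have hb : ∀ x : LaurentSeries F, x ∈ Afil k j₀ → θ x = 0 := by
    intro x hx
    rw [hθ, thetaL_apply]
    have h1 : u * (w * x) ∈ Afil k (0 : ℤ) :=
      Afil_anti (by have := le_max_left (-n - m) (-n); omega)
        (mul_mem_Afil hu (mul_mem_Afil hw hx))
    have h2 : u * x ∈ Afil k (0 : ℤ) :=
      Afil_anti (by have := le_max_right (-n - m) (-n); omega) (mul_mem_Afil hu hx)
    rw [posP_of_mem h1, posP_of_mem h2]
    ring
  have hc : ∀ x : LaurentSeries F, θ x ∈ Afil k (min 0 m) := by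
    intro x
    rw [hθ, thetaL_apply]
    refine Submodule.sub_mem _ (Afil_anti (min_le_left 0 m) (posP_mem _)) ?_
    have := mul_mem_Afil hw (posP_mem (k := k) (u * x))
    exact Afil_anti (by have := min_le_right 0 m; omega) this
  have hpow : ∀ (N : ℕ) (x : LaurentSeries F), (θ ^ (N + 1)) x ∈ Afil k (min 0 m + N) := by
    intro N
    induction N with
    | zero => intro x; simpa using hc x
    | succ N ih =>
      intro x
      rw [pow_succ', Module.End.mul_apply]
      have := ha _ _ (ih x)
      push_cast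
      rwa [add_assoc] at this
  set N : ℕ := (j₀ - min 0 m).toNat with hN
  apply Tr_of_nilpotent θ (N + 2)
  apply LinearMap.ext
  intro x
  rw [pow_succ', Module.End.mul_apply]
  exact hb _ (Afil_anti (by rw [hN]; omega) (hpow N x))

/-- on a finite dimensional space Tate's trace is the usual trace. -/
theorem Tr_eq_trace {V : Type*} [AddCommGroup V] [Module k V] [FiniteDimensional k V]
    (θ : Module.End k V) : Tr θ = LinearMap.trace k V θ := by
  rw [Tr_eq θ ⊤ (fun _ _ => trivial) 0 le_top]
  have : θ.restrict (p := (⊤ : Submodule k V)) (q := ⊤) (fun _ _ => trivial) =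
      (Submodule.topEquiv (R := k) (M := V)).symm.conj θ := by
    ext x
    rfl
  rw [this, LinearMap.trace_conj']

/-- the rank-one type operator `x ↦ (c · x_i) X^l`. -/
noncomputable def Rop (k : Type*) {F : Type*} [Field k] [Field F] [Algebra k F] (l i : ℤ) (c : F) :
    Module.End k (LaurentSeries F) :=
  (single.linearMap (R := k) (V := F) l) ∘ₗ (LinearMap.mulLeft k c) ∘ₗ (coeff.linearMap (R := k) (V := F) i)

lemma Rop_apply (l i : ℤ) (c : F) (x : LaurentSeries F) :
    Rop k l i c x = single l (c * x.coeff i) := rfl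

lemma coeff_Rop (l i : ℤ) (c : F) (x : LaurentSeries F) (p : ℤ) :
    (Rop k l i c x).coeff p = if p = l then c * x.coeff i else 0 := by
  rw [Rop_apply]
  by_cases h : p = l
  · subst h; simp
  · rw [coeff_single_of_ne h, if_neg h]

lemma Rop_finrank [FiniteDimensional k F] (l i : ℤ) (c : F) :
    FiniteDimensional k (LinearMap.range (Rop k (F := F) l i c)) := by
  rw [Rop, LinearMap.range_comp]
  infer_instance

theorem Tr_Rop [FiniteDimensional k F] (l i : ℤ) (c : F) :
    Tr (Rop k (F := F) l i c) = if i = l then Algebra.trace k F c else 0 := by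
  have hfp : FinPot (Rop k (F := F) l i c) := ⟨1, by rw [pow_one]; exact Rop_finrank l i c⟩
  have h1 := Tr_comm (single.linearMap (R := k) (V := F) l)
    ((LinearMap.mulLeft k c) ∘ₗ (coeff.linearMap (R := k) (V := F) i)) hfp
  have h2 : Tr (Rop k (F := F) l i c) = Tr (((LinearMap.mulLeft k c) ∘ₗ
      (coeff.linearMap (R := k) (V := F) i)) ∘ₗ (single.linearMap (R := k) (V := F) l)) := h1
  rw [h2, Tr_eq_trace]
  split_ifs with h
  · subst h
    have : ((LinearMap.mulLeft k c) ∘ₗ (coeff.linearMap (R := k) (V := F) i)) ∘ₗ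
        (single.linearMap (R := k) (V := F) i) = LinearMap.mulLeft k c := by
      ext y
      simp
    rw [this, Algebra.trace_apply]
    rfl
  · have : ((LinearMap.mulLeft k c) ∘ₗ (coeff.linearMap (R := k) (V := F) i)) ∘ₗ
        (single.linearMap (R := k) (V := F) l) = 0 := by
      ext y
      simp only [LinearMap.comp_apply, LinearMap.zero_apply]
      show c * ((single l y : LaurentSeries F).coeff i) = 0
      rw [coeff_single_of_ne h, mul_zero]
    rw [this, map_zero]

lemma coeff_thetaL_single (n m : ℤ) (a b : F) (x : LaurentSeries F) (p : ℤ) :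
    (thetaL k (single n a) (single m b) x).coeff p =
      (if p < 0 then 0 else a * b * x.coeff (p - n - m)) -
      (if p - m < 0 then 0 else a * b * x.coeff (p - n - m)) := by
  have h1 : (posP k F (single n a * (single m b * x))).coeff p =
      if p < 0 then 0 else a * (b * x.coeff (p - n - m)) := by
    rw [coeff_posP, coeff_single_mul, coeff_single_mul]
  have h2 : (single m b * posP k F (single n a * x)).coeff p =
      b * (if p - m < 0 then 0 else a * x.coeff (p - m - n)) := by
    rw [coeff_single_mul, coeff_posP, coeff_single_mul]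
  rw [thetaL_apply, coeff_sub, h1, h2]
  have e : p - m - n = p - n - m := by ring
  rw [e]
  split_ifs <;> ring

lemma coeff_sum_Rop (s : Finset ℤ) (d : ℤ) (c : F) (x : LaurentSeries F) (p : ℤ) :
    ((∑ l ∈ s, Rop k l (l - d) c) x).coeff p = if p ∈ s then c * x.coeff (p - d) else 0 := by
  rw [LinearMap.sum_apply, coeff_sum]
  simp only [coeff_Rop]
  rw [Finset.sum_ite_eq]

theorem thetaL_single_of_nonneg (n m : ℤ) (a b : F) (hm : 0 ≤ m) :
    thetaL k (single n a) (single m b) = ∑ l ∈ Finset.Ico 0 m, Rop k l (l - (n + m)) (a * b) := by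
  ext x p
  rw [coeff_thetaL_single, coeff_sum_Rop]
  have e : p - (n + m) = p - n - m := by ring
  rw [e]
  by_cases h1 : p < 0
  · rw [if_pos h1, if_pos (by omega), if_neg (by rw [Finset.mem_Ico]; omega)]; simp
  · by_cases h2 : p - m < 0
    · rw [if_neg h1, if_pos h2, if_pos (Finset.mem_Ico.2 ⟨by omega, by omega⟩)]; simp
    · rw [if_neg h1, if_neg h2, if_neg (by rw [Finset.mem_Ico]; omega)]; simp

theorem thetaL_single_of_neg (n m : ℤ) (a b : F) (hm : m < 0) :
    thetaL k (single n a) (single m b) = -∑ l ∈ Finset.Ico m 0, Rop k l (l - (n + m)) (a * b) := by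
  ext x p
  rw [LinearMap.neg_apply, coeff_neg, coeff_thetaL_single, coeff_sum_Rop]
  have e : p - (n + m) = p - n - m := by ring
  rw [e]
  by_cases h1 : p < 0
  · by_cases h2 : p - m < 0
    · rw [if_pos h1, if_pos h2, if_neg (by rw [Finset.mem_Ico]; omega)]; simp
    · rw [if_pos h1, if_neg h2, if_pos (Finset.mem_Ico.2 ⟨by omega, by omega⟩)]; simp
  · rw [if_neg h1, if_neg (by omega), if_neg (by rw [Finset.mem_Ico]; omega)]; simp

theorem Tr_thetaL_single [FiniteDimensional k F] (n m : ℤ) (a b : F) :
    Tr (thetaL k (single n a) (single m b)) =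
      if n + m = 0 then (m : k) * Algebra.trace k F (a * b) else 0 := by
  have hmem : ∀ l : ℤ, Rop k (F := F) l (l - (n + m)) (a * b) ∈ E0 (Afil k (F := F) 0) :=
    fun l => finrank_mem_E0 _ (Rop_finrank _ _ _)
  have hTr : ∀ l : ℤ, Tr (Rop k (F := F) l (l - (n + m)) (a * b)) =
      if n + m = 0 then Algebra.trace k F (a * b) else 0 := by
    intro l
    rw [Tr_Rop]
    by_cases h : n + m = 0
    · rw [if_pos h, if_pos (by omega)]
    · rw [if_neg h, if_neg (by omega)]
  by_cases hm : 0 ≤ m
  · rw [thetaL_single_of_nonneg n m a b hm, Tr_sum _ _ (fun l _ => hmem l)]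
    simp only [hTr]
    rw [Finset.sum_const, Int.card_Ico, sub_zero]
    split_ifs with h
    · rw [nsmul_eq_mul]
      congr 1
      have : ((m.toNat : ℤ) : k) = (m : k) := by rw [Int.toNat_of_nonneg hm]
      exact_mod_cast this
    · simp
  · push_neg at hm
    rw [thetaL_single_of_neg n m a b hm,
      Tr_neg ((E0 _).sum_mem fun l _ => hmem l), Tr_sum _ _ (fun l _ => hmem l)]
    simp only [hTr]
    rw [Finset.sum_const, Int.card_Ico, zero_sub]
    split_ifs with h
    · rw [nsmul_eq_mul, ← neg_mul]
      congr 1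
      have : (((-m).toNat : ℤ) : k) = ((-m : ℤ) : k) := by rw [Int.toNat_of_nonneg (by omega)]
      have h2 : (((-m).toNat : ℕ) : k) = ((-m : ℤ) : k) := by exact_mod_cast this
      rw [h2]; push_cast; ring
    · simp

end Groth.Agent.Lib.LeadTR
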