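import Mathlib
import Groth.Prelude.Def_LocRes
import Groth.Agent.Lib.LeadTR6

/-! Local computation II: Tate's residue on Laurent series is the trace of the coefficient of `X⁻¹`. -/

set_option autoImplicit false

namespace Groth.Agent.Lib.LeadTR
open LinearMap Module HahnSeries

variable {k F : Type*} [Field k] [Field F] [Algebra k F]

/-- the classical residue pairing, traced down to `k`. -/
noncomputable def rhoL (k : Type*) {F : Type*} [Field k] [Field F] [Algebra k F]
    (u w : LaurentSeries F) : k := Algebra.trace k F ((u * LocRes.D F w).coeff (-1))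

lemma rhoL_add_left (u u' w : LaurentSeries F) : rhoL k (u + u') w = rhoL k u w + rhoL k u' w := by
  simp only [rhoL, add_mul, coeff_add, map_add]

lemma rhoL_add_right (u w w' : LaurentSeries F) : rhoL k u (w + w') = rhoL k u w + rhoL k u w' := by
  simp only [rhoL, map_add, mul_add, coeff_add]

lemma D_mem_Afil {m : ℤ} {w : LaurentSeries F} (hw : w ∈ Afil k m) :
    LocRes.D F w ∈ Afil k (m - 1) := by
  intro i hi
  rw [LocRes.D_coeff, hw (i + 1) (by omega), smul_zero]

lemma rhoL_of_pos {n m : ℤ} {u w : LaurentSeries F} (hu : u ∈ Afil k n) (hw : w ∈ Afil k m)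
    (hnm : 1 ≤ n + m) : rhoL k u w = 0 := by
  have := mul_mem_Afil hu (D_mem_Afil hw)
  rw [rhoL, this (-1) (by omega), map_zero]

lemma D_single (m : ℤ) (b : F) : LocRes.D F (single m b) = single (m - 1) ((m : F) * b) := by
  ext p
  rw [LocRes.D_coeff]
  by_cases h : p = m - 1
  · subst h
    rw [coeff_single_same]
    have : m - 1 + 1 = m := by ring
    rw [this, coeff_single_same]
    simp [zsmul_eq_mul]
  · rw [coeff_single_of_ne h, coeff_single_of_ne (by omega), smul_zero]

lemma rhoL_single (n m : ℤ) (a b : F) :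
    rhoL k (single n a) (single m b) =
      if n + m = 0 then (m : k) * Algebra.trace k F (a * b) else 0 := by
  rw [rhoL, D_single, single_mul_single]
  split_ifs with h
  · have : n + (m - 1) = -1 := by omega
    rw [this, coeff_single_same]
    have e : a * ((m : F) * b) = (m : ℤ) • (a * b) := by rw [zsmul_eq_mul]; ring
    rw [e, map_zsmul, zsmul_eq_mul]
  · rw [coeff_single_of_ne (by omega), map_zero]

/-- a biadditive pairing on Laurent series, vanishing on pairs of total order `≥ 1`, is determined
by its values on monomials. -/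
theorem biadditive_expansion (β : LaurentSeries F → LaurentSeries F → k)
    (hadd₁ : ∀ u u' w, β (u + u') w = β u w + β u' w)
    (hadd₂ : ∀ u w w', β u (w + w') = β u w + β u w')
    (hvan : ∀ (n m : ℤ) (u w : LaurentSeries F), u ∈ Afil k n → w ∈ Afil k m → 1 ≤ n + m →
      β u w = 0)
    (u w : LaurentSeries F) (n₀ m₀ N : ℤ) (hu : u ∈ Afil k n₀) (hw : w ∈ Afil k m₀)
    (h1 : 1 ≤ N + m₀) (h2 : 1 ≤ n₀ + N) :
    β u w = ∑ i ∈ Finset.Ico n₀ N, ∑ j ∈ Finset.Ico m₀ N,
      β (single i (u.coeff i)) (single j (w.coeff j)) := by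
  have hz₁ : ∀ w, β 0 w = 0 := fun w => by
    have := hadd₁ 0 0 w; rw [add_zero] at this; exact left_eq_add.mp this
  have hz₂ : ∀ u, β u 0 = 0 := fun u => by
    have := hadd₂ u 0 0; rw [add_zero] at this; exact left_eq_add.mp this
  have hsum₁ : ∀ (s : Finset ℤ) (f : ℤ → LaurentSeries F) (w : LaurentSeries F),
      β (∑ i ∈ s, f i) w = ∑ i ∈ s, β (f i) w := by
    intro s f w
    induction s using Finset.induction_on with
    | empty => simp [hz₁]
    | insert a s ha ih => rw [Finset.sum_insert ha, Finset.sum_insert ha, hadd₁, ih]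
  have hsum₂ : ∀ (s : Finset ℤ) (u : LaurentSeries F) (f : ℤ → LaurentSeries F),
      β u (∑ i ∈ s, f i) = ∑ i ∈ s, β u (f i) := by
    intro s u f
    induction s using Finset.induction_on with
    | empty => simp [hz₂]
    | insert a s ha ih => rw [Finset.sum_insert ha, Finset.sum_insert ha, hadd₂, ih]
  -- truncations
  have htr : ∀ (x : LaurentSeries F) (c : ℤ), x ∈ Afil k c →
      x - ∑ i ∈ Finset.Ico c N, single i (x.coeff i) ∈ Afil k N := by
    intro x c hx p hp
    rw [coeff_sub, coeff_sum]
    by_cases hc : c ≤ p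
    · rw [Finset.sum_eq_single_of_mem p (Finset.mem_Ico.2 ⟨hc, hp⟩)
        (fun b _ hb => coeff_single_of_ne (Ne.symm hb)), coeff_single_same, sub_self]
    · rw [Finset.sum_eq_zero, sub_zero]
      · exact hx p (by omega)
      · intro b hb
        rw [Finset.mem_Ico] at hb
        exact coeff_single_of_ne (by omega)
  have hlo : ∀ (x : LaurentSeries F) (c : ℤ),
      ∑ i ∈ Finset.Ico c N, single i (x.coeff i) ∈ Afil k c := by
    intro x c
    refine Submodule.sum_mem _ fun i hi => ?_
    intro p hp
    rw [coeff_single_of_ne]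
    rw [Finset.mem_Ico] at hi
    omega
  set ulo := ∑ i ∈ Finset.Ico n₀ N, single i (u.coeff i) with hulo
  set wlo := ∑ j ∈ Finset.Ico m₀ N, single j (w.coeff j) with hwlo
  have hu' : u = ulo + (u - ulo) := by abel
  have hw' : w = wlo + (w - wlo) := by abel
  have e1 : β u w = β ulo w := by
    conv_lhs => rw [hu']
    rw [hadd₁, hvan N m₀ _ _ (htr u n₀ hu) hw h1, add_zero]
  have e2 : β ulo w = β ulo wlo := by
    conv_lhs => rw [hw']
    rw [hadd₂, hvan n₀ N _ _ (hlo u n₀) (htr w m₀ hw) h2, add_zero]
  rw [e1, e2, hulo, hsum₁]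
  refine Finset.sum_congr rfl fun i _ => ?_
  rw [hwlo, hsum₂]

/-- **Tate's local computation**: the trace of the commutator `[π u, w]` on Laurent series is the
trace of the residue of `u dw`. -/
theorem Tr_thetaL [FiniteDimensional k F] (u w : LaurentSeries F) :
    Tr (thetaL k u w) = Algebra.trace k F ((u * LocRes.D F w).coeff (-1)) := by
  obtain ⟨n₀, hu⟩ := exists_mem_Afil (k := k) u
  obtain ⟨m₀, hw⟩ := exists_mem_Afil (k := k) w
  set N : ℤ := max (1 - m₀) (1 - n₀) with hN
  have h1 : 1 ≤ N + m₀ := by have := le_max_left (1 - m₀) (1 - n₀); omega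
  have h2 : 1 ≤ n₀ + N := by have := le_max_right (1 - m₀) (1 - n₀); omega
  have hA := biadditive_expansion (k := k) (fun u w => Tr (thetaL k u w))
    (fun u u' w => by
      show Tr (thetaL k (u + u') w) = _
      rw [thetaL_add_left, Tr_add (thetaL_mem_E0 u w) (thetaL_mem_E0 u' w)])
    (fun u w w' => by
      show Tr (thetaL k u (w + w')) = _
      rw [thetaL_add_right, Tr_add (thetaL_mem_E0 u w) (thetaL_mem_E0 u w')])
    (fun n m u w hu hw hnm => Tr_thetaL_of_pos hu hw hnm) u w n₀ m₀ N hu hw h1 h2
  have hB := biadditive_expansion (k := k) (fun u w => rhoL k u w)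
    (fun u u' w => rhoL_add_left u u' w) (fun u w w' => rhoL_add_right u w w')
    (fun n m u w hu hw hnm => rhoL_of_pos hu hw hnm) u w n₀ m₀ N hu hw h1 h2
  show Tr (thetaL k u w) = rhoL k u w
  rw [hA, hB]
  refine Finset.sum_congr rfl fun i _ => Finset.sum_congr rfl fun j _ => ?_
  rw [Tr_thetaL_single, rhoL_single]

end Groth.Agent.Lib.LeadTR
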