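import Mathlib
import Groth.Prelude.Def_LocRes
import Groth.Agent.Lib.LeadTR7

/-! Expansions: density of the image, linearity, membership in the filtration. -/

set_option autoImplicit false

namespace Groth.Agent.Lib.LeadTR
open LinearMap Module HahnSeries WithZero

variable {k : Type*} {K : Type*} {F : Type*} [Field k] [Field K] [Field F] [Algebra k K] [Algebra k F]

lemma mem_Afil_iff_val {j : ℤ} {x : LaurentSeries F} :
    x ∈ Afil k j ↔ Valued.v x ≤ exp (-j) :=
  (LaurentSeries.valuation_le_iff_coeff_lt_eq_zero F).symm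

lemma mem_Afil_zero_iff_val {x : LaurentSeries F} :
    x ∈ Afil k 0 ↔ Valued.v x ≤ 1 := by
  rw [mem_Afil_iff_val, neg_zero, exp_zero]

/-- an expansion as a `k`-linear map (for the coefficientwise module structure). -/
noncomputable def phiLin (φ : K →ₐ[k] LaurentSeries F) : K →ₗ[k] LaurentSeries F where
  toFun := φ
  map_add' := map_add φ
  map_smul' c x := by
    simp only [RingHom.id_apply]
    rw [Algebra.smul_def, map_mul, LocRes.map_algebraMap, smul_eq_C_mul]

lemma phiLin_apply (φ : K →ₐ[k] LaurentSeries F) (x : K) : phiLin φ x = φ x := rfl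

/-- density of the image of an expansion. -/
theorem exists_sub_mem_Afil {w : Valuation K (WithZero (Multiplicative ℤ))}
    {φ : K →ₐ[k] LaurentSeries F} (hφ : LocRes.IsExpansionAt w φ) (y : LaurentSeries F) :
    ∃ h : K, y - φ h ∈ Afil k 0 := by
  obtain ⟨hval, hsurj, t, ht⟩ := hφ
  have ht0 : t ≠ 0 := by
    rintro rfl
    rw [map_zero] at ht
    exact (WithZero.exp_ne_zero).symm ht
  have hφt : Valued.v (φ t) = exp (-1 : ℤ) := by rw [hval, ht]
  have hφt0 : φ t ≠ 0 := by
    intro h0
    rw [h0, map_zero] at hφt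
    exact (WithZero.exp_ne_zero).symm hφt
  have key : ∀ (n : ℕ) (y : LaurentSeries F), Valued.v y ≤ exp (n : ℤ) →
      ∃ h : K, Valued.v (y - φ h) ≤ 1 := by
    intro n
    induction n with
    | zero =>
      intro y hy
      exact ⟨0, by simpa using hy⟩
    | succ n ih =>
      intro y hy
      set z := y * (φ t) ^ (n + 1) with hz
      have hvz : Valued.v z ≤ 1 := by
        rw [hz, map_mul, map_pow, hφt, ← exp_nsmul]
        calc Valued.v y * exp ((n + 1) • (-1 : ℤ)) ≤ exp ((n + 1 : ℕ) : ℤ) * exp ((n + 1) • (-1 : ℤ)) :=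
              mul_le_mul' hy le_rfl
          _ = 1 := by
              rw [← exp_add]
              have : ((n + 1 : ℕ) : ℤ) + (n + 1) • (-1 : ℤ) = 0 := by
                simp
              rw [this, exp_zero]
      obtain ⟨f₀, hf₀, hf₀c⟩ := hsurj (z.coeff 0)
      have hv1 : Valued.v (z - φ f₀) ≤ exp (-1 : ℤ) := by
        have hle : Valued.v (z - φ f₀) ≤ 1 :=
          (Valuation.map_sub _ _ _).trans (max_le hvz (by rw [hval]; exact hf₀))
        have hz0 := (mem_Afil_zero_iff_val (k := k)).2 hle
        rw [← mem_Afil_iff_val (k := k)]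
        intro i hi
        by_cases h0 : i = 0
        · subst h0
          rw [coeff_sub, hf₀c, sub_self]
        · exact hz0 i (by omega)
      set h₁ := f₀ * (t ^ (n + 1))⁻¹ with hh₁
      have heq : y - φ h₁ = (z - φ f₀) * ((φ t) ^ (n + 1))⁻¹ := by
        rw [hh₁, map_mul, map_inv₀, map_pow, hz]
        field_simp
      have hv2 : Valued.v (y - φ h₁) ≤ exp (n : ℤ) := by
        rw [heq, map_mul, map_inv₀, map_pow, hφt, ← exp_nsmul, ← exp_neg]
        calc Valued.v (z - φ f₀) * exp (-((n + 1) • (-1 : ℤ))) ≤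
              exp (-1 : ℤ) * exp (-((n + 1) • (-1 : ℤ))) := mul_le_mul' hv1 le_rfl
          _ = exp (n : ℤ) := by
              rw [← exp_add]
              congr 1
              simp
      obtain ⟨h', hh'⟩ := ih (y - φ h₁) hv2
      refine ⟨h₁ + h', ?_⟩
      have : y - φ (h₁ + h') = y - φ h₁ - φ h' := by rw [map_add]; ring
      rw [this]; exact hh'
  obtain ⟨j, hj⟩ := exists_mem_Afil (k := k) y
  have hy : Valued.v y ≤ exp (((-j).toNat : ℕ) : ℤ) := by
    refine ((mem_Afil_iff_val (k := k)).1 hj).trans ?_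
    rw [exp_le_exp]
    omega
  obtain ⟨h, hh⟩ := key _ y hy
  exact ⟨h, (mem_Afil_zero_iff_val (k := k)).2 hh⟩

end Groth.Agent.Lib.LeadTR
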