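import Mathlib
import Groth.Agent.Lib.LeadTR4

/-! Finite products: Tate's trace of a diagonal operator is the sum of the traces. -/

set_option autoImplicit false

namespace Groth.Agent.Lib.LeadTR
open LinearMap Module

variable {k : Type*} [Field k] {ι : Type*} [Fintype ι] [DecidableEq ι]
  {Vi : ι → Type*} [∀ i, AddCommGroup (Vi i)] [∀ i, Module k (Vi i)]

/-- the diagonal operator on a product. -/
def piDiag (θ : ∀ i, Module.End k (Vi i)) : Module.End k (∀ i, Vi i) :=
  LinearMap.pi fun i => θ i ∘ₗ LinearMap.proj i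

lemma piDiag_apply (θ : ∀ i, Module.End k (Vi i)) (x : ∀ i, Vi i) (i : ι) :
    piDiag θ x i = θ i (x i) := rfl

lemma piDiag_mul (θ ξ : ∀ i, Module.End k (Vi i)) :
    piDiag (fun i => θ i * ξ i) = piDiag θ * piDiag ξ := by
  apply LinearMap.ext; intro x; funext i; rfl

lemma piDiag_sub (θ ξ : ∀ i, Module.End k (Vi i)) :
    piDiag (fun i => θ i - ξ i) = piDiag θ - piDiag ξ := by
  apply LinearMap.ext; intro x; funext i; rfl

/-- the `i`-th block. -/
def blk (i : ι) (θ : Module.End k (Vi i)) : Module.End k (∀ i, Vi i) :=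
  LinearMap.single k Vi i ∘ₗ θ ∘ₗ LinearMap.proj i

lemma piDiag_eq_sum (θ : ∀ i, Module.End k (Vi i)) :
    piDiag θ = ∑ i, blk i (θ i) := by
  apply LinearMap.ext
  intro x
  funext j
  rw [piDiag_apply, LinearMap.sum_apply, Finset.sum_apply]
  simp only [blk, LinearMap.comp_apply, LinearMap.proj_apply, LinearMap.single_apply]
  rw [Finset.sum_eq_single j]
  · simp
  · intro b _ hb; exact Pi.single_eq_of_ne (Ne.symm hb) _
  · intro h; exact absurd (Finset.mem_univ j) h

lemma blk_pow (i : ι) (θ : Module.End k (Vi i)) (n : ℕ) :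
    blk i θ ^ (n + 1) = blk i (θ ^ (n + 1)) := by
  induction n with
  | zero => simp
  | succ n ih =>
    rw [pow_succ, ih, pow_succ (θ) (n + 1)]
    apply LinearMap.ext; intro x; funext j
    simp [blk, Module.End.mul_apply]

lemma finPot_blk (i : ι) {θ : Module.End k (Vi i)} (h : FinPot θ) : FinPot (blk i θ) := by
  obtain ⟨n, hn⟩ := h
  haveI := hn
  refine ⟨n + 1, ?_⟩
  rw [blk_pow]
  have : LinearMap.range (blk i (θ ^ (n + 1))) ≤
      (LinearMap.range (θ ^ n)).map (LinearMap.single k Vi i) := by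
    rintro _ ⟨x, rfl⟩
    refine ⟨(θ ^ (n + 1)) (x i), ⟨θ (x i), ?_⟩, rfl⟩
    rw [pow_succ, Module.End.mul_apply]
  exact Submodule.finiteDimensional_of_le this

theorem Tr_blk (i : ι) {θ : Module.End k (Vi i)} (h : FinPot θ) : Tr (blk i θ) = Tr θ := by
  have h1 := Tr_comm (LinearMap.single k Vi i) (θ ∘ₗ LinearMap.proj i) (finPot_blk i h)
  have h2 : (θ ∘ₗ LinearMap.proj i) ∘ₗ LinearMap.single k Vi i = θ := by
    ext x; simp
  rw [h2] at h1
  exact h1

variable (A : ∀ i, Submodule k (Vi i))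

lemma pi_nle {X Y : ∀ i, Submodule k (Vi i)} (h : ∀ i, Nle (X i) (Y i)) :
    Nle (Submodule.pi Set.univ X) (Submodule.pi Set.univ Y) := by
  choose W hW hle using h
  haveI := hW
  refine ⟨⨆ i, (W i).map (LinearMap.single k Vi i), inferInstance, ?_⟩
  intro x hx
  have hx' : ∀ i, x i ∈ Y i ⊔ W i := fun i => hle i (hx i (Set.mem_univ i))
  choose y hy w hw hyw using fun i => Submodule.mem_sup.1 (hx' i)
  have : x = (fun i => y i) + ∑ i, LinearMap.single k Vi i (w i) := by
    ext j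
    rw [Pi.add_apply, Finset.sum_apply]
    simp only [LinearMap.single_apply]
    rw [Finset.sum_eq_single j]
    · simp [hyw j]
    · intro b _ hb; exact Pi.single_eq_of_ne (Ne.symm hb) _
    · intro h; exact absurd (Finset.mem_univ j) h
  rw [this]
  refine Submodule.add_mem _ (Submodule.mem_sup_left fun i _ => hy i) (Submodule.mem_sup_right ?_)
  refine Submodule.sum_mem _ fun i _ => ?_
  exact Submodule.mem_iSup_of_mem i ⟨w i, hw i, rfl⟩

lemma piDiag_inE {θ : ∀ i, Module.End k (Vi i)} (h : ∀ i, InE (A i) (θ i)) :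
    InE (Submodule.pi Set.univ A) (piDiag θ) := by
  refine Nle.mono_left ?_ (pi_nle h)
  rintro _ ⟨x, hx, rfl⟩ i _
  exact ⟨x i, hx i (Set.mem_univ i), rfl⟩

lemma piDiag_isProj {π : ∀ i, Module.End k (Vi i)} (h : ∀ i, LinearMap.IsProj (A i) (π i)) :
    LinearMap.IsProj (Submodule.pi Set.univ A) (piDiag π) :=
  ⟨fun x i _ => (h i).map_mem (x i), fun x hx => by
    ext i; exact (h i).map_id (x i) (hx i (Set.mem_univ i))⟩

lemma blk_mem_E0 (i : ι) {θ : Module.End k (Vi i)} (h : θ ∈ E0 (A i)) :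
    blk i θ ∈ E0 (Submodule.pi Set.univ A) := by
  constructor
  · have h1 : LinearMap.range (blk i θ) ≤ (LinearMap.range θ).map (LinearMap.single k Vi i) := by
      rintro _ ⟨x, rfl⟩; exact ⟨θ (x i), ⟨x i, rfl⟩, rfl⟩
    refine Nle.mono_left h1 ((Nle.map h.1 _).trans (Nle.of_le ?_))
    rintro _ ⟨a, ha, rfl⟩ j _
    by_cases hj : j = i
    · subst hj; simpa using ha
    · rw [LinearMap.single_apply, Pi.single_eq_of_ne hj]; exact (A j).zero_mem
  · haveI : FiniteDimensional k ((A i).map θ) := h.2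
    show FiniteDimensional k ((Submodule.pi Set.univ A).map (blk i θ))
    refine Submodule.finiteDimensional_of_le (S₂ := ((A i).map θ).map (LinearMap.single k Vi i)) ?_
    rintro _ ⟨x, hx, rfl⟩
    exact ⟨θ (x i), ⟨x i, hx i (Set.mem_univ i), rfl⟩, rfl⟩

/-- Tate's trace of a diagonal operator. -/
theorem Tr_piDiag {θ : ∀ i, Module.End k (Vi i)} (h : ∀ i, θ i ∈ E0 (A i)) :
    Tr (piDiag θ) = ∑ i, Tr (θ i) := by
  rw [piDiag_eq_sum, Tr_sum (A := Submodule.pi Set.univ A) _ _ (fun i _ => blk_mem_E0 A i (h i))]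
  exact Finset.sum_congr rfl fun i _ => Tr_blk i (E0.finPot (h i))

end Groth.Agent.Lib.LeadTR
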