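import Mathlib
import Groth.Prelude.Def_W4bk4goldsch23FF
import Groth.Agent.S10997
import Groth.Agent.S10983
import Groth.Agent.S10978

/-! Universe-polymorphic strong approximation facts for repartitions. -/

set_option autoImplicit false

namespace Groth.Agent.Lib.LeadTR
open FunFld

variable {k : Type*} {K : Type*} [Field k] [Field K] [Algebra k K]

/-- strong approximation for repartitions: away from `P` any repartition is integral modulo `K`. -/
theorem exists_sub_integral' (hK : IsFunctionField k K) (P : Place k K)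
    (a : Place k K → K) (ha : a ∈ adele k K) :
    ∃ x : K, ∀ Q : Place k K, Q ≠ P → Q.1 (a Q - x) ≤ 1 := by
  classical
  have hfin : {Q : Place k K | ¬ Q.1 (a Q) ≤ 1}.Finite := ha
  set T : Finset (Place k K) := hfin.toFinset.erase P with hT
  let e := T.equivFin
  obtain ⟨y, hy1, hy2⟩ := Groth.Agent.S10997.result k K hK P T.card
    (fun i => ((e.symm i : T) : Place k K))
    (fun i j hij => e.symm.injective (Subtype.ext hij))
    (by
      rintro ⟨i, hi⟩
      have : ((e.symm i : T) : Place k K) ∈ T := (e.symm i).2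
      have hi' : ((e.symm i : T) : Place k K) = P := hi
      rw [hi', hT] at this
      exact (Finset.notMem_erase P _) this)
    (fun i => a ((e.symm i : T) : Place k K)) (fun _ => 0)
  refine ⟨y, fun Q hQ => ?_⟩
  by_cases hQT : Q ∈ T
  · have := hy1 (e ⟨Q, hQT⟩)
    simp only [Equiv.symm_apply_apply, neg_zero, WithZero.exp_zero] at this
    rw [← Valuation.map_neg, neg_sub, this]
  · have hQa : Q.1 (a Q) ≤ 1 := by
      by_contra hcon
      apply hQT
      rw [hT, Finset.mem_erase]
      exact ⟨hQ, by simpa using hcon⟩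
    have hQy : Q.1 y ≤ 1 := by
      apply hy2 Q hQ
      rintro ⟨i, hi⟩
      apply hQT
      rw [← hi]
      exact (e.symm i).2
    exact (Valuation.map_sub _ _ _).trans (max_le hQa hQy)

open Classical in
lemma single_mem_adele' (P : Place k K) (f : K) :
    (Pi.single P f : Place k K → K) ∈ adele k K := by
  show ∀ᶠ Q : Place k K in Filter.cofinite, Q.1 ((Pi.single P f : Place k K → K) Q) ≤ 1
  rw [Filter.eventually_cofinite]
  apply Set.Finite.subset (Set.finite_singleton P)
  intro Q hQ
  by_contra hne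
  apply hQ
  have hne' : Q ≠ P := hne
  simp [Pi.single_eq_of_ne hne']

open Classical in
/-- the map `K → A/(A(0)+K)` placing `f` at `P`. -/
noncomputable def phi' (P : Place k K) : K →ₗ[k] (adele k K ⧸ ADK (0 : Divisor k K)) :=
  (ADK (0 : Divisor k K)).mkQ ∘ₗ
    (LinearMap.codRestrict (adele k K) (LinearMap.single k (fun _ : Place k K => K) P)
      (fun f => single_mem_adele' P f))

open Classical in
theorem ker_phi' (P : Place k K) (f : K) (hf : phi' (k := k) (K := K) P f = 0) :
    ∃ r o : K, f = r + o ∧ (∀ Q : Place k K, Q ≠ P → Q.1 r ≤ 1) ∧ P.1 o ≤ 1 := by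
  rw [phi', LinearMap.comp_apply, Submodule.mkQ_apply,
    Submodule.Quotient.mk_eq_zero, ADK, Submodule.mem_comap, Submodule.mem_sup] at hf
  obtain ⟨α, hα, _, ⟨x, rfl⟩, hsum⟩ := hf
  have hsum' : ∀ Q : Place k K, α Q + x = (Pi.single P f : Place k K → K) Q := by
    intro Q
    have := congrFun hsum Q
    simpa [diag] using this
  refine ⟨x, f - x, by ring, ?_, ?_⟩
  · intro Q hQ
    have h1 := hsum' Q
    rw [Pi.single_eq_of_ne hQ] at h1
    have hx : x = -α Q := by linear_combination h1
    rw [hx, Valuation.map_neg]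
    simpa using hα Q
  · have h1 := hsum' P
    rw [Pi.single_eq_same] at h1
    have hx : f - x = α P := by linear_combination -h1
    rw [hx]
    simpa using hα P

open Classical in
theorem phi'_surjective (hK : IsFunctionField k K) (P : Place k K) :
    Function.Surjective (phi' (k := k) (K := K) P) := by
  intro c
  obtain ⟨⟨a, ha⟩, rfl⟩ := Submodule.Quotient.mk_surjective _ c
  obtain ⟨x, hx⟩ := exists_sub_integral' hK P a ha
  refine ⟨a P - x, ?_⟩
  rw [phi', LinearMap.comp_apply, Submodule.mkQ_apply]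
  symm
  rw [Submodule.Quotient.eq, ADK, Submodule.mem_comap, Submodule.mem_sup]
  refine ⟨fun Q => if Q = P then 0 else a Q - x, ?_, diag k K x, ⟨x, rfl⟩, ?_⟩
  · intro Q
    show Q.1 (if Q = P then 0 else a Q - x) ≤ WithZero.exp ((0 : Divisor k K) Q)
    simp only [Finsupp.coe_zero, Pi.zero_apply, WithZero.exp_zero]
    split_ifs with h
    · simp
    · exact hx Q h
  · funext Q
    by_cases h : Q = P
    · subst h
      simp [diag]
    · simp [diag, h, Pi.single_eq_of_ne h]

/-- a finite dimensional `Wk` with `K = Wk + O_{\{P\}} + O_P`. -/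
theorem exists_fd_compl (hK : IsFunctionField k K) (P : Place k K) :
    ∃ Wk : Submodule k K, FiniteDimensional k Wk ∧ ∀ f : K, ∃ w ∈ Wk, ∃ r o : K,
      f = w + r + o ∧ (∀ Q : Place k K, Q ≠ P → Q.1 r ≤ 1) ∧ P.1 o ≤ 1 := by
  obtain ⟨hfd, -⟩ := Groth.Agent.S10983.result k K hK (0 : Divisor k K)
  haveI := hfd
  obtain ⟨Wk, hWk⟩ := Submodule.exists_isCompl (LinearMap.ker (phi' (k := k) (K := K) P))
  refine ⟨Wk, ?_, fun f => ?_⟩
  · let e1 := Submodule.quotientEquivOfIsCompl _ _ hWk
    let e2 := LinearMap.quotKerEquivOfSurjective _ (phi'_surjective hK P)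
    exact (e1.symm.trans e2).symm.finiteDimensional
  · have hf : f ∈ (LinearMap.ker (phi' (k := k) (K := K) P) ⊔ Wk : Submodule k K) := by
      rw [hWk.sup_eq_top]; trivial
    obtain ⟨z, hz, w, hw, rfl⟩ := Submodule.mem_sup.1 hf
    obtain ⟨r, o, hro, hr, ho⟩ := ker_phi' P z (LinearMap.mem_ker.1 hz)
    exact ⟨w, hw, r, o, by rw [hro]; ring, hr, ho⟩

end Groth.Agent.Lib.LeadTR
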