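import Mathlib
import Groth.Agent.Lib.LeadTR8
import Groth.Agent.Lib.LeadTR9
import Groth.Agent.Lib.LeadTR10

/-! The residue theorem for a finite set of places containing all the poles. -/

set_option autoImplicit false

namespace Groth.Agent.Lib.LeadTR
open LinearMap Module HahnSeries FunFld

universe u v w

variable {k : Type u} {K : Type v} [Field k] [Field K] [Algebra k K]

/-- elements integral outside `S`. -/
def RS (S : Set (Place k K)) : Submodule k K where
  carrier := {x | ∀ Q : Place k K, Q ∉ S → Q.1 x ≤ 1}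
  add_mem' {a b} ha hb Q hQ := (Q.1.map_add a b).trans (max_le (ha Q hQ) (hb Q hQ))
  zero_mem' Q _ := by simp
  smul_mem' c x hx Q hQ := by
    rw [Algebra.smul_def, map_mul]
    exact (mul_le_mul' (Q.2.1 c) (hx Q hQ)).trans_eq (one_mul _)

theorem sum_locRes_eq_zero_of_poles (hK : IsFunctionField k K) (S : Finset (Place k K))
    (hS : S.Nonempty)
    (F : Place k K → Type w) [∀ P, Field (F P)] [∀ P, Algebra k (F P)]
    [∀ P, FiniteDimensional k (F P)]
    (φ : ∀ P, K →ₐ[k] LaurentSeries (F P)) (hφ : ∀ P ∈ S, LocRes.IsExpansionAt P.1 (φ P))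
    (f g : K) (hf : ∀ Q : Place k K, Q ∉ S → Q.1 f ≤ 1) (hg : ∀ Q : Place k K, Q ∉ S → Q.1 g ≤ 1) :
    ∑ P ∈ S, LocRes.locRes (φ P) f g = 0 := by
  classical
  obtain ⟨P₀, hP₀⟩ := hS
  -- the product space
  let ι := {P : Place k K // P ∈ S}
  let Vi : ι → Type w := fun P => LaurentSeries (F P.1)
  let A : ∀ P : ι, Submodule k (Vi P) := fun P => Afil k (F := F P.1) 0
  let πi : ∀ P : ι, Module.End k (Vi P) := fun P => posP k (F P.1)
  let Mf : ∀ P : ι, Module.End k (Vi P) := fun P => mulL k (φ P.1 f)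
  let Mg : ∀ P : ι, Module.End k (Vi P) := fun P => mulL k (φ P.1 g)
  let θi : ∀ P : ι, Module.End k (Vi P) := fun P => thetaL k (φ P.1 f) (φ P.1 g)
  have hθeq : piDiag πi * piDiag Mf * piDiag Mg - piDiag Mg * (piDiag πi * piDiag Mf) =
      piDiag θi := by
    apply LinearMap.ext; intro x; funext P; rfl
  -- the diagonal image of the `S`-integers
  let Δ : RS (k := k) (K := K) (S : Set (Place k K)) →ₗ[k] (∀ P : ι, Vi P) :=
    (LinearMap.pi fun P : ι => phiLin (φ P.1)) ∘ₗ (RS (S : Set (Place k K))).subtype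
  have hΔ : ∀ (u : RS (k := k) (K := K) (S : Set (Place k K))) (P : ι), Δ u P = φ P.1 u.1 :=
    fun u P => rfl
  let B : Submodule k (∀ P : ι, Vi P) := LinearMap.range Δ
  have hfRS : f ∈ RS (k := k) (K := K) (S : Set (Place k K)) := fun Q hQ => hf Q hQ
  have hgRS : g ∈ RS (k := k) (K := K) (S : Set (Place k K)) := fun Q hQ => hg Q hQ
  have hmulRS : ∀ a b : K, a ∈ RS (k := k) (K := K) (S : Set (Place k K)) →
      b ∈ RS (k := k) (K := K) (S : Set (Place k K)) →
      a * b ∈ RS (k := k) (K := K) (S : Set (Place k K)) := by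
    intro a b ha hb Q hQ
    rw [map_mul]; exact mul_le_one' (ha Q hQ) (hb Q hQ)
  have hstab : ∀ (h : K), h ∈ RS (k := k) (K := K) (S : Set (Place k K)) →
      ∀ x ∈ B, piDiag (fun P : ι => mulL k (φ P.1 h)) x ∈ B := by
    rintro h hh _ ⟨u, rfl⟩
    refine ⟨⟨h * u.1, hmulRS h u.1 hh u.2⟩, ?_⟩
    funext P
    rw [hΔ, piDiag_apply, mulL_apply, hΔ, map_mul]
  -- the main vanishing
  have hmain : resP (piDiag πi) (piDiag Mf) (piDiag Mg) = 0 := by
    apply resP_eq_zero_of_global (A := Submodule.pi Set.univ A) (B := B)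
    · exact piDiag_isProj A fun P => isProj_posP
    · exact piDiag_inE A fun P => mulL_inE _
    · exact piDiag_inE A fun P => mulL_inE _
    · rw [← piDiag_mul, ← piDiag_mul]
      congr 1
      funext P
      exact mulL_comm _ _
    · exact hstab f hfRS
    · exact hstab g hgRS
    · -- `A ⊓ B` is finite dimensional
      let x₁ : ∀ P : ι, Vi P := fun P => (1 : LaurentSeries (F P.1))
      refine Submodule.finiteDimensional_of_le (S₂ := Submodule.span k {x₁}) ?_
      rintro _ ⟨hxA, ⟨u, rfl⟩⟩
      have hu0 : u.1 ∈ FunFld.L (0 : Divisor k K) := by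
        intro Q
        simp only [Finsupp.coe_zero, Pi.zero_apply, WithZero.exp_zero]
        by_cases hQ : Q ∈ S
        · have h1 := hxA ⟨Q, hQ⟩ (Set.mem_univ _)
          have h2 : φ Q u.1 ∈ Afil k (F := F Q) 0 := h1
          rw [mem_Afil_zero_iff_val, (hφ Q hQ).1] at h2
          exact h2
        · exact u.2 Q hQ
      rw [Groth.Agent.S10978.result k K hK] at hu0
      obtain ⟨c, hc⟩ := Submodule.mem_one.1 hu0
      rw [Submodule.mem_span_singleton]
      refine ⟨c, ?_⟩
      funext P
      rw [hΔ, ← hc, Pi.smul_apply, LocRes.map_algebraMap, smul_eq_C_mul, mul_one]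
    · -- `A + B` is cofinite
      obtain ⟨Wk, hWk, hdec⟩ := exists_fd_compl hK P₀
      haveI := hWk
      let ιP₀ : K →ₗ[k] (∀ P : ι, Vi P) :=
        LinearMap.single k Vi ⟨P₀, hP₀⟩ ∘ₗ phiLin (φ P₀)
      refine ⟨Wk.map ιP₀, inferInstance, ?_⟩
      rw [eq_top_iff]
      intro x _
      -- approximate each component
      choose y hy using fun P : ι => exists_sub_mem_Afil (k := k) (hφ P.1 P.2) (x P)
      -- the repartition
      let a : Place k K → K := fun Q => if hQ : Q ∈ S then y ⟨Q, hQ⟩ else 0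
      have ha : a ∈ adele k K := by
        show ∀ᶠ Q : Place k K in Filter.cofinite, Q.1 (a Q) ≤ 1
        rw [Filter.eventually_cofinite]
        apply Set.Finite.subset S.finite_toSet
        intro Q hQ
        by_contra hne
        apply hQ
        have : a Q = 0 := dif_neg hne
        rw [this]; simp
      obtain ⟨u₀, hu₀⟩ := exists_sub_integral' hK P₀ a ha
      obtain ⟨wk, hwk, r, o, hdecomp, hr, ho⟩ := hdec (a P₀ - u₀)
      have haS : ∀ P : ι, a P.1 = y P := fun P => dif_pos P.2
      have hu₀RS : u₀ + r ∈ RS (k := k) (K := K) (S : Set (Place k K)) := by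
        intro Q hQ
        have hQP₀ : Q ≠ P₀ := fun h => hQ (h ▸ hP₀)
        have h1 := hu₀ Q hQP₀
        have : a Q = 0 := dif_neg hQ
        rw [this, zero_sub, Valuation.map_neg] at h1
        exact (Q.1.map_add _ _).trans (max_le h1 (hr Q hQP₀))
      -- the integral part
      let α : ∀ P : ι, Vi P := fun P =>
        (x P - φ P.1 (y P)) + φ P.1 (if P.1 = P₀ then o else y P - u₀ - r)
      have hα : α ∈ Submodule.pi Set.univ A := by
        intro P _
        refine Submodule.add_mem _ (hy P) ?_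
        show φ P.1 _ ∈ Afil k (F := F P.1) 0
        rw [mem_Afil_zero_iff_val, (hφ P.1 P.2).1]
        split_ifs with hP
        · rw [hP]; exact ho
        · have h1 := hu₀ P.1 hP
          rw [haS P] at h1
          have : y P - u₀ - r = (y P - u₀) - r := rfl
          rw [this]
          exact (Valuation.map_sub _ _ _).trans (max_le h1 (hr P.1 hP))
      have hxdec : x = α + Δ ⟨u₀ + r, hu₀RS⟩ + ιP₀ wk := by
        funext P
        rw [Pi.add_apply, Pi.add_apply, hΔ]
        show x P = (x P - φ P.1 (y P)) + φ P.1 (if P.1 = P₀ then o else y P - u₀ - r) +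
          φ P.1 (u₀ + r) + (Pi.single (⟨P₀, hP₀⟩ : ι) (φ P₀ wk) : ∀ P : ι, Vi P) P
        by_cases hP : P.1 = P₀
        · have hP' : P = ⟨P₀, hP₀⟩ := Subtype.ext hP
          subst hP'
          rw [if_pos rfl, Pi.single_eq_same]
          have e : y ⟨P₀, hP₀⟩ = wk + r + o + u₀ := by
            rw [← haS ⟨P₀, hP₀⟩, ← hdecomp]; ring
          rw [e]
          simp only [map_add]
          ring
        · have hP' : P ≠ ⟨P₀, hP₀⟩ := fun h => hP (congrArg Subtype.val h)
          rw [if_neg hP, Pi.single_eq_of_ne hP']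
          simp only [map_add, map_sub]
          ring
      rw [hxdec]
      exact Submodule.add_mem _ (Submodule.add_mem _
        (Submodule.mem_sup_left (Submodule.mem_sup_left hα))
        (Submodule.mem_sup_left (Submodule.mem_sup_right ⟨_, rfl⟩)))
        (Submodule.mem_sup_right ⟨wk, hwk, rfl⟩)
  -- conclude
  rw [resP, hθeq, Tr_piDiag A (fun P => thetaL_mem_E0 _ _)] at hmain
  have hterm : ∀ P : ι, Tr (θi P) = LocRes.locRes (φ P.1) f g := by
    intro P
    show Tr (thetaL k (φ P.1 f) (φ P.1 g)) = _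
    rw [Tr_thetaL]
    rfl
  have hmain' : ∑ P : ι, LocRes.locRes (φ P.1) f g = 0 := by
    rw [← hmain]
    exact Finset.sum_congr rfl fun P _ => (hterm P).symm
  rw [← hmain']
  exact (Finset.sum_coe_sort S (fun P => LocRes.locRes (φ P) f g)).symm

end Groth.Agent.Lib.LeadTR
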