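import Mathlib
import Groth.Agent.Lib.LeadTR11
import Groth.Agent.S10970
import Groth.Agent.S12622

/-! The residue theorem. -/

set_option autoImplicit false

namespace Groth.Agent.Lib.LeadTR
open FunFld

universe u v w

variable {k : Type u} {K : Type v} [Field k] [Field K] [Algebra k K]

lemma finite_poles (hK : IsFunctionField k K) (x : K) :
    {P : Place k K | ¬ P.1 x ≤ 1}.Finite := by
  apply Set.Finite.subset (Groth.Agent.S10970.result k K hK x)
  intro P hP
  rw [Function.mem_support]
  intro h0
  apply hP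
  have hx0 : x ≠ 0 := by
    rintro rfl
    apply hP; simp
  have hv0 : P.1 x ≠ 0 := (Valuation.ne_zero_iff _).2 hx0
  have : WithZero.log (P.1 x) = 0 := by
    have : -WithZero.log (P.1 x) = 0 := h0
    omega
  rw [← WithZero.exp_log hv0, this, WithZero.exp_zero]

theorem residue_theorem (hK : IsFunctionField k K)
    (F : Place k K → Type w) [∀ P, Field (F P)] [∀ P, Algebra k (F P)]
    [∀ P, FiniteDimensional k (F P)]
    (φ : ∀ P, K →ₐ[k] LaurentSeries (F P)) (hφ : ∀ P, LocRes.IsExpansionAt P.1 (φ P))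
    (f g : K) :
    (Function.support fun P => LocRes.locRes (φ P) f g).Finite ∧
      ∑ᶠ P, LocRes.locRes (φ P) f g = 0 := by
  classical
  have hfin : ({P : Place k K | ¬ P.1 f ≤ 1} ∪ {P : Place k K | ¬ P.1 g ≤ 1}).Finite :=
    (finite_poles hK f).union (finite_poles hK g)
  set S : Finset (Place k K) := hfin.toFinset with hS
  have hfS : ∀ Q : Place k K, Q ∉ S → Q.1 f ≤ 1 := by
    intro Q hQ
    by_contra h
    exact hQ (by rw [hS, Set.Finite.mem_toFinset]; exact Or.inl h)
  have hgS : ∀ Q : Place k K, Q ∉ S → Q.1 g ≤ 1 := by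
    intro Q hQ
    by_contra h
    exact hQ (by rw [hS, Set.Finite.mem_toFinset]; exact Or.inr h)
  have hsupp : (Function.support fun P => LocRes.locRes (φ P) f g) ⊆ (S : Set (Place k K)) := by
    intro P hP
    by_contra hPS
    apply hP
    show Algebra.trace k (F P) (LocRes.resExp (φ P) f g) = 0
    rw [Groth.Agent.S12622.result P.1 (φ P) (hφ P) f g (hfS P hPS) (hgS P hPS), map_zero]
  refine ⟨S.finite_toSet.subset hsupp, ?_⟩
  rw [finsum_eq_sum_of_support_subset _ hsupp]
  by_cases hne : S.Nonempty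
  · exact sum_locRes_eq_zero_of_poles hK S hne F φ (fun P _ => hφ P) f g hfS hgS
  · rw [Finset.not_nonempty_iff_eq_empty.1 hne, Finset.sum_empty]

end Groth.Agent.Lib.LeadTR
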