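import Mathlib
import Groth.Agent.Lib.LeadTR12

/-! The Weil differential attached to a differential `u dv` through local residues. -/

set_option autoImplicit false

namespace Groth.Agent.Lib.LeadTR
open FunFld HahnSeries WithZero

universe u v w

variable {k : Type u} {K : Type v} [Field k] [Field K] [Algebra k K]

section Local
variable {F : Type w} [Field F] [Algebra k F]

lemma locRes_add (φ : K →ₐ[k] LaurentSeries F) (x y z : K) :
    LocRes.locRes φ (x + y) z = LocRes.locRes φ x z + LocRes.locRes φ y z := by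
  simp only [LocRes.locRes, LocRes.resExp, map_add, add_mul]

lemma locRes_zero (φ : K →ₐ[k] LaurentSeries F) (z : K) : LocRes.locRes φ 0 z = 0 := by
  simp only [LocRes.locRes, LocRes.resExp, map_zero, zero_mul]

lemma locRes_smul (φ : K →ₐ[k] LaurentSeries F) (c : k) (x z : K) :
    LocRes.locRes φ (c • x) z = c * LocRes.locRes φ x z := by
  have h1 : φ (c • x) = HahnSeries.C (algebraMap k F c) * φ x := by
    rw [Algebra.smul_def, map_mul, LocRes.map_algebraMap]
  show Algebra.trace k F (LocRes.res F (φ (c • x) * LocRes.D F (φ z))) =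
    c * Algebra.trace k F (LocRes.res F (φ x * LocRes.D F (φ z)))
  rw [h1, mul_assoc, HahnSeries.C_mul_eq_smul, map_smul, algebraMap_smul, map_smul, smul_eq_mul]

lemma resExp_eq_coeff (φ : K →ₐ[k] LaurentSeries F) (x z : K) :
    LocRes.resExp φ x z = (φ x * LocRes.D F (φ z)).coeff (-1) := rfl

/-- the coefficient of a product in the lowest degree. -/
lemma coeff_mul_of_mem_Afil {i j : ℤ} {x y : LaurentSeries F} (hx : x ∈ Afil k i)
    (hy : y ∈ Afil k j) : (x * y).coeff (i + j) = x.coeff i * y.coeff j := by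
  set x' := x - single i (x.coeff i) with hx'
  have hx'mem : x' ∈ Afil k (i + 1) := by
    intro p hp
    rw [hx', coeff_sub]
    by_cases h : p = i
    · subst h; rw [coeff_single_same, sub_self]
    · rw [coeff_single_of_ne h, sub_zero]; exact hx p (by omega)
  have hsplit : x = single i (x.coeff i) + x' := by rw [hx']; abel
  have h1 : (x' * y).coeff (i + j) = 0 := mul_mem_Afil hx'mem hy (i + j) (by omega)
  conv_lhs => rw [hsplit]
  rw [add_mul, coeff_add, h1, add_zero, coeff_single_mul]
  congr 2
  ring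

end Local

variable (F : Place k K → Type w) [∀ P, Field (F P)] [∀ P, Algebra k (F P)]
  [∀ P, FiniteDimensional k (F P)]
  (φ : ∀ P, K →ₐ[k] LaurentSeries (F P))

lemma diag_mem_adele (hK : IsFunctionField k K) (x : K) : diag k K x ∈ adele k K := by
  show ∀ᶠ P : Place k K in Filter.cofinite, P.1 (diag k K x P) ≤ 1
  rw [Filter.eventually_cofinite]
  exact finite_poles hK x

variable {F φ}

lemma support_locRes_adele (hK : IsFunctionField k K)
    (hφ : ∀ P, LocRes.IsExpansionAt P.1 (φ P)) (u v : K) (a : adele k K) :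
    (Function.support fun P => LocRes.locRes (φ P) ((a : Place k K → K) P * u) v).Finite := by
  have ha : {P : Place k K | ¬ P.1 ((a : Place k K → K) P) ≤ 1}.Finite := a.2
  apply ((ha.union (finite_poles hK u)).union (finite_poles hK v)).subset
  intro P hP
  by_contra hbad
  simp only [Set.mem_union, Set.mem_setOf_eq, not_or, not_not] at hbad
  obtain ⟨⟨h1, h2⟩, h3⟩ := hbad
  apply hP
  show Algebra.trace k (F P) (LocRes.resExp (φ P) _ v) = 0
  rw [Groth.Agent.S12622.result P.1 (φ P) (hφ P) _ v
    (by rw [map_mul]; exact mul_le_one' h1 h2) h3, map_zero]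

/-- the residue functional on repartitions. -/
noncomputable def omegaRes (hK : IsFunctionField k K)
    (hφ : ∀ P, LocRes.IsExpansionAt P.1 (φ P)) (u v : K) : Module.Dual k (adele k K) where
  toFun a := ∑ᶠ P, LocRes.locRes (φ P) ((a : Place k K → K) P * u) v
  map_add' a b := by
    rw [← finsum_add_distrib (support_locRes_adele hK hφ u v a) (support_locRes_adele hK hφ u v b)]
    refine finsum_congr fun P => ?_
    show LocRes.locRes (φ P) (((a : Place k K → K) P + (b : Place k K → K) P) * u) v = _
    rw [add_mul, locRes_add]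
  map_smul' c a := by
    simp only [RingHom.id_apply]
    rw [smul_finsum]
    refine finsum_congr fun P => ?_
    show LocRes.locRes (φ P) ((c • (a : Place k K → K) P) * u) v = _
    rw [smul_mul_assoc, locRes_smul, smul_eq_mul]

lemma omegaRes_apply (hK : IsFunctionField k K)
    (hφ : ∀ P, LocRes.IsExpansionAt P.1 (φ P)) (u v : K) (a : adele k K) :
    omegaRes hK hφ u v a = ∑ᶠ P, LocRes.locRes (φ P) ((a : Place k K → K) P * u) v := rfl

open Classical in
lemma omegaRes_single (hK : IsFunctionField k K)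
    (hφ : ∀ P, LocRes.IsExpansionAt P.1 (φ P)) (u v : K) (P : Place k K) (x : K)
    (hx : (Pi.single P x : Place k K → K) ∈ adele k K) :
    omegaRes hK hφ u v ⟨Pi.single P x, hx⟩ = LocRes.locRes (φ P) (x * u) v := by
  rw [omegaRes_apply, finsum_eq_single _ P]
  · show LocRes.locRes (φ P) ((Pi.single P x : Place k K → K) P * u) v = _
    rw [Pi.single_eq_same]
  · intro Q hQ
    show LocRes.locRes (φ Q) ((Pi.single P x : Place k K → K) Q * u) v = 0
    rw [Pi.single_eq_of_ne hQ, zero_mul, locRes_zero]

theorem exists_weil_of_residues (hK : IsFunctionField k K)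
    (hφ : ∀ P, LocRes.IsExpansionAt P.1 (φ P)) (u v : K)
    (hne : ∀ P, LocRes.vDiff (φ P) u v ≠ 0)
    (htr : ∀ P, ∀ c : F P, c ≠ 0 → ∃ b : F P, Algebra.trace k (F P) (b * c) ≠ 0)
    (C : Divisor k K) (hC : ∀ P, C P = LocRes.ordDiff (φ P) u v)
    (hplace : Nonempty (Place k K)) :
    IsWeil (omegaRes hK hφ u v) ∧ omegaRes hK hφ u v ≠ 0 ∧ IsDivOf (omegaRes hK hφ u v) C := by
  classical
  set ω := omegaRes hK hφ u v with hω
  have hvD : ∀ P, LocRes.vDiff (φ P) u v = exp (-(C P)) := by
    intro P
    rw [hC P, LocRes.ordDiff, neg_neg, WithZero.exp_log (hne P)]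
  -- (L): vanishing of the local terms
  have hL : ∀ (P : Place k K) (x : K), P.1 x ≤ exp (C P) → LocRes.locRes (φ P) (x * u) v = 0 := by
    intro P x hx
    have h1 : Valued.v (φ P (x * u) * LocRes.D (F P) (φ P v)) ≤ 1 := by
      have e : φ P (x * u) * LocRes.D (F P) (φ P v) =
          φ P x * (φ P u * LocRes.D (F P) (φ P v)) := by rw [map_mul, mul_assoc]
      rw [e, map_mul, (hφ P).1]
      have : Valued.v (φ P u * LocRes.D (F P) (φ P v)) = exp (-(C P)) := hvD P
      rw [this]
      calc P.1 x * exp (-(C P)) ≤ exp (C P) * exp (-(C P)) := mul_le_mul' hx le_rfl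
        _ = 1 := by rw [← exp_add]; simp
    have h2 := (mem_Afil_zero_iff_val (k := k)).2 h1
    show Algebra.trace k (F P) (LocRes.resExp (φ P) (x * u) v) = 0
    rw [resExp_eq_coeff, h2 (-1) (by omega), map_zero]
  -- vanishing on `A(E)` for `E ≤ C`
  have hvanAD : ∀ E : Divisor k K, E ≤ C → ∀ a : adele k K, (a : Place k K → K) ∈ AD E → ω a = 0 := by
    intro E hEC a ha
    rw [hω, omegaRes_apply]
    refine finsum_eq_zero_of_forall_eq_zero fun P => hL P _ ((ha P).trans ?_)
    rw [exp_le_exp]; exact hEC P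
  -- vanishing on `K`
  have hvanK : ∀ x : K, ω ⟨diag k K x, diag_mem_adele hK x⟩ = 0 := by
    intro x
    rw [hω, omegaRes_apply]
    exact (residue_theorem hK F φ hφ (x * u) v).2
  have hWD : ∀ E : Divisor k K, E ≤ C → ω ∈ WD E := by
    intro E hEC
    rw [WD, Submodule.mem_dualAnnihilator]
    intro a ha
    rw [ADK, Submodule.mem_comap, Submodule.mem_sup] at ha
    obtain ⟨α, hα, _, ⟨x, rfl⟩, hsum⟩ := ha
    have hαad : α ∈ adele k K := by
      have : α = (a : Place k K → K) - diag k K x := eq_sub_of_add_eq hsum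
      rw [this]
      exact Submodule.sub_mem _ a.2 (diag_mem_adele hK x)
    have : a = ⟨α, hαad⟩ + ⟨diag k K x, diag_mem_adele hK x⟩ := Subtype.ext hsum.symm
    rw [this, map_add, hvanAD E hEC ⟨α, hαad⟩ hα, hvanK x, add_zero]
  -- (N): a nonvanishing local term
  have hN : ∀ (P : Place k K) (E : Divisor k K), C P < E P →
      ∃ x : K, P.1 x ≤ exp (E P) ∧ LocRes.locRes (φ P) (x * u) v ≠ 0 := by
    intro P E hlt
    obtain ⟨h, hh⟩ := P.2.2 (exp (C P + 1))
    set y := φ P (h * u) * LocRes.D (F P) (φ P v) with hy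
    have hvy : Valued.v y = exp (1 : ℤ) := by
      have e : y = φ P h * (φ P u * LocRes.D (F P) (φ P v)) := by rw [hy, map_mul, mul_assoc]
      rw [e, map_mul, (hφ P).1, hh]
      have : Valued.v (φ P u * LocRes.D (F P) (φ P v)) = exp (-(C P)) := hvD P
      rw [this, ← exp_add]; congr 1; ring
    have hymem : y ∈ Afil k (F := F P) (-1) := by
      rw [mem_Afil_iff_val, hvy]; simp
    have hc : y.coeff (-1) ≠ 0 := by
      intro h0
      have : y ∈ Afil k (F := F P) 0 := by
        intro i hi
        by_cases hi1 : i = -1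
        · rw [hi1]; exact h0
        · exact hymem i (by omega)
      rw [mem_Afil_zero_iff_val, hvy] at this
      have h1 : (exp (1 : ℤ) : WithZero (Multiplicative ℤ)) ≤ exp (0 : ℤ) := by rwa [exp_zero]
      rw [exp_le_exp] at h1
      omega
    obtain ⟨b, hb⟩ := htr P _ hc
    obtain ⟨β, hβ1, hβ2⟩ := (hφ P).2.1 b
    refine ⟨β * h, ?_, ?_⟩
    · rw [map_mul, hh]
      calc P.1 β * exp (C P + 1) ≤ 1 * exp (C P + 1) := mul_le_mul' hβ1 le_rfl
        _ = exp (C P + 1) := one_mul _
        _ ≤ exp (E P) := by rw [exp_le_exp]; omega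
    · show Algebra.trace k (F P) (LocRes.resExp (φ P) (β * h * u) v) ≠ 0
      rw [resExp_eq_coeff]
      have hβmem : φ P β ∈ Afil k (F := F P) 0 := by
        rw [mem_Afil_zero_iff_val, (hφ P).1]; exact hβ1
      have e : φ P (β * h * u) * LocRes.D (F P) (φ P v) = φ P β * y := by
        rw [hy, mul_assoc β h u, map_mul (φ P) β]; ring
      rw [e]
      have := coeff_mul_of_mem_Afil (k := k) hβmem hymem
      rw [zero_add] at this
      rw [this, hβ2]
      exact hb
  have hdiv : IsDivOf ω C := by
    intro E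
    refine ⟨fun hE => ?_, hWD E⟩
    by_contra hnle
    obtain ⟨P, hP⟩ : ∃ P, ¬ E P ≤ C P := by
      by_contra hcon
      push_neg at hcon
      exact hnle (fun P => hcon P)
    push_neg at hP
    obtain ⟨x, hx1, hx2⟩ := hN P E hP
    have hxad : (Pi.single P x : Place k K → K) ∈ adele k K := single_mem_adele' P x
    have hmem : (⟨Pi.single P x, hxad⟩ : adele k K) ∈ ADK E := by
      rw [ADK, Submodule.mem_comap]
      apply Submodule.mem_sup_left
      intro Q
      show Q.1 ((Pi.single P x : Place k K → K) Q) ≤ exp (E Q)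
      by_cases hQ : Q = P
      · subst hQ; rw [Pi.single_eq_same]; exact hx1
      · rw [Pi.single_eq_of_ne hQ]; simp
    rw [WD, Submodule.mem_dualAnnihilator] at hE
    have := hE _ hmem
    rw [hω, omegaRes_single] at this
    exact hx2 this
  refine ⟨⟨C, hWD C le_rfl⟩, ?_, hdiv⟩
  intro h0
  obtain ⟨P⟩ := hplace
  have : ω ∈ WD (C + Finsupp.single P 1) := by
    rw [h0]; exact Submodule.zero_mem _
  have hle := (hdiv _).1 this P
  rw [Finsupp.add_apply, Finsupp.single_eq_same] at hle
  omega

end Groth.Agent.Lib.LeadTR
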