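import Groth.Agent.Lib.LeadWD5

/-! Divisors of differentials `a dx` and `mapDiv` for tuples containing `1`. -/

namespace Groth.Agent.Lib.LeadWD

open FunFld WithZero Groth.Agent.Lib.LeadFF Groth.Agent.Lib.LeadSV Groth.Agent.Lib.LeadHS

universe u v
variable {k : Type u} {K : Type v} [Field k] [Field K] [Algebra k K]

lemma span_of_D_ne_zero (hK : IsFunctionField k K) (hg : IsGeometric k K) {t : K}
    (hD : KaehlerDifferential.D k K t ≠ 0) (ω : Ω[K⁄k]) :
    ∃ c : K, ω = c • KaehlerDifferential.D k K t := by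
  have h1 := Groth.Agent.Lib.LeadMS.finrank_kaehler hK hg
  obtain ⟨c, hc⟩ := (finrank_eq_one_iff_of_nonzero' _ hD).mp h1 ω
  exact ⟨c, hc.symm⟩

lemma D_exp_ne_zero' (hK : IsFunctionField k K) (hg : IsGeometric k K) {t : K}
    (hD : KaehlerDifferential.D k K t ≠ 0) (P : Place k K)
    {F : Type*} [Field F] [Algebra k F]
    (φ : K →ₐ[k] LaurentSeries F) (hφ : LocRes.IsExpansionAt P.1 φ) :
    LocRes.D F (φ t) ≠ 0 := by
  obtain ⟨π, hπ⟩ := hφ.2.2
  intro h0
  obtain ⟨c, hc⟩ := span_of_D_ne_zero hK hg hD (KaehlerDifferential.D k K π)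
  have h1 := Groth.Agent.Lib.LeadMS.D_expand φ hc
  rw [h0, mul_zero] at h1
  have hv : Valued.v (φ π) = exp (-(1 : ℤ)) := by rw [hφ.1, hπ]
  have := Groth.Agent.Lib.LeadMS.val_D_of_ne hv (by simp)
  rw [h1, map_zero] at this
  exact exp_ne_zero this.symm

lemma ordDiff_mul (P : Place k K) {F : Type*} [Field F] [Algebra k F]
    (φ : K →ₐ[k] LaurentSeries F) (hφ : LocRes.IsExpansionAt P.1 φ) {a x : K} (ha : a ≠ 0)
    (hx : LocRes.D F (φ x) ≠ 0) :
    LocRes.ordDiff φ a x = P.ord a + LocRes.ordDiff φ 1 x := by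
  unfold LocRes.ordDiff
  rw [Groth.Agent.Lib.LeadMS.vDiff_one]
  unfold LocRes.vDiff
  rw [map_mul, hφ.1, log_mul ((Valuation.ne_zero_iff _).mpr ha) ((Valuation.ne_zero_iff _).mpr hx)]
  unfold Place.ord
  ring

lemma divDiff_apply' [IsAlgClosed k] (hK : IsFunctionField k K) {s : K}
    (hD : KaehlerDifferential.D k K s ≠ 0)
    (Φ : Place k K → (K →ₐ[k] LaurentSeries k))
    (hΦ : ∀ P : Place k K, LocRes.IsExpansionAt P.1 (Φ P)) (P : Place k K) :
    divDiff Φ 1 s P = LocRes.ordDiff (Φ P) 1 s := by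
  unfold divDiff
  rw [dif_pos (finite_ordDiff' hK hD Φ hΦ)]
  rfl

theorem divDiff_eq [IsAlgClosed k] (hK : IsFunctionField k K) {a x : K} (ha : a ≠ 0)
    (hD : KaehlerDifferential.D k K x ≠ 0)
    (Φ : Place k K → (K →ₐ[k] LaurentSeries k))
    (hΦ : ∀ P : Place k K, LocRes.IsExpansionAt P.1 (Φ P)) :
    divDiff Φ a x = FunFld.div k a + divDiff Φ 1 x := by
  have hg := Groth.Agent.Lib.LeadMS.isGeometric_of_isAlgClosed k K
  have hpt : ∀ P : Place k K, LocRes.ordDiff (Φ P) a x = P.ord a + LocRes.ordDiff (Φ P) 1 x :=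
    fun P => ordDiff_mul P (Φ P) (hΦ P) ha (D_exp_ne_zero' hK hg hD P (Φ P) (hΦ P))
  have hfin : (Function.support fun P : Place k K => LocRes.ordDiff (Φ P) a x).Finite := by
    apply ((support_ord_finite hK a).union (finite_ordDiff' hK hD Φ hΦ)).subset
    intro P hP
    rw [Function.mem_support, hpt P] at hP
    by_contra hcon
    rw [Set.mem_union, not_or, Function.mem_support, Function.mem_support, not_not, not_not] at hcon
    apply hP
    rw [hcon.1, hcon.2, add_zero]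
  ext P
  rw [Finsupp.add_apply, divDiff_apply' hK hD Φ hΦ, div_apply hK, ← hpt P]
  unfold divDiff
  rw [dif_pos hfin]
  rfl

theorem divDiff_congr {a x b x' : K}
    (h : a • KaehlerDifferential.D k K x = b • KaehlerDifferential.D k K x')
    (Φ : Place k K → (K →ₐ[k] LaurentSeries k)) :
    divDiff Φ a x = divDiff Φ b x' := by
  have hpt : (fun P : Place k K => LocRes.ordDiff (Φ P) a x) =
      fun P : Place k K => LocRes.ordDiff (Φ P) b x' := by
    funext P
    unfold LocRes.ordDiff LocRes.vDiff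
    congr 3
    letI := (Φ P).toRingHom.toAlgebra
    haveI : IsScalarTower k K (LaurentSeries k) := LocRes.isScalarTower_exp (Φ P)
    have := congrArg (LocRes.dExp (Φ P)).liftKaehlerDifferential h
    rw [map_smul, map_smul, Derivation.liftKaehlerDifferential_comp_D,
      Derivation.liftKaehlerDifferential_comp_D] at this
    exact this
  unfold divDiff
  by_cases hf : (Function.support fun P : Place k K => LocRes.ordDiff (Φ P) a x).Finite
  · have hf' : (Function.support fun P : Place k K => LocRes.ordDiff (Φ P) b x').Finite := by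
      rw [← hpt]; exact hf
    rw [dif_pos hf, dif_pos hf']
    ext P
    exact congrFun hpt P
  · have hf' : ¬ (Function.support fun P : Place k K => LocRes.ordDiff (Φ P) b x').Finite := by
      rw [← hpt]; exact hf
    rw [dif_neg hf, dif_neg hf']

lemma div_inv (hK : IsFunctionField k K) (x : K) :
    FunFld.div k x⁻¹ = - FunFld.div k x := by
  ext P
  rw [Finsupp.neg_apply, div_apply hK, div_apply hK]
  unfold Place.ord
  rw [map_inv₀, log_inv]

lemma div_zpow (hK : IsFunctionField k K) {x : K} (hx : x ≠ 0) (m : ℤ) :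
    FunFld.div k (x ^ m) = m • FunFld.div k x := by
  obtain ⟨n, rfl | rfl⟩ := m.eq_nat_or_neg
  · rw [zpow_natCast, div_pow hK hx]
  · rw [zpow_neg, zpow_natCast, div_inv hK, div_pow hK hx, neg_smul]

section MapDiv
variable {ι : Type*} [Fintype ι] [Nonempty ι]

lemma mapDiv_eq_of' (hK : IsFunctionField k K) (φ : ι → K) (P : Place k K) (m : ℤ)
    (hm : 0 ≤ m) (hle : ∀ i, P.1 (φ i) ≤ exp m) (hex : ∃ i, P.1 (φ i) = exp m) :
    mapDiv k φ P = m := by
  rw [mapDiv_apply hK]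
  obtain ⟨i0, hi0⟩ := hex
  have hne0 : φ i0 ≠ 0 := by
    intro h
    rw [h, map_zero] at hi0
    exact exp_ne_zero hi0.symm
  have h1 : ∀ i, -m ≤ P.ord (φ i) := by
    intro i
    by_cases h0 : φ i = 0
    · rw [h0]
      have : P.ord (0 : K) = 0 := by simp [Place.ord]
      omega
    · have := hle i
      rw [val_eq_exp_neg_ord P h0, exp_le_exp] at this
      omega
  have h2 : P.ord (φ i0) = -m := by
    rw [val_eq_exp_neg_ord P hne0, exp_inj] at hi0
    omega
  have h3 : Finset.univ.inf' Finset.univ_nonempty (fun i => P.ord (φ i)) = -m := by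
    apply le_antisymm
    · rw [← h2]; exact Finset.inf'_le _ (Finset.mem_univ i0)
    · exact Finset.le_inf' _ _ fun i _ => h1 i
  rw [h3, neg_neg]

lemma mapDiv_spec' (hK : IsFunctionField k K) (φ : ι → K) (P : Place k K) (i1 : ι)
    (h1 : φ i1 = 1) :
    0 ≤ mapDiv k φ P ∧ (∀ i, P.1 (φ i) ≤ exp (mapDiv k φ P)) ∧
      ∃ i, P.1 (φ i) = exp (mapDiv k φ P) := by
  rw [mapDiv_apply hK]
  set μ := Finset.univ.inf' Finset.univ_nonempty (fun i => P.ord (φ i)) with hμ
  have hord1 : P.ord (φ i1) = 0 := by rw [h1]; exact ord_eq_zero_of_eq_one P (map_one _)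
  have hμ0 : μ ≤ 0 := by
    rw [← hord1]; exact Finset.inf'_le _ (Finset.mem_univ i1)
  refine ⟨by omega, ?_, ?_⟩
  · intro i
    by_cases h0 : φ i = 0
    · rw [h0, map_zero]; exact zero_le'
    · rw [val_eq_exp_neg_ord P h0, exp_le_exp, neg_le_neg_iff]
      exact Finset.inf'_le _ (Finset.mem_univ i)
  · obtain ⟨i0, -, hi0⟩ := Finset.exists_mem_eq_inf' Finset.univ_nonempty (fun i => P.ord (φ i))
    by_cases h0 : φ i0 = 0
    · refine ⟨i1, ?_⟩
      have : μ = 0 := by
        rw [hμ, hi0, h0]; simp [Place.ord]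
      rw [h1, map_one, this, neg_zero, exp_zero]
    · exact ⟨i0, by rw [val_eq_exp_neg_ord P h0, hμ, hi0]⟩

lemma mapDiv_le_of_change' (hK : IsFunctionField k K) {ι' : Type*} [Fintype ι'] [Nonempty ι']
    (φ : ι' → K) (φ' : ι → K) (A : Matrix ι ι' k) (z : K) (hz : z ≠ 0)
    (hφ' : ∀ i, φ' i = z * ∑ j, A i j • φ j) (i1 : ι') (h1 : φ i1 = 1) (i1' : ι)
    (h1' : φ' i1' = 1) (P : Place k K) : mapDiv k φ' P ≤ mapDiv k φ P - P.ord z := by
  obtain ⟨-, hle, -⟩ := mapDiv_spec' hK φ P i1 h1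
  obtain ⟨-, -, i0, hi0⟩ := mapDiv_spec' hK φ' P i1' h1'
  have h2 := val_sum_smul_le P Finset.univ (A i0) φ _ (fun j _ => hle j)
  have h3 : P.1 (φ' i0) ≤ exp (-(P.ord z)) * exp (mapDiv k φ P) := by
    rw [hφ' i0, map_mul, val_eq_exp_neg_ord P hz]
    exact mul_le_mul' le_rfl h2
  rw [hi0, ← exp_add, exp_le_exp] at h3
  omega

theorem mapDiv_change' (hK : IsFunctionField k K) [DecidableEq ι] (φ φ' : ι → K)
    (A : Matrix ι ι k) (hA : A.det ≠ 0) (z : K) (hz : z ≠ 0)
    (hφ' : ∀ i, φ' i = z * ∑ j, A i j • φ j) (i1 : ι) (h1 : φ i1 = 1) (i1' : ι)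
    (h1' : φ' i1' = 1) : mapDiv k φ' = mapDiv k φ - FunFld.div k z := by
  ext P
  rw [Finsupp.sub_apply, div_apply hK]
  apply le_antisymm (mapDiv_le_of_change' hK φ φ' A z hz hφ' i1 h1 i1' h1' P)
  have hinv : A⁻¹ * A = 1 := Matrix.nonsing_inv_mul A (isUnit_iff_ne_zero.mpr hA)
  have hrev : ∀ j, φ j = z⁻¹ * ∑ i, A⁻¹ j i • φ' i := by
    intro j
    have e1 : ∑ i, A⁻¹ j i • φ' i = z * ∑ i, A⁻¹ j i • ∑ l, A i l • φ l := by
      rw [Finset.mul_sum]
      refine Finset.sum_congr rfl fun i _ => ?_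
      rw [hφ' i, mul_smul_comm]
    have e2 : ∑ i, A⁻¹ j i • ∑ l, A i l • φ l = φ j := by
      calc ∑ i, A⁻¹ j i • ∑ l, A i l • φ l = ∑ l, (∑ i, A⁻¹ j i * A i l) • φ l := by
            simp_rw [Finset.smul_sum, Finset.sum_smul, mul_smul]
            rw [Finset.sum_comm]
        _ = ∑ l, (1 : Matrix ι ι k) j l • φ l := by
            rw [← hinv]; rfl
        _ = φ j := by simp [Matrix.one_apply, Finset.sum_ite_eq]
    rw [e1, e2, ← mul_assoc, inv_mul_cancel₀ hz, one_mul]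
  have := mapDiv_le_of_change' hK φ' φ A⁻¹ z⁻¹ (inv_ne_zero hz) hrev i1' h1' i1 h1 P
  have hoi : P.ord z⁻¹ = - P.ord z := by
    unfold Place.ord
    rw [map_inv₀, log_inv]
  rw [hoi] at this
  omega

end MapDiv

end Groth.Agent.Lib.LeadWD
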