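import Mathlib
import Groth.Agent.Lib.LeadTR13
import Groth.Agent.Lib.LeadWD6

/-! The coefficient field of an expansion of a geometric function field is separable over the
constant field. -/

set_option autoImplicit false

namespace Groth.Agent.Lib.LeadRS
open FunFld HahnSeries WithZero Groth.Agent.Lib.LeadTR

universe u v w

variable {k : Type u} {K : Type v} [Field k] [Field K] [Algebra k K]
variable {F : Type w} [Field F] [Algebra k F]

/-- coefficientwise application of a derivation of the coefficient field. -/
noncomputable def cmap (δ : Derivation k F F) (x : LaurentSeries F) : LaurentSeries F :=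
  x.map (δ : F →ₗ[k] F)

@[simp] lemma cmap_coeff (δ : Derivation k F F) (x : LaurentSeries F) (n : ℤ) :
    (cmap δ x).coeff n = δ (x.coeff n) := rfl

lemma cmap_add (δ : Derivation k F F) (x y : LaurentSeries F) :
    cmap δ (x + y) = cmap δ x + cmap δ y := by
  ext n; simp

lemma support_cmap (δ : Derivation k F F) (x : LaurentSeries F) :
    (cmap δ x).support ⊆ x.support := by
  intro n hn
  rw [HahnSeries.mem_support] at hn ⊢
  intro h0
  apply hn
  rw [cmap_coeff, h0, map_zero]

lemma cmap_mul (δ : Derivation k F F) (x y : LaurentSeries F) :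
    cmap δ (x * y) = x * cmap δ y + y * cmap δ x := by
  ext n
  rw [cmap_coeff, HahnSeries.coeff_add, HahnSeries.coeff_mul,
    HahnSeries.coeff_mul_right' y.isPWO_support (support_cmap δ y), mul_comm y,
    HahnSeries.coeff_mul_left' x.isPWO_support (support_cmap δ x), map_sum,
    ← Finset.sum_add_distrib]
  apply Finset.sum_congr rfl
  intro ij _
  rw [Derivation.leibniz, cmap_coeff, cmap_coeff, smul_eq_mul, smul_eq_mul]
  ring

lemma cmap_one (δ : Derivation k F F) : cmap δ (1 : LaurentSeries F) = 0 := by
  ext n
  rw [cmap_coeff, HahnSeries.coeff_one]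
  split_ifs
  · exact Derivation.map_one_eq_zero δ
  · simp

lemma cmap_smul (δ : Derivation k F F) (c : k) (x : LaurentSeries F) :
    cmap δ (c • x) = c • cmap δ x := by
  ext n
  simp

lemma val_cmap_le (δ : Derivation k F F) (x : LaurentSeries F) (j : ℤ)
    (hx : Valued.v x ≤ exp (-j)) : Valued.v (cmap δ x) ≤ exp (-j) := by
  rw [← mem_Afil_iff_val (k := k)] at hx ⊢
  intro n hn
  rw [cmap_coeff, hx n hn, map_zero]

/-- the derivation `a ↦ δ̃ (φ a)` of `K`. -/
noncomputable def eExp (δ : Derivation k F F) (φ : K →ₐ[k] LaurentSeries F) :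
    letI := φ.toRingHom.toAlgebra
    Derivation k K (LaurentSeries F) :=
  letI := φ.toRingHom.toAlgebra
  { toFun := fun a => cmap δ (φ a)
    map_add' := fun a b => show cmap δ (φ (a + b)) = cmap δ (φ a) + cmap δ (φ b) by
      rw [map_add, cmap_add]
    map_smul' := fun c a => show cmap δ (φ (c • a)) = c • cmap δ (φ a) by
      rw [Algebra.smul_def, map_mul, LocRes.map_algebraMap, HahnSeries.C_mul_eq_smul,
        algebraMap_smul, cmap_smul]
    map_one_eq_zero' := show cmap δ (φ 1) = 0 by rw [map_one, cmap_one]
    leibniz' := fun a b => show cmap δ (φ (a * b)) = φ a * cmap δ (φ b) + φ b * cmap δ (φ a) by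
      rw [map_mul, cmap_mul] }

theorem eExp_expand (δ : Derivation k F F) (φ : K →ₐ[k] LaurentSeries F) {x x' c : K}
    (h : KaehlerDifferential.D k K x' = c • KaehlerDifferential.D k K x) :
    cmap δ (φ x') = φ c * cmap δ (φ x) := by
  letI := φ.toRingHom.toAlgebra
  haveI : IsScalarTower k K (LaurentSeries F) := LocRes.isScalarTower_exp φ
  have := congrArg (eExp δ φ).liftKaehlerDifferential h
  rw [map_smul, Derivation.liftKaehlerDifferential_comp_D,
    Derivation.liftKaehlerDifferential_comp_D] at this
  exact this

end Groth.Agent.Lib.LeadRS
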