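import Mathlib
import Groth.Agent.Lib.LeadRS1

/-! The coefficient field of an expansion of a geometric function field is separable over the
constant field (continued). -/

set_option autoImplicit false

namespace Groth.Agent.Lib.LeadRS
open FunFld HahnSeries WithZero Groth.Agent.Lib.LeadTR Groth.Agent.Lib.LeadWD

universe u v w

variable {k : Type u} {K : Type v} [Field k] [Field K] [Algebra k K]
variable {F : Type w} [Field F] [Algebra k F]

lemma val_D_le_one {x : LaurentSeries F} (hx : Valued.v x ≤ 1) : Valued.v (LocRes.D F x) ≤ 1 := by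
  rw [← mem_Afil_zero_iff_val (k := F)] at hx ⊢
  intro n hn
  rw [LocRes.D_coeff]
  by_cases h : n + 1 = 0
  · rw [h]; simp
  · rw [hx (n + 1) (by omega), smul_zero]

/-- a nonzero derivation exists on an inseparable finite extension. -/
lemma exists_derivation_ne_zero [FiniteDimensional k F] (h : ¬ Algebra.IsSeparable k F) :
    ∃ (δ : Derivation k F F) (a : F), δ a ≠ 0 := by
  classical
  have h1 : ¬ Algebra.FormallyUnramified k F := fun hu =>
    h (Algebra.FormallyUnramified.isSeparable k F)
  rw [Algebra.formallyUnramified_iff] at h1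
  rw [not_subsingleton_iff_nontrivial] at h1
  obtain ⟨ω, hω⟩ := exists_ne (0 : Ω[F⁄k])
  obtain ⟨ℓ, hℓ⟩ : ∃ ℓ : Module.Dual F (Ω[F⁄k]), ℓ ω ≠ 0 := by
    by_contra hcon
    push Not at hcon
    exact hω ((Module.forall_dual_apply_eq_zero_iff F ω).mp hcon)
  set δ : Derivation k F F := ℓ.compDer (KaehlerDifferential.D k F) with hδ
  by_contra hcon
  push Not at hcon
  have hzero : ∀ a : F, ℓ (KaehlerDifferential.D k F a) = 0 := fun a => hcon δ a
  apply hℓ
  have hall : ∀ ω' ∈ Submodule.span F (Set.range (KaehlerDifferential.D k F)), ℓ ω' = 0 := by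
    intro ω' hω'
    induction hω' using Submodule.span_induction with
    | mem x hx =>
      obtain ⟨a, rfl⟩ := hx
      exact hzero a
    | zero => exact map_zero ℓ
    | add x y _ _ hx hy => rw [map_add, hx, hy, add_zero]
    | smul c x _ hx => rw [map_smul, hx, smul_zero]
  apply hall
  rw [KaehlerDifferential.span_range_derivation]; trivial

theorem isSeparable_of_expansion (hK : IsFunctionField k K) (hg : IsGeometric k K)
    (P : Place k K) [FiniteDimensional k F] (φ : K →ₐ[k] LaurentSeries F)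
    (hφ : LocRes.IsExpansionAt P.1 φ) : Algebra.IsSeparable k F := by
  classical
  by_contra hns
  obtain ⟨δ, a, hδa⟩ := exists_derivation_ne_zero hns
  obtain ⟨t, ht⟩ := hφ.2.2
  have hφt : Valued.v (φ t) = exp (-(1 : ℤ)) := by rw [hφ.1, ht]
  have hDφt : Valued.v (LocRes.D F (φ t)) = 1 := by
    have := Groth.Agent.Lib.LeadMS.val_D_of_ne hφt (by simp)
    simpa using this
  have hDt0 : LocRes.D F (φ t) ≠ 0 := by
    intro h0
    rw [h0, map_zero] at hDφt
    exact zero_ne_one hDφt
  have hdt : KaehlerDifferential.D k K t ≠ 0 := by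
    intro h0
    apply hDt0
    have := Groth.Agent.Lib.LeadMS.D_expand φ (x := t) (x' := t) (c := 0) (by rw [h0, smul_zero])
    rw [this, map_zero, zero_mul]
  obtain ⟨f, hf1, hf2⟩ := hφ.2.1 a
  obtain ⟨c, hc⟩ := span_of_D_ne_zero hK hg hdt (KaehlerDifferential.D k K f)
  have h1 := eExp_expand δ φ hc
  have h2 := Groth.Agent.Lib.LeadMS.D_expand φ hc
  -- `φ c = D(φ f) / D(φ t)`
  have hφc : φ c = LocRes.D F (φ f) / LocRes.D F (φ t) := by
    rw [h2, mul_div_assoc, div_self hDt0, mul_one]
  have hvφf : Valued.v (φ f) ≤ 1 := by rw [hφ.1]; exact hf1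
  have hvc : Valued.v (φ c) ≤ 1 := by
    rw [hφc, map_div₀, hDφt, _root_.div_one]
    exact val_D_le_one hvφf
  have hvE : Valued.v (cmap δ (φ f)) ≤ exp (-(1 : ℤ)) := by
    rw [h1, map_mul]
    calc Valued.v (φ c) * Valued.v (cmap δ (φ t)) ≤ 1 * exp (-(1 : ℤ)) :=
          mul_le_mul' hvc (val_cmap_le δ (φ t) 1 hφt.le)
      _ = exp (-(1 : ℤ)) := one_mul _
  have := (mem_Afil_iff_val (k := k)).mpr hvE 0 (by norm_num)
  rw [cmap_coeff, hf2] at this
  exact hδa this

/-- nondegeneracy of the trace form of the coefficient field. -/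
theorem trace_nondeg (hK : IsFunctionField k K) (hg : IsGeometric k K)
    (P : Place k K) [FiniteDimensional k F] (φ : K →ₐ[k] LaurentSeries F)
    (hφ : LocRes.IsExpansionAt P.1 φ) (c : F) (hc : c ≠ 0) :
    ∃ b : F, Algebra.trace k F (b * c) ≠ 0 := by
  haveI := isSeparable_of_expansion hK hg P φ hφ
  obtain ⟨z, hz⟩ := Algebra.trace_surjective k F 1
  refine ⟨z / c, ?_⟩
  rw [div_mul_cancel₀ _ hc, hz]
  exact one_ne_zero

end Groth.Agent.Lib.LeadRS
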