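import Groth.Agent.Lib.LeadWD2

/-! Finiteness of the divisor of `ds`. -/

namespace Groth.Agent.Lib.LeadWD

open FunFld WithZero Groth.Agent.Lib.LeadFF Groth.Agent.Lib.LeadSV Groth.Agent.Lib.LeadHS
open Polynomial IntermediateField

universe u v
variable {k : Type u} {K : Type v} [Field k] [Field K] [Algebra k K]

lemma sep_of_D_ne_zero (hK : IsFunctionField k K) (hg : IsGeometric k K) {s : K}
    (hD : KaehlerDifferential.D k K s ≠ 0) :
    Transcendental k s ∧ Algebra.IsSeparable k⟮s⟯ K := by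
  obtain ⟨p, hp⟩ := CharP.exists K
  rcases CharP.char_is_prime_or_zero K p with hpp | rfl
  · haveI := Fact.mk hpp
    apply Groth.Agent.Lib.LeadMS.separable_of_not_mem hK hg p
    intro hmem
    exact hD (Groth.Agent.Lib.LeadMS.D_eq_zero_of_mem p (KaehlerDifferential.D k K) hmem)
  · haveI : CharZero K := CharP.charP_to_charZero K
    have hst : Transcendental k s := by
      apply transcendental_of_not_mem hK
      rintro ⟨c, rfl⟩
      exact hD (Derivation.map_algebraMap _ c)
    haveI := finite_over_adjoin hK hst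
    haveI : CharZero k⟮s⟯ := RingHom.charZero (algebraMap k⟮s⟯ K)
    exact ⟨hst, inferInstance⟩

/-- at an unramified place over `k(s)` which is neither a zero nor a pole of `s`, `s - s(P)` is a
uniformizer. -/
lemma unif_of_unram [IsAlgClosed k] (hK : IsFunctionField k K) {s : K} (hst : Transcendental k s)
    (P : Place k K) (hs1 : P.1 s = 1)
    (hsurj : Function.Surjective (P.1.comap (algebraMap k⟮s⟯ K))) :
    ∃ c : k, P.1 (s - algebraMap k K c) = exp (-1 : ℤ) := by
  obtain ⟨c, hc⟩ := exists_const_sub_lt_one hK P hs1.le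
  refine ⟨c, ?_⟩
  have hsc0 : s - algebraMap k K c ≠ 0 := by
    intro h
    apply hst
    rw [sub_eq_zero.mp h]
    exact isAlgebraic_algebraMap c
  obtain ⟨f, hf⟩ := hsurj (exp (-1 : ℤ))
  have hf' : P.1 (f : K) = exp (-1 : ℤ) := hf
  obtain ⟨g, h, hgh⟩ := (mem_adjoin_simple_iff k (f : K)).mp f.2
  have hf0 : (f : K) ≠ 0 := by
    intro h0
    rw [h0, map_zero] at hf'
    exact exp_ne_zero hf'.symm
  have hg0 : g ≠ 0 := by
    rintro rfl
    apply hf0
    rw [hgh]; simp
  have hh0 : h ≠ 0 := by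
    rintro rfl
    apply hf0
    rw [hgh]; simp
  have h1 := val_aeval P hs1.le c hc g hg0
  have h2 := val_aeval P hs1.le c hc h hh0
  rw [hgh, map_div₀, h1, h2] at hf'
  set r := P.ord (s - algebraMap k K c) with hr
  have ha : P.1 (s - algebraMap k K c) = exp (-r) := val_eq_exp_neg_ord P hsc0
  have hrpos : 0 < r := by
    rw [ha, ← exp_zero, exp_lt_exp] at hc
    omega
  rw [ha] at hf' ⊢
  rw [← exp_nsmul, ← exp_nsmul, ← exp_sub, exp_inj] at hf'
  simp only [nsmul_eq_mul, mul_neg] at hf'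
  have h3 : r * ((g.rootMultiplicity c : ℤ) - (h.rootMultiplicity c : ℤ)) = 1 := by
    linear_combination -hf'
  have := Int.eq_one_of_mul_eq_one_right hrpos.le h3
  rw [this]

theorem finite_ordDiff' [IsAlgClosed k] (hK : IsFunctionField k K) {s : K}
    (hD : KaehlerDifferential.D k K s ≠ 0)
    (Φ : Place k K → (K →ₐ[k] LaurentSeries k))
    (hΦ : ∀ P : Place k K, LocRes.IsExpansionAt P.1 (Φ P)) :
    (Function.support fun P : Place k K => LocRes.ordDiff (Φ P) 1 s).Finite := by
  have hg := Groth.Agent.Lib.LeadMS.isGeometric_of_isAlgClosed k K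
  obtain ⟨hst, hsep⟩ := sep_of_D_ne_zero hK hg hD
  haveI := finite_over_adjoin hK hst
  have hF : IsFunctionField k k⟮s⟯ :=
    (isFunctionField_intermediate hK k⟮s⟯ ⟨s, mem_adjoin_simple_self k s, hst⟩).2
  have hram := Groth.Agent.Lib.LeadRM.ramified_finite (k := k) (K := k⟮s⟯) (K' := K) hF
  apply (hram.union (support_ord_finite hK s)).subset
  intro P hP
  by_contra hbad
  rw [Set.mem_union, not_or] at hbad
  obtain ⟨hb1, hb2⟩ := hbad
  rw [Set.mem_setOf_eq, not_not] at hb1
  rw [Function.mem_support, not_not] at hb2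
  apply hP
  have hs0 : s ≠ 0 := by
    rintro rfl
    exact hst (isAlgebraic_zero)
  have hs1 : P.1 s = 1 := by rw [val_eq_exp_neg_ord P hs0, hb2]; simp
  obtain ⟨c, hc⟩ := unif_of_unram hK hst P hs1 hb1
  have hv : Valued.v (Φ P (s - algebraMap k K c)) = exp (-(1 : ℤ)) := by rw [(hΦ P).1, hc]
  have h1 := Groth.Agent.Lib.LeadMS.val_D_of_ne hv (by simp)
  have h2 : LocRes.D k (Φ P (s - algebraMap k K c)) = LocRes.D k (Φ P s) := by
    rw [map_sub, map_sub, LocRes.map_algebraMap]
    have : LocRes.D k (HahnSeries.C ((algebraMap k k) c)) = 0 := by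
      have := (LocRes.D k).map_algebraMap ((algebraMap k k) c)
      rwa [LocRes.algebraMap_eq_C] at this
    rw [this, sub_zero]
  show LocRes.ordDiff (Φ P) 1 s = 0
  unfold LocRes.ordDiff
  rw [Groth.Agent.Lib.LeadMS.vDiff_one, ← h2, h1]
  simp

theorem finite_ordDiff [IsAlgClosed k] (hK : IsFunctionField k K) {s : K}
    {Hs : K →ₐ[k] PowerSeries K} (hHs : LocRes.IsHasseFamily s Hs)
    (Φ : Place k K → (K →ₐ[k] LaurentSeries k))
    (hΦ : ∀ P : Place k K, LocRes.IsExpansionAt P.1 (Φ P)) :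
    (Function.support fun P : Place k K => LocRes.ordDiff (Φ P) 1 s).Finite :=
  finite_ordDiff' hK
    (span_of_hasse hK (Groth.Agent.Lib.LeadMS.isGeometric_of_isAlgClosed k K) hHs).1 Φ hΦ

end Groth.Agent.Lib.LeadWD
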