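import Mathlib
import Groth.Agent.Lib.LeadRS2
import Groth.Agent.Lib.LeadWD3

/-! Order of `dv` at an unramified place of a geometric function field (general constants). -/

set_option autoImplicit false

namespace Groth.Agent.Lib.LeadRS
open FunFld HahnSeries WithZero Groth.Agent.Lib.LeadTR Groth.Agent.Lib.LeadWD
  Groth.Agent.Lib.LeadFF Polynomial
open scoped IntermediateField

universe u v w

variable {k : Type u} {K : Type v} [Field k] [Field K] [Algebra k K]
variable {F : Type w} [Field F] [Algebra k F]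

/-- the constant coefficient of a polynomial expression in an integral Laurent series. -/
lemma coeff_zero_aeval (φ : K →ₐ[k] LaurentSeries F) {v : K} (hv : Valued.v (φ v) ≤ 1)
    (g : k[X]) : Valued.v (φ (aeval v g)) ≤ 1 ∧
      (φ (aeval v g)).coeff 0 = aeval ((φ v).coeff 0) g := by
  obtain ⟨f₀, hf₀⟩ := (LaurentSeries.val_le_one_iff_eq_coe F (φ v)).mp hv
  have h1 : φ (aeval v g) = aeval (φ v) g := (Polynomial.aeval_algHom_apply φ v g).symm
  have h2 : aeval (φ v) g = ((aeval f₀ g : PowerSeries F) : LaurentSeries F) := by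
    rw [← hf₀]
    have hcomp : (HahnSeries.ofPowerSeries ℤ F).comp (algebraMap k (PowerSeries F)) =
        algebraMap k (LaurentSeries F) := by
      ext c : 1
      exact (HahnSeries.algebraMap_apply' (Γ := ℤ) (R := F) c).symm
    show aeval ((HahnSeries.ofPowerSeries ℤ F) f₀) g = (HahnSeries.ofPowerSeries ℤ F) (aeval f₀ g)
    rw [Polynomial.aeval_def, Polynomial.aeval_def, Polynomial.hom_eval₂, hcomp]
  rw [h1, h2]
  refine ⟨(LaurentSeries.val_le_one_iff_eq_coe F _).mpr ⟨_, rfl⟩, ?_⟩
  have h3 : (((aeval f₀ g : PowerSeries F) : LaurentSeries F)).coeff 0 =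
      PowerSeries.constantCoeff (aeval f₀ g) := by
    have := HahnSeries.ofPowerSeries_apply_coeff (Γ := ℤ) (aeval f₀ g : PowerSeries F) 0
    simpa using this
  rw [h3]
  have h4 : (φ v).coeff 0 = PowerSeries.constantCoeff f₀ := by
    rw [← hf₀]
    have := HahnSeries.ofPowerSeries_apply_coeff (Γ := ℤ) f₀ 0
    simpa using this
  rw [h4]
  have h5 : (PowerSeries.constantCoeff (R := F)).comp (algebraMap k (PowerSeries F)) =
      algebraMap k F := by
    ext c
    simp [PowerSeries.algebraMap_apply]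
  rw [Polynomial.aeval_def, Polynomial.hom_eval₂, h5, ← Polynomial.aeval_def]

lemma val_eq_one_of_coeff_ne {x : LaurentSeries F} (hx : Valued.v x ≤ 1) (h0 : x.coeff 0 ≠ 0) :
    Valued.v x = 1 := by
  have := (Groth.Agent.Lib.LeadMS.val_eq_exp_iff (f := x) (n := 0)).mpr
    ⟨fun m hm => (mem_Afil_zero_iff_val (k := F)).mpr hx m hm, h0⟩
  simpa using this

theorem val_D_eq_one_of_unram (hK : IsFunctionField k K) (hg : IsGeometric k K)
    (P : Place k K) [FiniteDimensional k F] (φ : K →ₐ[k] LaurentSeries F)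
    (hφ : LocRes.IsExpansionAt P.1 φ) {v : K} (hvt : Transcendental k v) (hv1 : P.1 v ≤ 1)
    (hsurj : Function.Surjective (P.1.comap (algebraMap k⟮v⟯ K))) :
    Valued.v (LocRes.D F (φ v)) = 1 := by
  classical
  haveI := isSeparable_of_expansion hK hg P φ hφ
  have hφv : Valued.v (φ v) ≤ 1 := by rw [hφ.1]; exact hv1
  set a : F := (φ v).coeff 0 with ha
  have haint : IsIntegral k a := Algebra.IsIntegral.isIntegral a
  set p := minpoly k a with hp
  have hpirr : Irreducible p := minpoly.irreducible haint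
  have hpsep : p.Separable := Algebra.IsSeparable.isSeparable k a
  have hp0 : p ≠ 0 := minpoly.ne_zero haint
  -- values of polynomial expressions
  have hB : ∀ g : k[X], aeval a g ≠ 0 → P.1 (aeval v g) = 1 := by
    intro g hga
    obtain ⟨h1, h2⟩ := coeff_zero_aeval φ hφv g
    rw [← hφ.1]
    exact val_eq_one_of_coeff_ne h1 (by rw [h2]; exact hga)
  set w : K := aeval v p with hw
  have hw0 : w ≠ 0 := by
    intro h0
    exact hvt ⟨p, hp0, h0⟩
  have hwlt : P.1 w < 1 := by
    obtain ⟨h1, h2⟩ := coeff_zero_aeval φ hφv p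
    rw [minpoly.aeval] at h2
    rw [← hφ.1]
    have : Valued.v (φ (aeval v p)) ≤ exp (-(1 : ℤ)) := by
      rw [← mem_Afil_iff_val (k := F)]
      intro m hm
      rcases (by omega : m < 0 ∨ m = 0) with h | rfl
      · exact (mem_Afil_zero_iff_val (k := F)).mpr h1 m h
      · exact h2
    refine lt_of_le_of_lt this ?_
    rw [← exp_zero, exp_lt_exp]; norm_num
  set r := P.ord w with hr
  have hwr : P.1 w = exp (-r) := val_eq_exp_neg_ord P hw0
  have hrpos : 0 < r := by
    rw [hwr, ← exp_zero, exp_lt_exp] at hwlt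
    omega
  -- the value of a general polynomial expression is a power of that of `w`
  have hpow : ∀ g : k[X], g ≠ 0 → ∃ α : ℕ, P.1 (aeval v g) = exp (-(r * α)) := by
    intro g hg0
    have hfin : FiniteMultiplicity p g := FiniteMultiplicity.of_not_isUnit hpirr.not_isUnit hg0
    obtain ⟨g₁, hg1, hg2⟩ := hfin.exists_eq_pow_mul_and_not_dvd
    refine ⟨multiplicity p g, ?_⟩
    have h3 : aeval a g₁ ≠ 0 := fun h0 => hg2 ((minpoly.dvd_iff (x := a)).mpr h0)
    conv_lhs => rw [hg1]
    rw [map_mul, map_pow, map_mul, map_pow, hB g₁ h3, mul_one, ← hw, hwr, ← exp_nsmul]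
    congr 1
    simp only [nsmul_eq_mul]
    ring
  -- unramified: `r = 1`
  have hr1 : r = 1 := by
    obtain ⟨f, hf⟩ := hsurj (exp (-1 : ℤ))
    have hf' : P.1 (f : K) = exp (-1 : ℤ) := hf
    obtain ⟨g, h, hgh⟩ := (IntermediateField.mem_adjoin_simple_iff k (f : K)).mp f.2
    have hf0 : (f : K) ≠ 0 := by
      intro h0
      rw [h0, map_zero] at hf'
      exact exp_ne_zero hf'.symm
    have hg0 : g ≠ 0 := by
      rintro rfl
      apply hf0
      rw [hgh]; simp
    have hh0 : h ≠ 0 := by
      rintro rfl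
      apply hf0
      rw [hgh]; simp
    obtain ⟨α, hα⟩ := hpow g hg0
    obtain ⟨β, hβ⟩ := hpow h hh0
    rw [hgh, map_div₀, hα, hβ, ← exp_sub, exp_inj] at hf'
    have h3 : r * ((β : ℤ) - α) = -1 + 0 := by linarith
    have h4 : r * ((α : ℤ) - β) = 1 := by linarith
    exact Int.eq_one_of_mul_eq_one_right hrpos.le h4
  -- differentiate `w = p(v)`
  have hDw : LocRes.D F (φ w) = φ (aeval v (derivative p)) * LocRes.D F (φ v) := by
    letI := φ.toRingHom.toAlgebra
    haveI : IsScalarTower k K (LaurentSeries F) := LocRes.isScalarTower_exp φ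
    have := Derivation.map_aeval (LocRes.dExp φ) p v
    exact this
  have hvw : Valued.v (φ w) = exp (-(1 : ℤ)) := by rw [hφ.1, hwr, hr1]
  have h5 : Valued.v (LocRes.D F (φ w)) = 1 := by
    have := Groth.Agent.Lib.LeadMS.val_D_of_ne hvw (by simp)
    simpa using this
  have h6 : P.1 (aeval v (derivative p)) = 1 :=
    hB _ (hpsep.aeval_derivative_ne_zero (minpoly.aeval k a))
  rw [hDw, map_mul, hφ.1, h6, one_mul] at h5
  exact h5

end Groth.Agent.Lib.LeadRS
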