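import Mathlib
import Groth.Agent.Lib.LeadRS4

/-! Consequences of the residue Weil differential (S12582, S12590, S12628, S12629, S12631). -/

set_option autoImplicit false

namespace Groth.Agent.Lib.LeadRS
open FunFld HahnSeries WithZero Groth.Agent.Lib.LeadTR Groth.Agent.Lib.LeadWD
  Groth.Agent.Lib.LeadFF Polynomial
open scoped IntermediateField

universe u v w

variable {k : Type u} {K : Type v} [Field k] [Field K] [Algebra k K]

/-- the dimension of the space of Weil differentials vanishing on `A(D)`. -/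
theorem finrank_WD (hK : IsFunctionField k K) (ω : Module.Dual k (adele k K)) (C : Divisor k K)
    (hω : IsDivOf ω C) (D : Divisor k K) : Module.finrank k (WD D) = ell (C - D) := by
  have h0 := ne_zero_of_isDivOf hK hω
  have hmap : (L (C - D)).map (mulWHom hK ω) = WD D := by
    apply le_antisymm
    · rintro _ ⟨x, hx, rfl⟩
      have := mulW_mem_WD hK hx (smul_mem_adele hK x) ((hω C).mpr le_rfl)
      have e : C - (C - D) = D := by abel
      rwa [e] at this
    · intro ω' hω'
      obtain ⟨x, ⟨hx, hxω⟩, -⟩ := existsUnique_mulW hK ω C hω D ω' hω'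
      exact ⟨x, hx, hxω⟩
  rw [← hmap]
  exact (Submodule.equivMapOfInjective _ (mulWHom_injective hK h0) _).finrank_eq.symm

section Global
variable (F : Place k K → Type w) [∀ P, Field (F P)] [∀ P, Algebra k (F P)]
  [∀ P, FiniteDimensional k (F P)]
  (φ : ∀ P, K →ₐ[k] LaurentSeries (F P))
variable {F φ}

/-- the divisor of `dv`. -/
noncomputable def divD (hK : IsFunctionField k K) (hg : IsGeometric k K)
    (hφ : ∀ P, LocRes.IsExpansionAt P.1 (φ P)) {v : K}
    (hv : KaehlerDifferential.D k K v ≠ 0) : Divisor k K :=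
  Finsupp.ofSupportFinite _ (finite_ordDiff_gen hK hg hφ one_ne_zero hv)

lemma divD_apply (hK : IsFunctionField k K) (hg : IsGeometric k K)
    (hφ : ∀ P, LocRes.IsExpansionAt P.1 (φ P)) {v : K}
    (hv : KaehlerDifferential.D k K v ≠ 0) (P : Place k K) :
    divD hK hg hφ hv P = LocRes.ordDiff (φ P) 1 v := rfl

lemma vDiff_one_eq (hK : IsFunctionField k K) (hg : IsGeometric k K)
    (hφ : ∀ P, LocRes.IsExpansionAt P.1 (φ P)) {v : K}
    (hv : KaehlerDifferential.D k K v ≠ 0) (P : Place k K) :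
    LocRes.vDiff (φ P) 1 v = exp (-(divD hK hg hφ hv P)) := by
  rw [divD_apply, LocRes.ordDiff, neg_neg,
    WithZero.exp_log (vDiff_ne_zero hK hg hφ one_ne_zero hv P)]

lemma vDiff_eq (hK : IsFunctionField k K) (hg : IsGeometric k K)
    (hφ : ∀ P, LocRes.IsExpansionAt P.1 (φ P)) {v : K}
    (hv : KaehlerDifferential.D k K v ≠ 0) (P : Place k K) (y : K) :
    LocRes.vDiff (φ P) y v = P.1 y * exp (-(divD hK hg hφ hv P)) := by
  rw [← vDiff_one_eq hK hg hφ hv P]
  unfold LocRes.vDiff
  rw [map_mul, map_mul, map_one, map_one, one_mul, (hφ P).1]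

lemma isDivOf_divD (hK : IsFunctionField k K) (hg : IsGeometric k K)
    (hφ : ∀ P, LocRes.IsExpansionAt P.1 (φ P)) {v : K}
    (hv : KaehlerDifferential.D k K v ≠ 0) :
    IsDivOf (omegaRes hK hφ 1 v) (divD hK hg hφ hv) :=
  (weil_of_residues hK hg hφ 1 v one_ne_zero hv).2.2 _ (fun P => divD_apply hK hg hφ hv P)

theorem diffSpace_eq (hK : IsFunctionField k K) (hg : IsGeometric k K)
    (hφ : ∀ P, LocRes.IsExpansionAt P.1 (φ P)) {v : K}
    (hv : KaehlerDifferential.D k K v ≠ 0) (D : Divisor k K) :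
    {y : K | ∀ P, LocRes.vDiff (φ P) y v ≤ exp (-(D P))} =
      (L (divD hK hg hφ hv - D) : Set K) := by
  ext y
  simp only [Set.mem_setOf_eq, SetLike.mem_coe]
  constructor
  · intro h P
    have := h P
    rw [vDiff_eq hK hg hφ hv P y] at this
    rw [Finsupp.sub_apply]
    have h2 : P.1 y = P.1 y * exp (-(divD hK hg hφ hv P)) * exp (divD hK hg hφ hv P) := by
      rw [mul_assoc, ← exp_add]; simp
    rw [h2]
    calc P.1 y * exp (-(divD hK hg hφ hv P)) * exp (divD hK hg hφ hv P)
        ≤ exp (-(D P)) * exp (divD hK hg hφ hv P) := mul_le_mul' this le_rfl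
      _ = exp (divD hK hg hφ hv P - D P) := by rw [← exp_add]; congr 1; ring
  · intro h P
    have := h P
    rw [Finsupp.sub_apply] at this
    rw [vDiff_eq hK hg hφ hv P y]
    calc P.1 y * exp (-(divD hK hg hφ hv P))
        ≤ exp (divD hK hg hφ hv P - D P) * exp (-(divD hK hg hφ hv P)) := mul_le_mul' this le_rfl
      _ = exp (-(D P)) := by rw [← exp_add]; congr 1; ring

theorem finrank_diffSpace (hK : IsFunctionField k K) (hg : IsGeometric k K)
    (hφ : ∀ P, LocRes.IsExpansionAt P.1 (φ P)) {v : K}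
    (hv : KaehlerDifferential.D k K v ≠ 0) (D : Divisor k K) :
    Module.finrank k (Submodule.span k {y : K | ∀ P, LocRes.vDiff (φ P) y v ≤ exp (-(D P))}) =
      Module.finrank k (WD D) := by
  rw [diffSpace_eq hK hg hφ hv D, Submodule.span_eq,
    finrank_WD hK _ _ (isDivOf_divD hK hg hφ hv) D]
  rfl

theorem finrank_regular (hK : IsFunctionField k K) (hg : IsGeometric k K)
    (hφ : ∀ P, LocRes.IsExpansionAt P.1 (φ P)) {x : K}
    (hx : KaehlerDifferential.D k K x ≠ 0) :
    Module.finrank k (Submodule.span k {y : K | ∀ P, LocRes.vDiff (φ P) y x ≤ 1}) =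
      genus k K := by
  have h1 := finrank_diffSpace hK hg hφ hx 0
  have hset : {y : K | ∀ P, LocRes.vDiff (φ P) y x ≤ 1} =
      {y : K | ∀ P, LocRes.vDiff (φ P) y x ≤ exp (-((0 : Divisor k K) P))} := by
    ext y
    simp only [Set.mem_setOf_eq]
    refine forall_congr' fun P => ?_
    rw [Finsupp.zero_apply, neg_zero, exp_zero]
  rw [hset, h1, finrank_WD hK _ _ (isDivOf_divD hK hg hφ hx) 0, sub_zero]
  have hC : IsCanonical k K (divD hK hg hφ hx) :=
    ⟨_, (weil_of_residues hK hg hφ 1 x one_ne_zero hx).2.1, isDivOf_divD hK hg hφ hx⟩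
  have := (canonical_ell_deg hK hC).1
  exact_mod_cast this

end Global

end Groth.Agent.Lib.LeadRS
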