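import Mathlib
import Groth.Agent.Lib.LeadRS5

/-! The residue Weil differential chain of `LeadRS`, for a function field with a separating element
(instead of a geometric one). -/

set_option autoImplicit false

namespace Groth.Agent.Lib.LeadGS
open FunFld HahnSeries WithZero Groth.Agent.Lib.LeadTR Groth.Agent.Lib.LeadWD
  Groth.Agent.Lib.LeadFF Groth.Agent.Lib.LeadMS Groth.Agent.Lib.LeadRS Polynomial
open scoped IntermediateField

universe u v w

variable {k : Type u} {K : Type v} [Field k] [Field K] [Algebra k K]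

/-- `K/k` has a separating element. -/
def HasSep (k : Type u) (K : Type v) [Field k] [Field K] [Algebra k K] : Prop :=
  ∃ x : K, Transcendental k x ∧ Algebra.IsSeparable k⟮x⟯ K

lemma hasSep_of_geometric (hK : IsFunctionField k K) (hg : IsGeometric k K) : HasSep k K :=
  exists_separating hK hg

theorem finrank_kaehler (hs : HasSep k K) : Module.finrank K (Ω[K⁄k]) = 1 := by
  obtain ⟨x, hx, hsep⟩ := hs
  obtain ⟨h1, h2⟩ := kaehler_of_separating hx
  exact (finrank_eq_one_iff_of_nonzero' _ h1).mpr h2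

theorem finrank_Fp (hs : HasSep k K) (p : ℕ) [hp : Fact p.Prime]
    [CharP K p] : Module.finrank (Fp k K p) K = p := by
  obtain ⟨x, hx, hsep⟩ := hs
  have hD := (kaehler_of_separating hx).1
  have hxF : x ∉ Fp k K p := fun h => hD (D_eq_zero_of_mem p _ h)
  obtain ⟨hint, hfin⟩ := finrank_adjoin_of_not_mem p hxF
  have htop : (Fp k K p)⟮x⟯ = ⊤ := by
    rw [← IntermediateField.restrictScalars_eq_top_iff (K := k),
      IntermediateField.restrictScalars_adjoin_eq_sup, sup_comm]
    exact sup_eq_top_of_separable p x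
  rw [← IntermediateField.finrank_top', ← htop, hfin]

theorem separable_of_not_mem (hK : IsFunctionField k K) (hs : HasSep k K) (p : ℕ)
    [hp : Fact p.Prime] [CharP K p] {x : K} (hx : x ∉ Fp k K p) :
    Transcendental k x ∧ Algebra.IsSeparable k⟮x⟯ K := by
  have hxk : x ∉ Set.range (algebraMap k K) := by
    rintro ⟨c, rfl⟩; exact hx ((Fp k K p).algebraMap_mem c)
  have hxt := Lib.LeadFF.transcendental_of_not_mem hK hxk
  haveI := Lib.LeadFF.finite_over_adjoin hK hxt
  refine ⟨hxt, separable_of_sup_eq_top p k⟮x⟯ ?_⟩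
  obtain ⟨hint, hfin⟩ := finrank_adjoin_of_not_mem p hx
  have h1 := Module.finrank_mul_finrank (Fp k K p) (Fp k K p)⟮x⟯ K
  rw [hfin, finrank_Fp hs p] at h1
  have h2 : Module.finrank (Fp k K p)⟮x⟯ K = 1 :=
    Nat.eq_of_mul_eq_mul_left hp.out.pos (by rw [h1, mul_one])
  have h3 := IntermediateField.finrank_eq_one_iff_eq_top.mp h2
  rw [← IntermediateField.restrictScalars_eq_top_iff (K := k),
    IntermediateField.restrictScalars_adjoin_eq_sup, sup_comm] at h3
  exact h3

lemma sep_of_D_ne_zero (hK : IsFunctionField k K) (hs : HasSep k K) {s : K}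
    (hD : KaehlerDifferential.D k K s ≠ 0) :
    Transcendental k s ∧ Algebra.IsSeparable k⟮s⟯ K := by
  obtain ⟨p, hp⟩ := CharP.exists K
  rcases CharP.char_is_prime_or_zero K p with hpp | rfl
  · haveI := Fact.mk hpp
    apply separable_of_not_mem hK hs p
    intro hmem
    exact hD (Groth.Agent.Lib.LeadMS.D_eq_zero_of_mem p (KaehlerDifferential.D k K) hmem)
  · haveI : CharZero K := CharP.charP_to_charZero K
    have hst : Transcendental k s := by
      apply transcendental_of_not_mem hK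
      rintro ⟨c, rfl⟩
      exact hD (Derivation.map_algebraMap _ c)
    haveI := finite_over_adjoin hK hst
    haveI : CharZero k⟮s⟯ := RingHom.charZero (algebraMap k⟮s⟯ K)
    exact ⟨hst, inferInstance⟩

lemma span_of_D_ne_zero (hs : HasSep k K) {t : K}
    (hD : KaehlerDifferential.D k K t ≠ 0) (ω : Ω[K⁄k]) :
    ∃ c : K, ω = c • KaehlerDifferential.D k K t := by
  have h1 := finrank_kaehler hs
  obtain ⟨c, hc⟩ := (finrank_eq_one_iff_of_nonzero' _ hD).mp h1 ω
  exact ⟨c, hc.symm⟩

lemma D_exp_ne_zero (hs : HasSep k K) {t : K}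
    (hD : KaehlerDifferential.D k K t ≠ 0) (P : Place k K)
    {F : Type*} [Field F] [Algebra k F]
    (φ : K →ₐ[k] LaurentSeries F) (hφ : LocRes.IsExpansionAt P.1 φ) :
    LocRes.D F (φ t) ≠ 0 := by
  obtain ⟨π, hπ⟩ := hφ.2.2
  intro h0
  obtain ⟨c, hc⟩ := span_of_D_ne_zero hs hD (KaehlerDifferential.D k K π)
  have h1 := Groth.Agent.Lib.LeadMS.D_expand φ hc
  rw [h0, mul_zero] at h1
  have hv : Valued.v (φ π) = exp (-(1 : ℤ)) := by rw [hφ.1, hπ]
  have := Groth.Agent.Lib.LeadMS.val_D_of_ne hv (by simp)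
  rw [h1, map_zero] at this
  exact exp_ne_zero this.symm

section Local
variable {F : Type w} [Field F] [Algebra k F]

theorem isSeparable_of_expansion (hs : HasSep k K)
    (P : Place k K) [FiniteDimensional k F] (φ : K →ₐ[k] LaurentSeries F)
    (hφ : LocRes.IsExpansionAt P.1 φ) : Algebra.IsSeparable k F := by
  classical
  by_contra hns
  obtain ⟨δ, a, hδa⟩ := exists_derivation_ne_zero hns
  obtain ⟨t, ht⟩ := hφ.2.2
  have hφt : Valued.v (φ t) = exp (-(1 : ℤ)) := by rw [hφ.1, ht]
  have hDφt : Valued.v (LocRes.D F (φ t)) = 1 := by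
    have := Groth.Agent.Lib.LeadMS.val_D_of_ne hφt (by simp)
    simpa using this
  have hDt0 : LocRes.D F (φ t) ≠ 0 := by
    intro h0
    rw [h0, map_zero] at hDφt
    exact zero_ne_one hDφt
  have hdt : KaehlerDifferential.D k K t ≠ 0 := by
    intro h0
    apply hDt0
    have := Groth.Agent.Lib.LeadMS.D_expand φ (x := t) (x' := t) (c := 0) (by rw [h0, smul_zero])
    rw [this, map_zero, zero_mul]
  obtain ⟨f, hf1, hf2⟩ := hφ.2.1 a
  obtain ⟨c, hc⟩ := span_of_D_ne_zero hs hdt (KaehlerDifferential.D k K f)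
  have h1 := eExp_expand δ φ hc
  have h2 := Groth.Agent.Lib.LeadMS.D_expand φ hc
  have hφc : φ c = LocRes.D F (φ f) / LocRes.D F (φ t) := by
    rw [h2, mul_div_assoc, div_self hDt0, mul_one]
  have hvφf : Valued.v (φ f) ≤ 1 := by rw [hφ.1]; exact hf1
  have hvc : Valued.v (φ c) ≤ 1 := by
    rw [hφc, map_div₀, hDφt, _root_.div_one]
    exact Groth.Agent.Lib.LeadRS.val_D_le_one hvφf
  have hvE : Valued.v (cmap δ (φ f)) ≤ exp (-(1 : ℤ)) := by
    rw [h1, map_mul]
    calc Valued.v (φ c) * Valued.v (cmap δ (φ t)) ≤ 1 * exp (-(1 : ℤ)) :=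
          mul_le_mul' hvc (val_cmap_le δ (φ t) 1 hφt.le)
      _ = exp (-(1 : ℤ)) := one_mul _
  have := (mem_Afil_iff_val (k := k)).mpr hvE 0 (by norm_num)
  rw [cmap_coeff, hf2] at this
  exact hδa this

theorem trace_nondeg (hs : HasSep k K)
    (P : Place k K) [FiniteDimensional k F] (φ : K →ₐ[k] LaurentSeries F)
    (hφ : LocRes.IsExpansionAt P.1 φ) (c : F) (hc : c ≠ 0) :
    ∃ b : F, Algebra.trace k F (b * c) ≠ 0 := by
  haveI := isSeparable_of_expansion hs P φ hφ
  obtain ⟨z, hz⟩ := Algebra.trace_surjective k F 1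
  refine ⟨z / c, ?_⟩
  rw [div_mul_cancel₀ _ hc, hz]
  exact one_ne_zero

end Local

end Groth.Agent.Lib.LeadGS
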