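import Mathlib
import Groth.Agent.Lib.LeadGS2

/-! The residue Weil differential for a function field with a separating element. -/

set_option autoImplicit false

namespace Groth.Agent.Lib.LeadGS
open FunFld HahnSeries WithZero Groth.Agent.Lib.LeadTR Groth.Agent.Lib.LeadWD
  Groth.Agent.Lib.LeadFF Groth.Agent.Lib.LeadMS Polynomial
open scoped IntermediateField

universe u v w

variable {k : Type u} {K : Type v} [Field k] [Field K] [Algebra k K]

variable (F : Place k K → Type w) [∀ P, Field (F P)] [∀ P, Algebra k (F P)]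
  [∀ P, FiniteDimensional k (F P)]
  (φ : ∀ P, K →ₐ[k] LaurentSeries (F P))

variable {F φ}

theorem finite_ordDiff_one (hK : IsFunctionField k K) (hs : HasSep k K)
    (hφ : ∀ P, LocRes.IsExpansionAt P.1 (φ P)) {v : K}
    (hv : KaehlerDifferential.D k K v ≠ 0) :
    (Function.support fun P : Place k K => LocRes.ordDiff (φ P) 1 v).Finite := by
  obtain ⟨hvt, hsep⟩ := sep_of_D_ne_zero hK hs hv
  haveI := finite_over_adjoin hK hvt
  have hF : IsFunctionField k k⟮v⟯ :=
    (isFunctionField_intermediate hK k⟮v⟯ ⟨v, IntermediateField.mem_adjoin_simple_self k v, hvt⟩).2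
  have hram := Groth.Agent.Lib.LeadRM.ramified_finite (k := k) (K := k⟮v⟯) (K' := K) hF
  apply (hram.union (finite_poles hK v)).subset
  intro P hP
  by_contra hbad
  rw [Set.mem_union, not_or] at hbad
  obtain ⟨hb1, hb2⟩ := hbad
  rw [Set.mem_setOf_eq, not_not] at hb1
  rw [Set.mem_setOf_eq, not_not] at hb2
  apply hP
  have := val_D_eq_one_of_unram hs P (φ P) (hφ P) hvt hb2 hb1
  show LocRes.ordDiff (φ P) 1 v = 0
  unfold LocRes.ordDiff
  rw [Groth.Agent.Lib.LeadMS.vDiff_one, this]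
  simp

lemma D_ne_zero (hK : IsFunctionField k K) (hs : HasSep k K)
    (hφ : ∀ P, LocRes.IsExpansionAt P.1 (φ P)) {v : K}
    (hv : KaehlerDifferential.D k K v ≠ 0) (P : Place k K) :
    LocRes.D (F P) (φ P v) ≠ 0 :=
  D_exp_ne_zero hs hv P (φ P) (hφ P)

lemma vDiff_ne_zero (hK : IsFunctionField k K) (hs : HasSep k K)
    (hφ : ∀ P, LocRes.IsExpansionAt P.1 (φ P)) {u v : K} (hu : u ≠ 0)
    (hv : KaehlerDifferential.D k K v ≠ 0) (P : Place k K) :
    LocRes.vDiff (φ P) u v ≠ 0 := by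
  unfold LocRes.vDiff
  rw [map_mul]
  apply mul_ne_zero
  · rw [(hφ P).1]; exact (Valuation.ne_zero_iff _).mpr hu
  · exact (Valuation.ne_zero_iff _).mpr (D_ne_zero hK hs hφ hv P)

theorem finite_ordDiff_gen (hK : IsFunctionField k K) (hs : HasSep k K)
    (hφ : ∀ P, LocRes.IsExpansionAt P.1 (φ P)) {u v : K} (hu : u ≠ 0)
    (hv : KaehlerDifferential.D k K v ≠ 0) :
    (Function.support fun P : Place k K => LocRes.ordDiff (φ P) u v).Finite := by
  have hpt : ∀ P : Place k K, LocRes.ordDiff (φ P) u v = P.ord u + LocRes.ordDiff (φ P) 1 v :=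
    fun P => ordDiff_mul P (φ P) (hφ P) hu (D_ne_zero hK hs hφ hv P)
  apply ((support_ord_finite hK u).union (finite_ordDiff_one hK hs hφ hv)).subset
  intro P hP
  rw [Function.mem_support, hpt P] at hP
  by_contra hcon
  rw [Set.mem_union, not_or, Function.mem_support, Function.mem_support, not_not, not_not] at hcon
  apply hP
  rw [hcon.1, hcon.2, add_zero]

theorem weil_of_residues (hK : IsFunctionField k K) (hs : HasSep k K)
    (hφ : ∀ P, LocRes.IsExpansionAt P.1 (φ P)) (u v : K) (hu : u ≠ 0)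
    (hv : KaehlerDifferential.D k K v ≠ 0) :
    IsWeil (omegaRes hK hφ u v) ∧ omegaRes hK hφ u v ≠ 0 ∧
      ∀ C : Divisor k K, (∀ P, C P = LocRes.ordDiff (φ P) u v) →
        IsDivOf (omegaRes hK hφ u v) C := by
  classical
  have hfin := finite_ordDiff_gen hK hs hφ hu hv
  set C₀ : Divisor k K := Finsupp.ofSupportFinite _ hfin with hC₀
  have hC₀' : ∀ P, C₀ P = LocRes.ordDiff (φ P) u v := fun P => rfl
  obtain ⟨h1, h2, h3⟩ := exists_weil_of_residues hK hφ u v
    (fun P => vDiff_ne_zero hK hs hφ hu hv P)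
    (fun P c hc => trace_nondeg hs P (φ P) (hφ P) c hc) C₀ hC₀' (nonempty_place hK)
  refine ⟨h1, h2, fun C hC => ?_⟩
  have : C = C₀ := by
    ext P; rw [hC P, hC₀' P]
  rw [this]; exact h3

/-- the divisor of `dv`. -/
noncomputable def divD (hK : IsFunctionField k K) (hs : HasSep k K)
    (hφ : ∀ P, LocRes.IsExpansionAt P.1 (φ P)) {v : K}
    (hv : KaehlerDifferential.D k K v ≠ 0) : Divisor k K :=
  Finsupp.ofSupportFinite _ (finite_ordDiff_gen hK hs hφ one_ne_zero hv)

lemma divD_apply (hK : IsFunctionField k K) (hs : HasSep k K)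
    (hφ : ∀ P, LocRes.IsExpansionAt P.1 (φ P)) {v : K}
    (hv : KaehlerDifferential.D k K v ≠ 0) (P : Place k K) :
    divD hK hs hφ hv P = LocRes.ordDiff (φ P) 1 v := rfl

lemma vDiff_one_eq (hK : IsFunctionField k K) (hs : HasSep k K)
    (hφ : ∀ P, LocRes.IsExpansionAt P.1 (φ P)) {v : K}
    (hv : KaehlerDifferential.D k K v ≠ 0) (P : Place k K) :
    LocRes.vDiff (φ P) 1 v = exp (-(divD hK hs hφ hv P)) := by
  rw [divD_apply, LocRes.ordDiff, neg_neg,
    WithZero.exp_log (vDiff_ne_zero hK hs hφ one_ne_zero hv P)]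

lemma vDiff_eq (hK : IsFunctionField k K) (hs : HasSep k K)
    (hφ : ∀ P, LocRes.IsExpansionAt P.1 (φ P)) {v : K}
    (hv : KaehlerDifferential.D k K v ≠ 0) (P : Place k K) (y : K) :
    LocRes.vDiff (φ P) y v = P.1 y * exp (-(divD hK hs hφ hv P)) := by
  rw [← vDiff_one_eq hK hs hφ hv P]
  unfold LocRes.vDiff
  rw [map_mul, map_mul, map_one, map_one, one_mul, (hφ P).1]

lemma isDivOf_divD (hK : IsFunctionField k K) (hs : HasSep k K)
    (hφ : ∀ P, LocRes.IsExpansionAt P.1 (φ P)) {v : K}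
    (hv : KaehlerDifferential.D k K v ≠ 0) :
    IsDivOf (omegaRes hK hφ 1 v) (divD hK hs hφ hv) :=
  (weil_of_residues hK hs hφ 1 v one_ne_zero hv).2.2 _ (fun P => divD_apply hK hs hφ hv P)


theorem deg_divD (hK : IsFunctionField k K) (hs : HasSep k K)
    (hφ : ∀ P, LocRes.IsExpansionAt P.1 (φ P)) {v : K}
    (hv : KaehlerDifferential.D k K v ≠ 0) :
    (divD hK hs hφ hv).deg = 2 * (genus k K : ℤ) - 2 := by
  have hC : IsCanonical k K (divD hK hs hφ hv) :=
    ⟨_, (weil_of_residues hK hs hφ 1 v one_ne_zero hv).2.1, isDivOf_divD hK hs hφ hv⟩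
  exact (canonical_ell_deg hK hC).2

end Groth.Agent.Lib.LeadGS
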