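import Groth.Agent.Lib.LeadMS4

/-! Algebraically closed constants: geometric; separating elements in generating subspaces. -/

namespace Groth.Agent.Lib.LeadMS

open FunFld IntermediateField TensorProduct

universe u v

theorem isGeometric_of_isAlgClosed (k : Type u) (K : Type v) [Field k] [IsAlgClosed k] [Field K]
    [Algebra k K] : IsGeometric k K := by
  intro k' _ _ hfin
  have hbij : Function.Bijective (algebraMap k k') :=
    IsAlgClosed.algebraMap_bijective_of_isIntegral
  let e : k ≃ₐ[k] k' := AlgEquiv.ofBijective (Algebra.ofId k k') hbij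
  let E : k' ⊗[k] K ≃ₐ[k] K :=
    (Algebra.TensorProduct.congr e.symm (AlgEquiv.refl : K ≃ₐ[k] K)).trans
      (Algebra.TensorProduct.lid k K)
  exact MulEquiv.isField (Field.toIsField K) E.toMulEquiv

variable {k : Type u} {K : Type v} [Field k] [Field K] [Algebra k K]

/-- a separating element is transcendental. -/
theorem transcendental_of_separable (hK : IsFunctionField k K) {x : K}
    (hsep : Algebra.IsSeparable k⟮x⟯ K) : Transcendental k x := by
  intro halg
  obtain ⟨⟨x₀, hx₀, -⟩, -⟩ := id hK
  apply hx₀
  have h1 : IsAlgebraic k⟮x⟯ x₀ := (Algebra.IsSeparable.isSeparable k⟮x⟯ x₀).isIntegral.isAlgebraic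
  haveI : Algebra.IsAlgebraic k k⟮x⟯ :=
    IntermediateField.isAlgebraic_adjoin_simple halg.isIntegral
  exact IsAlgebraic.restrictScalars k h1

theorem exists_separating_mem (hK : IsFunctionField k K) (hg : IsGeometric k K)
    (W : Submodule k K) (hW : IntermediateField.adjoin k (W : Set K) = ⊤) :
    ∃ x ∈ W, Algebra.IsSeparable k⟮x⟯ K := by
  classical
  rcases CharP.exists' K with h0 | ⟨p, hp, hc⟩
  · have hex : ∃ x ∈ W, x ∉ Set.range (algebraMap k K) := by
      by_contra hcon
      push Not at hcon
      have hle : IntermediateField.adjoin k (W : Set K) ≤ ⊥ := by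
        rw [IntermediateField.adjoin_le_iff]
        intro x hx
        exact IntermediateField.mem_bot.mpr (hcon x hx)
      rw [hW] at hle
      obtain ⟨⟨x₀, hx₀, -⟩, -⟩ := id hK
      have : x₀ ∈ (⊥ : IntermediateField k K) := hle IntermediateField.mem_top
      obtain ⟨c, rfl⟩ := IntermediateField.mem_bot.mp this
      exact hx₀ (isAlgebraic_algebraMap c)
    obtain ⟨x, hxW, hx⟩ := hex
    refine ⟨x, hxW, ?_⟩
    have hxt := Lib.LeadFF.transcendental_of_not_mem hK hx
    haveI : CharZero k⟮x⟯ := RingHom.charZero (algebraMap k⟮x⟯ K)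
    haveI := Lib.LeadFF.isAlgebraic_over_adjoin hK hxt
    exact Algebra.IsAlgebraic.isSeparable_of_perfectField
  · by_contra hcon
    push Not at hcon
    have hle : IntermediateField.adjoin k (W : Set K) ≤ Fp k K p := by
      rw [IntermediateField.adjoin_le_iff]
      intro x hx
      by_contra hxF
      exact hcon x hx (separable_of_not_mem hK hg p hxF).2
    rw [hW, top_le_iff] at hle
    have h1 := finrank_Fp hK hg p
    rw [hle, IntermediateField.finrank_top] at h1
    exact hp.out.one_lt.ne h1

theorem exists_primitive_mem [Infinite k] (hK : IsFunctionField k K)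
    (W : Submodule k K) (hW : IntermediateField.adjoin k (W : Set K) = ⊤)
    {x : K} (hsep : Algebra.IsSeparable k⟮x⟯ K) :
    ∃ y ∈ W, IntermediateField.adjoin k ({x, y} : Set K) = ⊤ := by
  classical
  have hxt := transcendental_of_separable hK hsep
  haveI := Lib.LeadFF.finite_over_adjoin hK hxt
  haveI : Algebra.IsAlgebraic k⟮x⟯ K := Algebra.IsAlgebraic.of_finite _ _
  haveI : Finite (IntermediateField k⟮x⟯ K) :=
    Field.finite_intermediateField_of_exists_primitive_element _ _
      (Field.exists_primitive_element k⟮x⟯ K)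
  by_contra hcon
  push Not at hcon
  let ι := {M : IntermediateField k⟮x⟯ K // M ≠ ⊤}
  let q : ι → Submodule k W := fun M =>
    Submodule.comap W.subtype (M.1.restrictScalars k).toSubalgebra.toSubmodule
  have hcov : ⋃ i, (q i : Set W) = Set.univ := by
    rw [Set.eq_univ_iff_forall]
    intro y
    have hy : (k⟮x⟯)⟮(y : K)⟯ ≠ ⊤ := by
      intro htop
      apply hcon y y.2
      have := IntermediateField.adjoin_adjoin_left k ({x} : Set K) ({(y : K)} : Set K)
      rw [htop, IntermediateField.restrictScalars_top] at this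
      rw [this, Set.singleton_union]
    refine Set.mem_iUnion.mpr ⟨⟨_, hy⟩, ?_⟩
    show (y : K) ∈ (k⟮x⟯)⟮(y : K)⟯
    exact IntermediateField.mem_adjoin_simple_self _ _
  obtain ⟨M, hM⟩ := Subspace.exists_eq_top_of_iUnion_eq_univ hcov
  apply M.2
  rw [← IntermediateField.restrictScalars_eq_top_iff (K := k), eq_top_iff, ← hW,
    IntermediateField.adjoin_le_iff]
  intro y hy
  have : (⟨y, hy⟩ : W) ∈ q M := by rw [hM]; trivial
  exact this

end Groth.Agent.Lib.LeadMS
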