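import Groth.Agent.Lib.LeadAS10
import Groth.Agent.Lib.LeadGS3
import Groth.Agent.Lib.LeadMS5

/-! Artin–Schreier curves in characteristic 2: the genus equals the number of the differentials of
the family (for S19046). -/

namespace Groth.Agent.Lib.LeadAS

open FunFld WithZero Polynomial Groth.Agent.Lib.LeadFF Groth.Agent.Lib.LeadMS Groth.Agent.Lib.LeadWD
  Groth.Agent.Lib.LeadGS

universe u v

variable {k : Type u} {K : Type v} [Field k] [IsAlgClosed k] [CharP k 2] [Field K] [Algebra k K]
  [Algebra (RatFunc k) K] [IsScalarTower k (RatFunc k) K]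
  (hK : IsFunctionField k K)
  (hdeg : Module.finrank (RatFunc k) K = 2) [Algebra.IsSeparable (RatFunc k) K]
  {y : K} (hy : y ∉ Set.range (algebraMap (RatFunc k) K)) {f : RatFunc k}
  (heq : y ^ 2 + y = algebraMap (RatFunc k) K f)
  {B : Finset k} (h0 : (0 : k) ∈ B) {d : k → ℕ} (hd : ∀ β ∈ B, Odd (d β))
  (hpole : ∀ (p : Place k (RatFunc k)) (β : k), β ∈ B →
    p.1 ((RatFunc.X : RatFunc k) - RatFunc.C β) < 1 → p.ord f = -(d β : ℤ))
  (hint : ∀ p : Place k (RatFunc k),
    (∀ β ∈ B, 1 ≤ p.1 ((RatFunc.X : RatFunc k) - RatFunc.C β)) → p.1 f ≤ 1)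

include hK hdeg hy heq h0 hd hpole hint in
/-- the span of the family of differentials has dimension the genus. -/
theorem finrank_span_fam_eq_genus :
    Module.finrank k (Submodule.span k (Set.range
      ((IsScalarTower.toAlgHom k (RatFunc k) K).toLinearMap ∘ (Sum.elim (fam1 B d) (fam2 B))))) =
      genus k K := by
  classical
  have hs : HasSep k K := hasSep_of_geometric hK (isGeometric_of_isAlgClosed k K)
  obtain ⟨φ, hφ⟩ := exists_expansions hK
  set x : K := algebraMap (RatFunc k) K RatFunc.X with hx
  -- dx ≠ 0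
  obtain ⟨P₀⟩ := nonempty_place hK
  have hDne : LocRes.D k (φ P₀ x) ≠ 0 := by
    intro h0'
    have hreg := regular_iff hdeg hy heq hd hpole hint P₀ (φ P₀) (hφ P₀) 1
    rw [vDiff_eq_mul P₀ (φ P₀) (hφ P₀), h0', map_zero, mul_zero] at hreg
    have hall := hreg.mp zero_le'
    -- at every kind of place the bound forces `1 ≤ something < 1` only at infinity
    rw [map_one] at hall
    by_cases hinf : 1 < P₀.1 x
    · have := hall.2.1 hinf
      rw [← exp_zero, exp_le_exp] at this
      omega
    · -- use the exact values instead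
      rw [not_lt] at hinf
      by_cases hB : ∀ β ∈ B, 1 ≤ P₀.1 (x - algebraMap k K β)
      · obtain ⟨p, hpX, hpB, he1⟩ := below_elsewhere hdeg hy heq hint P₀ hinf hB
        obtain ⟨c, hc'⟩ := exists_const_sub_lt_one (isFunctionField_ratFunc (k := k)) p hpX
        have hc : p.1 (RatFunc.X - RatFunc.C c) < 1 := by
          rw [← RatFunc.algebraMap_eq_C]; exact hc'
        have hPc : P₀.1 (x - algebraMap k K c) = exp (-1 : ℤ) := by
          rw [hx, xsub_eq, he1, pow_one, val_X_sub_C p hc]
        have := val_D_x_of_unif P₀ (φ P₀) (hφ P₀) hPc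
        rw [← hx, h0', map_zero] at this
        exact zero_ne_one this
      · push_neg at hB
        obtain ⟨α, hα, hlt⟩ := hB
        have := val_D_x_at_pole hdeg hy heq hd hpole hα P₀ hlt (φ P₀) (hφ P₀)
        rw [← hx, h0', map_zero] at this
        exact exp_ne_zero this.symm
  have hv : KaehlerDifferential.D k K x ≠ 0 := by
    intro h0'
    apply hDne
    have := D_expand (φ P₀) (x := x) (x' := x) (c := 0) (by rw [h0', smul_zero])
    rw [this, map_zero, zero_mul]
  set C : Divisor k K := divD hK hs hφ hv with hC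
  have hCan : IsCanonical k K C :=
    ⟨_, (weil_of_residues hK hs hφ 1 x one_ne_zero hv).2.1, isDivOf_divD hK hs hφ hv⟩
  have hell : (ell C : ℤ) = genus k K := (canonical_ell_deg hK hCan).1
  have hLC : L C = Submodule.span k (Set.range
      ((IsScalarTower.toAlgHom k (RatFunc k) K).toLinearMap ∘ (Sum.elim (fam1 B d) (fam2 B)))) := by
    have hmem : ∀ z : K, z ∈ L C ↔ BdK K B d z := by
      intro z
      constructor
      · intro hz P
        apply (regular_iff hdeg hy heq hd hpole hint P (φ P) (hφ P) z).mp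
        rw [vDiff_eq hK hs hφ hv P z, zm0_mul_exp_le_one_iff, neg_neg]
        exact hz P
      · intro hz P
        have := (regular_iff hdeg hy heq hd hpole hint P (φ P) (hφ P) z).mpr (hz P)
        rw [vDiff_eq hK hs hφ hv P z, zm0_mul_exp_le_one_iff, neg_neg] at this
        exact this
    apply le_antisymm
    · intro z hz
      obtain ⟨u, rfl, hu⟩ := exists_Bd_of_BdK hdeg hy heq hd hpole hint ((hmem z).mp hz)
      have := mem_span_fam B h0 d hd u hu.1 hu.2.1 hu.2.2
      rw [Set.range_comp, ← Submodule.map_span]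
      exact ⟨u, this, rfl⟩
    · rw [Submodule.span_le]
      rintro _ ⟨i, rfl⟩
      rw [Function.comp_apply]
      apply (hmem _).mpr
      apply BdK_of_Bd hdeg hy heq hd hpole hint
      rcases i with a | b
      · exact Bd_fam1 B d hd a
      · exact Bd_fam2 B h0 d hd b
  rw [← hLC]
  have : (Module.finrank k (L C) : ℤ) = genus k K := hell
  exact_mod_cast this

end Groth.Agent.Lib.LeadAS
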