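import Groth.Agent.Lib.LeadAS11

/-! Artin–Schreier curves in characteristic 2: the repartitions `y (x-α)^j`, `y` at the places above
`B` (for S19046): auxiliary facts. -/

namespace Groth.Agent.Lib.LeadAS

open FunFld WithZero Polynomial Groth.Agent.Lib.LeadFF

universe u v

section Poly
variable {k : Type u} [Field k]

/-- a polynomial in `X - α` of degree `< n` vanishing to order `n` at `α` is zero. -/
lemma poly_eq_zero_of_val_le (p : Place k (RatFunc k)) {α : k}
    (hp : p.1 (RatFunc.X - RatFunc.C α) < 1) (q : k[X]) (n : ℕ) (hq : q.natDegree < n)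
    (hv : p.1 (algebraMap k[X] (RatFunc k) (q.comp (X - C α))) ≤ exp (-(n : ℤ))) : q = 0 := by
  by_contra hq0
  have hcomp : (q.comp (X - C α)).comp (X + C α) = q := by
    rw [comp_assoc]
    simp
  have hq1 : q.comp (X - C α) ≠ 0 := by
    intro h0
    rw [h0, zero_comp] at hcomp
    exact hq0 hcomp.symm
  rw [val_poly_at p hp hq1, exp_le_exp] at hv
  have hle : n ≤ multiplicity (X - C α) (q.comp (X - C α)) := by omega
  have hdvd : (X - C α) ^ n ∣ q.comp (X - C α) := pow_dvd_of_le_multiplicity hle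
  have hdvd2 : ((X - C α) ^ n).comp (X + C α) ∣ (q.comp (X - C α)).comp (X + C α) := by
    obtain ⟨r, hr⟩ := hdvd
    exact ⟨r.comp (X + C α), by rw [hr, mul_comp]⟩
  rw [hcomp] at hdvd2
  have hX : ((X - C α : k[X]) ^ n).comp (X + C α) = X ^ n := by
    simp
  rw [hX] at hdvd2
  have := Polynomial.eq_zero_of_dvd_of_natDegree_lt hdvd2 (by rw [natDegree_X_pow]; exact hq)
  exact hq0 this

lemma mem_range_of_integral (w : RatFunc k) (h : ∀ p : Place k (RatFunc k), p.1 w ≤ 1) :
    w ∈ Set.range (algebraMap k (RatFunc k)) := by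
  by_contra hne
  have hw : w ≠ 0 := by rintro rfl; exact hne ⟨0, map_zero _⟩
  obtain ⟨-, Q, hQ⟩ := exists_zero_and_pole (isFunctionField_ratFunc (k := k)) w hne
  exact absurd ((ord_neg_iff Q hw).mp hQ) (not_lt.mpr (h Q))

end Poly

variable {k : Type u} {K : Type v} [Field k] [IsAlgClosed k] [CharP k 2] [Field K] [Algebra k K]
  [Algebra (RatFunc k) K] [IsScalarTower k (RatFunc k) K]
  (hdeg : Module.finrank (RatFunc k) K = 2) [Algebra.IsSeparable (RatFunc k) K]
  {y : K} (hy : y ∉ Set.range (algebraMap (RatFunc k) K)) {f : RatFunc k}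
  (heq : y ^ 2 + y = algebraMap (RatFunc k) K f)
  {B : Finset k} {d : k → ℕ} (hd : ∀ β ∈ B, Odd (d β))
  (hpole : ∀ (p : Place k (RatFunc k)) (β : k), β ∈ B →
    p.1 ((RatFunc.X : RatFunc k) - RatFunc.C β) < 1 → p.ord f = -(d β : ℤ))

include hdeg hy heq hd hpole in
/-- parity argument at a ramified place, general bound. -/
lemma val_vy_le {α : k} (hα : α ∈ B) (P : Place k K)
    (hP : P.1 (algebraMap (RatFunc k) K RatFunc.X - algebraMap k K α) < 1)
    (p : Place k (RatFunc k)) (he2 : IsOverWith P p 2) (u v : RatFunc k)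
    {b : WithZero (Multiplicative ℤ)}
    (hz : P.1 (algebraMap (RatFunc k) K u + algebraMap (RatFunc k) K v * y) ≤ b) :
    P.1 (algebraMap (RatFunc k) K v * y) ≤ b := by
  obtain ⟨hPy, -, -⟩ := local_at_pole hdeg hy heq hd hpole hα P hP
  obtain ⟨m, hm⟩ := hd α hα
  by_cases hv : v = 0
  · rw [hv, map_zero, zero_mul, map_zero]; exact zero_le'
  have hpv : p.1 v ≠ 0 := (Valuation.ne_zero_iff _).mpr hv
  have hPvy : P.1 (algebraMap (RatFunc k) K v * y) = exp (2 * log (p.1 v) + (d α : ℤ)) := by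
    rw [map_mul, he2, hPy]
    nth_rewrite 1 [← exp_log hpv]
    rw [← exp_nsmul, ← exp_add]
    congr 1
  by_cases hu : u = 0
  · rw [hu, map_zero, zero_add] at hz
    exact hz
  have hpu : p.1 u ≠ 0 := (Valuation.ne_zero_iff _).mpr hu
  have hPu : P.1 (algebraMap (RatFunc k) K u) = exp (2 * log (p.1 u)) := by
    rw [he2]
    nth_rewrite 1 [← exp_log hpu]
    rw [← exp_nsmul]
    congr 1
  have hne : P.1 (algebraMap (RatFunc k) K u) ≠ P.1 (algebraMap (RatFunc k) K v * y) := by
    rw [hPu, hPvy]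
    intro h
    rw [exp_inj] at h
    omega
  rw [Valuation.map_add_of_distinct_val _ hne] at hz
  exact (le_max_right _ _).trans hz

include hdeg hy heq hd hpole in
/-- consequence: the order of vanishing of `v` at `α`. -/
lemma val_v_le_of_vy_le_one {α : k} (hα : α ∈ B) (P : Place k K)
    (hP : P.1 (algebraMap (RatFunc k) K RatFunc.X - algebraMap k K α) < 1)
    (p : Place k (RatFunc k)) (he2 : IsOverWith P p 2) (v : RatFunc k)
    (hz : P.1 (algebraMap (RatFunc k) K v * y) ≤ 1) :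
    p.1 v ≤ exp (-(((d α + 1) / 2 : ℕ) : ℤ)) := by
  obtain ⟨hPy, -, -⟩ := local_at_pole hdeg hy heq hd hpole hα P hP
  obtain ⟨m, hm⟩ := hd α hα
  by_cases hv : v = 0
  · rw [hv, map_zero]; exact zero_le'
  have hpv : p.1 v ≠ 0 := (Valuation.ne_zero_iff _).mpr hv
  rw [map_mul, he2, hPy] at hz
  have h' : p.1 v = exp (log (p.1 v)) := (exp_log hpv).symm
  rw [h'] at hz ⊢
  generalize log (p.1 v) = L at hz ⊢
  rw [← exp_nsmul, ← exp_add, ← exp_zero, exp_le_exp] at hz
  rw [exp_le_exp]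
  simp only [smul_eq_mul, nsmul_eq_mul] at hz
  push_cast at hz ⊢
  omega

end Groth.Agent.Lib.LeadAS
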