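import Groth.Agent.Lib.LeadAS12

/-! Artin–Schreier curves in characteristic 2: the repartitions `y (x-α)^j`, `y` at the places above
`B` are linearly independent modulo `A(0) + K` (for S19046). -/

namespace Groth.Agent.Lib.LeadAS

open FunFld WithZero Polynomial Groth.Agent.Lib.LeadFF

universe u v

variable {k : Type u} {K : Type v} [Field k] [IsAlgClosed k] [CharP k 2] [Field K] [Algebra k K]
  [Algebra (RatFunc k) K] [IsScalarTower k (RatFunc k) K]
  (hdeg : Module.finrank (RatFunc k) K = 2) [Algebra.IsSeparable (RatFunc k) K]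
  {y : K} (hy : y ∉ Set.range (algebraMap (RatFunc k) K)) {f : RatFunc k}
  (heq : y ^ 2 + y = algebraMap (RatFunc k) K f)
  {B : Finset k} (h0 : (0 : k) ∈ B) {d : k → ℕ} (hd : ∀ β ∈ B, Odd (d β))
  (hpole : ∀ (p : Place k (RatFunc k)) (β : k), β ∈ B →
    p.1 ((RatFunc.X : RatFunc k) - RatFunc.C β) < 1 → p.ord f = -(d β : ℤ))
  (hint : ∀ p : Place k (RatFunc k),
    (∀ β ∈ B, 1 ≤ p.1 ((RatFunc.X : RatFunc k) - RatFunc.C β)) → p.1 f ≤ 1)
  [DecidableEq (Place k K)]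
  (Pl : k → Place k K)
  (hPl : ∀ β ∈ B, (Pl β).1 ((algebraMap (RatFunc k) K RatFunc.X) - (algebraMap k K β)) < 1)

/-- the family of repartitions. -/
noncomputable def rho (y : K) (B : Finset k) (d : k → ℕ) (Pl : k → Place k K) :
    {a : ↥B × ℕ // 1 ≤ a.2 ∧ 2 * a.2 + 1 ≤ d (a.1 : k)} ⊕ {b : ↥B // (b : k) ≠ 0} →
      (Place k K → K) :=
  Sum.elim
    (fun a => (Pi.single (Pl (a.1.1 : k))
      (y * ((algebraMap (RatFunc k) K RatFunc.X) - (algebraMap k K (a.1.1 : k))) ^ a.1.2) :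
        Place k K → K))
    (fun b => (Pi.single (Pl (b.1 : k)) y : Place k K → K))

open scoped Classical in
/-- the coefficient polynomials. -/
noncomputable def delta (B : Finset k) (d : k → ℕ) (α : k) :
    {a : ↥B × ℕ // 1 ≤ a.2 ∧ 2 * a.2 + 1 ≤ d (a.1 : k)} ⊕ {b : ↥B // (b : k) ≠ 0} → k[X] :=
  Sum.elim (fun a => if (a.1.1 : k) = α then X ^ a.1.2 else 0)
    (fun b => if (b.1 : k) = α then 1 else 0)

include hdeg hy heq hd hpole hPl in
lemma Pl_injOn {α β : k} (hα : α ∈ B) (hβ : β ∈ B) (h : Pl α = Pl β) : α = β := by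
  by_contra hne
  obtain ⟨-, -, hother⟩ := local_at_pole hdeg hy heq hd hpole hα (Pl α) (hPl α hα)
  have h1 := hother β (Ne.symm hne)
  have h2 := hPl β hβ
  rw [← h, h1] at h2
  exact lt_irrefl _ h2

include hdeg hy heq hd hpole hPl in
lemma rho_apply_Pl {α : k} (hα : α ∈ B)
    (i : {a : ↥B × ℕ // 1 ≤ a.2 ∧ 2 * a.2 + 1 ≤ d (a.1 : k)} ⊕ {b : ↥B // (b : k) ≠ 0}) :
    rho y B d Pl i (Pl α) = y * algebraMap (RatFunc k) K
      (aeval (RatFunc.X - RatFunc.C α : RatFunc k) (delta B d α i)) := by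
  rcases i with a | b
  · simp only [rho, delta, Sum.elim_inl]
    by_cases h : (a.1.1 : k) = α
    · rw [if_pos h, h, Pi.single_eq_same, aeval_X_pow, map_pow, xsub_eq]
    · rw [if_neg h, Pi.single_eq_of_ne, map_zero, map_zero, mul_zero]
      intro hP
      exact h (Pl_injOn hdeg hy heq hd hpole Pl hPl hα a.1.1.2 hP).symm
  · simp only [rho, delta, Sum.elim_inr]
    by_cases h : (b.1 : k) = α
    · rw [if_pos h, h, Pi.single_eq_same, map_one, map_one, mul_one]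
    · rw [if_neg h, Pi.single_eq_of_ne, map_zero, map_zero, mul_zero]
      intro hP
      exact h (Pl_injOn hdeg hy heq hd hpole Pl hPl hα b.1.2 hP).symm

include hPl in
omit [IsAlgClosed k] [CharP k 2] [IsScalarTower k (RatFunc k) K]
  [Algebra.IsSeparable (RatFunc k) K] in
lemma rho_apply_other (Q : Place k K)
    (hQ : ∀ α ∈ B, 1 ≤ Q.1 (algebraMap (RatFunc k) K RatFunc.X - algebraMap k K α))
    (i : {a : ↥B × ℕ // 1 ≤ a.2 ∧ 2 * a.2 + 1 ≤ d (a.1 : k)} ⊕ {b : ↥B // (b : k) ≠ 0}) :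
    rho y B d Pl i Q = 0 := by
  have hne : ∀ α ∈ B, Q ≠ Pl α := by
    intro α hα h
    have := hPl α hα
    rw [← h] at this
    exact absurd this (not_lt.mpr (hQ α hα))
  rcases i with a | b
  · simp only [rho, Sum.elim_inl]
    exact Pi.single_eq_of_ne (hne _ a.1.1.2) _
  · simp only [rho, Sum.elim_inr]
    exact Pi.single_eq_of_ne (hne _ b.1.2) _

include hdeg hy heq hd hpole hPl in
lemma sum_rho_apply_Pl {α : k} (hα : α ∈ B)
    (s : Finset ({a : ↥B × ℕ // 1 ≤ a.2 ∧ 2 * a.2 + 1 ≤ d (a.1 : k)} ⊕ {b : ↥B // (b : k) ≠ 0}))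
    (g : {a : ↥B × ℕ // 1 ≤ a.2 ∧ 2 * a.2 + 1 ≤ d (a.1 : k)} ⊕ {b : ↥B // (b : k) ≠ 0} → k) :
    (∑ i ∈ s, g i • rho y B d Pl i) (Pl α) = y * algebraMap (RatFunc k) K
      (aeval (RatFunc.X - RatFunc.C α : RatFunc k) (∑ i ∈ s, g i • delta B d α i)) := by
  rw [Finset.sum_apply, map_sum, map_sum, Finset.mul_sum]
  apply Finset.sum_congr rfl
  intro i _
  rw [Pi.smul_apply, rho_apply_Pl hdeg hy heq hd hpole Pl hPl hα i, map_smul,
    Algebra.smul_def (g i) (aeval _ _), map_mul, ← IsScalarTower.algebraMap_apply,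
    Algebra.smul_def]
  ring

end Groth.Agent.Lib.LeadAS
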