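import Groth.Agent.Lib.LeadAS13

/-! Artin–Schreier curves in characteristic 2: the repartitions `y (x-α)^j`, `y` at the places above
`B` are linearly independent modulo `A(0) + K` (for S19046): the main argument. -/

namespace Groth.Agent.Lib.LeadAS

open FunFld WithZero Polynomial Groth.Agent.Lib.LeadFF

universe u v

variable {k : Type u} {K : Type v} [Field k] [IsAlgClosed k] [CharP k 2] [Field K] [Algebra k K]
  [Algebra (RatFunc k) K] [IsScalarTower k (RatFunc k) K]
  (hdeg : Module.finrank (RatFunc k) K = 2) [Algebra.IsSeparable (RatFunc k) K]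
  {y : K} (hy : y ∉ Set.range (algebraMap (RatFunc k) K)) {f : RatFunc k}
  (heq : y ^ 2 + y = algebraMap (RatFunc k) K f)
  {B : Finset k} (h0 : (0 : k) ∈ B) {d : k → ℕ} (hd : ∀ β ∈ B, Odd (d β))
  (hpole : ∀ (p : Place k (RatFunc k)) (β : k), β ∈ B →
    p.1 ((RatFunc.X : RatFunc k) - RatFunc.C β) < 1 → p.ord f = -(d β : ℤ))
  (hint : ∀ p : Place k (RatFunc k),
    (∀ β ∈ B, 1 ≤ p.1 ((RatFunc.X : RatFunc k) - RatFunc.C β)) → p.1 f ≤ 1)
  [DecidableEq (Place k K)]
  (Pl : k → Place k K)
  (hPl : ∀ β ∈ B, (Pl β).1 ((algebraMap (RatFunc k) K RatFunc.X) - (algebraMap k K β)) < 1)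

omit [IsAlgClosed k] [CharP k 2] in
lemma aeval_X_sub_C_eq (α : k) (q : k[X]) :
    aeval (RatFunc.X - RatFunc.C α : RatFunc k) q =
      algebraMap k[X] (RatFunc k) (q.comp (X - C α)) := by
  rw [← algMap_X_sub_C, aeval_algebraMap_apply, comp_eq_aeval]

include hdeg hy heq h0 hd hpole hint hPl in
/-- if a combination of the repartitions lies in `A(0) + K`, the coefficient polynomials are a
common constant, which vanishes. -/
theorem coeff_poly_eq_zero
    (s : Finset ({a : ↥B × ℕ // 1 ≤ a.2 ∧ 2 * a.2 + 1 ≤ d (a.1 : k)} ⊕ {b : ↥B // (b : k) ≠ 0}))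
    (g : {a : ↥B × ℕ // 1 ≤ a.2 ∧ 2 * a.2 + 1 ≤ d (a.1 : k)} ⊕ {b : ↥B // (b : k) ≠ 0} → k)
    (hAW : (∑ i ∈ s, g i • rho y B d Pl i) ∈ AD (0 : Divisor k K) ⊔ LinearMap.range (diag k K)) :
    ∀ α ∈ B, (∑ i ∈ s, g i • delta B d α i) = 0 := by
  classical
  haveI : FiniteDimensional (RatFunc k) K :=
    Module.finite_of_finrank_pos (by rw [hdeg]; norm_num)
  have hKr := isFunctionField_ratFunc (k := k)
  set A : Place k K → K := ∑ i ∈ s, g i • rho y B d Pl i with hA
  obtain ⟨a₀, ha₀, _, ⟨h, rfl⟩, hsum'⟩ := Submodule.mem_sup.mp hAW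
  have hloc : ∀ Q : Place k K, Q.1 (A Q - h) ≤ 1 := by
    intro Q
    have h1 : A Q - h = a₀ Q := by
      rw [← hsum', Pi.add_apply]
      show a₀ Q + h - h = a₀ Q
      ring
    rw [h1]
    have := ha₀ Q
    simpa using this
  set Hp : k → k[X] := fun α => ∑ i ∈ s, g i • delta B d α i with hHp
  set x : K := algebraMap (RatFunc k) K RatFunc.X with hx
  have hAPl : ∀ α ∈ B, A (Pl α) = y * algebraMap (RatFunc k) K
      (aeval (RatFunc.X - RatFunc.C α : RatFunc k) (Hp α)) :=
    fun α hα => sum_rho_apply_Pl hdeg hy heq hd hpole Pl hPl hα s g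
  have hAother : ∀ Q : Place k K, (∀ α ∈ B, 1 ≤ Q.1 (x - algebraMap k K α)) → A Q = 0 := by
    intro Q hQ
    rw [hA, Finset.sum_apply]
    apply Finset.sum_eq_zero
    intro i _
    rw [Pi.smul_apply, rho_apply_other Pl hPl Q hQ i, smul_zero]
  obtain ⟨u, v, huv⟩ := exists_repr hdeg hy h
  obtain ⟨σ, hσ⟩ := exists_conj hdeg hy heq
  set σ' : K ≃ₐ[k] K := σ.restrictScalars k with hσ'
  have hσ'app : ∀ z : K, σ' z = σ z := fun z => rfl
  have hσh : σ h = h + algebraMap (RatFunc k) K v := by
    rw [huv, map_add, map_mul, σ.commutes, σ.commutes, hσ]; ring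
  have hconj_x : ∀ (Q : Place k K) (β : k),
      (conjPlace σ' Q).1 (x - algebraMap k K β) = Q.1 (x - algebraMap k K β) := by
    intro Q β
    rw [conjPlace_apply, hx, xsub_eq, hσ'app, σ.commutes]
  have hpow_le : ∀ (a : WithZero (Multiplicative ℤ)) (e : ℕ), 0 < e → a ^ e ≤ 1 → a ≤ 1 := by
    intro a e he h
    by_contra hlt
    rw [not_le] at hlt
    exact absurd h (not_le.mpr (one_lt_pow₀ hlt he.ne'))
  -- v is integral everywhere
  have hv_int : ∀ p : Place k (RatFunc k), p.1 v ≤ 1 := by
    intro p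
    by_cases hB : ∀ α ∈ B, 1 ≤ p.1 (RatFunc.X - RatFunc.C α)
    · obtain ⟨P, e, he⟩ := exists_over (K' := K) hKr p
      have he0 := isOverWith_pos he
      have hPB : ∀ α ∈ B, 1 ≤ P.1 (x - algebraMap k K α) := fun α hα => by
        rw [hx, xsub_eq, he]; exact one_le_pow₀ (hB α hα)
      have h1 : P.1 h ≤ 1 := by
        have := hloc P
        rwa [hAother P hPB, zero_sub, Valuation.map_neg] at this
      have hPB' : ∀ α ∈ B, 1 ≤ (conjPlace σ' P).1 (x - algebraMap k K α) := fun α hα => by
        rw [hconj_x]; exact hPB α hα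
      have h2 : P.1 (σ h) ≤ 1 := by
        have := hloc (conjPlace σ' P)
        rwa [hAother _ hPB', zero_sub, Valuation.map_neg, conjPlace_apply] at this
      have h3 : P.1 (algebraMap (RatFunc k) K v) ≤ 1 := by
        have : algebraMap (RatFunc k) K v = σ h - h := by rw [hσh]; ring
        rw [this]; exact (Valuation.map_sub _ _ _).trans (max_le h2 h1)
      rw [he] at h3
      exact hpow_le _ e he0 h3
    · push_neg at hB
      obtain ⟨α, hα, hlt⟩ := hB
      obtain ⟨p', hp', he2, -⟩ := below_pole hdeg hy heq hd hpole hα (Pl α) (hPl α hα)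
      have hpp : p' = p := ratPlace_unique p' p hp' hlt
      subst hpp
      have hcP : conjPlace σ' (Pl α) = Pl α :=
        place_above_pole_unique hdeg hy heq hd hpole hα (conjPlace σ' (Pl α)) (Pl α)
          (by rw [← hx, hconj_x]; exact hPl α hα) (hPl α hα)
      set G : RatFunc k := aeval (RatFunc.X - RatFunc.C α : RatFunc k) (Hp α) with hG
      have h1 : (Pl α).1 (y * algebraMap (RatFunc k) K G - h) ≤ 1 := by
        have := hloc (Pl α)
        rwa [hAPl α hα] at this
      have h2 : (Pl α).1 ((y + 1) * algebraMap (RatFunc k) K G -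
          (h + algebraMap (RatFunc k) K v)) ≤ 1 := by
        have := hloc (conjPlace σ' (Pl α))
        rw [conjPlace_apply, hcP, hAPl α hα, hσ'app, map_sub, map_mul, σ.commutes, hσ, hσh] at this
        exact this
      have h3 : (Pl α).1 (algebraMap (RatFunc k) K (G - v)) ≤ 1 := by
        have : algebraMap (RatFunc k) K (G - v) =
            ((y + 1) * algebraMap (RatFunc k) K G - (h + algebraMap (RatFunc k) K v)) -
              (y * algebraMap (RatFunc k) K G - h) := by
          rw [map_sub]; ring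
        rw [this]; exact (Valuation.map_sub _ _ _).trans (max_le h2 h1)
      rw [he2] at h3
      have h4 : p'.1 (G - v) ≤ 1 := hpow_le _ 2 (by norm_num) h3
      have h5 : p'.1 G ≤ 1 := by
        rw [hG, aeval_X_sub_C_eq]
        exact val_poly_le_one p' (irreducible_X_sub_C α) (by rw [algMap_X_sub_C]; exact hp') _
      have : v = G - (G - v) := by ring
      rw [this]
      exact (Valuation.map_sub _ _ _).trans (max_le h5 h4)
  obtain ⟨c, hc⟩ := mem_range_of_integral v hv_int
  -- the coefficient polynomials are the constant c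
  have hHpc : ∀ α ∈ B, Hp α = C c := by
    intro α hα
    obtain ⟨p', hp', he2, -⟩ := below_pole hdeg hy heq hd hpole hα (Pl α) (hPl α hα)
    set G : RatFunc k := aeval (RatFunc.X - RatFunc.C α : RatFunc k) (Hp α) with hG
    have h1 : (Pl α).1 (y * algebraMap (RatFunc k) K G - h) ≤ 1 := by
      have := hloc (Pl α)
      rwa [hAPl α hα] at this
    have h2 : (Pl α).1 (algebraMap (RatFunc k) K (-u) + algebraMap (RatFunc k) K (G - v) * y) ≤ 1 := by
      have : algebraMap (RatFunc k) K (-u) + algebraMap (RatFunc k) K (G - v) * y =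
          y * algebraMap (RatFunc k) K G - h := by
        rw [huv, map_neg, map_sub]; ring
      rw [this]; exact h1
    have h3 := val_vy_le hdeg hy heq hd hpole hα (Pl α) (hPl α hα) p' he2 (-u) (G - v) h2
    have h4 := val_v_le_of_vy_le_one hdeg hy heq hd hpole hα (Pl α) (hPl α hα) p' he2 (G - v) h3
    have hGv : G - v = algebraMap k[X] (RatFunc k) ((Hp α - C c).comp (X - C α)) := by
      rw [hG, aeval_X_sub_C_eq, sub_comp, C_comp, map_sub, RatFunc.algebraMap_C, ← hc,
        RatFunc.algebraMap_eq_C]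
    rw [hGv] at h4
    obtain ⟨m, hm⟩ := hd α hα
    have hn : (d α + 1) / 2 = m + 1 := by omega
    have hdegq : (Hp α - C c).natDegree < (d α + 1) / 2 := by
      rw [hn, Nat.lt_succ_iff]
      refine (natDegree_sub_le_of_le (m := m) (n := 0) ?_ ?_).trans (by simp)
      · apply natDegree_sum_le_of_forall_le
        intro i _
        refine (natDegree_smul_le _ _).trans ?_
        rcases i with a | b
        · simp only [delta, Sum.elim_inl]
          by_cases hα' : (a.1.1 : k) = α
          · rw [if_pos hα', natDegree_X_pow]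
            have := a.2.2
            rw [hα'] at this
            omega
          · rw [if_neg hα', natDegree_zero]; exact Nat.zero_le _
        · simp only [delta, Sum.elim_inr]
          by_cases hα' : (b.1 : k) = α
          · rw [if_pos hα', natDegree_one]; exact Nat.zero_le _
          · rw [if_neg hα', natDegree_zero]; exact Nat.zero_le _
      · rw [natDegree_C]
    have := poly_eq_zero_of_val_le p' hp' (Hp α - C c) _ hdegq h4
    exact sub_eq_zero.mp this
  -- c = 0
  have hc0 : c = 0 := by
    have h1 := congrArg (fun q : k[X] => q.coeff 0) (hHpc 0 h0)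
    simp only [hHp, finset_sum_coeff, coeff_smul, coeff_C_zero] at h1
    rw [← h1]
    apply Finset.sum_eq_zero
    intro i _
    rcases i with a | b
    · simp only [delta, Sum.elim_inl]
      by_cases hα' : (a.1.1 : k) = 0
      · rw [if_pos hα', coeff_X_pow, if_neg (by have := a.2.1; omega), smul_zero]
      · rw [if_neg hα', coeff_zero, smul_zero]
    · simp only [delta, Sum.elim_inr]
      rw [if_neg b.2, coeff_zero, smul_zero]
  intro α hα
  have := hHpc α hα
  rw [hc0, map_zero] at this
  exact this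

end Groth.Agent.Lib.LeadAS
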