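import Groth.Agent.Lib.LeadAS14

/-! Artin–Schreier curves in characteristic 2: the repartitions `y (x-α)^j`, `y` at the places above
`B` form a basis of the repartitions modulo `A(0) + K` (S19046). -/

namespace Groth.Agent.Lib.LeadAS

open FunFld WithZero Polynomial Groth.Agent.Lib.LeadFF

universe u v

variable {k : Type u} {K : Type v} [Field k] [IsAlgClosed k] [CharP k 2] [Field K] [Algebra k K]
  [Algebra (RatFunc k) K] [IsScalarTower k (RatFunc k) K]
  (hK : IsFunctionField k K)
  (hdeg : Module.finrank (RatFunc k) K = 2) [Algebra.IsSeparable (RatFunc k) K]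
  {y : K} (hy : y ∉ Set.range (algebraMap (RatFunc k) K)) {f : RatFunc k}
  (heq : y ^ 2 + y = algebraMap (RatFunc k) K f)
  {B : Finset k} (h0 : (0 : k) ∈ B) {d : k → ℕ} (hd : ∀ β ∈ B, Odd (d β))
  (hpole : ∀ (p : Place k (RatFunc k)) (β : k), β ∈ B →
    p.1 ((RatFunc.X : RatFunc k) - RatFunc.C β) < 1 → p.ord f = -(d β : ℤ))
  (hint : ∀ p : Place k (RatFunc k),
    (∀ β ∈ B, 1 ≤ p.1 ((RatFunc.X : RatFunc k) - RatFunc.C β)) → p.1 f ≤ 1)
  [DecidableEq (Place k K)]
  (Pl : k → Place k K)
  (hPl : ∀ β ∈ B, (Pl β).1 ((algebraMap (RatFunc k) K RatFunc.X) - (algebraMap k K β)) < 1)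

omit [IsAlgClosed k] [CharP k 2] [Algebra (RatFunc k) K] [IsScalarTower k (RatFunc k) K]
  [Algebra.IsSeparable (RatFunc k) K] in
lemma single_mem_adele' (P : Place k K) (z : K) :
    (Pi.single P z : Place k K → K) ∈ adele k K := by
  show ∀ᶠ Q : Place k K in Filter.cofinite, Q.1 ((Pi.single P z : Place k K → K) Q) ≤ 1
  rw [Filter.eventually_cofinite]
  apply Set.Finite.subset (Set.finite_singleton P)
  intro Q hQ
  by_contra hne
  apply hQ
  have hne' : Q ≠ P := hne
  simp [Pi.single_eq_of_ne hne']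

include hdeg hy heq h0 hd hpole hint hPl in
/-- independence modulo `A(0) + K`. -/
theorem rho_indep :
    LinearIndependent k (fun i => Submodule.mkQ
      (AD (0 : Divisor k K) ⊔ LinearMap.range (diag k K)) (rho y B d Pl i)) := by
  classical
  rw [linearIndependent_iff']
  intro s g hsum i₀ hi₀
  have hAW : (∑ i ∈ s, g i • rho y B d Pl i) ∈
      AD (0 : Divisor k K) ⊔ LinearMap.range (diag k K) := by
    rw [← Submodule.Quotient.mk_eq_zero, ← Submodule.mkQ_apply, map_sum]
    simpa only [map_smul] using hsum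
  have hz := coeff_poly_eq_zero hdeg hy heq h0 hd hpole hint Pl hPl s g hAW
  rcases i₀ with a₀ | b₀
  · have h1 := congrArg (fun q : k[X] => q.coeff a₀.1.2) (hz (a₀.1.1 : k) a₀.1.1.2)
    simp only [finset_sum_coeff, coeff_smul, coeff_zero] at h1
    rw [Finset.sum_eq_single (Sum.inl a₀)] at h1
    · simpa [delta] using h1
    · intro i _ hne
      rcases i with a | b
      · simp only [delta, Sum.elim_inl]
        by_cases hα' : (a.1.1 : k) = a₀.1.1
        · rw [if_pos hα', coeff_X_pow, if_neg, smul_zero]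
          intro hj
          apply hne
          congr 1
          exact Subtype.ext (Prod.ext (Subtype.ext hα') hj.symm)
        · rw [if_neg hα', coeff_zero, smul_zero]
      · simp only [delta, Sum.elim_inr]
        by_cases hα' : (b.1 : k) = a₀.1.1
        · have := a₀.2.1
          rw [if_pos hα', coeff_one, if_neg (by omega), smul_zero]
        · rw [if_neg hα', coeff_zero, smul_zero]
    · intro hnot; exact absurd hi₀ hnot
  · have h1 := congrArg (fun q : k[X] => q.coeff 0) (hz (b₀.1 : k) b₀.1.2)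
    simp only [finset_sum_coeff, coeff_smul, coeff_zero] at h1
    rw [Finset.sum_eq_single (Sum.inr b₀)] at h1
    · simpa [delta] using h1
    · intro i _ hne
      rcases i with a | b
      · simp only [delta, Sum.elim_inl]
        by_cases hα' : (a.1.1 : k) = b₀.1
        · have := a.2.1
          rw [if_pos hα', coeff_X_pow, if_neg (by omega), smul_zero]
        · rw [if_neg hα', coeff_zero, smul_zero]
      · simp only [delta, Sum.elim_inr]
        by_cases hα' : (b.1 : k) = b₀.1
        · exfalso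
          apply hne
          congr 1
          exact Subtype.ext (Subtype.ext hα')
        · rw [if_neg hα', coeff_zero, smul_zero]
    · intro hnot; exact absurd hi₀ hnot

omit [IsAlgClosed k] [CharP k 2] in
lemma finite_index (B : Finset k) (d : k → ℕ) :
    Finite ({a : ↥B × ℕ // 1 ≤ a.2 ∧ 2 * a.2 + 1 ≤ d (a.1 : k)} ⊕ {b : ↥B // (b : k) ≠ 0}) := by
  haveI : Finite {a : ↥B × ℕ // 1 ≤ a.2 ∧ 2 * a.2 + 1 ≤ d (a.1 : k)} := by
    let N := B.sup d
    have hN : ∀ a : ↥B, d (a : k) ≤ N := fun a => Finset.le_sup (f := d) a.2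
    let φ : {a : ↥B × ℕ // 1 ≤ a.2 ∧ 2 * a.2 + 1 ≤ d (a.1 : k)} → ↥B × Fin (N + 1) :=
      fun a => (a.1.1, ⟨a.1.2, by have := a.2.2; have := hN a.1.1; omega⟩)
    apply Finite.of_injective φ
    intro a b hab
    simp only [φ, Prod.mk.injEq, Fin.mk.injEq] at hab
    exact Subtype.ext (Prod.ext hab.1 hab.2)
  infer_instance

include hK hdeg hy heq h0 hd hpole hint hPl in
/-- spanning modulo `A(0) + K`. -/
theorem rho_span (a : Place k K → K) (ha : a ∈ adele k K) :
    a ∈ (AD (0 : Divisor k K) ⊔ LinearMap.range (diag k K)) ⊔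
      Submodule.span k (Set.range (rho y B d Pl)) := by
  classical
  haveI := finite_index B d
  letI : Fintype ({a : ↥B × ℕ // 1 ≤ a.2 ∧ 2 * a.2 + 1 ≤ d (a.1 : k)} ⊕
    {b : ↥B // (b : k) ≠ 0}) := Fintype.ofFinite _
  set W := AD (0 : Divisor k K) ⊔ LinearMap.range (diag k K) with hW
  -- the quotient of the adeles
  obtain ⟨hfd, hrank⟩ := adele_quot hK (0 : Divisor k K)
  haveI := hfd
  rw [deg_zero, ell_zero hK] at hrank
  have hrank' : Module.finrank k (↥(adele k K) ⧸ ADK (0 : Divisor k K)) = genus k K := by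
    have : (Module.finrank k (↥(adele k K) ⧸ ADK (0 : Divisor k K)) : ℤ) = genus k K := by
      rw [hrank]; push_cast; ring
    exact_mod_cast this
  -- the family in the adeles
  have hmem : ∀ i, rho y B d Pl i ∈ adele k K := by
    intro i
    rcases i with a | b
    · exact single_mem_adele' _ _
    · exact single_mem_adele' _ _
  set ρ' : _ → ↥(adele k K) := fun i => ⟨rho y B d Pl i, hmem i⟩ with hρ'
  have hle : ADK (0 : Divisor k K) ≤ Submodule.comap (adele k K).subtype W := le_refl _
  have hind : LinearIndependent k (fun i => Submodule.mkQ (ADK (0 : Divisor k K)) (ρ' i)) := by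
    apply LinearIndependent.of_comp (Submodule.mapQ (ADK (0 : Divisor k K)) W
      (adele k K).subtype hle)
    exact rho_indep hdeg hy heq h0 hd hpole hint Pl hPl
  -- count
  have hzind : LinearIndependent k
      ((IsScalarTower.toAlgHom k (RatFunc k) K).toLinearMap ∘ (Sum.elim (fam1 B d) (fam2 B))) := by
    apply (linearIndependent_fam B d).map'
    rw [LinearMap.ker_eq_bot]
    exact (algebraMap (RatFunc k) K).injective
  have hcard : Fintype.card ({a : ↥B × ℕ // 1 ≤ a.2 ∧ 2 * a.2 + 1 ≤ d (a.1 : k)} ⊕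
      {b : ↥B // (b : k) ≠ 0}) = Module.finrank k (↥(adele k K) ⧸ ADK (0 : Divisor k K)) := by
    rw [hrank', ← finrank_span_fam_eq_genus hK hdeg hy heq h0 hd hpole hint,
      finrank_span_eq_card hzind]
  have htop := hind.span_eq_top_of_card_eq_finrank' hcard
  have hmem_top : Submodule.mkQ (ADK (0 : Divisor k K)) ⟨a, ha⟩ ∈
      Submodule.span k (Set.range fun i => Submodule.mkQ (ADK (0 : Divisor k K)) (ρ' i)) := by
    rw [htop]; trivial
  obtain ⟨l, hl⟩ := (Submodule.mem_span_range_iff_exists_fun k).mp hmem_top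
  have hdiff : (⟨a, ha⟩ - ∑ i, l i • ρ' i : ↥(adele k K)) ∈ ADK (0 : Divisor k K) := by
    rw [← Submodule.Quotient.mk_eq_zero, ← Submodule.mkQ_apply, map_sub, map_sum]
    simp only [map_smul]
    rw [hl, sub_self]
  have hdiff' : a - ∑ i, l i • rho y B d Pl i ∈ W := by
    have : ((⟨a, ha⟩ - ∑ i, l i • ρ' i : ↥(adele k K)) : Place k K → K) =
        a - ∑ i, l i • rho y B d Pl i := by
      simp [hρ']
    rw [← this]
    exact hdiff
  have : a = (a - ∑ i, l i • rho y B d Pl i) + ∑ i, l i • rho y B d Pl i := by ring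
  rw [this]
  apply Submodule.add_mem
  · exact Submodule.mem_sup_left hdiff'
  · apply Submodule.mem_sup_right
    apply Submodule.sum_mem
    intro i _
    exact Submodule.smul_mem _ _ (Submodule.subset_span ⟨i, rfl⟩)

end Groth.Agent.Lib.LeadAS
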