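import Groth.Agent.Lib.LeadAS9

/-! Genus of Artin–Schreier curves `y² + y = f` in characteristic 2 with odd poles, over a general
constant field: dimension count `ℓ_K(conorm E) = ℓ(E) + ℓ(E - D₀)` (S11028). -/

namespace Groth.Agent.Lib.LeadAS

open FunFld WithZero Polynomial Groth.Agent.Lib.LeadFF

universe u v

lemma zm0_sq_le_iff (x : ZM0) (n : ℤ) : x ^ 2 ≤ exp (2 * n) ↔ x ≤ exp n := by
  induction x using WithZero.expRecOn with
  | zero => simp
  | exp m =>
    rw [zm0_exp_pow, exp_le_exp, exp_le_exp]; push_cast; omega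

lemma zm0_sq_mul_le_iff (x : ZM0) (n d : ℤ) :
    x ^ 2 * exp (2 * d - 1) ≤ exp (2 * n) ↔ x ≤ exp (n - d) := by
  induction x using WithZero.expRecOn with
  | zero => simp
  | exp m =>
    rw [zm0_exp_pow, ← exp_add, exp_le_exp, exp_le_exp]; push_cast; omega

section Parity

variable {k : Type u} {K : Type v} [Field k] [Field K] [Algebra k K] [Algebra (RatFunc k) K]

/-- parity argument at a totally ramified place where `y` has odd pole order. -/
lemma parity {P : Place k K} {p : Place k (RatFunc k)} (he2 : IsOverWith P p 2) {y : K} {d : ℤ}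
    (hPy : P.1 y = exp (2 * d - 1)) (u v : RatFunc k) (n : ℤ) :
    P.1 (algebraMap (RatFunc k) K u + algebraMap (RatFunc k) K v * y) ≤ exp (2 * n) ↔
      p.1 u ≤ exp n ∧ p.1 v ≤ exp (n - d) := by
  have hPu : P.1 (algebraMap (RatFunc k) K u) = p.1 u ^ 2 := he2 u
  have hPv : P.1 (algebraMap (RatFunc k) K v * y) = p.1 v ^ 2 * exp (2 * d - 1) := by
    rw [map_mul, he2 v, hPy]
  rw [← zm0_sq_le_iff (p.1 u) n, ← zm0_sq_mul_le_iff (p.1 v) n d, ← hPu, ← hPv]
  by_cases hu : u = 0
  · subst hu
    simp only [map_zero, zero_add, zero_le', true_and]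
  by_cases hv : v = 0
  · subst hv
    simp only [map_zero, zero_mul, add_zero, zero_le', and_true]
  have hne : P.1 (algebraMap (RatFunc k) K u) ≠ P.1 (algebraMap (RatFunc k) K v * y) := by
    rw [hPu, hPv]
    have hpu : p.1 u ≠ 0 := (Valuation.ne_zero_iff _).mpr hu
    have hpv : p.1 v ≠ 0 := (Valuation.ne_zero_iff _).mpr hv
    obtain ⟨a, ha⟩ : ∃ a : ℤ, p.1 u = exp a := ⟨log (p.1 u), (exp_log hpu).symm⟩
    obtain ⟨b, hb⟩ : ∃ b : ℤ, p.1 v = exp b := ⟨log (p.1 v), (exp_log hpv).symm⟩
    rw [ha, hb, zm0_exp_pow, zm0_exp_pow, ← exp_add]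
    intro h
    rw [exp_inj] at h
    push_cast at h
    omega
  rw [Valuation.map_add_of_distinct_val _ hne, max_le_iff]

omit [Algebra k K] in
lemma eq_zero_of_repr {y : K} (hy : y ∉ Set.range (algebraMap (RatFunc k) K)) {s t : RatFunc k}
    (h : algebraMap (RatFunc k) K s + algebraMap (RatFunc k) K t * y = 0) : s = 0 ∧ t = 0 := by
  by_cases ht : t = 0
  · subst ht
    rw [map_zero, zero_mul, add_zero] at h
    exact ⟨(map_eq_zero _).mp h, rfl⟩
  · exfalso
    apply hy
    refine ⟨-s / t, ?_⟩
    have ht' : algebraMap (RatFunc k) K t ≠ 0 := (_root_.map_ne_zero _).mpr ht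
    rw [map_div₀, map_neg]
    field_simp
    linear_combination (-1 : K) * h

end Parity

section Genus

variable {k : Type u} {K : Type v} [Field k] [CharP k 2] [Field K] [Algebra k K]
  [Algebra (RatFunc k) K] [IsScalarTower k (RatFunc k) K]
  (hdeg : Module.finrank (RatFunc k) K = 2)
  {y : K} (hy : y ∉ Set.range (algebraMap (RatFunc k) K)) {f : RatFunc k}
  (heq : y ^ 2 + y = algebraMap (RatFunc k) K f)
  (hodd : ∀ P : Place k (RatFunc k), P.ord f < 0 → Odd (P.ord f))

/-- the half pole divisor `∑ ((1 - ord_P f)/2) P` over the poles of `f`. -/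
noncomputable def D0 (f : RatFunc k) : Divisor k (RatFunc k) :=
  ∑ P ∈ (FunFld.div k f).support with FunFld.div k f P < 0,
    Finsupp.single P ((1 - FunFld.div k f P) / 2)

omit [CharP k 2] in
lemma D0_apply (f : RatFunc k) (p : Place k (RatFunc k)) :
    D0 f p = if p.ord f < 0 then (1 - p.ord f) / 2 else 0 := by
  classical
  have hK₀ : IsFunctionField k (RatFunc k) := isFunctionField_ratFunc
  unfold D0
  rw [Finsupp.finset_sum_apply]
  simp only [Finsupp.single_apply]
  rw [Finset.sum_ite_eq']
  simp only [Finset.mem_filter, Finsupp.mem_support_iff, div_apply hK₀]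
  by_cases h : p.ord f < 0
  · rw [if_pos h, if_pos ⟨by omega, h⟩]
  · rw [if_neg h, if_neg (fun h' => h h'.2)]

omit [CharP k 2] in
lemma deg_D0 (f : RatFunc k) : (D0 f).deg =
    ∑ P ∈ (FunFld.div k f).support with FunFld.div k f P < 0,
      (1 - FunFld.div k f P) / 2 * (P.deg : ℤ) := by
  unfold D0
  rw [← degHom_apply, map_sum]
  apply Finset.sum_congr rfl
  intro P _
  rw [degHom_apply, deg_single]

include hdeg hy heq hodd in
/-- local data of `y` at a place `Q` over `p`. -/
lemma local_data (Q : Place k K) (p : Place k (RatFunc k)) (e : ℕ) (he : IsOverWith Q p e) :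
    (p.ord f < 0 → e = 2 ∧ Q.1 y = exp (2 * ((1 - p.ord f) / 2) - 1)) ∧
      (0 ≤ p.ord f → e = 1 ∧ Q.1 y ≤ 1) := by
  haveI : FiniteDimensional (RatFunc k) K :=
    Module.finite_of_finrank_pos (by rw [hdeg]; norm_num)
  have h2 : ringChar k = 2 := ringChar.eq k 2
  obtain ⟨hA, hB⟩ := artin_schreier_ramification h2 hdeg y hy f heq p
  constructor
  · intro hneg
    obtain ⟨-, hA2⟩ := hA ⟨hneg, hodd p hneg⟩
    obtain ⟨he2, -⟩ := hA2 Q ⟨e, he⟩
    have hee : e = 2 := (isOverWith_unique he he2).2
    refine ⟨hee, ?_⟩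
    have hf0 : f ≠ 0 := by
      rintro rfl
      unfold Place.ord at hneg
      simp at hneg
    have hpf : p.1 f = exp (-(p.ord f)) := val_eq_exp_neg_ord p hf0
    have hf1 : 1 < p.1 f := (ord_neg_iff p hf0).mp hneg
    rw [val_y_eq_of_pole he2 heq hf1, hpf, exp_inj]
    obtain ⟨m, hm⟩ := hodd p hneg
    omega
  · intro hnn
    have he1 := hB hnn Q ⟨e, he⟩
    have hee : e = 1 := (isOverWith_unique he he1).2
    refine ⟨hee, ?_⟩
    have hf1 : p.1 f ≤ 1 := by
      by_cases hf0 : f = 0
      · rw [hf0, map_zero]; exact zero_le_one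
      · rw [val_eq_exp_neg_ord p hf0, ← exp_zero, exp_le_exp]; omega
    exact val_y_le_one he1 heq hf1

include hdeg hy heq hodd in
lemma mem_L_conorm_iff (E : Divisor k (RatFunc k)) (u v : RatFunc k) :
    algebraMap (RatFunc k) K u + algebraMap (RatFunc k) K v * y ∈ L (conorm K E) ↔
      u ∈ L E ∧ v ∈ L (E - D0 f) := by
  haveI : FiniteDimensional (RatFunc k) K :=
    Module.finite_of_finrank_pos (by rw [hdeg]; norm_num)
  have hK₀ : IsFunctionField k (RatFunc k) := isFunctionField_ratFunc
  have hsub : ∀ p : Place k (RatFunc k), (E - D0 f) p = E p - D0 f p := fun p => by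
    rw [Finsupp.coe_sub, Pi.sub_apply]
  constructor
  · intro hz
    have main : ∀ p : Place k (RatFunc k), p.1 u ≤ exp (E p) ∧ p.1 v ≤ exp ((E - D0 f) p) := by
      intro p
      obtain ⟨Q, e, he⟩ := exists_over (K' := K) hK₀ p
      have hzQ := hz Q
      rw [conorm_apply hK₀ E he] at hzQ
      rw [hsub, D0_apply]
      by_cases hneg : p.ord f < 0
      · obtain ⟨rfl, hQy⟩ := (local_data hdeg hy heq hodd Q p e he).1 hneg
        rw [if_pos hneg]
        push_cast at hzQ
        exact (parity he hQy u v (E p)).mp hzQ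
      · obtain ⟨rfl, hQy⟩ := (local_data hdeg hy heq hodd Q p e he).2 (not_lt.mp hneg)
        rw [if_neg hneg, sub_zero]
        push_cast at hzQ
        rw [one_mul] at hzQ
        obtain ⟨σ, hσ⟩ := exists_conj hdeg hy heq
        have hfix : ∀ g : RatFunc k, (σ.restrictScalars k) (algebraMap (RatFunc k) K g) =
            algebraMap (RatFunc k) K g := fun g => σ.commutes g
        have he' : IsOverWith (conjPlace (σ.restrictScalars k) Q) p 1 := by
          intro w
          rw [conjPlace_apply, hfix]; exact he w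
        have hzQ' := hz (conjPlace (σ.restrictScalars k) Q)
        rw [conorm_apply hK₀ E he', conjPlace_apply] at hzQ'
        push_cast at hzQ'
        rw [one_mul] at hzQ'
        have hσz : (σ.restrictScalars k) (algebraMap (RatFunc k) K u + algebraMap (RatFunc k) K v * y)
            = (algebraMap (RatFunc k) K u + algebraMap (RatFunc k) K v * y)
              + algebraMap (RatFunc k) K v := by
          rw [map_add, map_mul, hfix, hfix]
          have : (σ.restrictScalars k) y = y + 1 := hσ
          rw [this]; ring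
        rw [hσz] at hzQ'
        have hv1 : Q.1 (algebraMap (RatFunc k) K v) ≤ exp (E p) := by
          have : algebraMap (RatFunc k) K v =
              ((algebraMap (RatFunc k) K u + algebraMap (RatFunc k) K v * y)
                + algebraMap (RatFunc k) K v)
              - (algebraMap (RatFunc k) K u + algebraMap (RatFunc k) K v * y) := by ring
          rw [this]
          exact (Valuation.map_sub _ _ _).trans (max_le hzQ' hzQ)
        have hu1 : Q.1 (algebraMap (RatFunc k) K u) ≤ exp (E p) := by
          have : algebraMap (RatFunc k) K u =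
              (algebraMap (RatFunc k) K u + algebraMap (RatFunc k) K v * y)
              - algebraMap (RatFunc k) K v * y := by ring
          rw [this]
          refine (Valuation.map_sub _ _ _).trans (max_le hzQ ?_)
          rw [map_mul]
          calc Q.1 (algebraMap (RatFunc k) K v) * Q.1 y ≤ exp (E p) * 1 :=
                mul_le_mul' hv1 hQy
            _ = exp (E p) := mul_one _
        rw [he u, pow_one] at hu1
        rw [he v, pow_one] at hv1
        exact ⟨hu1, hv1⟩
    exact ⟨fun p => (main p).1, fun p => (main p).2⟩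
  · rintro ⟨hu, hv⟩ Q
    obtain ⟨p, e, -, he⟩ := exists_below hK₀ Q
    rw [conorm_apply hK₀ E he]
    have hup := hu p
    have hvp := hv p
    rw [hsub, D0_apply] at hvp
    by_cases hneg : p.ord f < 0
    · obtain ⟨rfl, hQy⟩ := (local_data hdeg hy heq hodd Q p e he).1 hneg
      rw [if_pos hneg] at hvp
      push_cast
      exact (parity he hQy u v (E p)).mpr ⟨hup, hvp⟩
    · obtain ⟨rfl, hQy⟩ := (local_data hdeg hy heq hodd Q p e he).2 (not_lt.mp hneg)
      rw [if_neg hneg, sub_zero] at hvp
      push_cast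
      rw [one_mul]
      refine (Q.1.map_add _ _).trans (max_le ?_ ?_)
      · rw [he u, pow_one]; exact hup
      · rw [map_mul, he v, pow_one]
        calc p.1 v * Q.1 y ≤ exp (E p) * 1 := mul_le_mul' hvp hQy
          _ = exp (E p) := mul_one _

include hdeg hy heq hodd in
lemma ell_conorm (E : Divisor k (RatFunc k)) :
    ell (conorm K E) = ell E + ell (E - D0 f) := by
  haveI : FiniteDimensional (RatFunc k) K :=
    Module.finite_of_finrank_pos (by rw [hdeg]; norm_num)
  have hK₀ : IsFunctionField k (RatFunc k) := isFunctionField_ratFunc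
  haveI := L_finite hK₀ E
  haveI := L_finite hK₀ (E - D0 f)
  let φ : (L E × L (E - D0 f)) →ₗ[k] K :=
    { toFun := fun w => algebraMap (RatFunc k) K w.1.1 + algebraMap (RatFunc k) K w.2.1 * y
      map_add' := fun w w' => by
        simp only [Prod.fst_add, Prod.snd_add, Submodule.coe_add, map_add]; ring
      map_smul' := fun c w => by
        simp only [Prod.smul_fst, Prod.smul_snd, Submodule.coe_smul, RingHom.id_apply]
        rw [Algebra.smul_def, Algebra.smul_def, map_mul, map_mul,
          ← IsScalarTower.algebraMap_apply k (RatFunc k) K, Algebra.smul_def]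
        ring }
  have hφ : ∀ w, φ w = algebraMap (RatFunc k) K w.1.1 + algebraMap (RatFunc k) K w.2.1 * y :=
    fun _ => rfl
  have hinj : Function.Injective φ := by
    intro w w' h
    rw [hφ, hφ] at h
    have h0 : algebraMap (RatFunc k) K (w.1.1 - w'.1.1) +
        algebraMap (RatFunc k) K (w.2.1 - w'.2.1) * y = 0 := by
      rw [map_sub, map_sub]; linear_combination h
    obtain ⟨h1, h2⟩ := eq_zero_of_repr hy h0
    apply Prod.ext
    · exact Subtype.ext (sub_eq_zero.mp h1)
    · exact Subtype.ext (sub_eq_zero.mp h2)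
  have hrange : LinearMap.range φ = L (conorm K E) := by
    ext z
    constructor
    · rintro ⟨⟨⟨u, hu⟩, ⟨v, hv⟩⟩, rfl⟩
      exact (mem_L_conorm_iff hdeg hy heq hodd E u v).mpr ⟨hu, hv⟩
    · intro hz
      obtain ⟨u, v, rfl⟩ := exists_repr hdeg hy z
      obtain ⟨hu, hv⟩ := (mem_L_conorm_iff hdeg hy heq hodd E u v).mp hz
      exact ⟨(⟨u, hu⟩, ⟨v, hv⟩), rfl⟩
  unfold ell
  rw [← hrange, LinearMap.finrank_range_of_inj hinj, Module.finrank_prod]

include hdeg hy heq hodd in
/-- the genus of `y² + y = f` with odd poles is `deg D₀ - 1`. -/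
theorem genus_eq_deg_D0 (hK : IsFunctionField k K) :
    (genus k K : ℤ) = -1 + (D0 f).deg := by
  haveI : FiniteDimensional (RatFunc k) K :=
    Module.finite_of_finrank_pos (by rw [hdeg]; norm_num)
  have hK₀ : IsFunctionField k (RatFunc k) := isFunctionField_ratFunc
  obtain ⟨hg0, P, hP⟩ := (genus_zero_iff hK₀).mpr ⟨RatFunc.X, RatFunc.adjoin_X⟩
  set n : ℕ := genus k K + (D0 f).deg.toNat + 1 with hn
  have hn1 : (D0 f).deg ≤ (D0 f).deg.toNat := Int.self_le_toNat _
  let E : Divisor k (RatFunc k) := Finsupp.single P (n : ℤ)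
  have hE : E.deg = n := by
    show Divisor.deg (Finsupp.single P (n : ℤ)) = n
    rw [deg_single, hP]; simp
  have h1 := ell_of_deg_ge hK₀ E (by rw [hg0, hE]; push_cast; omega)
  have h2 := ell_of_deg_ge hK₀ (E - D0 f) (by rw [hg0, deg_sub, hE]; push_cast; omega)
  have h3 := ell_of_deg_ge hK (conorm K E) (by
    rw [deg_conorm hK₀, hdeg, hE]; push_cast; omega)
  have h4 := ell_conorm hdeg hy heq hodd E
  rw [hg0] at h1 h2
  rw [deg_conorm hK₀, hdeg, hE] at h3
  rw [deg_sub, hE] at h2
  rw [h4] at h3
  push_cast at h1 h2 h3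
  linarith

end Genus

end Groth.Agent.Lib.LeadAS
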