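import Groth.Agent.Lib.LeadAS16

/-! Artin–Schreier normal form in characteristic 2 over a perfect field: every `f ∈ k(x)` can be
modified by `h² + h` so that all poles have odd order (S12518). -/

namespace Groth.Agent.Lib.LeadAS

open FunFld WithZero Polynomial Groth.Agent.Lib.LeadFF

universe u v

section Surj

variable {k : Type u} {K : Type v} [Field k] [Field K] [Algebra k K]

/-- the leading-coefficient map `L(D + P) → κ(P)` is onto for `deg D ≥ 2g - 1`. -/
lemma resMap_surjective_of_deg (hK : IsFunctionField k K) (D : Divisor k K) (P : Place k K)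
    (t : K) (ht : P.1 t = exp (-1 : ℤ)) (h : 2 * (genus k K : ℤ) - 1 ≤ D.deg) :
    Function.Surjective (resMap D P t ht) := by
  haveI := L_finite hK D
  haveI := L_finite hK (D + Finsupp.single P 1)
  haveI := residueField_finite hK P
  have hP := deg_pos hK P
  have h1 := ell_of_deg_ge hK D h
  have h2 := ell_of_deg_ge hK (D + Finsupp.single P 1) (by
    rw [deg_add, deg_single]; push_cast; omega)
  rw [deg_add, deg_single] at h2
  have hle : L D ≤ L (D + Finsupp.single P 1) := L_mono (by
    intro Q; simp only [Finsupp.coe_add, Pi.add_apply]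
    have : (0 : ℤ) ≤ (Finsupp.single P (1 : ℤ)) Q := by
      classical
      by_cases hQ : Q = P
      · subst hQ; simp
      · simp [Finsupp.single_eq_of_ne hQ]
    linarith)
  have e := Submodule.comapSubtypeEquivOfLe hle
  have h3 : Module.finrank k (LinearMap.ker (resMap D P t ht)) = ell D := by
    rw [ker_resMap]; exact e.finrank_eq
  have h4 := LinearMap.finrank_range_add_finrank_ker (resMap D P t ht)
  rw [h3] at h4
  have h5 : Module.finrank k (LinearMap.range (resMap D P t ht)) =
      Module.finrank k (IsLocalRing.ResidueField P.O) := by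
    show _ = P.deg
    unfold ell at h1 h2 h4
    have : (Module.finrank k (LinearMap.range (resMap D P t ht)) : ℤ) = P.deg := by
      have h4' : (Module.finrank k (LinearMap.range (resMap D P t ht)) : ℤ)
          + (Module.finrank k (L D) : ℤ) = Module.finrank k (L (D + Finsupp.single P 1)) := by
        exact_mod_cast h4
      rw [h1, h2] at h4'
      linarith
    exact_mod_cast this
  exact LinearMap.range_eq_top.mp (Submodule.eq_top_of_finrank_eq h5)

end Surj

section Pole

variable {k : Type u} {K : Type v} [Field k] [Field K] [Algebra k K]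

lemma pole_le_iff (q : Place k K) (f : K) {n : ℤ} (hn : 0 ≤ n) :
    max (-q.ord f) 0 ≤ n ↔ q.1 f ≤ exp n := by
  by_cases hf : f = 0
  · subst hf
    have : q.ord 0 = 0 := by unfold Place.ord; simp
    rw [this, map_zero]
    simp [hn]
  · rw [val_eq_exp_neg_ord q hf, exp_le_exp, max_le_iff]
    exact ⟨fun h => h.1, fun h => ⟨h, hn⟩⟩

lemma val_le_exp_pole (q : Place k K) (f : K) : q.1 f ≤ exp (max (-q.ord f) 0) :=
  (pole_le_iff q f (le_max_right _ _)).mp le_rfl

end Pole

section NormalForm

variable {k : Type u} [Field k] [PerfectField k] [CharP k 2]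

omit [PerfectField k] in
lemma two_eq_zero_ratFunc : (2 : RatFunc k) = 0 := by
  have h2k : (2 : k) = 0 := CharTwo.two_eq_zero
  have : (2 : RatFunc k) = algebraMap k (RatFunc k) 2 := by rw [map_ofNat]
  rw [this, h2k, map_zero]

/-- one reduction step at an even pole. -/
lemma reduce_step (f : RatFunc k) (p : Place k (RatFunc k)) (m : ℤ) (hm : 1 ≤ m)
    (hord : p.ord f = -(2 * m)) :
    ∃ h : RatFunc k, (∀ q : Place k (RatFunc k), q ≠ p → q.1 h ≤ 1) ∧
      p.1 (f + h ^ 2 + h) ≤ exp (2 * m - 1) := by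
  classical
  have hK₀ : IsFunctionField k (RatFunc k) := isFunctionField_ratFunc
  obtain ⟨hg0, -⟩ := (genus_zero_iff hK₀).mpr ⟨RatFunc.X, RatFunc.adjoin_X⟩
  have h2R : (2 : RatFunc k) = 0 := two_eq_zero_ratFunc
  have hf0 : f ≠ 0 := by
    rintro rfl
    have : p.ord (0 : RatFunc k) = 0 := by unfold Place.ord; simp
    omega
  obtain ⟨t, ht⟩ := exists_unif p
  have ht0 := unif_ne_zero ht
  haveI : FiniteDimensional k (IsLocalRing.ResidueField p.O) := residueField_finite hK₀ p
  have hfin2 : Module.Finite k (IsLocalRing.ResidueField p.O) := residueField_finite hK₀ p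
  haveI : Algebra.IsAlgebraic k (IsLocalRing.ResidueField p.O) :=
    @Algebra.IsAlgebraic.of_finite k (IsLocalRing.ResidueField p.O) _ _ _ _ hfin2
  haveI : PerfectField (IsLocalRing.ResidueField p.O) := Algebra.IsAlgebraic.perfectField k
  haveI : CharP (IsLocalRing.ResidueField p.O) 2 :=
    charP_of_injective_algebraMap (algebraMap k (IsLocalRing.ResidueField p.O)).injective 2
  -- the unit `g = t^{2m} f`
  set g : RatFunc k := t ^ (2 * m) * f with hg
  have hpf : p.1 f = exp (2 * m) := by
    rw [val_eq_exp_neg_ord p hf0, hord, neg_neg]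
  have hg1 : p.1 g = 1 := by
    rw [hg, val_unif_zpow_mul ht, hpf]
    exact inv_mul_cancel₀ exp_ne_zero
  have hgO : g ∈ p.O := (Valuation.mem_valuationSubring_iff _ _).mpr hg1.le
  -- a square root of the residue
  obtain ⟨sbar, hsbar⟩ := surjective_frobenius (IsLocalRing.ResidueField p.O) 2
    (IsLocalRing.residue p.O ⟨g, hgO⟩)
  obtain ⟨ws, rfl⟩ := IsLocalRing.residue_surjective sbar
  have hs1 : p.1 (ws : RatFunc k) ≤ 1 := (Valuation.mem_valuationSubring_iff _ _).mp ws.2
  have hsg : p.1 ((ws : RatFunc k) ^ 2 - g) < 1 := by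
    have : IsLocalRing.residue p.O (ws ^ 2 - ⟨g, hgO⟩) = 0 := by
      rw [map_sub, map_pow, ← frobenius_def, hsbar, sub_self]
    exact (residue_eq_zero_iff p _).mp this
  -- an element of `L(m p)` with leading coefficient `s`
  obtain ⟨D, hD⟩ : ∃ D : Divisor k (RatFunc k), D = Finsupp.single p (m - 1) := ⟨_, rfl⟩
  have hDp : D p + 1 = m := by rw [hD, Finsupp.single_eq_same]; ring
  have hDdeg : 2 * (genus k (RatFunc k) : ℤ) - 1 ≤ D.deg := by
    rw [hg0, hD, deg_single]
    have : (0 : ℤ) ≤ (m - 1) * (p.deg : ℤ) :=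
      mul_nonneg (by omega) (Int.natCast_nonneg _)
    push_cast; omega
  obtain ⟨x, hx⟩ := resMap_surjective_of_deg hK₀ D p t ht hDdeg (IsLocalRing.residue p.O ws)
  have hxs : p.1 (t ^ m * (x : RatFunc k) - (ws : RatFunc k)) < 1 := by
    have h1 : IsLocalRing.residue p.O
        (⟨t ^ (D p + 1) * (x : RatFunc k), resMap_mem D p t ht x⟩ - ws) = 0 := by
      rw [map_sub, sub_eq_zero]; exact hx
    have h2 := (residue_eq_zero_iff p _).mp h1
    have h3 : p.1 (t ^ (D p + 1) * (x : RatFunc k) - (ws : RatFunc k)) < 1 := h2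
    rwa [hDp] at h3
  refine ⟨(x : RatFunc k), fun q hq => ?_, ?_⟩
  · have hq' : q.1 (x : RatFunc k) ≤ exp ((D + Finsupp.single p 1 : Divisor k (RatFunc k)) q) := x.2 q
    have e0 : (D + Finsupp.single p 1 : Divisor k (RatFunc k)) q = 0 := by
      rw [Finsupp.coe_add, Pi.add_apply, hD, Finsupp.single_eq_of_ne hq,
        Finsupp.single_eq_of_ne hq, add_zero]
    rw [e0, exp_zero] at hq'
    exact hq'
  · have hxp : p.1 (x : RatFunc k) ≤ exp m := by
      have hp' : p.1 (x : RatFunc k) ≤ exp ((D + Finsupp.single p 1 : Divisor k (RatFunc k)) p) := x.2 p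
      have e0 : (D + Finsupp.single p 1 : Divisor k (RatFunc k)) p = m := by
        rw [Finsupp.coe_add, Pi.add_apply, Finsupp.single_eq_same, hDp]
      rwa [e0] at hp'
    have hxp' : p.1 (x : RatFunc k) ≤ exp (2 * m - 1) :=
      hxp.trans (exp_le_exp.mpr (by omega))
    refine (p.1.map_add _ _).trans (max_le ?_ hxp')
    have hlt : p.1 (t ^ (2 * m) * (f + (x : RatFunc k) ^ 2)) < 1 := by
      have e : t ^ (2 * m) * (f + (x : RatFunc k) ^ 2) =
          (t ^ m * (x : RatFunc k) - (ws : RatFunc k)) ^ 2 - ((ws : RatFunc k) ^ 2 - g) := by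
        have htt : t ^ (2 * m) = t ^ m * t ^ m := by
          rw [← zpow_add₀ ht0]; congr 1; ring
        rw [hg, htt]
        linear_combination (t ^ m * (x : RatFunc k) * (ws : RatFunc k)) * h2R
      rw [e]
      refine lt_of_le_of_lt (Valuation.map_sub _ _ _) (max_lt ?_ hsg)
      rw [map_pow]
      exact pow_lt_one₀ zero_le' hxs two_ne_zero
    rw [val_unif_mul_lt_one_iff ht, zm0_lt_exp_iff] at hlt
    exact hlt

/-- the pole degree strictly decreases if some pole is even. -/
lemma reduce_measure (f : RatFunc k)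
    (hnot : ¬ ∀ P : Place k (RatFunc k), P.ord f < 0 → Odd (P.ord f)) :
    ∃ h : RatFunc k, (zdiv k (f + h ^ 2 + h)⁻¹).deg + 1 ≤ (zdiv k f⁻¹).deg := by
  classical
  have hK₀ : IsFunctionField k (RatFunc k) := isFunctionField_ratFunc
  push_neg at hnot
  obtain ⟨p, hneg, hev⟩ := hnot
  rw [Int.not_odd_iff_even] at hev
  obtain ⟨r, hr⟩ := hev
  have hord : p.ord f = -(2 * (-r)) := by rw [hr]; ring
  have hm : 1 ≤ -r := by omega
  obtain ⟨h, hh1, hh2⟩ := reduce_step f p (-r) hm hord
  refine ⟨h, ?_⟩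
  have hle : zdiv k (f + h ^ 2 + h)⁻¹ + Finsupp.single p 1 ≤ zdiv k f⁻¹ := by
    intro q
    rw [Finsupp.coe_add, Pi.add_apply, pdiv_apply hK₀, pdiv_apply hK₀]
    by_cases hq : q = p
    · subst hq
      rw [Finsupp.single_eq_same]
      have h1 : max (-q.ord (f + h ^ 2 + h)) 0 ≤ 2 * (-r) - 1 :=
        (pole_le_iff q _ (by omega)).mpr hh2
      have h2 : max (-q.ord f) 0 = 2 * (-r) := by
        rw [hord, neg_neg]; exact max_eq_left (by omega)
      omega
    · rw [Finsupp.single_eq_of_ne hq, add_zero]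
      apply (pole_le_iff q _ (le_max_right _ _)).mpr
      have hq1 := hh1 q hq
      have e : f + h ^ 2 + h = f + (h ^ 2 + h) := by ring
      rw [e]
      refine (q.1.map_add _ _).trans (max_le (val_le_exp_pole q f) ?_)
      have h1 : q.1 (h ^ 2 + h) ≤ 1 := by
        refine (q.1.map_add _ _).trans (max_le ?_ hq1)
        rw [map_pow]; exact pow_le_one₀ zero_le' hq1
      refine h1.trans ?_
      rw [← exp_zero, exp_le_exp]
      exact le_max_right _ _
  have hdeg := deg_mono hle
  rw [deg_add, deg_single] at hdeg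
  have hp := deg_pos hK₀ p
  have : (1 : ℤ) ≤ (p.deg : ℤ) := by exact_mod_cast hp
  linarith

theorem exists_odd_poles : ∀ (n : ℕ) (f : RatFunc k), (zdiv k f⁻¹).deg ≤ n →
    ∃ h : RatFunc k, ∀ P : Place k (RatFunc k),
      P.ord (f + h ^ 2 + h) < 0 → Odd (P.ord (f + h ^ 2 + h)) := by
  have h2R : (2 : RatFunc k) = 0 := two_eq_zero_ratFunc
  intro n
  induction n with
  | zero =>
    intro f hf
    by_cases hall : ∀ P : Place k (RatFunc k), P.ord f < 0 → Odd (P.ord f)
    · refine ⟨0, ?_⟩
      simpa using hall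
    · obtain ⟨h, hh⟩ := reduce_measure f hall
      have := deg_nonneg _ (zdiv_nonneg (k := k) (f + h ^ 2 + h)⁻¹)
      push_cast at hf
      omega
  | succ n ih =>
    intro f hf
    by_cases hall : ∀ P : Place k (RatFunc k), P.ord f < 0 → Odd (P.ord f)
    · refine ⟨0, ?_⟩
      simpa using hall
    · obtain ⟨h₁, hh⟩ := reduce_measure f hall
      push_cast at hf
      obtain ⟨h₂, hh₂⟩ := ih (f + h₁ ^ 2 + h₁) (by omega)
      refine ⟨h₁ + h₂, ?_⟩
      have e : f + (h₁ + h₂) ^ 2 + (h₁ + h₂) = f + h₁ ^ 2 + h₁ + h₂ ^ 2 + h₂ := by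
        linear_combination (h₁ * h₂) * h2R
      rw [e]
      exact hh₂

omit [PerfectField k] [CharP k 2] in
/-- replacing `y` by `y + h` in an Artin–Schreier extension. -/
lemma shift_generator {K : Type v} [Field K] [Algebra (RatFunc k) K] (h2K : (2 : K) = 0)
    {y₀ : K} {f₀ : RatFunc k}
    (heq : y₀ ^ 2 + y₀ = algebraMap (RatFunc k) K f₀)
    (hadj : IntermediateField.adjoin (RatFunc k) ({y₀} : Set K) = ⊤) (h : RatFunc k) :
    (y₀ + algebraMap (RatFunc k) K h) ^ 2 + (y₀ + algebraMap (RatFunc k) K h) =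
        algebraMap (RatFunc k) K (f₀ + h ^ 2 + h) ∧
      IntermediateField.adjoin (RatFunc k) ({y₀ + algebraMap (RatFunc k) K h} : Set K) = ⊤ := by
  constructor
  · rw [map_add, map_add, map_pow, ← heq]
    linear_combination (y₀ * algebraMap (RatFunc k) K h) * h2K
  · rw [eq_top_iff, ← hadj, IntermediateField.adjoin_simple_le_iff]
    have h1 : y₀ + algebraMap (RatFunc k) K h ∈
        IntermediateField.adjoin (RatFunc k) ({y₀ + algebraMap (RatFunc k) K h} : Set K) :=
      IntermediateField.mem_adjoin_simple_self (RatFunc k) _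
    have h2 : algebraMap (RatFunc k) K h ∈
        IntermediateField.adjoin (RatFunc k) ({y₀ + algebraMap (RatFunc k) K h} : Set K) :=
      IntermediateField.algebraMap_mem _ h
    have h3 := sub_mem h1 h2
    rwa [add_sub_cancel_right] at h3

end NormalForm

end Groth.Agent.Lib.LeadAS
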