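import Groth.Agent.Lib.LeadMS3

/-! Variants with `finrank Ω = 1` as hypothesis; rational function field. -/

namespace Groth.Agent.Lib.LeadMS

open FunFld WithZero LaurentSeries

universe u v
variable {k : Type u} {K : Type v} [Field k] [Field K] [Algebra k K]
  {F : Type*} [Field F] [Algebra k F]

theorem exists_ratio' (hΩ : Module.finrank K (Ω[K⁄k]) = 1) (φ : K →ₐ[k] F⸨X⸩)
    {x x' : K} (hx : LocRes.D F (φ x) ≠ 0) (hx' : LocRes.D F (φ x') ≠ 0) :
    ∃ c : K, c ≠ 0 ∧ KaehlerDifferential.D k K x' = c • KaehlerDifferential.D k K x := by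
  have hDx : KaehlerDifferential.D k K x ≠ 0 := by
    intro h0
    apply hx
    have := D_expand φ (x := x) (x' := x) (c := 0) (by rw [h0, smul_zero])
    rw [this, map_zero, zero_mul]
  obtain ⟨c, hc⟩ := (finrank_eq_one_iff_of_nonzero' _ hDx).mp hΩ
    (KaehlerDifferential.D k K x')
  refine ⟨c, ?_, hc.symm⟩
  rintro rfl
  apply hx'
  rw [D_expand φ hc.symm, map_zero, zero_mul]

variable {K' : Type*} [Field K'] [Algebra K K'] [Algebra k K'] [IsScalarTower k K K']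
  {F' : Type*} [Field F'] [Algebra k F']

theorem diffExp_eq' (hΩ : Module.finrank K (Ω[K⁄k]) = 1)
    (P : Place k K) (Q : Place k K') (e : ℕ) (he : IsOverWith Q P e)
    (φ : K →ₐ[k] F⸨X⸩) (hφ : LocRes.IsExpansionAt P.1 φ)
    (ψ : K' →ₐ[k] F'⸨X⸩) (hψ : LocRes.IsExpansionAt Q.1 ψ)
    (x x' : K) (hx : LocRes.vDiff φ 1 x ≠ 0) (hx' : LocRes.vDiff ψ 1 (algebraMap K K' x) ≠ 0)
    (hx2 : LocRes.vDiff φ 1 x' ≠ 0) :
    LocRes.diffExp φ ψ e x = LocRes.diffExp φ ψ e x' := by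
  rw [vDiff_one] at hx hx' hx2
  have hx0 : LocRes.D F (φ x) ≠ 0 := fun h => hx (by rw [h, map_zero])
  have hx20 : LocRes.D F (φ x') ≠ 0 := fun h => hx2 (by rw [h, map_zero])
  obtain ⟨c, hc0, hc⟩ := exists_ratio' hΩ φ hx0 hx20
  have h1 := D_expand φ hc
  have h2 := D_expand' ψ hc
  have hPc : P.1 c ≠ 0 := (Valuation.ne_zero_iff _).mpr hc0
  have v1 : Valued.v (LocRes.D F (φ x')) = P.1 c * Valued.v (LocRes.D F (φ x)) := by
    rw [h1, map_mul, hφ.1]
  have v2 : Valued.v (LocRes.D F' (ψ (algebraMap K K' x'))) =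
      (P.1 c) ^ e * Valued.v (LocRes.D F' (ψ (algebraMap K K' x))) := by
    rw [h2, map_mul, hψ.1, he]
  unfold LocRes.diffExp LocRes.ordDiff
  rw [vDiff_one, vDiff_one, vDiff_one, vDiff_one, v1, v2, log_mul hPc hx,
    log_mul (pow_ne_zero _ hPc) hx', log_pow]
  simp only [nsmul_eq_mul]
  ring

theorem finrank_kaehler_ratFunc (k : Type u) [Field k] :
    Module.finrank (RatFunc k) (Ω[RatFunc k⁄k]) = 1 := by
  haveI : Algebra.IsSeparable (IntermediateField.adjoin k {(RatFunc.X : RatFunc k)}) (RatFunc k) := by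
    rw [RatFunc.adjoin_X]
    exact ⟨fun y => isSeparable_algebraMap
      (⟨y, IntermediateField.mem_top⟩ : (⊤ : IntermediateField k (RatFunc k)))⟩
  obtain ⟨h1, h2⟩ := kaehler_of_separating (k := k) (K := RatFunc k) (x := RatFunc.X)
    RatFunc.transcendental_X
  exact (finrank_eq_one_iff_of_nonzero' _ h1).mpr h2

end Groth.Agent.Lib.LeadMS
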