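import Groth.Agent.Lib.LeadAS17
import Groth.Agent.Lib.LeadMS4

/-! Places of `k(x)`: the infinite place, irreducible polynomials at finite places, polynomials as
the functions integral at all finite places; chain rule through expansions (for S12587). -/

namespace Groth.Agent.Lib.LeadAS

open FunFld WithZero Polynomial Groth.Agent.Lib.LeadFF

universe u v w

section RatPlaces

variable {k : Type u} [Field k]

/-- the infinite place of `k(x)`, unique. -/
lemma exists_Pinf : ∃ Pinf : Place k (RatFunc k), Pinf.deg = 1 ∧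
    Pinf.ord (RatFunc.X : RatFunc k) < 0 ∧
    ∀ p : Place k (RatFunc k), 1 < p.1 (RatFunc.X : RatFunc k) → p = Pinf := by
  classical
  have hK₀ : IsFunctionField k (RatFunc k) := isFunctionField_ratFunc
  obtain ⟨-, P, hP, hpole⟩ := exists_pole_of_rational hK₀ (RatFunc.adjoin_X (K := k))
  have hX0 : (RatFunc.X : RatFunc k) ≠ 0 := RatFunc.X_ne_zero
  have key : ∀ p : Place k (RatFunc k), max (-(p.ord (RatFunc.X : RatFunc k))) 0 =
      (Finsupp.single P (1 : ℤ)) p := by
    intro p
    rw [← pdiv_apply hK₀, hpole]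
  refine ⟨P, hP, ?_, ?_⟩
  · have := key P
    rw [Finsupp.single_eq_same] at this
    by_contra hnn
    rw [not_lt] at hnn
    rw [max_eq_right (by omega)] at this
    omega
  · intro p hp
    by_contra hne
    have := key p
    rw [Finsupp.single_eq_of_ne hne] at this
    have hneg : p.ord (RatFunc.X : RatFunc k) < 0 := (ord_neg_iff p hX0).mpr hp
    have h1 : -(p.ord (RatFunc.X : RatFunc k)) ≤ 0 := by
      rw [← this]; exact le_max_left _ _
    omega

lemma val_poly_le_one_of_finite (p : Place k (RatFunc k))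
    (hX : p.1 (RatFunc.X : RatFunc k) ≤ 1) (a : k[X]) :
    p.1 (algebraMap k[X] (RatFunc k) a) ≤ 1 := by
  rw [← RatFunc.aeval_X_left_eq_algebraMap]
  exact val_aeval_le_one (place_trivOn p) hX a

/-- a finite place is the place of an irreducible polynomial. -/
lemma exists_irreducible_of_finite (p : Place k (RatFunc k))
    (hX : p.1 (RatFunc.X : RatFunc k) ≤ 1) :
    ∃ π : k[X], Irreducible π ∧ p.1 (algebraMap k[X] (RatFunc k) π) < 1 := by
  by_contra hno
  push_neg at hno
  have hall : ∀ a : k[X], a ≠ 0 → p.1 (algebraMap k[X] (RatFunc k) a) = 1 := by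
    intro a
    induction a using UniqueFactorizationMonoid.induction_on_prime with
    | h₁ => intro h; exact absurd rfl h
    | h₂ x hx =>
      intro _
      obtain ⟨c, hc, rfl⟩ := Polynomial.isUnit_iff.mp hx
      rw [RatFunc.algebraMap_C]
      exact val_C_ne_zero p hc.ne_zero
    | h₃ a π ha hπ ih =>
      intro _
      rw [map_mul, map_mul, ih ha, mul_one]
      exact le_antisymm (val_poly_le_one_of_finite p hX π) (hno π hπ.irreducible)
  obtain ⟨t, ht⟩ := exists_unif p
  have ht0 := unif_ne_zero ht
  have h1 := hall t.num (RatFunc.num_ne_zero ht0)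
  have h2 := hall t.denom (RatFunc.denom_ne_zero t)
  rw [← RatFunc.num_div_denom t, map_div₀, h1, h2, div_one] at ht
  rw [← exp_zero, exp_inj] at ht
  omega

/-- a rational function integral at all finite places is a polynomial. -/
lemma exists_poly_of_integral (w : RatFunc k)
    (h : ∀ p : Place k (RatFunc k), p.1 (RatFunc.X : RatFunc k) ≤ 1 → p.1 w ≤ 1) :
    ∃ a : k[X], algebraMap k[X] (RatFunc k) a = w := by
  have hK₀ : IsFunctionField k (RatFunc k) := isFunctionField_ratFunc
  have hden0 : w.denom ≠ 0 := RatFunc.denom_ne_zero w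
  by_cases hu : IsUnit w.denom
  · obtain ⟨c, hc, hcd⟩ := Polynomial.isUnit_iff.mp hu
    refine ⟨w.num * C c⁻¹, ?_⟩
    conv_rhs => rw [← RatFunc.num_div_denom w, ← hcd]
    rw [map_mul, RatFunc.algebraMap_C, RatFunc.algebraMap_C, map_inv₀, div_eq_mul_inv]
  · exfalso
    obtain ⟨π, hπ, hdvd⟩ := WfDvdMonoid.exists_irreducible_factor hu hden0
    have hπk : algebraMap k[X] (RatFunc k) π ∉ Set.range (algebraMap k (RatFunc k)) := by
      rintro ⟨c, hc⟩
      rw [IsScalarTower.algebraMap_apply k k[X] (RatFunc k)] at hc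
      have := IsFractionRing.injective k[X] (RatFunc k) hc
      rw [← this] at hπ
      rcases eq_or_ne c 0 with rfl | hc0
      · rw [map_zero] at hπ; exact hπ.ne_zero rfl
      · exact hπ.not_isUnit ((Polynomial.isUnit_iff).mpr ⟨c, isUnit_iff_ne_zero.mpr hc0, rfl⟩)
    obtain ⟨⟨p, hp⟩, -⟩ := exists_zero_and_pole hK₀ _ hπk
    have hπ0 : algebraMap k[X] (RatFunc k) π ≠ 0 := by
      rw [Ne, map_eq_zero_iff _ (IsFractionRing.injective k[X] (RatFunc k))]; exact hπ.ne_zero
    have hlt : p.1 (algebraMap k[X] (RatFunc k) π) < 1 := (ord_pos_iff p hπ0).mp hp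
    have hX := val_X_le_one p hπ hlt
    have hnum : ¬ π ∣ w.num := by
      intro hn
      have hcop : IsCoprime w.num w.denom := RatFunc.isCoprime_num_denom w
      exact hπ.not_isUnit (hcop.isUnit_of_dvd' hn hdvd)
    have h1 := val_poly_eq_one_of_not_dvd p hπ hlt hnum
    obtain ⟨c, hc⟩ := hdvd
    have h2 : p.1 (algebraMap k[X] (RatFunc k) w.denom) < 1 := by
      rw [hc, map_mul, map_mul]
      calc p.1 (algebraMap k[X] (RatFunc k) π) * p.1 (algebraMap k[X] (RatFunc k) c)
          ≤ p.1 (algebraMap k[X] (RatFunc k) π) * 1 :=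
            mul_le_mul' le_rfl (val_poly_le_one_of_finite p hX c)
        _ < 1 := by rwa [mul_one]
    have h3 := h p hX
    rw [← RatFunc.num_div_denom w, map_div₀, h1] at h3
    have hd0 : p.1 (algebraMap k[X] (RatFunc k) w.denom) ≠ 0 := by
      rw [Ne, map_eq_zero, map_eq_zero_iff _ (IsFractionRing.injective k[X] (RatFunc k))]
      exact hden0
    rw [div_le_iff₀ (zero_lt_iff.mpr hd0), one_mul] at h3
    exact absurd h2 (not_lt.mpr h3)

/-- degree of a polynomial from its orders at the finite places. -/
lemma deg_eq_natDegree_add (Pinf : Place k (RatFunc k)) (hPdeg : Pinf.deg = 1)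
    (hinf : Pinf.ord (RatFunc.X : RatFunc k) < 0)
    (huniq : ∀ p : Place k (RatFunc k), 1 < p.1 (RatFunc.X : RatFunc k) → p = Pinf)
    (q : k[X]) (hq0 : q ≠ 0) (D : Divisor k (RatFunc k))
    (hq : ∀ p : Place k (RatFunc k), p.1 (RatFunc.X : RatFunc k) ≤ 1 →
      p.ord (algebraMap k[X] (RatFunc k) q) = D p) :
    D.deg = (q.natDegree : ℤ) + D Pinf := by
  classical
  have hK₀ : IsFunctionField k (RatFunc k) := isFunctionField_ratFunc
  have hD : D = FunFld.div k (algebraMap k[X] (RatFunc k) q) +
      Finsupp.single Pinf ((q.natDegree : ℤ) + D Pinf) := by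
    ext p
    rw [Finsupp.coe_add, Pi.add_apply, div_apply hK₀]
    by_cases hp : p = Pinf
    · subst hp
      rw [Finsupp.single_eq_same, ord_poly_inf p hinf hq0]; ring
    · rw [Finsupp.single_eq_of_ne hp, add_zero]
      have hX : p.1 (RatFunc.X : RatFunc k) ≤ 1 := by
        by_contra h
        rw [not_le] at h
        exact hp (huniq p h)
      exact (hq p hX).symm
  conv_lhs => rw [hD]
  rw [deg_add, deg_div hK₀, deg_single, hPdeg]
  push_cast; ring

end RatPlaces

section Chain

variable {k : Type u} {K : Type v} [Field k] [Field K] [Algebra k K]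
  {F : Type w} [Field F] [Algebra k F]

open LaurentSeries

/-- chain rule for polynomials over the constants through an expansion. -/
theorem D_aeval_k (ψ : K →ₐ[k] F⸨X⸩) (s : K) (h : k[X]) :
    LocRes.D F (ψ (aeval s h)) = ψ (aeval s (derivative h)) * LocRes.D F (ψ s) := by
  induction h using Polynomial.induction_on' with
  | add p q hp hq =>
    rw [map_add, map_add, map_add, derivative_add, map_add, map_add, hp, hq]
    ring
  | monomial n c =>
    have e1 : ψ (algebraMap k K c * s ^ n) = ψ (algebraMap k K c) * ψ s ^ n := by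
      rw [map_mul, map_pow]
    have e2 : ψ (algebraMap k K (c * (n : k)) * s ^ (n - 1)) =
        ψ (algebraMap k K c) * ((n : F⸨X⸩) * ψ s ^ (n - 1)) := by
      rw [map_mul, map_pow, map_mul, map_mul, map_natCast, map_natCast]; ring
    have h0 : LocRes.D F (ψ (algebraMap k K c)) = 0 := by
      rw [LocRes.map_algebraMap, LocRes.D_apply, LocRes.derivative_C]
    rw [derivative_monomial, aeval_monomial, aeval_monomial, e1, e2, Derivation.leibniz,
      Derivation.leibniz_pow, h0, smul_zero, add_zero]
    simp only [smul_eq_mul, nsmul_eq_mul]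
    ring

end Chain

end Groth.Agent.Lib.LeadAS
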