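import Groth.Agent.Lib.LeadAS18

/-! Order of `dx` at the places of an Artin–Schreier extension `y² + y = f` of `k(x)`, `k` perfect of
characteristic 2, read through Laurent expansions (for S12587). -/

namespace Groth.Agent.Lib.LeadAS

open FunFld WithZero Polynomial Groth.Agent.Lib.LeadFF Groth.Agent.Lib.LeadMS

universe u v w

section Local

variable {k : Type u} {K : Type v} [Field k] [CharP k 2] [Field K] [Algebra k K]
  [Algebra (RatFunc k) K] [IsScalarTower k (RatFunc k) K]
  {F : Type w} [Field F] [Algebra k F]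

open LaurentSeries

omit [CharP k 2] in
lemma ap_eq_aeval (h : k[X]) :
    algebraMap (RatFunc k) K (algebraMap k[X] (RatFunc k) h) =
      aeval (algebraMap (RatFunc k) K RatFunc.X) h := by
  rw [← RatFunc.aeval_X_left_eq_algebraMap, aeval_algebraMap_apply]

omit [CharP k 2] in
lemma D_ap (ψ : K →ₐ[k] F⸨X⸩) (h : k[X]) :
    LocRes.D F (ψ (algebraMap (RatFunc k) K (algebraMap k[X] (RatFunc k) h))) =
      ψ (algebraMap (RatFunc k) K (algebraMap k[X] (RatFunc k) (derivative h))) *
        LocRes.D F (ψ (algebraMap (RatFunc k) K RatFunc.X)) := by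
  rw [ap_eq_aeval, ap_eq_aeval, D_aeval_k]

variable (k) in
include k in
lemma two_eq_zero_F : (2 : F) = 0 := by
  have h2k : (2 : k) = 0 := CharTwo.two_eq_zero
  have : (2 : F) = algebraMap k F 2 := by rw [map_ofNat]
  rw [this, h2k, map_zero]

variable (k) in
include k in
lemma odd_cast_ne_zero {n : ℤ} (hn : Odd n) : ((n : ℤ) : F) ≠ 0 := by
  obtain ⟨m, rfl⟩ := hn
  have h2F : (2 : F) = 0 := two_eq_zero_F k
  push_cast
  rw [h2F, zero_mul, zero_add]
  exact one_ne_zero

omit [CharP k 2] in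
lemma val_poly_inf (p : Place k (RatFunc k)) (hp : 1 < p.1 (RatFunc.X : RatFunc k)) {a : k[X]}
    (ha : a ≠ 0) : p.1 (algebraMap k[X] (RatFunc k) a) = exp (a.natDegree : ℤ) := by
  have h1 := val_poly_of_pole (place_trivOn p) hp ha
  rw [RatFunc.aeval_X_left_eq_algebraMap] at h1
  rw [h1, val_X_infty p hp, zm0_exp_pow, mul_one]

variable {P : Place k K} {ψ : K →ₐ[k] F⸨X⸩} (hψ : LocRes.IsExpansionAt P.1 ψ)
  {p : Place k (RatFunc k)}

include hψ in
omit [CharP k 2] in
/-- `dx` has order `0` at an unramified place over a finite place. -/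
lemma val_dx_finite_unram [PerfectField k] (he : IsOverWith P p 1)
    (hX : p.1 (RatFunc.X : RatFunc k) ≤ 1) :
    Valued.v (LocRes.D F (ψ (algebraMap (RatFunc k) K RatFunc.X))) = 1 := by
  obtain ⟨π, hπ, hlt⟩ := exists_irreducible_of_finite p hX
  have hπ1 := val_irreducible p hπ hlt
  have hsep : π.Separable := PerfectField.separable_of_irreducible hπ
  have hnd : ¬ π ∣ derivative π := by
    intro hd
    exact hπ.not_isUnit (hsep.isUnit_of_dvd' (dvd_refl π) hd)
  have hπ' := val_poly_eq_one_of_not_dvd p hπ hlt hnd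
  have h1 : Valued.v (ψ (algebraMap (RatFunc k) K (algebraMap k[X] (RatFunc k) π))) =
      exp (-(1 : ℤ)) := by
    rw [hψ.1, he, pow_one, hπ1]
  have h2 := val_D_of_ne h1 (by simp)
  rw [D_ap, map_mul, hψ.1, he, pow_one, hπ', one_mul, sub_self, neg_zero, exp_zero] at h2
  exact h2

include hψ in
omit [CharP k 2] in
/-- `dx` has order `-2` at an unramified place over the infinite place. -/
lemma val_dx_inf_unram (he : IsOverWith P p 1)
    (hp : 1 < p.1 (RatFunc.X : RatFunc k)) :
    Valued.v (LocRes.D F (ψ (algebraMap (RatFunc k) K RatFunc.X))) = exp (2 : ℤ) := by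
  have hX0 : (RatFunc.X : RatFunc k) ≠ 0 := RatFunc.X_ne_zero
  have hpX := val_X_infty p hp
  have h1 : Valued.v (ψ (algebraMap (RatFunc k) K (RatFunc.X : RatFunc k)⁻¹)) =
      exp (-(1 : ℤ)) := by
    rw [hψ.1, he, pow_one, map_inv₀, hpX, exp_neg]
  have h2 := val_D_of_ne h1 (by simp)
  rw [sub_self, neg_zero, exp_zero] at h2
  have hmul : ψ (algebraMap (RatFunc k) K RatFunc.X) *
      ψ (algebraMap (RatFunc k) K (RatFunc.X : RatFunc k)⁻¹) = 1 := by
    rw [← map_mul, ← map_mul, mul_inv_cancel₀ hX0, map_one, map_one]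
  have hD := congrArg (LocRes.D F) hmul
  rw [Derivation.leibniz, Derivation.map_one_eq_zero, smul_eq_mul, smul_eq_mul] at hD
  have hD' : ψ (algebraMap (RatFunc k) K (RatFunc.X : RatFunc k)⁻¹) *
      LocRes.D F (ψ (algebraMap (RatFunc k) K RatFunc.X)) =
      -(ψ (algebraMap (RatFunc k) K RatFunc.X) *
        LocRes.D F (ψ (algebraMap (RatFunc k) K (RatFunc.X : RatFunc k)⁻¹))) := by
    linear_combination hD
  have hv := congrArg (Valued.v (R := F⸨X⸩)) hD'
  rw [map_mul, Valuation.map_neg, map_mul, h1, h2, hψ.1, he, pow_one, hpX] at hv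
  rw [mul_one] at hv
  calc Valued.v (LocRes.D F (ψ (algebraMap (RatFunc k) K RatFunc.X)))
      = exp (1 : ℤ) * (exp (-(1 : ℤ)) *
          Valued.v (LocRes.D F (ψ (algebraMap (RatFunc k) K RatFunc.X)))) := by
        rw [← mul_assoc, ← exp_add]; simp
    _ = exp (1 : ℤ) * exp (1 : ℤ) := by rw [hv]
    _ = exp (2 : ℤ) := by rw [← exp_add]; rfl

include hψ in
/-- the differential of `y` in terms of `dx`, with `f = A/q²`. -/
lemma dx_pole_formula {y : K} {f : RatFunc k}
    (heq : y ^ 2 + y = algebraMap (RatFunc k) K f) {A q : k[X]}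
    (hA : algebraMap k[X] (RatFunc k) A = f * (algebraMap k[X] (RatFunc k) q) ^ 2) :
    LocRes.D F (ψ y) * ψ (algebraMap (RatFunc k) K (algebraMap k[X] (RatFunc k) q)) ^ 2 =
      ψ (algebraMap (RatFunc k) K (algebraMap k[X] (RatFunc k) (derivative A))) *
        LocRes.D F (ψ (algebraMap (RatFunc k) K RatFunc.X)) := by
  have h2 : (2 : F⸨X⸩) = 0 := by
    have h2K : (2 : K) = 0 := two_eq_zero_K k
    have : (2 : F⸨X⸩) = ψ 2 := (map_ofNat ψ 2).symm
    rw [this, h2K, map_zero]
  have hAK : ψ (algebraMap (RatFunc k) K (algebraMap k[X] (RatFunc k) A)) =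
      (ψ y ^ 2 + ψ y) * ψ (algebraMap (RatFunc k) K (algebraMap k[X] (RatFunc k) q)) ^ 2 := by
    rw [hA, map_mul, map_pow, ← heq]
    simp only [map_mul, map_pow, map_add]
  have hDA := D_ap ψ A
  have hDY : LocRes.D F (ψ y ^ 2 + ψ y) = LocRes.D F (ψ y) := by
    rw [map_add, Derivation.leibniz_pow, nsmul_eq_mul, Nat.cast_ofNat, h2, zero_mul, zero_add]
  have hDQ : LocRes.D F (ψ (algebraMap (RatFunc k) K (algebraMap k[X] (RatFunc k) q)) ^ 2) = 0 := by
    rw [Derivation.leibniz_pow, nsmul_eq_mul, Nat.cast_ofNat, h2, zero_mul]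
  rw [← hDA, hAK, Derivation.leibniz, hDQ, hDY, smul_zero, zero_add, smul_eq_mul]
  ring

include hψ in
/-- the differential of `y` at a pole of odd order. -/
lemma val_dy_pole {y : K} {n : ℤ} (hn : Odd n) (hPy : P.1 y = exp n) :
    Valued.v (LocRes.D F (ψ y)) = exp (n + 1) := by
  have h1 : Valued.v (ψ y) = exp (-(-n)) := by rw [hψ.1, hPy, neg_neg]
  have h2 := val_D_of_ne h1 (odd_cast_ne_zero k hn.neg)
  rw [h2]; congr 1; ring

include hψ in
/-- `dx` has order `2d` at the place over a finite pole of order `2d - 1`. -/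
lemma val_dx_finite_pole [PerfectField k] {y : K} {f : RatFunc k}
    (heq : y ^ 2 + y = algebraMap (RatFunc k) K f) {A q : k[X]}
    (hA : algebraMap k[X] (RatFunc k) A = f * (algebraMap k[X] (RatFunc k) q) ^ 2)
    (he : IsOverWith P p 2) (hX : p.1 (RatFunc.X : RatFunc k) ≤ 1) {d : ℤ} (hd : 1 ≤ d)
    (hf : p.1 f = exp (2 * d - 1)) (hq : p.1 (algebraMap k[X] (RatFunc k) q) = exp (-d)) :
    Valued.v (LocRes.D F (ψ (algebraMap (RatFunc k) K RatFunc.X))) = exp (-(2 * d)) := by
  obtain ⟨π, hπ, hlt⟩ := exists_irreducible_of_finite p hX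
  have hπ1 := val_irreducible p hπ hlt
  have hpA : p.1 (algebraMap k[X] (RatFunc k) A) = exp (-1 : ℤ) := by
    rw [hA, map_mul, map_pow, hf, hq, zm0_exp_pow, ← exp_add]; congr 1; push_cast; ring
  have hdvd : π ∣ A := by
    by_contra hnd
    have := val_poly_eq_one_of_not_dvd p hπ hlt hnd
    rw [hpA, ← exp_zero, exp_inj] at this
    omega
  obtain ⟨c, hc⟩ := hdvd
  have hpc : p.1 (algebraMap k[X] (RatFunc k) c) = 1 := by
    have := hpA
    rw [hc, map_mul, map_mul, hπ1] at this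
    have h0 : (exp (-1 : ℤ) : ZM0) ≠ 0 := exp_ne_zero
    exact mul_left_cancel₀ h0 (by rw [this, mul_one])
  have hsep : π.Separable := PerfectField.separable_of_irreducible hπ
  have hnd : ¬ π ∣ derivative π := by
    intro hd'
    exact hπ.not_isUnit (hsep.isUnit_of_dvd' (dvd_refl π) hd')
  have hπ' := val_poly_eq_one_of_not_dvd p hπ hlt hnd
  have hA' : p.1 (algebraMap k[X] (RatFunc k) (derivative A)) = 1 := by
    rw [hc, derivative_mul, map_add]
    have h1 : p.1 (algebraMap k[X] (RatFunc k) (derivative π * c)) = 1 := by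
      rw [map_mul, map_mul, hπ', hpc, one_mul]
    have h2 : p.1 (algebraMap k[X] (RatFunc k) (π * derivative c)) < 1 := by
      rw [map_mul, map_mul, hπ1]
      calc exp (-1 : ℤ) * p.1 (algebraMap k[X] (RatFunc k) (derivative c))
          ≤ exp (-1 : ℤ) * 1 := mul_le_mul' le_rfl (val_poly_le_one_of_finite p hX _)
        _ < 1 := by rw [mul_one, ← exp_zero, exp_lt_exp]; norm_num
    rw [Valuation.map_add_eq_of_lt_left _ (by rw [h1]; exact h2), h1]
  have hf1 : 1 < p.1 f := by rw [hf, ← exp_zero, exp_lt_exp]; omega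
  have hPy : P.1 y = exp (2 * d - 1) := by rw [val_y_eq_of_pole he heq hf1, hf]
  have hdy := val_dy_pole hψ ⟨d - 1, by ring⟩ hPy
  have hform := congrArg (Valued.v (R := F⸨X⸩)) (dx_pole_formula hψ heq hA)
  rw [map_mul, map_pow, map_mul, hdy, hψ.1, hψ.1, he, he, hq, hA', one_pow, one_mul,
    zm0_exp_pow, zm0_exp_pow, ← exp_add] at hform
  rw [← hform]; congr 1; push_cast; ring

include hψ in
/-- `dx` has order `2d - 4` at the place over the infinite place, a pole of order `2d - 1`. -/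
lemma val_dx_inf_pole {y : K} {f : RatFunc k}
    (heq : y ^ 2 + y = algebraMap (RatFunc k) K f) {A q : k[X]}
    (hA : algebraMap k[X] (RatFunc k) A = f * (algebraMap k[X] (RatFunc k) q) ^ 2)
    (hq0 : q ≠ 0)
    (he : IsOverWith P p 2) (hp : 1 < p.1 (RatFunc.X : RatFunc k)) {d : ℤ} (hd : 1 ≤ d)
    (hf : p.1 f = exp (2 * d - 1)) :
    Valued.v (LocRes.D F (ψ (algebraMap (RatFunc k) K RatFunc.X))) = exp (4 - 2 * d) := by
  have hinj := IsFractionRing.injective k[X] (RatFunc k)
  have hf0 : f ≠ 0 := by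
    rintro rfl
    rw [map_zero] at hf
    exact exp_ne_zero hf.symm
  have hq0' : algebraMap k[X] (RatFunc k) q ≠ 0 := by
    rw [Ne, map_eq_zero_iff _ hinj]; exact hq0
  have hA0 : A ≠ 0 := by
    rintro rfl
    rw [map_zero] at hA
    exact mul_ne_zero hf0 (pow_ne_zero 2 hq0') hA.symm
  have hpq := val_poly_inf p hp hq0
  have hpA := val_poly_inf p hp hA0
  have hN : (A.natDegree : ℤ) = 2 * d - 1 + 2 * q.natDegree := by
    have := hpA
    rw [hA, map_mul, map_pow, hf, hpq, zm0_exp_pow, ← exp_add, exp_inj] at this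
    push_cast at this
    omega
  have hNodd : Odd (A.natDegree : ℤ) := ⟨d - 1 + q.natDegree, by rw [hN]; ring⟩
  have hNk : ((A.natDegree : ℤ) : k) ≠ 0 := odd_cast_ne_zero (F := k) k hNodd
  have hN1 : 1 ≤ A.natDegree := by
    rcases Nat.eq_zero_or_pos A.natDegree with h0 | h0
    · rw [h0] at hNodd; simp at hNodd
    · exact h0
  have hcoeff : (derivative A).coeff (A.natDegree - 1) ≠ 0 := by
    rw [coeff_derivative, Nat.sub_add_cancel hN1]
    apply mul_ne_zero (leadingCoeff_ne_zero.mpr hA0)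
    have : ((A.natDegree - 1 : ℕ) : k) + 1 = ((A.natDegree : ℤ) : k) := by
      rw [Int.cast_natCast]
      have : A.natDegree = (A.natDegree - 1) + 1 := (Nat.sub_add_cancel hN1).symm
      conv_rhs => rw [this]
      push_cast; ring
    rw [this]; exact hNk
  have hA'0 : derivative A ≠ 0 := fun h => hcoeff (by rw [h, coeff_zero])
  have hdeg' : (derivative A).natDegree = A.natDegree - 1 :=
    le_antisymm (natDegree_derivative_le A) (le_natDegree_of_ne_zero hcoeff)
  have hpA' := val_poly_inf p hp hA'0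
  rw [hdeg'] at hpA'
  have hf1 : 1 < p.1 f := by rw [hf, ← exp_zero, exp_lt_exp]; omega
  have hPy : P.1 y = exp (2 * d - 1) := by rw [val_y_eq_of_pole he heq hf1, hf]
  have hdy := val_dy_pole hψ ⟨d - 1, by ring⟩ hPy
  have hform := congrArg (Valued.v (R := F⸨X⸩)) (dx_pole_formula hψ heq hA)
  rw [map_mul, map_pow, map_mul, hdy, hψ.1, hψ.1, he, he, hpq, hpA',
    zm0_exp_pow, zm0_exp_pow, zm0_exp_pow, ← exp_add] at hform
  have hb : (exp ((2 : ℕ) * (((A.natDegree - 1 : ℕ) : ℤ))) : ZM0) ≠ 0 := exp_ne_zero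
  apply mul_left_cancel₀ hb
  rw [← hform, ← exp_add]
  congr 1
  have : ((A.natDegree - 1 : ℕ) : ℤ) = (A.natDegree : ℤ) - 1 := by
    rw [Nat.cast_sub hN1]; simp
  rw [this, hN]
  push_cast; ring

end Local

end Groth.Agent.Lib.LeadAS
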