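import Groth.Agent.Lib.LeadAS1

/-! Artin–Schreier curves `y² + y = f(x)` in characteristic 2 with odd poles at a finite set `B`:
local data at the three kinds of places (S19045). -/

namespace Groth.Agent.Lib.LeadAS

open FunFld WithZero Polynomial Groth.Agent.Lib.LeadFF

universe u v
variable {k : Type u} {K : Type v} [Field k] [PerfectField k] [CharP k 2] [Field K] [Algebra k K]
  [Algebra (RatFunc k) K] [IsScalarTower k (RatFunc k) K]
  (hdeg : Module.finrank (RatFunc k) K = 2) [Algebra.IsSeparable (RatFunc k) K]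
  {y : K} (hy : y ∉ Set.range (algebraMap (RatFunc k) K)) {f : RatFunc k}
  (heq : y ^ 2 + y = algebraMap (RatFunc k) K f)
  {B : Finset k} {d : k → ℕ} (hd : ∀ β ∈ B, Odd (d β))
  (hpole : ∀ (p : Place k (RatFunc k)) (β : k), β ∈ B →
    p.1 ((RatFunc.X : RatFunc k) - RatFunc.C β) < 1 → p.ord f = -(d β : ℤ))
  (hint : ∀ p : Place k (RatFunc k),
    (∀ β ∈ B, 1 ≤ p.1 ((RatFunc.X : RatFunc k) - RatFunc.C β)) → p.1 f ≤ 1)

lemma ord_nonneg_of_val_le_one {L : Type*} [Field L] [Algebra k L] (P : Place k L) {z : L}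
    (h : P.1 z ≤ 1) : 0 ≤ P.ord z := by
  by_cases hz : z = 0
  · subst hz; unfold Place.ord; simp
  · rw [LeadFG.val_eq_exp_neg_ord P hz, ← exp_zero, exp_le_exp] at h
    omega

include hdeg hy heq hd hpole in
/-- at a place above `α ∈ B`. -/
theorem local_at_pole {α : k} (hα : α ∈ B) (P : Place k K)
    (h : P.1 (algebraMap (RatFunc k) K RatFunc.X - algebraMap k K α) < 1) :
    P.1 y = exp (d α : ℤ) ∧
    P.1 (algebraMap (RatFunc k) K RatFunc.X - algebraMap k K α) = exp (-2 : ℤ) ∧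
    ∀ β : k, β ≠ α → P.1 (algebraMap (RatFunc k) K RatFunc.X - algebraMap k K β) = 1 := by
  haveI : FiniteDimensional (RatFunc k) K :=
    Module.finite_of_finrank_pos (by rw [hdeg]; norm_num)
  obtain ⟨p, e, he0, he⟩ := exists_below (isFunctionField_ratFunc (k := k)) P
  rw [xsub_eq, he] at h
  have hp : p.1 (RatFunc.X - RatFunc.C α) < 1 := by
    by_contra hge
    rw [not_lt] at hge
    exact absurd h (not_lt.mpr (one_le_pow₀ hge))
  have hord := hpole p α hα hp
  have hdα := hd α hα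
  have hd1 : 1 ≤ d α := hdα.pos
  have hf0 : f ≠ 0 := by
    rintro rfl
    unfold Place.ord at hord
    simp at hord
    omega
  have h2 : ringChar k = 2 := ringChar.eq k 2
  have hodd : Odd (p.ord f) := by
    rw [hord]
    exact ((Int.odd_coe_nat _).mpr hdα).neg
  have hram := (artin_schreier_ramification h2 hdeg y hy f heq p).1 ⟨by rw [hord]; omega, hodd⟩
  have he2 : IsOverWith P p 2 := (hram.2 P ⟨e, he⟩).1
  have hpf : p.1 f = exp (d α : ℤ) := by
    rw [LeadFG.val_eq_exp_neg_ord p hf0, hord, neg_neg]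
  have hpf1 : 1 < p.1 f := by
    rw [hpf, ← exp_zero, exp_lt_exp]; omega
  refine ⟨?_, ?_, ?_⟩
  · rw [val_y_eq_of_pole he2 heq hpf1, hpf]
  · rw [xsub_eq, he2, val_X_sub_C p hp, ← exp_nsmul]; simp
  · intro β hβ
    rw [xsub_eq, he2, val_X_sub_C_other p hp hβ, one_pow]

include hdeg hy heq hint in
/-- at a place above `∞`. -/
theorem local_at_infty (P : Place k K) (h : 1 < P.1 (algebraMap (RatFunc k) K RatFunc.X)) :
    P.1 y ≤ 1 ∧
    ∀ β : k, P.1 (algebraMap (RatFunc k) K RatFunc.X - algebraMap k K β) = exp (1 : ℤ) := by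
  haveI : FiniteDimensional (RatFunc k) K :=
    Module.finite_of_finrank_pos (by rw [hdeg]; norm_num)
  obtain ⟨p, e, he0, he⟩ := exists_below (isFunctionField_ratFunc (k := k)) P
  rw [he] at h
  have hp : 1 < p.1 RatFunc.X := by
    by_contra hle
    rw [not_lt] at hle
    exact absurd h (not_lt.mpr (pow_le_one₀ zero_le' hle))
  have hordX : p.ord (RatFunc.X : RatFunc k) < 0 := by
    rw [LeadFG.val_eq_exp_neg_ord p RatFunc.X_ne_zero, ← exp_zero, exp_lt_exp] at hp
    omega
  have hX : p.1 (RatFunc.X : RatFunc k) = exp (1 : ℤ) := by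
    rw [LeadFG.val_eq_exp_neg_ord p RatFunc.X_ne_zero, ord_X_inf p hordX]; simp
  have hf : p.1 f ≤ 1 := by
    apply hint p
    intro β _
    rw [val_X_sub_C_infty p hp]
    exact hp.le
  have h2 : ringChar k = 2 := ringChar.eq k 2
  have he1 : IsOverWith P p 1 :=
    (artin_schreier_ramification h2 hdeg y hy f heq p).2 (ord_nonneg_of_val_le_one p hf) P ⟨e, he⟩
  refine ⟨val_y_le_one he heq hf, fun β => ?_⟩
  rw [xsub_eq, he1, pow_one, val_X_sub_C_infty p hp, hX]

include hdeg heq hint in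
/-- at the other places. -/
theorem local_elsewhere (P : Place k K) (h : P.1 (algebraMap (RatFunc k) K RatFunc.X) ≤ 1)
    (hB : ∀ β ∈ B, 1 ≤ P.1 (algebraMap (RatFunc k) K RatFunc.X - algebraMap k K β)) :
    P.1 y ≤ 1 ∧
    ∀ β ∈ B, P.1 (algebraMap (RatFunc k) K RatFunc.X - algebraMap k K β) = 1 := by
  haveI : FiniteDimensional (RatFunc k) K :=
    Module.finite_of_finrank_pos (by rw [hdeg]; norm_num)
  obtain ⟨p, e, he0, he⟩ := exists_below (isFunctionField_ratFunc (k := k)) P
  have hf : p.1 f ≤ 1 := by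
    apply hint p
    intro β hβ
    have := hB β hβ
    rw [xsub_eq, he] at this
    by_contra hlt
    rw [not_le] at hlt
    exact absurd this (not_le.mpr (pow_lt_one₀ zero_le' hlt he0.ne'))
  refine ⟨val_y_le_one he heq hf, fun β hβ => le_antisymm ?_ (hB β hβ)⟩
  rw [sub_eq_add_neg]
  refine (P.1.map_add _ _).trans (max_le h ?_)
  rw [Valuation.map_neg]
  exact P.2.1 β

end Groth.Agent.Lib.LeadAS
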