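import Groth.Agent.Lib.LeadAS19

/-! Regular differentials of `y² + y = f` over perfect `k` of characteristic 2: `x^i dx / q`
(S12587). -/

namespace Groth.Agent.Lib.LeadAS

open FunFld WithZero Polynomial Groth.Agent.Lib.LeadFF Groth.Agent.Lib.LeadMS

universe u v w

section Aux

variable {k : Type u} {K : Type v} [Field k] [Field K] [Algebra k K]

lemma one_lt_val_iff (p : Place k K) (f : K) : 1 < p.1 f ↔ p.ord f < 0 := by
  by_cases hf : f = 0
  · subst hf
    have : p.ord (0 : K) = 0 := by unfold Place.ord; simp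
    rw [this, map_zero]
    simp
  · exact (ord_neg_iff p hf).symm

end Aux

section Reg

variable {k : Type u} {K : Type v} [Field k] [PerfectField k] [CharP k 2] [Field K] [Algebra k K]
  [Algebra (RatFunc k) K] [IsScalarTower k (RatFunc k) K]
  (hdeg : Module.finrank (RatFunc k) K = 2)
  {y : K} (hy : y ∉ Set.range (algebraMap (RatFunc k) K)) {f : RatFunc k}
  (heq : y ^ 2 + y = algebraMap (RatFunc k) K f)
  (hodd : ∀ P : Place k (RatFunc k), P.ord f < 0 → Odd (P.ord f))
  {q : k[X]} (hq0 : q ≠ 0)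
  (hq : ∀ p : Place k (RatFunc k), p.1 (RatFunc.X : RatFunc k) ≤ 1 →
    p.ord (algebraMap k[X] (RatFunc k) q) = D0 f p)

omit [PerfectField k] [CharP k 2] in
include hq0 hq in
lemma val_q_finite (p : Place k (RatFunc k)) (hX : p.1 (RatFunc.X : RatFunc k) ≤ 1) :
    p.1 (algebraMap k[X] (RatFunc k) q) = exp (-(D0 f p)) := by
  have hq0' : algebraMap k[X] (RatFunc k) q ≠ 0 := by
    rw [Ne, map_eq_zero_iff _ (IsFractionRing.injective k[X] (RatFunc k))]; exact hq0
  rw [val_eq_exp_neg_ord p hq0', hq p hX]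

omit [PerfectField k] [CharP k 2] in
include hodd in
lemma val_f_of_pole (p : Place k (RatFunc k)) (hneg : p.ord f < 0) :
    1 ≤ D0 f p ∧ p.1 f = exp (2 * D0 f p - 1) := by
  have hf0 : f ≠ 0 := by
    rintro rfl
    unfold Place.ord at hneg
    simp at hneg
  rw [D0_apply, if_pos hneg, val_eq_exp_neg_ord p hf0]
  obtain ⟨m, hm⟩ := hodd p hneg
  refine ⟨by omega, ?_⟩
  congr 1
  omega

omit [PerfectField k] [CharP k 2] in
include hodd hq0 hq in
/-- `f q²` is a polynomial. -/
lemma exists_A : ∃ A : k[X], algebraMap k[X] (RatFunc k) A =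
    f * (algebraMap k[X] (RatFunc k) q) ^ 2 := by
  apply exists_poly_of_integral
  intro p hX
  rw [map_mul, map_pow, val_q_finite hq0 hq p hX]
  by_cases hneg : p.ord f < 0
  · obtain ⟨-, hf⟩ := val_f_of_pole hodd p hneg
    rw [hf, zm0_exp_pow, ← exp_add, ← exp_zero, exp_le_exp]
    push_cast; omega
  · rw [D0_apply, if_neg hneg, neg_zero, exp_zero, one_pow, mul_one]
    by_cases hf0 : f = 0
    · rw [hf0, map_zero]; exact zero_le_one
    · rw [val_eq_exp_neg_ord p hf0, ← exp_zero, exp_le_exp]; omega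

variable {F : Place k K → Type w} [∀ P, Field (F P)] [∀ P, Algebra k (F P)]
  (φ : ∀ P, K →ₐ[k] LaurentSeries (F P)) (hφ : ∀ P, LocRes.IsExpansionAt P.1 (φ P))
  {Pinf : Place k (RatFunc k)}
  (huniq : ∀ p : Place k (RatFunc k), 1 < p.1 (RatFunc.X : RatFunc k) → p = Pinf)
  (hinf : Pinf.ord (RatFunc.X : RatFunc k) < 0)

include hdeg hy heq hodd hq0 hq hφ huniq hinf in
/-- the divisor of `dx`. -/
lemma val_dx (P : Place k K) :
    Valued.v (LocRes.D (F P) (φ P (algebraMap (RatFunc k) K RatFunc.X))) =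
      exp (-(conorm K (D0 f - Finsupp.single Pinf 2) P)) := by
  classical
  haveI : FiniteDimensional (RatFunc k) K :=
    Module.finite_of_finrank_pos (by rw [hdeg]; norm_num)
  have hK₀ : IsFunctionField k (RatFunc k) := isFunctionField_ratFunc
  obtain ⟨A, hA⟩ := exists_A hodd hq0 hq
  obtain ⟨p, e, -, he⟩ := exists_below hK₀ P
  rw [conorm_apply hK₀ _ he, Finsupp.coe_sub, Pi.sub_apply]
  have hinf1 : 1 < Pinf.1 (RatFunc.X : RatFunc k) := val_X_inf_gt Pinf hinf
  by_cases hneg : p.ord f < 0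
  · obtain ⟨rfl, -⟩ := (local_data hdeg hy heq hodd P p e he).1 hneg
    obtain ⟨hd, hf⟩ := val_f_of_pole hodd p hneg
    by_cases hX : p.1 (RatFunc.X : RatFunc k) ≤ 1
    · have hne : Pinf ≠ p := by
        rintro rfl
        exact absurd hinf1 (not_lt.mpr hX)
      rw [Finsupp.single_eq_of_ne' hne, sub_zero,
        val_dx_finite_pole (hφ P) heq hA he hX hd hf (val_q_finite hq0 hq p hX)]
      congr 1
    · rw [not_le] at hX
      obtain rfl := huniq p hX
      rw [Finsupp.single_eq_same, val_dx_inf_pole (hφ P) heq hA hq0 he hX hd hf]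
      congr 1
      push_cast; ring
  · rw [not_lt] at hneg
    obtain ⟨rfl, -⟩ := (local_data hdeg hy heq hodd P p e he).2 hneg
    have hD0 : D0 f p = 0 := by rw [D0_apply, if_neg (not_lt.mpr hneg)]
    rw [hD0]
    by_cases hX : p.1 (RatFunc.X : RatFunc k) ≤ 1
    · have hne : Pinf ≠ p := by
        rintro rfl
        exact absurd hinf1 (not_lt.mpr hX)
      rw [Finsupp.single_eq_of_ne' hne, val_dx_finite_unram (hφ P) he hX]
      simp
    · rw [not_le] at hX
      obtain rfl := huniq p hX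
      rw [Finsupp.single_eq_same, val_dx_inf_unram (hφ P) he hX]
      congr 1

include hdeg hy heq hodd hq0 hq hφ huniq hinf in
lemma regular_iff_mem_L (z : K) :
    (∀ P, LocRes.vDiff (φ P) z (algebraMap (RatFunc k) K RatFunc.X) ≤ 1) ↔
      z ∈ L (conorm K (D0 f - Finsupp.single Pinf 2)) := by
  rw [mem_L]
  apply forall_congr'
  intro P
  unfold LocRes.vDiff
  rw [map_mul, (hφ P).1, val_dx hdeg hy heq hodd hq0 hq φ hφ huniq hinf P, exp_neg,
    mul_inv_le_iff₀ exp_pos, one_mul]

end Reg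

end Groth.Agent.Lib.LeadAS
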