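import Groth.Agent.Lib.LeadAS20

/-! Regular differentials of `y² + y = f` over perfect `k` of characteristic 2: the basis
`x^i dx / q`, `i < g` (S12587). -/

namespace Groth.Agent.Lib.LeadAS

open FunFld WithZero Polynomial Groth.Agent.Lib.LeadFF Groth.Agent.Lib.LeadMS

universe u v w

section Final

variable {k : Type u} {K : Type v} [Field k] [PerfectField k] [CharP k 2] [Field K] [Algebra k K]
  [Algebra (RatFunc k) K] [IsScalarTower k (RatFunc k) K]
  (hK : IsFunctionField k K)
  (hdeg : Module.finrank (RatFunc k) K = 2)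
  {y : K} (hy : y ∉ Set.range (algebraMap (RatFunc k) K)) {f : RatFunc k}
  (heq : y ^ 2 + y = algebraMap (RatFunc k) K f)
  (hodd : ∀ P : Place k (RatFunc k), P.ord f < 0 → Odd (P.ord f))
  {q : k[X]} (hq0 : q ≠ 0)
  (hq : ∀ p : Place k (RatFunc k), p.1 (RatFunc.X : RatFunc k) ≤ 1 →
    p.ord (algebraMap k[X] (RatFunc k) q) = D0 f p)
  {Pinf : Place k (RatFunc k)}
  (huniq : ∀ p : Place k (RatFunc k), 1 < p.1 (RatFunc.X : RatFunc k) → p = Pinf)
  (hinf : Pinf.ord (RatFunc.X : RatFunc k) < 0) (hPdeg : Pinf.deg = 1)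

omit [PerfectField k] in
include hK hdeg hy heq hodd hq0 hq huniq hinf hPdeg in
lemma natDegree_q : (q.natDegree : ℤ) = genus k K + 1 - D0 f Pinf := by
  have h1 := genus_eq_deg_D0 hdeg hy heq hodd hK
  have h2 := deg_eq_natDegree_add Pinf hPdeg hinf huniq q hq0 (D0 f) hq
  omega

omit [PerfectField k] in
include hK hdeg hy heq hodd hq0 hq huniq hinf hPdeg in
lemma mem_L_of_lt (i : ℕ) (hi : i < genus k K) :
    (RatFunc.X : RatFunc k) ^ i / algebraMap k[X] (RatFunc k) q ∈
      L (D0 f - Finsupp.single Pinf 2) := by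
  classical
  have hnq := natDegree_q hK hdeg hy heq hodd hq0 hq huniq hinf hPdeg
  have hinf1 : 1 < Pinf.1 (RatFunc.X : RatFunc k) := val_X_inf_gt Pinf hinf
  rw [mem_L]
  intro p
  rw [Finsupp.coe_sub, Pi.sub_apply, map_div₀, map_pow]
  by_cases hX : p.1 (RatFunc.X : RatFunc k) ≤ 1
  · have hne : Pinf ≠ p := by
      rintro rfl
      exact absurd hinf1 (not_lt.mpr hX)
    rw [Finsupp.single_eq_of_ne' hne, sub_zero, val_q_finite hq0 hq p hX,
      div_le_iff₀ exp_pos, ← exp_add, add_neg_cancel, exp_zero]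
    exact pow_le_one₀ zero_le' hX
  · rw [not_le] at hX
    obtain rfl := huniq p hX
    rw [Finsupp.single_eq_same, val_X_infty p hX, val_poly_inf p hX hq0, zm0_exp_pow,
      ← exp_sub, exp_le_exp]
    have : (i : ℤ) < genus k K := by exact_mod_cast hi
    omega

include hK hdeg hy heq hodd hq0 hq huniq hinf hPdeg in
theorem regular_basis {F : Place k K → Type w} [∀ P, Field (F P)] [∀ P, Algebra k (F P)]
    (φ : ∀ P, K →ₐ[k] LaurentSeries (F P)) (hφ : ∀ P, LocRes.IsExpansionAt P.1 (φ P)) :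
    (∀ i : ℕ, i < genus k K → ∀ P,
      LocRes.vDiff (φ P) (algebraMap (RatFunc k) K
          (RatFunc.X ^ i / algebraMap k[X] (RatFunc k) q))
        (algebraMap (RatFunc k) K RatFunc.X) ≤ 1) ∧
    ∀ z : K, (∀ P, LocRes.vDiff (φ P) z (algebraMap (RatFunc k) K RatFunc.X) ≤ 1) →
      ∃ a : k[X], a.degree < (genus k K : WithBot ℕ) ∧
        z = algebraMap (RatFunc k) K
          (algebraMap k[X] (RatFunc k) a / algebraMap k[X] (RatFunc k) q) := by
  classical
  have hK₀ : IsFunctionField k (RatFunc k) := isFunctionField_ratFunc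
  have hnq := natDegree_q hK hdeg hy heq hodd hq0 hq huniq hinf hPdeg
  have hinf1 : 1 < Pinf.1 (RatFunc.X : RatFunc k) := val_X_inf_gt Pinf hinf
  have hq0' : algebraMap k[X] (RatFunc k) q ≠ 0 := by
    rw [Ne, map_eq_zero_iff _ (IsFractionRing.injective k[X] (RatFunc k))]; exact hq0
  constructor
  · intro i hi
    rw [regular_iff_mem_L hdeg hy heq hodd hq0 hq φ hφ huniq hinf]
    have h1 := mem_L_of_lt hK hdeg hy heq hodd hq0 hq huniq hinf hPdeg i hi
    have h2 := (mem_L_conorm_iff hdeg hy heq hodd (D0 f - Finsupp.single Pinf 2)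
      (RatFunc.X ^ i / algebraMap k[X] (RatFunc k) q) 0).mpr ⟨h1, Submodule.zero_mem _⟩
    rwa [map_zero, zero_mul, add_zero] at h2
  · intro z hz
    rw [regular_iff_mem_L hdeg hy heq hodd hq0 hq φ hφ huniq hinf] at hz
    obtain ⟨u, v, rfl⟩ := exists_repr hdeg hy z
    obtain ⟨hu, hv⟩ := (mem_L_conorm_iff hdeg hy heq hodd _ u v).mp hz
    have hbot : L (D0 f - Finsupp.single Pinf 2 - D0 f) = ⊥ := by
      apply L_eq_bot_of_deg_neg hK₀
      rw [deg_sub, deg_sub, deg_single, hPdeg]
      push_cast; omega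
    rw [hbot, Submodule.mem_bot] at hv
    subst hv
    rw [mem_L] at hu
    obtain ⟨a, ha⟩ := exists_poly_of_integral (u * algebraMap k[X] (RatFunc k) q) (by
      intro p hX
      have hne : Pinf ≠ p := by
        rintro rfl
        exact absurd hinf1 (not_lt.mpr hX)
      have h1 := hu p
      rw [Finsupp.coe_sub, Pi.sub_apply, Finsupp.single_eq_of_ne' hne, sub_zero] at h1
      rw [map_mul, val_q_finite hq0 hq p hX]
      calc p.1 u * exp (-(D0 f p)) ≤ exp (D0 f p) * exp (-(D0 f p)) := mul_le_mul' h1 le_rfl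
        _ = 1 := by rw [← exp_add, add_neg_cancel, exp_zero])
    refine ⟨a, ?_, ?_⟩
    · by_cases ha0 : a = 0
      · rw [ha0, degree_zero]; exact WithBot.bot_lt_coe _
      · have h1 := hu Pinf
        rw [Finsupp.coe_sub, Pi.sub_apply, Finsupp.single_eq_same] at h1
        have h2 := val_poly_inf Pinf hinf1 ha0
        rw [ha, map_mul, val_poly_inf Pinf hinf1 hq0] at h2
        have h3 : exp (a.natDegree : ℤ) ≤ exp (D0 f Pinf - 2) * exp (q.natDegree : ℤ) := by
          rw [← h2]; exact mul_le_mul' h1 le_rfl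
        rw [← exp_add, exp_le_exp] at h3
        rw [degree_eq_natDegree ha0]
        have : a.natDegree < genus k K := by
          have : (a.natDegree : ℤ) < genus k K := by omega
          exact_mod_cast this
        exact_mod_cast this
    · rw [ha, mul_div_assoc, div_self hq0', mul_one, map_zero, zero_mul, add_zero]

end Final

end Groth.Agent.Lib.LeadAS
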