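import Groth.Agent.Lib.LeadAS2
import Groth.Agent.Lib.LeadFF15

/-! Artin–Schreier curves in characteristic 2: uniqueness of the place above a pole, partial
fractions, and repartitions supported at one place modulo `A(0) + K` (S19047). -/

namespace Groth.Agent.Lib.LeadAS

open FunFld WithZero Polynomial Groth.Agent.Lib.LeadFF

universe u v
variable {k : Type u} [Field k]

section RatUnique

/-- the value of a polynomial at the place `X = α`. -/
lemma val_poly_at (p : Place k (RatFunc k)) {α : k}
    (hp : p.1 (RatFunc.X - RatFunc.C α) < 1) {a : k[X]} (ha : a ≠ 0) :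
    p.1 (algebraMap k[X] (RatFunc k) a) = exp (-(multiplicity (X - C α) a : ℤ)) := by
  have hirr : Irreducible (X - C α : k[X]) := irreducible_X_sub_C α
  have hp' : p.1 (algebraMap k[X] (RatFunc k) (X - C α)) < 1 := by rwa [algMap_X_sub_C]
  have hfin : FiniteMultiplicity (X - C α) a := FiniteMultiplicity.of_not_isUnit hirr.not_isUnit ha
  obtain ⟨c, hc, hnd⟩ := hfin.exists_eq_pow_mul_and_not_dvd
  conv_lhs => rw [hc]
  rw [map_mul, map_pow, map_mul, map_pow, val_poly_eq_one_of_not_dvd p hirr hp' hnd, mul_one,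
    val_irreducible p hirr hp', ← exp_nsmul]
  simp

/-- the place of `k(X)` at `X = α` is unique. -/
lemma ratPlace_unique (p p' : Place k (RatFunc k)) {α : k}
    (hp : p.1 (RatFunc.X - RatFunc.C α) < 1) (hp' : p'.1 (RatFunc.X - RatFunc.C α) < 1) :
    p = p' := by
  apply place_eq_of_le
  intro g hg
  obtain ⟨a, b, hb, rfl⟩ := IsFractionRing.div_surjective (A := k[X]) g
  have hb0 : b ≠ 0 := nonZeroDivisors.ne_zero hb
  by_cases ha : a = 0
  · subst ha; simp
  rw [map_div₀, val_poly_at p hp ha, val_poly_at p hp hb0] at hg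
  rw [map_div₀, val_poly_at p' hp' ha, val_poly_at p' hp' hb0]
  exact hg

end RatUnique

section PF
variable [IsAlgClosed k]

/-- partial fractions at `X = α`: split off the principal part. -/
lemma exists_principal_part (p : Place k (RatFunc k)) {α : k}
    (hp : p.1 (RatFunc.X - RatFunc.C α) < 1) (g : RatFunc k) :
    ∃ r h : RatFunc k, g = r + h ∧ p.1 h ≤ 1 ∧
      ∀ q : Place k (RatFunc k), 1 ≤ q.1 (RatFunc.X - RatFunc.C α) → q.1 r ≤ 1 := by
  set t : RatFunc k := RatFunc.X - RatFunc.C α with ht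
  have hpt : p.1 t = exp (-1 : ℤ) := val_X_sub_C p hp
  have ht0 : t ≠ 0 := by
    intro h0; rw [h0, map_zero] at hpt; exact exp_ne_zero hpt.symm
  have key : ∀ n : ℕ, ∀ g : RatFunc k, p.1 g ≤ exp (n : ℤ) → ∃ r h : RatFunc k, g = r + h ∧
      p.1 h ≤ 1 ∧ ∀ q : Place k (RatFunc k), 1 ≤ q.1 t → q.1 r ≤ 1 := by
    intro n
    induction n with
    | zero =>
      intro g hg
      exact ⟨0, g, by ring, by simpa using hg, fun q _ => by simp⟩
    | succ n ih =>
      intro g hg
      set u := g * t ^ (n + 1) with hu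
      have hu1 : p.1 u ≤ 1 := by
        rw [hu, map_mul, map_pow, hpt, ← exp_nsmul]
        calc p.1 g * exp ((n + 1) • (-1 : ℤ)) ≤ exp ((n + 1 : ℕ) : ℤ) * exp ((n + 1) • (-1 : ℤ)) :=
              mul_le_mul' hg le_rfl
          _ = 1 := by rw [← exp_add, ← exp_zero]; congr 1; simp
      obtain ⟨c, hc⟩ := exists_const_sub_lt_one (isFunctionField_ratFunc (k := k)) p hu1
      set g' := g - RatFunc.C c * (t ^ (n + 1))⁻¹ with hg'
      have hg'u : g' = (u - algebraMap k (RatFunc k) c) * (t ^ (n + 1))⁻¹ := by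
        rw [hg', hu, RatFunc.algebraMap_eq_C]
        field_simp
      have hg'v : p.1 g' ≤ exp (n : ℤ) := by
        rw [hg'u, map_mul, map_inv₀, map_pow, hpt, ← exp_nsmul, ← exp_neg]
        have hc' : p.1 (u - algebraMap k (RatFunc k) c) ≤ exp (-1 : ℤ) := by
          have hne : p.1 (u - algebraMap k (RatFunc k) c) < exp (0 : ℤ) := by rwa [exp_zero]
          by_cases h0 : p.1 (u - algebraMap k (RatFunc k) c) = 0
          · rw [h0]; exact zero_le'
          · rw [← exp_log h0] at hne ⊢
            rw [exp_lt_exp] at hne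
            rw [exp_le_exp]; omega
        calc p.1 (u - algebraMap k (RatFunc k) c) * exp (-((n + 1) • (-1 : ℤ)))
            ≤ exp (-1 : ℤ) * exp (-((n + 1) • (-1 : ℤ))) := mul_le_mul' hc' le_rfl
          _ = exp (n : ℤ) := by rw [← exp_add]; congr 1; simp
      obtain ⟨r', h', hsum, hh', hr'⟩ := ih g' hg'v
      refine ⟨r' + RatFunc.C c * (t ^ (n + 1))⁻¹, h', ?_, hh', fun q hq => ?_⟩
      · rw [add_right_comm, ← hsum, hg']; ring
      · refine (q.1.map_add _ _).trans (max_le (hr' q hq) ?_)
        rw [map_mul, map_inv₀, map_pow]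
        have h1 : q.1 (RatFunc.C c) ≤ 1 := by rw [← RatFunc.algebraMap_eq_C]; exact q.2.1 c
        have h2 : (q.1 t ^ (n + 1))⁻¹ ≤ 1 := inv_le_one_of_one_le₀ (one_le_pow₀ hq)
        exact mul_le_one' h1 h2
  by_cases hg0 : g = 0
  · exact ⟨0, 0, by rw [hg0]; ring, by simp, fun q _ => by simp⟩
  · set m := (log (p.1 g)).toNat with hm
    apply key m g
    have h0 : p.1 g ≠ 0 := (Valuation.ne_zero_iff _).mpr hg0
    rw [← exp_log h0, exp_le_exp]
    omega

end PF

section Top
variable {K : Type v} [IsAlgClosed k] [CharP k 2] [Field K] [Algebra k K]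
  [Algebra (RatFunc k) K] [IsScalarTower k (RatFunc k) K]
  (hdeg : Module.finrank (RatFunc k) K = 2) [Algebra.IsSeparable (RatFunc k) K]
  {y : K} (hy : y ∉ Set.range (algebraMap (RatFunc k) K)) {f : RatFunc k}
  (heq : y ^ 2 + y = algebraMap (RatFunc k) K f)
  {B : Finset k} {d : k → ℕ} (hd : ∀ β ∈ B, Odd (d β))
  (hpole : ∀ (p : Place k (RatFunc k)) (β : k), β ∈ B →
    p.1 ((RatFunc.X : RatFunc k) - RatFunc.C β) < 1 → p.ord f = -(d β : ℤ))

include hdeg hy heq hd hpole in
/-- the place above a pole `α ∈ B` is unique. -/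
theorem place_above_pole_unique {α : k} (hα : α ∈ B) (P Q : Place k K)
    (hP : P.1 (algebraMap (RatFunc k) K RatFunc.X - algebraMap k K α) < 1)
    (hQ : Q.1 (algebraMap (RatFunc k) K RatFunc.X - algebraMap k K α) < 1) : P = Q := by
  haveI : FiniteDimensional (RatFunc k) K :=
    Module.finite_of_finrank_pos (by rw [hdeg]; norm_num)
  obtain ⟨p, e, he0, he⟩ := exists_below (isFunctionField_ratFunc (k := k)) P
  obtain ⟨q, e', he0', he'⟩ := exists_below (isFunctionField_ratFunc (k := k)) Q
  rw [xsub_eq, he] at hP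
  rw [xsub_eq, he'] at hQ
  have hp : p.1 (RatFunc.X - RatFunc.C α) < 1 := by
    by_contra hge
    rw [not_lt] at hge
    exact absurd hP (not_lt.mpr (one_le_pow₀ hge))
  have hq : q.1 (RatFunc.X - RatFunc.C α) < 1 := by
    by_contra hge
    rw [not_lt] at hge
    exact absurd hQ (not_lt.mpr (one_le_pow₀ hge))
  have hpq : p = q := ratPlace_unique p q hp hq
  subst hpq
  have hord := hpole p α hα hp
  have hdα := hd α hα
  have hd1 : 1 ≤ d α := hdα.pos
  have h2 : ringChar k = 2 := ringChar.eq k 2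
  have hodd : Odd (p.ord f) := by
    rw [hord]
    exact ((Int.odd_coe_nat _).mpr hdα).neg
  have hram := (artin_schreier_ramification h2 hdeg y hy f heq p).1 ⟨by rw [hord]; omega, hodd⟩
  exact hram.1.unique ⟨e, he⟩ ⟨e', he'⟩

include hdeg hy heq hd hpole in
/-- a repartition supported at the place above `α ∈ B` with value in `k(x)` lies in `A(0) + K`. -/
theorem single_rat_mem [DecidableEq (Place k K)] {α : k} (hα : α ∈ B) (P : Place k K)
    (hP : P.1 (algebraMap (RatFunc k) K RatFunc.X - algebraMap k K α) < 1) (g : RatFunc k) :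
    (Pi.single P (algebraMap (RatFunc k) K g) : Place k K → K) ∈
      AD (0 : Divisor k K) ⊔ LinearMap.range (diag k K) := by
  haveI : FiniteDimensional (RatFunc k) K :=
    Module.finite_of_finrank_pos (by rw [hdeg]; norm_num)
  obtain ⟨p, e, he0, he⟩ := exists_below (isFunctionField_ratFunc (k := k)) P
  have hP' := hP
  rw [xsub_eq, he] at hP'
  have hp : p.1 (RatFunc.X - RatFunc.C α) < 1 := by
    by_contra hge
    rw [not_lt] at hge
    exact absurd hP' (not_lt.mpr (one_le_pow₀ hge))
  obtain ⟨r, h, hsum, hh, hr⟩ := exists_principal_part p hp g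
  rw [Submodule.mem_sup]
  refine ⟨fun Q => if Q = P then algebraMap (RatFunc k) K h else -algebraMap (RatFunc k) K r, ?_,
    diag k K (algebraMap (RatFunc k) K r), ⟨_, rfl⟩, ?_⟩
  · intro Q
    show Q.1 (if Q = P then algebraMap (RatFunc k) K h else -algebraMap (RatFunc k) K r) ≤
      exp ((0 : Divisor k K) Q)
    rw [Finsupp.zero_apply, exp_zero]
    by_cases hQ : Q = P
    · rw [if_pos hQ, hQ, he]
      exact pow_le_one₀ zero_le' hh
    · rw [if_neg hQ, Valuation.map_neg]
      obtain ⟨q, e', he0', he'⟩ := exists_below (isFunctionField_ratFunc (k := k)) Q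
      rw [he']
      apply pow_le_one₀ zero_le'
      apply hr q
      by_contra hlt
      rw [not_le] at hlt
      apply hQ
      apply place_above_pole_unique hdeg hy heq hd hpole hα Q P _ hP
      rw [xsub_eq, he']
      exact pow_lt_one₀ zero_le' hlt he0'.ne'
  · funext Q
    show (if Q = P then algebraMap (RatFunc k) K h else -algebraMap (RatFunc k) K r) +
      algebraMap (RatFunc k) K r = (Pi.single P (algebraMap (RatFunc k) K g) : Place k K → K) Q
    by_cases hQ : Q = P
    · rw [if_pos hQ, hQ, Pi.single_eq_same, hsum, map_add]; ring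
    · rw [if_neg hQ, Pi.single_eq_of_ne hQ]; ring

end Top

end Groth.Agent.Lib.LeadAS
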