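import Groth.Agent.Lib.LeadAS3

/-! Partial fractions in `k(x)` at finitely many points: explicit principal parts, linear
independence of `(x-α)^{-i}` (for S19044). -/

namespace Groth.Agent.Lib.LeadAS

open FunFld WithZero Polynomial Groth.Agent.Lib.LeadFF

universe u
variable {k : Type u} [Field k]

section RatMore

/-- `(X - α)⁻¹` in `k(X)`. -/
noncomputable def tinv (α : k) : RatFunc k := (RatFunc.X - RatFunc.C α)⁻¹

lemma transcendental_X_sub_C (α : k) : Transcendental k (RatFunc.X - RatFunc.C α : RatFunc k) := by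
  intro h
  have h2 : IsAlgebraic k (RatFunc.C α : RatFunc k) := by
    rw [← RatFunc.algebraMap_eq_C]; exact isAlgebraic_algebraMap α
  have h3 := h.add h2
  rw [sub_add_cancel] at h3
  exact RatFunc.transcendental_X h3

lemma exists_place_at (α : k) :
    ∃ p : Place k (RatFunc k), p.1 (RatFunc.X - RatFunc.C α) < 1 :=
  exists_place_lt_one (isFunctionField_ratFunc (k := k)) (transcendental_X_sub_C α)

lemma exists_place_infty : ∃ p : Place k (RatFunc k), 1 < p.1 (RatFunc.X : RatFunc k) :=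
  LeadHY.exists_pole (isFunctionField_ratFunc (k := k)) RatFunc.transcendental_X

lemma val_X_infty (p : Place k (RatFunc k)) (hp : 1 < p.1 (RatFunc.X : RatFunc k)) :
    p.1 (RatFunc.X : RatFunc k) = exp (1 : ℤ) := by
  have hordX : p.ord (RatFunc.X : RatFunc k) < 0 := by
    rw [LeadFG.val_eq_exp_neg_ord p RatFunc.X_ne_zero, ← exp_zero, exp_lt_exp] at hp
    omega
  rw [LeadFG.val_eq_exp_neg_ord p RatFunc.X_ne_zero, ord_X_inf p hordX]; simp

lemma X_sub_C_ne_zero (α : k) : (RatFunc.X - RatFunc.C α : RatFunc k) ≠ 0 := by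
  intro h
  exact transcendental_X_sub_C α (h ▸ isAlgebraic_zero)

lemma val_tinv_pow_at (p : Place k (RatFunc k)) {α : k}
    (hp : p.1 (RatFunc.X - RatFunc.C α) < 1) (n : ℕ) : p.1 (tinv α ^ n) = exp (n : ℤ) := by
  unfold tinv
  rw [map_pow, map_inv₀, val_X_sub_C p hp, ← exp_neg, ← exp_nsmul]
  simp

lemma val_tinv_pow_le_one (q : Place k (RatFunc k)) {α : k}
    (hq : 1 ≤ q.1 (RatFunc.X - RatFunc.C α)) (n : ℕ) : q.1 (tinv α ^ n) ≤ 1 := by
  unfold tinv
  rw [map_pow, map_inv₀]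
  exact pow_le_one₀ zero_le' (inv_le_one_of_one_le₀ hq)

lemma val_tinv_pow_infty (q : Place k (RatFunc k)) (hq : 1 < q.1 (RatFunc.X : RatFunc k)) (α : k)
    (n : ℕ) : q.1 (tinv α ^ n) = exp (-(n : ℤ)) := by
  unfold tinv
  rw [map_pow, map_inv₀, val_X_sub_C_infty q hq, val_X_infty q hq, ← exp_neg, ← exp_nsmul]
  simp

lemma val_C_ne_zero (q : Place k (RatFunc k)) {c : k} (hc : c ≠ 0) : q.1 (RatFunc.C c) = 1 := by
  rw [← RatFunc.algebraMap_eq_C]; exact place_trivOn q c hc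

lemma val_C_le_one (q : Place k (RatFunc k)) (c : k) : q.1 (RatFunc.C c) ≤ 1 := by
  rw [← RatFunc.algebraMap_eq_C]; exact q.2.1 c

/-- linear independence of the `(X - α)^{-(i+1)}`. -/
theorem linearIndependent_tinv :
    LinearIndependent k (fun a : k × ℕ => tinv a.1 ^ (a.2 + 1)) := by
  classical
  rw [linearIndependent_iff']
  intro s g hsum
  by_contra hne
  push_neg at hne
  obtain ⟨a, has, hga⟩ := hne
  obtain ⟨p, hp⟩ := exists_place_at a.1
  set sα := s.filter (fun b => b.1 = a.1 ∧ g b ≠ 0) with hsα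
  have hne' : sα.Nonempty := ⟨a, Finset.mem_filter.mpr ⟨has, rfl, hga⟩⟩
  obtain ⟨b₀, hb₀, hmax⟩ := Finset.exists_max_image sα (fun b => b.2) hne'
  obtain ⟨hb₀s, hb₀1, hgb₀⟩ := Finset.mem_filter.mp hb₀
  have hval : ∀ b : k × ℕ, p.1 (g b • tinv b.1 ^ (b.2 + 1)) =
      p.1 (algebraMap k (RatFunc k) (g b)) * p.1 (tinv b.1 ^ (b.2 + 1)) := by
    intro b
    rw [Algebra.smul_def, map_mul]
  have hmain : p.1 (g b₀ • tinv b₀.1 ^ (b₀.2 + 1)) = exp ((b₀.2 + 1 : ℕ) : ℤ) := by
    rw [hval, place_trivOn p _ hgb₀, one_mul, hb₀1, val_tinv_pow_at p hp]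
  have hlt : ∀ b ∈ s.erase b₀, p.1 (g b • tinv b.1 ^ (b.2 + 1)) <
      p.1 (g b₀ • tinv b₀.1 ^ (b₀.2 + 1)) := by
    intro b hb
    obtain ⟨hbne, hbs⟩ := Finset.mem_erase.mp hb
    rw [hmain, hval]
    by_cases hgb : g b = 0
    · rw [hgb, map_zero, map_zero, zero_mul]; exact exp_pos
    rw [place_trivOn p _ hgb, one_mul]
    by_cases hb1 : b.1 = a.1
    · rw [hb1, val_tinv_pow_at p hp, exp_lt_exp]
      have h1 : b.2 ≤ b₀.2 := hmax b (Finset.mem_filter.mpr ⟨hbs, hb1, hgb⟩)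
      have h2 : b.2 ≠ b₀.2 := by
        intro h
        apply hbne
        exact Prod.ext (hb1.trans hb₀1.symm) h
      have : b.2 < b₀.2 := lt_of_le_of_ne h1 h2
      exact_mod_cast Nat.succ_lt_succ this
    · have h1 : p.1 (RatFunc.X - RatFunc.C b.1) = 1 := val_X_sub_C_other p hp hb1
      refine lt_of_le_of_lt (val_tinv_pow_le_one p h1.ge _) ?_
      rw [← exp_zero, exp_lt_exp]
      exact_mod_cast Nat.succ_pos _
  have hv0 : p.1 (g b₀ • tinv b₀.1 ^ (b₀.2 + 1)) ≠ 0 := by rw [hmain]; exact exp_ne_zero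
  have hrest := Valuation.map_sum_lt p.1 hv0 hlt
  rw [← Finset.add_sum_erase s _ hb₀s] at hsum
  have := Valuation.map_add_eq_of_lt_left p.1 hrest
  rw [hsum, map_zero] at this
  exact hv0 this.symm

end RatMore

section PF2
variable [IsAlgClosed k]

/-- explicit principal part at `X = α`. -/
theorem exists_principal_part_explicit (p : Place k (RatFunc k)) {α : k}
    (hp : p.1 (RatFunc.X - RatFunc.C α) < 1) :
    ∀ (n : ℕ) (g : RatFunc k), p.1 g ≤ exp (n : ℤ) → ∃ (c : ℕ → k) (h : RatFunc k),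
      g = ∑ i ∈ Finset.range n, RatFunc.C (c i) * tinv α ^ (i + 1) + h ∧ p.1 h ≤ 1 := by
  set t : RatFunc k := RatFunc.X - RatFunc.C α with ht
  have hpt : p.1 t = exp (-1 : ℤ) := val_X_sub_C p hp
  have ht0 : t ≠ 0 := X_sub_C_ne_zero α
  intro n
  induction n with
  | zero =>
    intro g hg
    exact ⟨fun _ => 0, g, by simp, by simpa using hg⟩
  | succ n ih =>
    intro g hg
    set u := g * t ^ (n + 1) with hu
    have hu1 : p.1 u ≤ 1 := by
      rw [hu, map_mul, map_pow, hpt, ← exp_nsmul]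
      calc p.1 g * exp ((n + 1) • (-1 : ℤ)) ≤ exp ((n + 1 : ℕ) : ℤ) * exp ((n + 1) • (-1 : ℤ)) :=
            mul_le_mul' hg le_rfl
        _ = 1 := by rw [← exp_add, ← exp_zero]; congr 1; simp
    obtain ⟨c, hc⟩ := exists_const_sub_lt_one (isFunctionField_ratFunc (k := k)) p hu1
    set g' := g - RatFunc.C c * tinv α ^ (n + 1) with hg'
    have hg'u : g' = (u - algebraMap k (RatFunc k) c) * (t ^ (n + 1))⁻¹ := by
      rw [hg', hu, RatFunc.algebraMap_eq_C]
      unfold tinv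
      rw [← ht, inv_pow]
      field_simp
    have hg'v : p.1 g' ≤ exp (n : ℤ) := by
      rw [hg'u, map_mul, map_inv₀, map_pow, hpt, ← exp_nsmul, ← exp_neg]
      have hc' : p.1 (u - algebraMap k (RatFunc k) c) ≤ exp (-1 : ℤ) := by
        have hne : p.1 (u - algebraMap k (RatFunc k) c) < exp (0 : ℤ) := by rwa [exp_zero]
        by_cases h0 : p.1 (u - algebraMap k (RatFunc k) c) = 0
        · rw [h0]; exact zero_le'
        · rw [← exp_log h0] at hne ⊢
          rw [exp_lt_exp] at hne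
          rw [exp_le_exp]; omega
      calc p.1 (u - algebraMap k (RatFunc k) c) * exp (-((n + 1) • (-1 : ℤ)))
          ≤ exp (-1 : ℤ) * exp (-((n + 1) • (-1 : ℤ))) := mul_le_mul' hc' le_rfl
        _ = exp (n : ℤ) := by rw [← exp_add]; congr 1; simp
    obtain ⟨c', h', hsum, hh'⟩ := ih g' hg'v
    refine ⟨fun i => if i = n then c else c' i, h', ?_, hh'⟩
    rw [Finset.sum_range_succ]
    have h1 : ∑ i ∈ Finset.range n, RatFunc.C (if i = n then c else c' i) * tinv α ^ (i + 1) =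
        ∑ i ∈ Finset.range n, RatFunc.C (c' i) * tinv α ^ (i + 1) := by
      apply Finset.sum_congr rfl
      intro i hi
      rw [if_neg (Finset.mem_range.mp hi).ne]
    beta_reduce
    rw [h1, if_pos rfl]
    have : g = g' + RatFunc.C c * tinv α ^ (n + 1) := by rw [hg']; ring
    rw [this, hsum]; ring

end PF2

end Groth.Agent.Lib.LeadAS
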