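import Groth.Agent.Lib.LeadAS4

/-! The family `(x-α)^{-(j+1)}`, `α/(x(x-α))` in `k(x)`: independence and the span (for S19044). -/

namespace Groth.Agent.Lib.LeadAS

open FunFld WithZero Polynomial Groth.Agent.Lib.LeadFF

universe u
variable {k : Type u} [Field k]

section Fam
variable (B : Finset k) (d : k → ℕ)

/-- first family. -/
noncomputable def fam1 : {a : ↥B × ℕ // 1 ≤ a.2 ∧ 2 * a.2 + 1 ≤ d (a.1 : k)} → RatFunc k :=
  fun a => ((RatFunc.X : RatFunc k) - RatFunc.C (a.1.1 : k))⁻¹ ^ (a.1.2 + 1)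

/-- second family. -/
noncomputable def fam2 : {b : ↥B // (b : k) ≠ 0} → RatFunc k :=
  fun b => RatFunc.C (b.1 : k) / ((RatFunc.X : RatFunc k) * ((RatFunc.X : RatFunc k) - RatFunc.C (b.1 : k)))

lemma fam1_eq (a : {a : ↥B × ℕ // 1 ≤ a.2 ∧ 2 * a.2 + 1 ≤ d (a.1 : k)}) :
    fam1 B d a = tinv (a.1.1 : k) ^ (a.1.2 + 1) := rfl

lemma tinv_zero : tinv (0 : k) = (RatFunc.X : RatFunc k)⁻¹ := by
  unfold tinv; rw [map_zero, sub_zero]

lemma tinv_sub_tinv_zero (β : k) :
    tinv β - tinv 0 = RatFunc.C β / ((RatFunc.X : RatFunc k) * ((RatFunc.X : RatFunc k) - RatFunc.C β)) := by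
  rw [tinv_zero]
  unfold tinv
  have h1 := X_sub_C_ne_zero β
  have h2 : (RatFunc.X : RatFunc k) ≠ 0 := RatFunc.X_ne_zero
  field_simp
  ring

lemma fam2_eq (b : {b : ↥B // (b : k) ≠ 0}) : fam2 B b = tinv (b.1 : k) - tinv 0 :=
  (tinv_sub_tinv_zero _).symm

lemma linearIndependent_fam1 : LinearIndependent k (fam1 B d) := by
  have := linearIndependent_tinv (k := k)
  refine this.comp (fun a : {a : ↥B × ℕ // 1 ≤ a.2 ∧ 2 * a.2 + 1 ≤ d (a.1 : k)} =>
    (((a.1.1 : ↥B) : k), a.1.2)) ?_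
  intro a b hab
  simp only [Prod.mk.injEq] at hab
  exact Subtype.ext (Prod.ext (Subtype.ext hab.1) hab.2)

lemma val_fam2_at (b : {b : ↥B // (b : k) ≠ 0}) (p : Place k (RatFunc k))
    (hp : p.1 (RatFunc.X - RatFunc.C (b.1 : k)) < 1) : p.1 (fam2 B b) = exp (1 : ℤ) := by
  unfold fam2
  have hX : p.1 (RatFunc.X : RatFunc k) = 1 := by
    have := val_X_sub_C_other p hp (β := 0) (Ne.symm b.2)
    rwa [map_zero, sub_zero] at this
  rw [map_div₀, map_mul, val_C_ne_zero p b.2, hX, one_mul, val_X_sub_C p hp, one_div, ← exp_neg]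
  simp

lemma val_fam2_other (b : {b : ↥B // (b : k) ≠ 0}) (p : Place k (RatFunc k)) {β : k}
    (hβ0 : β ≠ 0) (hβ : β ≠ (b.1 : k))
    (hp : p.1 (RatFunc.X - RatFunc.C β) < 1) : p.1 (fam2 B b) = 1 := by
  unfold fam2
  have hX : p.1 (RatFunc.X : RatFunc k) = 1 := by
    have := val_X_sub_C_other p hp (β := 0) (Ne.symm hβ0)
    rwa [map_zero, sub_zero] at this
  rw [map_div₀, map_mul, val_C_ne_zero p b.2, hX, one_mul,
    val_X_sub_C_other p hp (Ne.symm hβ), div_one]

lemma linearIndependent_fam2 : LinearIndependent k (fam2 B) := by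
  classical
  rw [linearIndependent_iff']
  intro s g hsum b₀ hb₀s
  by_contra hgb₀
  obtain ⟨p, hp⟩ := exists_place_at (b₀.1 : k)
  have hval : ∀ b, p.1 (g b • fam2 B b) =
      p.1 (algebraMap k (RatFunc k) (g b)) * p.1 (fam2 B b) := by
    intro b
    rw [Algebra.smul_def, map_mul]
  have hmain : p.1 (g b₀ • fam2 B b₀) = exp (1 : ℤ) := by
    rw [hval, place_trivOn p _ hgb₀, one_mul, val_fam2_at B b₀ p hp]
  have hlt : ∀ b ∈ s.erase b₀, p.1 (g b • fam2 B b) < p.1 (g b₀ • fam2 B b₀) := by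
    intro b hb
    obtain ⟨hbne, hbs⟩ := Finset.mem_erase.mp hb
    rw [hmain, hval]
    have h1 : p.1 (fam2 B b) = 1 := by
      apply val_fam2_other B b p b₀.2 _ hp
      intro h
      exact hbne (Subtype.ext (Subtype.ext h.symm))
    rw [h1, mul_one]
    refine lt_of_le_of_lt (p.2.1 _) ?_
    rw [← exp_zero, exp_lt_exp]; norm_num
  have hv0 : p.1 (g b₀ • fam2 B b₀) ≠ 0 := by rw [hmain]; exact exp_ne_zero
  have hrest := Valuation.map_sum_lt p.1 hv0 hlt
  rw [← Finset.add_sum_erase s _ hb₀s] at hsum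
  have := Valuation.map_add_eq_of_lt_left p.1 hrest
  rw [hsum, map_zero] at this
  exact hv0 this.symm

theorem linearIndependent_fam : LinearIndependent k (Sum.elim (fam1 B d) (fam2 B)) := by
  apply LinearIndependent.sum_type (linearIndependent_fam1 B d) (linearIndependent_fam2 B)
  have hL := linearIndependent_tinv (k := k)
  have hdis := hL.disjoint_span_image (s := {a : k × ℕ | 1 ≤ a.2}) (t := {a : k × ℕ | a.2 = 0})
    (by
      rw [Set.disjoint_left]
      intro a h1 h2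
      simp only [Set.mem_setOf_eq] at h1 h2
      omega)
  refine hdis.mono ?_ ?_
  · apply Submodule.span_mono
    rintro _ ⟨a, rfl⟩
    exact ⟨(((a.1.1 : ↥B) : k), a.1.2), a.2.1, rfl⟩
  · rw [Submodule.span_le]
    rintro _ ⟨b, rfl⟩
    rw [fam2_eq]
    apply Submodule.sub_mem
    · exact Submodule.subset_span ⟨((b.1 : k), 0), rfl, by simp⟩
    · exact Submodule.subset_span ⟨((0 : k), 0), rfl, by simp⟩

end Fam

end Groth.Agent.Lib.LeadAS
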