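import Groth.Agent.Lib.LeadAS5

/-! Spanning: rational functions with bounded poles at `B` and a double zero at infinity lie in the
span of the family (for S19044). -/

namespace Groth.Agent.Lib.LeadAS

open FunFld WithZero Polynomial Groth.Agent.Lib.LeadFF

universe u
variable {k : Type u} [Field k]

section Aux

/-- the principal part polynomial in `(X-β)⁻¹`. -/
noncomputable def PP (β : k) (c : ℕ → k) (n : ℕ) : RatFunc k :=
  ∑ i ∈ Finset.range n, RatFunc.C (c i) * tinv β ^ (i + 1)

lemma val_PP_le_one (q : Place k (RatFunc k)) {β : k}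
    (hq : 1 ≤ q.1 (RatFunc.X - RatFunc.C β)) (c : ℕ → k) (n : ℕ) : q.1 (PP β c n) ≤ 1 := by
  unfold PP
  apply Valuation.map_sum_le
  intro i _
  rw [map_mul]
  exact mul_le_one' (val_C_le_one q _) (val_tinv_pow_le_one q hq _)

lemma val_PP_infty (q : Place k (RatFunc k)) (hq : 1 < q.1 (RatFunc.X : RatFunc k)) (β : k)
    (c : ℕ → k) (n : ℕ) : q.1 (PP β c n) ≤ exp (-1 : ℤ) := by
  unfold PP
  apply Valuation.map_sum_le
  intro i _
  rw [map_mul, val_tinv_pow_infty q hq]
  calc q.1 (RatFunc.C (c i)) * exp (-((i + 1 : ℕ) : ℤ)) ≤ 1 * exp (-((i + 1 : ℕ) : ℤ)) :=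
        mul_le_mul' (val_C_le_one q _) le_rfl
    _ ≤ exp (-1 : ℤ) := by rw [one_mul, exp_le_exp]; push_cast; omega

/-- the tail (terms `i ≥ 1`) of a principal part has a double zero at infinity. -/
lemma val_PP_tail_infty (q : Place k (RatFunc k)) (hq : 1 < q.1 (RatFunc.X : RatFunc k)) (β : k)
    (c : ℕ → k) (n : ℕ) :
    q.1 (∑ i ∈ (Finset.range n).filter (fun i => 1 ≤ i), RatFunc.C (c i) * tinv β ^ (i + 1)) ≤
      exp (-2 : ℤ) := by
  apply Valuation.map_sum_le
  intro i hi
  have hi1 : 1 ≤ i := (Finset.mem_filter.mp hi).2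
  rw [map_mul, val_tinv_pow_infty q hq]
  calc q.1 (RatFunc.C (c i)) * exp (-((i + 1 : ℕ) : ℤ)) ≤ 1 * exp (-((i + 1 : ℕ) : ℤ)) :=
        mul_le_mul' (val_C_le_one q _) le_rfl
    _ ≤ exp (-2 : ℤ) := by rw [one_mul, exp_le_exp]; push_cast; omega

lemma val_tinv_sub_infty (q : Place k (RatFunc k)) (hq : 1 < q.1 (RatFunc.X : RatFunc k)) (β : k) :
    q.1 (tinv β - tinv 0) ≤ exp (-2 : ℤ) := by
  rw [tinv_sub_tinv_zero, map_div₀, map_mul, val_X_sub_C_infty q hq, val_X_infty q hq, ← exp_add,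
    div_eq_mul_inv, ← exp_neg]
  calc q.1 (RatFunc.C β) * exp (-(1 + 1 : ℤ)) ≤ 1 * exp (-(1 + 1 : ℤ)) :=
        mul_le_mul' (val_C_le_one q _) le_rfl
    _ = exp (-2 : ℤ) := by rw [one_mul]; norm_num

/-- a rational function integral everywhere with a zero somewhere vanishes. -/
lemma eq_zero_of_integral (w : RatFunc k) (h : ∀ p : Place k (RatFunc k), p.1 w ≤ 1)
    (q : Place k (RatFunc k)) (hq : q.1 w < 1) : w = 0 := by
  by_contra hw
  have hmem : w ∈ Set.range (algebraMap k (RatFunc k)) := by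
    by_contra hne
    obtain ⟨-, Q, hQ⟩ := exists_zero_and_pole (isFunctionField_ratFunc (k := k)) w hne
    exact absurd ((ord_neg_iff Q hw).mp hQ) (not_lt.mpr (h Q))
  obtain ⟨c, rfl⟩ := hmem
  have hc : c ≠ 0 := by rintro rfl; exact hw (map_zero _)
  rw [place_trivOn q c hc] at hq
  exact lt_irrefl _ hq

lemma val_le_of_sq_le {L : Type*} [Field L] (v : Valuation L (WithZero (Multiplicative ℤ)))
    {z : L} {n : ℤ} (h : v z ^ 2 ≤ exp (2 * n)) : v z ≤ exp n := by
  by_cases h0 : v z = 0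
  · rw [h0]; exact zero_le'
  · rw [← exp_log h0] at h ⊢
    rw [← exp_nsmul, exp_le_exp] at h
    rw [exp_le_exp]
    simp only [smul_eq_mul, nsmul_eq_mul] at h
    push_cast at h
    omega

end Aux

section Span
variable [IsAlgClosed k]

theorem mem_span_fam (B : Finset k) (h0 : (0 : k) ∈ B) (d : k → ℕ) (hd : ∀ α ∈ B, Odd (d α))
    (u : RatFunc k)
    (hB : ∀ α ∈ B, ∀ p : Place k (RatFunc k), p.1 (RatFunc.X - RatFunc.C α) < 1 →
      p.1 u ^ 2 ≤ exp ((d α : ℤ) + 1))
    (hfin : ∀ p : Place k (RatFunc k), p.1 (RatFunc.X : RatFunc k) ≤ 1 →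
      (∀ α ∈ B, 1 ≤ p.1 (RatFunc.X - RatFunc.C α)) → p.1 u ≤ 1)
    (hinf : ∀ p : Place k (RatFunc k), 1 < p.1 (RatFunc.X : RatFunc k) → p.1 u ≤ exp (-2 : ℤ)) :
    u ∈ Submodule.span k (Set.range (Sum.elim (fam1 B d) (fam2 B))) := by
  classical
  choose p hp using (fun α : k => exists_place_at α)
  set n : k → ℕ := fun α => (d α + 1) / 2 with hn
  have hdn : ∀ α ∈ B, d α + 1 = 2 * n α := by
    intro α hα
    obtain ⟨m, hm⟩ := hd α hα
    simp only [hn]; omega
  have key : ∀ α : k, ∃ (c : ℕ → k) (h : RatFunc k), α ∈ B →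
      (u = PP α c (n α) + h ∧ (p α).1 h ≤ 1) := by
    intro α
    by_cases hα : α ∈ B
    · have hb : (p α).1 u ≤ exp ((n α : ℕ) : ℤ) := by
        apply val_le_of_sq_le
        have := hB α hα (p α) (hp α)
        have h2 : ((d α : ℤ) + 1) = 2 * ((n α : ℕ) : ℤ) := by exact_mod_cast hdn α hα
        rwa [h2] at this
      obtain ⟨c, h, h1, h2⟩ := exists_principal_part_explicit (p α) (hp α) (n α) u hb
      exact ⟨c, h, fun _ => ⟨h1, h2⟩⟩
    · exact ⟨fun _ => 0, 0, fun h => absurd h hα⟩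
  choose c h hch using key
  set w : RatFunc k := u - ∑ β ∈ B, PP β (c β) (n β) with hw
  -- w is integral everywhere
  have hw_int : ∀ q : Place k (RatFunc k), q.1 w ≤ 1 := by
    intro q
    by_cases hq : 1 < q.1 (RatFunc.X : RatFunc k)
    · rw [hw]
      refine (Valuation.map_sub _ _ _).trans (max_le ((hinf q hq).trans ?_) ?_)
      · rw [← exp_zero, exp_le_exp]; norm_num
      · apply Valuation.map_sum_le
        intro β _
        refine (val_PP_infty q hq β _ _).trans ?_
        rw [← exp_zero, exp_le_exp]; norm_num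
    · rw [not_lt] at hq
      by_cases hqB : ∀ α ∈ B, 1 ≤ q.1 (RatFunc.X - RatFunc.C α)
      · rw [hw]
        refine (Valuation.map_sub _ _ _).trans (max_le (hfin q hq hqB) ?_)
        apply Valuation.map_sum_le
        intro β hβ
        exact val_PP_le_one q (hqB β hβ) _ _
      · push_neg at hqB
        obtain ⟨α, hα, hqα⟩ := hqB
        have hqp : q = p α := ratPlace_unique q (p α) hqα (hp α)
        obtain ⟨h1, h2⟩ := hch α hα
        have : w = h α - ∑ β ∈ B.erase α, PP β (c β) (n β) := by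
          rw [hw, ← Finset.add_sum_erase B _ hα]
          nth_rewrite 1 [h1]
          ring
        rw [this, hqp]
        refine (Valuation.map_sub _ _ _).trans (max_le h2 ?_)
        apply Valuation.map_sum_le
        intro β hβ
        have hβα : β ≠ α := (Finset.mem_erase.mp hβ).1
        exact val_PP_le_one (p α) (val_X_sub_C_other (p α) (hp α) hβα).ge _ _
  obtain ⟨qi, hqi⟩ := exists_place_infty (k := k)
  have hw0 : w = 0 := by
    apply eq_zero_of_integral w hw_int qi
    rw [hw]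
    have h1 : qi.1 (∑ β ∈ B, PP β (c β) (n β)) ≤ exp (-1 : ℤ) := by
      apply Valuation.map_sum_le
      intro β _
      exact val_PP_infty qi hqi β _ _
    have h2 : qi.1 u ≤ exp (-1 : ℤ) := (hinf qi hqi).trans (by rw [exp_le_exp]; norm_num)
    refine lt_of_le_of_lt ((Valuation.map_sub _ _ _).trans (max_le h2 h1)) ?_
    rw [← exp_zero, exp_lt_exp]; norm_num
  have hu : u = ∑ β ∈ B, PP β (c β) (n β) := by
    rw [hw, sub_eq_zero] at hw0; exact hw0
  -- split each principal part into its head and tail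
  have hn1 : ∀ β ∈ B, 1 ≤ n β := by
    intro β hβ
    have := hdn β hβ
    omega
  have hsplit : ∀ β ∈ B, PP β (c β) (n β) = RatFunc.C (c β 0) * tinv β +
      ∑ i ∈ (Finset.range (n β)).filter (fun i => 1 ≤ i), RatFunc.C (c β i) * tinv β ^ (i + 1) := by
    intro β hβ
    unfold PP
    rw [← Finset.sum_filter_add_sum_filter_not (Finset.range (n β)) (fun i => 1 ≤ i), add_comm]
    congr 1
    have : (Finset.range (n β)).filter (fun i => ¬ 1 ≤ i) = {0} := by
      ext i
      simp only [Finset.mem_filter, Finset.mem_range, Finset.mem_singleton]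
      have := hn1 β hβ
      omega
    rw [this, Finset.sum_singleton, zero_add, pow_one]
  set S₀ : k := ∑ β ∈ B, c β 0 with hS₀
  set T : RatFunc k := ∑ β ∈ B, ∑ i ∈ (Finset.range (n β)).filter (fun i => 1 ≤ i),
      RatFunc.C (c β i) * tinv β ^ (i + 1) with hT
  set H : RatFunc k := ∑ β ∈ B, RatFunc.C (c β 0) * (tinv β - tinv 0) with hH
  have hu2 : u = RatFunc.C S₀ * tinv 0 + H + T := by
    have hhead : ∑ β ∈ B, RatFunc.C (c β 0) * tinv β = RatFunc.C S₀ * tinv 0 + H := by
      rw [hS₀, map_sum, Finset.sum_mul, hH, ← Finset.sum_add_distrib]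
      apply Finset.sum_congr rfl
      intro β _
      ring
    rw [hu, Finset.sum_congr rfl hsplit, Finset.sum_add_distrib, hhead]
  have hS0 : S₀ = 0 := by
    by_contra hne
    have h1 : qi.1 (RatFunc.C S₀ * tinv 0) = exp (-1 : ℤ) := by
      rw [map_mul, val_C_ne_zero qi hne, one_mul]
      have := val_tinv_pow_infty qi hqi 0 1
      rwa [pow_one] at this
    have h2 : qi.1 (RatFunc.C S₀ * tinv 0) ≤ exp (-2 : ℤ) := by
      have : RatFunc.C S₀ * tinv 0 = u - H - T := by rw [hu2]; ring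
      rw [this]
      refine (Valuation.map_sub _ _ _).trans (max_le ((Valuation.map_sub _ _ _).trans
        (max_le (hinf qi hqi) ?_)) ?_)
      · apply Valuation.map_sum_le
        intro β _
        rw [map_mul]
        calc qi.1 (RatFunc.C (c β 0)) * qi.1 (tinv β - tinv 0) ≤ 1 * exp (-2 : ℤ) :=
              mul_le_mul' (val_C_le_one qi _) (val_tinv_sub_infty qi hqi β)
          _ = exp (-2 : ℤ) := one_mul _
      · apply Valuation.map_sum_le
        intro β _
        exact val_PP_tail_infty qi hqi β _ _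
    rw [h1, exp_le_exp] at h2
    omega
  rw [hu2, hS0, map_zero, zero_mul, zero_add]
  apply Submodule.add_mem
  · apply Submodule.sum_mem
    intro β hβ
    rw [← RatFunc.algebraMap_eq_C, ← Algebra.smul_def]
    apply Submodule.smul_mem
    by_cases hβ0 : β = 0
    · rw [hβ0, sub_self]; exact Submodule.zero_mem _
    · refine Submodule.subset_span ⟨Sum.inr ⟨⟨β, hβ⟩, hβ0⟩, ?_⟩
      rw [Sum.elim_inr, fam2_eq]
  · apply Submodule.sum_mem
    intro β hβ
    apply Submodule.sum_mem
    intro i hi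
    obtain ⟨hi1, hi2⟩ := Finset.mem_filter.mp hi
    rw [← RatFunc.algebraMap_eq_C, ← Algebra.smul_def]
    apply Submodule.smul_mem
    have hbound : 2 * i + 1 ≤ d β := by
      have := hdn β hβ
      have := Finset.mem_range.mp hi1
      omega
    refine Submodule.subset_span ⟨Sum.inl ⟨(⟨β, hβ⟩, i), hi2, hbound⟩, ?_⟩
    rw [Sum.elim_inl, fam1_eq]

end Span

end Groth.Agent.Lib.LeadAS
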