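import Groth.Agent.Lib.LeadWD6

/-! Existence of expansions, iterativity of Hasse derivatives, stabilization of order sequences. -/

namespace Groth.Agent.Lib.LeadWD

open FunFld WithZero Groth.Agent.Lib.LeadFF Groth.Agent.Lib.LeadSV Groth.Agent.Lib.LeadHS
open PowerSeries

universe u v
variable {k : Type u} {K : Type v} [Field k] [Field K] [Algebra k K]

lemma exists_isExpansionAt [IsAlgClosed k] (hK : IsFunctionField k K) (P : Place k K) :
    ∃ ε : K →ₐ[k] LaurentSeries k, LocRes.IsExpansionAt P.1 ε := by
  obtain ⟨t, ht⟩ := P.2.2 (exp (-1 : ℤ))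
  obtain ⟨ε, hv, -, hεc, -⟩ := exists_expansion (place_trivOn P) ht
    (fun x hx => exists_const_sub_lt_one hK P hx)
  refine ⟨ε, hv, fun a => ⟨algebraMap k K a, P.2.1 a, ?_⟩, t, ht⟩
  rw [hεc a]
  simp

lemma exists_expansions [IsAlgClosed k] (hK : IsFunctionField k K) :
    ∃ Φ : Place k K → (K →ₐ[k] LaurentSeries k), ∀ P, LocRes.IsExpansionAt P.1 (Φ P) :=
  ⟨fun P => (exists_isExpansionAt hK P).choose, fun P => (exists_isExpansionAt hK P).choose_spec⟩

section Iter

lemma taylor₀_C (a : K) : taylor₀ (PowerSeries.C a : K⟦X⟧) = PowerSeries.C (PowerSeries.C a) := by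
  refine PowerSeries.ext fun j => ?_
  rw [coeff_taylor₀, hd_C, coeff_C]

/-- the Taylor map composed with a Hasse family, as an algebra hom. -/
noncomputable def taylor₀Comp (H : K →ₐ[k] PowerSeries K) :
    K →ₐ[k] PowerSeries (PowerSeries K) :=
  { (taylor₀ (F := K)).comp H.toRingHom with
    commutes' := by
      intro c
      show taylor₀ (H (algebraMap k K c)) = _
      rw [H.commutes, PowerSeries.algebraMap_apply, taylor₀_C, PowerSeries.algebraMap_apply,
        PowerSeries.algebraMap_apply] }

lemma taylor₀Comp_apply (H : K →ₐ[k] PowerSeries K) (y : K) :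
    taylor₀Comp H y = taylor₀ (H y) := rfl

theorem hasse_iter (hK : IsFunctionField k K) (hg : IsGeometric k K) {s : K}
    {H : K →ₐ[k] PowerSeries K} (hH : LocRes.IsHasseFamily s H) (y : K) :
    PowerSeries.map (H : K →+* PowerSeries K) (H y) = taylor₀ (H y) := by
  have hspan := (span_of_hasse hK hg hH).2
  have h := hasse_unique (L := PowerSeries K) s hspan ((PowerSeries.mapAlgHom H).comp H)
    (taylor₀Comp H)
    (by
      intro y
      rw [AlgHom.comp_apply, PowerSeries.mapAlgHom_apply, taylor₀Comp_apply,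
        ← coeff_zero_eq_constantCoeff_apply, ← coeff_zero_eq_constantCoeff_apply, coeff_map,
        coeff_taylor₀, hd_zero, coeff_zero_eq_constantCoeff_apply, hH.2]
      rfl)
    (by
      rw [AlgHom.comp_apply, PowerSeries.mapAlgHom_apply, taylor₀Comp_apply, hH.1, map_add,
        map_add, map_C, map_X, taylor₀_C, taylor₀_X]
      have : ((H : K →+* PowerSeries K)) s = PowerSeries.C s + X := hH.1
      rw [this, map_add]
      ring)
  have h2 := congrArg (fun f => f y) h
  simpa [PowerSeries.mapAlgHom_apply, taylor₀Comp_apply] using h2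

theorem hasseD_hasseD (hK : IsFunctionField k K) (hg : IsGeometric k K) {s : K}
    {H : K →ₐ[k] PowerSeries K} (hH : LocRes.IsHasseFamily s H) (i m : ℕ) (y : K) :
    LocRes.hasseD H i (LocRes.hasseD H m y) =
      ((i + m).choose m : K) * LocRes.hasseD H (i + m) y := by
  have h1 := congrArg (fun f => coeff i (coeff m f)) (hasse_iter hK hg hH y)
  simp only [coeff_map, coeff_taylor₀, coeff_hd] at h1
  exact h1

end Iter

end Groth.Agent.Lib.LeadWD
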