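import Groth.Agent.Lib.LeadAS6
import Groth.Agent.Lib.LeadMS4
import Groth.Agent.Lib.LeadWD8

/-! Artin–Schreier curves in characteristic 2: the order of `dx` at every place (for S19044). -/

namespace Groth.Agent.Lib.LeadAS

open FunFld WithZero Polynomial Groth.Agent.Lib.LeadFF Groth.Agent.Lib.LeadMS

universe u v w

section DC
variable {F : Type*} [Field F]

lemma D_C (a : F) : LocRes.D F (HahnSeries.C a : LaurentSeries F) = 0 := by
  ext n
  rw [LocRes.D_coeff, HahnSeries.C_apply, HahnSeries.coeff_single, HahnSeries.coeff_zero]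
  by_cases h : n + 1 = 0
  · rw [if_pos h, h, zero_smul]
  · rw [if_neg h, smul_zero]

end DC

section Over
variable {k : Type u} {K K' : Type*} [Field k] [Field K] [Field K'] [Algebra k K] [Algebra K K']
  [Algebra k K'] [IsScalarTower k K K']

lemma exists_over [FiniteDimensional K K'] (hK : IsFunctionField k K) (P : Place k K) :
    ∃ Q : Place k K', IsOver Q P := by
  classical
  by_contra hne
  push_neg at hne
  have hfin := LeadFF.finite_over (K' := K') hK P
  have hsum := LeadFF.sum_ramIdx_deg hK P hfin.toFinset (fun Q => hfin.mem_toFinset)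
  have hempty : hfin.toFinset = ∅ := by
    apply Finset.eq_empty_of_forall_notMem
    intro Q hQ
    exact hne Q (hfin.mem_toFinset.mp hQ)
  rw [hempty, Finset.sum_empty] at hsum
  have h1 : 0 < Module.finrank K K' := Module.finrank_pos
  have h2 := LeadFF.deg_pos hK P
  have := Nat.mul_pos h1 h2
  omega

end Over

variable {k : Type u} {K : Type v} [Field k] [PerfectField k] [CharP k 2] [Field K] [Algebra k K]
  [Algebra (RatFunc k) K] [IsScalarTower k (RatFunc k) K]
  (hdeg : Module.finrank (RatFunc k) K = 2) [Algebra.IsSeparable (RatFunc k) K]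
  {y : K} (hy : y ∉ Set.range (algebraMap (RatFunc k) K)) {f : RatFunc k}
  (heq : y ^ 2 + y = algebraMap (RatFunc k) K f)
  {B : Finset k} {d : k → ℕ} (hd : ∀ β ∈ B, Odd (d β))
  (hpole : ∀ (p : Place k (RatFunc k)) (β : k), β ∈ B →
    p.1 ((RatFunc.X : RatFunc k) - RatFunc.C β) < 1 → p.ord f = -(d β : ℤ))
  (hint : ∀ p : Place k (RatFunc k),
    (∀ β ∈ B, 1 ≤ p.1 ((RatFunc.X : RatFunc k) - RatFunc.C β)) → p.1 f ≤ 1)

include hdeg hy heq hd hpole in
/-- the place of `k(x)` below a place above `α ∈ B`. -/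
theorem below_pole {α : k} (hα : α ∈ B) (P : Place k K)
    (h : P.1 (algebraMap (RatFunc k) K RatFunc.X - algebraMap k K α) < 1) :
    ∃ p : Place k (RatFunc k), p.1 (RatFunc.X - RatFunc.C α) < 1 ∧ IsOverWith P p 2 ∧
      p.1 f = exp (d α : ℤ) := by
  haveI : FiniteDimensional (RatFunc k) K :=
    Module.finite_of_finrank_pos (by rw [hdeg]; norm_num)
  obtain ⟨p, e, he0, he⟩ := exists_below (isFunctionField_ratFunc (k := k)) P
  rw [xsub_eq, he] at h
  have hp : p.1 (RatFunc.X - RatFunc.C α) < 1 := by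
    by_contra hge
    rw [not_lt] at hge
    exact absurd h (not_lt.mpr (one_le_pow₀ hge))
  have hord := hpole p α hα hp
  have hdα := hd α hα
  have hd1 : 1 ≤ d α := hdα.pos
  have hf0 : f ≠ 0 := by
    rintro rfl
    unfold Place.ord at hord
    simp at hord
    omega
  have h2 : ringChar k = 2 := ringChar.eq k 2
  have hodd : Odd (p.ord f) := by
    rw [hord]
    exact ((Int.odd_coe_nat _).mpr hdα).neg
  have hram := (artin_schreier_ramification h2 hdeg y hy f heq p).1 ⟨by rw [hord]; omega, hodd⟩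
  have he2 : IsOverWith P p 2 := (hram.2 P ⟨e, he⟩).1
  have hpf : p.1 f = exp (d α : ℤ) := by
    rw [LeadFG.val_eq_exp_neg_ord p hf0, hord, neg_neg]
  exact ⟨p, hp, he2, hpf⟩

include hdeg hy heq hint in
/-- the place of `k(x)` below a place above `∞`. -/
theorem below_infty (P : Place k K) (h : 1 < P.1 (algebraMap (RatFunc k) K RatFunc.X)) :
    ∃ p : Place k (RatFunc k), 1 < p.1 (RatFunc.X : RatFunc k) ∧ IsOverWith P p 1 := by
  haveI : FiniteDimensional (RatFunc k) K :=
    Module.finite_of_finrank_pos (by rw [hdeg]; norm_num)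
  obtain ⟨p, e, he0, he⟩ := exists_below (isFunctionField_ratFunc (k := k)) P
  rw [he] at h
  have hp : 1 < p.1 RatFunc.X := by
    by_contra hle
    rw [not_lt] at hle
    exact absurd h (not_lt.mpr (pow_le_one₀ zero_le' hle))
  have hf : p.1 f ≤ 1 := by
    apply hint p
    intro β _
    rw [val_X_sub_C_infty p hp]
    exact hp.le
  have h2 : ringChar k = 2 := ringChar.eq k 2
  have he1 : IsOverWith P p 1 :=
    (artin_schreier_ramification h2 hdeg y hy f heq p).2 (ord_nonneg_of_val_le_one p hf) P ⟨e, he⟩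
  exact ⟨p, hp, he1⟩

include hdeg hy heq hint in
/-- the place of `k(x)` below one of the other places. -/
theorem below_elsewhere (P : Place k K) (h : P.1 (algebraMap (RatFunc k) K RatFunc.X) ≤ 1)
    (hB : ∀ β ∈ B, 1 ≤ P.1 (algebraMap (RatFunc k) K RatFunc.X - algebraMap k K β)) :
    ∃ p : Place k (RatFunc k), p.1 (RatFunc.X : RatFunc k) ≤ 1 ∧
      (∀ β ∈ B, 1 ≤ p.1 (RatFunc.X - RatFunc.C β)) ∧ IsOverWith P p 1 := by
  haveI : FiniteDimensional (RatFunc k) K :=
    Module.finite_of_finrank_pos (by rw [hdeg]; norm_num)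
  obtain ⟨p, e, he0, he⟩ := exists_below (isFunctionField_ratFunc (k := k)) P
  have hpB : ∀ β ∈ B, 1 ≤ p.1 (RatFunc.X - RatFunc.C β) := by
    intro β hβ
    have := hB β hβ
    rw [xsub_eq, he] at this
    by_contra hlt
    rw [not_le] at hlt
    exact absurd this (not_le.mpr (pow_lt_one₀ zero_le' hlt he0.ne'))
  have hf : p.1 f ≤ 1 := hint p hpB
  have hpX : p.1 (RatFunc.X : RatFunc k) ≤ 1 := by
    rw [he] at h
    by_contra hlt
    rw [not_le] at hlt
    exact absurd h (not_le.mpr (one_lt_pow₀ hlt he0.ne'))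
  have h2 : ringChar k = 2 := ringChar.eq k 2
  have he1 : IsOverWith P p 1 :=
    (artin_schreier_ramification h2 hdeg y hy f heq p).2 (ord_nonneg_of_val_le_one p hf) P ⟨e, he⟩
  exact ⟨p, hpX, hpB, he1⟩

section DX
variable {F : Type w} [Field F] [Algebra k F]

omit [PerfectField k] [CharP k 2] [Algebra.IsSeparable (RatFunc k) K] in
lemma D_x_sub (ψ : K →ₐ[k] LaurentSeries F) (c : k) :
    LocRes.D F (ψ (algebraMap (RatFunc k) K RatFunc.X - algebraMap k K c)) =
      LocRes.D F (ψ (algebraMap (RatFunc k) K RatFunc.X)) := by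
  rw [map_sub, map_sub, LocRes.map_algebraMap, D_C, sub_zero]

omit [PerfectField k] [CharP k 2] [Algebra.IsSeparable (RatFunc k) K] in
/-- `dx` has order `0` where `x - c` is a uniformizer. -/
theorem val_D_x_of_unif (P : Place k K) (ψ : K →ₐ[k] LaurentSeries F)
    (hψ : LocRes.IsExpansionAt P.1 ψ) {c : k}
    (h : P.1 (algebraMap (RatFunc k) K RatFunc.X - algebraMap k K c) = exp (-1 : ℤ)) :
    Valued.v (LocRes.D F (ψ (algebraMap (RatFunc k) K RatFunc.X))) = 1 := by
  rw [← D_x_sub ψ c]
  have := val_D_of_ne (F := F) (f := ψ (algebraMap (RatFunc k) K RatFunc.X - algebraMap k K c))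
    (n := 1) (by rw [hψ.1, h]) (by simp)
  simpa using this

omit [PerfectField k] [CharP k 2] [Algebra.IsSeparable (RatFunc k) K] in
/-- `dx` has order `-2` where `x` has a simple pole. -/
theorem val_D_x_of_pole (P : Place k K) (ψ : K →ₐ[k] LaurentSeries F)
    (hψ : LocRes.IsExpansionAt P.1 ψ)
    (h : P.1 (algebraMap (RatFunc k) K RatFunc.X) = exp (1 : ℤ)) :
    Valued.v (LocRes.D F (ψ (algebraMap (RatFunc k) K RatFunc.X))) = exp (2 : ℤ) := by
  have := val_D_of_ne (F := F) (f := ψ (algebraMap (RatFunc k) K RatFunc.X))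
    (n := -1) (by rw [hψ.1, h]; simp) (by simp)
  simpa using this

end DX

end Groth.Agent.Lib.LeadAS
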