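import Groth.Agent.Lib.LeadAS7

/-! Artin–Schreier curves in characteristic 2: the order of `dx` at the ramified places and the
translation of regularity of `u dx` into pole bounds (for S19044). -/

namespace Groth.Agent.Lib.LeadAS

open FunFld WithZero Polynomial Groth.Agent.Lib.LeadFF Groth.Agent.Lib.LeadMS Groth.Agent.Lib.LeadWD

universe u v w

lemma zm0_mul_exp_le_one_iff (a : WithZero (Multiplicative ℤ)) (m : ℤ) :
    a * exp m ≤ 1 ↔ a ≤ exp (-m) := by
  by_cases h0 : a = 0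
  · subst h0; simp
  · rw [← exp_log h0, ← exp_add, ← exp_zero, exp_le_exp, exp_le_exp]
    constructor <;> intro h <;> omega

variable {k : Type u} {K : Type v} [Field k] [IsAlgClosed k] [CharP k 2] [Field K] [Algebra k K]
  [Algebra (RatFunc k) K] [IsScalarTower k (RatFunc k) K]
  (hdeg : Module.finrank (RatFunc k) K = 2) [Algebra.IsSeparable (RatFunc k) K]
  {y : K} (hy : y ∉ Set.range (algebraMap (RatFunc k) K)) {f : RatFunc k}
  (heq : y ^ 2 + y = algebraMap (RatFunc k) K f)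
  {B : Finset k} {d : k → ℕ} (hd : ∀ β ∈ B, Odd (d β))
  (hpole : ∀ (p : Place k (RatFunc k)) (β : k), β ∈ B →
    p.1 ((RatFunc.X : RatFunc k) - RatFunc.C β) < 1 → p.ord f = -(d β : ℤ))
  (hint : ∀ p : Place k (RatFunc k),
    (∀ β ∈ B, 1 ≤ p.1 ((RatFunc.X : RatFunc k) - RatFunc.C β)) → p.1 f ≤ 1)

section DXpole
variable {F : Type w} [Field F] [Algebra k F]

include hdeg hy heq hd hpole in
/-- `dx` has order `d_α + 1` at the place above `α ∈ B`. -/
theorem val_D_x_at_pole {α : k} (hα : α ∈ B) (P : Place k K)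
    (h : P.1 (algebraMap (RatFunc k) K RatFunc.X - algebraMap k K α) < 1)
    (ψ : K →ₐ[k] LaurentSeries F) (hψ : LocRes.IsExpansionAt P.1 ψ) :
    Valued.v (LocRes.D F (ψ (algebraMap (RatFunc k) K RatFunc.X))) = exp (-((d α : ℤ) + 1)) := by
  obtain ⟨p, hp, he2, hpf⟩ := below_pole hdeg hy heq hd hpole hα P h
  obtain ⟨hPy, -, -⟩ := local_at_pole hdeg hy heq hd hpole hα P h
  obtain ⟨φ, hφ⟩ := exists_isExpansionAt (isFunctionField_ratFunc (k := k)) p
  haveI : CharP F 2 := charP_of_injective_algebraMap (algebraMap k F).injective 2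
  haveI : CharP (LaurentSeries F) 2 :=
    charP_of_injective_algebraMap (algebraMap k (LaurentSeries F)).injective 2
  obtain ⟨m, hm⟩ := hd α hα
  have hnk : (((-(d α : ℤ)) : ℤ) : k) ≠ 0 := by
    have h2 : (2 : k) = 0 := CharTwo.two_eq_zero
    rw [hm]; push_cast
    rw [h2]; simp
  have hnF : (((-(d α : ℤ)) : ℤ) : F) ≠ 0 := by
    have h2 : (2 : F) = 0 := CharTwo.two_eq_zero
    rw [hm]; push_cast
    rw [h2]; simp
  -- on k(x)
  have hvφf : Valued.v (LocRes.D k (φ f)) = exp ((d α : ℤ) + 1) := by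
    have := val_D_of_ne (F := k) (f := φ f) (n := -(d α : ℤ)) (by rw [hφ.1, hpf, neg_neg]) hnk
    rw [this]; congr 1; ring
  have hvφX : Valued.v (LocRes.D k (φ RatFunc.X)) = 1 := by
    have h1 : LocRes.D k (φ (RatFunc.X - RatFunc.C α)) = LocRes.D k (φ RatFunc.X) := by
      rw [map_sub, map_sub, ← RatFunc.algebraMap_eq_C, LocRes.map_algebraMap, D_C, sub_zero]
    rw [← h1]
    have := val_D_of_ne (F := k) (f := φ (RatFunc.X - RatFunc.C α)) (n := 1)
      (by rw [hφ.1, val_X_sub_C p hp]) (by simp)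
    simpa using this
  -- on K
  have hDf : LocRes.D F (ψ (algebraMap (RatFunc k) K f)) = LocRes.D F (ψ y) := by
    rw [← heq, map_add, map_pow, map_add, Derivation.leibniz_pow]
    have : ((2 : ℕ) : LaurentSeries F) = 0 := CharP.cast_eq_zero _ 2
    rw [← Nat.cast_smul_eq_nsmul (LaurentSeries F), this, zero_smul, zero_add]
  have hvψf : Valued.v (LocRes.D F (ψ (algebraMap (RatFunc k) K f))) = exp ((d α : ℤ) + 1) := by
    rw [hDf]
    have := val_D_of_ne (F := F) (f := ψ y) (n := -(d α : ℤ)) (by rw [hψ.1, hPy, neg_neg]) hnF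
    rw [this]; congr 1; ring
  have hX0 : LocRes.D k (φ RatFunc.X) ≠ 0 := by
    intro h0; rw [h0, map_zero] at hvφX; exact zero_ne_one hvφX
  have hf0 : LocRes.D k (φ f) ≠ 0 := by
    intro h0; rw [h0, map_zero] at hvφf; exact exp_ne_zero hvφf.symm
  obtain ⟨c, hc0, hc⟩ := exists_ratio' (finrank_kaehler_ratFunc k) φ hX0 hf0
  have h1 := D_expand φ hc
  have h2 := D_expand' ψ hc
  have hpc : p.1 c = exp ((d α : ℤ) + 1) := by
    have := congrArg Valued.v h1
    rw [map_mul, hφ.1, hvφX, mul_one, hvφf] at this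
    exact this.symm
  have := congrArg Valued.v h2
  rw [map_mul, hψ.1, he2, hpc, hvψf, ← exp_nsmul] at this
  set wv := Valued.v (LocRes.D F (ψ (algebraMap (RatFunc k) K RatFunc.X))) with hwv
  have hw0 : wv ≠ 0 := by
    intro h0; rw [h0, mul_zero] at this; exact exp_ne_zero this
  rw [← exp_log hw0, ← exp_add, exp_inj] at this
  rw [← exp_log hw0, exp_inj]
  simp only [smul_eq_mul, nsmul_eq_mul] at this
  push_cast at this
  omega

end DXpole

/-- the pole bounds on `u ∈ k(x)` equivalent to regularity of `u dx`. -/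
def Bd (B : Finset k) (d : k → ℕ) (u : RatFunc k) : Prop :=
  (∀ α ∈ B, ∀ p : Place k (RatFunc k), p.1 (RatFunc.X - RatFunc.C α) < 1 →
      p.1 u ^ 2 ≤ exp ((d α : ℤ) + 1)) ∧
  (∀ p : Place k (RatFunc k), p.1 (RatFunc.X : RatFunc k) ≤ 1 →
      (∀ α ∈ B, 1 ≤ p.1 (RatFunc.X - RatFunc.C α)) → p.1 u ≤ 1) ∧
  (∀ p : Place k (RatFunc k), 1 < p.1 (RatFunc.X : RatFunc k) → p.1 u ≤ exp (-2 : ℤ))

section Reg
variable {F : Type w} [Field F] [Algebra k F]

omit [IsAlgClosed k] [CharP k 2] [Algebra.IsSeparable (RatFunc k) K] in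
lemma vDiff_eq_mul (P : Place k K) (ψ : K →ₐ[k] LaurentSeries F)
    (hψ : LocRes.IsExpansionAt P.1 ψ) (z x : K) :
    LocRes.vDiff ψ z x = P.1 z * Valued.v (LocRes.D F (ψ x)) := by
  unfold LocRes.vDiff
  rw [map_mul, hψ.1]

include hdeg hy heq hd hpole hint in
/-- regularity of `z dx` at `P`, in terms of the value of `z`. -/
theorem regular_iff (P : Place k K) (ψ : K →ₐ[k] LaurentSeries F)
    (hψ : LocRes.IsExpansionAt P.1 ψ) (z : K) :
    LocRes.vDiff ψ z (algebraMap (RatFunc k) K RatFunc.X) ≤ 1 ↔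
      ((∀ α ∈ B, P.1 (algebraMap (RatFunc k) K RatFunc.X - algebraMap k K α) < 1 →
          P.1 z ≤ exp ((d α : ℤ) + 1)) ∧
        (1 < P.1 (algebraMap (RatFunc k) K RatFunc.X) → P.1 z ≤ exp (-2 : ℤ)) ∧
        (P.1 (algebraMap (RatFunc k) K RatFunc.X) ≤ 1 →
          (∀ β ∈ B, 1 ≤ P.1 (algebraMap (RatFunc k) K RatFunc.X - algebraMap k K β)) →
          P.1 z ≤ 1)) := by
  haveI : FiniteDimensional (RatFunc k) K :=
    Module.finite_of_finrank_pos (by rw [hdeg]; norm_num)
  rw [vDiff_eq_mul P ψ hψ]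
  by_cases hinf : 1 < P.1 (algebraMap (RatFunc k) K RatFunc.X)
  · -- infinite place
    obtain ⟨-, hX⟩ := local_at_infty hdeg hy heq hint P hinf
    have hX0 := hX 0
    rw [map_zero, sub_zero] at hX0
    rw [val_D_x_of_pole P ψ hψ hX0, zm0_mul_exp_le_one_iff]
    constructor
    · intro h
      refine ⟨fun α _ hα => ?_, fun _ => h, fun hle => absurd hinf (not_lt.mpr hle)⟩
      rw [hX α] at hα
      exact absurd hα (by rw [← exp_zero, exp_lt_exp]; norm_num)
    · intro h; exact h.2.1 hinf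
  · rw [not_lt] at hinf
    by_cases hB : ∀ β ∈ B, 1 ≤ P.1 (algebraMap (RatFunc k) K RatFunc.X - algebraMap k K β)
    · -- an unramified finite place
      obtain ⟨p, hpX, hpB, he1⟩ := below_elsewhere hdeg hy heq hint P hinf hB
      obtain ⟨c, hc'⟩ := exists_const_sub_lt_one (isFunctionField_ratFunc (k := k)) p hpX
      have hc : p.1 (RatFunc.X - RatFunc.C c) < 1 := by
        rw [← RatFunc.algebraMap_eq_C]; exact hc'
      have hPc : P.1 (algebraMap (RatFunc k) K RatFunc.X - algebraMap k K c) = exp (-1 : ℤ) := by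
        rw [xsub_eq, he1, pow_one, val_X_sub_C p hc]
      rw [val_D_x_of_unif P ψ hψ hPc, mul_one]
      constructor
      · intro h
        refine ⟨fun α hα hlt => absurd hlt (not_lt.mpr (hB α hα)),
          fun hlt => absurd hlt (not_lt.mpr hinf), fun _ _ => h⟩
      · intro h; exact h.2.2 hinf hB
    · push_neg at hB
      obtain ⟨α, hα, hlt⟩ := hB
      rw [val_D_x_at_pole hdeg hy heq hd hpole hα P hlt ψ hψ, zm0_mul_exp_le_one_iff, neg_neg]
      obtain ⟨-, -, hother⟩ := local_at_pole hdeg hy heq hd hpole hα P hlt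
      constructor
      · intro h
        refine ⟨fun β hβ hβlt => ?_, fun hlt' => absurd hlt' (not_lt.mpr hinf),
          fun _ hB' => absurd hlt (not_lt.mpr (hB' α hα))⟩
        by_cases hβα : β = α
        · rw [hβα]; exact h
        · rw [hother β hβα] at hβlt
          exact absurd hβlt (lt_irrefl _)
      · intro h; exact h.1 α hα hlt

end Reg

end Groth.Agent.Lib.LeadAS
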