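import Groth.Agent.Lib.LeadAS8

/-! Artin–Schreier curves in characteristic 2: regular differentials `z dx` have `z ∈ k(x)` with
bounded poles (for S19044). -/

namespace Groth.Agent.Lib.LeadAS

open FunFld WithZero Polynomial Groth.Agent.Lib.LeadFF Groth.Agent.Lib.LeadMS Groth.Agent.Lib.LeadWD

universe u v w

variable {k : Type u} {K : Type v} [Field k] [IsAlgClosed k] [CharP k 2] [Field K] [Algebra k K]
  [Algebra (RatFunc k) K] [IsScalarTower k (RatFunc k) K]
  (hdeg : Module.finrank (RatFunc k) K = 2) [Algebra.IsSeparable (RatFunc k) K]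
  {y : K} (hy : y ∉ Set.range (algebraMap (RatFunc k) K)) {f : RatFunc k}
  (heq : y ^ 2 + y = algebraMap (RatFunc k) K f)
  {B : Finset k} {d : k → ℕ} (hd : ∀ β ∈ B, Odd (d β))
  (hpole : ∀ (p : Place k (RatFunc k)) (β : k), β ∈ B →
    p.1 ((RatFunc.X : RatFunc k) - RatFunc.C β) < 1 → p.ord f = -(d β : ℤ))
  (hint : ∀ p : Place k (RatFunc k),
    (∀ β ∈ B, 1 ≤ p.1 ((RatFunc.X : RatFunc k) - RatFunc.C β)) → p.1 f ≤ 1)

/-- the pole bounds on `z ∈ K` equivalent to regularity of `z dx`. -/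
def BdK (K : Type v) [Field K] [Algebra k K] [Algebra (RatFunc k) K] (B : Finset k) (d : k → ℕ)
    (z : K) : Prop :=
  ∀ P : Place k K,
    ((∀ α ∈ B, P.1 (algebraMap (RatFunc k) K RatFunc.X - algebraMap k K α) < 1 →
          P.1 z ≤ exp ((d α : ℤ) + 1)) ∧
        (1 < P.1 (algebraMap (RatFunc k) K RatFunc.X) → P.1 z ≤ exp (-2 : ℤ)) ∧
        (P.1 (algebraMap (RatFunc k) K RatFunc.X) ≤ 1 →
          (∀ β ∈ B, 1 ≤ P.1 (algebraMap (RatFunc k) K RatFunc.X - algebraMap k K β)) →
          P.1 z ≤ 1))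

omit [IsAlgClosed k] [CharP k 2] [IsScalarTower k (RatFunc k) K] [Algebra.IsSeparable (RatFunc k) K] in
lemma BdK.sub {z z' : K} (h : BdK K B d z) (h' : BdK K B d z') : BdK K B d (z - z') := by
  intro P
  obtain ⟨h1, h2, h3⟩ := h P
  obtain ⟨h1', h2', h3'⟩ := h' P
  refine ⟨fun α hα hlt => ?_, fun hlt => ?_, fun hle hB => ?_⟩
  · exact (Valuation.map_sub _ _ _).trans (max_le (h1 α hα hlt) (h1' α hα hlt))
  · exact (Valuation.map_sub _ _ _).trans (max_le (h2 hlt) (h2' hlt))
  · exact (Valuation.map_sub _ _ _).trans (max_le (h3 hle hB) (h3' hle hB))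

omit [IsAlgClosed k] [CharP k 2] [Algebra.IsSeparable (RatFunc k) K] in
lemma BdK.conj {z : K} (h : BdK K B d z) (σ : K ≃ₐ[RatFunc k] K) : BdK K B d (σ z) := by
  intro P
  have hfix : ∀ g : RatFunc k, (σ.restrictScalars k) (algebraMap (RatFunc k) K g) =
      algebraMap (RatFunc k) K g := fun g => σ.commutes g
  have hx : ∀ β : k, (conjPlace (σ.restrictScalars k) P).1
      (algebraMap (RatFunc k) K RatFunc.X - algebraMap k K β) =
      P.1 (algebraMap (RatFunc k) K RatFunc.X - algebraMap k K β) := by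
    intro β
    rw [conjPlace_apply, xsub_eq, hfix]
  have hX : (conjPlace (σ.restrictScalars k) P).1 (algebraMap (RatFunc k) K RatFunc.X) =
      P.1 (algebraMap (RatFunc k) K RatFunc.X) := by
    rw [conjPlace_apply, hfix]
  obtain ⟨h1, h2, h3⟩ := h (conjPlace (σ.restrictScalars k) P)
  have hz : (conjPlace (σ.restrictScalars k) P).1 z = P.1 (σ z) := conjPlace_apply _ _ _
  rw [hz, hX] at h2 h3
  refine ⟨fun α hα hlt => ?_, h2, fun hle hB => ?_⟩
  · have := h1 α hα (by rw [hx]; exact hlt)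
    rwa [hz] at this
  · apply h3 hle
    intro β hβ
    rw [hx]; exact hB β hβ

include hdeg hy in
omit [IsAlgClosed k] [CharP k 2] [IsScalarTower k (RatFunc k) K] [Algebra.IsSeparable (RatFunc k) K] in
lemma exists_repr (z : K) : ∃ u v : RatFunc k,
    z = algebraMap (RatFunc k) K u + algebraMap (RatFunc k) K v * y := by
  have hli : LinearIndependent (RatFunc k) ![(1 : K), y] := by
    rw [LinearIndependent.pair_iff]
    intro s t hst
    by_cases ht : t = 0
    · subst ht
      rw [zero_smul, add_zero, Algebra.smul_def, mul_one] at hst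
      exact ⟨(map_eq_zero _).mp hst, rfl⟩
    · exfalso
      apply hy
      refine ⟨-s / t, ?_⟩
      rw [Algebra.smul_def, Algebra.smul_def, mul_one] at hst
      have ht' : algebraMap (RatFunc k) K t ≠ 0 := (_root_.map_ne_zero _).mpr ht
      rw [map_div₀, map_neg]
      field_simp
      linear_combination (-1 : K) * hst
  let b := basisOfLinearIndependentOfCardEqFinrank hli (by simp [hdeg])
  have hb : ⇑b = ![(1 : K), y] := coe_basisOfLinearIndependentOfCardEqFinrank hli _
  have := b.sum_repr z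
  rw [Fin.sum_univ_two, hb] at this
  refine ⟨b.repr z 0, b.repr z 1, ?_⟩
  simpa [Algebra.smul_def] using this.symm

include hdeg hy heq hd hpole in
/-- parity argument at a ramified place. -/
lemma val_v_le_one_at_pole {α : k} (hα : α ∈ B) (P : Place k K)
    (hP : P.1 (algebraMap (RatFunc k) K RatFunc.X - algebraMap k K α) < 1)
    (p : Place k (RatFunc k)) (he2 : IsOverWith P p 2) (u v : RatFunc k)
    (hz : P.1 (algebraMap (RatFunc k) K u + algebraMap (RatFunc k) K v * y) ≤
      exp ((d α : ℤ) + 1)) : p.1 v ≤ 1 := by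
  obtain ⟨hPy, -, -⟩ := local_at_pole hdeg hy heq hd hpole hα P hP
  obtain ⟨m, hm⟩ := hd α hα
  by_cases hv : v = 0
  · rw [hv, map_zero]; exact zero_le'
  have hpv : p.1 v ≠ 0 := (Valuation.ne_zero_iff _).mpr hv
  have hPvy : P.1 (algebraMap (RatFunc k) K v * y) = exp (2 * log (p.1 v) + (d α : ℤ)) := by
    rw [map_mul, he2, hPy]
    nth_rewrite 1 [← exp_log hpv]
    rw [← exp_nsmul, ← exp_add]
    congr 1
  have hfin : exp (2 * log (p.1 v) + (d α : ℤ)) ≤ exp ((d α : ℤ) + 1) → p.1 v ≤ 1 := by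
    intro h
    rw [exp_le_exp] at h
    have h' : p.1 v = exp (log (p.1 v)) := (exp_log hpv).symm
    rw [h']
    calc exp (log (p.1 v)) ≤ exp 0 := exp_le_exp.mpr (by omega)
      _ = 1 := exp_zero
  apply hfin
  by_cases hu : u = 0
  · rw [hu, map_zero, zero_add, hPvy] at hz
    exact hz
  have hpu : p.1 u ≠ 0 := (Valuation.ne_zero_iff _).mpr hu
  have hPu : P.1 (algebraMap (RatFunc k) K u) = exp (2 * log (p.1 u)) := by
    rw [he2]
    nth_rewrite 1 [← exp_log hpu]
    rw [← exp_nsmul]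
    congr 1
  have hne : P.1 (algebraMap (RatFunc k) K u) ≠ P.1 (algebraMap (RatFunc k) K v * y) := by
    rw [hPu, hPvy]
    intro h
    rw [exp_inj] at h
    omega
  rw [Valuation.map_add_of_distinct_val _ hne] at hz
  rw [← hPvy]
  exact (le_max_right _ _).trans hz

include hdeg hy heq hd hpole hint in
/-- `z dx` regular forces `z ∈ k(x)`, with bounded poles. -/
theorem exists_Bd_of_BdK {z : K} (hz : BdK K B d z) :
    ∃ u : RatFunc k, z = algebraMap (RatFunc k) K u ∧ Bd B d u := by
  haveI : FiniteDimensional (RatFunc k) K :=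
    Module.finite_of_finrank_pos (by rw [hdeg]; norm_num)
  have hKr := isFunctionField_ratFunc (k := k)
  obtain ⟨u, v, huv⟩ := exists_repr hdeg hy z
  obtain ⟨σ, hσ⟩ := exists_conj hdeg hy heq
  have hσz : σ z - z = algebraMap (RatFunc k) K v := by
    rw [huv, map_add, map_mul, σ.commutes, σ.commutes, hσ]; ring
  have hvK : BdK K B d (algebraMap (RatFunc k) K v) := by
    rw [← hσz]; exact (hz.conj σ).sub hz
  -- translation of values through a place above
  have hpow_le : ∀ (a : WithZero (Multiplicative ℤ)) (e : ℕ), 0 < e → a ^ e ≤ 1 → a ≤ 1 := by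
    intro a e he h
    by_contra hlt
    rw [not_le] at hlt
    exact absurd h (not_le.mpr (one_lt_pow₀ hlt he.ne'))
  -- general facts for a place p of k(x) and P above it
  have key : ∀ (p : Place k (RatFunc k)) (g : RatFunc k),
      BdK K B d (algebraMap (RatFunc k) K g) →
      (p.1 (RatFunc.X : RatFunc k) ≤ 1 → (∀ α ∈ B, 1 ≤ p.1 (RatFunc.X - RatFunc.C α)) →
        p.1 g ≤ 1) ∧
      (1 < p.1 (RatFunc.X : RatFunc k) → p.1 g ≤ exp (-2 : ℤ)) ∧
      (∀ α ∈ B, p.1 (RatFunc.X - RatFunc.C α) < 1 → p.1 g ^ 2 ≤ exp ((d α : ℤ) + 1)) := by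
    intro p g hg
    obtain ⟨P, e, he⟩ := exists_over (K' := K) hKr p
    have he0 : 0 < e := isOverWith_pos he
    obtain ⟨h1, h2, h3⟩ := hg P
    refine ⟨fun hX hB => ?_, fun hX => ?_, fun α hα hlt => ?_⟩
    · apply hpow_le _ e he0
      rw [← he]
      apply h3
      · rw [he]; exact pow_le_one₀ zero_le' hX
      · intro β hβ
        rw [xsub_eq, he]; exact one_le_pow₀ (hB β hβ)
    · have hPX : 1 < P.1 (algebraMap (RatFunc k) K RatFunc.X) := by
        rw [he]; exact one_lt_pow₀ hX he0.ne'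
      obtain ⟨p', hp', he1⟩ := below_infty hdeg hy heq hint P hPX
      obtain ⟨hpp, hee⟩ := isOverWith_unique he he1
      subst hee
      have := h2 hPX
      rwa [he, pow_one] at this
    · have hPα : P.1 (algebraMap (RatFunc k) K RatFunc.X - algebraMap k K α) < 1 := by
        rw [xsub_eq, he]; exact pow_lt_one₀ zero_le' hlt he0.ne'
      obtain ⟨p', hp', he2, -⟩ := below_pole hdeg hy heq hd hpole hα P hPα
      obtain ⟨hpp, hee⟩ := isOverWith_unique he he2
      subst hee
      have := h1 α hα hPα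
      rwa [he] at this
  -- v is integral everywhere
  have hv_int : ∀ p : Place k (RatFunc k), p.1 v ≤ 1 := by
    intro p
    obtain ⟨k1, k2, k3⟩ := key p v hvK
    by_cases hX : 1 < p.1 (RatFunc.X : RatFunc k)
    · refine (k2 hX).trans ?_
      rw [← exp_zero, exp_le_exp]; norm_num
    · rw [not_lt] at hX
      by_cases hB : ∀ α ∈ B, 1 ≤ p.1 (RatFunc.X - RatFunc.C α)
      · exact k1 hX hB
      · push_neg at hB
        obtain ⟨α, hα, hlt⟩ := hB
        obtain ⟨P, e, he⟩ := exists_over (K' := K) hKr p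
        have he0 : 0 < e := isOverWith_pos he
        have hPα : P.1 (algebraMap (RatFunc k) K RatFunc.X - algebraMap k K α) < 1 := by
          rw [xsub_eq, he]; exact pow_lt_one₀ zero_le' hlt he0.ne'
        obtain ⟨p', hp', he2, -⟩ := below_pole hdeg hy heq hd hpole hα P hPα
        obtain ⟨hpp, hee⟩ := isOverWith_unique he he2
        subst hee
        apply val_v_le_one_at_pole hdeg hy heq hd hpole hα P hPα p he u v
        rw [← huv]
        exact (hz P).1 α hα hPα
  obtain ⟨qi, hqi⟩ := exists_place_infty (k := k)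
  have hv0 : v = 0 := by
    apply eq_zero_of_integral v hv_int qi
    refine lt_of_le_of_lt ((key qi v hvK).2.1 hqi) ?_
    rw [← exp_zero, exp_lt_exp]; norm_num
  rw [hv0, map_zero, zero_mul, add_zero] at huv
  refine ⟨u, huv, ?_⟩
  rw [huv] at hz
  refine ⟨fun α hα p hlt => (key p u hz).2.2 α hα hlt, fun p hX hB => (key p u hz).1 hX hB,
    fun p hX => (key p u hz).2.1 hX⟩

include hdeg hy heq hd hpole hint in
/-- conversely, the pole bounds on `u ∈ k(x)` give the bounds on `K`. -/
theorem BdK_of_Bd {u : RatFunc k} (hu : Bd B d u) : BdK K B d (algebraMap (RatFunc k) K u) := by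
  intro P
  obtain ⟨b1, b2, b3⟩ := hu
  refine ⟨fun α hα hlt => ?_, fun hX => ?_, fun hX hB => ?_⟩
  · obtain ⟨p, hp, he2, -⟩ := below_pole hdeg hy heq hd hpole hα P hlt
    rw [he2]; exact b1 α hα p hp
  · obtain ⟨p, hp, he1⟩ := below_infty hdeg hy heq hint P hX
    rw [he1, pow_one]; exact b3 p hp
  · obtain ⟨p, hpX, hpB, he1⟩ := below_elsewhere hdeg hy heq hint P hX hB
    rw [he1, pow_one]; exact b2 p hpX hpB

end Groth.Agent.Lib.LeadAS
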