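import Mathlib

/-!
# Lead: the limit of an adic system is adically complete with the expected quotients (algebra part)

`le_pow_smul_top_of_adic`: let `P` be a module with a decreasing chain of submodules `K p` (kernels of
projections to an inverse system) which is separated, satisfies `K p ≤ I^(p+1) P + K (p+1)`, and admits a
retraction `ρ : P^ → P` of the completion compatible with the chain; then `K n ≤ I^(n+1) P` (for `I`
finitely generated).
-/

set_option autoImplicit false
universe u

namespace Groth.Agent.Lib.LeadAdicLim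

open Submodule

theorem le_pow_smul_top_of_adic {R : Type*} [CommRing R] (I : Ideal R) (hI : I.FG)
    {P : Type*} [AddCommGroup P] [Module R P] (K : ℕ → Submodule R P)
    (hK_anti : Antitone K)
    (hK_inf : ∀ x : P, (∀ p, x ∈ K p) → x = 0)
    (hstep : ∀ p, K p ≤ I ^ (p + 1) • (⊤ : Submodule R P) ⊔ K (p + 1))
    (ρ : AdicCompletion I P →ₗ[R] P)
    (hρ : ∀ (p : ℕ) (ξ : AdicCompletion I P) (v : P),
      AdicCompletion.eval I P (p + 1) ξ = Submodule.Quotient.mk v → ρ ξ - v ∈ K p)
    (n : ℕ) : K n ≤ I ^ (n + 1) • (⊤ : Submodule R P) := by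
  intro x hx
  -- the recursive construction
  have step : ∀ (j : ℕ) (u : {u : P // x - u ∈ K (n + j)}),
      ∃ u' : {u : P // x - u ∈ K (n + (j + 1))},
        u'.1 - u.1 ∈ I ^ (n + j + 1) • (⊤ : Submodule R P) := by
    rintro j ⟨u, hu⟩
    obtain ⟨y, hy, z, hz, hyz⟩ := Submodule.mem_sup.mp (hstep (n + j) hu)
    refine ⟨⟨u + y, ?_⟩, ?_⟩
    · have e : x - (u + y) = z := by rw [← sub_sub, ← hyz]; abel
      rw [e]; exact hz
    · simpa using hy
  choose next hnext using step
  let s : (j : ℕ) → {u : P // x - u ∈ K (n + j)} := fun j =>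
    Nat.rec (motive := fun j => {u : P // x - u ∈ K (n + j)}) ⟨0, by simpa using hx⟩
      (fun j u => next j u) j
  have hs_succ : ∀ j, s (j + 1) = next j (s j) := fun j => rfl
  have hs0 : (s 0).1 = 0 := rfl
  let u : ℕ → P := fun j => (s j).1
  have hu_mem : ∀ j, x - u j ∈ K (n + j) := fun j => (s j).2
  have hu_diff : ∀ j, u (j + 1) - u j ∈ I ^ (n + j + 1) • (⊤ : Submodule R P) := by
    intro j
    change (s (j + 1)).1 - (s j).1 ∈ _
    rw [hs_succ]
    exact hnext j (s j)
  have hu_top : ∀ j, u j ∈ I ^ (n + 1) • (⊤ : Submodule R P) := by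
    intro j
    induction j with
    | zero => change (s 0).1 ∈ _; rw [hs0]; exact zero_mem _
    | succ j ih =>
      have h1 : u (j + 1) - u j ∈ I ^ (n + 1) • (⊤ : Submodule R P) :=
        Submodule.smul_mono_left (Ideal.pow_le_pow_right (by omega)) (hu_diff j)
      have := add_mem h1 ih
      simpa using this
  -- the Cauchy sequence
  have hcauchy : ∀ j, u j ≡ u (j + 1) [SMOD (I ^ j • ⊤ : Submodule R P)] := by
    intro j
    rw [SModEq.comm, SModEq.sub_mem]
    exact Submodule.smul_mono_left (Ideal.pow_le_pow_right (by omega)) (hu_diff j)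
  let f : AdicCompletion.AdicCauchySequence I P := AdicCompletion.AdicCauchySequence.mk I P u hcauchy
  let ξ : AdicCompletion I P := AdicCompletion.mk I P f
  have hξ_eval : ∀ j, AdicCompletion.eval I P j ξ = Submodule.Quotient.mk (u j) := fun j => rfl
  have hξ_mem : ξ ∈ I ^ (n + 1) • (⊤ : Submodule R (AdicCompletion I P)) := by
    rw [AdicCompletion.pow_smul_top_eq_ker_eval hI, LinearMap.mem_ker, hξ_eval]
    exact (Submodule.Quotient.mk_eq_zero _).mpr (hu_top (n + 1))
  have hρξ : ρ ξ ∈ I ^ (n + 1) • (⊤ : Submodule R P) := by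
    have h1 : ρ ξ ∈ Submodule.map ρ (I ^ (n + 1) • (⊤ : Submodule R (AdicCompletion I P))) :=
      Submodule.mem_map_of_mem hξ_mem
    rw [Submodule.map_smul''] at h1
    exact Submodule.smul_mono le_rfl le_top h1
  have hx_eq : ρ ξ = x := by
    rw [← sub_eq_zero]
    apply hK_inf
    intro p
    have h1 : ρ ξ - u (p + 1) ∈ K p := hρ p ξ (u (p + 1)) (hξ_eval (p + 1))
    have h2 : x - u (p + 1) ∈ K p := hK_anti (by omega) (hu_mem (p + 1))
    have := sub_mem h1 h2
    simpa using this
  rw [← hx_eq]
  exact hρξ

section Cat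

open CategoryTheory CategoryTheory.Limits Opposite

variable {A : Type u} [CommRing A] (N : ℕᵒᵖ ⥤ ModuleCat.{u} A)

theorem map_map_apply {a b c : ℕ} (h : a ≤ b) (h' : b ≤ c) (x : N.obj (op c)) :
    (N.map (homOfLE h).op).hom ((N.map (homOfLE h').op).hom x) =
      (N.map (homOfLE (h.trans h')).op).hom x := by
  have e : N.map (homOfLE h').op ≫ N.map (homOfLE h).op = N.map (homOfLE (h.trans h')).op := by
    rw [← N.map_comp]
    exact congrArg N.map (Subsingleton.elim _ _)
  rw [← e]
  rfl

theorem map_refl_apply {a : ℕ} (h : a ≤ a) (x : N.obj (op a)) :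
    (N.map (homOfLE h).op).hom x = x := by
  have e : N.map (homOfLE h).op = 𝟙 _ := by
    rw [← N.map_id]
    exact congrArg N.map (Subsingleton.elim _ _)
  rw [e]
  rfl

theorem π_map_apply {a b : ℕ} (h : a ≤ b) (x : ↑(limit N)) :
    (N.map (homOfLE h).op).hom ((limit.π N (op b)).hom x) = (limit.π N (op a)).hom x := by
  rw [← limit.w N (homOfLE h).op]
  rfl

/-- a compatible family gives an element of the limit. -/
theorem exists_of_compatible (z : ∀ p : ℕ, N.obj (op p))
    (hz : ∀ p, (N.map (homOfLE (Nat.le_succ p)).op).hom (z (p + 1)) = z p) :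
    ∃ x : ↑(limit N), ∀ p, (limit.π N (op p)).hom x = z p := by
  have hz' : ∀ (p p' : ℕ) (h : p ≤ p'), (N.map (homOfLE h).op).hom (z p') = z p := by
    intro p p' h
    induction p', h using Nat.le_induction with
    | base => exact map_refl_apply N _ _
    | succ k hk ih =>
      rw [← map_map_apply N hk (Nat.le_succ k), hz k, ih]
  let c : Cone N :=
    { pt := ModuleCat.of A A
      π :=
        { app := fun j => ModuleCat.ofHom (LinearMap.toSpanSingleton A _ (z j.unop))
          naturality := by
            intro j j' f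
            have hle : j'.unop ≤ j.unop := leOfHom f.unop
            have hf : f = (homOfLE hle).op := Subsingleton.elim _ _
            ext
            simp only [Functor.const_obj_obj, Functor.const_obj_map, Category.id_comp,
              ModuleCat.hom_comp, ModuleCat.hom_ofHom, LinearMap.comp_apply,
              LinearMap.toSpanSingleton_apply, one_smul]
            rw [hf]
            exact (hz' _ _ hle).symm } }
  refine ⟨(limit.lift N c).hom (1 : A), fun p => ?_⟩
  have h1 : limit.lift N c ≫ limit.π N (op p) = c.π.app (op p) := limit.lift_π c (op p)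
  have h2 := congrArg (fun g => g.hom (1 : A)) h1
  simp only [ModuleCat.hom_comp, LinearMap.comp_apply] at h2
  rw [h2]
  simp [c]

theorem surjective_limit_π
    (hsurj : ∀ p, Function.Surjective (N.map (homOfLE (Nat.le_succ p)).op).hom) (p : ℕ) :
    Function.Surjective (limit.π N (op p)).hom := by
  intro z0
  choose lift hlift using hsurj
  let v : (j : ℕ) → N.obj (op (p + j)) := fun j =>
    Nat.rec (motive := fun j => N.obj (op (p + j))) z0 (fun j x => lift (p + j) x) j
  have hv_succ : ∀ j, (N.map (homOfLE (Nat.le_succ (p + j))).op).hom (v (j + 1)) = v j :=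
    fun j => hlift (p + j) (v j)
  have hv0 : ∀ j, (N.map (homOfLE (Nat.le_add_right p j)).op).hom (v j) = z0 := by
    intro j
    induction j with
    | zero => exact map_refl_apply N _ _
    | succ j ih =>
      rw [← map_map_apply N (Nat.le_add_right p j) (Nat.le_succ (p + j)), hv_succ, ih]
  obtain ⟨x, hx⟩ := exists_of_compatible N
    (fun q => (N.map (homOfLE (Nat.le_add_left q p)).op).hom (v q)) (fun q => by
      rw [map_map_apply, ← map_map_apply N (Nat.le_add_left q p) (Nat.le_succ (p + q)), hv_succ])
  refine ⟨x, ?_⟩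
  rw [hx p]
  exact hv0 p

/-- the limit of an adic system: the kernel of the projection to the `n`-th term is `I^(n+1)` times
the limit. -/
theorem ker_limit_π_le (I : Ideal A) (hI : I.FG)
    (hsurj : ∀ p, Function.Surjective (N.map (homOfLE (Nat.le_succ p)).op).hom)
    (hker : ∀ p, LinearMap.ker (N.map (homOfLE (Nat.le_succ p)).op).hom ≤
      I ^ (p + 1) • (⊤ : Submodule A (N.obj (op (p + 1)))))
    (hkill : ∀ (p : ℕ) (r : A), r ∈ I ^ (p + 1) → ∀ z : N.obj (op p), r • z = 0) (n : ℕ) :
    LinearMap.ker (limit.π N (op n)).hom ≤ I ^ (n + 1) • (⊤ : Submodule A ↑(limit N)) := by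
  have hle : ∀ p, I ^ (p + 1) • (⊤ : Submodule A ↑(limit N)) ≤
      LinearMap.ker (limit.π N (op p)).hom := by
    intro p
    rw [Submodule.smul_le]
    intro r hr x _
    rw [LinearMap.mem_ker, map_smul]
    exact hkill p r hr _
  -- the retraction
  let q : ∀ p, (↑(limit N) ⧸ (I ^ (p + 1) • (⊤ : Submodule A ↑(limit N)))) →ₗ[A] N.obj (op p) :=
    fun p => Submodule.liftQ _ (limit.π N (op p)).hom (hle p)
  have hq : ∀ p (v : ↑(limit N)), q p (Submodule.Quotient.mk v) = (limit.π N (op p)).hom v :=
    fun p v => rfl
  let c : Cone N :=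
    { pt := ModuleCat.of A (AdicCompletion I ↑(limit N))
      π :=
        { app := fun j => ModuleCat.ofHom ((q j.unop).comp (AdicCompletion.eval I _ (j.unop + 1)))
          naturality := by
            intro j j' f
            have hjj : j'.unop ≤ j.unop := leOfHom f.unop
            have hf : f = (homOfLE hjj).op := Subsingleton.elim _ _
            ext ξ
            simp only [Functor.const_obj_obj, Functor.const_obj_map, Category.id_comp,
              ModuleCat.hom_comp, ModuleCat.hom_ofHom, LinearMap.comp_apply]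
            have e := LinearMap.congr_fun (AdicCompletion.transitionMap_comp_eval I (↑(limit N))
              (Nat.succ_le_succ hjj)) ξ
            rw [LinearMap.comp_apply] at e
            rw [← e]
            obtain ⟨v, hv⟩ := Submodule.Quotient.mk_surjective _
              (AdicCompletion.eval I (↑(limit N)) (j.unop + 1) ξ)
            rw [← hv, hf]
            change (limit.π N (op j'.unop)).hom v =
              (N.map (homOfLE hjj).op).hom ((limit.π N (op j.unop)).hom v)
            exact (π_map_apply N hjj v).symm } }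
  let ρ : AdicCompletion I ↑(limit N) →ₗ[A] ↑(limit N) := (limit.lift N c).hom
  have hρ : ∀ (p : ℕ) (ξ : AdicCompletion I ↑(limit N)),
      (limit.π N (op p)).hom (ρ ξ) = q p (AdicCompletion.eval I _ (p + 1) ξ) := by
    intro p ξ
    have h1 : limit.lift N c ≫ limit.π N (op p) = c.π.app (op p) := limit.lift_π c (op p)
    have h2 := congrArg (fun g => g.hom ξ) h1
    exact h2
  refine le_pow_smul_top_of_adic I hI (fun p => LinearMap.ker (limit.π N (op p)).hom)
    ?_ ?_ ?_ ρ ?_ n
  · apply antitone_nat_of_succ_le
    intro p x hx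
    rw [LinearMap.mem_ker] at hx ⊢
    rw [← π_map_apply N (Nat.le_succ p), hx, map_zero]
  · intro x hx
    apply Concrete.limit_ext N x 0
    intro j
    have := hx j.unop
    rw [LinearMap.mem_ker] at this
    rw [map_zero]
    exact this
  · intro p x hx
    rw [LinearMap.mem_ker] at hx
    have h1 : (limit.π N (op (p + 1))).hom x ∈
        LinearMap.ker (N.map (homOfLE (Nat.le_succ p)).op).hom := by
      rw [LinearMap.mem_ker, π_map_apply, hx]
    have h2 := hker p h1
    have h3 : (⊤ : Submodule A (N.obj (op (p + 1)))) =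
        Submodule.map (limit.π N (op (p + 1))).hom ⊤ := by
      rw [Submodule.map_top, LinearMap.range_eq_top.mpr (surjective_limit_π N hsurj (p + 1))]
    rw [h3, ← Submodule.map_smul''] at h2
    obtain ⟨y, hy, hyx⟩ := h2
    refine Submodule.mem_sup.mpr ⟨y, hy, x - y, ?_, by abel⟩
    rw [LinearMap.mem_ker, map_sub, hyx, sub_self]
  · intro p ξ v hv
    rw [LinearMap.mem_ker, map_sub, hρ p ξ, hv, hq, sub_self]

end Cat

end Groth.Agent.Lib.LeadAdicLim
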