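import Mathlib
import Groth.Prelude.Def_Algz
import Groth.Agent.Lib.Helper27FormalKer

/-!
# Lead: pro-isomorphic adic systems of modules are isomorphic

For inverse systems `F, G : ℕᵒᵖ ⥤ X.Modules` satisfying helper27's `Hyp I` (`G_n` killed by `I^(n+1)` and
`G_{n+1}/I^(n+1)G_{n+1} ≅ G_n`; e.g. coherent formal modules):

* `epi_trLE`: all transition maps are epimorphisms;
* `exists_desc`: a morphism `G_k ⟶ T`, `T` killed by `I^(n+1)`, `n ≤ k`, factors through `G_k ⟶ G_n`;
* `nonempty_iso_of_isProIsomorphic`: pro-isomorphic systems are isomorphic.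
-/

set_option autoImplicit false
set_option linter.style.haveILetI false
universe u
open CategoryTheory Limits AlgebraicGeometry TopologicalSpace Opposite

namespace Groth.Agent.Lib.LeadProIso

open Groth.Agent.Lib.Helper27FormalKer Groth.Agent.Lib.Helper17.IAdic

variable {A : Type u} [CommRing A] {X : Scheme.{u}} [X.Over (Spec (CommRingCat.of A))]

/-- the transition map `G_k ⟶ G_n` for `n ≤ k`. -/
abbrev trLE (G : ℕᵒᵖ ⥤ X.Modules) {n k : ℕ} (h : n ≤ k) : G.obj (op k) ⟶ G.obj (op n) :=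
  G.map (homOfLE h).op

theorem map_eq_trLE (G : ℕᵒᵖ ⥤ X.Modules) {n k : ℕ} (f : op k ⟶ op n) :
    G.map f = trLE G (leOfHom f.unop) :=
  congrArg G.map (Subsingleton.elim _ _)

theorem trLE_refl (G : ℕᵒᵖ ⥤ X.Modules) (n : ℕ) : trLE G (le_refl n) = 𝟙 _ := by
  have : (homOfLE (le_refl n)).op = 𝟙 (op n) := Subsingleton.elim _ _
  rw [trLE, this, G.map_id]

theorem trLE_comp (G : ℕᵒᵖ ⥤ X.Modules) {n k l : ℕ} (h : n ≤ k) (h' : k ≤ l) :
    trLE G h' ≫ trLE G h = trLE G (h.trans h') := by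
  rw [trLE, trLE, ← G.map_comp]
  exact congrArg G.map (Subsingleton.elim _ _)

theorem trLE_succ (G : ℕᵒᵖ ⥤ X.Modules) (n : ℕ) : trLE G (Nat.le_succ n) = tr G n := rfl

variable {I : Ideal A}

theorem epi_trLE {G : ℕᵒᵖ ⥤ X.Modules} (hG : Hyp I G) {n k : ℕ} (h : n ≤ k) : Epi (trLE G h) := by
  induction k, h using Nat.le_induction with
  | base => rw [trLE_refl]; infer_instance
  | succ k h ih =>
    rw [← trLE_comp G h (Nat.le_succ k), trLE_succ]
    haveI := epi_tr hG k
    haveI := ih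
    exact epi_comp _ _

theorem smulFamily_comp_of_killed (J : Ideal A) {M N : X.Modules} (f : M ⟶ N)
    (hN : Formal.KilledBy J N) : Formal.smulFamily J M ≫ f = 0 := by
  apply Sigma.hom_ext
  intro b
  have e : Sigma.ι (fun _ : J => M) b ≫ Formal.smulFamily J M = Formal.smulMod A M (b : A) := by
    simp [Formal.smulFamily]
  rw [comp_zero, ← Category.assoc, e, ← comp_smulMod, hN b.1 b.2, comp_zero]

theorem killedBy_mono {J J' : Ideal A} (h : J' ≤ J) {T : X.Modules} (hT : Formal.KilledBy J T) :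
    Formal.KilledBy J' T := fun a ha => hT a (h ha)

theorem exists_desc {G : ℕᵒᵖ ⥤ X.Modules} (hG : Hyp I G) {n k : ℕ} (h : n ≤ k) {T : X.Modules}
    (hT : Formal.KilledBy (I ^ (n + 1)) T) (φ : G.obj (op k) ⟶ T) :
    ∃ ψ : G.obj (op n) ⟶ T, trLE G h ≫ ψ = φ := by
  induction k, h using Nat.le_induction with
  | base => exact ⟨φ, by rw [trLE_refl, Category.id_comp]⟩
  | succ k h ih =>
    obtain ⟨w, hiso⟩ := hG.quot k
    haveI := hiso
    have hT' : Formal.KilledBy (I ^ (k + 1)) T :=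
      killedBy_mono (Ideal.pow_le_pow_right (Nat.succ_le_succ h)) hT
    have w' := smulFamily_comp_of_killed (I ^ (k + 1)) φ hT'
    obtain ⟨ψ, hψ⟩ := ih (inv (cokernel.desc _ _ w) ≫ cokernel.desc _ φ w')
    refine ⟨ψ, ?_⟩
    rw [← trLE_comp G h (Nat.le_succ k), Category.assoc, hψ, trLE_succ]
    have e : tr G k ≫ inv (cokernel.desc _ _ w) = cokernel.π _ := by
      rw [IsIso.comp_inv_eq, cokernel.π_desc]
    rw [← Category.assoc, e, cokernel.π_desc]

section Main

variable {F G : ℕᵒᵖ ⥤ X.Modules} (hF : Hyp I F) (hG : Hyp I G)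
  {m : ℕ → ℕ} (hm : Monotone m) (hm' : ∀ n, n ≤ m n)
  (a : ∀ n, F.obj (op (m n)) ⟶ G.obj (op n))
  (ha : ∀ {n k : ℕ} (h : n ≤ k), trLE F (hm h) ≫ a n = a k ≫ trLE G h)

include hF hG in
theorem exists_α (n : ℕ) : ∃ α : F.obj (op n) ⟶ G.obj (op n), trLE F (hm' n) ≫ α = a n :=
  exists_desc hF (hm' n) (hG.killed n) (a n)

/-- the level-`n` component of the induced morphism `F ⟶ G`. -/
noncomputable def α (n : ℕ) : F.obj (op n) ⟶ G.obj (op n) := (exists_α hF hG hm' a n).choose

theorem trLE_α (n : ℕ) : trLE F (hm' n) ≫ α hF hG hm' a n = a n :=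
  (exists_α hF hG hm' a n).choose_spec

include ha in
theorem α_naturality {n k : ℕ} (h : n ≤ k) :
    trLE F h ≫ α hF hG hm' a n = α hF hG hm' a k ≫ trLE G h := by
  haveI := epi_trLE hF (hm' k)
  rw [← cancel_epi (trLE F (hm' k)), ← Category.assoc, trLE_comp, ← Category.assoc, trLE_α,
    ← ha h, ← trLE_α hF hG hm' a n, ← Category.assoc, trLE_comp]

/-- the induced morphism of systems. -/
noncomputable def αNat : F ⟶ G where
  app j := α hF hG hm' a (unop j)
  naturality j j' f := by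
    induction j using Opposite.rec with | _ k => ?_
    induction j' using Opposite.rec with | _ n => ?_
    rw [map_eq_trLE F f, map_eq_trLE G f]
    exact α_naturality hF hG hm hm' a ha (leOfHom f.unop)

include ha in
theorem isIso_α (n : ℕ) (hpro : ∃ (k : ℕ) (h : n ≤ k) (b : G.obj (op k) ⟶ F.obj (op (m n))),
      a k ≫ b = trLE F (hm h) ∧ b ≫ a n = trLE G h) : IsIso (α hF hG hm' a n) := by
  obtain ⟨k, h, b, hab, hba⟩ := hpro
  obtain ⟨β, hβ⟩ := exists_desc hG h (hF.killed n) (b ≫ trLE F (hm' n))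
  refine ⟨⟨β, ?_, ?_⟩⟩
  · haveI := epi_trLE hF ((hm' n).trans (hm h))
    rw [← cancel_epi (trLE F ((hm' n).trans (hm h))), Category.comp_id]
    have e1 : trLE F ((hm' n).trans (hm h)) = trLE F (hm' k) ≫ trLE F h := by
      rw [trLE_comp]
    rw [e1, Category.assoc, ← Category.assoc (trLE F h), α_naturality hF hG hm hm' a ha h,
      Category.assoc, hβ, ← Category.assoc, ← Category.assoc, trLE_α, hab, trLE_comp, trLE_comp]
  · haveI := epi_trLE hG h
    rw [← cancel_epi (trLE G h), ← Category.assoc, hβ, Category.assoc, trLE_α, hba, Category.comp_id]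

include hF hG hm hm' ha in
theorem nonempty_iso (hpro : ∀ n : ℕ, ∃ (k : ℕ) (h : n ≤ k) (b : G.obj (op k) ⟶ F.obj (op (m n))),
      a k ≫ b = trLE F (hm h) ∧ b ≫ a n = trLE G h) : Nonempty (F ≅ G) := by
  haveI : ∀ j, IsIso ((αNat hF hG hm hm' a ha).app j) :=
    fun j => isIso_α hF hG hm hm' a ha (unop j) (hpro (unop j))
  haveI : IsIso (αNat hF hG hm hm' a ha) := NatIso.isIso_of_isIso_app _
  exact ⟨asIso (αNat hF hG hm hm' a ha)⟩

end Main

theorem reindex_map (F : ℕᵒᵖ ⥤ X.Modules) {m : ℕ → ℕ} (hm : Monotone m) {n k : ℕ} (h : n ≤ k) :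
    (DerCA.reindex F hm).map (homOfLE h).op = trLE F (hm h) :=
  congrArg F.map (Subsingleton.elim _ _)

/-- **Pro-isomorphic adic systems are isomorphic.** -/
theorem nonempty_iso_of_isProIsomorphic {F G : ℕᵒᵖ ⥤ X.Modules} (hF : Hyp I F) (hG : Hyp I G)
    (h : Algz.IsProIsomorphic F G) : Nonempty (F ≅ G) := by
  obtain ⟨m, hm, hm', a, hpro⟩ := h
  refine nonempty_iso hF hG hm hm' (fun n => a.app (op n)) (fun {n k} h => ?_) (fun n => ?_)
  · have := a.naturality (homOfLE h).op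
    rw [reindex_map] at this
    exact this
  · obtain ⟨k, h, b, hab, hba⟩ := hpro n
    exact ⟨k, h, b, hab.trans (reindex_map F hm h), hba⟩

end Groth.Agent.Lib.LeadProIso
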