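import Mathlib
import Groth.Prelude.Def_Algz
import Groth.Agent.Lib.LeadProIso
import Groth.Agent.Lib.Helper20FormalPull
import Groth.Agent.Lib.Helper23QCohLocal

/-!
# Lead: transport of pro-isomorphisms; a canonical extension is an extension

* `isProIsomorphic_of_iso_left/right`, `isProIsomorphic_comp`: `Algz.IsProIsomorphic` is invariant under
  isomorphisms of systems and preserved by functors;
* `hyp_comp_pullback`: helper27's `Hyp I` is preserved by pullback;
* `sectSysRestrictIso`: `(H⁰(U, G_n))~|_U ≅ G_n` as systems, for quasi-coherent `G_n` and quasi-compact `U`.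
-/

set_option autoImplicit false
set_option linter.style.haveILetI false
universe v u
open CategoryTheory Limits AlgebraicGeometry TopologicalSpace Opposite

namespace Groth.Agent.Lib.LeadProIso

section Abstract

variable {C : Type*} [Category C] {D : Type*} [Category D]

/-- explicit pro-isomorphism data along a monotone re-indexing `m`. -/
def ProData (F G : ℕᵒᵖ ⥤ C) {m : ℕ → ℕ} (hm : Monotone m) : Prop :=
  ∃ a : ∀ n, F.obj (op (m n)) ⟶ G.obj (op n),
    (∀ {n k : ℕ} (h : n ≤ k), F.map (homOfLE (hm h)).op ≫ a n = a k ≫ G.map (homOfLE h).op) ∧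
    ∀ n : ℕ, ∃ (k : ℕ) (h : n ≤ k) (b : G.obj (op k) ⟶ F.obj (op (m n))),
      a k ≫ b = F.map (homOfLE (hm h)).op ∧ b ≫ a n = G.map (homOfLE h).op

theorem reindex_map' (F : ℕᵒᵖ ⥤ C) {m : ℕ → ℕ} (hm : Monotone m) {n k : ℕ} (h : n ≤ k) :
    (DerCA.reindex F hm).map (homOfLE h).op = F.map (homOfLE (hm h)).op :=
  congrArg F.map (Subsingleton.elim _ _)

theorem exists_proData {F G : ℕᵒᵖ ⥤ C} (h : Algz.IsProIsomorphic F G) :
    ∃ (m : ℕ → ℕ) (hm : Monotone m) (_ : ∀ n, n ≤ m n), ProData F G hm := by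
  obtain ⟨m, hm, hm', a, hpro⟩ := h
  refine ⟨m, hm, hm', fun n => a.app (op n), fun {n k} h => ?_, fun n => ?_⟩
  · have := a.naturality (homOfLE h).op
    rw [reindex_map'] at this
    exact this
  · obtain ⟨k, h, b, hab, hba⟩ := hpro n
    exact ⟨k, h, b, hab.trans (reindex_map' F hm h), hba⟩

theorem ProData.comp {F G : ℕᵒᵖ ⥤ C} {m : ℕ → ℕ} {hm : Monotone m} (h : ProData F G hm) (Φ : C ⥤ D) :
    ProData (F ⋙ Φ) (G ⋙ Φ) hm := by
  obtain ⟨a, ha, hpro⟩ := h
  refine ⟨fun n => Φ.map (a n), fun {n k} h => ?_, fun n => ?_⟩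
  · rw [Functor.comp_map, Functor.comp_map, ← Φ.map_comp, ← Φ.map_comp, ha h]
  · obtain ⟨k, h, b, hab, hba⟩ := hpro n
    refine ⟨k, h, Φ.map b, ?_, ?_⟩
    · rw [Functor.comp_map, ← Φ.map_comp, hab]
    · rw [Functor.comp_map, ← Φ.map_comp, hba]

theorem ProData.iso_left {F F' G : ℕᵒᵖ ⥤ C} {m : ℕ → ℕ} {hm : Monotone m} (h : ProData F G hm)
    (e : F ≅ F') : ProData F' G hm := by
  obtain ⟨a, ha, hpro⟩ := h
  refine ⟨fun n => e.inv.app (op (m n)) ≫ a n, fun {n k} h => ?_, fun n => ?_⟩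
  · rw [← Category.assoc, e.inv.naturality, Category.assoc, ha h, Category.assoc]
  · obtain ⟨k, h, b, hab, hba⟩ := hpro n
    refine ⟨k, h, b ≫ e.hom.app (op (m n)), ?_, ?_⟩
    · rw [Category.assoc, ← Category.assoc (a k), hab, e.hom.naturality, Iso.inv_hom_id_app_assoc]
    · rw [Category.assoc, Iso.hom_inv_id_app_assoc, hba]

theorem ProData.iso_right {F G G' : ℕᵒᵖ ⥤ C} {m : ℕ → ℕ} {hm : Monotone m} (h : ProData F G hm)
    (e : G ≅ G') : ProData F G' hm := by
  obtain ⟨a, ha, hpro⟩ := h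
  refine ⟨fun n => a n ≫ e.hom.app (op n), fun {n k} h => ?_, fun n => ?_⟩
  · rw [← Category.assoc, ha h, Category.assoc, Category.assoc, e.hom.naturality]
  · obtain ⟨k, h, b, hab, hba⟩ := hpro n
    refine ⟨k, h, e.inv.app (op k) ≫ b, ?_, ?_⟩
    · rw [Category.assoc, Iso.hom_inv_id_app_assoc, hab]
    · rw [Category.assoc, ← Category.assoc b, hba, e.hom.naturality, Iso.inv_hom_id_app_assoc]

end Abstract

variable {A : Type u} [CommRing A] {X : Scheme.{u}} [X.Over (Spec (CommRingCat.of A))]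

open Groth.Agent.Lib.Helper27FormalKer in
/-- pro-isomorphic adic systems are isomorphic (explicit data form). -/
theorem nonempty_iso_of_proData {I : Ideal A} {F G : ℕᵒᵖ ⥤ X.Modules} (hF : Hyp I F) (hG : Hyp I G)
    {m : ℕ → ℕ} (hm : Monotone m) (hm' : ∀ n, n ≤ m n) (h : ProData F G hm) : Nonempty (F ≅ G) := by
  obtain ⟨a, ha, hpro⟩ := h
  exact nonempty_iso hF hG hm hm' a ha hpro

section Pullback

open Groth.Agent.Lib.Helper27FormalKer

variable {Y : Scheme.{u}} [Y.Over (Spec (CommRingCat.of A))]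
  (f : Y ⟶ X) (hf : f ≫ (X ↘ Spec (CommRingCat.of A)) = Y ↘ Spec (CommRingCat.of A))

include hf in
/-- helper27's `Hyp I` is preserved by pullback along a morphism over the base. -/
theorem hyp_comp_pullback {I : Ideal A} {G : ℕᵒᵖ ⥤ X.Modules} (hG : Hyp I G) :
    Hyp I (G ⋙ Scheme.Modules.pullback f) where
  killed n := Groth.Agent.Lib.Helper20.FormalPull.killedBy_pullback f hf _ _ (hG.killed n)
  quot n := by
    obtain ⟨h, hiso⟩ := hG.quot n
    exact Groth.Agent.Lib.Helper20.FormalPull.isIso_cokernelDesc_pullback f hf _ (tr G n) h hiso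

end Pullback

section Sect

variable {R : CommRingCat.{u}} (U : (Spec R).Opens)

/-- the natural transformation `(Γ(Spec R, j_* M))~|_U ⟶ M`. -/
noncomputable def sectRestrictNat :
    Scheme.Modules.pushforward U.ι ⋙ moduleSpecΓFunctor (R := R) ⋙ tilde.functor R ⋙
      Scheme.Modules.restrictFunctor U.ι ⟶ 𝟭 _ :=
  Functor.whiskerLeft (Scheme.Modules.pushforward U.ι)
    (Functor.whiskerRight (Scheme.Modules.fromTildeΓNatTrans (R := R))
      (Scheme.Modules.restrictFunctor U.ι)) ≫ (Scheme.Modules.restrictAdjunction U.ι).counit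

theorem sectRestrictNat_app (M : (U : Scheme.{u}).Modules) :
    (sectRestrictNat U).app M =
      (Scheme.Modules.restrictFunctor U.ι).map
        (Scheme.Modules.fromTildeΓ ((Scheme.Modules.pushforward U.ι).obj M)) ≫
        (Scheme.Modules.restrictAdjunction U.ι).counit.app M := rfl

theorem isIso_sectRestrictNat_app [QuasiCompact U.ι] (M : (U : Scheme.{u}).Modules)
    [M.IsQuasicoherent] : IsIso ((sectRestrictNat U).app M) := by
  haveI : ((Scheme.Modules.pushforward U.ι).obj M).IsQuasicoherent :=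
    Groth.Agent.Lib.Helper23.QCohLocal.isQuasicoherent_pushforward U.ι M
  rw [sectRestrictNat_app]
  have h1 : IsIso (Scheme.Modules.fromTildeΓ ((Scheme.Modules.pushforward U.ι).obj M)) := inferInstance
  have h2 : IsIso ((Scheme.Modules.restrictFunctor U.ι).map
      (Scheme.Modules.fromTildeΓ ((Scheme.Modules.pushforward U.ι).obj M))) :=
    Functor.map_isIso (Scheme.Modules.restrictFunctor U.ι) _
  have h3 : IsIso ((Scheme.Modules.restrictAdjunction U.ι).counit.app M) := inferInstance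
  exact @IsIso.comp_isIso _ _ _ _ _ _ _ h2 h3

/-- the morphism of systems `(H⁰(U, G_n))~|_U ⟶ G_n`. -/
noncomputable def sectSysRestrictHom (A : Type u) [CommRing A]
    (U : (Spec (CommRingCat.of A)).Opens) (G : ℕᵒᵖ ⥤ (U : Scheme.{u}).Modules) :
    Algz.sectSys A U G ⋙ Scheme.Modules.restrictFunctor U.ι ⟶ G :=
  Functor.whiskerLeft G (sectRestrictNat U) ≫ G.rightUnitor.hom

theorem sectSysRestrictHom_app (A : Type u) [CommRing A]
    (U : (Spec (CommRingCat.of A)).Opens) (G : ℕᵒᵖ ⥤ (U : Scheme.{u}).Modules) (j : ℕᵒᵖ) :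
    (sectSysRestrictHom A U G).app j = (sectRestrictNat U).app (G.obj j) ≫ 𝟙 _ := rfl

/-- `(H⁰(U, G_n))~|_U ≅ G_n` as systems, for quasi-coherent `G_n` and quasi-compact `U`. -/
noncomputable def sectSysRestrictIso (A : Type u) [CommRing A]
    (U : (Spec (CommRingCat.of A)).Opens) [QuasiCompact U.ι] (G : ℕᵒᵖ ⥤ (U : Scheme.{u}).Modules)
    (hG : ∀ j, (G.obj j).IsQuasicoherent) :
    Algz.sectSys A U G ⋙ Scheme.Modules.restrictFunctor U.ι ≅ G := by
  haveI : ∀ j, IsIso ((sectSysRestrictHom A U G).app j) := fun j => by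
    haveI := hG j
    have h1 := isIso_sectRestrictNat_app U (G.obj j)
    rw [sectSysRestrictHom_app, Category.comp_id]
    exact h1
  haveI : IsIso (sectSysRestrictHom A U G) := NatIso.isIso_of_isIso_app _
  exact asIso (sectSysRestrictHom A U G)

end Sect

end Groth.Agent.Lib.LeadProIso
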