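import Mathlib
import Groth.Prelude.Def_Algz
import Groth.Agent.Lib.LeadProIso2
import Groth.Agent.Lib.Helper10ImSub
import Groth.Agent.Lib.Helper23FinTypeLocal

/-!
# Lead: a system pro-isomorphic to a strict system is Mittag-Leffler

* `isML_of_proData`: in an abelian category, if `M` is pro-isomorphic (explicit data `ProData`) to a system
  `N` with epimorphic transition maps, then `M` satisfies `ARSys.IsML`.
-/

set_option autoImplicit false
set_option linter.style.haveILetI false
set_option linter.unusedSectionVars false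
universe v u
open CategoryTheory Limits Opposite

namespace Groth.Agent.Lib.LeadProIso

section Abstract

variable {C : Type*} [Category C] [Abelian C]

theorem imageSubobject_congr {X Y : C} {f g : X ⟶ Y} (h : f = g) :
    imageSubobject f = imageSubobject g := by
  subst h
  rfl

theorem map_comp_homOfLE (M : ℕᵒᵖ ⥤ C) {n k l : ℕ} (h : n ≤ k) (h' : k ≤ l) :
    M.map (homOfLE h').op ≫ M.map (homOfLE h).op = M.map (homOfLE (h.trans h')).op := by
  rw [← M.map_comp]
  exact congrArg M.map (Subsingleton.elim _ _)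

theorem epi_of_proData {M N : ℕᵒᵖ ⥤ C} {m : ℕ → ℕ} {hm : Monotone m}
    (a : ∀ n, M.obj (op (m n)) ⟶ N.obj (op n))
    (hpro : ∀ n : ℕ, ∃ (k : ℕ) (h : n ≤ k) (b : N.obj (op k) ⟶ M.obj (op (m n))),
      a k ≫ b = M.map (homOfLE (hm h)).op ∧ b ≫ a n = N.map (homOfLE h).op)
    (hN : ∀ {n k : ℕ} (h : n ≤ k), Epi (N.map (homOfLE h).op)) (n : ℕ) : Epi (a n) := by
  obtain ⟨k, h, b, -, hba⟩ := hpro n
  haveI : Epi (b ≫ a n) := by rw [hba]; exact hN h
  exact epi_of_epi b (a n)

theorem isML_of_proData {M N : ℕᵒᵖ ⥤ C} {m : ℕ → ℕ} (hm : Monotone m) (hm' : ∀ n, n ≤ m n)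
    (h : ProData M N hm) (hN : ∀ {n k : ℕ} (h : n ≤ k), Epi (N.map (homOfLE h).op)) :
    ARSys.IsML M := by
  obtain ⟨a, ha, hpro⟩ := h
  have ha_epi := epi_of_proData (hm := hm) a hpro hN
  intro n
  obtain ⟨k, hk, b, hab, hba⟩ := hpro n
  have key : ∀ (j : ℕ) (hj : m k ≤ j),
      imageSubobject (M.map (homOfLE (((hm' n).trans (hm hk)).trans hj)).op) =
        imageSubobject (b ≫ M.map (homOfLE (hm' n)).op) := by
    intro j hj
    have hkj : k ≤ j := (hm' k).trans hj
    have he : Epi (M.map (homOfLE hj).op ≫ a k) := by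
      haveI : Epi (M.map (homOfLE (hm' j)).op ≫ M.map (homOfLE hj).op ≫ a k) := by
        rw [← Category.assoc, map_comp_homOfLE, ha hkj]
        haveI := ha_epi j
        haveI := hN hkj
        exact epi_comp _ _
      exact epi_of_epi (M.map (homOfLE (hm' j)).op) _
    have e1 : M.map (homOfLE (((hm' n).trans (hm hk)).trans hj)).op =
        (M.map (homOfLE hj).op ≫ a k) ≫ (b ≫ M.map (homOfLE (hm' n)).op) := by
      rw [Category.assoc, ← Category.assoc (a k), hab, map_comp_homOfLE, map_comp_homOfLE]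
    rw [e1]
    haveI := he
    exact Groth.Agent.Lib.Helper10.ImSub.imageSubobject_epi_comp _ _
  refine ⟨m k - n, fun s hs => ?_⟩
  have h1 : m k ≤ n + s := by omega
  have h2 : m k ≤ n + (m k - n) := by omega
  have e1 : ARSys.shiftMap M s n = M.map (homOfLE (((hm' n).trans (hm hk)).trans h1)).op :=
    congrArg M.map (Subsingleton.elim _ _)
  have e2 : ARSys.shiftMap M (m k - n) n = M.map (homOfLE (((hm' n).trans (hm hk)).trans h2)).op :=
    congrArg M.map (Subsingleton.elim _ _)
  exact (imageSubobject_congr e1).trans ((key _ h1).trans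
    ((key _ h2).symm.trans (imageSubobject_congr e2).symm))

end Abstract

section Concrete

open AlgebraicGeometry Groth.Agent.Lib.Helper27FormalKer

variable (A : Type u) [CommRing A]

/-- `Γ((H⁰(U, G_n))~) ≅ H⁰(U, G_n)` as systems. -/
noncomputable def sectSysΓIso (U : (Spec (CommRingCat.of A)).Opens)
    (G : ℕᵒᵖ ⥤ (U : Scheme.{u}).Modules) :
    Algz.sectSys A U G ⋙ moduleSpecΓFunctor (R := CommRingCat.of A) ≅ Algz.sectMod A U G :=
  Functor.isoWhiskerLeft (Algz.sectMod A U G)
    (tilde.toTildeΓNatIso (R := CommRingCat.of A)).symm ≪≫ Functor.rightUnitor _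

theorem epi_moduleSpecΓFunctor_map {R : CommRingCat.{u}} {M N : (Spec R).Modules}
    [M.IsQuasicoherent] [N.IsQuasicoherent] (π : M ⟶ N) [Epi π] :
    Epi ((moduleSpecΓFunctor (R := R)).map π) := by
  rw [ModuleCat.epi_iff_surjective]
  exact Groth.Agent.Lib.Helper23.FinType.surjective_app_of_epi π (isAffineOpen_top (Spec R))

/-- a canonical extension forces the Mittag-Leffler condition on the system of sections. -/
theorem isML_sectMod_of_proData (I : Ideal A) (U : (Spec (CommRingCat.of A)).Opens)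
    (G : ℕᵒᵖ ⥤ (U : Scheme.{u}).Modules) (G' : ℕᵒᵖ ⥤ (Spec (CommRingCat.of A)).Modules)
    (hG' : @Formal.IsCohFormal A _ (Spec (CommRingCat.of A)) ⟨𝟙 (Spec (CommRingCat.of A))⟩ I G')
    (hpro : Algz.IsProIsomorphic (Algz.sectSys A U G) G') :
    ARSys.IsML (Algz.sectMod A U G) := by
  letI ovX : (Spec (CommRingCat.of A)).Over (Spec (CommRingCat.of A)) := ⟨𝟙 _⟩
  obtain ⟨m, hm, hm', hdata⟩ := exists_proData hpro
  have h1 := (hdata.comp (moduleSpecΓFunctor (R := CommRingCat.of A))).iso_left (sectSysΓIso A U G)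
  refine isML_of_proData hm hm' h1 (fun {n k} h => ?_)
  haveI : (G'.obj (op k)).IsQuasicoherent := (hG'.1 k).1
  haveI : (G'.obj (op n)).IsQuasicoherent := (hG'.1 n).1
  haveI : Epi (G'.map (homOfLE h).op) := epi_trLE (hyp_of_isCohFormal hG') h
  exact epi_moduleSpecΓFunctor_map (G'.map (homOfLE h).op)

end Concrete

end Groth.Agent.Lib.LeadProIso
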