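import Mathlib
import Groth.Prelude.Def_Algz
import Groth.Agent.Lib.LeadProML
import Groth.Agent.Lib.LeadAdicLim

/-!
# Lead: global sections of a coherent formal module on `Spec A` form an adic system

For `G'` a system on `Spec A` with helper27's `Hyp I G'` and quasi-coherent terms, the `A`-modules
`N_n = Γ(Spec A, G'_n)` satisfy: `N_n` is killed by `I^(n+1)`, the transition maps are surjective and
`ker (N_{n+1} → N_n) ≤ I^(n+1) N_{n+1}`.
-/

set_option autoImplicit false
set_option linter.style.haveILetI false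
universe u
open CategoryTheory Limits AlgebraicGeometry TopologicalSpace Opposite

namespace Groth.Agent.Lib.LeadAdicGamma

open Groth.Agent.Lib.Helper27FormalKer Groth.Agent.Lib.LeadProIso

variable {R : CommRingCat.{u}}

/-- global sections of multiplication by `c` is multiplication by `c`. -/
theorem Γ_smulMod (T : (Spec (CommRingCat.of R)).Modules) (c : R)
    (z : (moduleSpecΓFunctor (R := R)).obj T) :
    ((moduleSpecΓFunctor (R := R)).map
      (@Formal.smulMod R _ (Spec (CommRingCat.of R)) ⟨𝟙 _⟩ T c)).hom z = c • z := by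
  rfl

theorem Γ_map_zero (T T' : (Spec (CommRingCat.of R)).Modules)
    (z : (moduleSpecΓFunctor (R := R)).obj T) :
    ((moduleSpecΓFunctor (R := R)).map (0 : T ⟶ T')).hom z = 0 := by
  rfl

/-- global sections of a module killed by `J` are killed by `J`. -/
theorem Γ_killed {J : Ideal R} {T : (Spec (CommRingCat.of R)).Modules}
    (hT : @Formal.KilledBy R _ (Spec (CommRingCat.of R)) ⟨𝟙 _⟩ J T) (c : R) (hc : c ∈ J)
    (z : (moduleSpecΓFunctor (R := R)).obj T) : c • z = 0 := by
  rw [← Γ_smulMod T c z, hT c hc, Γ_map_zero]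

/-- the tilde of a module killed by `J` is killed by `J`. -/
theorem killedBy_tilde {J : Ideal R} (N : ModuleCat.{u} R) (hN : ∀ c ∈ J, ∀ z : N, c • z = 0) :
    @Formal.KilledBy R _ (Spec (CommRingCat.of R)) ⟨𝟙 _⟩ J ((tilde.functor R).obj N) := by
  intro c hc
  apply ((tilde.adjunction (R := R)).homEquiv N ((tilde.functor R).obj N)).injective
  rw [Adjunction.homEquiv_unit, Adjunction.homEquiv_unit]
  ext m
  rw [ModuleCat.hom_comp, LinearMap.comp_apply, ModuleCat.hom_comp, LinearMap.comp_apply,
    Γ_smulMod, Γ_map_zero, ← map_smul, hN c hc m, map_zero]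

/-- if `g : T ⟶ T'` identifies `T'` with `T / J T` (for quasi-coherent `T` on `Spec R`), then the kernel
of `Γ(g)` lies in `J Γ(T)`. -/
theorem ker_Γ_le {J : Ideal R} {T T' : (Spec (CommRingCat.of R)).Modules} [T.IsQuasicoherent]
    (g : T ⟶ T')
    (h : @Formal.smulFamily R _ (Spec (CommRingCat.of R)) ⟨𝟙 _⟩ J T ≫ g = 0)
    (hiso : IsIso (cokernel.desc _ g h)) :
    LinearMap.ker ((moduleSpecΓFunctor (R := R)).map g).hom ≤
      J • (⊤ : Submodule R ((moduleSpecΓFunctor (R := R)).obj T)) := by
  letI ovX : (Spec (CommRingCat.of R)).Over (Spec (CommRingCat.of R)) := ⟨𝟙 _⟩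
  let M : ModuleCat.{u} R := (moduleSpecΓFunctor (R := R)).obj T
  let Q : ModuleCat.{u} R := ModuleCat.of R (M ⧸ (J • (⊤ : Submodule R M)))
  let qm : M ⟶ Q := ModuleCat.ofHom (X := M) (Y := M ⧸ (J • (⊤ : Submodule R M)))
    (Submodule.mkQ (J • (⊤ : Submodule R M)))
  have hQ : ∀ c ∈ J, ∀ z : Q, c • z = 0 := by
    intro c hc z
    obtain ⟨z, rfl⟩ := Submodule.Quotient.mk_surjective _ z
    rw [← Submodule.Quotient.mk_smul, Submodule.Quotient.mk_eq_zero]
    exact Submodule.smul_mem_smul hc Submodule.mem_top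
  let ε : (tilde.functor R).obj M ⟶ T := (tilde.adjunction (R := R)).counit.app T
  haveI : IsIso ε := Scheme.Modules.isIso_fromTildeΓ_of_isQuasicoherent T
  let f : T ⟶ (tilde.functor R).obj Q := inv ε ≫ (tilde.functor R).map qm
  have hf0 := smulFamily_comp_of_killed J f (killedBy_tilde Q hQ)
  haveI := hiso
  have hfac : g ≫ (inv (cokernel.desc _ _ h) ≫ cokernel.desc _ f hf0) = f := by
    have e : g ≫ inv (cokernel.desc _ _ h) = cokernel.π _ := by
      rw [IsIso.comp_inv_eq, cokernel.π_desc]
    rw [← Category.assoc, e, cokernel.π_desc]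
  -- compute `Γ f`
  have hΓf : (moduleSpecΓFunctor (R := R)).map f =
      qm ≫ (tilde.adjunction (R := R)).unit.app Q := by
    have h1 : (moduleSpecΓFunctor (R := R)).map (inv ε) =
        (tilde.adjunction (R := R)).unit.app M := by
      have tri := (tilde.adjunction (R := R)).right_triangle_components T
      rw [← cancel_mono ((moduleSpecΓFunctor (R := R)).map ε), ← Functor.map_comp,
        IsIso.inv_hom_id, CategoryTheory.Functor.map_id]
      exact tri.symm
    rw [Functor.map_comp, h1]
    exact ((tilde.adjunction (R := R)).unit.naturality qm).symm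
  intro x hx
  rw [LinearMap.mem_ker] at hx
  have h2 : ((moduleSpecΓFunctor (R := R)).map f).hom x = 0 := by
    rw [← hfac, Functor.map_comp, ModuleCat.hom_comp, LinearMap.comp_apply, hx, map_zero]
  rw [hΓf, ModuleCat.hom_comp, LinearMap.comp_apply] at h2
  haveI : IsIso ((tilde.adjunction (R := R)).unit.app Q) :=
    inferInstanceAs (IsIso ((tilde.toTildeΓNatIso (R := R)).hom.app Q))
  have hinj : Function.Injective ((tilde.adjunction (R := R)).unit.app Q).hom :=
    ((ModuleCat.mono_iff_injective _).mp inferInstance)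
  have h3 : qm.hom x = 0 := hinj (by rw [h2, map_zero])
  exact (Submodule.Quotient.mk_eq_zero _).mp (show Submodule.Quotient.mk x = 0 from h3)

section Lim

variable {C : Type*} [Category C]

theorem map_comp_le (M : ℕᵒᵖ ⥤ C) {n k l : ℕ} (h : n ≤ k) (h' : k ≤ l) :
    M.map (homOfLE h').op ≫ M.map (homOfLE h).op = M.map (homOfLE (h.trans h')).op := by
  rw [← M.map_comp]
  exact congrArg M.map (Subsingleton.elim _ _)

/-- pro-isomorphism data induce a split monomorphism on limits, compatible with the projections. -/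
theorem exists_limit_maps {M N : ℕᵒᵖ ⥤ C} [HasLimit M] [HasLimit N] {m : ℕ → ℕ} {hm : Monotone m}
    (hm' : ∀ n, n ≤ m n) (h : ProData M N hm) :
    ∃ (a : ∀ n, M.obj (op (m n)) ⟶ N.obj (op n)) (φ : limit M ⟶ limit N)
      (ψ : limit N ⟶ limit M), φ ≫ ψ = 𝟙 _ ∧
      ∀ k, φ ≫ limit.π N (op k) = limit.π M (op (m k)) ≫ a k := by
  obtain ⟨a, ha, hpro⟩ := h
  choose kk hk b hab hba using hpro
  -- the map `φ`
  let cφ : Cone N :=
    { pt := limit M
      π :=
        { app := fun j => limit.π M (op (m j.unop)) ≫ a j.unop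
          naturality := by
            intro j j' f
            have hle : j'.unop ≤ j.unop := leOfHom f.unop
            have hf : f = (homOfLE hle).op := Subsingleton.elim _ _
            rw [hf]
            simp only [Functor.const_obj_obj, Functor.const_obj_map, Category.id_comp,
              Category.assoc]
            rw [← ha hle, ← Category.assoc, limit.w] } }
  let φ : limit M ⟶ limit N := limit.lift N cφ
  have hφ : ∀ k, φ ≫ limit.π N (op k) = limit.π M (op (m k)) ≫ a k :=
    fun k => limit.lift_π cφ (op k)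
  -- the maps `ψ' n : lim N ⟶ M_{m n}`
  let ψ' : ∀ n, limit N ⟶ M.obj (op (m n)) := fun n => limit.π N (op (kk n)) ≫ b n
  have hindep : ∀ (n j : ℕ) (hj : kk n ≤ j),
      ψ' n = ψ' j ≫ M.map (homOfLE (hm ((hk n).trans hj))).op := by
    intro n j hj
    have e1 : limit.π N (op (kk n)) =
        limit.π N (op (kk j)) ≫ N.map (homOfLE (hj.trans (hk j))).op :=
      (limit.w N (homOfLE (hj.trans (hk j))).op).symm
    have e2 : N.map (homOfLE (hj.trans (hk j))).op =
        b j ≫ M.map (homOfLE (hm hj)).op ≫ a (kk n) := by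
      rw [ha hj, ← Category.assoc, hba j, map_comp_le]
    change limit.π N (op (kk n)) ≫ b n = (limit.π N (op (kk j)) ≫ b j) ≫ _
    rw [e1, e2]
    simp only [Category.assoc]
    rw [hab n, map_comp_le]
  let cψ : Cone M :=
    { pt := limit N
      π :=
        { app := fun j => ψ' j.unop ≫ M.map (homOfLE (hm' j.unop)).op
          naturality := by
            intro j j' f
            have hle : j'.unop ≤ j.unop := leOfHom f.unop
            have hf : f = (homOfLE hle).op := Subsingleton.elim _ _
            rw [hf]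
            simp only [Functor.const_obj_obj, Functor.const_obj_map, Category.id_comp,
              Category.assoc]
            rw [hindep j.unop (max (kk j.unop) (kk j'.unop)) (le_max_left _ _),
              hindep j'.unop (max (kk j.unop) (kk j'.unop)) (le_max_right _ _)]
            simp only [Category.assoc]
            rw [map_comp_le, map_comp_le, map_comp_le] } }
  let ψ : limit N ⟶ limit M := limit.lift M cψ
  have hψ : ∀ n, ψ ≫ limit.π M (op n) = ψ' n ≫ M.map (homOfLE (hm' n)).op :=
    fun n => limit.lift_π cψ (op n)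
  refine ⟨a, φ, ψ, ?_, hφ⟩
  apply limit.hom_ext
  intro j
  obtain ⟨n⟩ := j
  rw [Category.assoc, hψ n, Category.id_comp]
  change φ ≫ (limit.π N (op (kk n)) ≫ b n) ≫ _ = _
  rw [Category.assoc, ← Category.assoc φ, hφ (kk n)]
  simp only [Category.assoc]
  rw [← Category.assoc (a (kk n)), hab n, map_comp_le, limit.w]

end Lim

section Main

variable {A : Type u} [CommRing A]

/-- the system of global sections of a coherent formal module on `Spec A`: kernels of the projections from
the limit are the expected powers of `I`. -/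
theorem ker_limit_Γ_le [IsNoetherianRing A] (I : Ideal A)
    (G' : ℕᵒᵖ ⥤ (Spec (CommRingCat.of A)).Modules)
    (hG' : @Formal.IsCohFormal A _ (Spec (CommRingCat.of A)) ⟨𝟙 (Spec (CommRingCat.of A))⟩ I G')
    (n : ℕ) :
    LinearMap.ker (limit.π (G' ⋙ moduleSpecΓFunctor (R := CommRingCat.of A)) (op n)).hom ≤
      I ^ (n + 1) • (⊤ : Submodule A
        ↑(limit (G' ⋙ moduleSpecΓFunctor (R := CommRingCat.of A)))) := by
  letI ovX : (Spec (CommRingCat.of A)).Over (Spec (CommRingCat.of A)) := ⟨𝟙 _⟩
  have hyp := hyp_of_isCohFormal hG'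
  refine Groth.Agent.Lib.LeadAdicLim.ker_limit_π_le
    (G' ⋙ moduleSpecΓFunctor (R := CommRingCat.of A)) I (IsNoetherian.noetherian I) ?_ ?_ ?_ n
  · intro p
    haveI : (G'.obj (op (p + 1))).IsQuasicoherent := (hG'.1 (p + 1)).1
    haveI : (G'.obj (op p)).IsQuasicoherent := (hG'.1 p).1
    haveI : Epi (tr G' p) := epi_tr hyp p
    have := epi_moduleSpecΓFunctor_map (tr G' p)
    rw [ModuleCat.epi_iff_surjective] at this
    exact this
  · intro p
    haveI : (G'.obj (op (p + 1))).IsQuasicoherent := (hG'.1 (p + 1)).1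
    obtain ⟨h, hiso⟩ := hyp.quot p
    exact ker_Γ_le (R := CommRingCat.of A) (tr G' p) h hiso
  · intro p r hr z
    exact Γ_killed (R := CommRingCat.of A) (hyp.killed p) r hr z

/-- a canonical extension forces the limit topology on `lim H⁰(U, G_n)` to be the `I`-adic one. -/
theorem ker_limit_sectMod_le [IsNoetherianRing A] (I : Ideal A)
    (U : (Spec (CommRingCat.of A)).Opens) (G : ℕᵒᵖ ⥤ (U : Scheme.{u}).Modules)
    (h : Algz.CanonicallyExtends A I U G) (k : ℕ) :
    ∃ n : ℕ, LinearMap.ker (limit.π (Algz.sectMod A U G) (op n)).hom ≤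
      I ^ (k + 1) • (⊤ : Submodule A ↑(limit (Algz.sectMod A U G))) := by
  obtain ⟨G', hG', hpro⟩ := h
  obtain ⟨m, hm, hm', hdata⟩ := exists_proData hpro
  have h1 := (hdata.comp (moduleSpecΓFunctor (R := CommRingCat.of A))).iso_left (sectSysΓIso A U G)
  obtain ⟨a, φ, ψ, hφψ, hφ⟩ := exists_limit_maps hm' h1
  have hN := ker_limit_Γ_le I G' hG' k
  refine ⟨m k, fun x hx => ?_⟩
  rw [LinearMap.mem_ker] at hx
  have h2 : φ.hom x ∈ LinearMap.ker
      (limit.π (G' ⋙ moduleSpecΓFunctor (R := CommRingCat.of A)) (op k)).hom := by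
    rw [LinearMap.mem_ker]
    have e := congrArg (fun g => g.hom x) (hφ k)
    simp only [ModuleCat.hom_comp, LinearMap.comp_apply] at e
    rw [e, hx, map_zero]
  have h3 := hN h2
  have h4 : ψ.hom (φ.hom x) ∈ Submodule.map ψ.hom (I ^ (k + 1) • (⊤ : Submodule A _)) :=
    Submodule.mem_map_of_mem h3
  rw [Submodule.map_smul''] at h4
  have h5 : ψ.hom (φ.hom x) = x := by
    have e := congrArg (fun g => g.hom x) hφψ
    simpa only [ModuleCat.hom_comp, LinearMap.comp_apply, ModuleCat.hom_id, LinearMap.id_apply]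
      using e
  rw [h5] at h4
  exact Submodule.smul_mono le_rfl le_top h4

end Main

end Groth.Agent.Lib.LeadAdicGamma
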