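import Mathlib

/-!
# Large finite subgroups of `Aˣ/Kˣ` from a purely inseparable element (lead's library)
-/

set_option autoImplicit false

namespace Groth.Agent.Lib.LeadBF

open Polynomial

universe u v

/-- a field of characteristic `p` containing all roots of unity is infinite -/
theorem infinite_of_roots_of_unity (K : Type u) [Field K] (p : ℕ) [Fact p.Prime] [CharP K p]
    (hK : ∀ n : ℕ, 0 < n → (X ^ n - 1 : K[X]).Splits) : Infinite K := by
  by_contra h
  rw [not_infinite_iff_finite] at h
  haveI := Fintype.ofFinite K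
  obtain ⟨f, -, hf⟩ := FiniteField.card K p
  set n := Fintype.card K + 1 with hn
  have hnK : ((n : ℕ) : K) ≠ 0 := by
    rw [hn, hf]
    push_cast
    rw [CharP.cast_eq_zero K p, zero_pow f.pos.ne', zero_add]
    exact one_ne_zero
  have hsep : (X ^ n - 1 : K[X]).Separable := X_pow_sub_one_separable_iff.2 hnK
  have hsp : ((X ^ n - 1 : K[X]).map (algebraMap K K)).Splits := by
    rw [Algebra.algebraMap_self, Polynomial.map_id]
    exact hK n (Nat.succ_pos _)
  have hcard := card_rootSet_eq_natDegree hsep hsp
  have hdeg : (X ^ n - 1 : K[X]).natDegree = n := by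
    rw [← C_1]; exact natDegree_X_pow_sub_C
  rw [hdeg] at hcard
  have hle : Fintype.card ((X ^ n - 1 : K[X]).rootSet K) ≤ Fintype.card K :=
    Fintype.card_le_of_injective _ Subtype.val_injective
  omega

section Main

variable (K : Type u) [Field K] (p : ℕ) [Fact p.Prime] [CharP K p]
  (A : Type v) [DivisionRing A] [Algebra K A]

/-- the image of `Kˣ` in `Aˣ` -/
abbrev scalarUnits : Subgroup Aˣ := (Units.map (algebraMap K A : K →* A)).range

instance scalarUnits_normal : (scalarUnits K A).Normal := by
  constructor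
  rintro _ ⟨x, rfl⟩ g
  refine ⟨x, ?_⟩
  ext
  simp only [Units.coe_map, MonoidHom.coe_coe, Units.val_mul]
  rw [← Algebra.commutes, mul_assoc, Units.mul_inv, mul_one]

variable {K A}

theorem one_add_smul_ne_zero {w : A} (hwK : w ∉ (algebraMap K A).range) (c : K) :
    1 + c • w ≠ 0 := by
  intro h
  by_cases hc : c = 0
  · simp [hc] at h
  · apply hwK
    refine ⟨-c⁻¹, ?_⟩
    have h1 : c • w = -1 := eq_neg_of_add_eq_zero_right h
    have h2 : w = c⁻¹ • (c • w) := by rw [smul_smul, inv_mul_cancel₀ hc, one_smul]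
    rw [h2, h1, map_neg, Algebra.algebraMap_eq_smul_one, smul_neg]

theorem eq_zero_of_add_smul_eq_zero {w : A} (hwK : w ∉ (algebraMap K A).range) (a b : K)
    (h : algebraMap K A a + b • w = 0) : a = 0 ∧ b = 0 := by
  have hb : b = 0 := by
    by_contra hb
    apply hwK
    refine ⟨-(b⁻¹ * a), ?_⟩
    have h1 : b • w = -algebraMap K A a := eq_neg_of_add_eq_zero_right h
    have h2 : w = b⁻¹ • (b • w) := by rw [smul_smul, inv_mul_cancel₀ hb, one_smul]
    rw [h2, h1, smul_neg, map_neg, map_mul, Algebra.smul_def]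
  refine ⟨?_, hb⟩
  rw [hb, zero_smul, add_zero] at h
  exact (map_eq_zero _).1 h

theorem large_subgroup (w : A) (hw : w ^ p ∈ (algebraMap K A).range)
    (hwK : w ∉ (algebraMap K A).range) [Infinite K] (N : ℕ) :
    ∃ H : Subgroup Aˣ, scalarUnits K A ≤ H ∧ N < (scalarUnits K A).relIndex H := by
  classical
  haveI : CharP A p := charP_of_injective_algebraMap (algebraMap K A).injective p
  obtain ⟨C, hC⟩ := Infinite.exists_subset_card_eq K (N + 1)
  let u : K → Aˣ := fun c => Units.mk0 (1 + c • w) (one_add_smul_ne_zero hwK c)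
  let Z := scalarUnits K A
  let π := QuotientGroup.mk' Z
  let S : Set (Aˣ ⧸ Z) := (fun c => π (u c)) '' (C : Set K)
  let H : Subgroup Aˣ := Z ⊔ Subgroup.closure (u '' (C : Set K))
  have hker : π.ker = Z := QuotientGroup.ker_mk' Z
  have hmap : H.map π = Subgroup.closure S := by
    rw [Subgroup.map_sup, MonoidHom.map_closure, Set.image_image]
    have : Z.map π = ⊥ := (Subgroup.map_eq_bot_iff _).2 (le_of_eq hker.symm)
    rw [this, bot_sup_eq]
  refine ⟨H, le_sup_left, ?_⟩
  have hrel : Z.relIndex H = Nat.card (H.map π) := by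
    have := Subgroup.relIndex_ker H π
    rwa [hker] at this
  rw [hrel, hmap]
  -- commutation of the generators
  have hcommA : ∀ c c' : K, u c * u c' = u c' * u c := by
    intro c c'
    ext
    simp only [u, Units.val_mul, Units.val_mk0]
    have hcw : Commute (c • w) (c' • w) :=
      ((Commute.refl w).smul_left c).smul_right c'
    have h1 : Commute (1 + c • w) (c' • w) := (Commute.one_left _).add_left hcw
    have h2 : Commute (1 + c • w) (1 + c' • w) := (Commute.one_right _).add_right h1
    exact h2.eq
  have hcommS : ∀ x ∈ S, ∀ y ∈ S, x * y = y * x := by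
    rintro _ ⟨c, _, rfl⟩ _ ⟨c', _, rfl⟩
    show π (u c) * π (u c') = π (u c') * π (u c)
    rw [← map_mul, ← map_mul, hcommA]
  have hpowS : ∀ x ∈ S, x ^ p = 1 := by
    rintro _ ⟨c, _, rfl⟩
    show π (u c) ^ p = 1
    rw [← map_pow, ← MonoidHom.mem_ker, hker]
    obtain ⟨a, ha⟩ := hw
    have hval : ((u c ^ p : Aˣ) : A) = algebraMap K A (1 + c ^ p * a) := by
      simp only [u, Units.val_pow_eq_pow_val, Units.val_mk0]
      rw [add_pow_char_of_commute p (Commute.one_left _), one_pow, _root_.smul_pow, ← ha, map_add,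
        map_one, map_mul, Algebra.smul_def, map_pow]
    have hne : (1 + c ^ p * a : K) ≠ 0 := by
      intro h0
      have := (u c ^ p).ne_zero
      rw [hval, h0, map_zero] at this
      exact this rfl
    exact ⟨Units.mk0 _ hne, Units.ext (by simp [hval])⟩
  letI : CommGroup (Subgroup.closure S) := Subgroup.closureCommGroupOfComm hcommS
  have hcl : ∀ x ∈ Subgroup.closure S, ∀ y ∈ Subgroup.closure S, x * y = y * x :=
    fun x hx y hy => congrArg Subtype.val (mul_comm (⟨x, hx⟩ : Subgroup.closure S) ⟨y, hy⟩)
  have hpow : ∀ x ∈ Subgroup.closure S, x ^ p = 1 := by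
    intro x hx
    induction hx using Subgroup.closure_induction with
    | mem x hx => exact hpowS x hx
    | one => exact one_pow _
    | mul x y hx hy ihx ihy =>
      rw [(show Commute x y from hcl x hx y hy).mul_pow, ihx, ihy, one_mul]
    | inv x hx ih => rw [inv_pow, ih, inv_one]
  have htors : IsMulTorsion (Subgroup.closure S) := fun g =>
    isOfFinOrder_iff_pow_eq_one.2 ⟨p, (Fact.out : p.Prime).pos, Subtype.ext (by simpa using hpow g g.2)⟩
  haveI : Finite S := (C.finite_toSet.image _)
  haveI : Group.FG (Subgroup.closure S) := Group.closure_finite_fg S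
  haveI : Finite (Subgroup.closure S) := CommGroup.finite_of_fg_isMulTorsion _ htors
  have hinj : Function.Injective (fun c : C =>
      (⟨π (u c), Subgroup.subset_closure ⟨c, c.2, rfl⟩⟩ : Subgroup.closure S)) := by
    intro c c' hcc
    have h1 : π (u c) = π (u c') := congrArg Subtype.val hcc
    have h2 : (u c)⁻¹ * u c' ∈ Z := QuotientGroup.eq.1 h1
    obtain ⟨z, hz⟩ := h2
    have h3 : u c' = u c * Units.map (algebraMap K A : K →* A) z := by
      rw [hz, mul_inv_cancel_left]
    have h4 : (1 : A) + (c' : K) • w = (1 + (c : K) • w) * algebraMap K A z := by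
      have := congrArg Units.val h3
      simpa [u] using this
    have h5 : algebraMap K A (1 - z) + ((c' : K) - z * c) • w = 0 := by
      rw [← Algebra.commutes, ← Algebra.smul_def, smul_add, smul_smul] at h4
      rw [map_sub, map_one, sub_smul, Algebra.algebraMap_eq_smul_one]
      have h8 : (1 : A) - (z : K) • (1 : A) + ((c' : K) • w - ((z : K) * (c : K)) • w) =
          (1 + (c' : K) • w) - ((z : K) • (1 : A) + ((z : K) * (c : K)) • w) := by abel
      rw [h8, h4, sub_self]
    obtain ⟨h6, h7⟩ := eq_zero_of_add_smul_eq_zero hwK _ _ h5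
    have hz1 : (z : K) = 1 := (sub_eq_zero.1 h6).symm
    rw [hz1, one_mul, sub_eq_zero] at h7
    exact Subtype.ext h7.symm
  have := Nat.card_le_card_of_injective _ hinj
  rw [Nat.card_eq_fintype_card, Fintype.card_coe, hC] at this
  omega

end Main

end Groth.Agent.Lib.LeadBF
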