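import Groth.Agent.Lib.LeadCSASplits

/-! # Brauer group of a separable algebraic extension: forward direction -/

universe u

namespace Groth.Agent.Lib.LeadBS

open TensorProduct Groth.Agent.Lib.LeadCSA

/-- if all central division algebras over `F'` are trivial, every CSA over `F'` is a matrix
algebra -/
theorem exists_algEquiv_matrix_of_trivial_division (F' : Type u) [Field F']
    (h : ∀ (D : Type u) [DivisionRing D] [Algebra F' D] [Algebra.IsCentral F' D]
      [FiniteDimensional F' D], Module.finrank F' D = 1)
    (B : Type u) [Ring B] [Algebra F' B] [Algebra.IsCentral F' B] [IsSimpleRing B]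
    [FiniteDimensional F' B] :
    ∃ n : ℕ, n ≠ 0 ∧ Nonempty (B ≃ₐ[F'] Matrix (Fin n) (Fin n) F') := by
  have : IsArtinianRing B := IsArtinianRing.of_finite F' B
  obtain ⟨n, hn, D, _, _, _, ⟨φ⟩⟩ := IsSimpleRing.exists_algEquiv_matrix_divisionRing_finite F' B
  have : Algebra.IsCentral F' (Matrix (Fin n) (Fin n) D) := Algebra.IsCentral.of_algEquiv F' _ _ φ
  have : Algebra.IsCentral F' D := isCentral_of_matrix (n := n)
  have h1 : Module.finrank F' D = 1 := h D
  have hbij : Function.Bijective (Algebra.ofId F' D) := by
    refine ⟨(algebraMap F' D).injective, ?_⟩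
    have hinj : Function.Injective (Algebra.linearMap F' D) := (algebraMap F' D).injective
    have hfr : Module.finrank F' F' = Module.finrank F' D := by rw [h1, Module.finrank_self]
    exact (LinearMap.injective_iff_surjective_of_finrank_eq_finrank hfr).mp hinj
  let g : F' ≃ₐ[F'] D := AlgEquiv.ofBijective (Algebra.ofId F' D) hbij
  exact ⟨n, hn.ne, ⟨φ.trans (g.symm.mapMatrix (m := Fin n))⟩⟩

set_option maxHeartbeats 800000 in
theorem forward (K F : Type u) [Field K] [Field F] [Algebra K F]
    (h1 : ∀ (F' : Type u) [Field F'] [Algebra F F'] [FiniteDimensional F F']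
        [Algebra.IsSeparable F F']
        (D : Type u) [DivisionRing D] [Algebra F' D] [Algebra.IsCentral F' D]
        [FiniteDimensional F' D], Module.finrank F' D = 1)
    (E : Type u) [Field E] [Algebra K E] [FiniteDimensional K E] [Algebra.IsSeparable K E]
    (D : Type u) [DivisionRing D] [Algebra E D] [Algebra.IsCentral E D] [FiniteDimensional E D]
    (M : Type u) [Field M] [Algebra K M] [Algebra E M] [Algebra F M] [IsScalarTower K E M]
    [IsScalarTower K F M] :
    ∃ n : ℕ, Nonempty ((M ⊗[E] D) ≃ₐ[M] Matrix (Fin n) (Fin n) M) := by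
  classical
  let b := Module.finBasis K E
  let S₀ : Set M := Set.range (fun i => algebraMap E M (b i))
  haveI : Finite S₀ := Set.finite_range _
  let F' : IntermediateField F M := IntermediateField.adjoin F S₀
  have hint : ∀ x ∈ S₀, IsIntegral F x := by
    rintro _ ⟨i, rfl⟩
    have h0 : IsIntegral K (b i) := Algebra.IsIntegral.isIntegral (b i)
    have h2 : IsIntegral K (algebraMap E M (b i)) := h0.map (IsScalarTower.toAlgHom K E M)
    exact h2.tower_top
  have hsep : ∀ x ∈ S₀, IsSeparable F x := by
    rintro _ ⟨i, rfl⟩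
    have h0 : IsSeparable K (b i) := Algebra.IsSeparable.isSeparable K (b i)
    have h2 : IsSeparable K (algebraMap E M (b i)) := by
      unfold IsSeparable
      rw [minpoly.algebraMap_eq (algebraMap E M).injective]
      exact h0
    exact h2.tower_top F
  haveI : FiniteDimensional F F' := IntermediateField.finiteDimensional_adjoin hint
  haveI : Algebra.IsSeparable F F' :=
    (IntermediateField.isSeparable_adjoin_iff_isSeparable F M).mpr hsep
  have hmem : ∀ e : E, algebraMap E M e ∈ F' := by
    intro e
    have he : e = ∑ i, b.repr e i • b i := (b.sum_repr e).symm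
    rw [he, map_sum]
    refine sum_mem fun i _ => ?_
    have h3 : algebraMap E M (b.repr e i • b i)
        = algebraMap F M (algebraMap K F (b.repr e i)) * algebraMap E M (b i) := by
      rw [Algebra.smul_def, map_mul, ← IsScalarTower.algebraMap_apply K E M,
        IsScalarTower.algebraMap_apply K F M]
    rw [h3]
    exact mul_mem (F'.algebraMap_mem _) (IntermediateField.subset_adjoin F S₀ ⟨i, rfl⟩)
  let iE : E →+* F' := RingHom.codRestrict (algebraMap E M) F' hmem
  letI : Algebra E F' := iE.toAlgebra
  haveI : IsScalarTower E F' M := IsScalarTower.of_algebraMap_eq (fun x => rfl)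
  haveI : IsSimpleRing (F' ⊗[E] D) := isSimpleRing_baseChange F'
  haveI : Algebra.IsCentral F' (F' ⊗[E] D) := isCentral_baseChange F'
  obtain ⟨n, hn, ⟨e⟩⟩ := exists_algEquiv_matrix_of_trivial_division F' (fun D' => h1 F' D')
    (F' ⊗[E] D)
  have hsplit : Curves.Splits E D F' := ⟨n, hn, ⟨e⟩⟩
  obtain ⟨m, -, ⟨e'⟩⟩ := splits_of_field_algHom (IsScalarTower.toAlgHom E F' M) hsplit
  exact ⟨m, ⟨e'⟩⟩

end Groth.Agent.Lib.LeadBS
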