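import Groth.Agent.Lib.LeadBS1

/-! # Brauer group of a separable algebraic extension: backward direction (descent of a division
algebra to a finite subextension) -/

universe u

namespace Groth.Agent.Lib.LeadBS

open TensorProduct Groth.Agent.Lib.LeadCSA

/-- a division algebra which becomes a matrix algebra ... -/
theorem finrank_eq_one_of_matrix_algHom {F' : Type*} [Field F'] {D : Type*} [DivisionRing D]
    [Algebra F' D] {n : ℕ} (ψ : Matrix (Fin n) (Fin n) F' →ₐ[F'] D) : n = 1 := by
  classical
  rcases Nat.lt_or_ge n 1 with h0 | h1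
  · exfalso
    have hn : n = 0 := by omega
    subst hn
    have h10 : (1 : Matrix (Fin 0) (Fin 0) F') = 0 := Subsingleton.elim _ _
    have := congrArg ψ h10
    rw [map_one, map_zero] at this
    exact one_ne_zero this
  rcases Nat.lt_or_ge 1 n with h2 | h2
  · exfalso
    haveI : NeZero n := ⟨by omega⟩
    have hinj : Function.Injective ψ := RingHom.injective ψ.toRingHom
    let i0 : Fin n := ⟨0, by omega⟩
    let i1 : Fin n := ⟨1, h2⟩
    have hne : i0 ≠ i1 := by
      intro h
      have := congrArg Fin.val h
      simp [i0, i1] at this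
    have hprod : (Matrix.single i0 i0 (1 : F')) * (Matrix.single i1 i1 (1 : F')) = 0 :=
      Matrix.single_mul_single_of_ne _ _ _ _ hne _
    have h3 := congrArg ψ hprod
    rw [map_mul, map_zero] at h3
    rcases mul_eq_zero.mp h3 with h4 | h4
    · have h5 : Matrix.single i0 i0 (1 : F') = 0 := hinj (by rw [h4, map_zero])
      have := congrFun (congrFun h5 i0) i0
      simp at this
    · have h5 : Matrix.single i1 i1 (1 : F') = 0 := hinj (by rw [h4, map_zero])
      have := congrFun (congrFun h5 i1) i1
      simp at this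
  · omega

set_option maxHeartbeats 1600000 in
theorem backward (K F : Type u) [Field K] [Field F] [Algebra K F] [Algebra.IsSeparable K F]
    (h2 : ∀ (E : Type u) [Field E] [Algebra K E] [FiniteDimensional K E]
        [Algebra.IsSeparable K E]
        (D : Type u) [DivisionRing D] [Algebra E D] [Algebra.IsCentral E D]
        [FiniteDimensional E D]
        (M : Type u) [Field M] [Algebra K M] [Algebra E M] [Algebra F M] [IsScalarTower K E M]
        [IsScalarTower K F M],
        ∃ n : ℕ, Nonempty ((M ⊗[E] D) ≃ₐ[M] Matrix (Fin n) (Fin n) M))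
    (F' : Type u) [Field F'] [Algebra F F'] [FiniteDimensional F F'] [Algebra.IsSeparable F F']
    (D : Type u) [DivisionRing D] [Algebra F' D] [Algebra.IsCentral F' D]
    [FiniteDimensional F' D] :
    Module.finrank F' D = 1 := by
  classical
  letI : Algebra K F' := ((algebraMap F F').comp (algebraMap K F)).toAlgebra
  haveI : IsScalarTower K F F' := IsScalarTower.of_algebraMap_eq (fun _ => rfl)
  haveI : Algebra.IsSeparable K F' := Algebra.IsSeparable.trans K F F'
  let b := Module.finBasis F' D
  let S : Set F' :=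
    (Set.range fun q : (Fin (Module.finrank F' D) × Fin (Module.finrank F' D)) ×
      Fin (Module.finrank F' D) => b.repr (b q.1.1 * b q.1.2) q.2) ∪
      Set.range (fun l => b.repr 1 l)
  have hSfin : S.Finite := (Set.finite_range _).union (Set.finite_range _)
  haveI : Finite S := hSfin.to_subtype
  let E : IntermediateField K F' := IntermediateField.adjoin K S
  haveI : FiniteDimensional K E :=
    IntermediateField.finiteDimensional_adjoin (fun x _ => Algebra.IsIntegral.isIntegral x)
  haveI : Algebra.IsSeparable K E := Algebra.isSeparable_tower_bot_of_isSeparable K E F'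
  have hc : ∀ i j l, b.repr (b i * b j) l ∈ E := fun i j l =>
    IntermediateField.subset_adjoin K S (Or.inl ⟨((i, j), l), rfl⟩)
  have hu : ∀ l, b.repr 1 l ∈ E := fun l =>
    IntermediateField.subset_adjoin K S (Or.inr ⟨l, rfl⟩)
  -- the `E`-span of the basis
  let p : Submodule E D := Submodule.span E (Set.range b)
  have hbp : ∀ l, b l ∈ p := fun l => Submodule.subset_span ⟨l, rfl⟩
  have h_one : (1 : D) ∈ p := by
    have h1 : (1 : D) = ∑ l, b.repr 1 l • b l := (b.sum_repr 1).symm
    rw [h1]
    refine Submodule.sum_mem _ fun l _ => ?_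
    have h3 : b.repr 1 l • b l = (⟨b.repr 1 l, hu l⟩ : E) • b l := rfl
    rw [h3]
    exact Submodule.smul_mem _ _ (hbp l)
  have h_mul : ∀ x y : D, x ∈ p → y ∈ p → x * y ∈ p := by
    intro x y hx hy
    have h1 : x * y ∈ p * p := Submodule.mul_mem_mul hx hy
    have h3 : p * p ≤ p := by
      rw [Submodule.span_mul_span, Submodule.span_le]
      rintro _ ⟨_, ⟨i, rfl⟩, _, ⟨j, rfl⟩, rfl⟩
      show b i * b j ∈ p
      have h4 : b i * b j = ∑ l, b.repr (b i * b j) l • b l := (b.sum_repr _).symm
      rw [h4]
      refine Submodule.sum_mem _ fun l _ => ?_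
      have h5 : b.repr (b i * b j) l • b l = (⟨b.repr (b i * b j) l, hc i j l⟩ : E) • b l := rfl
      rw [h5]
      exact Submodule.smul_mem _ _ (hbp l)
    exact h3 h1
  have hcoord : ∀ x ∈ p, ∀ l, b.repr x l ∈ E := by
    intro x hx
    refine Submodule.span_induction ?_ ?_ ?_ ?_ hx
    · rintro _ ⟨i, rfl⟩ l
      rw [b.repr_self, Finsupp.single_apply]
      split_ifs
      · exact E.one_mem
      · exact E.zero_mem
    · intro l
      rw [map_zero, Finsupp.zero_apply]
      exact E.zero_mem
    · intro x y _ _ hx hy l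
      rw [map_add, Finsupp.add_apply]
      exact E.add_mem (hx l) (hy l)
    · intro e x _ hx l
      have h1 : e • x = (e : F') • x := rfl
      rw [h1, map_smul, Finsupp.smul_apply, smul_eq_mul]
      exact E.mul_mem e.2 (hx l)
  let D₀ : Subalgebra E D := p.toSubalgebra h_one h_mul
  have hD₀mem : ∀ x : D, x ∈ D₀ ↔ x ∈ p := fun x => Iff.rfl
  haveI : FiniteDimensional E D₀ := by
    have h1 : FiniteDimensional E p := FiniteDimensional.span_of_finite E (Set.finite_range b)
    exact h1
  letI instDR : DivisionRing D₀ := divisionRingOfFiniteDimensional E D₀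
  have hcentral : Algebra.IsCentral E D₀ := by
    constructor
    intro z hz
    rw [Subalgebra.mem_center_iff] at hz
    have hzb : ∀ l, b l * (z : D) = (z : D) * b l := fun l => by
      have := hz ⟨b l, hbp l⟩
      exact congrArg Subtype.val this
    have hzD : (z : D) ∈ Subalgebra.center F' D := by
      rw [Subalgebra.mem_center_iff]
      intro x
      rw [← b.sum_repr x, Finset.sum_mul, Finset.mul_sum]
      refine Finset.sum_congr rfl fun l _ => ?_
      rw [smul_mul_assoc, mul_smul_comm, hzb l]
    obtain ⟨f, hf⟩ := (Algebra.IsCentral.mem_center_iff (K := F')).mp hzD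
    -- `f ∈ E`
    have hzcoord : ∀ l, b.repr (z : D) l = f * b.repr 1 l := by
      intro l
      rw [hf, Algebra.algebraMap_eq_smul_one, map_smul, Finsupp.smul_apply, smul_eq_mul]
    have hne : ∃ l, b.repr (1 : D) l ≠ 0 := by
      by_contra hall
      push_neg at hall
      have h1 : b.repr (1 : D) = 0 := Finsupp.ext hall
      have h3 : (1 : D) = 0 := by
        have := congrArg b.repr.symm h1
        simpa using this
      exact one_ne_zero h3
    obtain ⟨l, hl⟩ := hne
    have hfE : f ∈ E := by
      have h1 : f = b.repr (z : D) l / b.repr 1 l := by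
        rw [hzcoord l, mul_div_assoc, div_self hl, mul_one]
      rw [h1]
      exact E.div_mem (hcoord (z : D) z.2 l) (hu l)
    rw [Algebra.mem_bot]
    refine ⟨⟨f, hfE⟩, Subtype.ext ?_⟩
    rw [hf]
    rfl
  -- apply the hypothesis
  obtain ⟨n, ⟨e⟩⟩ := @h2 E _ _ _ _ D₀ instDR _ hcentral _ F' _ _ _ _ _ _
  let μ : F' ⊗[E] D₀ →ₐ[F'] D :=
    Algebra.TensorProduct.lift (Algebra.ofId F' D) D₀.val
      (fun t _ => Algebra.commute_algebraMap_left t _)
  have hμsurj : Function.Surjective μ := by
    intro x
    refine ⟨∑ l, (b.repr x l) ⊗ₜ[E] (⟨b l, hbp l⟩ : D₀), ?_⟩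
    rw [map_sum]
    conv_rhs => rw [← b.sum_repr x]
    refine Finset.sum_congr rfl fun l _ => ?_
    show (Algebra.ofId F' D) (b.repr x l) * (b l) = _
    rw [Algebra.ofId_apply, ← Algebra.smul_def]
  have hn1 : n = 1 := finrank_eq_one_of_matrix_algHom (μ.comp e.symm.toAlgHom)
  subst hn1
  have hle : Module.finrank F' D ≤ Module.finrank F' (F' ⊗[E] D₀) :=
    LinearMap.finrank_le_finrank_of_surjective (f := μ.toLinearMap) hμsurj
  have h1 : Module.finrank F' (F' ⊗[E] D₀) = 1 := by
    rw [e.toLinearEquiv.finrank_eq, Module.finrank_matrix, Module.finrank_self]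
    simp
  have hpos : 0 < Module.finrank F' D := Module.finrank_pos
  omega

end Groth.Agent.Lib.LeadBS
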