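import Mathlib
import Groth.Prelude.Def_Algz
import Groth.Agent.Lib.Helper17IAdic
import Groth.Agent.Lib.Helper27FormalKer

/-!
# Lead: change of the base ring for coherent formal modules

Let `A → A'` be a ring map and `Y` a scheme over `Spec A'`, hence over `Spec A`.  A system of `O_Y`-modules
which is a coherent formal module for the ideal `I` of `A` is one for the ideal `I A'` of `A'`.
-/

set_option autoImplicit false
set_option linter.style.haveILetI false
universe u
open CategoryTheory Limits AlgebraicGeometry TopologicalSpace Opposite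

namespace Groth.Agent.Lib.LeadBaseRing

open Groth.Agent.Lib.Helper17.IAdic Groth.Agent.Lib.Helper27FormalKer

variable {A A' : Type u} [CommRing A] [CommRing A'] [Algebra A A'] {Y : Scheme.{u}}
  (g : Y ⟶ Spec (CommRingCat.of A'))

/-- the structure morphism to `Spec A` induced by one to `Spec A'`. -/
noncomputable abbrev toA : Y ⟶ Spec (CommRingCat.of A) :=
  g ≫ Spec.map (CommRingCat.ofHom (algebraMap A A'))

theorem toGlobal_toA (a : A) :
    Coh.toGlobal (toA (A := A) g) a = Coh.toGlobal g (algebraMap A A' a) := by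
  have h1 := Scheme.ΓSpecIso_inv_naturality (CommRingCat.ofHom (algebraMap A A'))
  have h2 : (Scheme.ΓSpecIso (CommRingCat.of A')).inv.hom (algebraMap A A' a) =
      (Spec.map (CommRingCat.ofHom (algebraMap A A'))).appTop.hom
        ((Scheme.ΓSpecIso (CommRingCat.of A)).inv.hom a) :=
    congrArg (fun φ => φ.hom a) h1
  change (g ≫ Spec.map (CommRingCat.ofHom (algebraMap A A'))).appTop.hom
      ((Scheme.ΓSpecIso (CommRingCat.of A)).inv.hom a) =
    g.appTop.hom ((Scheme.ΓSpecIso (CommRingCat.of A')).inv.hom (algebraMap A A' a))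
  rw [h2, Scheme.Hom.comp_appTop]
  rfl

theorem smulMod_toA (T : Y.Modules) (a : A) :
    @Formal.smulMod A _ Y ⟨toA (A := A) g⟩ T a =
      @Formal.smulMod A' _ Y ⟨g⟩ T (algebraMap A A' a) := by
  change Formal.smulModΓ T (Coh.toGlobal (toA (A := A) g) a) =
    Formal.smulModΓ T (Coh.toGlobal g (algebraMap A A' a))
  rw [toGlobal_toA]

theorem map_induction {J : Ideal A} (P : A' → Prop) (h0 : P 0)
    (hadd : ∀ x y, P x → P y → P (x + y)) (hmul : ∀ r x, P x → P (r * x))
    (hJ : ∀ a ∈ J, P (algebraMap A A' a)) : ∀ a' ∈ J.map (algebraMap A A'), P a' := by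
  intro a' ha'
  unfold Ideal.map at ha'
  induction ha' using Submodule.span_induction with
  | mem x hx =>
    obtain ⟨a, ha, rfl⟩ := hx
    exact hJ a ha
  | zero => exact h0
  | add x y _ _ hx hy => exact hadd x y hx hy
  | smul r x _ hx => exact hmul r x hx

/-- a morphism killed by the multiplications by `J` is killed by those by `J A'`. -/
theorem smulMod_comp_eq_zero_of_map {J : Ideal A} {T Z : Y.Modules} (t : T ⟶ Z)
    (h : ∀ a ∈ J, @Formal.smulMod A _ Y ⟨toA (A := A) g⟩ T a ≫ t = 0) :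
    ∀ a' ∈ J.map (algebraMap A A'), @Formal.smulMod A' _ Y ⟨g⟩ T a' ≫ t = 0 := by
  letI oY' : Y.Over (Spec (CommRingCat.of A')) := ⟨g⟩
  refine map_induction (fun a' => Formal.smulMod A' T a' ≫ t = 0) ?_ ?_ ?_ ?_
  · rw [smulMod_zero, zero_comp]
  · intro x y hx hy
    rw [smulMod_add, Preadditive.add_comp, hx, hy, add_zero]
  · intro r x hx
    rw [smulMod_mul', Category.assoc, hx, comp_zero]
  · intro a ha
    rw [← smulMod_toA]
    exact h a ha

theorem killedBy_map {J : Ideal A} {T : Y.Modules}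
    (h : @Formal.KilledBy A _ Y ⟨toA (A := A) g⟩ J T) :
    @Formal.KilledBy A' _ Y ⟨g⟩ (J.map (algebraMap A A')) T := by
  intro a' ha'
  have := smulMod_comp_eq_zero_of_map g (𝟙 T) (fun a ha => by rw [Category.comp_id]; exact h a ha)
    a' ha'
  rwa [Category.comp_id] at this

theorem ι_smulFamily' {B : Type u} [CommRing B] [Y.Over (Spec (CommRingCat.of B))] (J : Ideal B)
    (T : Y.Modules) (b : J) :
    Sigma.ι (fun _ : J => T) b ≫ Formal.smulFamily J T = Formal.smulMod B T (b : B) := by
  simp [Formal.smulFamily]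

theorem quot_map {J : Ideal A} {T T' : Y.Modules} (t : T ⟶ T')
    (h : @Formal.smulFamily A _ Y ⟨toA (A := A) g⟩ J T ≫ t = 0)
    (hiso : IsIso (cokernel.desc _ t h)) :
    ∃ h' : @Formal.smulFamily A' _ Y ⟨g⟩ (J.map (algebraMap A A')) T ≫ t = 0,
      IsIso (cokernel.desc _ t h') := by
  letI oY : Y.Over (Spec (CommRingCat.of A)) := ⟨toA (A := A) g⟩
  letI oY' : Y.Over (Spec (CommRingCat.of A')) := ⟨g⟩
  have hkill : ∀ {Z : Y.Modules} (s : T ⟶ Z), @Formal.smulFamily A _ Y oY J T ≫ s = 0 →
      @Formal.smulFamily A' _ Y oY' (J.map (algebraMap A A')) T ≫ s = 0 := by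
    intro Z s hs
    apply Sigma.hom_ext
    intro b
    rw [comp_zero, ← Category.assoc, ι_smulFamily']
    refine smulMod_comp_eq_zero_of_map g s (fun a ha => ?_) b.1 b.2
    have := (Sigma.ι (fun _ : J => T) ⟨a, ha⟩) ≫= hs
    rw [comp_zero, ← Category.assoc] at this
    rw [← this]
    congr 1
    exact (@ι_smulFamily' Y A _ oY J T ⟨a, ha⟩).symm
  have hkill' : ∀ {Z : Y.Modules} (s : T ⟶ Z),
      @Formal.smulFamily A' _ Y oY' (J.map (algebraMap A A')) T ≫ s = 0 →
      @Formal.smulFamily A _ Y oY J T ≫ s = 0 := by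
    intro Z s hs
    apply Sigma.hom_ext
    intro a
    rw [comp_zero, ← Category.assoc, @ι_smulFamily' Y A _ oY J T a, smulMod_toA]
    have := (Sigma.ι (fun _ : (J.map (algebraMap A A') : Ideal A') => T)
      ⟨algebraMap A A' a.1, Ideal.mem_map_of_mem _ a.2⟩) ≫= hs
    rw [comp_zero, ← Category.assoc, ι_smulFamily'] at this
    exact this
  have h' := hkill t h
  refine ⟨h', ?_⟩
  haveI := hiso
  let c : cokernel (@Formal.smulFamily A _ Y oY J T) ⟶
      cokernel (@Formal.smulFamily A' _ Y oY' (J.map (algebraMap A A')) T) :=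
    cokernel.desc _ (cokernel.π _) (hkill' _ (cokernel.condition _))
  let c' : cokernel (@Formal.smulFamily A' _ Y oY' (J.map (algebraMap A A')) T) ⟶
      cokernel (@Formal.smulFamily A _ Y oY J T) :=
    cokernel.desc _ (cokernel.π _) (hkill _ (cokernel.condition _))
  have hcc' : c ≫ c' = 𝟙 _ := by
    rw [← cancel_epi (cokernel.π _), ← Category.assoc, cokernel.π_desc, cokernel.π_desc,
      Category.comp_id]
  have hc'c : c' ≫ c = 𝟙 _ := by
    rw [← cancel_epi (cokernel.π _), ← Category.assoc, cokernel.π_desc, cokernel.π_desc,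
      Category.comp_id]
  haveI : IsIso c' := ⟨c, hc'c, hcc'⟩
  have e : cokernel.desc _ t h' = c' ≫ cokernel.desc _ t h := by
    rw [← cancel_epi (cokernel.π _), cokernel.π_desc, ← Category.assoc, cokernel.π_desc,
      cokernel.π_desc]
  rw [e]
  infer_instance

/-- a coherent formal module for `I` is one for `I A'`. -/
theorem isCohFormal_map {I : Ideal A} {H : ℕᵒᵖ ⥤ Y.Modules}
    (hH : @Formal.IsCohFormal A _ Y ⟨toA (A := A) g⟩ I H) :
    @Formal.IsCohFormal A' _ Y ⟨g⟩ (I.map (algebraMap A A')) H := by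
  refine ⟨hH.1, fun n => ?_, fun n => ?_⟩
  · rw [← Ideal.map_pow]
    exact killedBy_map g (hH.2.1 n)
  · obtain ⟨h, hiso⟩ := hH.2.2 n
    have key : ∀ J' : Ideal A', J' = (I ^ (n + 1)).map (algebraMap A A') →
        ∃ h' : @Formal.smulFamily A' _ Y ⟨g⟩ J' (H.obj (op (n + 1))) ≫
            H.map (homOfLE (Nat.le_succ n)).op = 0, IsIso (cokernel.desc _ _ h') := by
      intro J' hJ'
      subst hJ'
      exact quot_map g _ h hiso
    exact key _ (Ideal.map_pow _ _ _).symm

end Groth.Agent.Lib.LeadBaseRing
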