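import Mathlib
import Groth.Prelude
import Groth.Agent.Lib.Helper23ResProp
import Groth.Agent.Lib.Helper23RelRes
import Groth.Agent.Lib.Helper23PB
import Groth.Agent.Lib.Helper27PnAmple
import Groth.Agent.Lib.Helper27TwistEq
import Groth.Agent.Lib.Helper27SerreVanPn
import Groth.Agent.Lib.Helper23VeryAmple3
import Groth.Agent.Lib.Helper27FibreStalk
set_option backward.isDefEq.respectTransparency.types false

set_option autoImplicit false
universe u
open CategoryTheory CategoryTheory.Limits AlgebraicGeometry TopologicalSpace Opposite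

namespace Groth.Agent.LeadBdd
open Groth.Agent.Lib.Helper23.TensorUnit Groth.Agent.Lib.Helper23.ResProp
open Groth.Agent.Lib.Helper21.ModTensor3 Groth.Agent.Lib.Helper21.ModTensor5

section Abs
variable {C : Type*} [Category C]

/-- a family of morphisms into `M` is jointly epimorphic -/
def JEpi {ι : Type*} {A : ι → C} {M : C} (c : ∀ j, A j ⟶ M) : Prop :=
  ∀ ⦃Q : C⦄ (g h : M ⟶ Q), (∀ j, c j ≫ g = c j ≫ h) → g = h

theorem epi_sigmaDesc_of_jEpi {ι : Type*} {A : ι → C} {M : C} [HasCoproduct A] (c : ∀ j, A j ⟶ M)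
    (hc : JEpi c) : Epi (Sigma.desc c) :=
  ⟨fun g h e => hc g h (fun j => by
    have := congrArg (fun φ => Sigma.ι A j ≫ φ) e
    simpa using this)⟩

theorem jEpi_of_epi_sigmaDesc {ι : Type*} {A : ι → C} {M : C} [HasCoproduct A] (c : ∀ j, A j ⟶ M)
    [Epi (Sigma.desc c)] : JEpi c := fun Q g h e => by
  rw [← cancel_epi (Sigma.desc c)]
  exact Sigma.hom_ext _ _ (fun j => by simpa using e j)

theorem JEpi.comp_epi {ι : Type*} {A : ι → C} {M M' : C} {c : ∀ j, A j ⟶ M} (hc : JEpi c)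
    (q : M ⟶ M') [Epi q] : JEpi (fun j => c j ≫ q) := fun Q g h e => by
  rw [← cancel_epi q]
  exact hc _ _ (fun j => by simpa using e j)

theorem JEpi.precomp_iso {ι : Type*} {A A' : ι → C} {M : C} {c : ∀ j, A j ⟶ M} (hc : JEpi c)
    (e : ∀ j, A' j ≅ A j) : JEpi (fun j => (e j).hom ≫ c j) := fun Q g h hh => by
  refine hc g h (fun j => ?_)
  have := hh j
  simp only [Category.assoc] at this
  exact (cancel_epi (e j).hom).1 this

theorem JEpi.map {D : Type*} [Category D] (G : C ⥤ D) {ι : Type*} {A : ι → C} {M : C} [HasCoproduct A]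
    [PreservesColimit (Discrete.functor A) G] [G.PreservesEpimorphisms]
    {c : ∀ j, A j ⟶ M} (hc : JEpi c) : JEpi (fun j => G.map (c j)) := fun Q g h e => by
  have := epi_sigmaDesc_of_jEpi c hc
  rw [← cancel_epi (G.map (Sigma.desc c))]
  refine (isColimitOfPreserves G (coproductIsCoproduct A)).hom_ext (fun ⟨j⟩ => ?_)
  simp only [Functor.mapCocone_ι_app, Cofan.mk_ι_app, ← Category.assoc, ← G.map_comp, Sigma.ι_desc]
  exact e j

theorem JEpi.pad {ι ι' : Type*} [Preadditive C] {A : C} {M : C} {c : ι → (A ⟶ M)} (hc : JEpi c)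
    (f : ι → ι') (hf : Function.Injective f) [DecidableEq ι'] :
    ∃ c' : ι' → (A ⟶ M), JEpi c' := by
  classical
  refine ⟨fun j' => if h : ∃ j, f j = j' then c h.choose else 0, fun Q g h e => hc g h (fun j => ?_)⟩
  have h1 := e (f j)
  have hex : ∃ j₀, f j₀ = f j := ⟨j, rfl⟩
  simp only [dif_pos hex] at h1
  have : hex.choose = j := hf hex.choose_spec
  rwa [this] at h1

end Abs

section Sch
variable {Y : Scheme.{u}}

/-- From an epimorphism `O^k ⟶ M ⊗ P` and an inverse `D` of `P`, get `k` morphisms `D ⟶ M` which are jointly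
epimorphic. -/
theorem exists_jEpi_of_twist (M P D : Y.Modules) (e : CohB1.tensorMod P D ≅ Coh.structureModule Y) {k : ℕ}
    (p : FlatMod.freeMod Y k ⟶ CohB1.tensorMod M P) [Epi p] :
    ∃ c : Fin k → (D ⟶ M), JEpi c := by
  haveI : PreservesColimitsOfSize.{0, 0} (tR Y.sheaf D) := preservesColimitsOfSize_shrink.{0, u, 0, u} _
  let A : Fin k → Y.Modules := fun _ => Coh.structureModule Y
  -- the inclusions `O ⊗ D ⟶ O^k ⊗ D` are jointly epimorphic
  have h1 : JEpi (fun j : Fin k => tmapR (Sigma.ι A j) D) := fun Q g h hh => by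
    refine (isColimitOfPreserves (tR Y.sheaf D) (coproductIsCoproduct A)).hom_ext (fun ⟨j⟩ => ?_)
    exact hh j
  have h2 := (h1.comp_epi (untwist p e)).precomp_iso (fun _ => (unitTensorIso D).symm)
  exact ⟨_, h2⟩

open Groth.Agent.Lib.Helper23.PB Groth.Agent.Lib.Helper23.AmpleIso Groth.Agent.Lib.Helper23.SecTw in
/-- an inverse of `A^{⊗ m}` pulls back to an inverse of `(f^* A)^{⊗ m}` -/
theorem nonempty_pullback_inverse {X' Y' : Scheme.{u}} (f : Y' ⟶ X') (A D : X'.Modules)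
    (hA : PicF.IsInvertible A) (hD : PicF.IsInvertible D) (m : ℕ)
    (e : CohB1.tensorMod (CohB1.tensorPow A m) D ≅ Coh.structureModule X') :
    Nonempty (CohB1.tensorMod (CohB1.tensorPow ((Scheme.Modules.pullback f).obj A) m)
      ((Scheme.Modules.pullback f).obj D) ≅ Coh.structureModule Y') := by
  obtain ⟨e1⟩ := nonempty_pullback_tensorPow_iso f A hA m
  obtain ⟨e2⟩ := nonempty_pullback_tensorMod_iso f _ _ (isInvertible_tensorPow hA m) hD
  exact ⟨tensorModIso e1.symm (Iso.refl _) ≪≫ e2.symm ≪≫ (Scheme.Modules.pullback f).mapIso e ≪≫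
    pullbackUnitIso f⟩

end Sch

section Pn
variable (k : Type u) [CommRing k] (n : ℕ)

local notation "𝒢" => CohB1.polyGrading n k

open Groth.Agent.Lib.Helper27PnMor Groth.Agent.Lib.Helper23.AmpleIso in
theorem nonempty_twist_pow_inverse (m : ℕ) :
    Nonempty (CohB1.tensorMod (CohB1.tensorPow (Twist.twistProjSpace n k 1) m)
      (Twist.twistProjSpace n k (-(m : ℤ))) ≅ Coh.structureModule (CohB1.ProjSpace n k)) := by
  obtain ⟨e1⟩ := Groth.Agent.Lib.Helper27GrTildeSect.nonempty_pow_iso 𝒢 (cover_X n k) m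
  obtain ⟨e0⟩ := Groth.Agent.Lib.Helper27GrTildeSect.nonempty_pow_iso 𝒢 (cover_X n k) 0
  obtain ⟨e2⟩ := Groth.Agent.Lib.Helper27SerreVanPn.nonempty_twist_tensor_iso n k (m : ℤ) (-(m : ℤ))
  rw [Groth.Agent.Lib.Helper27TwistEq.twistProjSpace_apply n k 1]
  rw [Groth.Agent.Lib.Helper27TwistEq.twistProjSpace_apply n k (m : ℤ),
    Groth.Agent.Lib.Helper27TwistEq.twistProjSpace_apply n k ((m : ℤ) + -(m : ℤ))] at e2
  have h0 : (m : ℤ) + -(m : ℤ) = ((0 : ℕ) : ℤ) := by simp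
  rw [h0] at e2
  have e0' : GrTilde.tilde 𝒢 𝒢 ((0 : ℕ) : ℤ) ≅ Coh.structureModule (Proj 𝒢) := e0
  exact ⟨tensorModIso e1.symm (Iso.refl _) ≪≫ e2 ≪≫ e0'⟩

end Pn

section Main
variable (k : Type u) [Field k] (n : ℕ) {X : Scheme.{u}}
  (i : X ⟶ CohB1.ProjSpace n k) [IsClosedImmersion i]

open Groth.Agent.Lib.Helper23.PB Groth.Agent.Lib.Helper23.AmpleIso Groth.Agent.Lib.Helper23.SecTw

/-- `i^* O(1)` -/
noncomputable abbrev AX : X.Modules := (Scheme.Modules.pullback i).obj (Twist.twistProjSpace n k 1)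

theorem isAmple_AX : CohB1.IsAmple (AX k n i) :=
  isAmple_pullback_of_isAffineHom i _ (Groth.Agent.Lib.Helper23.VeryAmple3.isAmple_twistProjSpace (n := n) (R := k))

/-- `O_X(-m)` in the form of the statement -/
noncomputable abbrev DX (m : ℕ) : X.Modules := Pic13.twistOn k i (Coh.structureModule X) (-(m : ℤ))

omit [IsClosedImmersion i] in
theorem isInvertible_DX (m : ℕ) : PicF.IsInvertible (DX k n i m) :=
  isInvertible_tensorMod (Groth.Agent.Lib.Helper23.TensorUnit.isInvertible_structureModule X)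
    (isInvertible_pullback i _ (Groth.Agent.Lib.Helper27SerreVanPn.isInvertible_twist n k _))

omit [IsClosedImmersion i] in
theorem isInvertible_AX : PicF.IsInvertible (AX k n i) :=
  isInvertible_pullback i _ (Groth.Agent.Lib.Helper27SerreVanPn.isInvertible_twist n k _)

omit [IsClosedImmersion i] in
theorem nonempty_AX_pow_inverse (m : ℕ) :
    Nonempty (CohB1.tensorMod (CohB1.tensorPow (AX k n i) m) (DX k n i m) ≅ Coh.structureModule X) := by
  obtain ⟨e⟩ := nonempty_twist_pow_inverse k n m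
  obtain ⟨e'⟩ := nonempty_pullback_inverse i _ _ (Groth.Agent.Lib.Helper27SerreVanPn.isInvertible_twist n k 1)
    (Groth.Agent.Lib.Helper27SerreVanPn.isInvertible_twist n k (-(m : ℤ))) m e
  exact ⟨tensorModIso (Iso.refl _) (unitTensorIso _) ≪≫ e'⟩

variable [X.Over (Spec (CommRingCat.of k))]

/-- the projection `X ×_k T ⟶ X` -/
noncomputable abbrev pr₁ {T : Scheme.{u}} (q : T ⟶ Spec (CommRingCat.of k)) : Pic13.prodK k X q ⟶ X :=
  pullback.fst (X ↘ Spec (CommRingCat.of k)) q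

omit [IsClosedImmersion i] in
theorem sliceAt_pr₁ {T : Scheme.{u}} (q : T ⟶ Spec (CommRingCat.of k)) (t : Spec (CommRingCat.of k) ⟶ T)
    (ht : t ≫ q = 𝟙 _) : Pic13.sliceAt k X q t ht ≫ pr₁ k q = 𝟙 X := by
  exact pullback.lift_fst _ _ _

/-- the affine case -/
theorem exists_jEpi_affine {T : Scheme.{u}} [IsAffine T] (q : T ⟶ Spec (CommRingCat.of k))
    (F : (Pic13.prodK k X q).Modules) (hF : Coh.IsCoh F) :
    ∃ n₀ : ℕ, ∀ m, n₀ ≤ m → ∃ K : ℕ, ∀ (t : Spec (CommRingCat.of k) ⟶ T) (ht : t ≫ q = 𝟙 _),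
      ∃ c : Fin K → (DX k n i m ⟶ Pic13.fibreMod k X q t ht F), JEpi c := by
  haveI : IsAffineHom (pr₁ (X := X) k q) :=
    MorphismProperty.pullback_fst (P := @IsAffineHom) _ _ inferInstance
  have hL : CohB1.IsAmple ((Scheme.Modules.pullback (pr₁ (X := X) k q)).obj (AX k n i)) :=
    isAmple_pullback_of_isAffineHom _ _ (isAmple_AX k n i)
  haveI : F.IsQuasicoherent := hF.1
  haveI : SheafOfModules.IsFiniteType (R := (Pic13.prodK k X q).ringCatSheaf) F := hF.2
  obtain ⟨n₀, hn₀⟩ := Groth.Agent.Lib.Helper23.RelRes.exists_epi_freeMod_twist _ hL F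
  refine ⟨n₀, fun m hm => ?_⟩
  obtain ⟨K, p, hp⟩ := hn₀ m hm
  obtain ⟨eX⟩ := nonempty_AX_pow_inverse k n i m
  obtain ⟨eY⟩ := nonempty_pullback_inverse (pr₁ (X := X) k q) _ _ (isInvertible_AX k n i)
    (isInvertible_DX k n i m) m eX
  obtain ⟨c, hc⟩ := exists_jEpi_of_twist F _ _ eY p
  refine ⟨K, fun t ht => ?_⟩
  have h1 := hc.map (Scheme.Modules.pullback (Pic13.sliceAt k X q t ht))
  let ε : DX k n i m ≅ (Scheme.Modules.pullback (Pic13.sliceAt k X q t ht)).obj
      ((Scheme.Modules.pullback (pr₁ (X := X) k q)).obj (DX k n i m)) :=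
    ((Scheme.Modules.pullbackId X).app _).symm ≪≫
      ((Scheme.Modules.pullbackCongr (sliceAt_pr₁ k q t ht)).app _).symm ≪≫
      ((Scheme.Modules.pullbackComp (Pic13.sliceAt k X q t ht) (pr₁ (X := X) k q)).app _).symm
  exact ⟨_, h1.precomp_iso (fun _ => ε)⟩

/-- base change of an open immersion `T' ⟶ T` to `X ×_k T' ⟶ X ×_k T` -/
noncomputable abbrev bMap {T T' : Scheme.{u}} (q : T ⟶ Spec (CommRingCat.of k)) (g : T' ⟶ T) :
    Pic13.prodK k X (g ≫ q) ⟶ Pic13.prodK k X q :=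
  pullback.lift (pullback.fst _ _) (pullback.snd _ _ ≫ g) (by rw [pullback.condition, Category.assoc])

omit [IsClosedImmersion i] in
theorem sliceAt_bMap {T T' : Scheme.{u}} (q : T ⟶ Spec (CommRingCat.of k)) (g : T' ⟶ T)
    (t' : Spec (CommRingCat.of k) ⟶ T') (ht' : t' ≫ g ≫ q = 𝟙 _) :
    Pic13.sliceAt k X (g ≫ q) t' ht' ≫ bMap k q g =
      Pic13.sliceAt k X q (t' ≫ g) (by rw [Category.assoc]; exact ht') := by
  apply pullback.hom_ext
  · simp only [Pic13.sliceAt, bMap, Category.assoc, pullback.lift_fst]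
  · simp only [Pic13.sliceAt, bMap, Category.assoc, pullback.lift_snd, pullback.lift_snd_assoc]

theorem exists_jEpi {T : Scheme.{u}} (q : T ⟶ Spec (CommRingCat.of k)) [QuasiCompact q]
    (F : (Pic13.prodK k X q).Modules) (hF : Coh.IsCoh F) :
    ∃ (m N : ℕ), ∀ (t : Spec (CommRingCat.of k) ⟶ T) (ht : t ≫ q = 𝟙 _),
      ∃ c : Fin N → (DX k n i m ⟶ Pic13.fibreMod k X q t ht F), JEpi c := by
  haveI : CompactSpace T := QuasiCompact.compactSpace_of_compactSpace q
  let 𝒰 := T.affineCover.finiteSubcover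
  haveI : Fintype 𝒰.I₀ := inferInstance
  have hA : ∀ j, IsAffine (𝒰.X j) := fun j => inferInstance
  have key : ∀ j : 𝒰.I₀, ∃ n₀ : ℕ, ∀ m, n₀ ≤ m → ∃ K : ℕ,
      ∀ (t : Spec (CommRingCat.of k) ⟶ 𝒰.X j) (ht : t ≫ 𝒰.f j ≫ q = 𝟙 _),
      ∃ c : Fin K → (DX k n i m ⟶ Pic13.fibreMod k X (𝒰.f j ≫ q) t ht
        ((Scheme.Modules.pullback (bMap (X := X) k q (𝒰.f j))).obj F)), JEpi c := fun j =>
    exists_jEpi_affine k n i (𝒰.f j ≫ q) _ (Groth.Agent.Lib.Helper27FibreStalk.isCoh_pullback _ F hF)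
  choose n₀ hn₀ using key
  let m : ℕ := Finset.univ.sup n₀
  have hm : ∀ j, n₀ j ≤ m := fun j => Finset.le_sup (Finset.mem_univ j)
  choose K hK using fun j => hn₀ j m (hm j)
  let N : ℕ := Finset.univ.sup K
  have hN : ∀ j, K j ≤ N := fun j => Finset.le_sup (Finset.mem_univ j)
  refine ⟨m, N, fun t ht => ?_⟩
  obtain ⟨j, y, hy⟩ := 𝒰.exists_eq (t.base default)
  have hrange : Set.range t.base ⊆ Set.range (𝒰.f j).base := by
    rintro _ ⟨z, rfl⟩
    have : z = default := Subsingleton.elim _ _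
    rw [this]
    exact ⟨y, hy⟩
  let t' : Spec (CommRingCat.of k) ⟶ 𝒰.X j := IsOpenImmersion.lift (𝒰.f j) t hrange
  have htt' : t' ≫ 𝒰.f j = t := IsOpenImmersion.lift_fac _ _ _
  have ht' : t' ≫ 𝒰.f j ≫ q = 𝟙 _ := by rw [← Category.assoc, htt']; exact ht
  obtain ⟨c, hc⟩ := hK j t' ht'
  have hsl : Pic13.sliceAt k X (𝒰.f j ≫ q) t' ht' ≫ bMap k q (𝒰.f j) = Pic13.sliceAt k X q t ht := by
    rw [sliceAt_bMap]
    congr 1
  let ε : Pic13.fibreMod k X (𝒰.f j ≫ q) t' ht' ((Scheme.Modules.pullback (bMap (X := X) k q (𝒰.f j))).obj F) ≅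
      Pic13.fibreMod k X q t ht F :=
    (Scheme.Modules.pullbackComp _ _).app F ≪≫ (Scheme.Modules.pullbackCongr hsl).app F
  have h1 := hc.comp_epi ε.hom
  obtain ⟨c', hc'⟩ := h1.pad (Fin.castLE (hN j)) (Fin.castLE_injective _)
  exact ⟨c', hc'⟩

end Main

end Groth.Agent.LeadBdd
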