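import Groth.Agent.Lib.LeadRM2
import Mathlib.RingTheory.Discriminant
import Mathlib.FieldTheory.PrimitiveElement
import Mathlib.FieldTheory.SeparableDegree

/-! Finite separable constant field extensions: integral closure and ramification. -/

namespace Groth.Agent.Lib.LeadCE

open FunFld WithZero Polynomial Groth.Agent.Lib.LeadFF Groth.Agent.Lib.LeadRM

variable {k k' K K' : Type*} [Field k] [Field k'] [Field K] [Field K']
  [Algebra k k'] [Algebra k K] [Algebra K K'] [Algebra k' K'] [Algebra k K']
  [IsScalarTower k k' K'] [IsScalarTower k K K']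

/-- the constants land in the valuation ring. -/
noncomputable def constHom (P : Place k K) : k →+* P.O :=
  (algebraMap k K).codRestrict P.O.toSubring (fun c => P.2.1 c)

lemma coe_constHom (P : Place k K) (c : k) : ((constHom P c : P.O) : K) = algebraMap k K c := rfl

lemma algebraMap_comp_eq (c : k) :
    algebraMap K K' (algebraMap k K c) = algebraMap k' K' (algebraMap k k' c) := by
  rw [← IsScalarTower.algebraMap_apply k K K', ← IsScalarTower.algebraMap_apply k k' K']

/-- elements of `K'` integral over `k` are integral over `O_P`. -/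
lemma isIntegral_PO_of_isIntegral (P : Place k K) [Algebra P.O K'] [IsScalarTower P.O K K']
    {z : K'} (hz : IsIntegral k z) : IsIntegral P.O z := by
  obtain ⟨p, hp, hpz⟩ := hz
  refine ⟨p.map (constHom P), hp.map _, ?_⟩
  rw [eval₂_map]
  have : (algebraMap P.O K').comp (constHom P) = algebraMap k K' := by
    ext c
    rw [RingHom.comp_apply, IsScalarTower.algebraMap_apply P.O K K', IsScalarTower.algebraMap_apply k K K']
    rfl
  rw [this]
  exact hpz

/-- surjectivity of the product map: `K'` is generated over `K` by `k'`. -/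
lemma mem_adjoin_range
    (h : Function.Surjective (Algebra.TensorProduct.productMap
      (IsScalarTower.toAlgHom k k' K') (IsScalarTower.toAlgHom k K K'))) (z : K') :
    z ∈ Algebra.adjoin K (Set.range (algebraMap k' K')) := by
  obtain ⟨w, rfl⟩ := h z
  induction w using TensorProduct.induction_on with
  | zero => rw [map_zero]; exact Subalgebra.zero_mem _
  | tmul a b =>
    rw [Algebra.TensorProduct.productMap_apply_tmul]
    exact Subalgebra.mul_mem _ (Algebra.subset_adjoin ⟨a, rfl⟩) (Subalgebra.algebraMap_mem _ b)
  | add x y hx hy => rw [map_add]; exact Subalgebra.add_mem _ hx hy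

variable [FiniteDimensional k k']

lemma adjoin_prim_eq_top
    (h : Function.Surjective (Algebra.TensorProduct.productMap
      (IsScalarTower.toAlgHom k k' K') (IsScalarTower.toAlgHom k K K')))
    {θ : k'} (hθ : IntermediateField.adjoin k {θ} = ⊤) :
    Algebra.adjoin K {algebraMap k' K' θ} = ⊤ := by
  rw [eq_top_iff]
  intro z _
  have hz := mem_adjoin_range h z
  refine Algebra.adjoin_le ?_ hz
  rintro _ ⟨c, rfl⟩
  have hc : c ∈ (IntermediateField.adjoin k {θ}).toSubalgebra := by rw [hθ]; trivial
  rw [IntermediateField.adjoin_simple_toSubalgebra_of_isAlgebraic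
    (Algebra.IsAlgebraic.isAlgebraic θ), Algebra.adjoin_singleton_eq_range_aeval] at hc
  obtain ⟨p, rfl⟩ := hc
  have : algebraMap k' K' (aeval θ p) = aeval (algebraMap k' K' θ) (p.map (algebraMap k K)) := by
    rw [aeval_map_algebraMap, aeval_algebraMap_apply]
  show algebraMap k' K' (aeval θ p) ∈ Algebra.adjoin K {algebraMap k' K' θ}
  rw [this]
  exact aeval_mem_adjoin_singleton K _

lemma aeval_prim_eq_zero (θ : k') :
    aeval (algebraMap k' K' θ) (minpoly k θ) = 0 := by
  rw [aeval_algebraMap_apply, minpoly.aeval, map_zero]

lemma isIntegral_prim (θ : k') : IsIntegral k (algebraMap k' K' θ) :=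
  ⟨minpoly k θ, minpoly.monic (Algebra.IsIntegral.isIntegral θ), by
    have := aeval_prim_eq_zero (K' := K') (k := k) θ
    rwa [aeval_def] at this⟩

section main

variable [Algebra.IsSeparable k k']

lemma separable_prim {θ : k'} (hsep : (minpoly k θ).Separable) :
    IsSeparable K (algebraMap k' K' θ) := by
  have h0 : aeval (algebraMap k' K' θ) ((minpoly k θ).map (algebraMap k K)) = 0 := by
    rw [aeval_map_algebraMap]; exact aeval_prim_eq_zero θ
  exact (hsep.map).of_dvd (minpoly.dvd K _ h0)

lemma isSeparable_top
    (h : Function.Surjective (Algebra.TensorProduct.productMap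
      (IsScalarTower.toAlgHom k k' K') (IsScalarTower.toAlgHom k K K')))
    {θ : k'} (hθ : IntermediateField.adjoin k {θ} = ⊤) :
    Algebra.IsSeparable K K' := by
  have htop : IntermediateField.adjoin K {algebraMap k' K' θ} = ⊤ :=
    IntermediateField.adjoin_eq_top_of_algebra _ _ (adjoin_prim_eq_top h hθ)
  have h1 : Algebra.IsSeparable K (IntermediateField.adjoin K {algebraMap k' K' θ}) :=
    (IntermediateField.isSeparable_adjoin_simple_iff_isSeparable _ _).mpr
      (separable_prim (Algebra.IsSeparable.isSeparable k θ))
  rw [htop] at h1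
  exact AlgEquiv.Algebra.isSeparable (IntermediateField.topEquiv (F := K) (E := K'))

theorem integralClosure_eq
    (h : Function.Surjective (Algebra.TensorProduct.productMap
      (IsScalarTower.toAlgHom k k' K') (IsScalarTower.toAlgHom k K K')))
    (hK : IsFunctionField k K) (P : Place k K) [Algebra P.O K'] [IsScalarTower P.O K K'] :
    (integralClosure P.O K').toSubring
      = (Algebra.adjoin P.O (Set.range (algebraMap k' K'))).toSubring := by
  obtain ⟨θ, hθ⟩ := Field.exists_primitive_element k k'
  have hadj : Algebra.adjoin K {algebraMap k' K' θ} = ⊤ := adjoin_prim_eq_top h hθ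
  have hintk : IsIntegral k (algebraMap k' K' θ) := isIntegral_prim θ
  have hintK : IsIntegral K (algebraMap k' K' θ) := hintk.tower_top
  haveI : Algebra.IsSeparable K K' := isSeparable_top h hθ
  let B : PowerBasis K K' := PowerBasis.ofAdjoinEqTop hintK hadj
  haveI : FiniteDimensional K K' := B.finite
  have hBgen : B.gen = algebraMap k' K' θ := rfl
  have hdint : IsIntegral k (Algebra.discr K B.basis) := by
    apply Algebra.discr_isIntegral
    intro i
    rw [B.basis_eq_pow, hBgen]
    exact hintk.pow _
  obtain ⟨c, hc⟩ := hK.2 _ hdint.isAlgebraic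
  have hd0 : Algebra.discr K B.basis ≠ 0 := Algebra.discr_not_zero_of_basis K B.basis
  have hc0 : c ≠ 0 := by
    rintro rfl
    rw [map_zero] at hc
    exact hd0 hc.symm
  congr 1
  apply le_antisymm
  · intro z hz
    have hz' : IsIntegral P.O z := hz
    have hmem := Algebra.discr_mul_isIntegral_mem_adjoin (R := P.O) (K := K) (B := B)
      (isIntegral_PO_of_isIntegral P hintk) hz'
    rw [hBgen, ← hc] at hmem
    have hzeq : z = (constHom P c⁻¹) • (algebraMap k K c • z) := by
      rw [Algebra.smul_def, Algebra.smul_def, IsScalarTower.algebraMap_apply P.O K K',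
        show algebraMap P.O K (constHom P c⁻¹) = algebraMap k K c⁻¹ from rfl,
        ← mul_assoc, ← map_mul, ← map_mul, inv_mul_cancel₀ hc0, map_one, map_one, one_mul]
    rw [hzeq]
    refine Subalgebra.smul_mem _ ?_ _
    exact Algebra.adjoin_mono (Set.singleton_subset_iff.mpr (Set.mem_range_self θ)) hmem
  · refine Algebra.adjoin_le ?_
    rintro _ ⟨c', rfl⟩
    exact isIntegral_PO_of_isIntegral P
      ((Algebra.IsIntegral.isIntegral c').map (IsScalarTower.toAlgHom k k' K'))

theorem isOverWith_one
    (h : Function.Surjective (Algebra.TensorProduct.productMap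
      (IsScalarTower.toAlgHom k k' K') (IsScalarTower.toAlgHom k K K')))
    (P : Place k K) (Q : Place k K') (hQ : IsOver Q P) : IsOverWith Q P 1 := by
  obtain ⟨e, he⟩ := hQ
  obtain ⟨θ, hθ⟩ := Field.exists_primitive_element k k'
  have hadj : Algebra.adjoin K {algebraMap k' K' θ} = ⊤ := adjoin_prim_eq_top h hθ
  have htop := IntermediateField.adjoin_eq_top_of_algebra _ _ hadj
  have hintk : IsIntegral k (algebraMap k' K' θ) := isIntegral_prim θ
  have hsep : (minpoly k θ).Separable := Algebra.IsSeparable.isSeparable k θ
  obtain ⟨a, b, hab⟩ := hsep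
  have hcomp : ((algebraMap K K').comp (algebraMap P.O K)).comp (constHom P) = algebraMap k K' := by
    ext c
    rw [RingHom.comp_apply, RingHom.comp_apply, IsScalarTower.algebraMap_apply k K K']
    rfl
  have he1 : e = 1 := by
    refine ramIdx_eq_one_of_good he hintk.tower_top.isAlgebraic htop
      ((minpoly k θ).map (constHom P)) (a.map (constHom P)) (b.map (constHom P))
      ((minpoly.monic (Algebra.IsIntegral.isIntegral θ)).map _) ?_ ?_
    · unfold ev
      rw [Polynomial.coe_eval₂RingHom, eval₂_map, hcomp]
      have := aeval_prim_eq_zero (K' := K') (k := k) θ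
      rwa [aeval_def] at this
    · rw [derivative_map, ← Polynomial.map_mul, ← Polynomial.map_mul, ← Polynomial.map_add, hab,
        Polynomial.map_one]
  subst he1
  exact he

end main

end Groth.Agent.Lib.LeadCE
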