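import Groth.Agent.Lib.LeadCE9

/-! Uniqueness of the place above `P` in a constant field extension: the two cases. -/

namespace Groth.Agent.Lib.LeadCE

attribute [-instance] IsLocalRing.instModuleResidueFieldOfAlgebra

open FunFld WithZero Polynomial TensorProduct Groth.Agent.Lib.LeadFF

variable {k k' K K' : Type*} [Field k] [Field k'] [Field K] [Field K']
  [Algebra k k'] [FiniteDimensional k k'] [Algebra k K] [Algebra K K'] [Algebra k' K'] [Algebra k K']
  [IsScalarTower k k' K'] [IsScalarTower k K K']

theorem unique_over_of_pi_const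
    (h : Function.Surjective (Algebra.TensorProduct.productMap
      (IsScalarTower.toAlgHom k k' K') (IsScalarTower.toAlgHom k K K')))
    (hK : IsFunctionField k K) (P : Place k K) [IsPurelyInseparable k k']
    {Q1 Q2 : Place k K'} (h1 : IsOver Q1 P) (h2 : IsOver Q2 P) : Q1 = Q2 := by
  haveI : FiniteDimensional K K' := finiteDimensional_of_surjective h
  let q := ringExpChar k
  haveI : ExpChar k q := ringExpChar.expChar k
  haveI : ExpChar K' q := expChar_of_injective_algebraMap (algebraMap k K').injective q
  refine unique_over_core (k₁ := k) (K₁ := K) (fun z => ⟨1 ⊗ₜ z, by simp⟩) hK P q ?_ ?_ h1 h2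
  · intro z
    refine frob_range q (algebraMap K K').range h ?_ (fun a => ⟨a, rfl⟩) z
    intro c
    obtain ⟨N, c₀, hc₀⟩ := IsPurelyInseparable.pow_mem k q c
    refine ⟨N, algebraMap k K c₀, ?_⟩
    rw [← map_pow, ← hc₀, ← IsScalarTower.algebraMap_apply, ← IsScalarTower.algebraMap_apply]
  · exact MulEquiv.isField (Field.toIsField _) (Algebra.TensorProduct.lid k _).toMulEquiv

theorem unique_over_of_pi_residue
    (h : Function.Surjective (Algebra.TensorProduct.productMap
      (IsScalarTower.toAlgHom k k' K') (IsScalarTower.toAlgHom k K K')))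
    (hK : IsFunctionField k K) (P : Place k K)
    [IsPurelyInseparable k (IsLocalRing.ResidueField P.O)]
    {Q1 Q2 : Place k K'} (h1 : IsOver Q1 P) (h2 : IsOver Q2 P) : Q1 = Q2 := by
  classical
  haveI : FiniteDimensional K K' := finiteDimensional_of_surjective h
  let q := ringExpChar k
  haveI : ExpChar k q := ringExpChar.expChar k
  haveI : ExpChar K' q := expChar_of_injective_algebraMap (algebraMap k K').injective q
  haveI : ExpChar (separableClosure k k') q :=
    expChar_of_injective_algebraMap (algebraMap k (separableClosure k k')).injective q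
  let g : (separableClosure k k') ⊗[k] K →ₐ[k] K' := Algebra.TensorProduct.productMap
    ((IsScalarTower.toAlgHom k k' K').comp (separableClosure k k').val)
    (IsScalarTower.toAlgHom k K K')
  have hg_tmul : ∀ (c : separableClosure k k') (a : K),
      g (c ⊗ₜ a) = algebraMap k' K' (c : k') * algebraMap K K' a := by
    intro c a; simp [g]
  let S : Subalgebra K K' :=
    { carrier := Set.range g
      mul_mem' := by rintro _ _ ⟨a, rfl⟩ ⟨b, rfl⟩; exact ⟨a * b, map_mul _ _ _⟩
      add_mem' := by rintro _ _ ⟨a, rfl⟩ ⟨b, rfl⟩; exact ⟨a + b, map_add _ _ _⟩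
      one_mem' := by
        show ∃ y, g y = 1
        exact ⟨1 ⊗ₜ 1, by rw [hg_tmul]; simp⟩
      zero_mem' := by
        show ∃ y, g y = 0
        exact ⟨0, map_zero g⟩
      algebraMap_mem' := fun a => ⟨1 ⊗ₜ a, by rw [hg_tmul]; simp⟩ }
  let Ks : IntermediateField K K' := Subalgebra.toIntermediateField S
    (fun x hx => S.inv_mem_of_algebraic (x := ⟨x, hx⟩) (Algebra.IsAlgebraic.isAlgebraic _))
  have hmemKs : ∀ z : K', z ∈ Ks ↔ ∃ w, g w = z := fun z => Iff.rfl
  letI : Algebra (separableClosure k k') Ks :=
    (RingHom.codRestrict ((algebraMap k' K').comp (algebraMap (separableClosure k k') k')) Ks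
      (fun c => (hmemKs _).mpr ⟨c ⊗ₜ 1, by rw [hg_tmul]; simp⟩)).toAlgebra
  have halg : ∀ c : separableClosure k k',
      ((algebraMap (separableClosure k k') Ks c : Ks) : K') = algebraMap k' K' (c : k') :=
    fun c => rfl
  haveI : IsScalarTower k (separableClosure k k') Ks :=
    IsScalarTower.of_algebraMap_eq (fun c => Subtype.ext (by
      rw [halg]
      show algebraMap k K' c = _
      rw [IsScalarTower.algebraMap_apply k k' K']; rfl))
  have hprod : ∀ w : (separableClosure k k') ⊗[k] K,
      ((Algebra.TensorProduct.productMap (IsScalarTower.toAlgHom k (separableClosure k k') Ks)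
        (IsScalarTower.toAlgHom k K Ks) w : Ks) : K') = g w := by
    intro w
    induction w using TensorProduct.induction_on with
    | zero => simp
    | tmul c a => rw [hg_tmul, Algebra.TensorProduct.productMap_apply_tmul]; rfl
    | add x y hx hy => rw [map_add, map_add, ← hx, ← hy]; rfl
  have h₁ : Function.Surjective (Algebra.TensorProduct.productMap
      (IsScalarTower.toAlgHom k (separableClosure k k') Ks) (IsScalarTower.toAlgHom k K Ks)) := by
    rintro ⟨z, hz⟩
    obtain ⟨w, hw⟩ := (hmemKs z).mp hz
    exact ⟨w, Subtype.ext ((hprod w).trans hw)⟩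
  refine unique_over_core (k₁ := separableClosure k k') (K₁ := Ks) h₁ hK P q ?_ ?_ h1 h2
  · intro z
    have hS : ∀ z : K', FrobIn q Ks.toSubring z := by
      refine frob_range q Ks.toSubring h ?_ (fun a => Ks.algebraMap_mem a)
      intro c
      obtain ⟨N, c₁, hc₁⟩ := IsPurelyInseparable.pow_mem (separableClosure k k') q c
      refine ⟨N, ?_⟩
      rw [← map_pow, ← hc₁]
      exact (hmemKs _).mpr ⟨c₁ ⊗ₜ 1, by rw [hg_tmul]; simp⟩
    obtain ⟨N, hN⟩ := hS z
    exact ⟨N, ⟨_, hN⟩, rfl⟩
  · exact isField_tensor_of_sep_of_pi k (separableClosure k k') _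

end Groth.Agent.Lib.LeadCE
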