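import Groth.Agent.Lib.LeadCE1
import Mathlib.RingTheory.Unramified.Field
import Mathlib.LinearAlgebra.TensorProduct.RightExactness
import Mathlib.RingTheory.Polynomial.ScaleRoots

/-! Constant field extensions at a place with separable residue field: `O_P[k']` is integrally
closed. -/

namespace Groth.Agent.Lib.LeadCE

-- Mathlib's `Module R₀ (ResidueField R)` instance is only defeq to `Algebra.toModule` of
-- `Place.algRes` at default transparency, which breaks instance search for tensor products.
attribute [-instance] IsLocalRing.instModuleResidueFieldOfAlgebra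

open FunFld WithZero Polynomial TensorProduct Groth.Agent.Lib.LeadFF

variable {k k' K K' : Type*} [Field k] [Field k'] [Field K] [Field K']
  [Algebra k k'] [Algebra k K] [Algebra K K'] [Algebra k' K'] [Algebra k K']
  [IsScalarTower k k' K'] [IsScalarTower k K K']

instance towerO (P : Place k K) : IsScalarTower k P.O K :=
  IsScalarTower.of_algebraMap_eq (fun _ => rfl)

instance towerRes (P : Place k K) : IsScalarTower k P.O (IsLocalRing.ResidueField P.O) :=
  IsScalarTower.of_algebraMap_eq (fun _ => rfl)

/-- the canonical map `k' ⊗ O_P → K'`. -/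
noncomputable def psi (P : Place k K) : k' ⊗[k] P.O →ₐ[k] K' :=
  (Algebra.TensorProduct.productMap (IsScalarTower.toAlgHom k k' K')
    (IsScalarTower.toAlgHom k K K')).comp
    (Algebra.TensorProduct.map (AlgHom.id k k') (IsScalarTower.toAlgHom k P.O K))

lemma psi_tmul (P : Place k K) (c : k') (a : P.O) :
    psi (K' := K') P (c ⊗ₜ[k] a) = algebraMap k' K' c * algebraMap K K' (a : K) := by
  simp [psi]

lemma psi_injective
    (h : Function.Injective (Algebra.TensorProduct.productMap
      (IsScalarTower.toAlgHom k k' K') (IsScalarTower.toAlgHom k K K'))) (P : Place k K) :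
    Function.Injective (psi (k' := k') (K' := K') P) := by
  unfold psi
  rw [AlgHom.coe_comp]
  refine h.comp ?_
  have : Function.Injective ((IsScalarTower.toAlgHom k P.O K).toLinearMap.lTensor k') :=
    Module.Flat.lTensor_preserves_injective_linearMap _ (Subtype.val_injective)
  exact this

/-- the reduction map `k' ⊗ O_P → k' ⊗ F_P`. -/
noncomputable def rho (P : Place k K) :
    k' ⊗[k] P.O →ₐ[k] k' ⊗[k] IsLocalRing.ResidueField P.O :=
  Algebra.TensorProduct.map (AlgHom.id k k')
    (IsScalarTower.toAlgHom k P.O (IsLocalRing.ResidueField P.O))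

lemma rho_tmul (P : Place k K) (c : k') (a : P.O) :
    rho P (c ⊗ₜ[k] a) = c ⊗ₜ[k] IsLocalRing.residue P.O a := by
  simp [rho]

/-- the uniformizer as an element of `O_P`. -/
def unifO {P : Place k K} {t : K} (ht : P.1 t = exp (-1 : ℤ)) : P.O := ⟨t, (unif_lt_one ht).le⟩

lemma maxIdeal_eq_span {P : Place k K} {t : K} (ht : P.1 t = exp (-1 : ℤ)) :
    IsLocalRing.maximalIdeal P.O = Ideal.span {unifO ht} := by
  apply le_antisymm
  · intro w hw
    rw [mem_maxIdeal_iff, zm0_lt_one_iff, ← ht] at hw
    have ht0 := unif_ne_zero ht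
    have hq : P.1 ((w : K) / t) ≤ 1 := by
      rw [map_div₀]
      exact div_le_one_of_le₀ hw zero_le'
    rw [Ideal.mem_span_singleton']
    refine ⟨⟨(w : K) / t, hq⟩, ?_⟩
    apply Subtype.ext
    show (w : K) / t * t = w
    field_simp
  · rw [Ideal.span_le, Set.singleton_subset_iff]
    exact (mem_maxIdeal_iff P _).mpr (unif_lt_one ht)

lemma ker_rho {P : Place k K} {t : K} (ht : P.1 t = exp (-1 : ℤ)) :
    RingHom.ker (rho (k' := k') P) = Ideal.span {(1 : k') ⊗ₜ[k] unifO ht} := by
  have hs : Function.Surjective (IsScalarTower.toAlgHom k P.O (IsLocalRing.ResidueField P.O)) :=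
    IsLocalRing.residue_surjective
  have h1 := Algebra.TensorProduct.lTensor_ker (A := k')
    (IsScalarTower.toAlgHom k P.O (IsLocalRing.ResidueField P.O)) hs
  have h2 : RingHom.ker (IsScalarTower.toAlgHom k P.O (IsLocalRing.ResidueField P.O))
      = IsLocalRing.maximalIdeal P.O := by
    ext w
    rw [RingHom.mem_ker]
    exact IsLocalRing.residue_eq_zero_iff w
  unfold rho
  rw [h1, h2, maxIdeal_eq_span ht, Ideal.map_span, Set.image_singleton]
  rfl

lemma psi_one_tmul (P : Place k K) (a : P.O) :
    psi (k' := k') (K' := K') P ((1 : k') ⊗ₜ[k] a) = algebraMap K K' (a : K) := by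
  rw [psi_tmul, map_one, one_mul]

section integral

variable (P : Place k K) [Algebra P.O K'] [IsScalarTower P.O K K']

lemma psi_comp_includeRight :
    ((psi (k' := k') (K' := K') P : k' ⊗[k] P.O →+* K')).comp
      (Algebra.TensorProduct.includeRight : P.O →ₐ[k] k' ⊗[k] P.O).toRingHom
      = algebraMap P.O K' := by
  ext a
  rw [IsScalarTower.algebraMap_apply P.O K K']
  exact psi_one_tmul P a

lemma rho_comp_includeRight :
    ((rho (k' := k') P : k' ⊗[k] P.O →+* k' ⊗[k] IsLocalRing.ResidueField P.O)).comp
      (Algebra.TensorProduct.includeRight : P.O →ₐ[k] k' ⊗[k] P.O).toRingHom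
      = ((Algebra.TensorProduct.includeRight :
          IsLocalRing.ResidueField P.O →ₐ[k] k' ⊗[k] IsLocalRing.ResidueField P.O).toRingHom).comp
        (IsLocalRing.residue P.O) := by
  ext a
  exact rho_tmul P 1 a

variable {P}

lemma scaleRoots_map_residue {t : K} (ht : P.1 t = exp (-1 : ℤ)) {f : (P.O)[X]} (hf : f.Monic) :
    (scaleRoots f (unifO ht)).map (IsLocalRing.residue P.O) = X ^ f.natDegree := by
  ext i
  rw [coeff_map, coeff_scaleRoots, coeff_X_pow, map_mul, map_pow]
  have hres : IsLocalRing.residue P.O (unifO ht) = 0 :=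
    (residue_eq_zero_iff P _).mpr (unif_lt_one ht)
  rcases lt_trichotomy i f.natDegree with hi | hi | hi
  · rw [hres, zero_pow (by omega), mul_zero, if_neg (by omega)]
  · rw [hi, Nat.sub_self, pow_zero, mul_one, if_pos rfl, hf.coeff_natDegree, map_one]
  · rw [coeff_eq_zero_of_natDegree_lt hi, map_zero, zero_mul, if_neg (by omega)]

lemma isNilpotent_rho
    (h : Function.Injective (Algebra.TensorProduct.productMap
      (IsScalarTower.toAlgHom k k' K') (IsScalarTower.toAlgHom k K K')))
    {t : K} (ht : P.1 t = exp (-1 : ℤ)) {z : K'} (hz : IsIntegral P.O z) {r : k' ⊗[k] P.O}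
    (hr : psi P r = algebraMap K K' t * z) : IsNilpotent (rho P r) := by
  obtain ⟨f, hf, hfz⟩ := hz
  refine ⟨f.natDegree, ?_⟩
  set ι : P.O →+* k' ⊗[k] P.O :=
    (Algebra.TensorProduct.includeRight : P.O →ₐ[k] k' ⊗[k] P.O).toRingHom with hι
  have h1 : eval₂ (algebraMap P.O K') (psi P r) (scaleRoots f (unifO ht)) = 0 := by
    have ht' : algebraMap K K' t = algebraMap P.O K' (unifO ht) := by
      rw [IsScalarTower.algebraMap_apply P.O K K']; rfl
    rw [hr, ht', scaleRoots_eval₂_mul, hfz, mul_zero]
  have h2 : eval₂ ι r (scaleRoots f (unifO ht)) = 0 := by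
    apply psi_injective h P
    rw [map_zero]
    have := Polynomial.hom_eval₂ (scaleRoots f (unifO ht)) ι
      (psi (k' := k') (K' := K') P : k' ⊗[k] P.O →+* K') r
    rw [psi_comp_includeRight] at this
    exact this.trans h1
  have h3 := congrArg (rho (k' := k') P : k' ⊗[k] P.O →+* k' ⊗[k] IsLocalRing.ResidueField P.O) h2
  rw [Polynomial.hom_eval₂, map_zero, rho_comp_includeRight, ← eval₂_map,
    scaleRoots_map_residue ht hf, eval₂_X_pow] at h3
  exact h3

lemma mem_range_of_unif_mul
    (h : Function.Injective (Algebra.TensorProduct.productMap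
      (IsScalarTower.toAlgHom k k' K') (IsScalarTower.toAlgHom k K K')))
    [IsReduced (k' ⊗[k] IsLocalRing.ResidueField P.O)]
    {t : K} (ht : P.1 t = exp (-1 : ℤ)) {z : K'} (hz : IsIntegral P.O z)
    (hr : algebraMap K K' t * z ∈ Set.range (psi (k' := k') (K' := K') P)) :
    z ∈ Set.range (psi (k' := k') (K' := K') P) := by
  obtain ⟨r, hr⟩ := hr
  have h0 : rho P r = 0 := (isNilpotent_rho h ht hz hr).eq_zero
  have hmem : r ∈ RingHom.ker (rho (k' := k') P) := h0
  rw [ker_rho ht, Ideal.mem_span_singleton'] at hmem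
  obtain ⟨r', hr'⟩ := hmem
  refine ⟨r', ?_⟩
  have ht0 : algebraMap K K' t ≠ 0 := by
    rw [Ne, map_eq_zero]; exact unif_ne_zero ht
  apply mul_left_cancel₀ ht0
  rw [← hr, ← hr', map_mul, psi_one_tmul, mul_comm]
  rfl

end integral

lemma exists_pow_mul_mem_O (P : Place k K) {t : K} (ht : P.1 t = exp (-1 : ℤ)) (a : K) :
    ∃ j : ℕ, P.1 (t ^ j * a) ≤ 1 := by
  by_cases ha : a = 0
  · exact ⟨0, by rw [ha, mul_zero, map_zero]; exact zero_le'⟩
  · refine ⟨(-(P.ord a)).toNat, ?_⟩
    rw [map_mul, map_pow, ht, val_eq_exp_neg_ord P ha, ← exp_nsmul, ← exp_add, ← exp_zero,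
      exp_le_exp]
    have := Int.self_le_toNat (-(P.ord a))
    simp only [nsmul_eq_mul]
    omega

lemma exists_pow_mul_mem_range
    (h : Function.Surjective (Algebra.TensorProduct.productMap
      (IsScalarTower.toAlgHom k k' K') (IsScalarTower.toAlgHom k K K')))
    (P : Place k K) {t : K} (ht : P.1 t = exp (-1 : ℤ)) (z : K') :
    ∃ j : ℕ, algebraMap K K' t ^ j * z ∈ Set.range (psi (k' := k') (K' := K') P) := by
  have hpow : ∀ (j : ℕ) (w : K'), w ∈ Set.range (psi (k' := k') (K' := K') P) →
      algebraMap K K' t ^ j * w ∈ Set.range (psi (k' := k') (K' := K') P) := by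
    rintro j _ ⟨r, rfl⟩
    refine ⟨((1 : k') ⊗ₜ[k] (unifO ht) ^ j) * r, ?_⟩
    rw [map_mul, map_pow, psi_one_tmul]
    rfl
  obtain ⟨w, rfl⟩ := h z
  induction w using TensorProduct.induction_on with
  | zero => exact ⟨0, 0, by simp⟩
  | tmul c a =>
    obtain ⟨j, hj⟩ := exists_pow_mul_mem_O P ht a
    refine ⟨j, c ⊗ₜ[k] (⟨t ^ j * a, hj⟩ : P.O), ?_⟩
    rw [psi_tmul, Algebra.TensorProduct.productMap_apply_tmul]
    simp only [IsScalarTower.coe_toAlgHom', map_mul, map_pow]
    ring
  | add x y hx hy =>
    obtain ⟨j1, h1⟩ := hx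
    obtain ⟨j2, h2⟩ := hy
    refine ⟨j1 + j2, ?_⟩
    have e : algebraMap K K' t ^ (j1 + j2) * (Algebra.TensorProduct.productMap
        (IsScalarTower.toAlgHom k k' K') (IsScalarTower.toAlgHom k K K')) (x + y)
        = algebraMap K K' t ^ j2 * (algebraMap K K' t ^ j1 * (Algebra.TensorProduct.productMap
        (IsScalarTower.toAlgHom k k' K') (IsScalarTower.toAlgHom k K K')) x)
        + algebraMap K K' t ^ j1 * (algebraMap K K' t ^ j2 * (Algebra.TensorProduct.productMap
        (IsScalarTower.toAlgHom k k' K') (IsScalarTower.toAlgHom k K K')) y) := by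
      rw [map_add]; ring
    rw [e]
    obtain ⟨r1, hr1⟩ := hpow j2 _ h1
    obtain ⟨r2, hr2⟩ := hpow j1 _ h2
    exact ⟨r1 + r2, by rw [map_add, hr1, hr2]⟩

lemma range_psi_le_adjoin (P : Place k K) [Algebra P.O K'] [IsScalarTower P.O K K']
    (r : k' ⊗[k] P.O) :
    psi (k' := k') (K' := K') P r ∈ Algebra.adjoin P.O (Set.range (algebraMap k' K')) := by
  induction r using TensorProduct.induction_on with
  | zero => rw [map_zero]; exact Subalgebra.zero_mem _
  | tmul c a =>
    rw [psi_tmul]
    have : algebraMap K K' (a : K) = algebraMap P.O K' a := by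
      rw [IsScalarTower.algebraMap_apply P.O K K']; rfl
    rw [this]
    exact Subalgebra.mul_mem _ (Algebra.subset_adjoin ⟨c, rfl⟩) (Subalgebra.algebraMap_mem _ a)
  | add x y hx hy => rw [map_add]; exact Subalgebra.add_mem _ hx hy

theorem integralClosure_eq_of_isReduced [Algebra.IsIntegral k k']
    (h : Function.Bijective (Algebra.TensorProduct.productMap
      (IsScalarTower.toAlgHom k k' K') (IsScalarTower.toAlgHom k K K')))
    (P : Place k K) [Algebra P.O K'] [IsScalarTower P.O K K']
    [IsReduced (k' ⊗[k] IsLocalRing.ResidueField P.O)] :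
    (integralClosure P.O K').toSubring
      = (Algebra.adjoin P.O (Set.range (algebraMap k' K'))).toSubring := by
  obtain ⟨t, ht⟩ := exists_unif P
  congr 1
  apply le_antisymm
  · intro z hz
    have hz' : IsIntegral P.O z := hz
    have key : ∀ (j : ℕ) (z : K'), IsIntegral P.O z →
        algebraMap K K' t ^ j * z ∈ Set.range (psi (k' := k') (K' := K') P) →
        z ∈ Set.range (psi (k' := k') (K' := K') P) := by
      intro j
      induction j with
      | zero => intro z _ hz; rwa [pow_zero, one_mul] at hz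
      | succ j ih =>
        intro z hz hmem
        apply ih z hz
        have hint : IsIntegral P.O (algebraMap K K' t ^ j * z) := by
          refine IsIntegral.mul (IsIntegral.pow ?_ _) hz
          have : algebraMap K K' t = algebraMap P.O K' (unifO ht) := by
            rw [IsScalarTower.algebraMap_apply P.O K K']; rfl
          rw [this]
          exact isIntegral_algebraMap
        apply mem_range_of_unif_mul h.1 ht hint
        rwa [← mul_assoc, ← pow_succ']
    obtain ⟨j, hj⟩ := exists_pow_mul_mem_range h.2 P ht z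
    obtain ⟨r, hr⟩ := key j z hz' hj
    rw [← hr]
    exact range_psi_le_adjoin P r
  · refine Algebra.adjoin_le ?_
    rintro _ ⟨c', rfl⟩
    exact isIntegral_PO_of_isIntegral P
      ((Algebra.IsIntegral.isIntegral c').map (IsScalarTower.toAlgHom k k' K'))

lemma isReduced_tensor_residue (hK : IsFunctionField k K) (P : Place k K)
    [Algebra.IsSeparable k (IsLocalRing.ResidueField P.O)] :
    IsReduced (k' ⊗[k] IsLocalRing.ResidueField P.O) := by
  haveI : Module.Finite k (IsLocalRing.ResidueField P.O) := residueField_finite hK P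
  haveI : Algebra.FormallyUnramified k (IsLocalRing.ResidueField P.O) :=
    Algebra.FormallyUnramified.of_isSeparable k _
  exact Algebra.FormallyUnramified.isReduced_of_field k' _

theorem integralClosure_eq_of_residue_separable [Algebra.IsIntegral k k']
    (h : Function.Bijective (Algebra.TensorProduct.productMap
      (IsScalarTower.toAlgHom k k' K') (IsScalarTower.toAlgHom k K K')))
    (hK : IsFunctionField k K) (P : Place k K) [Algebra P.O K'] [IsScalarTower P.O K K']
    [Algebra.IsSeparable k (IsLocalRing.ResidueField P.O)] :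
    (integralClosure P.O K').toSubring
      = (Algebra.adjoin P.O (Set.range (algebraMap k' K'))).toSubring := by
  haveI := isReduced_tensor_residue (k' := k') hK P
  exact integralClosure_eq_of_isReduced h P

end Groth.Agent.Lib.LeadCE
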