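import Mathlib
import Groth.Prelude.Def_W4bk4goldsch23FF

/-! Function fields of one variable (Stichtenoth Ch. 1), part 1: valuations trivial on `k`,
leading terms of rational functions, finiteness of residue fields. -/

namespace Groth.Agent.Lib.LeadFG

open Polynomial

/-- weak function field: no condition on the constant field. -/
def IsFF (k K : Type*) [Field k] [Field K] [Algebra k K] : Prop :=
  ∃ x : K, Transcendental k x ∧ FiniteDimensional (IntermediateField.adjoin k ({x} : Set K)) K

lemma IsFF.of_isFunctionField {k K : Type*} [Field k] [Field K] [Algebra k K]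
    (h : FunFld.IsFunctionField k K) : IsFF k K := h.1

section General

variable {k K : Type*} [Field k] [Field K] [Algebra k K]
variable {Γ₀ : Type*} [LinearOrderedCommGroupWithZero Γ₀] (v : Valuation K Γ₀)

/-- `v` is trivial on `k`. -/
def TrivOn (k : Type*) {K : Type*} [Field k] [Field K] [Algebra k K]
    {Γ₀ : Type*} [LinearOrderedCommGroupWithZero Γ₀] (v : Valuation K Γ₀) : Prop :=
  ∀ c : k, c ≠ 0 → v (algebraMap k K c) = 1

variable {v}

lemma TrivOn.le_one (hk : TrivOn k v) (c : k) : v (algebraMap k K c) ≤ 1 := by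
  by_cases hc : c = 0
  · simp [hc]
  · exact (hk c hc).le

lemma val_aeval_le_one (hk : TrivOn k v) {x : K} (hx : v x ≤ 1) (p : k[X]) :
    v (aeval x p) ≤ 1 := by
  rw [aeval_eq_sum_range]
  apply Valuation.map_sum_le
  intro i _
  rw [Algebra.smul_def, map_mul, map_pow]
  exact mul_le_one' (hk.le_one _) (pow_le_one' hx i)

lemma aeval_sub_coeff_zero (x : K) (p : k[X]) :
    aeval x p - algebraMap k K (p.coeff 0) = aeval x p.divX * x := by
  conv_lhs => rw [← divX_mul_X_add p]
  simp

lemma val_aeval_sub_coeff_zero_lt (hk : TrivOn k v) {x : K} (hx : v x < 1) (p : k[X]) :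
    v (aeval x p - algebraMap k K (p.coeff 0)) < 1 := by
  rw [aeval_sub_coeff_zero, map_mul]
  calc v (aeval x p.divX) * v x ≤ 1 * v x := mul_le_mul' (val_aeval_le_one hk hx.le _) le_rfl
    _ < 1 := by rwa [one_mul]

/-- Leading term of a polynomial in `x`. -/
lemma leading_poly (hk : TrivOn k v) {x : K} (hx0 : x ≠ 0) (hx : v x < 1) {p : k[X]} (hp : p ≠ 0) :
    ∃ (a : ℕ) (c : k), c ≠ 0 ∧ v (aeval x p - algebraMap k K c * x ^ a) < v x ^ a := by
  obtain ⟨q, hq, hnd⟩ := p.exists_eq_pow_rootMultiplicity_mul_and_not_dvd hp 0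
  rw [C_0, sub_zero] at hq hnd
  have hc : q.coeff 0 ≠ 0 := fun h => hnd (X_dvd_iff.mpr h)
  generalize p.rootMultiplicity 0 = a at hq
  refine ⟨a, q.coeff 0, hc, ?_⟩
  have : aeval x p - algebraMap k K (q.coeff 0) * x ^ a =
      x ^ a * (aeval x q - algebraMap k K (q.coeff 0)) := by
    rw [hq]
    simp only [map_mul, map_pow, aeval_X]
    ring
  rw [this, map_mul, map_pow]
  have hvx : v x ^ a ≠ 0 := pow_ne_zero _ ((Valuation.ne_zero_iff v).mpr hx0)
  calc v x ^ _ * v (aeval x q - algebraMap k K (q.coeff 0))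
      < v x ^ _ * 1 := by
        apply mul_lt_mul_of_pos_left (val_aeval_sub_coeff_zero_lt hk hx q)
        exact zero_lt_iff.mpr hvx
    _ = _ := mul_one _

lemma val_of_leading {y : K} {m : ℤ} {c : k} {x : K} (hk : TrivOn k v) (hc : c ≠ 0)
    (h : v (y - algebraMap k K c * x ^ m) < v x ^ m) : v y = v x ^ m := by
  have h1 : v (algebraMap k K c * x ^ m) = v x ^ m := by
    rw [map_mul, hk c hc, one_mul, map_zpow₀]
  have : y = (y - algebraMap k K c * x ^ m) + algebraMap k K c * x ^ m := by ring
  rw [this, Valuation.map_add_eq_of_lt_right]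
  · exact h1
  · rwa [h1]

/-- Leading term of a rational function in `x`. -/
lemma leading_rat (hk : TrivOn k v) {x : K} (hx0 : x ≠ 0) (hx : v x < 1) {g : K}
    (hg : g ∈ IntermediateField.adjoin k {x}) (hg0 : g ≠ 0) :
    ∃ (m : ℤ) (c : k), c ≠ 0 ∧ v (g - algebraMap k K c * x ^ m) < v x ^ m := by
  obtain ⟨r, s, rfl⟩ := (IntermediateField.mem_adjoin_simple_iff k g).mp hg
  have hr : r ≠ 0 := by rintro rfl; simp at hg0
  have hs : s ≠ 0 := by rintro rfl; simp at hg0
  have hs' : aeval x s ≠ 0 := by intro h; rw [h, div_zero] at hg0; exact hg0 rfl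
  obtain ⟨a, c, hc, hP⟩ := leading_poly hk hx0 hx hr
  obtain ⟨b, d, hd, hQ⟩ := leading_poly hk hx0 hx hs
  have hvx : v x ≠ 0 := (Valuation.ne_zero_iff v).mpr hx0
  have hQv : v (aeval x s) = v x ^ b := by
    have := val_of_leading (m := (b : ℤ)) hk hd (by simpa using hQ)
    simpa using this
  refine ⟨(a : ℤ) - b, c / d, div_ne_zero hc hd, ?_⟩
  have hdK : algebraMap k K d ≠ 0 := by simpa using hd
  have hxb : x ^ b ≠ 0 := pow_ne_zero _ hx0
  have key : aeval x r / aeval x s - algebraMap k K (c / d) * x ^ ((a : ℤ) - b) =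
      ((aeval x r - algebraMap k K c * x ^ a) * (algebraMap k K d * x ^ b)
        - algebraMap k K c * x ^ a * (aeval x s - algebraMap k K d * x ^ b))
        / (aeval x s * (algebraMap k K d * x ^ b)) := by
    rw [map_div₀, zpow_sub₀ hx0, zpow_natCast, zpow_natCast]
    field_simp
    ring
  rw [key, map_div₀, map_mul, map_mul, hk d hd, one_mul, map_pow, hQv, zpow_sub₀ hvx, zpow_natCast,
    zpow_natCast]
  have hnum : v ((aeval x r - algebraMap k K c * x ^ a) * (algebraMap k K d * x ^ b)
        - algebraMap k K c * x ^ a * (aeval x s - algebraMap k K d * x ^ b)) < v x ^ a * v x ^ b := by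
    apply Valuation.map_sub_lt
    · rw [map_mul, map_mul, hk d hd, one_mul, map_pow]
      exact mul_lt_mul_of_pos_right hP (zero_lt_iff.mpr (pow_ne_zero _ hvx))
    · rw [map_mul, map_mul, hk c hc, one_mul, map_pow]
      exact mul_lt_mul_of_pos_left hQ (zero_lt_iff.mpr (pow_ne_zero _ hvx))
  have hden : v x ^ b * v x ^ b ≠ 0 := mul_ne_zero (pow_ne_zero _ hvx) (pow_ne_zero _ hvx)
  rw [div_lt_iff₀ (zero_lt_iff.mpr hden)]
  calc _ < v x ^ a * v x ^ b := hnum
    _ = v x ^ a / v x ^ b * (v x ^ b * v x ^ b) := by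
      field_simp

/-- The value of a nonzero rational function in `x` is an integer power of `v x`. -/
lemma val_rat (hk : TrivOn k v) {x : K} (hx0 : x ≠ 0) (hx : v x < 1) {g : K}
    (hg : g ∈ IntermediateField.adjoin k {x}) (hg0 : g ≠ 0) : ∃ m : ℤ, v g = v x ^ m := by
  obtain ⟨m, c, hc, h⟩ := leading_rat hk hx0 hx hg hg0
  exact ⟨m, val_of_leading hk hc h⟩

lemma zpow_le_one_imp {γ : Γ₀} (h0 : γ ≠ 0) (h1 : γ < 1) {m : ℤ} (h : γ ^ m ≤ 1) : 0 ≤ m := by
  by_contra hm
  push Not at hm
  have : (1 : Γ₀) < γ ^ m := by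
    have hpos : 0 < -m := by omega
    obtain ⟨n, hn⟩ := Int.eq_ofNat_of_zero_le hpos.le
    have : γ ^ m = (γ ^ n)⁻¹ := by
      rw [← zpow_natCast, ← hn, zpow_neg, inv_inv]
    rw [this]
    have hn0 : n ≠ 0 := by omega
    have : γ ^ n < 1 := pow_lt_one' h1 hn0
    exact (one_lt_inv₀ (zero_lt_iff.mpr (pow_ne_zero _ h0))).mpr this
  exact absurd h (not_le.mpr this)

/-- Residue of an integral rational function in `x` lies in `k`. -/
lemma residue_rat (hk : TrivOn k v) {x : K} (hx0 : x ≠ 0) (hx : v x < 1) {g : K}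
    (hg : g ∈ IntermediateField.adjoin k {x}) (hg1 : v g ≤ 1) :
    ∃ c : k, v (g - algebraMap k K c) < 1 := by
  by_cases hg0 : g = 0
  · exact ⟨0, by simp [hg0]⟩
  obtain ⟨m, c, hc, h⟩ := leading_rat hk hx0 hx hg hg0
  have hvx : v x ≠ 0 := (Valuation.ne_zero_iff v).mpr hx0
  have hv := val_of_leading hk hc h
  have hm : 0 ≤ m := zpow_le_one_imp hvx hx (hv ▸ hg1)
  rcases hm.eq_or_lt with rfl | hm
  · exact ⟨c, by simpa using h⟩
  · refine ⟨0, ?_⟩
    rw [map_zero, sub_zero, hv]
    obtain ⟨n, rfl⟩ := Int.eq_ofNat_of_zero_le hm.le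
    rw [zpow_natCast]
    exact pow_lt_one' hx (by omega)

end General

section Places

open FunFld WithZero

variable {k K : Type*} [Field k] [Field K] [Algebra k K]

lemma place_trivOn (P : Place k K) : TrivOn k P.1 := by
  intro c hc
  apply le_antisymm (P.2.1 c)
  have h1 := P.2.1 c⁻¹
  have h2 : P.1 (algebraMap k K c) * P.1 (algebraMap k K c⁻¹) = 1 := by
    rw [← map_mul, ← map_mul, mul_inv_cancel₀ hc, map_one, map_one]
  calc (1 : WithZero (Multiplicative ℤ)) = P.1 (algebraMap k K c) * P.1 (algebraMap k K c⁻¹) := h2.symm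
    _ ≤ P.1 (algebraMap k K c) * 1 := mul_le_mul' le_rfl h1
    _ = _ := mul_one _

lemma exists_unif (P : Place k K) : ∃ t : K, P.1 t = exp (-1 : ℤ) := P.2.2 _

lemma unif_ne_zero {P : Place k K} {t : K} (ht : P.1 t = exp (-1 : ℤ)) : t ≠ 0 := by
  intro h; rw [h, map_zero] at ht; exact WithZero.exp_ne_zero ht.symm

lemma unif_lt_one {P : Place k K} {t : K} (ht : P.1 t = exp (-1 : ℤ)) : P.1 t < 1 := by
  rw [ht, ← exp_zero, exp_lt_exp]; norm_num

lemma val_le_one_of_isIntegral {Γ₀ : Type*} [LinearOrderedCommGroupWithZero Γ₀]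
    {v : Valuation K Γ₀} (hk : TrivOn k v) {z : K} (hz : IsIntegral k z) : v z ≤ 1 := by
  obtain ⟨p, hp, hpz⟩ := hz
  by_contra hlt
  rw [not_le] at hlt
  have h0 : v z ≠ 0 := (zero_lt_one.trans hlt).ne'
  rw [← Polynomial.aeval_def, hp.as_sum, map_add, map_pow, Polynomial.aeval_X, map_sum] at hpz
  have h1 : v (∑ i ∈ Finset.range p.natDegree, Polynomial.aeval z (C (p.coeff i) * X ^ i)) <
      v z ^ p.natDegree := by
    apply Valuation.map_sum_lt _ (pow_ne_zero _ h0)
    intro i hi
    rw [Finset.mem_range] at hi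
    rw [map_mul, Polynomial.aeval_C, map_pow, Polynomial.aeval_X, map_mul, map_pow]
    calc v (algebraMap k K (p.coeff i)) * v z ^ i ≤ 1 * v z ^ i :=
          mul_le_mul' (hk.le_one _) le_rfl
      _ = v z ^ i := one_mul _
      _ < v z ^ p.natDegree := pow_lt_pow_right₀ hlt hi
  have h2 : z ^ p.natDegree =
      -∑ i ∈ Finset.range p.natDegree, Polynomial.aeval z (C (p.coeff i) * X ^ i) :=
    eq_neg_of_add_eq_zero_left hpz
  rw [← Valuation.map_neg, ← h2, map_pow] at h1
  exact lt_irrefl _ h1

lemma val_eq_one_of_isAlgebraic {Γ₀ : Type*} [LinearOrderedCommGroupWithZero Γ₀]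
    {v : Valuation K Γ₀} (hk : TrivOn k v) {z : K} (hz0 : z ≠ 0) (hz : IsAlgebraic k z) :
    v z = 1 := by
  apply le_antisymm (val_le_one_of_isIntegral hk hz.isIntegral)
  have h1 := val_le_one_of_isIntegral hk hz.inv.isIntegral
  rw [map_inv₀] at h1
  have h0 : 0 < v z := zero_lt_iff.mpr ((Valuation.ne_zero_iff v).mpr hz0)
  exact (inv_le_one₀ h0).mp h1

lemma transcendental_of_val_ne_one (_hK : IsFF k K) (P : Place k K) {z : K} (hz0 : z ≠ 0)
    (hz : P.1 z ≠ 1) : Transcendental k z := by
  intro halg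
  exact hz (val_eq_one_of_isAlgebraic (place_trivOn P) hz0 halg)

open scoped IntermediateField.algebraAdjoinAdjoin in
lemma isAlgebraic_over_adjoin (hK : IsFF k K) {z : K} (hz : Transcendental k z) :
    Algebra.IsAlgebraic (IntermediateField.adjoin k {z}) K := by
  obtain ⟨x₀, hx₀, hfin⟩ := hK
  have hA : Algebra.IsAlgebraic (Algebra.adjoin k {x₀}) K :=
    Algebra.IsAlgebraic.trans (Algebra.adjoin k {x₀}) (IntermediateField.adjoin k {x₀}) K
  have h1 : Algebra.trdeg k K ≤ Cardinal.mk ({x₀} : Set K) :=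
    Algebra.IsAlgebraic.trdeg_le_cardinalMk k {x₀}
  rw [Cardinal.mk_singleton] at h1
  have hb : IsTranscendenceBasis k (fun _ : PUnit => z) :=
    AlgebraicIndependent.isTranscendenceBasis_of_trdeg_le_of_finite
      (algebraicIndependent_unique_type_iff.mpr hz) (by simpa using h1)
  have := hb.isAlgebraic_field
  rwa [Set.range_const] at this

lemma finite_over_adjoin (hK : IsFF k K) {z : K} (hz : Transcendental k z) :
    FiniteDimensional (IntermediateField.adjoin k {z}) K := by
  have a1 := isAlgebraic_over_adjoin hK hz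
  obtain ⟨x₀, hx₀, hfin⟩ := hK
  have e1 : Algebra.EssFiniteType k (IntermediateField.adjoin k {x₀}) :=
    IntermediateField.essFiniteType_iff.mpr
      (IntermediateField.fg_adjoin_of_finite (Set.finite_singleton _))
  have e3 : Algebra.EssFiniteType k K :=
    Algebra.EssFiniteType.comp k (IntermediateField.adjoin k {x₀}) K
  have e4 : Algebra.EssFiniteType (IntermediateField.adjoin k {z}) K :=
    Algebra.EssFiniteType.of_comp k _ _
  exact Algebra.finite_of_essFiniteType_of_isAlgebraic

lemma mem_maxIdeal_iff (P : Place k K) (w : P.O) :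
    w ∈ IsLocalRing.maximalIdeal P.O ↔ P.1 (w : K) < 1 := by
  rw [ValuationSubring.valuation_lt_one_iff]
  exact (Valuation.isEquiv_valuation_valuationSubring P.1).lt_one_iff_lt_one.symm

lemma residue_eq_zero_iff (P : Place k K) (w : P.O) :
    IsLocalRing.residue P.O w = 0 ↔ P.1 (w : K) < 1 := by
  rw [IsLocalRing.residue_eq_zero_iff, mem_maxIdeal_iff]

lemma residue_smul (P : Place k K) (c : k) (w : P.O) :
    IsLocalRing.residue P.O (c • w) = c • IsLocalRing.residue P.O w := by
  rw [Algebra.smul_def, Algebra.smul_def, map_mul]; rfl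

lemma coe_smul_O (P : Place k K) (c : k) (w : P.O) : ((c • w : P.O) : K) = algebraMap k K c * w := by
  rw [Algebra.smul_def]; rfl

/-- Key independence: lifts of `k`-independent residues are independent over `k(t)`. -/
lemma card_le_of_residue_indep (P : Place k K) {t : K} (ht0 : t ≠ 0) (ht1 : P.1 t < 1)
    [FiniteDimensional (IntermediateField.adjoin k {t}) K]
    (s : Finset (IsLocalRing.ResidueField P.O))
    (hs : LinearIndependent k (fun i : s => (i : IsLocalRing.ResidueField P.O))) :
    s.card ≤ Module.finrank (IntermediateField.adjoin k {t}) K := by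
  classical
  let z : IsLocalRing.ResidueField P.O → P.O := Function.surjInv IsLocalRing.residue_surjective
  have hz : ∀ r, IsLocalRing.residue P.O (z r) = r := Function.surjInv_eq _
  let y : s → K := fun i => ((z i : P.O) : K)
  have hy1 : ∀ i, P.1 (y i) ≤ 1 := fun i => (z i).2
  suffices hli : LinearIndependent (IntermediateField.adjoin k {t}) y by
    have := hli.fintype_card_le_finrank
    simpa using this
  rw [Fintype.linearIndependent_iff]
  intro g hg
  by_contra hne
  push Not at hne
  obtain ⟨i₀, hi₀⟩ := hne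
  obtain ⟨i₁, -, hmax⟩ := Finset.exists_max_image Finset.univ (fun i => P.1 (g i : K)) ⟨i₀, Finset.mem_univ _⟩
  have hg1 : (g i₁ : K) ≠ 0 := by
    intro h
    have := hmax i₀ (Finset.mem_univ _)
    rw [h, map_zero] at this
    have h0 : P.1 (g i₀ : K) = 0 := le_antisymm this zero_le'
    rw [Valuation.zero_iff] at h0
    exact hi₀ (Subtype.ext h0)
  have hvg1 : P.1 (g i₁ : K) ≠ 0 := (Valuation.ne_zero_iff _).mpr hg1
  -- normalized coefficients
  let h : s → K := fun i => (g i : K) / (g i₁ : K)
  have hh_mem : ∀ i, h i ∈ IntermediateField.adjoin k {t} := fun i =>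
    div_mem (g i).2 (g i₁).2
  have hh1 : ∀ i, P.1 (h i) ≤ 1 := by
    intro i
    simp only [h, map_div₀]
    rw [div_le_one₀ (zero_lt_iff.mpr hvg1)]
    exact hmax i (Finset.mem_univ _)
  have hsum : ∑ i, h i * y i = 0 := by
    have : ∑ i, (g i : K) * y i = 0 := by
      have := hg
      simpa [IntermediateField.smul_def] using this
    simp only [h, div_mul_eq_mul_div]
    rw [← Finset.sum_div, this, zero_div]
  choose c hc using fun i => residue_rat (place_trivOn P) ht0 ht1 (hh_mem i) (hh1 i)
  have hc1 : c i₁ ≠ 0 := by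
    intro h0
    have := hc i₁
    simp only [h, div_self hg1, h0, map_zero, sub_zero, map_one] at this
    exact lt_irrefl _ this
  -- the combination with constant coefficients lies in the maximal ideal
  let w : P.O := ∑ i, c i • z i
  have hw : P.1 (w : K) < 1 := by
    have e : (w : K) = ∑ i, (algebraMap k K (c i) - h i) * y i := by
      have : (w : K) = ∑ i, algebraMap k K (c i) * y i := by
        simp only [w, AddSubmonoidClass.coe_finset_sum, coe_smul_O, y]
      rw [this]
      simp only [sub_mul, Finset.sum_sub_distrib, hsum, sub_zero]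
    rw [e]
    apply Valuation.map_sum_lt _ one_ne_zero
    intro i _
    rw [map_mul, Valuation.map_sub_swap]
    calc P.1 (h i - algebraMap k K (c i)) * P.1 (y i) ≤ P.1 (h i - algebraMap k K (c i)) * 1 :=
          mul_le_mul' le_rfl (hy1 i)
      _ < 1 := by rw [mul_one]; exact hc i
  have hres : ∑ i : s, c i • (i : IsLocalRing.ResidueField P.O) = 0 := by
    have := (residue_eq_zero_iff P w).mpr hw
    simp only [w, map_sum, residue_smul, hz] at this
    exact this
  exact hc1 (Fintype.linearIndependent_iff.mp hs c hres i₁)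

/-- S10971: residue fields are finite over `k`. -/
theorem residueField_finite (hK : IsFF k K) (P : Place k K) :
    FiniteDimensional k (IsLocalRing.ResidueField P.O) := by
  obtain ⟨t, ht⟩ := exists_unif P
  have ht0 := unif_ne_zero ht
  have ht1 := unif_lt_one ht
  have htr := transcendental_of_val_ne_one hK P ht0 (ne_of_lt ht1)
  haveI := finite_over_adjoin hK htr
  apply Module.rank_lt_aleph0_iff.mp
  refine lt_of_le_of_lt (rank_le (n := Module.finrank (IntermediateField.adjoin k {t}) K) ?_)
    (Cardinal.nat_lt_aleph0 _)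
  intro s hs
  exact card_le_of_residue_indep P ht0 ht1 s hs

end Places

end Groth.Agent.Lib.LeadFG
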