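import Mathlib
import Groth.Agent.Lib.LeadFG4

/-! Function fields of one variable, part 5: finiteness of zeros and poles, the spaces `L(D)`. -/

namespace Groth.Agent.Lib.LeadFG

open Polynomial FunFld WithZero

section Finiteness

variable {k K : Type*} [Field k] [Field K] [Algebra k K]

lemma deg_pos (hK : IsFF k K) (P : Place k K) : 0 < P.deg := by
  haveI := residueField_finite hK P
  exact Module.finrank_pos

theorem zeros_finite (hK : IsFF k K) {x : K} (hx : Transcendental k x) :
    {P : Place k K | P.1 x < 1}.Finite := by
  classical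
  by_contra hinf
  have hx0 : x ≠ 0 := fun h => hx (h ▸ isAlgebraic_zero)
  haveI := finite_over_adjoin hK hx
  obtain ⟨s, hsub, hcard⟩ := Set.Infinite.exists_subset_card_eq hinf
    (Module.finrank (IntermediateField.adjoin k {x}) K + 1)
  have h1 := sum_ord_mul_deg_le hK hx s (fun P hP => hsub hP)
  have h2 : s.card ≤ ∑ P ∈ s, (P.ord x).toNat * P.deg := by
    rw [Finset.card_eq_sum_ones]
    apply Finset.sum_le_sum
    intro P hP
    have h3 : 0 < P.ord x := (ord_pos_iff P hx0).mpr (hsub hP)
    have h4 : 1 ≤ (P.ord x).toNat := by omega
    exact Nat.one_le_iff_ne_zero.mpr (Nat.mul_ne_zero (by omega) (deg_pos hK P).ne')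
  omega

/-- S10970 (weak form). -/
theorem support_ord_finite (hK : IsFF k K) (x : K) :
    (Function.support fun P : Place k K => P.ord x).Finite := by
  by_cases halg : IsAlgebraic k x
  · convert Set.finite_empty
    ext P
    simp only [Function.mem_support, ne_eq, Set.mem_empty_iff_false, iff_false, not_not]
    exact ord_eq_zero_of_isAlgebraic P halg
  · have hx : Transcendental k x := halg
    have hx0 : x ≠ 0 := fun h => hx (h ▸ isAlgebraic_zero)
    have hxi := transcendental_inv' hx
    refine ((zeros_finite hK hx).union (zeros_finite hK hxi)).subset ?_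
    intro P hP
    rw [Function.mem_support] at hP
    rcases lt_or_gt_of_ne hP with h | h
    · right
      show P.1 x⁻¹ < 1
      have := (ord_neg_iff P hx0).mp h
      rw [map_inv₀]; exact inv_lt_one_of_one_lt₀ this
    · left; exact (ord_pos_iff P hx0).mp h

lemma div_apply (hK : IsFF k K) (x : K) (P : Place k K) :
    FunFld.div k x P = P.ord x := by
  unfold FunFld.div
  rw [dif_pos (support_ord_finite hK x)]
  rfl

end Finiteness

end Groth.Agent.Lib.LeadFG
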