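import Groth.Agent.Lib.LeadFF24
import Groth.Agent.Lib.LeadFG7
import Groth.Prelude.Def_W4bk4goldsch23Ext

/-! Extensions of places in a finite extension `K'/K` (constants of `K'` may grow). -/

namespace Groth.Agent.Lib.LeadFF

open FunFld WithZero

section Ext

variable {k K K' : Type*} [Field k] [Field K] [Field K'] [Algebra k K] [Algebra K K']
  [Algebra k K'] [IsScalarTower k K K']

/-- an element with a single pole, at `P`. -/
lemma exists_single_pole (hK : IsFunctionField k K) (P : Place k K) :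
    ∃ x : K, x ∉ Set.range (algebraMap k K) ∧ ∀ Q : Place k K, Q ≠ P → Q.1 x ≤ 1 := by
  let n : ℕ := 2 * genus k K + 1
  let D : Divisor k K := Finsupp.single P (n : ℤ)
  have hdeg : D.deg = n * P.deg := deg_single P n
  have hP := deg_pos hK P
  have hP1 : (1 : ℤ) ≤ P.deg := by exact_mod_cast hP
  have h1 : 2 * (genus k K : ℤ) - 1 ≤ D.deg := by
    rw [hdeg]
    simp only [n]; push_cast; nlinarith
  have hell := ell_of_deg_ge hK D h1
  have h2 : 2 ≤ ell D := by
    have : (2 : ℤ) ≤ ell D := by
      rw [hell, hdeg]; simp only [n]; push_cast; nlinarith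
    exact_mod_cast this
  have hnle : ¬ (L D ≤ L (0 : Divisor k K)) := by
    intro hle
    haveI := L_finite hK (0 : Divisor k K)
    have h3 := Submodule.finrank_mono hle
    have h0 : ell (0 : Divisor k K) = 1 := ell_zero hK
    unfold ell at h2 h0; omega
  obtain ⟨x, hxD, hx0⟩ := SetLike.not_le_iff_exists.mp hnle
  refine ⟨x, ?_, ?_⟩
  · intro hmem
    apply hx0
    rw [L_zero hK, Submodule.mem_one]
    exact hmem
  · intro Q hQ
    have := hxD Q
    rwa [show D Q = 0 from single_apply_ne hQ _, exp_zero] at this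

/-- an element whose only zero is `P`. -/
lemma exists_single_zero (hK : IsFunctionField k K) (P : Place k K) :
    ∃ y : K, y ∉ Set.range (algebraMap k K) ∧ ∀ Q : Place k K, Q.1 y < 1 ↔ Q = P := by
  obtain ⟨x, hx, hpole⟩ := exists_single_pole hK P
  have hx0 : x ≠ 0 := by rintro rfl; exact hx ⟨0, map_zero _⟩
  have hlt : ∀ Q : Place k K, Q.1 x⁻¹ < 1 → Q = P := by
    intro Q hQ
    by_contra hne
    have h1 := hpole Q hne
    have h2 : Q.1 x * Q.1 x⁻¹ = 1 := by rw [← map_mul, mul_inv_cancel₀ hx0, map_one]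
    have : Q.1 x * Q.1 x⁻¹ < 1 := by
      calc Q.1 x * Q.1 x⁻¹ ≤ 1 * Q.1 x⁻¹ := mul_le_mul' h1 le_rfl
        _ < 1 := by rwa [one_mul]
    exact absurd h2 this.ne
  refine ⟨x⁻¹, ?_, fun Q => ⟨hlt Q, ?_⟩⟩
  · rintro ⟨c, hc⟩
    apply hx
    refine ⟨c⁻¹, ?_⟩
    rw [map_inv₀, hc, inv_inv]
  · rintro rfl
    obtain ⟨-, Q', hQ'⟩ := exists_zero_and_pole hK x hx
    have hQ'lt : Q'.1 x⁻¹ < 1 := by
      rw [map_inv₀, val_eq_exp_neg_ord Q' hx0, ← exp_neg, ← exp_zero, exp_lt_exp]
      omega
    rw [← hlt Q' hQ'lt]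
    exact hQ'lt

lemma transcendental_algebraMap {y : K} (hy : Transcendental k y) :
    Transcendental k (algebraMap K K' y) := by
  intro h
  apply hy
  obtain ⟨p, hp0, hp⟩ := h
  refine ⟨p, hp0, ?_⟩
  apply (algebraMap K K').injective
  rw [map_zero, ← hp, ← Polynomial.aeval_algebraMap_apply]

variable [FiniteDimensional K K']

lemma finrank_adjoin_map (y : K) :
    Module.finrank (IntermediateField.adjoin k ({algebraMap K K' y} : Set K')) K' =
      Module.finrank (IntermediateField.adjoin k ({y} : Set K)) K * Module.finrank K K' := by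
  let E := IntermediateField.adjoin k ({y} : Set K)
  let f : K →ₐ[k] K' := IsScalarTower.toAlgHom k K K'
  have hE : E.map f = IntermediateField.adjoin k ({algebraMap K K' y} : Set K') := by
    rw [IntermediateField.adjoin_map, Set.image_singleton]; rfl
  rw [Module.finrank_mul_finrank E K K']
  symm
  let i : E ≃+* IntermediateField.adjoin k ({algebraMap K K' y} : Set K') :=
    ((E.equivMap f).trans (IntermediateField.equivOfEq hE)).toRingEquiv
  apply Algebra.finrank_eq_of_equiv_equiv i (RingEquiv.refl K')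
  ext a
  rfl

lemma finite_adjoin_map (y : K)
    (h : FiniteDimensional (IntermediateField.adjoin k ({y} : Set K)) K) :
    FiniteDimensional (IntermediateField.adjoin k ({algebraMap K K' y} : Set K')) K' := by
  apply Module.finite_of_finrank_pos
  rw [finrank_adjoin_map]
  exact Nat.mul_pos Module.finrank_pos Module.finrank_pos

lemma isFF_of_finite (hK : IsFunctionField k K) : LeadFG.IsFF k K' := by
  obtain ⟨x, hx, hfin⟩ := hK.1
  exact ⟨algebraMap K K' x, transcendental_algebraMap hx, finite_adjoin_map x hfin⟩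

/-- the place below. -/
theorem exists_below (hK : IsFunctionField k K) (Q : Place k K') :
    ∃ (P : Place k K) (e : ℕ), 0 < e ∧ IsOverWith Q P e := by
  let w : Valuation K ZM0 := Q.1.comap (algebraMap K K')
  have hw : ∀ x, w x = Q.1 (algebraMap K K' x) := fun x => rfl
  have hk : TrivOn k w := by
    intro c hc
    rw [hw, ← IsScalarTower.algebraMap_apply]
    exact place_trivOn Q c hc
  have hnt : ∃ z : K, z ≠ 0 ∧ w z < 1 := by
    by_contra hno
    push Not at hno
    have htriv : LeadFG.TrivOn K Q.1 := by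
      intro z hz
      have h1 := hno z hz
      have h2 := hno z⁻¹ (inv_ne_zero hz)
      have h3 : w z * w z⁻¹ = 1 := by rw [← map_mul, mul_inv_cancel₀ hz, map_one]
      rw [← hw]
      apply le_antisymm _ h1
      by_contra hlt
      rw [not_le] at hlt
      have : 1 < w z * w z⁻¹ := by
        calc (1 : ZM0) < w z := hlt
          _ = w z * 1 := (mul_one _).symm
          _ ≤ w z * w z⁻¹ := mul_le_mul' le_rfl h2
      exact absurd h3 this.ne'
    obtain ⟨u, hu⟩ := Q.2.2 (exp (1 : ℤ))
    have hint : IsIntegral K u := Algebra.IsIntegral.isIntegral u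
    have := LeadFG.val_le_one_of_isIntegral htriv hint
    rw [hu, ← exp_zero, exp_le_exp] at this
    omega
  obtain ⟨z, hz0, hz⟩ := hnt
  obtain ⟨P, hP⟩ := exists_place_of_valuation hK hk hz0 hz
  obtain ⟨t, ht⟩ := exists_unif P
  have ht0 := unif_ne_zero ht
  have hwt0 : w t ≠ 0 := (Valuation.ne_zero_iff _).mpr ht0
  have hwt1 : w t < 1 := by
    by_contra hge
    rw [not_lt] at hge
    have : P.1 1 ≤ P.1 t := (hP 1 t).mpr (by rwa [map_one])
    rw [map_one, ht, ← exp_zero, exp_le_exp] at this
    omega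
  obtain ⟨a, ha⟩ : ∃ a : ℤ, w t = exp a := ⟨log (w t), (exp_log hwt0).symm⟩
  have ha0 : a < 0 := by rwa [ha, ← exp_zero, exp_lt_exp] at hwt1
  have hunit : ∀ u : K, P.1 u = 1 → w u = 1 := by
    intro u hu
    apply le_antisymm
    · have := (hP u 1).mp (by rw [hu, map_one])
      rwa [map_one] at this
    · have := (hP 1 u).mp (by rw [hu, map_one])
      rwa [map_one] at this
  have key : ∀ y : K, y ≠ 0 → w y = w t ^ (P.ord y) := by
    intro y hy
    have hu : P.1 (y / t ^ (P.ord y)) = 1 := by
      rw [map_div₀, map_zpow₀, ht, val_eq_exp_neg_ord P hy, zm0_exp_zpow, mul_neg_one,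
        div_self exp_ne_zero]
    have := hunit _ hu
    rw [map_div₀, map_zpow₀, div_eq_one_iff_eq] at this
    · exact this
    · exact zpow_ne_zero _ hwt0
  refine ⟨P, (-a).toNat, by omega, ?_⟩
  intro y
  rw [← hw]
  by_cases hy : y = 0
  · subst hy
    rw [map_zero, map_zero, zero_pow (by omega)]
  rw [key y hy, ha, zm0_exp_zpow, val_eq_exp_neg_ord P hy, zm0_exp_pow]
  congr 1
  rw [Int.toNat_of_nonneg (by omega)]
  ring

lemma isOverWith_pos {Q : Place k K'} {P : Place k K} {e : ℕ} (h : IsOverWith Q P e) : 0 < e := by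
  rcases Nat.eq_zero_or_pos e with rfl | he
  · have := h 0
    simp at this
  · exact he

lemma isOverWith_unique {Q : Place k K'} {P P' : Place k K} {e e' : ℕ}
    (h : IsOverWith Q P e) (h' : IsOverWith Q P' e') : P = P' ∧ e = e' := by
  have he := isOverWith_pos h
  have he' := isOverWith_pos h'
  have hPP : P = P' := by
    apply place_eq_of_le
    intro y hy
    have h1 : Q.1 (algebraMap K K' y) ≤ 1 := by
      rw [h y]; exact pow_le_one' hy e
    rw [h' y] at h1
    by_contra hlt
    rw [not_le] at hlt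
    exact absurd h1 (not_le.mpr (one_lt_pow' hlt he'.ne'))
  subst hPP
  refine ⟨rfl, ?_⟩
  obtain ⟨t, ht⟩ := exists_unif P
  have h1 := h t
  rw [h' t, ht, zm0_exp_pow, zm0_exp_pow, exp_inj] at h1
  omega

lemma ramIdx_eq {Q : Place k K'} {P : Place k K} {e : ℕ} (h : IsOverWith Q P e) :
    ramIdx Q P = e := by
  classical
  have hex : IsOver Q P := ⟨e, h⟩
  unfold ramIdx
  rw [dif_pos hex]
  exact (isOverWith_unique (Nat.find_spec hex) h).2

lemma isOver_iff_lt_one (hK : IsFunctionField k K) {P : Place k K} {y : K}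
    (hy : ∀ P' : Place k K, P'.1 y < 1 ↔ P' = P) (Q : Place k K') :
    IsOver Q P ↔ Q.1 (algebraMap K K' y) < 1 := by
  constructor
  · rintro ⟨e, he⟩
    rw [he y]
    exact pow_lt_one' ((hy P).mpr rfl) (isOverWith_pos he).ne'
  · intro hlt
    obtain ⟨P', e, he0, he⟩ := exists_below hK Q
    have : P'.1 y < 1 := by
      by_contra hge
      rw [not_lt] at hge
      rw [he y] at hlt
      exact absurd (one_le_pow_of_one_le' hge e) (not_le.mpr hlt)
    rw [(hy P').mp this] at he
    exact ⟨e, he⟩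

lemma ord_algebraMap_of_isOverWith {Q : Place k K'} {P : Place k K} {e : ℕ}
    (h : IsOverWith Q P e) (y : K) : Q.ord (algebraMap K K' y) = e * P.ord y := by
  unfold Place.ord
  rw [h y]
  by_cases hy : y = 0
  · subst hy
    rw [map_zero, zero_pow (isOverWith_pos h).ne']; simp
  rw [val_eq_exp_neg_ord P hy, zm0_exp_pow, log_exp, log_exp]
  ring

theorem finite_over (hK : IsFunctionField k K) (P : Place k K) :
    {Q : Place k K' | IsOver Q P}.Finite := by
  obtain ⟨y, hy, hyP⟩ := exists_single_zero hK P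
  have hK' : LeadFG.IsFF k K' := isFF_of_finite hK
  apply Set.Finite.subset (LeadFG.support_ord_finite hK' (algebraMap K K' y))
  intro Q hQ
  have hlt := (isOver_iff_lt_one hK hyP Q).mp hQ
  have hy0 : algebraMap K K' y ≠ 0 := by
    rw [Ne, map_eq_zero_iff _ (algebraMap K K').injective]
    rintro rfl; exact hy ⟨0, map_zero _⟩
  rw [Function.mem_support]
  rw [LeadFG.val_eq_exp_neg_ord Q hy0, ← exp_zero, exp_lt_exp] at hlt
  omega

/-- the fundamental equality `∑ e(Q|P) deg Q = [K':K] deg P`. -/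
theorem sum_ramIdx_deg (hK : IsFunctionField k K) (P : Place k K)
    (Qs : Finset (Place k K')) (hQs : ∀ Q, Q ∈ Qs ↔ IsOver Q P) :
    (∑ Q ∈ Qs, ramIdx Q P * Q.deg) = Module.finrank K K' * P.deg := by
  classical
  obtain ⟨y, hy, hyP⟩ := exists_single_zero hK P
  have hK' : LeadFG.IsFF k K' := isFF_of_finite hK
  have hyt : Transcendental k y := transcendental_of_not_mem hK hy
  have hyt' : Transcendental k (algebraMap K K' y) := transcendental_algebraMap hyt
  have hy0 : y ≠ 0 := by rintro rfl; exact hy ⟨0, map_zero _⟩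
  have h1 := deg_zeros hK y hyt
  have h2 := LeadFG.deg_zeros hK' (algebraMap K K' y) hyt'
  rw [finrank_adjoin_map] at h2
  -- zeros of y in K : only P
  have hs : 0 < P.ord y := by
    have := (hyP P).mpr rfl
    rw [val_eq_exp_neg_ord P hy0, ← exp_zero, exp_lt_exp] at this
    omega
  have hf1 : (FunFld.div k y).support.filter (fun P' => 0 < FunFld.div k y P') = {P} := by
    ext P'
    simp only [Finset.mem_filter, Finsupp.mem_support_iff, Finset.mem_singleton, div_apply hK]
    constructor
    · rintro ⟨-, h⟩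
      apply (hyP P').mp
      rw [val_eq_exp_neg_ord P' hy0, ← exp_zero, exp_lt_exp]; omega
    · rintro rfl
      exact ⟨hs.ne', hs⟩
  rw [hf1, Finset.sum_singleton, div_apply hK] at h1
  have hf2 : (FunFld.div k (algebraMap K K' y)).support.filter
      (fun Q => 0 < FunFld.div k (algebraMap K K' y) Q) = Qs := by
    ext Q
    have hy0' : algebraMap K K' y ≠ 0 := by
      rw [Ne, map_eq_zero_iff _ (algebraMap K K').injective]; exact hy0
    simp only [Finset.mem_filter, Finsupp.mem_support_iff, LeadFG.div_apply hK']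
    rw [hQs, isOver_iff_lt_one hK hyP Q, LeadFG.val_eq_exp_neg_ord Q hy0', ← exp_zero, exp_lt_exp]
    constructor
    · rintro ⟨-, h⟩; omega
    · intro h; constructor <;> omega
  rw [hf2] at h2
  have h3 : ∑ Q ∈ Qs, FunFld.div k (algebraMap K K' y) Q * (Q.deg : ℤ) =
      P.ord y * ∑ Q ∈ Qs, ((ramIdx Q P * Q.deg : ℕ) : ℤ) := by
    rw [Finset.mul_sum]
    apply Finset.sum_congr rfl
    intro Q hQ
    obtain ⟨e, he⟩ := (hQs Q).mp hQ
    rw [LeadFG.div_apply hK', ord_algebraMap_of_isOverWith he, ramIdx_eq he]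
    push_cast; ring
  rw [h3] at h2
  have h4 : P.ord y * ∑ Q ∈ Qs, ((ramIdx Q P * Q.deg : ℕ) : ℤ) =
      P.ord y * ((Module.finrank K K' * P.deg : ℕ) : ℤ) := by
    rw [h2]; push_cast; rw [← h1]; ring
  have h5 := mul_left_cancel₀ hs.ne' h4
  rw [← Nat.cast_sum] at h5
  exact_mod_cast h5

end Ext

end Groth.Agent.Lib.LeadFF
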