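import Groth.Agent.Lib.LeadCE2
import Groth.Agent.Lib.LeadFF25
import Mathlib.RingTheory.Valuation.LocalSubring
import Mathlib.RingTheory.Valuation.Extension

/-! Integral closure of `O_P` in a finite extension as the intersection of the valuation rings above
`P`; residue fields at nonsingular places under constant field extensions. -/

namespace Groth.Agent.Lib.LeadCE

attribute [-instance] IsLocalRing.instModuleResidueFieldOfAlgebra

open FunFld WithZero TensorProduct Groth.Agent.Lib.LeadFF

section A

variable {k K K' : Type*} [Field k] [Field K] [Field K'] [Algebra k K] [Algebra K K']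
  [Algebra k K'] [IsScalarTower k K K'] [FiniteDimensional K K']

theorem isIntegral_of_forall_over (hK : IsFunctionField k K) (P : Place k K) [Algebra P.O K']
    [IsScalarTower P.O K K'] {y : K'} (hy : ∀ Q' : Place k K', IsOver Q' P → Q'.1 y ≤ 1) :
    IsIntegral P.O y := by
  by_contra hni
  have hyR : y ∉ (integralClosure P.O K').toSubring := hni
  obtain ⟨V, hRV, hyV⟩ := Subring.exists_le_valuationSubring_of_isIntegrallyClosedIn hyR
  have hOV : ∀ x : K, P.1 x ≤ 1 → algebraMap K K' x ∈ V := by
    intro x hx
    apply hRV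
    have : algebraMap K K' x = algebraMap P.O K' ⟨x, hx⟩ := by
      rw [IsScalarTower.algebraMap_apply P.O K K']; rfl
    rw [this]
    exact (integralClosure P.O K').algebraMap_mem _
  have hy0 : y ≠ 0 := by rintro rfl; exact hyV V.zero_mem
  have hyinv : V.valuation y⁻¹ < 1 := by
    have h1 : ¬ V.valuation y ≤ 1 := fun h => hyV ((V.valuation_le_one_iff y).mp h)
    rw [not_le] at h1
    rw [map_inv₀]
    exact inv_lt_one_of_one_lt₀ h1
  have hk : LeadFG.TrivOn k V.valuation := by
    intro c hc
    have h1 : algebraMap k K' c ∈ V := by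
      rw [IsScalarTower.algebraMap_apply k K K']; exact hOV _ (P.2.1 c)
    have h2 : algebraMap k K' c⁻¹ ∈ V := by
      rw [IsScalarTower.algebraMap_apply k K K']; exact hOV _ (P.2.1 _)
    have h1' := (V.valuation_le_one_iff _).mpr h1
    have h2' := (V.valuation_le_one_iff _).mpr h2
    rw [map_inv₀, map_inv₀] at h2'
    have hne : V.valuation (algebraMap k K' c) ≠ 0 :=
      (Valuation.ne_zero_iff _).mpr (by rwa [Ne, map_eq_zero])
    exact le_antisymm h1' ((inv_le_one₀ (zero_lt_iff.mpr hne)).mp h2')
  obtain ⟨Q', hQ'⟩ := LeadFG.exists_place_of_valuation (isFF_of_finite hK) hk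
    (inv_ne_zero hy0) hyinv
  have hQV : ∀ z : K', Q'.1 z ≤ 1 ↔ z ∈ V := by
    intro z
    have := hQ' z 1
    rw [map_one, map_one] at this
    rw [this, V.valuation_le_one_iff]
  obtain ⟨P', e, he0, he⟩ := exists_below hK Q'
  have hPP' : P = P' := by
    apply place_eq_of_le
    intro x hx
    have h1 : Q'.1 (algebraMap K K' x) ≤ 1 := (hQV _).mpr (hOV x hx)
    rw [he] at h1
    exact (pow_le_one_iff he0.ne').mp h1
  subst hPP'
  exact hyV ((hQV y).mp (hy Q' ⟨e, he⟩))

end A

section B

variable {k k' K K' : Type*} [Field k] [Field k'] [Field K] [Field K']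
  [Algebra k k'] [Algebra k K] [Algebra K K'] [Algebra k' K'] [Algebra k K']
  [IsScalarTower k k' K'] [IsScalarTower k K K']

lemma finiteDimensional_of_surjective [FiniteDimensional k k']
    (h : Function.Surjective (Algebra.TensorProduct.productMap
      (IsScalarTower.toAlgHom k k' K') (IsScalarTower.toAlgHom k K K'))) :
    FiniteDimensional K K' := by
  let f : K ⊗[k] k' →ₐ[K] K' :=
    Algebra.TensorProduct.productLeftAlgHom (Algebra.ofId K K') (IsScalarTower.toAlgHom k k' K')
  have hf : Function.Surjective f := by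
    intro z
    obtain ⟨w, rfl⟩ := h z
    induction w using TensorProduct.induction_on with
    | zero => exact ⟨0, by simp⟩
    | tmul c a =>
      refine ⟨a ⊗ₜ c, ?_⟩
      simp [f, Algebra.ofId_apply, mul_comm]
    | add x y hx hy =>
      obtain ⟨x', hx'⟩ := hx
      obtain ⟨y', hy'⟩ := hy
      exact ⟨x' + y', by rw [map_add, map_add, hx', hy']⟩
  exact Module.Finite.of_surjective f.toLinearMap hf

open IsLocalRing in
theorem residue_adjoin_eq_top [FiniteDimensional k k']
    (h : Function.Bijective (Algebra.TensorProduct.productMap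
      (IsScalarTower.toAlgHom k k' K') (IsScalarTower.toAlgHom k K K')))
    (hK : IsFunctionField k K) (P : Place k K) [Algebra P.O K'] [IsScalarTower P.O K K']
    (hns : (integralClosure P.O K').toSubring
      = (Algebra.adjoin P.O (Set.range (algebraMap k' K'))).toSubring)
    (Q : Place k K') [P.1.HasExtension Q.1] (hk' : ∀ c : k', Q.1 (algebraMap k' K' c) ≤ 1) :
    Algebra.adjoin (ResidueField P.O)
      (Set.range fun c : k' => residue Q.O ⟨algebraMap k' K' c, hk' c⟩) = ⊤ := by
  classical
  haveI : FiniteDimensional K K' := finiteDimensional_of_surjective h.2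
  set A := Algebra.adjoin (ResidueField P.O)
      (Set.range fun c : k' => residue Q.O ⟨algebraMap k' K' c, hk' c⟩) with hA
  -- `Q` lies over `P`
  have hQP : IsOver Q P := by
    obtain ⟨P', e, he0, he⟩ := exists_below hK Q
    have hPP' : P = P' := by
      apply place_eq_of_le
      intro x hx
      have h1 : Q.1 (algebraMap K K' x) ≤ 1 :=
        (Valuation.HasExtension.val_map_le_one_iff P.1 Q.1 x).mpr hx
      rw [he] at h1
      exact (pow_le_one_iff he0.ne').mp h1
    subst hPP'
    exact ⟨e, he⟩
  -- the subalgebra of elements with residue in `A`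
  let B : Subalgebra P.O K' :=
    { carrier := {w | ∃ hw : Q.1 w ≤ 1, residue Q.O ⟨w, hw⟩ ∈ A}
      mul_mem' := by
        rintro a b ⟨ha, ha'⟩ ⟨hb, hb'⟩
        have hab : Q.1 (a * b) ≤ 1 := by rw [map_mul]; exact mul_le_one' ha hb
        refine ⟨hab, ?_⟩
        have : residue Q.O ⟨a * b, hab⟩
            = residue Q.O ⟨a, ha⟩ * residue Q.O ⟨b, hb⟩ := by
          rw [← map_mul]; rfl
        rw [this]
        exact A.mul_mem ha' hb'
      add_mem' := by
        rintro a b ⟨ha, ha'⟩ ⟨hb, hb'⟩
        have hab : Q.1 (a + b) ≤ 1 := (Q.1.map_add a b).trans (max_le ha hb)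
        refine ⟨hab, ?_⟩
        have : residue Q.O ⟨a + b, hab⟩ = residue Q.O ⟨a, ha⟩ + residue Q.O ⟨b, hb⟩ := by
          rw [← map_add]; rfl
        rw [this]
        exact A.add_mem ha' hb'
      algebraMap_mem' := by
        intro a
        have e1 : algebraMap P.O K' a = algebraMap K K' (a : K) := by
          rw [IsScalarTower.algebraMap_apply P.O K K']; rfl
        have h1 : Q.1 (algebraMap P.O K' a) ≤ 1 := by
          rw [e1]
          exact (Valuation.HasExtension.val_map_le_one_iff P.1 Q.1 _).mpr a.2
        refine ⟨h1, ?_⟩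
        have : residue Q.O ⟨algebraMap P.O K' a, h1⟩
            = algebraMap (ResidueField P.O) (ResidueField Q.O) (residue P.O a) := by
          rw [Valuation.HasExtension.algebraMap_residue_eq_residue_algebraMap]
          congr 1
          exact Subtype.ext e1
        rw [this]
        exact A.algebraMap_mem _ }
  have hTB : Algebra.adjoin P.O (Set.range (algebraMap k' K')) ≤ B := by
    refine Algebra.adjoin_le ?_
    rintro _ ⟨c, rfl⟩
    exact ⟨hk' c, Algebra.subset_adjoin ⟨c, rfl⟩⟩
  rw [eq_top_iff]
  rintro ξ -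
  obtain ⟨z, rfl⟩ := residue_surjective ξ
  -- approximate `z`
  let S : Finset (Place k K') := (finite_over hK P).toFinset
  obtain ⟨y, hy⟩ := LeadFG.weak_approx S (fun Q' => if Q' = Q then (z : K') else 0)
    (fun _ => -1)
  have hQS : Q ∈ S := (Set.Finite.mem_toFinset _).mpr hQP
  have hyQ : Q.1 (y - z) < 1 := by
    have := hy Q hQS
    rw [if_pos rfl] at this
    rw [this, ← exp_zero, exp_lt_exp]; norm_num
  have hyQ1 : Q.1 y ≤ 1 := by
    have : y = (y - z) + z := by ring
    rw [this]
    exact (Q.1.map_add _ _).trans (max_le hyQ.le z.2)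
  have hyint : IsIntegral P.O y := by
    apply isIntegral_of_forall_over hK P
    intro Q' hQ'
    by_cases hQQ : Q' = Q
    · rw [hQQ]; exact hyQ1
    · have := hy Q' ((Set.Finite.mem_toFinset _).mpr hQ')
      rw [if_neg hQQ, sub_zero] at this
      rw [this, ← exp_zero, exp_le_exp]; norm_num
  have hyT : y ∈ Algebra.adjoin P.O (Set.range (algebraMap k' K')) := by
    have : y ∈ (integralClosure P.O K').toSubring := hyint
    rw [hns] at this
    exact this
  obtain ⟨hy1, hyA⟩ := hTB hyT
  have : residue Q.O z = residue Q.O ⟨y, hy1⟩ := by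
    rw [← sub_eq_zero, ← map_sub, LeadFF.residue_eq_zero_iff Q]
    have : ((z - ⟨y, hy1⟩ : Q.O) : K') = -(y - z) := by
      show (z : K') - y = -(y - z); ring
    rw [this, Valuation.map_neg]
    exact hyQ
  rw [this]
  exact hyA

end B

end Groth.Agent.Lib.LeadCE
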