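import Groth.Agent.Lib.LeadCE3

/-! Finiteness of the integral closure of `O_P` in a finite extension `K'/K` (part 1):
a `k`-independent family modulo `t R` of size `[K':K] deg P`. -/

namespace Groth.Agent.Lib.LeadCE

open FunFld WithZero Groth.Agent.Lib.LeadFF

section Loc

variable {k K' : Type*} [Field k] [Field K'] [Algebra k K']

/-- local independence of `π^i β_b` modulo `π^e`. -/
lemma local_indep (Q : Place k K') {π : K'} (hπ : Q.1 π = exp (-1 : ℤ)) {f : ℕ} (β : Fin f → Q.O)
    (hβ : LinearIndependent k (fun b => IsLocalRing.residue Q.O (β b))) :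
    ∀ (e : ℕ) (c : Fin e → Fin f → k),
      Q.1 (∑ i, ∑ b, algebraMap k K' (c i b) * π ^ (i : ℕ) * (β b : K')) ≤ exp (-(e : ℤ)) →
      ∀ i b, c i b = 0 := by
  intro e
  induction e with
  | zero => intro c _ i; exact i.elim0
  | succ e ih =>
    intro c hc
    have hπ0 : π ≠ 0 := LeadFG.unif_ne_zero hπ
    have hck : ∀ x : k, Q.1 (algebraMap k K' x) ≤ 1 := Q.2.1
    set Sg : K' := ∑ i : Fin e, ∑ b, algebraMap k K' (c i.succ b) * π ^ (i : ℕ) * (β b : K')
      with hSg
    set A0 : K' := ∑ b, algebraMap k K' (c 0 b) * (β b : K') with hA0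
    have hsplit : (∑ i : Fin (e + 1), ∑ b, algebraMap k K' (c i b) * π ^ (i : ℕ) * (β b : K'))
        = A0 + π * Sg := by
      rw [Fin.sum_univ_succ, hA0, hSg, Finset.mul_sum]
      congr 1
      · apply Finset.sum_congr rfl
        intro b _
        simp
      · apply Finset.sum_congr rfl
        intro i _
        rw [Finset.mul_sum]
        apply Finset.sum_congr rfl
        intro b _
        simp only [Fin.val_succ, pow_succ]
        ring
    rw [hsplit] at hc
    have hSg1 : Q.1 Sg ≤ 1 := by
      apply Valuation.map_sum_le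
      intro i _
      apply Valuation.map_sum_le
      intro b _
      rw [map_mul, map_mul, map_pow, hπ]
      refine mul_le_one' (mul_le_one' (hck _) ?_) (β b).2
      exact pow_le_one' (by rw [← exp_zero, exp_le_exp]; norm_num) _
    have hπS : Q.1 (π * Sg) < 1 := by
      rw [map_mul, hπ]
      calc exp (-1 : ℤ) * Q.1 Sg ≤ exp (-1 : ℤ) * 1 := by gcongr
        _ < 1 := by rw [mul_one, ← exp_zero, exp_lt_exp]; norm_num
    have htot : Q.1 (A0 + π * Sg) < 1 :=
      lt_of_le_of_lt hc (by rw [← exp_zero, exp_lt_exp]; push_cast; omega)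
    have hA0lt : Q.1 A0 < 1 := by
      have : A0 = (A0 + π * Sg) - π * Sg := by ring
      rw [this]
      exact lt_of_le_of_lt (Valuation.map_sub _ _ _) (max_lt htot hπS)
    -- residue of A0 vanishes
    have h0 : ∀ b, c 0 b = 0 := by
      set a0 : Q.O := ∑ b, c 0 b • β b with ha0
      have hcoe : (a0 : K') = A0 := by
        rw [ha0, hA0]
        rw [show ((∑ b, c 0 b • β b : Q.O) : K') = ∑ b, ((c 0 b • β b : Q.O) : K') from
          map_sum (Q.O.subtype) _ _]
        apply Finset.sum_congr rfl
        intro b _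
        exact LeadFG.coe_smul_O Q _ _
      have hres : IsLocalRing.residue Q.O a0 = 0 := by
        rw [LeadFG.residue_eq_zero_iff, hcoe]; exact hA0lt
      rw [ha0, map_sum] at hres
      simp only [LeadFG.residue_smul] at hres
      exact Fintype.linearIndependent_iff.mp hβ (c 0) hres
    have hA00 : A0 = 0 := by
      rw [hA0]
      apply Finset.sum_eq_zero
      intro b _
      rw [h0 b, map_zero, zero_mul]
    rw [hA00, zero_add, map_mul, hπ] at hc
    have hSge : Q.1 Sg ≤ exp (-(e : ℤ)) := by
      have h1 : exp (-1 : ℤ) * Q.1 Sg ≤ exp (-1 : ℤ) * exp (-(e : ℤ)) := by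
        rw [← exp_add]
        refine hc.trans (le_of_eq ?_)
        congr 1
        push_cast; ring
      exact le_of_mul_le_mul_left h1 (zero_lt_iff.mpr exp_ne_zero)
    have hrest := ih (fun i b => c i.succ b) hSge
    intro i b
    refine Fin.cases (h0 b) (fun i' => hrest i' b) i

end Loc

section Glob

variable {k K K' : Type*} [Field k] [Field K] [Field K'] [Algebra k K] [Algebra K K']
  [Algebra k K'] [IsScalarTower k K K'] [FiniteDimensional K K']

/-- membership in the integral closure `R`, by valuations. -/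
def InR (P : Place k K) (z : K') : Prop := ∀ Q' : Place k K', IsOver Q' P → Q'.1 z ≤ 1

/-- membership in `t R`, by valuations. -/
def InTR (P : Place k K) (t : K) (z : K') : Prop :=
  ∀ Q' : Place k K', IsOver Q' P → Q'.1 z ≤ Q'.1 (algebraMap K K' t)

theorem exists_indep_family (hK : IsFunctionField k K) (P : Place k K) {t : K}
    (ht : P.1 t = exp (-1 : ℤ)) :
    ∃ r : Fin (Module.finrank K K' * P.deg) → K', (∀ j, InR P (r j)) ∧
      ∀ c : Fin (Module.finrank K K' * P.deg) → k,
        InTR P t (∑ j, algebraMap k K' (c j) * r j) → ∀ j, c j = 0 := by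
  classical
  have hK' : LeadFG.IsFF k K' := isFF_of_finite hK
  let S : Finset (Place k K') := (finite_over hK P).toFinset
  have hS : ∀ Q, Q ∈ S ↔ IsOver Q P := fun Q => Set.Finite.mem_toFinset _
  have hram : ∀ Q : S, IsOverWith Q.1 P (ramIdx Q.1 P) := by
    intro Q
    obtain ⟨e, he⟩ := (hS Q.1).mp Q.2
    rw [ramIdx_eq he]; exact he
  have hvt : ∀ Q : S, Q.1.1 (algebraMap K K' t) = exp (-(ramIdx Q.1 P : ℤ)) := by
    intro Q
    rw [hram Q t, ht, ← exp_nsmul]
    congr 1
    simp
  have hπ : ∀ Q : S, ∃ π : K', Q.1.1 π = exp (-1 : ℤ) := fun Q => Q.1.2.2 _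
  choose π hπ using hπ
  have hβ : ∀ Q : S, ∃ β : Fin Q.1.deg → Q.1.O,
      LinearIndependent k (fun b => IsLocalRing.residue Q.1.O (β b)) := by
    intro Q
    haveI := LeadFG.residueField_finite hK' Q.1
    let b : Module.Basis (Fin Q.1.deg) k (IsLocalRing.ResidueField Q.1.O) := Module.finBasis k _
    refine ⟨fun i => Function.surjInv IsLocalRing.residue_surjective (b i), ?_⟩
    simp only [Function.surjInv_eq]
    exact b.linearIndependent
  choose β hβ using hβ
  let J := Σ Q : S, Fin (ramIdx Q.1 P) × Fin Q.1.deg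
  let g : J → K' := fun j => π j.1 ^ (j.2.1 : ℕ) * (β j.1 j.2.2 : K')
  have hg1 : ∀ j : J, j.1.1.1 (g j) ≤ 1 := by
    intro j
    simp only [g]
    rw [map_mul, map_pow, hπ]
    refine mul_le_one' (pow_le_one' (by rw [← exp_zero, exp_le_exp]; norm_num) _) (β j.1 j.2.2).2
  have hr : ∀ j : J, ∃ y : K', ∀ Q' ∈ S,
      Q'.1 (y - (if Q' = j.1.1 then g j else 0)) = exp (-(ramIdx Q' P : ℤ)) :=
    fun j => LeadFG.weak_approx S (fun Q' => if Q' = j.1.1 then g j else 0)
      (fun Q' => -(ramIdx Q' P : ℤ))
  choose r hr using hr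
  have hexp1 : ∀ n : ℕ, exp (-(n : ℤ)) ≤ (1 : ZM0) := by
    intro n; rw [← exp_zero, exp_le_exp]; omega
  have hcard : Fintype.card J = Module.finrank K K' * P.deg := by
    rw [Fintype.card_sigma]
    simp only [Fintype.card_prod, Fintype.card_fin]
    rw [Finset.sum_coe_sort S (fun Q => ramIdx Q P * Q.deg)]
    exact sum_ramIdx_deg hK P S hS
  let eJ : J ≃ Fin (Module.finrank K K' * P.deg) := Fintype.equivFinOfCardEq hcard
  -- main properties for the `J`-indexed family
  have hInR : ∀ j : J, InR P (r j) := by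
    intro j Q' hQ'
    have hQS : Q' ∈ S := (hS Q').mpr hQ'
    have h1 := hr j Q' hQS
    have : r j = (r j - (if Q' = j.1.1 then g j else 0)) + (if Q' = j.1.1 then g j else 0) := by
      ring
    rw [this]
    refine (Q'.1.map_add _ _).trans (max_le ?_ ?_)
    · rw [h1]; exact hexp1 _
    · split_ifs with h
      · rw [h]; exact hg1 j
      · rw [map_zero]; exact zero_le'
  have hind : ∀ c : J → k, InTR P t (∑ j, algebraMap k K' (c j) * r j) → ∀ j, c j = 0 := by
    intro c hc j0
    obtain ⟨Q, i0, b0⟩ := j0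
    have hQP : IsOver Q.1 P := (hS Q.1).mp Q.2
    have h2 : Q.1.1 (∑ j, algebraMap k K' (c j) * r j) ≤ exp (-(ramIdx Q.1 P : ℤ)) := by
      rw [← hvt Q]; exact hc Q.1 hQP
    have h1 : Q.1.1 (∑ j : J, algebraMap k K' (c j) *
        (r j - (if Q.1 = j.1.1 then g j else 0))) ≤ exp (-(ramIdx Q.1 P : ℤ)) := by
      apply Valuation.map_sum_le
      intro j _
      rw [map_mul, hr j Q.1 Q.2]
      calc Q.1.1 (algebraMap k K' (c j)) * exp (-(ramIdx Q.1 P : ℤ))
          ≤ 1 * exp (-(ramIdx Q.1 P : ℤ)) := by gcongr; exact Q.1.2.1 _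
        _ = _ := one_mul _
    have h3 : Q.1.1 (∑ j : J, algebraMap k K' (c j) * (if Q.1 = j.1.1 then g j else 0))
        ≤ exp (-(ramIdx Q.1 P : ℤ)) := by
      have : (∑ j : J, algebraMap k K' (c j) * (if Q.1 = j.1.1 then g j else 0))
          = (∑ j, algebraMap k K' (c j) * r j)
            - ∑ j : J, algebraMap k K' (c j) * (r j - (if Q.1 = j.1.1 then g j else 0)) := by
        rw [← Finset.sum_sub_distrib]
        apply Finset.sum_congr rfl
        intro j _
        ring
      rw [this]
      exact (Valuation.map_sub _ _ _).trans (max_le h2 h1)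
    have h4 : (∑ j : J, algebraMap k K' (c j) * (if Q.1 = j.1.1 then g j else 0))
        = ∑ i : Fin (ramIdx Q.1 P), ∑ b : Fin Q.1.deg,
            algebraMap k K' (c ⟨Q, i, b⟩) * π Q ^ (i : ℕ) * (β Q b : K') := by
      rw [Fintype.sum_sigma, Finset.sum_eq_single Q]
      · rw [Fintype.sum_prod_type]
        apply Finset.sum_congr rfl
        intro i _
        apply Finset.sum_congr rfl
        intro b _
        rw [if_pos rfl]
        simp only [g]
        ring
      · intro Q' _ hne
        apply Finset.sum_eq_zero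
        intro x _
        rw [if_neg (fun h => hne (Subtype.ext h.symm)), mul_zero]
      · intro h; exact absurd (Finset.mem_univ _) h
    rw [h4] at h3
    exact local_indep Q.1 (hπ Q) (β Q) (hβ Q) (ramIdx Q.1 P) (fun i b => c ⟨Q, i, b⟩) h3 i0 b0
  refine ⟨fun j => r (eJ.symm j), fun j => hInR _, ?_⟩
  intro c hc j
  have hsum : (∑ j, algebraMap k K' (c j) * r (eJ.symm j))
      = ∑ j : J, algebraMap k K' (c (eJ j)) * r j := by
    rw [← Equiv.sum_comp eJ]
    apply Finset.sum_congr rfl
    intro j _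
    rw [Equiv.symm_apply_apply]
  rw [hsum] at hc
  have := hind (fun j => c (eJ j)) hc (eJ.symm j)
  simpa using this

end Glob

end Groth.Agent.Lib.LeadCE
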