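import Groth.Agent.Lib.LeadCE4

/-! Finiteness of the integral closure of `O_P` in a finite extension `K'/K` (part 2). -/

namespace Groth.Agent.Lib.LeadCE

open FunFld WithZero Groth.Agent.Lib.LeadFF

section Fin

variable {k K K' : Type*} [Field k] [Field K] [Field K'] [Algebra k K] [Algebra K K']
  [Algebra k K'] [IsScalarTower k K K'] [FiniteDimensional K K']

lemma val_map_le {P : Place k K} {Q' : Place k K'} (hQ' : IsOver Q' P) {a b : K}
    (h : P.1 a ≤ P.1 b) : Q'.1 (algebraMap K K' a) ≤ Q'.1 (algebraMap K K' b) := by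
  obtain ⟨e, he⟩ := hQ'
  rw [he, he]
  exact pow_le_pow_left' h e

lemma val_map_le_one {P : Place k K} {Q' : Place k K'} (hQ' : IsOver Q' P) {a : K}
    (h : P.1 a ≤ 1) : Q'.1 (algebraMap K K' a) ≤ 1 := by
  have := val_map_le hQ' (a := a) (b := 1) (by rwa [map_one])
  rwa [map_one, map_one] at this

lemma InR.add {P : Place k K} {x y : K'} (hx : InR P x) (hy : InR P y) : InR P (x + y) :=
  fun Q' hQ' => (Q'.1.map_add x y).trans (max_le (hx Q' hQ') (hy Q' hQ'))

lemma InR.mul_left {P : Place k K} {x : K'} (hx : InR P x) {a : K} (ha : P.1 a ≤ 1) :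
    InR P (algebraMap K K' a * x) := by
  intro Q' hQ'
  rw [map_mul]
  exact mul_le_one' (val_map_le_one hQ' ha) (hx Q' hQ')

lemma InR.sum {P : Place k K} {ι : Type*} (s : Finset ι) {x : ι → K'}
    (hx : ∀ i ∈ s, InR P (x i)) : InR P (∑ i ∈ s, x i) := by
  intro Q' hQ'
  apply Valuation.map_sum_le
  intro i hi
  exact hx i hi Q' hQ'

lemma InTR.zero {P : Place k K} {t : K} : InTR (K' := K') P t 0 := by
  intro Q' _; rw [map_zero]; exact zero_le'

lemma InTR.add {P : Place k K} {t : K} {x y : K'} (hx : InTR P t x) (hy : InTR P t y) :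
    InTR P t (x + y) :=
  fun Q' hQ' => (Q'.1.map_add x y).trans (max_le (hx Q' hQ') (hy Q' hQ'))

lemma InTR.sub {P : Place k K} {t : K} {x y : K'} (hx : InTR P t x) (hy : InTR P t y) :
    InTR P t (x - y) :=
  fun Q' hQ' => (Valuation.map_sub _ x y).trans (max_le (hx Q' hQ') (hy Q' hQ'))

lemma InTR.mul_left {P : Place k K} {t : K} {x : K'} (hx : InTR P t x) {a : K} (ha : P.1 a ≤ 1) :
    InTR P t (algebraMap K K' a * x) := by
  intro Q' hQ'
  rw [map_mul]
  calc Q'.1 (algebraMap K K' a) * Q'.1 x ≤ 1 * Q'.1 (algebraMap K K' t) := by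
        gcongr
        · exact val_map_le_one hQ' ha
        · exact hx Q' hQ'
    _ = _ := one_mul _

lemma InTR.sum {P : Place k K} {t : K} {ι : Type*} (s : Finset ι) {x : ι → K'}
    (hx : ∀ i ∈ s, InTR P t (x i)) : InTR P t (∑ i ∈ s, x i) := by
  intro Q' hQ'
  apply Valuation.map_sum_le
  intro i hi
  exact hx i hi Q' hQ'

/-- `m_P R ⊆ t R`. -/
lemma InTR.of_lt_one {P : Place k K} {t : K} (ht : P.1 t = exp (-1 : ℤ)) {x : K'} (hx : InR P x)
    {a : K} (ha : P.1 a < 1) : InTR P t (algebraMap K K' a * x) := by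
  intro Q' hQ'
  rw [map_mul]
  have h1 : P.1 a ≤ P.1 t := by rw [ht]; exact zm0_lt_one_iff.mp ha
  calc Q'.1 (algebraMap K K' a) * Q'.1 x ≤ Q'.1 (algebraMap K K' t) * 1 := by
        gcongr
        · exact val_map_le hQ' h1
        · exact hx Q' hQ'
    _ = _ := mul_one _

/-- `F_P`-independence modulo `t R` of a finite family in `R`. -/
def ResIndep (P : Place k K) (t : K) {m : ℕ} (u : Fin m → K') : Prop :=
  (∀ i, InR P (u i)) ∧ ∀ a : Fin m → K, (∀ i, P.1 (a i) ≤ 1) →
    InTR P t (∑ i, algebraMap K K' (a i) * u i) → ∀ i, P.1 (a i) < 1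

/-- scaling a coefficient vector by the inverse of its largest entry. -/
lemma exists_scale (P : Place k K) {m : ℕ} (a : Fin m → K) {i0 : Fin m} (hi0 : a i0 ≠ 0) :
    ∃ i1 : Fin m, a i1 ≠ 0 ∧ P.1 (a i0) ≤ P.1 (a i1) ∧ ∀ i, P.1 ((a i1)⁻¹ * a i) ≤ 1 := by
  obtain ⟨i1, -, hmax⟩ := Finset.exists_max_image Finset.univ (fun i => P.1 (a i))
    ⟨i0, Finset.mem_univ _⟩
  have h1 : P.1 (a i1) ≠ 0 := by
    have := hmax i0 (Finset.mem_univ _)
    have h0 : P.1 (a i0) ≠ 0 := (Valuation.ne_zero_iff _).mpr hi0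
    intro h; rw [h] at this; exact h0 (le_antisymm this zero_le')
  have hne : a i1 ≠ 0 := (Valuation.ne_zero_iff _).mp h1
  refine ⟨i1, hne, hmax i0 (Finset.mem_univ _), fun i => ?_⟩
  rw [map_mul, map_inv₀]
  exact (inv_mul_le_iff₀ (zero_lt_iff.mpr h1)).mpr (by rw [mul_one]; exact hmax i (Finset.mem_univ _))

lemma ResIndep.linearIndependent {P : Place k K} {t : K} {m : ℕ} {u : Fin m → K'}
    (hu : ResIndep P t u) : LinearIndependent K u := by
  rw [Fintype.linearIndependent_iff]
  intro a ha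
  by_contra hne
  push Not at hne
  obtain ⟨i0, hi0⟩ := hne
  obtain ⟨i1, hi1, -, hle⟩ := exists_scale P a hi0
  have hsum : (∑ i, algebraMap K K' ((a i1)⁻¹ * a i) * u i) = 0 := by
    have : (∑ i, algebraMap K K' ((a i1)⁻¹ * a i) * u i)
        = algebraMap K K' (a i1)⁻¹ * ∑ i, a i • u i := by
      rw [Finset.mul_sum]
      apply Finset.sum_congr rfl
      intro i _
      rw [map_mul, Algebra.smul_def, mul_assoc]
    rw [this, ha, mul_zero]
  have := hu.2 (fun i => (a i1)⁻¹ * a i) hle (by rw [hsum]; exact InTR.zero) i1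
  rw [inv_mul_cancel₀ hi1, map_one] at this
  exact lt_irrefl _ this

lemma ResIndep.le_finrank {P : Place k K} {t : K} {m : ℕ} {u : Fin m → K'}
    (hu : ResIndep P t u) : m ≤ Module.finrank K K' := by
  have := hu.linearIndependent.fintype_card_le_finrank
  simpa using this

/-- a family of maximal size spans `R` modulo `t R`. -/
lemma ResIndep.spans_of_maximal {P : Place k K} {t : K} (ht : P.1 t = exp (-1 : ℤ)) {m : ℕ}
    {u : Fin m → K'} (hu : ResIndep P t u)
    (hmax : ¬ ∃ u' : Fin (m + 1) → K', ResIndep P t u') {z : K'} (hz : InR P z) :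
    ∃ a : Fin m → K, (∀ i, P.1 (a i) ≤ 1) ∧ InTR P t (z - ∑ i, algebraMap K K' (a i) * u i) := by
  by_contra hno
  apply hmax
  refine ⟨Fin.snoc u z, ?_, ?_⟩
  · intro i
    refine Fin.lastCases ?_ (fun i => ?_) i
    · rw [Fin.snoc_last]; exact hz
    · rw [Fin.snoc_castSucc]; exact hu.1 i
  · intro a ha hsum
    rw [Fin.sum_univ_castSucc] at hsum
    simp only [Fin.snoc_castSucc, Fin.snoc_last] at hsum
    set b := a (Fin.last m) with hb
    have hb1 : P.1 b ≤ 1 := ha _
    rcases lt_or_eq_of_le hb1 with hblt | hbeq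
    · -- b in the maximal ideal
      have h1 : InTR P t (algebraMap K K' b * z) := InTR.of_lt_one ht hz hblt
      have h2 : InTR P t (∑ i : Fin m, algebraMap K K' (a i.castSucc) * u i) := by
        have : (∑ i : Fin m, algebraMap K K' (a i.castSucc) * u i)
            = (∑ i : Fin m, algebraMap K K' (a i.castSucc) * u i + algebraMap K K' b * z)
              - algebraMap K K' b * z := by ring
        rw [this]
        exact hsum.sub h1
      have h3 := hu.2 (fun i => a i.castSucc) (fun i => ha _) h2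
      intro i
      refine Fin.lastCases hblt (fun i => h3 i) i
    · -- b a unit: contradiction
      exfalso
      apply hno
      have hb0 : b ≠ 0 := by
        intro h; rw [h, map_zero] at hbeq; exact zero_ne_one hbeq
      have hbinv : P.1 b⁻¹ ≤ 1 := by rw [map_inv₀, hbeq, inv_one]
      refine ⟨fun i => -(b⁻¹ * a i.castSucc), fun i => ?_, ?_⟩
      · rw [Valuation.map_neg, map_mul]
        exact mul_le_one' hbinv (ha _)
      · have : z - ∑ i : Fin m, algebraMap K K' (-(b⁻¹ * a i.castSucc)) * u i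
            = algebraMap K K' b⁻¹ *
              (∑ i : Fin m, algebraMap K K' (a i.castSucc) * u i + algebraMap K K' b * z) := by
          rw [mul_add, Finset.mul_sum, ← mul_assoc, ← map_mul, inv_mul_cancel₀ hb0, map_one,
            one_mul, sub_eq_add_neg, add_comm, ← Finset.sum_neg_distrib]
          congr 1
          apply Finset.sum_congr rfl
          intro i _
          rw [map_neg, map_mul]; ring
        rw [this]
        exact hsum.mul_left hbinv

end Fin

end Groth.Agent.Lib.LeadCE
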