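import Groth.Agent.Lib.LeadCE5

/-! Finiteness of the integral closure of `O_P` in a finite extension `K'/K` (part 3). -/

namespace Groth.Agent.Lib.LeadCE

open FunFld WithZero Polynomial Groth.Agent.Lib.LeadFF

section Fin

variable {k K K' : Type*} [Field k] [Field K] [Field K'] [Algebra k K] [Algebra K K']
  [Algebra k K'] [IsScalarTower k K K'] [FiniteDimensional K K']

/-- lifts of a `k`-basis of `F_P`. -/
lemma exists_residue_reps (hK : IsFunctionField k K) (P : Place k K) :
    ∃ w : Fin P.deg → K, (∀ l, P.1 (w l) ≤ 1) ∧ ∀ a : K, P.1 a ≤ 1 →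
      ∃ c : Fin P.deg → k, P.1 (a - ∑ l, algebraMap k K (c l) * w l) < 1 := by
  haveI := residueField_finite hK P
  let b : Module.Basis (Fin P.deg) k (IsLocalRing.ResidueField P.O) := Module.finBasis k _
  let w' : Fin P.deg → P.O := fun l => Function.surjInv IsLocalRing.residue_surjective (b l)
  have hw' : ∀ l, IsLocalRing.residue P.O (w' l) = b l := fun l => Function.surjInv_eq _ _
  refine ⟨fun l => (w' l : K), fun l => (w' l).2, ?_⟩
  intro a ha
  refine ⟨fun l => b.repr (IsLocalRing.residue P.O ⟨a, ha⟩) l, ?_⟩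
  set c := fun l => b.repr (IsLocalRing.residue P.O ⟨a, ha⟩) l with hc
  have hres : IsLocalRing.residue P.O (⟨a, ha⟩ - ∑ l, c l • w' l) = 0 := by
    rw [map_sub, map_sum]
    simp only [residue_smul, hw']
    rw [sub_eq_zero]
    exact (b.sum_repr _).symm
  have hcoe : ((⟨a, ha⟩ - ∑ l, c l • w' l : P.O) : K) = a - ∑ l, algebraMap k K (c l) * (w' l : K) := by
    rw [show ((⟨a, ha⟩ - ∑ l, c l • w' l : P.O) : K) = a - ((∑ l, c l • w' l : P.O) : K) from rfl]
    congr 1
    rw [show ((∑ l, c l • w' l : P.O) : K) = ∑ l, ((c l • w' l : P.O) : K) from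
      map_sum (P.O.subtype) _ _]
    apply Finset.sum_congr rfl
    intro l _
    exact coe_smul_O P _ _
  rw [← hcoe]
  exact (residue_eq_zero_iff P _).mp hres

lemma card_le_of_spans (hK : IsFunctionField k K) (P : Place k K) {t : K}
    (ht : P.1 t = exp (-1 : ℤ)) {m : ℕ} {u : Fin m → K'} (hu : ResIndep P t u)
    (hspan : ∀ z, InR P z → ∃ a : Fin m → K, (∀ i, P.1 (a i) ≤ 1) ∧
      InTR P t (z - ∑ i, algebraMap K K' (a i) * u i))
    {N : ℕ} (r : Fin N → K') (hr : ∀ j, InR P (r j))
    (hind : ∀ c : Fin N → k, InTR P t (∑ j, algebraMap k K' (c j) * r j) → ∀ j, c j = 0) :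
    N ≤ m * P.deg := by
  classical
  obtain ⟨w, hw1, hw⟩ := exists_residue_reps hK P
  let Nsub : Submodule k K' :=
    { carrier := {z | InTR P t z}
      add_mem' := fun hx hy => InTR.add hx hy
      zero_mem' := InTR.zero
      smul_mem' := fun c z hz => by
        show InTR P t (c • z)
        rw [Algebra.smul_def, IsScalarTower.algebraMap_apply k K K']
        exact InTR.mul_left hz (P.2.1 c) }
  have hmem : ∀ z, z ∈ Nsub ↔ InTR P t z := fun z => Iff.rfl
  let q := Nsub.mkQ
  let G : Fin m × Fin P.deg → K' ⧸ Nsub := fun p => q (algebraMap K K' (w p.2) * u p.1)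
  have hli : LinearIndependent k (fun j => q (r j)) := by
    rw [Fintype.linearIndependent_iff]
    intro c hc
    have h0 : q (∑ j, c j • r j) = 0 := by
      rw [map_sum]
      simpa only [map_smul] using hc
    rw [Submodule.mkQ_apply, Submodule.Quotient.mk_eq_zero, hmem] at h0
    apply hind c
    have : (∑ j, algebraMap k K' (c j) * r j) = ∑ j, c j • r j := by
      apply Finset.sum_congr rfl
      intro j _
      rw [Algebra.smul_def]
    rw [this]
    exact h0
  have hsub : Set.range (fun j => q (r j)) ≤ Submodule.span k (Set.range G) := by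
    rintro _ ⟨j, rfl⟩
    obtain ⟨a, ha1, ha⟩ := hspan (r j) (hr j)
    choose c hc using fun i => hw (a i) (ha1 i)
    have hdiff : InTR P t (r j - ∑ p : Fin m × Fin P.deg,
        c p.1 p.2 • (algebraMap K K' (w p.2) * u p.1)) := by
      have e1 : r j - ∑ p : Fin m × Fin P.deg, c p.1 p.2 • (algebraMap K K' (w p.2) * u p.1)
          = (r j - ∑ i, algebraMap K K' (a i) * u i)
            + ∑ i, algebraMap K K' (a i - ∑ l, algebraMap k K (c i l) * w l) * u i := by
        rw [Fintype.sum_prod_type]
        rw [sub_add, ← Finset.sum_sub_distrib]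
        congr 1
        apply Finset.sum_congr rfl
        intro i _
        rw [map_sub, sub_mul, sub_sub_cancel, map_sum, Finset.sum_mul]
        apply Finset.sum_congr rfl
        intro l _
        rw [Algebra.smul_def, map_mul, ← IsScalarTower.algebraMap_apply k K K', mul_assoc]
      rw [e1]
      refine ha.add (InTR.sum _ fun i _ => ?_)
      exact InTR.of_lt_one ht (hu.1 i) (hc i)
    have hq : q (r j) = ∑ p : Fin m × Fin P.deg, c p.1 p.2 • G p := by
      have h0 : q (r j - ∑ p : Fin m × Fin P.deg,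
          c p.1 p.2 • (algebraMap K K' (w p.2) * u p.1)) = 0 := by
        rw [Submodule.mkQ_apply, Submodule.Quotient.mk_eq_zero, hmem]
        exact hdiff
      rw [map_sub, sub_eq_zero, map_sum] at h0
      rw [h0]
      apply Finset.sum_congr rfl
      intro p _
      rw [map_smul]
    show q (r j) ∈ Submodule.span k (Set.range G)
    rw [hq]
    exact Submodule.sum_mem _ fun p _ => Submodule.smul_mem _ _ (Submodule.subset_span ⟨p, rfl⟩)
  have h1 := linearIndependent_le_span_aux' _ hli (Set.range G) hsub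
  have h2 : Fintype.card (Set.range G) ≤ Fintype.card (Fin m × Fin P.deg) :=
    Fintype.card_range_le G
  simpa using h1.trans h2

/-- an `O_P`-basis of the integral closure. -/
theorem exists_basis_InR (hK : IsFunctionField k K) (P : Place k K) :
    ∃ u : Fin (Module.finrank K K') → K', (∀ i, InR P (u i)) ∧
      ∀ z, InR P z → ∃ a : Fin (Module.finrank K K') → K, (∀ i, P.1 (a i) ≤ 1) ∧
        z = ∑ i, algebraMap K K' (a i) * u i := by
  classical
  obtain ⟨t, ht⟩ := exists_unif P
  set n := Module.finrank K K' with hn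
  let Pm : ℕ → Prop := fun m => ∃ u : Fin m → K', ResIndep P t u
  have hP0 : Pm 0 := ⟨Fin.elim0, fun i => i.elim0, fun _ _ _ i => i.elim0⟩
  obtain ⟨m, hmn, ⟨u, hu⟩, hmax⟩ : ∃ m, m ≤ n ∧ Pm m ∧ ¬ Pm (m + 1) := by
    refine ⟨Nat.findGreatest Pm n, Nat.findGreatest_le n,
      Nat.findGreatest_spec (Nat.zero_le n) hP0, ?_⟩
    intro h
    by_cases hle : Nat.findGreatest Pm n + 1 ≤ n
    · exact Nat.findGreatest_is_greatest (Nat.lt_succ_self _) hle h
    · obtain ⟨u', hu'⟩ := h
      have := hu'.le_finrank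
      omega
  have hspan := fun z (hz : InR P z) => hu.spans_of_maximal ht hmax hz
  obtain ⟨r, hr, hind⟩ := exists_indep_family (K' := K') hK P ht
  have hcard := card_le_of_spans hK P ht hu hspan r hr hind
  have hdeg : 0 < P.deg := deg_pos hK P
  have hmn' : n ≤ m := Nat.le_of_mul_le_mul_right hcard hdeg
  obtain rfl : m = n := le_antisymm hmn hmn'
  refine ⟨u, hu.1, ?_⟩
  intro z hz
  have hli := hu.linearIndependent
  have htop : Submodule.span K (Set.range u) = ⊤ :=
    hli.span_eq_top_of_card_eq_finrank' (by simp [hn])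
  have hzspan : z ∈ Submodule.span K (Set.range u) := by rw [htop]; trivial
  obtain ⟨a, ha⟩ := (Submodule.mem_span_range_iff_exists_fun K).mp hzspan
  have hzsum : z = ∑ i, algebraMap K K' (a i) * u i := by
    rw [← ha]
    apply Finset.sum_congr rfl
    intro i _
    rw [Algebra.smul_def]
  refine ⟨a, ?_, hzsum⟩
  by_contra hno
  push Not at hno
  obtain ⟨i0, hi0⟩ := hno
  have hai0 : a i0 ≠ 0 := by
    intro h; rw [h, map_zero] at hi0; exact not_lt.mpr zero_le' hi0
  obtain ⟨i1, hi1, hge, hle⟩ := exists_scale P a hai0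
  have hc : P.1 (a i1)⁻¹ < 1 := by
    rw [map_inv₀]
    exact inv_lt_one_of_one_lt₀ (lt_of_lt_of_le hi0 hge)
  have hsum : (∑ i, algebraMap K K' ((a i1)⁻¹ * a i) * u i) = algebraMap K K' (a i1)⁻¹ * z := by
    rw [hzsum, Finset.mul_sum]
    apply Finset.sum_congr rfl
    intro i _
    rw [map_mul, mul_assoc]
  have := hu.2 (fun i => (a i1)⁻¹ * a i) hle (by rw [hsum]; exact InTR.of_lt_one ht hz hc) i1
  rw [inv_mul_cancel₀ hi1, map_one] at this
  exact lt_irrefl _ this

lemma InR_of_isIntegral (P : Place k K) [Algebra P.O K'] [IsScalarTower P.O K K'] {z : K'}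
    (hz : IsIntegral P.O z) : InR P z := by
  obtain ⟨f, hf, hfz⟩ := hz
  intro Q' ⟨e, he⟩
  refine Groth.Agent.Lib.LeadRM.val_le_one_of_monic_root he hf ?_
  unfold Groth.Agent.Lib.LeadRM.ev
  rw [Polynomial.coe_eval₂RingHom, ← IsScalarTower.algebraMap_eq P.O K K']
  exact hfz

theorem integralClosure_finite (hK : IsFunctionField k K) (P : Place k K) [Algebra P.O K']
    [IsScalarTower P.O K K'] : Module.Finite P.O (integralClosure P.O K') := by
  obtain ⟨u, hu1, hu2⟩ := exists_basis_InR (K' := K') hK P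
  have hEq : Subalgebra.toSubmodule (integralClosure P.O K')
      = Submodule.span P.O (Set.range u) := by
    apply le_antisymm
    · intro z hz
      have hzint : IsIntegral P.O z := hz
      obtain ⟨a, ha1, ha⟩ := hu2 z (InR_of_isIntegral P hzint)
      rw [ha]
      refine Submodule.sum_mem _ fun i _ => ?_
      have : algebraMap K K' (a i) * u i = (⟨a i, ha1 i⟩ : P.O) • u i := by
        rw [Algebra.smul_def, IsScalarTower.algebraMap_apply P.O K K']; rfl
      rw [this]
      exact Submodule.smul_mem _ _ (Submodule.subset_span ⟨i, rfl⟩)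
    · rw [Submodule.span_le]
      rintro _ ⟨i, rfl⟩
      exact isIntegral_of_forall_over hK P (hu1 i)
  have hfg : (Subalgebra.toSubmodule (integralClosure P.O K')).FG := by
    rw [hEq]
    exact Submodule.fg_span (Set.finite_range u)
  exact Module.Finite.iff_fg.mpr hfg

end Fin

end Groth.Agent.Lib.LeadCE
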