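import Groth.Agent.Lib.LeadCE6

/-! `R / O_P[k']` is finite-dimensional over `k` and the conductor is nonzero. -/

namespace Groth.Agent.Lib.LeadCE

attribute [-instance] IsLocalRing.instModuleResidueFieldOfAlgebra

open FunFld WithZero Polynomial TensorProduct Groth.Agent.Lib.LeadFF

section Exp

variable {k K : Type*} [Field k] [Field K] [Algebra k K]

/-- `t`-adic expansions modulo `t^N` with coefficients in lifts of a residue basis. -/
lemma exists_expansion (P : Place k K) {t : K} (ht : P.1 t = exp (-1 : ℤ)) {d : ℕ} (w : Fin d → K)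
    (hw : ∀ a : K, P.1 a ≤ 1 → ∃ c : Fin d → k, P.1 (a - ∑ l, algebraMap k K (c l) * w l) < 1) :
    ∀ (N : ℕ) (a : K), P.1 a ≤ 1 → ∃ (c : Fin N → Fin d → k) (b : K), P.1 b ≤ 1 ∧
      a = (∑ j : Fin N, ∑ l, algebraMap k K (c j l) * (t ^ (j : ℕ) * w l)) + t ^ N * b := by
  intro N
  induction N with
  | zero =>
    intro a ha
    exact ⟨fun j => j.elim0, a, ha, by simp⟩
  | succ N ih =>
    intro a ha
    obtain ⟨c, b, hb, hab⟩ := ih a ha
    obtain ⟨c', hc'⟩ := hw b hb
    have ht0 := unif_ne_zero ht
    set b' := b - ∑ l, algebraMap k K (c' l) * w l with hb'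
    have hb'' : P.1 (b' / t) ≤ 1 := by
      rw [map_div₀, ht]
      exact div_le_one_of_le₀ (zm0_lt_one_iff.mp hc') zero_le'
    refine ⟨Fin.snoc c c', b' / t, hb'', ?_⟩
    rw [Fin.sum_univ_castSucc]
    simp only [Fin.snoc_castSucc, Fin.snoc_last, Fin.coe_castSucc, Fin.val_last]
    rw [hab]
    have : t ^ (N + 1) * (b' / t) = t ^ N * b' := by
      rw [pow_succ]; field_simp
    rw [this, hb', mul_sub, Finset.mul_sum]
    have e2 : (∑ l, algebraMap k K (c' l) * (t ^ N * w l)) = ∑ l, t ^ N * (algebraMap k K (c' l) * w l) := by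
      apply Finset.sum_congr rfl
      intro l _; ring
    rw [e2]
    ring

end Exp

section Cond

variable {k k' K K' : Type*} [Field k] [Field k'] [Field K] [Field K']
  [Algebra k k'] [Algebra k K] [Algebra K K'] [Algebra k' K'] [Algebra k K']
  [IsScalarTower k k' K'] [IsScalarTower k K K']

theorem conductor_and_finite [FiniteDimensional k k']
    (h : Function.Bijective (Algebra.TensorProduct.productMap
      (IsScalarTower.toAlgHom k k' K') (IsScalarTower.toAlgHom k K K')))
    (hK : IsFunctionField k K) (P : Place k K) [Algebra P.O K'] [IsScalarTower P.O K K'] :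
    (∃ V : Submodule k K', FiniteDimensional k V ∧ ∀ r ∈ integralClosure P.O K',
      ∃ s ∈ Algebra.adjoin P.O (Set.range (algebraMap k' K')), r - s ∈ V) ∧
    (∃ c ∈ integralClosure P.O K', c ≠ 0 ∧ ∀ r ∈ integralClosure P.O K',
      c * r ∈ Algebra.adjoin P.O (Set.range (algebraMap k' K'))) := by
  classical
  haveI : FiniteDimensional K K' := finiteDimensional_of_surjective h.2
  obtain ⟨t, ht⟩ := exists_unif P
  have ht0 := unif_ne_zero ht
  obtain ⟨u, hu1, hu2⟩ := exists_basis_InR (K' := K') hK P
  set T := Algebra.adjoin P.O (Set.range (algebraMap k' K')) with hT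
  set t' : K' := algebraMap K K' t with ht'
  have hOT : ∀ a : K, P.1 a ≤ 1 → algebraMap K K' a ∈ T := by
    intro a ha
    have : algebraMap K K' a = algebraMap P.O K' ⟨a, ha⟩ := by
      rw [IsScalarTower.algebraMap_apply P.O K K']; rfl
    rw [this]; exact T.algebraMap_mem _
  have ht'T : t' ∈ T := hOT t (unif_lt_one ht).le
  have hj : ∀ i, ∃ j : ℕ, t' ^ j * u i ∈ T := by
    intro i
    obtain ⟨j, r, hr⟩ := exists_pow_mul_mem_range h.2 P ht (u i)
    exact ⟨j, by rw [← hr]; exact range_psi_le_adjoin P r⟩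
  choose j hj using hj
  set N := ∑ i, j i with hN
  have hNu : ∀ i, t' ^ N * u i ∈ T := by
    intro i
    have hle : j i ≤ N := Finset.single_le_sum (f := j) (fun _ _ => Nat.zero_le _) (Finset.mem_univ i)
    have : t' ^ N * u i = t' ^ (N - j i) * (t' ^ j i * u i) := by
      rw [← mul_assoc, ← pow_add, Nat.sub_add_cancel hle]
    rw [this]
    exact T.mul_mem (T.pow_mem ht'T _) (hj i)
  have hRint : ∀ r ∈ integralClosure P.O K', InR P r := fun r hr => InR_of_isIntegral P hr
  refine ⟨?_, ?_⟩
  · -- finite-dimensional complement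
    obtain ⟨w, hw1, hw⟩ := exists_residue_reps hK P
    let gen : Fin N × Fin P.deg × Fin (Module.finrank K K') → K' :=
      fun p => algebraMap K K' (t ^ (p.1 : ℕ) * w p.2.1) * u p.2.2
    refine ⟨Submodule.span k (Set.range gen), FiniteDimensional.span_of_finite k (Set.finite_range _), ?_⟩
    intro r hr
    obtain ⟨a, ha1, ha⟩ := hu2 r (hRint r hr)
    choose c b hb hab using fun i => exists_expansion P ht w hw N (a i) (ha1 i)
    refine ⟨∑ i, algebraMap K K' (b i) * (t' ^ N * u i), ?_, ?_⟩
    · exact T.sum_mem fun i _ => T.mul_mem (hOT _ (hb i)) (hNu i)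
    · have : r - ∑ i, algebraMap K K' (b i) * (t' ^ N * u i)
          = ∑ i, ∑ jj : Fin N, ∑ l, c i jj l • gen (jj, l, i) := by
        rw [ha, ← Finset.sum_sub_distrib]
        apply Finset.sum_congr rfl
        intro i _
        conv_lhs => rw [hab i]
        rw [map_add, add_mul, map_mul, map_pow]
        rw [show algebraMap K K' t ^ N * algebraMap K K' (b i) * u i
          = algebraMap K K' (b i) * (t' ^ N * u i) by rw [ht']; ring, add_sub_cancel_right,
          map_sum, Finset.sum_mul]
        apply Finset.sum_congr rfl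
        intro jj _
        rw [map_sum, Finset.sum_mul]
        apply Finset.sum_congr rfl
        intro l _
        simp only [gen]
        rw [Algebra.smul_def, map_mul, ← IsScalarTower.algebraMap_apply k K K', mul_assoc]
      rw [this]
      refine Submodule.sum_mem _ fun i _ => Submodule.sum_mem _ fun jj _ =>
        Submodule.sum_mem _ fun l _ => Submodule.smul_mem _ _ (Submodule.subset_span ⟨_, rfl⟩)
  · refine ⟨t' ^ N, ?_, pow_ne_zero _ ?_, ?_⟩
    · apply Subalgebra.pow_mem
      have : t' = algebraMap P.O K' (unifO ht) := by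
        rw [ht', IsScalarTower.algebraMap_apply P.O K K']; rfl
      rw [this]
      exact Subalgebra.algebraMap_mem _ _
    · rw [ht', Ne, map_eq_zero]; exact ht0
    · intro r hr
      obtain ⟨a, ha1, ha⟩ := hu2 r (hRint r hr)
      rw [ha, Finset.mul_sum]
      refine T.sum_mem fun i _ => ?_
      have : t' ^ N * (algebraMap K K' (a i) * u i) = algebraMap K K' (a i) * (t' ^ N * u i) := by
        ring
      rw [this]
      exact T.mul_mem (hOT _ (ha1 i)) (hNu i)

end Cond

end Groth.Agent.Lib.LeadCE
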