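import Groth.Agent.Lib.LeadCE3
import Mathlib.FieldTheory.PurelyInseparable.Basic
import Mathlib.FieldTheory.SeparableClosure

/-! Frobenius-power closures, tensor products of separable and purely inseparable extensions. -/

namespace Groth.Agent.Lib.LeadCE

attribute [-instance] IsLocalRing.instModuleResidueFieldOfAlgebra

open FunFld WithZero Polynomial TensorProduct Groth.Agent.Lib.LeadFF

section Frob

variable {R : Type*} [CommRing R] (q : ℕ) [ExpChar R q] (S : Subring R)

/-- some `q`-power-power of `x` lies in `S`. -/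
def FrobIn (x : R) : Prop := ∃ N : ℕ, x ^ q ^ N ∈ S

variable {q S}

omit [ExpChar R q] in
lemma frobIn_of_mem {x : R} (hx : x ∈ S) : FrobIn q S x := ⟨0, by simpa using hx⟩

omit [ExpChar R q] in
lemma frobIn_up {x : R} {N : ℕ} (h : x ^ q ^ N ∈ S) (d : ℕ) : x ^ q ^ (N + d) ∈ S := by
  rw [pow_add, pow_mul]; exact S.pow_mem h _

lemma frobIn_add {x y : R} (hx : FrobIn q S x) (hy : FrobIn q S y) : FrobIn q S (x + y) := by
  obtain ⟨N1, h1⟩ := hx
  obtain ⟨N2, h2⟩ := hy
  refine ⟨N1 + N2, ?_⟩
  rw [add_pow_expChar_pow]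
  refine S.add_mem (frobIn_up h1 N2) ?_
  rw [add_comm N1 N2]
  exact frobIn_up h2 N1

omit [ExpChar R q] in
lemma frobIn_mul {x y : R} (hx : FrobIn q S x) (hy : FrobIn q S y) : FrobIn q S (x * y) := by
  obtain ⟨N1, h1⟩ := hx
  obtain ⟨N2, h2⟩ := hy
  refine ⟨N1 + N2, ?_⟩
  rw [mul_pow]
  refine S.mul_mem (frobIn_up h1 N2) ?_
  rw [add_comm N1 N2]
  exact frobIn_up h2 N1

omit [ExpChar R q] in
lemma isField_of_frobIn [IsReduced R] [Nontrivial R] (hq : 0 < q)
    (hS : ∀ x ∈ S, x ≠ 0 → IsUnit x) (h : ∀ x : R, FrobIn q S x) : IsField R := by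
  refine ⟨exists_pair_ne R, mul_comm, ?_⟩
  intro x hx
  obtain ⟨N, hN⟩ := h x
  have hn : q ^ N ≠ 0 := (pow_pos hq N).ne'
  have h0 : x ^ q ^ N ≠ 0 := by
    intro h0
    exact hx ((IsReduced.pow_eq_zero_iff hn).mp h0)
  have hu : IsUnit (x ^ q ^ N) := hS _ hN h0
  exact ((isUnit_pow_iff hn).mp hu).exists_right_inv

end Frob

section Tensor

variable (k A B : Type*) [Field k] [Field A] [Field B] [Algebra k A] [Algebra k B]

/-- `A/k` finite separable and `B/k` purely inseparable: `A ⊗ B` is a field. -/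
theorem isField_tensor_of_sep_of_pi [FiniteDimensional k A] [Algebra.IsSeparable k A]
    [IsPurelyInseparable k B] : IsField (A ⊗[k] B) := by
  let q := ringExpChar k
  haveI : ExpChar k q := ringExpChar.expChar k
  haveI : Nontrivial (A ⊗[k] B) :=
    Algebra.TensorProduct.nontrivial_of_algebraMap_injective_of_flat_left (R := k) A B
      (algebraMap k B).injective
  haveI : ExpChar (A ⊗[k] B) q :=
    expChar_of_injective_algebraMap (algebraMap k (A ⊗[k] B)).injective q
  haveI : Algebra.FormallyUnramified k A := Algebra.FormallyUnramified.of_isSeparable k A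
  haveI : IsReduced (B ⊗[k] A) := Algebra.FormallyUnramified.isReduced_of_field B (B ⊗[k] A)
  haveI : IsReduced (A ⊗[k] B) :=
    isReduced_of_injective (Algebra.TensorProduct.comm k A B).toRingHom
      (Algebra.TensorProduct.comm k A B).injective
  let S : Subring (A ⊗[k] B) :=
    (Algebra.TensorProduct.includeLeft : A →ₐ[k] A ⊗[k] B).toRingHom.range
  refine isField_of_frobIn (q := q) (S := S) (expChar_pos k q) ?_ ?_
  · rintro _ ⟨a, rfl⟩ h0
    have ha : a ≠ 0 := by
      rintro rfl
      exact h0 (map_zero _)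
    exact (isUnit_iff_ne_zero.mpr ha).map _
  · intro x
    induction x using TensorProduct.induction_on with
    | zero => exact frobIn_of_mem S.zero_mem
    | tmul a b =>
      obtain ⟨N, c, hc⟩ := IsPurelyInseparable.pow_mem k q b
      refine ⟨N, c • a ^ q ^ N, ?_⟩
      rw [Algebra.TensorProduct.tmul_pow, ← hc]
      show (c • a ^ q ^ N) ⊗ₜ[k] (1 : B) = _
      rw [TensorProduct.smul_tmul, Algebra.algebraMap_eq_smul_one]
    | add x y hx hy => exact frobIn_add hx hy

end Tensor

section Val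

/-- integral elements over a ring on which the valuation is `≤ 1` have valuation `≤ 1`. -/
lemma val_le_one_of_isIntegral' {R K' : Type*} [CommRing R] [Field K'] [Algebra R K']
    {Γ₀ : Type*} [LinearOrderedCommGroupWithZero Γ₀]
    (v : Valuation K' Γ₀) (hR : ∀ r : R, v (algebraMap R K' r) ≤ 1) {z : K'}
    (hz : IsIntegral R z) : v z ≤ 1 := by
  obtain ⟨p, hp, hpz⟩ := hz
  by_contra hlt
  rw [not_le] at hlt
  have h0 : v z ≠ 0 := (zero_lt_one.trans hlt).ne'
  rw [← Polynomial.aeval_def, hp.as_sum, map_add, map_pow, Polynomial.aeval_X, map_sum] at hpz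
  have h1 : v (∑ i ∈ Finset.range p.natDegree, Polynomial.aeval z (C (p.coeff i) * X ^ i)) <
      v z ^ p.natDegree := by
    apply Valuation.map_sum_lt _ (pow_ne_zero _ h0)
    intro i hi
    rw [Finset.mem_range] at hi
    rw [map_mul, Polynomial.aeval_C, map_pow, Polynomial.aeval_X, map_mul, map_pow]
    calc v (algebraMap R K' (p.coeff i)) * v z ^ i ≤ 1 * v z ^ i :=
          mul_le_mul' (hR _) le_rfl
      _ = v z ^ i := one_mul _
      _ < v z ^ p.natDegree := pow_lt_pow_right₀ hlt hi
  have h2 : z ^ p.natDegree =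
      -∑ i ∈ Finset.range p.natDegree, Polynomial.aeval z (C (p.coeff i) * X ^ i) :=
    eq_neg_of_add_eq_zero_left hpz
  rw [← Valuation.map_neg, ← h2, map_pow] at h1
  exact lt_irrefl _ h1

end Val

section Over

variable {k K K' : Type*} [Field k] [Field K] [Field K'] [Algebra k K] [Algebra K K']
  [Algebra k K'] [IsScalarTower k K K'] [FiniteDimensional K K']

/-- there is a place over `P`. -/
theorem exists_over (hK : IsFunctionField k K) (P : Place k K) :
    ∃ Q : Place k K', IsOver Q P := by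
  classical
  by_contra hno
  push_neg at hno
  have h0 := sum_ramIdx_deg (K' := K') hK P ∅ (fun Q => by simp [hno Q])
  have h1 : 0 < Module.finrank K K' := Module.finrank_pos
  have h2 : 0 < P.deg := LeadFG.deg_pos (LeadFG.IsFF.of_isFunctionField hK) P
  rw [Finset.sum_empty] at h0
  exact (Nat.mul_pos h1 h2).ne h0

lemma val_algebraMap_le_one {Q : Place k K'} {P : Place k K} (hQ : IsOver Q P) (a : P.O) :
    Q.1 (algebraMap K K' (a : K)) ≤ 1 := by
  obtain ⟨e, he⟩ := hQ
  rw [he]
  exact pow_le_one' a.2 _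

lemma val_le_one_of_isIntegral_over {Q : Place k K'} {P : Place k K} (hQ : IsOver Q P)
    [Algebra P.O K'] [IsScalarTower P.O K K'] {z : K'} (hz : IsIntegral P.O z) : Q.1 z ≤ 1 := by
  refine val_le_one_of_isIntegral' Q.1 (fun a => ?_) hz
  rw [IsScalarTower.algebraMap_apply P.O K K']
  exact val_algebraMap_le_one hQ a

lemma val_unif_lt_one {Q : Place k K'} {P : Place k K} (hQ : IsOver Q P) {t : K}
    (ht : P.1 t < 1) : Q.1 (algebraMap K K' t) < 1 := by
  obtain ⟨e, he⟩ := hQ
  rw [he]
  exact pow_lt_one' ht (isOverWith_pos he).ne'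

end Over

end Groth.Agent.Lib.LeadCE
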