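import Groth.Agent.Lib.LeadCE8

/-! Uniqueness of the place above `P` in a constant field extension: the core argument. -/

namespace Groth.Agent.Lib.LeadCE

attribute [-instance] IsLocalRing.instModuleResidueFieldOfAlgebra

open FunFld WithZero Polynomial TensorProduct Groth.Agent.Lib.LeadFF

section A

variable {k k' K K' : Type*} [Field k] [Field k'] [Field K] [Field K']
  [Algebra k k'] [Algebra k K] [Algebra K K'] [Algebra k' K'] [Algebra k K']
  [IsScalarTower k k' K'] [IsScalarTower k K K']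

lemma mem_range_psi_of_mem_adjoin (P : Place k K) [Algebra P.O K'] [IsScalarTower P.O K K']
    {z : K'} (hz : z ∈ Algebra.adjoin P.O (Set.range (algebraMap k' K'))) :
    z ∈ Set.range (psi (k' := k') (K' := K') P) := by
  induction hz using Algebra.adjoin_induction with
  | mem x hx =>
    obtain ⟨c, rfl⟩ := hx
    exact ⟨c ⊗ₜ 1, by rw [psi_tmul]; simp⟩
  | algebraMap a =>
    exact ⟨1 ⊗ₜ a, by rw [psi_one_tmul, IsScalarTower.algebraMap_apply P.O K K']; rfl⟩
  | add x y _ _ hx hy =>
    obtain ⟨a, rfl⟩ := hx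
    obtain ⟨b, rfl⟩ := hy
    exact ⟨a + b, map_add _ _ _⟩
  | mul x y _ _ hx hy =>
    obtain ⟨a, rfl⟩ := hx
    obtain ⟨b, rfl⟩ := hy
    exact ⟨a * b, map_mul _ _ _⟩

lemma rho_surjective (P : Place k K) : Function.Surjective (rho (k' := k') P) := by
  intro y
  induction y using TensorProduct.induction_on with
  | zero => exact ⟨0, map_zero _⟩
  | tmul c b =>
    obtain ⟨a, rfl⟩ := IsLocalRing.residue_surjective b
    exact ⟨c ⊗ₜ a, rho_tmul P c a⟩
  | add x y hx hy =>
    obtain ⟨a, rfl⟩ := hx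
    obtain ⟨b, rfl⟩ := hy
    exact ⟨a + b, map_add _ _ _⟩

/-- Frobenius powers of everything land in `S` as soon as this holds for `k'` and `K ⊆ S`. -/
lemma frob_range (q : ℕ) [ExpChar K' q] (S : Subring K')
    (h : Function.Surjective (Algebra.TensorProduct.productMap
      (IsScalarTower.toAlgHom k k' K') (IsScalarTower.toAlgHom k K K')))
    (hk' : ∀ c : k', FrobIn q S (algebraMap k' K' c)) (hKS : ∀ a : K, algebraMap K K' a ∈ S)
    (z : K') : FrobIn q S z := by
  obtain ⟨w, rfl⟩ := h z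
  induction w using TensorProduct.induction_on with
  | zero => rw [map_zero]; exact frobIn_of_mem S.zero_mem
  | tmul c a =>
    rw [Algebra.TensorProduct.productMap_apply_tmul]
    exact frobIn_mul (hk' c) (frobIn_of_mem (hKS a))
  | add x y hx hy => rw [map_add]; exact frobIn_add hx hy

end A

section Core

variable {k k₁ K K₁ K' : Type*} [Field k] [Field k₁] [Field K] [Field K₁] [Field K']
  [Algebra k k₁] [Algebra k K] [Algebra K K₁] [Algebra k₁ K₁] [Algebra k K₁]
  [IsScalarTower k k₁ K₁] [IsScalarTower k K K₁]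
  [Algebra K K'] [Algebra k K'] [IsScalarTower k K K'] [Algebra K₁ K'] [IsScalarTower K K₁ K']
  [FiniteDimensional k k₁] [Algebra.IsSeparable k k₁] [FiniteDimensional K K']

theorem unique_over_core
    (h₁ : Function.Surjective (Algebra.TensorProduct.productMap
      (IsScalarTower.toAlgHom k k₁ K₁) (IsScalarTower.toAlgHom k K K₁)))
    (hK : IsFunctionField k K) (P : Place k K)
    (q : ℕ) [ExpChar K' q]
    (hfrob : ∀ z : K', ∃ N : ℕ, z ^ q ^ N ∈ (algebraMap K₁ K').range)
    (hL : IsField (k₁ ⊗[k] IsLocalRing.ResidueField P.O))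
    {Q1 Q2 : Place k K'} (h1 : IsOver Q1 P) (h2 : IsOver Q2 P) : Q1 = Q2 := by
  classical
  by_contra hne
  letI : Algebra P.O K₁ := ((algebraMap K K₁).comp (algebraMap P.O K)).toAlgebra
  haveI : IsScalarTower P.O K K₁ := IsScalarTower.of_algebraMap_eq (fun _ => rfl)
  letI : Algebra P.O K' := ((algebraMap K K').comp (algebraMap P.O K)).toAlgebra
  haveI : IsScalarTower P.O K K' := IsScalarTower.of_algebraMap_eq (fun _ => rfl)
  haveI : IsScalarTower P.O K₁ K' := IsScalarTower.of_algebraMap_eq (fun a => by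
    show algebraMap K K' (a : K) = algebraMap K₁ K' (algebraMap K K₁ (a : K))
    exact IsScalarTower.algebraMap_apply K K₁ K' _)
  obtain ⟨t, ht⟩ := exists_unif P
  have ht1 : P.1 t < 1 := unif_lt_one ht
  have hfin := finite_over (K' := K') hK P
  obtain ⟨r, hr⟩ := LeadFG.weak_approx hfin.toFinset
    (fun Q => if Q = Q1 then 0 else 1) (fun _ => -1)
  have hexp : (exp (-1 : ℤ) : ZM0) < 1 := by rw [← exp_zero, exp_lt_exp]; norm_num
  have hr1 : Q1.1 r < 1 := by
    have := hr Q1 (hfin.mem_toFinset.mpr h1)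
    rw [if_pos rfl, sub_zero] at this
    rw [this]; exact hexp
  have hrQ : ∀ Q : Place k K', IsOver Q P → Q ≠ Q1 → Q.1 (r - 1) < 1 := by
    intro Q hQ hQ1
    have := hr Q (hfin.mem_toFinset.mpr hQ)
    rw [if_neg hQ1] at this
    rw [this]; exact hexp
  have hrint : IsIntegral P.O r := by
    apply isIntegral_of_forall_over hK P
    intro Q hQ
    by_cases hQ1 : Q = Q1
    · subst hQ1; exact hr1.le
    · have := hrQ Q hQ hQ1
      have e : r = (r - 1) + 1 := by ring
      rw [e]
      exact (Q.1.map_add _ _).trans (max_le this.le (by rw [map_one]))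
  obtain ⟨N, s₁, hs₁⟩ := hfrob r
  have hqN : q ^ N ≠ 0 := (pow_pos (expChar_pos K' q) N).ne'
  have hsint : IsIntegral P.O (r ^ q ^ N) := hrint.pow _
  have hs₁int : IsIntegral P.O s₁ := by
    rw [← hs₁] at hsint
    exact (isIntegral_algebraMap_iff (algebraMap K₁ K').injective).mp hsint
  have hmem : s₁ ∈ (integralClosure P.O K₁).toSubring := hs₁int
  rw [integralClosure_eq h₁ hK P] at hmem
  obtain ⟨w, hw⟩ := mem_range_psi_of_mem_adjoin P hmem
  have hs1 : Q1.1 (r ^ q ^ N) < 1 := by
    rw [map_pow]; exact pow_lt_one' hr1 hqN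
  have hs2 : Q2.1 (r ^ q ^ N - 1) < 1 := by
    have : r ^ q ^ N - 1 = (r - 1) ^ q ^ N := by rw [sub_pow_expChar_pow, one_pow]
    rw [this, map_pow]
    exact pow_lt_one' (hrQ Q2 h2 (Ne.symm hne)) hqN
  have hpsi_int : ∀ (Q : Place k K'), IsOver Q P → ∀ u : k₁ ⊗[k] P.O,
      Q.1 (algebraMap K₁ K' (psi (k' := k₁) (K' := K₁) P u)) ≤ 1 := by
    intro Q hQ u
    apply val_le_one_of_isIntegral_over hQ
    have hu : IsIntegral P.O (psi (k' := k₁) (K' := K₁) P u) := by
      have h' : psi (k' := k₁) (K' := K₁) P u ∈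
          (Algebra.adjoin P.O (Set.range (algebraMap k₁ K₁))).toSubring :=
        range_psi_le_adjoin (k' := k₁) (K' := K₁) P u
      rw [← integralClosure_eq h₁ hK P] at h'
      exact h'
    exact hu.algebraMap
  have hT : ∀ Q : Place k K', IsOver Q P → Q.1 (algebraMap K K' t) < 1 :=
    fun Q hQ => val_unif_lt_one hQ ht1
  by_cases hρ : rho (k' := k₁) P w = 0
  · have hk : w ∈ RingHom.ker (rho (k' := k₁) P) := hρ
    rw [ker_rho ht, Ideal.mem_span_singleton'] at hk
    obtain ⟨w', hw'⟩ := hk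
    have e1 : r ^ q ^ N = algebraMap K₁ K' (psi (k' := k₁) (K' := K₁) P w') * algebraMap K K' t := by
      rw [← hs₁, ← hw, ← hw', map_mul, psi_one_tmul, map_mul,
        ← IsScalarTower.algebraMap_apply K K₁ K']
      rfl
    have hlt : Q2.1 (r ^ q ^ N) < 1 := by
      rw [e1, map_mul]
      exact mul_lt_one_of_nonneg_of_lt_one_right (hpsi_int Q2 h2 w') zero_le' (hT Q2 h2)
    have : Q2.1 1 < 1 := by
      have e : (1 : K') = r ^ q ^ N - (r ^ q ^ N - 1) := by ring
      rw [e]
      exact (Q2.1.map_sub _ _).trans_lt (max_lt hlt hs2)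
    rw [map_one] at this
    exact lt_irrefl _ this
  · obtain ⟨y, hy⟩ := hL.mul_inv_cancel hρ
    obtain ⟨w', rfl⟩ := rho_surjective (k' := k₁) P y
    have hk : w * w' - 1 ∈ RingHom.ker (rho (k' := k₁) P) := by
      rw [RingHom.mem_ker, map_sub, map_mul, hy, map_one, sub_self]
    rw [ker_rho ht, Ideal.mem_span_singleton'] at hk
    obtain ⟨w'', hw''⟩ := hk
    have e0 : psi (k' := k₁) (K' := K₁) P w * psi (k' := k₁) (K' := K₁) P w'
        = 1 + psi (k' := k₁) (K' := K₁) P w'' * algebraMap K K₁ t := by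
      have := congrArg (psi (k' := k₁) (K' := K₁) P) hw''
      rw [map_mul, psi_one_tmul, map_sub, map_mul, map_one] at this
      rw [eq_comm, sub_eq_iff_eq_add'] at this
      rw [this]
      rfl
    have e1 : r ^ q ^ N * algebraMap K₁ K' (psi (k' := k₁) (K' := K₁) P w')
        = 1 + algebraMap K₁ K' (psi (k' := k₁) (K' := K₁) P w'') * algebraMap K K' t := by
      rw [← hs₁, ← hw, ← map_mul, e0, map_add, map_one, map_mul,
        ← IsScalarTower.algebraMap_apply K K₁ K']
    have hlt : Q1.1 (r ^ q ^ N * algebraMap K₁ K' (psi (k' := k₁) (K' := K₁) P w')) < 1 := by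
      rw [map_mul]
      exact mul_lt_one_of_nonneg_of_lt_one_left zero_le' hs1 (hpsi_int Q1 h1 w')
    have h1' : Q1.1 (algebraMap K₁ K' (psi (k' := k₁) (K' := K₁) P w'') * algebraMap K K' t) < 1 := by
      rw [map_mul]
      exact mul_lt_one_of_nonneg_of_lt_one_right (hpsi_int Q1 h1 w'') zero_le' (hT Q1 h1)
    rw [e1, Valuation.map_one_add_of_lt Q1.1 h1'] at hlt
    exact lt_irrefl _ hlt

end Core

end Groth.Agent.Lib.LeadCE
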