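import Mathlib
import Groth.Prelude.Def_ARSys
import Groth.Agent.Lib.LeadAdicLim

/-!
# Lead: Mittag-Leffler systems of modules: the image of the limit is the stable image
-/

set_option autoImplicit false
universe u
open CategoryTheory CategoryTheory.Limits Opposite

namespace Groth.Agent.Lib.LeadMLLim

open Groth.Agent.Lib.LeadAdicLim

variable {A : Type u} [CommRing A]

theorem range_le_of_imageSubobject_le {X Y Z : ModuleCat.{u} A} (f : X ⟶ Z) (g : Y ⟶ Z)
    (h : imageSubobject f ≤ imageSubobject g) : LinearMap.range f.hom ≤ LinearMap.range g.hom := by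
  rintro _ ⟨y, rfl⟩
  have e1 : factorThruImageSubobject f ≫ (imageSubobject f).arrow = f := imageSubobject_arrow_comp f
  have e2 : Subobject.ofLE _ _ h ≫ (imageSubobject g).arrow = (imageSubobject f).arrow :=
    Subobject.ofLE_arrow h
  have e3 : factorThruImageSubobject g ≫ (imageSubobject g).arrow = g := imageSubobject_arrow_comp g
  have hsurj : Function.Surjective (factorThruImageSubobject g).hom :=
    (ModuleCat.epi_iff_surjective _).mp inferInstance
  obtain ⟨v, hv⟩ := hsurj ((Subobject.ofLE _ _ h).hom ((factorThruImageSubobject f).hom y))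
  refine ⟨v, ?_⟩
  have h1 : g.hom v = (imageSubobject g).arrow.hom ((factorThruImageSubobject g).hom v) :=
    (congrArg (fun φ => φ.hom v) e3).symm
  have h2 : f.hom y = (imageSubobject g).arrow.hom
      ((Subobject.ofLE _ _ h).hom ((factorThruImageSubobject f).hom y)) := by
    have e4 : factorThruImageSubobject f ≫ Subobject.ofLE _ _ h ≫ (imageSubobject g).arrow = f := by
      rw [e2, e1]
    exact (congrArg (fun φ => φ.hom y) e4).symm
  rw [h1, hv, ← h2]

variable (N : ℕᵒᵖ ⥤ ModuleCat.{u} A)

/-- elements of subsets closed under lifting along the transition maps lift to the limit. -/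
theorem exists_limit_of_lifting (S : ∀ p : ℕ, Set (N.obj (op p)))
    (hS : ∀ p, ∀ z ∈ S p, ∃ z' ∈ S (p + 1), (N.map (homOfLE (Nat.le_succ p)).op).hom z' = z)
    (n : ℕ) (z0 : N.obj (op n)) (hz0 : z0 ∈ S n) :
    ∃ x : ↑(limit N), (limit.π N (op n)).hom x = z0 := by
  have hS' : ∀ (p : ℕ) (z : {z : N.obj (op p) // z ∈ S p}),
      ∃ z' : {z : N.obj (op (p + 1)) // z ∈ S (p + 1)},
        (N.map (homOfLE (Nat.le_succ p)).op).hom z'.1 = z.1 := by
    rintro p ⟨z, hz⟩
    obtain ⟨z', hz', e⟩ := hS p z hz
    exact ⟨⟨z', hz'⟩, e⟩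
  choose lift hlift using hS'
  let v : (j : ℕ) → {z : N.obj (op (n + j)) // z ∈ S (n + j)} := fun j =>
    Nat.rec (motive := fun j => {z : N.obj (op (n + j)) // z ∈ S (n + j)}) ⟨z0, hz0⟩
      (fun j x => lift (n + j) x) j
  have hv_succ : ∀ j, (N.map (homOfLE (Nat.le_succ (n + j))).op).hom (v (j + 1)).1 = (v j).1 :=
    fun j => hlift (n + j) (v j)
  have hv0 : ∀ j, (N.map (homOfLE (Nat.le_add_right n j)).op).hom (v j).1 = z0 := by
    intro j
    induction j with
    | zero => exact map_refl_apply N _ _
    | succ j ih =>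
      rw [← map_map_apply N (Nat.le_add_right n j) (Nat.le_succ (n + j)), hv_succ, ih]
  obtain ⟨x, hx⟩ := exists_of_compatible N
    (fun q => (N.map (homOfLE (Nat.le_add_left q n)).op).hom (v q).1) (fun q => by
      rw [map_map_apply, ← map_map_apply N (Nat.le_add_left q n) (Nat.le_succ (n + q)), hv_succ])
  refine ⟨x, ?_⟩
  rw [hx n]
  exact hv0 n

/-- for a Mittag-Leffler system of modules the image of the limit in `N_n` is the stable image. -/
theorem range_π_eq_of_isML (hN : ARSys.IsML N) (n : ℕ) :
    ∃ r : ℕ, LinearMap.range (limit.π N (op n)).hom =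
      LinearMap.range (N.map (homOfLE (Nat.le_add_right n r)).op).hom := by
  choose r hr using hN
  -- the stable images
  have key : ∀ (p q : ℕ) (h : p + r p ≤ q),
      LinearMap.range (N.map (homOfLE ((Nat.le_add_right p (r p)).trans h)).op).hom =
        LinearMap.range (N.map (homOfLE (Nat.le_add_right p (r p))).op).hom := by
    intro p q h
    obtain ⟨s, rfl⟩ : ∃ s, q = p + s := ⟨q - p, by omega⟩
    have hs : r p ≤ s := by omega
    have e := hr p s hs
    exact le_antisymm (range_le_of_imageSubobject_le _ _ e.le)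
      (range_le_of_imageSubobject_le _ _ e.ge)
  refine ⟨r n, le_antisymm ?_ ?_⟩
  · rintro _ ⟨x, rfl⟩
    exact ⟨(limit.π N (op (n + r n))).hom x, π_map_apply N _ x⟩
  · rintro z hz
    obtain ⟨x, hx⟩ := exists_limit_of_lifting N
      (fun p => (LinearMap.range (N.map (homOfLE (Nat.le_add_right p (r p))).op).hom : Set _))
      (fun p z hz => by
        have hq1 : p + r p ≤ max (p + r p) (p + 1 + r (p + 1)) := le_max_left _ _
        have hq2 : p + 1 + r (p + 1) ≤ max (p + r p) (p + 1 + r (p + 1)) := le_max_right _ _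
        have hz' : z ∈ LinearMap.range
            (N.map (homOfLE ((Nat.le_add_right p (r p)).trans hq1)).op).hom := by
          rw [key p _ hq1]; exact hz
        obtain ⟨y, rfl⟩ := hz'
        refine ⟨(N.map (homOfLE ((Nat.le_add_right (p + 1) (r (p + 1))).trans hq2)).op).hom y,
          ?_, ?_⟩
        · have := key (p + 1) _ hq2
          rw [SetLike.mem_coe, ← this]
          exact ⟨y, rfl⟩
        · rw [map_map_apply]) n z hz
    exact ⟨x, hx⟩

end Groth.Agent.Lib.LeadMLLim
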