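import Mathlib
import Groth.Prelude.Def_Algz
import Groth.Agent.Lib.LeadAdicGamma
import Groth.Agent.Lib.LeadMLLim
import Groth.Agent.Lib.Helper23FinType2

/-!
# Lead: the converse criterion for canonical extension

If the system of sections `H⁰(U, G_n)` is Mittag-Leffler, the limit topology on `M = lim H⁰(U, G_n)` is the
`I`-adic one and the images of `M` in the `H⁰(U, G_n)` are finite modules, then `((M/I^(n+1)M)~)` is an
object of `Coh(Spec A, I)` pro-isomorphic to `((H⁰(U, G_n))~)`.
-/

set_option autoImplicit false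
set_option linter.style.haveILetI false
universe u
open CategoryTheory Limits AlgebraicGeometry TopologicalSpace Opposite

namespace Groth.Agent.Lib.LeadCanExt

open Groth.Agent.Lib.Helper27FormalKer Groth.Agent.Lib.LeadProIso Groth.Agent.Lib.LeadAdicGamma
  Groth.Agent.Lib.LeadAdicLim Groth.Agent.Lib.LeadMLLim

section Tilde

variable {R : CommRingCat.{u}}

/-- `tilde` is linear: multiplication by `c` goes to multiplication by `c`. -/
theorem tilde_map_smul (P : ModuleCat.{u} R) (c : R) :
    (tilde.functor R).map (c • 𝟙 P) =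
      @Formal.smulMod R _ (Spec (CommRingCat.of R)) ⟨𝟙 _⟩ ((tilde.functor R).obj P) c := by
  apply ((tilde.adjunction (R := R)).homEquiv P ((tilde.functor R).obj P)).injective
  rw [Adjunction.homEquiv_unit, Adjunction.homEquiv_unit]
  have hnat := (tilde.adjunction (R := R)).unit.naturality (c • 𝟙 P)
  rw [Functor.comp_map] at hnat
  rw [← hnat]
  ext m
  rw [ModuleCat.hom_comp, LinearMap.comp_apply, ModuleCat.hom_comp, LinearMap.comp_apply,
    Γ_smulMod, ← map_smul]
  rfl

/-- `P~ ⟶ (P/JP)~` is the cokernel of the multiplication maps by the elements of `J`. -/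
theorem isIso_cokernelDesc_tilde (J : Ideal R) {P Q : ModuleCat.{u} R} (q : P ⟶ Q)
    (hq : Function.Surjective q.hom) (hker : LinearMap.ker q.hom ≤ J • (⊤ : Submodule R P))
    (h : @Formal.smulFamily R _ (Spec (CommRingCat.of R)) ⟨𝟙 _⟩ J ((tilde.functor R).obj P) ≫
      (tilde.functor R).map q = 0) :
    IsIso (cokernel.desc _ ((tilde.functor R).map q) h) := by
  letI ovX : (Spec (CommRingCat.of R)).Over (Spec (CommRingCat.of R)) := ⟨𝟙 _⟩
  let adj := tilde.adjunction (R := R)
  let C := cokernel (Formal.smulFamily J ((tilde.functor R).obj P))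
  let f : (tilde.functor R).obj P ⟶ C := cokernel.π _
  let f' : P ⟶ (moduleSpecΓFunctor (R := R)).obj C := adj.homEquiv P C f
  have hsm : ∀ c ∈ J, Formal.smulMod R ((tilde.functor R).obj P) c ≫ f = 0 := by
    intro c hc
    have e : Sigma.ι (fun _ : J => (tilde.functor R).obj P) ⟨c, hc⟩ ≫
        Formal.smulFamily J ((tilde.functor R).obj P) =
        Formal.smulMod R ((tilde.functor R).obj P) c := by
      simp [Formal.smulFamily]
    rw [← e, Category.assoc, cokernel.condition, comp_zero]
  have hCkill : Formal.KilledBy J C := by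
    intro c hc
    haveI : Epi f := inferInstanceAs (Epi (cokernel.π _))
    rw [← cancel_epi f, Groth.Agent.Lib.Helper17.IAdic.comp_smulMod, hsm c hc, comp_zero]
  have hf' : J • (⊤ : Submodule R P) ≤ LinearMap.ker f'.hom := by
    rw [Submodule.smul_le]
    intro c hc m _
    rw [LinearMap.mem_ker, map_smul]
    exact Γ_killed hCkill c hc _
  -- the factorisation through `q`
  let e := LinearMap.quotKerEquivOfSurjective q.hom hq
  let g : Q ⟶ (moduleSpecΓFunctor (R := R)).obj C :=
    ModuleCat.ofHom (X := Q) (Y := (moduleSpecΓFunctor (R := R)).obj C)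
      (((LinearMap.ker q.hom).liftQ f'.hom (hker.trans hf')).comp e.symm.toLinearMap)
  have hg : q ≫ g = f' := by
    ext m
    have h1 : e.symm (q.hom m) = Submodule.Quotient.mk m := by
      rw [LinearEquiv.symm_apply_eq]
      rfl
    have h2 : (q ≫ g).hom m =
        ((LinearMap.ker q.hom).liftQ f'.hom (hker.trans hf')) (e.symm (q.hom m)) := rfl
    rw [h2, h1]
    rfl
  let ι : (tilde.functor R).obj Q ⟶ C := (adj.homEquiv Q C).symm g
  have hι : (tilde.functor R).map q ≫ ι = f := by
    have := adj.homEquiv_naturality_left_symm q g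
    rw [← this, hg]
    exact (adj.homEquiv P C).symm_apply_apply f
  haveI : Epi q := (ModuleCat.epi_iff_surjective q).mpr hq
  haveI : (tilde.functor R).PreservesEpimorphisms :=
    Functor.preservesEpimorphisms_of_adjunction adj
  haveI : Epi ((tilde.functor R).map q) := inferInstance
  refine ⟨ι, ?_, ?_⟩
  · rw [← cancel_epi (cokernel.π _), ← Category.assoc, cokernel.π_desc, hι, Category.comp_id]
  · rw [← cancel_epi ((tilde.functor R).map q), ← Category.assoc, hι, cokernel.π_desc,
      Category.comp_id]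

end Tilde

section QP

variable {A : Type u} [CommRing A] (I : Ideal A) (M : ModuleCat.{u} A)

/-- the submodule `I^(n+1) M`. -/
def pw (n : ℕ) : Submodule A M := I ^ (n + 1) • (⊤ : Submodule A M)

theorem pw_def (n : ℕ) : pw I M n = I ^ (n + 1) • (⊤ : Submodule A M) := rfl

theorem pw_le {n k : ℕ} (h : n ≤ k) : pw I M k ≤ Submodule.comap LinearMap.id (pw I M n) := by
  rw [Submodule.comap_id]
  exact Submodule.smul_mono_left (Ideal.pow_le_pow_right (Nat.succ_le_succ h))

theorem aux_killed (n : ℕ) (c : A) (hc : c ∈ I ^ (n + 1)) (z : M ⧸ pw I M n) : c • z = 0 := by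
  obtain ⟨x, rfl⟩ := Submodule.Quotient.mk_surjective _ z
  rw [← Submodule.Quotient.mk_smul, Submodule.Quotient.mk_eq_zero]
  exact Submodule.smul_mem_smul hc Submodule.mem_top

theorem aux_ker {n k : ℕ} (h : n ≤ k) (y : M ⧸ pw I M k)
    (hy : Submodule.mapQ _ _ LinearMap.id (pw_le I M h) y = 0) :
    y ∈ I ^ (n + 1) • (⊤ : Submodule A (M ⧸ pw I M k)) := by
  obtain ⟨x, rfl⟩ := Submodule.Quotient.mk_surjective _ y
  rw [Submodule.mapQ_apply, LinearMap.id_apply, Submodule.Quotient.mk_eq_zero, pw_def] at hy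
  have h1 : (Submodule.Quotient.mk x : M ⧸ pw I M k) ∈
      Submodule.map (Submodule.mkQ (pw I M k))
        (I ^ (n + 1) • (⊤ : Submodule A M)) := Submodule.mem_map_of_mem hy
  rw [Submodule.map_smul''] at h1
  exact Submodule.smul_mono le_rfl le_top h1

/-- the system `n ↦ M/I^(n+1)M` of `A`-modules. -/
noncomputable def QP : ℕᵒᵖ ⥤ ModuleCat.{u} A where
  obj j := ModuleCat.of A (M ⧸ pw I M j.unop)
  map {j j'} f := ModuleCat.ofHom (Submodule.mapQ _ _ LinearMap.id (pw_le I M (leOfHom f.unop)))
  map_id j := by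
    apply ModuleCat.hom_ext
    exact Submodule.mapQ_id (pw I M j.unop) (pw_le I M (le_refl _))
  map_comp f g := by
    apply ModuleCat.hom_ext
    rw [ModuleCat.hom_comp, ModuleCat.hom_ofHom, ModuleCat.hom_ofHom, ModuleCat.hom_ofHom,
      ← Submodule.mapQ_comp]
    rfl

theorem QP_map_mk {n k : ℕ} (h : n ≤ k) (x : M) :
    ((QP I M).map (homOfLE h).op).hom (Submodule.Quotient.mk x : M ⧸ pw I M k) =
      (Submodule.Quotient.mk x : M ⧸ pw I M n) := rfl

theorem QP_map_surjective {n k : ℕ} (h : n ≤ k) :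
    Function.Surjective ((QP I M).map (homOfLE h).op).hom := by
  intro y
  obtain ⟨x, rfl⟩ := Submodule.Quotient.mk_surjective (pw I M n) y
  exact ⟨(Submodule.Quotient.mk x : M ⧸ pw I M k), rfl⟩

theorem QP_ker_le (n : ℕ) :
    LinearMap.ker ((QP I M).map (homOfLE (Nat.le_succ n)).op).hom ≤
      I ^ (n + 1) • (⊤ : Submodule A ((QP I M).obj (op (n + 1)))) := by
  intro y hy
  exact aux_ker I M (Nat.le_succ n) y (LinearMap.mem_ker.mp hy)

theorem QP_killed (n : ℕ) (c : A) (hc : c ∈ I ^ (n + 1)) (z : (QP I M).obj (op n)) : c • z = 0 :=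
  aux_killed I M n c hc z

/-- `((M/I^(n+1)M)~)` is an object of `Coh(Spec A, I)` when the quotients are finite modules. -/
theorem isCohFormal_QP_tilde
    (hfin : ∀ n : ℕ, Module.Finite A (M ⧸ pw I M n)) :
    @Formal.IsCohFormal A _ (Spec (CommRingCat.of A)) ⟨𝟙 (Spec (CommRingCat.of A))⟩ I
      (QP I M ⋙ tilde.functor (CommRingCat.of A)) := by
  letI ovX : (Spec (CommRingCat.of A)).Over (Spec (CommRingCat.of A)) := ⟨𝟙 _⟩
  refine ⟨fun n => ⟨?_, ?_⟩, fun n => ?_, fun n => ?_⟩
  · exact inferInstanceAs (tilde (R := CommRingCat.of A) ((QP I M).obj (op n))).IsQuasicoherent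
  · exact (Groth.Agent.Lib.Helper23.FinType.isFiniteType_tilde_iff (CommRingCat.of A)
      ((QP I M).obj (op n))).2 (hfin n)
  · exact killedBy_tilde (R := CommRingCat.of A) ((QP I M).obj (op n)) (QP_killed I M n)
  · have hk : @Formal.KilledBy A _ (Spec (CommRingCat.of A)) ⟨𝟙 _⟩ (I ^ (n + 1))
        ((tilde.functor (CommRingCat.of A)).obj ((QP I M).obj (op n))) :=
      killedBy_tilde (R := CommRingCat.of A) ((QP I M).obj (op n)) (QP_killed I M n)
    have h0 := smulFamily_comp_of_killed (I ^ (n + 1))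
      ((tilde.functor (CommRingCat.of A)).map ((QP I M).map (homOfLE (Nat.le_succ n)).op)) hk
    exact ⟨h0, isIso_cokernelDesc_tilde (R := CommRingCat.of A) (I ^ (n + 1))
      ((QP I M).map (homOfLE (Nat.le_succ n)).op) (QP_map_surjective I M _) (QP_ker_le I M n) h0⟩

end QP

section Pro

theorem exists_factor {A : Type*} [CommRing A] {M X' X Q : Type*} [AddCommGroup M] [Module A M]
    [AddCommGroup X'] [Module A X'] [AddCommGroup X] [Module A X] [AddCommGroup Q] [Module A Q]
    (π : M →ₗ[A] X) (T : X' →ₗ[A] X) (q : M →ₗ[A] Q)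
    (hT : LinearMap.range T ≤ LinearMap.range π) (hq : LinearMap.ker π ≤ LinearMap.ker q) :
    ∃ a : X' →ₗ[A] Q, ∀ (z : X') (x : M), π x = T z → a z = q x := by
  refine ⟨((LinearMap.ker π).liftQ q hq).comp ((LinearMap.quotKerEquivRange π).symm.toLinearMap.comp
    (LinearMap.codRestrict (LinearMap.range π) T (fun z => hT ⟨z, rfl⟩))), fun z x hx => ?_⟩
  have e : (LinearMap.quotKerEquivRange π).symm
      (LinearMap.codRestrict (LinearMap.range π) T (fun z => hT ⟨z, rfl⟩) z) =
      Submodule.Quotient.mk x := by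
    rw [LinearEquiv.symm_apply_eq]
    apply Subtype.ext
    rw [LinearMap.quotKerEquivRange_apply_mk]
    exact hx.symm
  change ((LinearMap.ker π).liftQ q hq) ((LinearMap.quotKerEquivRange π).symm
      (LinearMap.codRestrict (LinearMap.range π) T (fun z => hT ⟨z, rfl⟩) z)) = q x
  rw [e]
  rfl

variable {A : Type u} [CommRing A] (I : Ideal A) (X : ℕᵒᵖ ⥤ ModuleCat.{u} A)

/-- under the Mittag-Leffler condition and if the limit topology is the `I`-adic one, the system `X` is
pro-isomorphic to `(M/I^(n+1)M)` for `M = lim X`. -/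
theorem exists_proData_QP (hML : ARSys.IsML X)
    (hb : ∀ k : ℕ, ∃ n : ℕ, LinearMap.ker (limit.π X (op n)).hom ≤
      I ^ k • (⊤ : Submodule A ↑(limit X)))
    (hkill : ∀ (p : ℕ) (c : A), c ∈ I ^ (p + 1) → ∀ z : X.obj (op p), c • z = 0) :
    ∃ (m : ℕ → ℕ) (hm : Monotone m) (_ : ∀ n, n ≤ m n), ProData X (QP I (limit X)) hm := by
  choose ν hν using hb
  choose r hr using range_π_eq_of_isML X hML
  have hK_anti : ∀ {a b : ℕ} (h : a ≤ b), LinearMap.ker (limit.π X (op b)).hom ≤
      LinearMap.ker (limit.π X (op a)).hom := by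
    intro a b h x hx
    rw [LinearMap.mem_ker] at hx ⊢
    rw [← π_map_apply X h, hx, map_zero]
  -- the indices
  let p : ℕ → ℕ := fun n => n + (Finset.range (n + 1)).sup (fun i => ν (i + 1))
  have hp_ge : ∀ n, n ≤ p n := fun n => Nat.le_add_right _ _
  have hp_mono : Monotone p := by
    intro a b h
    exact Nat.add_le_add h (Finset.sup_mono (Finset.range_mono (Nat.succ_le_succ h)))
  have hp_ν : ∀ n, ν (n + 1) ≤ p n := by
    intro n
    have : ν (n + 1) ≤ (Finset.range (n + 1)).sup (fun i => ν (i + 1)) :=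
      Finset.le_sup (f := fun i => ν (i + 1)) (Finset.mem_range.mpr (Nat.lt_succ_self n))
    exact this.trans (Nat.le_add_left _ _)
  have hpK : ∀ n, LinearMap.ker (limit.π X (op (p n))).hom ≤ pw I (limit X) n := fun n =>
    (hK_anti (hp_ν n)).trans (hν (n + 1))
  let m : ℕ → ℕ := fun n => p n + (Finset.range (n + 1)).sup (fun i => r (p i))
  have hm_mono : Monotone m := by
    intro a b h
    exact Nat.add_le_add (hp_mono h) (Finset.sup_mono (Finset.range_mono (Nat.succ_le_succ h)))
  have hm_r : ∀ n, p n + r (p n) ≤ m n := by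
    intro n
    have : r (p n) ≤ (Finset.range (n + 1)).sup (fun i => r (p i)) :=
      Finset.le_sup (f := fun i => r (p i)) (Finset.mem_range.mpr (Nat.lt_succ_self n))
    exact Nat.add_le_add_left this _
  have hpm : ∀ n, p n ≤ m n := fun n => (Nat.le_add_right _ _).trans (hm_r n)
  have hm_ge : ∀ n, n ≤ m n := fun n => (hp_ge n).trans (hpm n)
  -- lifting elements of `X_{m n}` (restricted to `X_{p n}`) to the limit
  have hlift : ∀ (n : ℕ) (z : X.obj (op (m n))), ∃ x : ↑(limit X),
      (limit.π X (op (p n))).hom x = (X.map (homOfLE (hpm n)).op).hom z := by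
    intro n z
    have h1 : (X.map (homOfLE (hpm n)).op).hom z ∈
        LinearMap.range (X.map (homOfLE (Nat.le_add_right (p n) (r (p n)))).op).hom :=
      ⟨(X.map (homOfLE (hm_r n)).op).hom z, map_map_apply X _ _ z⟩
    rw [← hr (p n)] at h1
    exact h1
  -- the maps `a n`
  have hex : ∀ n, ∃ a : X.obj (op (m n)) →ₗ[A] (↑(limit X) ⧸ pw I (limit X) n),
      ∀ (z : X.obj (op (m n))) (x : ↑(limit X)),
        (limit.π X (op (p n))).hom x = (X.map (homOfLE (hpm n)).op).hom z →
          a z = Submodule.Quotient.mk x := by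
    intro n
    refine exists_factor (limit.π X (op (p n))).hom (X.map (homOfLE (hpm n)).op).hom
      (pw I (limit X) n).mkQ ?_ ?_
    · rintro _ ⟨z, rfl⟩
      obtain ⟨x, hx⟩ := hlift n z
      exact ⟨x, hx⟩
    · rw [Submodule.ker_mkQ]
      exact hpK n
  choose a ha_spec using hex
  have hkillK : ∀ n, pw I (limit X) n ≤ LinearMap.ker (limit.π X (op n)).hom := by
    intro n
    rw [pw_def, Submodule.smul_le]
    intro c hc x _
    rw [LinearMap.mem_ker, map_smul]
    exact hkill n c hc _
  refine ⟨m, hm_mono, hm_ge, fun n => ModuleCat.ofHom (a n), fun {n k} h => ?_, fun n => ?_⟩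
  · -- naturality
    ext z
    obtain ⟨x, hx⟩ := hlift k z
    have h1 : (limit.π X (op (p n))).hom x =
        (X.map (homOfLE (hpm n)).op).hom ((X.map (homOfLE (hm_mono h)).op).hom z) := by
      rw [map_map_apply, ← π_map_apply X (hp_mono h) x, hx, map_map_apply]
    change a n ((X.map (homOfLE (hm_mono h)).op).hom z) =
      ((QP I (limit X)).map (homOfLE h).op).hom (a k z)
    rw [ha_spec n _ x h1, ha_spec k z x hx]
    rfl
  · refine ⟨m n, hm_ge n, ModuleCat.ofHom ((pw I (limit X) (m n)).liftQ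
      (limit.π X (op (m n))).hom (hkillK (m n))), ?_, ?_⟩
    · ext z
      obtain ⟨x, hx⟩ := hlift (m n) z
      change ((pw I (limit X) (m n)).liftQ (limit.π X (op (m n))).hom (hkillK (m n)))
        (a (m n) z) = (X.map (homOfLE (hm_mono (hm_ge n))).op).hom z
      rw [ha_spec (m n) z x hx, Submodule.liftQ_apply,
        ← π_map_apply X (hp_ge (m n)) x, hx, map_map_apply]
    · ext y
      obtain ⟨x, rfl⟩ := Submodule.Quotient.mk_surjective (pw I (limit X) (m n)) y
      change a n (((pw I (limit X) (m n)).liftQ (limit.π X (op (m n))).hom (hkillK (m n)))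
        (Submodule.Quotient.mk x)) = ((QP I (limit X)).map (homOfLE (hm_ge n)).op).hom
          (Submodule.Quotient.mk x)
      rw [Submodule.liftQ_apply, ha_spec n _ x (π_map_apply X (hpm n) x).symm]
      rfl

end Pro

section Main

theorem isProIsomorphic_of_proData {C : Type*} [Category C] {F G : ℕᵒᵖ ⥤ C} {m : ℕ → ℕ}
    (hm : Monotone m) (hm' : ∀ n, n ≤ m n) (h : ProData F G hm) : Algz.IsProIsomorphic F G := by
  obtain ⟨a, ha, hpro⟩ := h
  refine ⟨m, hm, hm',
    { app := fun j => a j.unop
      naturality := fun j j' f => ?_ }, fun n => ?_⟩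
  · have hle : j'.unop ≤ j.unop := leOfHom f.unop
    have hf : f = (homOfLE hle).op := Subsingleton.elim _ _
    rw [hf, reindex_map']
    exact ha hle
  · obtain ⟨k, h, b, hab, hba⟩ := hpro n
    exact ⟨k, h, b, hab.trans (reindex_map' F hm h).symm, hba⟩

theorem finite_quot_of_ker_le {A : Type*} [CommRing A] {M X : Type*} [AddCommGroup M] [Module A M]
    [AddCommGroup X] [Module A X] (π : M →ₗ[A] X) (P : Submodule A M)
    (h : LinearMap.ker π ≤ P) [Module.Finite A ↥(LinearMap.range π)] : Module.Finite A (M ⧸ P) := by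
  have hle : LinearMap.ker π ≤ LinearMap.ker P.mkQ := by rw [Submodule.ker_mkQ]; exact h
  refine Module.Finite.of_surjective
    (((LinearMap.ker π).liftQ P.mkQ hle).comp (LinearMap.quotKerEquivRange π).symm.toLinearMap) ?_
  intro y
  obtain ⟨x, rfl⟩ := Submodule.Quotient.mk_surjective _ y
  refine ⟨⟨π x, LinearMap.mem_range_self π x⟩, ?_⟩
  have e := LinearMap.quotKerEquivRange_symm_apply_image π x (LinearMap.mem_range_self π x)
  change ((LinearMap.ker π).liftQ P.mkQ hle)
    ((LinearMap.quotKerEquivRange π).symm ⟨π x, LinearMap.mem_range_self π x⟩) = _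
  rw [e]
  rfl

variable (A : Type u) [CommRing A]

theorem Γ_push_smulMod (U : (Spec (CommRingCat.of A)).Opens) (T : (U : Scheme.{u}).Modules) (c : A)
    (z : (moduleSpecΓFunctor (R := CommRingCat.of A)).obj ((Scheme.Modules.pushforward U.ι).obj T)) :
    ((moduleSpecΓFunctor (R := CommRingCat.of A)).map ((Scheme.Modules.pushforward U.ι).map
      (Formal.smulMod A T c))).hom z = c • z := by
  rfl

theorem Γ_push_map_zero (U : (Spec (CommRingCat.of A)).Opens) (T T' : (U : Scheme.{u}).Modules)
    (z : (moduleSpecΓFunctor (R := CommRingCat.of A)).obj ((Scheme.Modules.pushforward U.ι).obj T)) :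
    ((moduleSpecΓFunctor (R := CommRingCat.of A)).map ((Scheme.Modules.pushforward U.ι).map
      (0 : T ⟶ T'))).hom z = 0 := by
  rfl

/-- the converse criterion: Mittag-Leffler, adic limit topology and finiteness of the images force a
canonical extension. -/
theorem canonicallyExtends_of_ML [IsNoetherianRing A] (I : Ideal A)
    (U : (Spec (CommRingCat.of A)).Opens) (G : ℕᵒᵖ ⥤ (U : Scheme.{u}).Modules)
    (hkillG : ∀ n, Formal.KilledBy (I ^ (n + 1)) (G.obj (op n)))
    (ha : ARSys.IsML (Algz.sectMod A U G))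
    (hb : ∀ k : ℕ, ∃ n : ℕ, LinearMap.ker (limit.π (Algz.sectMod A U G) (op n)).hom ≤
      I ^ k • (⊤ : Submodule A ↑(limit (Algz.sectMod A U G))))
    (hc : ∀ n : ℕ, Module.Finite A ↥(LinearMap.range (limit.π (Algz.sectMod A U G) (op n)).hom)) :
    Algz.CanonicallyExtends A I U G := by
  have hkill : ∀ (p : ℕ) (c : A), c ∈ I ^ (p + 1) →
      ∀ z : (Algz.sectMod A U G).obj (op p), c • z = 0 := by
    intro p c hc' z
    have h1 := Γ_push_smulMod A U (G.obj (op p)) c z
    rw [hkillG p c hc'] at h1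
    exact h1.symm.trans (Γ_push_map_zero A U _ _ z)
  obtain ⟨m, hm, hm', hdata⟩ := exists_proData_QP I (Algz.sectMod A U G) ha hb hkill
  have hfin : ∀ n : ℕ, Module.Finite A (↑(limit (Algz.sectMod A U G)) ⧸
      pw I (limit (Algz.sectMod A U G)) n) := by
    intro n
    obtain ⟨n', hn'⟩ := hb (n + 1)
    haveI := hc n'
    exact finite_quot_of_ker_le (limit.π (Algz.sectMod A U G) (op n')).hom _ hn'
  refine ⟨QP I (limit (Algz.sectMod A U G)) ⋙ tilde.functor (CommRingCat.of A),
    isCohFormal_QP_tilde I _ hfin, ?_⟩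
  exact isProIsomorphic_of_proData hm hm' (hdata.comp (tilde.functor (CommRingCat.of A)))

end Main

end Groth.Agent.Lib.LeadCanExt
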