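import Mathlib
import Groth.Agent.Lib.LeadAzumayaLocal

/-!
# Double centralizer for Azumaya algebras

`A` Azumaya over `R`, `L : A →ₐ[R] End_R P` any representation, `C` the centralizer of `L(A)`;
then `A ⊗ C → End_R P` is bijective.
-/

set_option autoImplicit false

namespace Groth.Agent.Lib.LeadDC

open TensorProduct MulOpposite

variable {R : Type*} [CommRing R] {A : Type*} [Ring A] [Algebra R A]
  {P : Type*} [AddCommGroup P] [Module R P] (L : A →ₐ[R] Module.End R P)

/-- the centralizer of the image of `A` -/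
abbrev cent : Subalgebra R (Module.End R P) := Subalgebra.centralizer R (Set.range L)

theorem cent_comm (a : A) (c : cent L) : L a * c.1 = c.1 * L a :=
  (Subalgebra.mem_centralizer_iff R).mp c.2 (L a) ⟨a, rfl⟩

/-- multiplication map `A ⊗ C → End_R P` -/
noncomputable def mu : A ⊗[R] cent L →ₐ[R] Module.End R P :=
  Algebra.TensorProduct.lift L (cent L).val (fun a c => cent_comm L a c)

@[simp]
theorem mu_tmul (a : A) (c : cent L) : mu L (a ⊗ₜ c) = L a * c.1 := by
  simp [mu]

/-- the bimodule action of `A ⊗ Aᵐᵒᵖ` on `End_R P` -/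
noncomputable def T : A ⊗[R] Aᵐᵒᵖ →ₐ[R] Module.End R (Module.End R P) :=
  (AlgHom.mulLeftRight R (Module.End R P)).comp (Algebra.TensorProduct.map L (AlgHom.op L))

@[simp]
theorem T_tmul (x : A) (y : Aᵐᵒᵖ) (f : Module.End R P) :
    T L (x ⊗ₜ y) f = L x * f * L y.unop := by
  simp [T, AlgHom.mulLeftRight_apply]

theorem T_apply_mul_cent (z : A ⊗[R] Aᵐᵒᵖ) (b : A) (n : cent L) :
    T L z (L b * n.1) = L (AlgHom.mulLeftRight R A z b) * n.1 := by
  induction z using TensorProduct.induction_on with
  | zero => simp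
  | add x y hx hy =>
    simp only [map_add, LinearMap.add_apply, hx, hy, add_mul]
  | tmul x y =>
    rw [T_tmul, AlgHom.mulLeftRight_apply, map_mul, map_mul]
    rw [mul_assoc (L x * L b), cent_comm L y.unop n]
    simp only [mul_assoc]

variable [IsAzumaya R A]

theorem mu_bijective : Function.Bijective (mu L) := by
  classical
  obtain ⟨m, a, ξ, hdual⟩ := Groth.Agent.Lib.LeadAzumaya.exists_dualBasis (R := R) A
  have hψ : Function.Bijective (AlgHom.mulLeftRight R A) := IsAzumaya.bij
  -- the elements z_j
  choose z hz using fun j : Fin m => hψ.2 ((ξ j).smulRight (1 : A))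
  have hz' : ∀ j b, AlgHom.mulLeftRight R A (z j) b = ξ j b • (1 : A) := by
    intro j b
    rw [hz j]
    rfl
  -- (i)
  have h1 : ∀ (b : A) j, (b ⊗ₜ[R] (1 : Aᵐᵒᵖ)) * z j = ((1 : A) ⊗ₜ[R] op b) * z j := by
    intro b j
    apply hψ.1
    rw [map_mul, map_mul]
    ext x
    simp only [Module.End.mul_apply, hz', AlgHom.mulLeftRight_apply]
    simp
  -- (ii)
  have h2 : ∑ j, (a j ⊗ₜ[R] (1 : Aᵐᵒᵖ)) * z j = 1 := by
    apply hψ.1
    rw [map_sum, map_one]
    ext x
    simp only [LinearMap.sum_apply, map_mul, Module.End.mul_apply, hz', AlgHom.mulLeftRight_apply,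
      Module.End.one_apply]
    conv_rhs => rw [hdual x]
    simp
  -- membership in the centralizer
  have hmem : ∀ j (f : Module.End R P), T L (z j) f ∈ cent L := by
    intro j f
    rw [Subalgebra.mem_centralizer_iff]
    rintro _ ⟨b, rfl⟩
    have e1 : L b * T L (z j) f = T L ((b ⊗ₜ[R] (1 : Aᵐᵒᵖ)) * z j) f := by
      rw [map_mul, Module.End.mul_apply, T_tmul]
      simp
    have e2 : T L (z j) f * L b = T L (((1 : A) ⊗ₜ[R] op b) * z j) f := by
      rw [map_mul, Module.End.mul_apply, T_tmul]
      simp
    rw [e1, e2, h1]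
  -- the section
  let s : Module.End R P →ₗ[R] A ⊗[R] cent L :=
    ∑ j, (TensorProduct.mk R A (cent L) (a j)) ∘ₗ
      (LinearMap.codRestrict (Subalgebra.toSubmodule (cent L)) (T L (z j)) (hmem j))
  have hs : ∀ f, s f = ∑ j, a j ⊗ₜ[R] (⟨T L (z j) f, hmem j f⟩ : cent L) := by
    intro f
    simp only [s, LinearMap.sum_apply, LinearMap.comp_apply, TensorProduct.mk_apply]
    rfl
  constructor
  · -- injective
    have hleft : ∀ t, s (mu L t) = t := by
      intro t
      induction t using TensorProduct.induction_on with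
      | zero => simp
      | add x y hx hy => rw [map_add, map_add, hx, hy]
      | tmul b n =>
        rw [mu_tmul, hs]
        have e3 : ∀ j, (⟨T L (z j) (L b * n.1), hmem j _⟩ : cent L) = ξ j b • n := by
          intro j
          apply Subtype.ext
          show T L (z j) (L b * n.1) = ξ j b • n.1
          rw [T_apply_mul_cent, hz', map_smul, map_one]
          simp
        simp only [e3]
        conv_rhs => rw [hdual b, TensorProduct.sum_tmul]
        refine Finset.sum_congr rfl fun j _ => ?_
        rw [TensorProduct.smul_tmul]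
    exact Function.LeftInverse.injective hleft
  · -- surjective
    intro f
    refine ⟨s f, ?_⟩
    rw [hs, map_sum]
    simp only [mu_tmul]
    have e4 : f = T L (∑ j, (a j ⊗ₜ[R] (1 : Aᵐᵒᵖ)) * z j) f := by
      rw [h2, map_one, Module.End.one_apply]
    conv_rhs => rw [e4]
    rw [map_sum, LinearMap.sum_apply]
    refine Finset.sum_congr rfl fun j _ => ?_
    rw [map_mul, Module.End.mul_apply, T_tmul]
    simp

end Groth.Agent.Lib.LeadDC
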