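import Mathlib
import Groth.Agent.Lib.LeadAzumaya
import Groth.Agent.S19589

/-!
# Azumaya: opposite algebra, and cancellation `A`, `A ⊗ C` Azumaya ⟹ `C` Azumaya
-/

set_option autoImplicit false

namespace Groth.Agent.Lib.LeadDC

open TensorProduct MulOpposite

section Op

variable (R : Type*) [CommRing R] (A : Type*) [Ring A] [Algebra R A]

theorem isAzumaya_op [IsAzumaya R A] : IsAzumaya R Aᵐᵒᵖ := by
  haveI : Module.Finite R Aᵐᵒᵖ := Module.Finite.equiv (MulOpposite.opLinearEquiv R : A ≃ₗ[R] Aᵐᵒᵖ)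
  haveI : Module.Projective R Aᵐᵒᵖ :=
    Module.Projective.of_equiv (MulOpposite.opLinearEquiv R : A ≃ₗ[R] Aᵐᵒᵖ)
  haveI : FaithfulSMul R Aᵐᵒᵖ := by
    constructor
    intro r s h
    apply FaithfulSMul.eq_of_smul_eq_smul (α := A)
    intro a
    have := h (op a)
    exact MulOpposite.op_injective (by simpa using this)
  let σ : Aᵐᵒᵖ ⊗[R] Aᵐᵒᵖᵐᵒᵖ ≃ₗ[R] A ⊗[R] Aᵐᵒᵖ :=
    (TensorProduct.comm R Aᵐᵒᵖ Aᵐᵒᵖᵐᵒᵖ) ≪≫ₗ
      (TensorProduct.congr
        ((MulOpposite.opLinearEquiv R).symm ≪≫ₗ (MulOpposite.opLinearEquiv R).symm)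
        (LinearEquiv.refl R Aᵐᵒᵖ))
  let κ : Module.End R A ≃ₗ[R] Module.End R Aᵐᵒᵖ :=
    LinearEquiv.conj (MulOpposite.opLinearEquiv R : A ≃ₗ[R] Aᵐᵒᵖ)
  have hcomm : ∀ t, AlgHom.mulLeftRight R Aᵐᵒᵖ t = κ (AlgHom.mulLeftRight R A (σ t)) := by
    intro t
    induction t using TensorProduct.induction_on with
    | zero => simp
    | add x y hx hy => simp only [map_add, hx, hy]
    | tmul x y =>
      ext w
      simp [σ, κ, LinearEquiv.conj_apply, AlgHom.mulLeftRight_apply, mul_assoc]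
  have hbij : Function.Bijective (AlgHom.mulLeftRight R Aᵐᵒᵖ) := by
    have h1 : ⇑(AlgHom.mulLeftRight R Aᵐᵒᵖ) = ⇑κ ∘ ⇑(AlgHom.mulLeftRight R A) ∘ ⇑σ := by
      funext t
      simp [hcomm]
    rw [h1]
    exact κ.bijective.comp (IsAzumaya.bij.comp σ.bijective)
  exact { bij := hbij }

end Op

section Cancel

variable (R : Type*) [CommRing R] (A : Type*) [Ring A] [Algebra R A] [IsAzumaya R A]
  (C : Type*) [Ring C] [Algebra R C] [Module.Finite R C] [Module.Projective R C]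
  [FaithfulSMul R C]

theorem isAzumaya_of_tensor (h : IsAzumaya R (A ⊗[R] C)) : IsAzumaya R C := by
  classical
  let opT : Aᵐᵒᵖ ⊗[R] Cᵐᵒᵖ ≃ₗ[R] (A ⊗[R] C)ᵐᵒᵖ :=
    (TensorProduct.congr (MulOpposite.opLinearEquiv R).symm (MulOpposite.opLinearEquiv R).symm) ≪≫ₗ
      (MulOpposite.opLinearEquiv R)
  let Θ : (A ⊗[R] Aᵐᵒᵖ) ⊗[R] (C ⊗[R] Cᵐᵒᵖ) ≃ₗ[R] (A ⊗[R] C) ⊗[R] (A ⊗[R] C)ᵐᵒᵖ :=
    (TensorProduct.tensorTensorTensorComm R A Aᵐᵒᵖ C Cᵐᵒᵖ) ≪≫ₗ
      (TensorProduct.congr (LinearEquiv.refl R _) opT)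
  let ψA : A ⊗[R] Aᵐᵒᵖ →ₗ[R] Module.End R A := (AlgHom.mulLeftRight R A).toLinearMap
  let ψC : C ⊗[R] Cᵐᵒᵖ →ₗ[R] Module.End R C := (AlgHom.mulLeftRight R C).toLinearMap
  have hcomm : ∀ z, (AlgHom.mulLeftRight R (A ⊗[R] C)) (Θ z) =
      homTensorHomEquiv R A C A C (TensorProduct.map ψA ψC z) := by
    intro z
    induction z using TensorProduct.induction_on with
    | zero => simp
    | add x y hx hy => simp only [map_add, hx, hy]
    | tmul x y =>
      induction x using TensorProduct.induction_on with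
      | zero => simp
      | add x x' hx hx' => simp only [TensorProduct.add_tmul, map_add, hx, hx']
      | tmul a a' =>
        induction y using TensorProduct.induction_on with
        | zero => simp
        | add y y' hy hy' => simp only [TensorProduct.tmul_add, map_add, hy, hy']
        | tmul b b' =>
          apply TensorProduct.ext'
          intro p q
          simp [Θ, opT, ψA, ψC, AlgHom.mulLeftRight_apply, homTensorHomEquiv_apply]
  have hmap : Function.Bijective (TensorProduct.map ψA ψC) := by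
    have h1 : ⇑(TensorProduct.map ψA ψC) = ⇑(homTensorHomEquiv R A C A C).symm ∘
        ⇑(AlgHom.mulLeftRight R (A ⊗[R] C)) ∘ ⇑Θ := by
      funext z
      simp only [Function.comp_apply]
      rw [hcomm, LinearEquiv.symm_apply_apply]
    rw [h1]
    exact (LinearEquiv.bijective _).comp (h.bij.comp Θ.bijective)
  have hl : Function.Bijective (ψC.lTensor (A ⊗[R] Aᵐᵒᵖ)) := by
    have e : TensorProduct.map ψA ψC = (ψA.rTensor (Module.End R C)) ∘ₗ
        (ψC.lTensor (A ⊗[R] Aᵐᵒᵖ)) := by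
      apply TensorProduct.ext'
      intro x y
      simp
    have hr : Function.Bijective (ψA.rTensor (Module.End R C)) := by
      let eA : A ⊗[R] Aᵐᵒᵖ ≃ₗ[R] Module.End R A := LinearEquiv.ofBijective ψA IsAzumaya.bij
      have : ⇑(ψA.rTensor (Module.End R C)) = ⇑(LinearEquiv.rTensor (Module.End R C) eA) := by
        funext t
        rfl
      rw [this]
      exact LinearEquiv.bijective _
    rw [e, LinearMap.coe_comp] at hmap
    exact (Function.Bijective.of_comp_iff' hr _).mp hmap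
  haveI : Module.FaithfullyFlat R (A ⊗[R] Aᵐᵒᵖ) := by
    haveI : IsAzumaya R (Module.End R A) := Groth.Agent.S19589.result R A
    haveI : Module.FaithfullyFlat R (Module.End R A) :=
      Groth.Agent.Lib.LeadAzumaya.faithfullyFlat_of_finite_of_faithful
    exact Module.FaithfullyFlat.of_linearEquiv R (Module.End R A)
      (LinearEquiv.ofBijective ψA IsAzumaya.bij)
  have hC : Function.Bijective ψC :=
    (Module.FaithfullyFlat.lTensor_bijective_iff_bijective (R := R) (M := A ⊗[R] Aᵐᵒᵖ) ψC).mp hl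
  exact { bij := hC }

end Cancel

end Groth.Agent.Lib.LeadDC
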