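import Mathlib
import Groth.Agent.Lib.LeadLGA5

set_option autoImplicit false
set_option linter.style.haveILetI false

universe u v w

namespace Groth.Agent.Lib.LeadLGA

open TensorProduct

section Corner

variable {R : Type*} [CommRing R] {Λ : Type*} [Ring Λ] [Algebra R Λ]

/-- the left ideal `Λ ε` -/
def leftIdeal (ε : Λ) : Submodule Λ Λ := LinearMap.range (LinearMap.toSpanSingleton Λ Λ ε)

theorem mem_leftIdeal_iff {ε : Λ} (hε : IsIdempotentElem ε) {x : Λ} :
    x ∈ leftIdeal ε ↔ x * ε = x := by
  constructor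
  · rintro ⟨y, rfl⟩
    simp only [LinearMap.toSpanSingleton_apply, smul_eq_mul]
    rw [mul_assoc, hε.eq]
  · intro h
    exact ⟨x, by simpa [LinearMap.toSpanSingleton_apply] using h⟩

theorem self_mem_leftIdeal (ε : Λ) : ε ∈ leftIdeal ε :=
  ⟨1, by simp [LinearMap.toSpanSingleton_apply]⟩

theorem mul_mem_leftIdeal (ε x : Λ) : x * ε ∈ leftIdeal ε :=
  ⟨x, by simp [LinearMap.toSpanSingleton_apply]⟩

instance leftIdeal_finite (ε : Λ) : Module.Finite Λ (leftIdeal ε) :=
  Module.Finite.range _

theorem leftIdeal_projective {ε : Λ} (hε : IsIdempotentElem ε) :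
    Module.Projective Λ (leftIdeal ε) := by
  refine Module.Projective.of_split (leftIdeal ε).subtype
    ((LinearMap.toSpanSingleton Λ Λ ε).codRestrict (leftIdeal ε) (fun x => ⟨x, rfl⟩)) ?_
  ext x
  have := (mem_leftIdeal_iff hε).mp x.2
  simpa [LinearMap.toSpanSingleton_apply] using this

/-- corner data: an idempotent `ε` of `Λ`, an identification of the corner ring `ε Λ ε` with `A`,
and an `R`-linear identification of `Λ ε` with `X`. -/
structure CornerData (R : Type*) [CommRing R] (Λ : Type*) [Ring Λ] [Algebra R Λ]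
    (A : Type*) [Ring A] [Algebra R A] (X : Type*) [AddCommGroup X] [Module R X] where
  /-- the idempotent -/
  ε : Λ
  hε : IsIdempotentElem ε
  /-- the corner embedding -/
  ρ : A →ₗ[R] Λ
  ρ_one : ρ 1 = ε
  ρ_mul : ∀ a b, ρ (a * b) = ρ a * ρ b
  ρ_inj : Function.Injective ρ
  ρ_surj : ∀ l, ∃ a, ε * l * ε = ρ a
  /-- the inclusion of the model of `Λ ε` -/
  i : X →ₗ[R] Λ
  /-- the projection to the model of `Λ ε` -/
  π : Λ →ₗ[R] X
  πi : ∀ x, π (i x) = x
  iπ : ∀ l, i (π l) = l * ε

namespace CornerData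

variable {A : Type*} [Ring A] [Algebra R A] {X : Type*} [AddCommGroup X] [Module R X]

/-- transport corner data along an algebra isomorphism -/
noncomputable def transport {Λ' : Type*} [Ring Λ'] [Algebra R Λ'] (e : Λ ≃ₐ[R] Λ')
    (D : CornerData R Λ' A X) : CornerData R Λ A X where
  ε := e.symm D.ε
  hε := by
    show e.symm D.ε * e.symm D.ε = e.symm D.ε
    rw [← map_mul, D.hε.eq]
  ρ := e.symm.toLinearMap ∘ₗ D.ρ
  ρ_one := by simp [D.ρ_one]
  ρ_mul a b := by simp [D.ρ_mul]
  ρ_inj := e.symm.injective.comp D.ρ_inj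
  ρ_surj l := by
    obtain ⟨a, ha⟩ := D.ρ_surj (e l)
    refine ⟨a, ?_⟩
    simp only [LinearMap.comp_apply, AlgEquiv.toLinearMap_apply]
    rw [← ha, map_mul, map_mul, AlgEquiv.symm_apply_apply]
  i := e.symm.toLinearMap ∘ₗ D.i
  π := D.π ∘ₗ e.toLinearMap
  πi x := by simp [D.πi]
  iπ l := by
    simp only [LinearMap.comp_apply, AlgEquiv.toLinearMap_apply]
    rw [D.iπ, map_mul, AlgEquiv.symm_apply_apply]

variable (D : CornerData R Λ A X)

theorem ρ_mul_ε (a : A) : D.ρ a * D.ε = D.ρ a := by
  rw [← D.ρ_one, ← D.ρ_mul, mul_one]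

theorem ε_mul_ρ (a : A) : D.ε * D.ρ a = D.ρ a := by
  rw [← D.ρ_one, ← D.ρ_mul, one_mul]

/-- `Λ ε` is `R`-linearly isomorphic to the model `X` -/
noncomputable def rankEquiv : leftIdeal D.ε ≃ₗ[R] X :=
  LinearEquiv.ofLinear (D.π ∘ₗ ((leftIdeal D.ε).subtype.restrictScalars R))
    (D.i.codRestrict ((leftIdeal D.ε).restrictScalars R) (fun x => by
      show D.i x ∈ leftIdeal D.ε
      rw [← D.πi x, D.iπ]
      exact mul_mem_leftIdeal _ _))
    (by
      ext x
      show D.π (D.i x) = x
      exact D.πi x)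
    (by
      ext x
      have := (mem_leftIdeal_iff D.hε).mp x.2
      show D.i (D.π x.1) = x.1
      rw [D.iπ, this])

/-- the endomorphism algebra of `Λ ε` is `Aᵐᵒᵖ` -/
noncomputable def endEquiv : Aᵐᵒᵖ ≃ₐ[R] Module.End Λ (leftIdeal D.ε) :=
  AlgEquiv.ofBijective
    { toFun := fun a =>
        { toFun := fun x => ⟨x.1 * D.ρ a.unop, by
            rw [mem_leftIdeal_iff D.hε, mul_assoc, D.ρ_mul_ε]⟩
          map_add' := fun x y => by
            apply Subtype.ext
            simp [add_mul]
          map_smul' := fun l x => by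
            apply Subtype.ext
            simp [mul_assoc] }
      map_one' := by
        ext x
        have := (mem_leftIdeal_iff D.hε).mp x.2
        simp [D.ρ_one, this]
      map_mul' := fun a b => by
        ext x
        simp [D.ρ_mul, mul_assoc]
      map_zero' := by
        ext x
        simp
      map_add' := fun a b => by
        ext x
        simp [mul_add]
      commutes' := fun r => by
        ext x
        have := (mem_leftIdeal_iff D.hε).mp x.2
        have h1 : D.ρ (algebraMap R A r) = r • D.ε := by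
          rw [Algebra.algebraMap_eq_smul_one, map_smul, D.ρ_one]
        simp [h1, this] }
    (by
      constructor
      · intro a b h
        have h1 := congrArg Subtype.val (LinearMap.congr_fun h ⟨D.ε, self_mem_leftIdeal D.ε⟩)
        simp only [AlgHom.coe_mk, RingHom.coe_mk, MonoidHom.coe_mk, OneHom.coe_mk,
          LinearMap.coe_mk, AddHom.coe_mk] at h1
        rw [D.ε_mul_ρ, D.ε_mul_ρ] at h1
        exact MulOpposite.unop_injective (D.ρ_inj h1)
      · intro T
        set e0 : leftIdeal D.ε := ⟨D.ε, self_mem_leftIdeal D.ε⟩ with he0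
        set c : Λ := (T e0).1 with hc
        have hc1 : c * D.ε = c := (mem_leftIdeal_iff D.hε).mp (T e0).2
        have hc2 : D.ε * c = c := by
          have h1 : D.ε • e0 = e0 := by
            apply Subtype.ext
            show D.ε * D.ε = D.ε
            exact D.hε.eq
          have h2 := congrArg (fun y => (T y).1) h1
          simp only [map_smul] at h2
          exact h2
        obtain ⟨a, ha⟩ := D.ρ_surj c
        rw [hc2, hc1] at ha
        refine ⟨MulOpposite.op a, ?_⟩
        ext x
        have hx : x = x.1 • e0 := by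
          apply Subtype.ext
          show x.1 = x.1 * D.ε
          exact ((mem_leftIdeal_iff D.hε).mp x.2).symm
        have h3 : (T x).1 = x.1 * c := by
          conv_lhs => rw [hx, map_smul]
          rfl
        simp only [AlgHom.coe_mk, RingHom.coe_mk, MonoidHom.coe_mk, OneHom.coe_mk,
          LinearMap.coe_mk, AddHom.coe_mk, MulOpposite.unop_op]
        rw [h3, ha])

end CornerData

end Corner

section Main

variable {R : Type u} [CommRing R]

/-- Two algebras realised as corners of the same Azumaya algebra over an LG ring, with models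
of the same rank, are isomorphic. -/
theorem algEquiv_of_cornerData (hR : LGRing.IsLGRing R) {Λ : Type v} [Ring Λ] [Algebra R Λ]
    [IsAzumaya R Λ] {A : Type*} [Ring A] [Algebra R A] {B : Type*} [Ring B] [Algebra R B]
    {X : Type*} [AddCommGroup X] [Module R X] {Y : Type*} [AddCommGroup Y] [Module R Y]
    (D₁ : CornerData R Λ A X) (D₂ : CornerData R Λ B Y)
    (hrk : ∀ p : PrimeSpectrum R, Module.rankAtStalk X p = Module.rankAtStalk Y p) :
    Nonempty (A ≃ₐ[R] B) := by
  haveI : Module.Projective Λ (leftIdeal D₁.ε) := leftIdeal_projective D₁.hε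
  haveI : Module.Projective Λ (leftIdeal D₂.ε) := leftIdeal_projective D₂.hε
  have hrk' : ∀ p : PrimeSpectrum R, Module.rankAtStalk (leftIdeal D₂.ε) p =
      Module.rankAtStalk (leftIdeal D₁.ε) p := by
    intro p
    rw [congrFun (Module.rankAtStalk_eq_of_equiv D₁.rankEquiv) p,
      congrFun (Module.rankAtStalk_eq_of_equiv D₂.rankEquiv) p, hrk p]
  obtain ⟨f⟩ := nonempty_equiv_of_rank_eq (R := R) (A := Λ) (M := leftIdeal D₁.ε)
    (N := leftIdeal D₂.ε) hR hrk'
  let E : Aᵐᵒᵖ ≃ₐ[R] Bᵐᵒᵖ :=
    D₁.endEquiv.trans ((f.conjAlgEquiv R).symm.trans D₂.endEquiv.symm)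
  exact ⟨AlgEquiv.op.symm E⟩

end Main

end Groth.Agent.Lib.LeadLGA
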