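import Mathlib
import Groth.Agent.Lib.LeadLGA7
import Groth.Agent.Lib.LeadAzumaya

/-!
# Minimal idempotents in finite projective algebras over connected rings
-/

set_option autoImplicit false

namespace Groth.Agent.Lib.LeadDC

open TensorProduct MulOpposite Groth.Agent.Lib.LeadLGA

universe u

section LeftIdeal

variable {R : Type u} [CommRing R] {A : Type u} [Ring A] [Algebra R A]

instance leftIdeal_finite_base [Module.Finite R A] (ε : A) : Module.Finite R (leftIdeal ε) :=
  Module.Finite.trans A _

theorem leftIdeal_projective_base [Module.Projective R A] {ε : A} (hε : IsIdempotentElem ε) :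
    Module.Projective R (leftIdeal ε) := by
  refine Module.Projective.of_split ((leftIdeal ε).subtype.restrictScalars R)
    (((LinearMap.toSpanSingleton A A ε).codRestrict (leftIdeal ε)
      (fun x => ⟨x, rfl⟩)).restrictScalars R) ?_
  ext x
  have := (mem_leftIdeal_iff hε).mp x.2
  simpa [LinearMap.toSpanSingleton_apply] using this

/-- the rank of `A ε` -/
noncomputable def idemRank (R : Type u) [CommRing R] {A : Type u} [Ring A] [Algebra R A]
    (ε : A) (p : PrimeSpectrum R) : ℕ :=
  Module.rankAtStalk (R := R) (leftIdeal ε) p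

/-- decomposition of `A e` along a sub-idempotent -/
noncomputable def leftIdealDecomp {e b : A} (he : IsIdempotentElem e) (hb : IsIdempotentElem b)
    (heb : e * b = b) (hbe : b * e = b) :
    leftIdeal e ≃ₗ[R] leftIdeal b × leftIdeal (e - b) where
  toFun x := (⟨x.1 * b, mul_mem_leftIdeal b x.1⟩, ⟨x.1 * (e - b), mul_mem_leftIdeal (e - b) x.1⟩)
  map_add' x y := by
    ext <;> simp [add_mul]
  map_smul' r x := by
    ext <;> simp
  invFun y := ⟨y.1.1 + y.2.1, by
    have hsub : IsIdempotentElem (e - b) := by
      show (e - b) * (e - b) = e - b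
      rw [mul_sub, sub_mul, sub_mul, he.eq, hb.eq, heb, hbe]
      abel
    rw [mem_leftIdeal_iff he, add_mul]
    have h1 := (mem_leftIdeal_iff hb).mp y.1.2
    have h2 := (mem_leftIdeal_iff hsub).mp y.2.2
    have h3 : y.1.1 * e = y.1.1 := by
      rw [← h1, mul_assoc, hbe]
    have h4 : y.2.1 * e = y.2.1 := by
      rw [← h2, mul_assoc, sub_mul, he.eq, hbe]
    rw [h3, h4]⟩
  left_inv x := by
    apply Subtype.ext
    have := (mem_leftIdeal_iff he).mp x.2
    show x.1 * b + x.1 * (e - b) = x.1
    rw [← mul_add, add_sub_cancel, this]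
  right_inv y := by
    have hsub : IsIdempotentElem (e - b) := by
      show (e - b) * (e - b) = e - b
      rw [mul_sub, sub_mul, sub_mul, he.eq, hb.eq, heb, hbe]
      abel
    have h1 := (mem_leftIdeal_iff hb).mp y.1.2
    have h2 := (mem_leftIdeal_iff hsub).mp y.2.2
    have h5 : y.2.1 * b = 0 := by
      rw [← h2, mul_assoc, sub_mul, heb, hb.eq, sub_self, mul_zero]
    have h6 : y.1.1 * (e - b) = 0 := by
      rw [← h1, mul_assoc, mul_sub, hbe, hb.eq, sub_self, mul_zero]
    ext
    · show (y.1.1 + y.2.1) * b = y.1.1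
      rw [add_mul, h1, h5, add_zero]
    · show (y.1.1 + y.2.1) * (e - b) = y.2.1
      rw [add_mul, h6, h2, zero_add]

end LeftIdeal

section Minimal

variable {R : Type u} [CommRing R] [ConnectedSpace (PrimeSpectrum R)]
  {A : Type u} [Ring A] [Algebra R A] [Module.Finite R A] [Module.Projective R A]

theorem idemRank_const {ε : A} (hε : IsIdempotentElem ε) (p q : PrimeSpectrum R) :
    idemRank R ε p = idemRank R ε q := by
  haveI := leftIdeal_projective_base (R := R) hε
  haveI : Module.FinitePresentation R (leftIdeal ε) :=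
    Module.finitePresentation_of_projective R _
  exact (Module.isLocallyConstant_rankAtStalk (R := R) (M := leftIdeal ε)).apply_eq_of_preconnectedSpace p q

theorem idemRank_eq_zero_iff {ε : A} (hε : IsIdempotentElem ε) (p : PrimeSpectrum R) :
    idemRank R ε p = 0 ↔ ε = 0 := by
  haveI := leftIdeal_projective_base (R := R) hε
  constructor
  · intro h
    have h0 : Module.rankAtStalk (R := R) (leftIdeal ε) = 0 := by
      funext q
      rw [Pi.zero_apply, ← h]
      exact idemRank_const hε q p
    rw [Module.rankAtStalk_eq_zero_iff_subsingleton] at h0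
    have := Subsingleton.elim (⟨ε, self_mem_leftIdeal ε⟩ : leftIdeal ε) 0
    exact congrArg Subtype.val this
  · rintro rfl
    haveI : Subsingleton (leftIdeal (0 : A)) := by
      constructor
      intro x y
      apply Subtype.ext
      have hx := (mem_leftIdeal_iff (IsIdempotentElem.zero)).mp x.2
      have hy := (mem_leftIdeal_iff (IsIdempotentElem.zero)).mp y.2
      rw [← hx, ← hy, mul_zero, mul_zero]
    show Module.rankAtStalk (R := R) (leftIdeal (0 : A)) p = 0
    rw [Module.rankAtStalk_eq_zero_of_subsingleton]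
    rfl

/-- existence of a minimal nonzero idempotent -/
theorem exists_minimal_idempotent (R : Type u) [CommRing R] [ConnectedSpace (PrimeSpectrum R)]
    (A : Type u) [Ring A] [Algebra R A] [Module.Finite R A] [Module.Projective R A]
    [Nontrivial A] :
    ∃ e : A, IsIdempotentElem e ∧ e ≠ 0 ∧
      ∀ b : A, IsIdempotentElem b → e * b = b → b * e = b → b = 0 ∨ b = e := by
  classical
  obtain ⟨p₀⟩ : Nonempty (PrimeSpectrum R) := inferInstance
  let S : Set A := {ε | IsIdempotentElem ε ∧ ε ≠ 0}
  have hS : S.Nonempty := ⟨1, IsIdempotentElem.one, one_ne_zero⟩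
  obtain ⟨e, ⟨he, he0⟩, hmin⟩ :=
    WellFounded.has_min (measure fun ε : A => idemRank R ε p₀).wf S hS
  refine ⟨e, he, he0, fun b hb heb hbe => ?_⟩
  by_cases hb0 : b = 0
  · exact Or.inl hb0
  right
  have hsub : IsIdempotentElem (e - b) := by
    show (e - b) * (e - b) = e - b
    rw [mul_sub, sub_mul, sub_mul, he.eq, hb.eq, heb, hbe]
    abel
  haveI := leftIdeal_projective_base (R := R) he
  haveI := leftIdeal_projective_base (R := R) hb
  haveI := leftIdeal_projective_base (R := R) hsub
  have h1 : idemRank R e p₀ = idemRank R b p₀ + idemRank R (e - b) p₀ := by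
    have h2 := congrFun (Module.rankAtStalk_eq_of_equiv
      (leftIdealDecomp (R := R) he hb heb hbe)) p₀
    rw [Module.rankAtStalk_prod] at h2
    exact h2
  have h3 : ¬ idemRank R b p₀ < idemRank R e p₀ := hmin b ⟨hb, hb0⟩
  have h4 : idemRank R (e - b) p₀ = 0 := by omega
  have h5 := (idemRank_eq_zero_iff hsub p₀).mp h4
  exact (sub_eq_zero.mp h5).symm

end Minimal

end Groth.Agent.Lib.LeadDC
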