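import Mathlib
import Groth.Agent.Lib.LeadDC1
import Groth.Agent.Lib.LeadDC3

/-!
# The centralizer of `A` acting on `A e`
-/

set_option autoImplicit false

namespace Groth.Agent.Lib.LeadDC

open TensorProduct MulOpposite Groth.Agent.Lib.LeadLGA

universe u

section Faithful

variable {R : Type u} [CommRing R]

theorem faithfulSMul_of_rankAtStalk_pos (P : Type u) [AddCommGroup P] [Module R P]
    [Module.Finite R P] [Module.Projective R P]
    (h : ∀ p : PrimeSpectrum R, 0 < Module.rankAtStalk P p) : FaithfulSMul R P := by
  haveI : Module.FaithfullyFlat R P := by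
    rw [Module.FaithfullyFlat.iff_flat_and_ideal_smul_eq_top]
    refine ⟨inferInstance, fun I hI => ?_⟩
    by_contra hne
    obtain ⟨m, hm, hIm⟩ := Ideal.exists_le_maximal I hne
    obtain ⟨r, hr, hr0⟩ := Submodule.exists_sub_one_mem_and_smul_eq_zero_of_fg_of_le_smul I
      (⊤ : Submodule R P) Module.Finite.fg_top (by rw [hI])
    have h1 : (⟨m, hm.isPrime⟩ : PrimeSpectrum R) ∈ Module.support R P :=
      (Module.rankAtStalk_pos_iff_mem_support _).mp (h _)
    rw [Module.mem_support_iff_of_finite] at h1
    have hrm : r ∈ m := h1 (by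
      rw [Module.mem_annihilator]
      intro x
      exact hr0 x Submodule.mem_top)
    have h2 : (1 : R) ∈ m := by
      have := m.sub_mem hrm (hIm hr)
      simpa using this
    exact hm.ne_top (m.eq_top_iff_one.mpr h2)
  exact Groth.Agent.Lib.LeadAzumaya.faithfulSMul_of_faithfullyFlat

end Faithful

section Corner

variable {R : Type u} [CommRing R] {A : Type u} [Ring A] [Algebra R A]

/-- the representation of `A` on `A e` -/
noncomputable abbrev rep (R : Type u) [CommRing R] {A : Type u} [Ring A] [Algebra R A] (e : A) :
    A →ₐ[R] Module.End R (leftIdeal e) :=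
  Algebra.lsmul R R (leftIdeal e)

/-- the base point `e ∈ A e` -/
def e0 (e : A) : leftIdeal e := ⟨e, self_mem_leftIdeal e⟩

theorem cent_apply_smul (e : A) (c : cent (rep R e)) (a : A) (x : leftIdeal e) :
    c.1 (a • x) = a • c.1 x := by
  have := LinearMap.congr_fun (cent_comm (rep R e) a c) x
  simpa [Module.End.mul_apply, Algebra.lsmul_coe] using this.symm

/-- evaluation at `e` -/
noncomputable def iota (R : Type u) [CommRing R] {A : Type u} [Ring A] [Algebra R A] (e : A) :
    cent (rep R e) →ₗ[R] A :=
  ((leftIdeal e).subtype.restrictScalars R) ∘ₗ (LinearMap.applyₗ (e0 e)) ∘ₗ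
    (Subalgebra.val (cent (rep R e))).toLinearMap

theorem iota_apply (e : A) (c : cent (rep R e)) : iota R e c = (c.1 (e0 e)).1 := rfl

variable {e : A} (he : IsIdempotentElem e)

include he in
theorem iota_mul_e (c : cent (rep R e)) : iota R e c * e = iota R e c :=
  (mem_leftIdeal_iff he).mp (c.1 (e0 e)).2

include he in
theorem e_mul_iota (c : cent (rep R e)) : e * iota R e c = iota R e c := by
  have h1 : e • e0 e = e0 e := Subtype.ext he.eq
  have h2 := cent_apply_smul e c e (e0 e)
  rw [h1] at h2
  have h3 := congrArg Subtype.val h2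
  exact h3.symm

include he in
theorem cent_apply_val (c : cent (rep R e)) (x : leftIdeal e) :
    (c.1 x).1 = x.1 * iota R e c := by
  have h1 : x = x.1 • e0 e := by
    apply Subtype.ext
    exact ((mem_leftIdeal_iff he).mp x.2).symm
  conv_lhs => rw [h1, cent_apply_smul]
  rfl

include he in
theorem iota_idem (c : cent (rep R e)) (hc : IsIdempotentElem c) :
    IsIdempotentElem (iota R e c) := by
  show iota R e c * iota R e c = iota R e c
  have h1 : (c.1 (c.1 (e0 e))).1 = iota R e c * iota R e c :=
    cent_apply_val he c (c.1 (e0 e))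
  rw [← h1]
  have h2 : c.1 (c.1 (e0 e)) = c.1 (e0 e) := by
    have := congrArg Subtype.val hc.eq
    have h3 := LinearMap.congr_fun this (e0 e)
    simpa [Module.End.mul_apply] using h3
  show (c.1 (c.1 (e0 e))).1 = (c.1 (e0 e)).1
  rw [h2]

/-- right multiplication by `e y e` on `A e` -/
noncomputable def piAux (R : Type u) [CommRing R] {A : Type u} [Ring A] [Algebra R A] (e : A) :
    A →ₗ[R] Module.End R (leftIdeal e) :=
  LinearMap.mk₂ R (fun y x => (⟨x.1 * (e * y * e), by
      rw [← mul_assoc, ← mul_assoc]
      exact mul_mem_leftIdeal e _⟩ : leftIdeal e))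
    (fun y y' x => by
      apply Subtype.ext
      simp [mul_add, add_mul])
    (fun r y x => by
      apply Subtype.ext
      simp)
    (fun y x x' => by
      apply Subtype.ext
      simp [add_mul])
    (fun r y x => by
      apply Subtype.ext
      simp)

theorem piAux_apply_val (e y : A) (x : leftIdeal e) : (piAux R e y x).1 = x.1 * (e * y * e) := rfl

theorem piAux_mem (e y : A) : piAux R e y ∈ cent (rep R e) := by
  rw [Subalgebra.mem_centralizer_iff]
  rintro _ ⟨a, rfl⟩
  ext x
  show a * (piAux R e y x).1 = (piAux R e y (a • x)).1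
  rw [piAux_apply_val, piAux_apply_val]
  show a * (x.1 * (e * y * e)) = (a * x.1) * (e * y * e)
  simp only [mul_assoc]

/-- the projection `A → C` -/
noncomputable def proj (R : Type u) [CommRing R] {A : Type u} [Ring A] [Algebra R A] (e : A) :
    A →ₗ[R] cent (rep R e) :=
  LinearMap.codRestrict (Subalgebra.toSubmodule (cent (rep R e))) (piAux R e) (piAux_mem e)

include he in
theorem proj_iota (c : cent (rep R e)) : proj R e (iota R e c) = c := by
  apply Subtype.ext
  ext x
  show x.1 * (e * iota R e c * e) = (c.1 x).1
  rw [e_mul_iota he, iota_mul_e he, cent_apply_val he]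

include he in
theorem proj_e : proj R e e = 1 := by
  apply Subtype.ext
  ext x
  show x.1 * (e * e * e) = x.1
  rw [he.eq, he.eq]
  exact (mem_leftIdeal_iff he).mp x.2

include he in
theorem cent_finite [Module.Finite R A] : Module.Finite R (cent (rep R e)) :=
  Module.Finite.of_surjective (proj R e) (fun c => ⟨iota R e c, proj_iota he c⟩)

include he in
theorem cent_projective [Module.Projective R A] : Module.Projective R (cent (rep R e)) :=
  Module.Projective.of_split (iota R e) (proj R e) (by
    ext c
    simp [proj_iota he c])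

include he in
theorem cent_idempotent_trivial
    (hmin : ∀ b : A, IsIdempotentElem b → e * b = b → b * e = b → b = 0 ∨ b = e)
    (c : cent (rep R e)) (hc : IsIdempotentElem c) : c = 0 ∨ c = 1 := by
  rcases hmin (iota R e c) (iota_idem he c hc) (e_mul_iota he c) (iota_mul_e he c) with h | h
  · left
    rw [← proj_iota he c, h, map_zero]
  · right
    rw [← proj_iota he c, h, proj_e he]

end Corner

end Groth.Agent.Lib.LeadDC
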