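import Groth.Agent.Lib.LeadMS6

/-! Different exponent of a totally ramified place via the derivative of the minimal polynomial
of a local parameter. -/

namespace Groth.Agent.Lib.LeadMS

open FunFld WithZero LaurentSeries Polynomial

section LS2
variable {F : Type*} [Field F]

lemma val_D_le_one {f : F⸨X⸩} (hf : Valued.v f ≤ 1) : Valued.v (LocRes.D F f) ≤ 1 := by
  have h2 : Valued.v f ≤ exp (-(0 : ℤ)) := by simpa using hf
  have h3 : Valued.v (LocRes.D F f) ≤ exp (-(0 : ℤ)) := by
    rw [LaurentSeries.valuation_le_iff_coeff_lt_eq_zero]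
    intro m hm
    rw [LocRes.D_coeff]
    rcases (by omega : m + 1 < 0 ∨ m + 1 = 0) with h | h
    · rw [(LaurentSeries.valuation_le_iff_coeff_lt_eq_zero F).mp h2 _ h, smul_zero]
    · rw [h, zero_smul]
  simpa using h3

end LS2

universe u v
variable {k : Type u} {K : Type v} [Field k] [Field K] [Algebra k K]
  {F : Type*} [Field F] [Algebra k F]
  {K' : Type*} [Field K'] [Algebra K K'] [Algebra k K'] [IsScalarTower k K K']
  {F' : Type*} [Field F'] [Algebra k F']

/-- the different exponent computed with a local parameter `t` below. -/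
theorem diffExp_eq_unif (hK : IsFunctionField k K) (hg : IsGeometric k K)
    (P : Place k K) (Q : Place k K') (e : ℕ) (he : IsOverWith Q P e)
    (φ : K →ₐ[k] F⸨X⸩) (hφ : LocRes.IsExpansionAt P.1 φ)
    (ψ : K' →ₐ[k] F'⸨X⸩) (hψ : LocRes.IsExpansionAt Q.1 ψ)
    (x : K) (hx : LocRes.vDiff φ 1 x ≠ 0) (hx' : LocRes.vDiff ψ 1 (algebraMap K K' x) ≠ 0)
    {t : K} (ht : P.1 t = exp (-1 : ℤ)) :
    Valued.v (LocRes.D F (φ t)) = 1 ∧ KaehlerDifferential.D k K t ≠ 0 ∧
    Valued.v (LocRes.D F' (ψ (algebraMap K K' t))) ≠ 0 ∧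
    LocRes.diffExp φ ψ e x = - log (Valued.v (LocRes.D F' (ψ (algebraMap K K' t)))) := by
  have hφt : Valued.v (φ t) = exp (-(1 : ℤ)) := by rw [hφ.1, ht]
  have hDφt : Valued.v (LocRes.D F (φ t)) = 1 := by
    have := val_D_of_ne hφt (by simp)
    simpa using this
  have hxv := hx
  have hxv' := hx'
  rw [vDiff_one] at hxv hxv'
  have hx0 : LocRes.D F (φ x) ≠ 0 := fun h => hxv (by rw [h, map_zero])
  have ht0 : LocRes.D F (φ t) ≠ 0 := fun h => by rw [h, map_zero] at hDφt; exact zero_ne_one hDφt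
  obtain ⟨c, hc0, hc⟩ := exists_ratio hK hg φ hx0 ht0
  have hψt0 : Valued.v (LocRes.D F' (ψ (algebraMap K K' t))) ≠ 0 := by
    rw [D_expand' ψ hc, map_mul]
    refine mul_ne_zero ?_ hxv'
    rw [hψ.1, he]
    exact pow_ne_zero _ ((Valuation.ne_zero_iff _).mpr hc0)
  have heq := diffExp_eq hK hg P Q e he φ hφ ψ hψ x t hx hx'
    (by rw [vDiff_one, hDφt]; exact one_ne_zero)
  have hdt : LocRes.diffExp φ ψ e t =
      - log (Valued.v (LocRes.D F' (ψ (algebraMap K K' t)))) := by
    unfold LocRes.diffExp LocRes.ordDiff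
    rw [vDiff_one, vDiff_one, hDφt, log_one]; ring
  have hDt : KaehlerDifferential.D k K t ≠ 0 := by
    intro h0
    apply ht0
    have := D_expand φ (x := t) (x' := t) (c := 0) (by rw [h0, smul_zero])
    rw [this, map_zero, zero_mul]
  exact ⟨hDφt, hDt, hψt0, heq.trans hdt⟩

/-- distinct values: powers of a local parameter above with coefficients from below. -/
theorem distinct_vals {P : Place k K} {Q : Place k K'} {e : ℕ} (he : IsOverWith Q P e)
    {s : K'} (hs : Q.1 s = exp (-1 : ℤ)) {m : ℕ} (hm : m ≤ e) (c : ℕ → K)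
    (hc : ∃ i < m, c i ≠ 0) :
    ∃ i₀ < m, c i₀ ≠ 0 ∧
      Q.1 (∑ i ∈ Finset.range m, algebraMap K K' (c i) * s ^ i) =
        Q.1 (algebraMap K K' (c i₀) * s ^ i₀) ∧
      ∀ j < m, j ≠ i₀ → Q.1 (algebraMap K K' (c j) * s ^ j) < Q.1 (algebraMap K K' (c i₀) * s ^ i₀) := by
  classical
  have hu : ∀ i, c i ≠ 0 → Q.1 (algebraMap K K' (c i) * s ^ i) =
      exp (-((e : ℤ) * P.ord (c i) + i)) := by
    intro i hi
    rw [map_mul, map_pow, he, hs, Lib.LeadFF.val_eq_exp_neg_ord P hi, Lib.LeadFF.zm0_exp_pow,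
      Lib.LeadFF.zm0_exp_pow, ← exp_add]
    congr 1; ring
  let S := (Finset.range m).filter (fun i => c i ≠ 0)
  have hS : S.Nonempty := by
    obtain ⟨i, hi, hci⟩ := hc
    exact ⟨i, Finset.mem_filter.mpr ⟨Finset.mem_range.mpr hi, hci⟩⟩
  obtain ⟨i₀, hi₀S, hmax⟩ := Finset.exists_max_image S
    (fun i => Q.1 (algebraMap K K' (c i) * s ^ i)) hS
  obtain ⟨hi₀m, hci₀⟩ := Finset.mem_filter.mp hi₀S
  rw [Finset.mem_range] at hi₀m
  have hlt : ∀ j < m, j ≠ i₀ →
      Q.1 (algebraMap K K' (c j) * s ^ j) < Q.1 (algebraMap K K' (c i₀) * s ^ i₀) := by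
    intro j hj hne
    by_cases hcj : c j = 0
    · rw [hcj, map_zero, zero_mul, map_zero, hu i₀ hci₀]
      exact exp_pos
    · have hle := hmax j (Finset.mem_filter.mpr ⟨Finset.mem_range.mpr hj, hcj⟩)
      refine lt_of_le_of_ne hle ?_
      rw [hu j hcj, hu i₀ hci₀]
      intro heq
      rw [exp_inj] at heq
      -- e * (ord cj - ord ci0) = i0 - j
      have h1 : (e : ℤ) * (P.ord (c j) - P.ord (c i₀)) = (i₀ : ℤ) - j := by linarith
      have hd : (e : ℤ) ∣ (i₀ : ℤ) - j := ⟨_, h1.symm⟩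
      have habs : |(i₀ : ℤ) - j| < e := by
        rw [abs_lt]; constructor <;> omega
      have := Int.eq_zero_of_abs_lt_dvd hd habs
      omega
  refine ⟨i₀, hi₀m, hci₀, ?_, hlt⟩
  apply Valuation.map_sum_eq_of_lt _ (Finset.mem_range.mpr hi₀m)
  intro i hi
  rw [Finset.mem_sdiff, Finset.mem_range, Finset.mem_singleton] at hi
  exact hlt i hi.1 hi.2

/-- Eisenstein shape of the minimal polynomial of a local parameter at a totally ramified place. -/
theorem eisenstein_of_totally_ramified [FiniteDimensional K K']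
    {P : Place k K} {Q : Place k K'} {e : ℕ} (he : IsOverWith Q P e)
    (hn : e = Module.finrank K K') {s : K'} (hs : Q.1 s = exp (-1 : ℤ)) :
    (minpoly K s).natDegree = e ∧ P.1 ((minpoly K s).coeff 0) = exp (-1 : ℤ) ∧
      ∀ i < e, P.1 ((minpoly K s).coeff i) < 1 := by
  classical
  have he0 := Lib.LeadFF.isOverWith_pos he
  have hint : IsIntegral K s := Algebra.IsIntegral.isIntegral s
  set f := minpoly K s with hf
  have hmonic : f.Monic := minpoly.monic hint
  have hs0 : s ≠ 0 := by rintro rfl; rw [map_zero] at hs; exact exp_ne_zero hs.symm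
  have hdeg : f.natDegree = e := by
    apply le_antisymm
    · rw [hn]; exact minpoly.natDegree_le s
    · by_contra hlt
      push Not at hlt
      have h0 : aeval s f = 0 := minpoly.aeval K s
      rw [aeval_eq_sum_range] at h0
      obtain ⟨i₀, hi₀, hci₀, hval, -⟩ := distinct_vals he hs (m := f.natDegree + 1) (by omega)
        (fun i => f.coeff i) ⟨f.natDegree, by omega, by
          rw [Polynomial.coeff_natDegree, hmonic.leadingCoeff]; exact one_ne_zero⟩
      simp only [Algebra.smul_def] at h0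
      rw [h0, map_zero] at hval
      have : Q.1 (algebraMap K K' (f.coeff i₀) * s ^ i₀) ≠ 0 := by
        rw [Valuation.ne_zero_iff]
        exact mul_ne_zero ((map_ne_zero_iff _ (algebraMap K K').injective).mpr hci₀)
          (pow_ne_zero _ hs0)
      exact this hval.symm
  have h0 : aeval s f = 0 := minpoly.aeval K s
  rw [aeval_eq_sum_range, hdeg, Finset.sum_range_succ] at h0
  simp only [Algebra.smul_def] at h0
  have hlead : f.coeff e = 1 := by rw [← hdeg, Polynomial.coeff_natDegree, hmonic.leadingCoeff]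
  rw [hlead, map_one, one_mul] at h0
  have hsum : ∑ i ∈ Finset.range e, algebraMap K K' (f.coeff i) * s ^ i = - s ^ e :=
    eq_neg_of_add_eq_zero_left h0
  have hvs : Q.1 (∑ i ∈ Finset.range e, algebraMap K K' (f.coeff i) * s ^ i) = exp (-(e : ℤ)) := by
    rw [hsum, Valuation.map_neg, map_pow, hs, Lib.LeadFF.zm0_exp_pow]; congr 1; ring
  have hex : ∃ i < e, f.coeff i ≠ 0 := by
    by_contra hcon
    push Not at hcon
    have : ∑ i ∈ Finset.range e, algebraMap K K' (f.coeff i) * s ^ i = 0 :=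
      Finset.sum_eq_zero (fun i hi => by rw [hcon i (Finset.mem_range.mp hi), map_zero, zero_mul])
    rw [this, map_zero] at hvs
    exact exp_ne_zero hvs.symm
  obtain ⟨i₀, hi₀, hci₀, hval, hlt⟩ := distinct_vals he hs (m := e) le_rfl
    (fun i => f.coeff i) hex
  have hu : ∀ i, f.coeff i ≠ 0 → Q.1 (algebraMap K K' (f.coeff i) * s ^ i) =
      exp (-((e : ℤ) * P.ord (f.coeff i) + i)) := by
    intro i hi
    rw [map_mul, map_pow, he, hs, Lib.LeadFF.val_eq_exp_neg_ord P hi, Lib.LeadFF.zm0_exp_pow,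
      Lib.LeadFF.zm0_exp_pow, ← exp_add]
    congr 1; ring
  rw [hvs, hu i₀ hci₀, exp_inj] at hval
  have he0' : (0 : ℤ) < e := by exact_mod_cast he0
  have hi₀' : (i₀ : ℤ) < e := by exact_mod_cast hi₀
  have hi₀nn : (0 : ℤ) ≤ i₀ := by positivity
  have hord : P.ord (f.coeff i₀) = 1 ∧ i₀ = 0 := by
    have h1 : (e : ℤ) * P.ord (f.coeff i₀) + i₀ = e := by linarith
    rcases lt_trichotomy (P.ord (f.coeff i₀)) 1 with h | h | h
    · exfalso
      have : P.ord (f.coeff i₀) ≤ 0 := by omega
      nlinarith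
    · refine ⟨h, ?_⟩
      rw [h] at h1
      have : (i₀ : ℤ) = 0 := by linarith
      exact_mod_cast this
    · exfalso
      have : 2 ≤ P.ord (f.coeff i₀) := by omega
      nlinarith
  obtain ⟨hord1, rfl⟩ := hord
  refine ⟨hdeg, ?_, ?_⟩
  · rw [Lib.LeadFF.val_eq_exp_neg_ord P hci₀, hord1]
  · intro j hj
    by_cases hj0 : j = 0
    · subst hj0
      rw [Lib.LeadFF.val_eq_exp_neg_ord P hci₀, hord1, ← exp_zero, exp_lt_exp]; norm_num
    · by_cases hcj : f.coeff j = 0
      · rw [hcj, map_zero]; exact zero_lt_one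
      · have h2 := hlt j hj hj0
        rw [hu j hcj, hu 0 hci₀, exp_lt_exp, hord1] at h2
        have hj' : (j : ℤ) < e := by exact_mod_cast hj
        have hpos : 0 < P.ord (f.coeff j) := by
          by_contra hle
          push Not at hle
          nlinarith
        rw [Lib.LeadFF.val_eq_exp_neg_ord P hcj, ← exp_zero, exp_lt_exp]
        omega

/-- derivative of a polynomial expression through an expansion. -/
theorem deriv_aeval_formula (ψ : K' →ₐ[k] F'⸨X⸩) (s : K') (g : K[X]) :
    LocRes.D F' (ψ (aeval s g)) = ψ (aeval s (derivative g)) * LocRes.D F' (ψ s) +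
      g.sum (fun i a => LocRes.D F' (ψ (algebraMap K K' a)) * ψ s ^ i) := by
  induction g using Polynomial.induction_on' with
  | add p q hp hq =>
    rw [map_add, map_add, map_add, derivative_add, map_add, map_add, hp, hq,
      Polynomial.sum_add_index]
    · ring
    · intro i; simp
    · intro i a b; simp [add_mul]
  | monomial n a =>
    rw [Polynomial.sum_monomial_index _ _ (by simp), derivative_monomial, aeval_monomial,
      aeval_monomial, map_mul, map_pow, Derivation.leibniz, Derivation.leibniz_pow]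
    simp only [map_mul, map_pow, map_natCast, smul_eq_mul, nsmul_eq_mul]
    ring

theorem ord_deriv_minpoly_eq (hK : IsFunctionField k K) (hg : IsGeometric k K)
    [FiniteDimensional K K']
    (P : Place k K) (Q : Place k K') (e : ℕ) (he : IsOverWith Q P e)
    (φ : K →ₐ[k] F⸨X⸩) (hφ : LocRes.IsExpansionAt P.1 φ)
    (ψ : K' →ₐ[k] F'⸨X⸩) (hψ : LocRes.IsExpansionAt Q.1 ψ)
    (x : K) (hx : LocRes.vDiff φ 1 x ≠ 0) (hx' : LocRes.vDiff ψ 1 (algebraMap K K' x) ≠ 0)
    (hn : e = Module.finrank K K') (s : K') (hs : Q.1 s = exp (-1 : ℤ)) :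
    Q.ord (aeval s (derivative (minpoly K s))) = LocRes.diffExp φ ψ e x := by
  classical
  have he0 := Lib.LeadFF.isOverWith_pos he
  obtain ⟨t, ht⟩ := hφ.2.2
  obtain ⟨hDφt, hDt, hψt0, hdiff⟩ := diffExp_eq_unif hK hg P Q e he φ hφ ψ hψ x hx hx' ht
  obtain ⟨hdeg, hc0, hci⟩ := eisenstein_of_totally_ramified he hn hs
  set f := minpoly K s with hf
  have hΩ := finrank_kaehler hK hg
  -- ratios da/dt
  have hrat : ∀ a : K, ∃ c : K, c • KaehlerDifferential.D k K t = KaehlerDifferential.D k K a :=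
    fun a => (finrank_eq_one_iff_of_nonzero' _ hDt).mp hΩ _
  choose cf hcf using hrat
  have hcfφ : ∀ a, LocRes.D F (φ a) = φ (cf a) * LocRes.D F (φ t) := fun a =>
    D_expand φ (hcf a).symm
  have hcfψ : ∀ a, LocRes.D F' (ψ (algebraMap K K' a)) =
      ψ (algebraMap K K' (cf a)) * LocRes.D F' (ψ (algebraMap K K' t)) := fun a =>
    D_expand' ψ (hcf a).symm
  have hPcf : ∀ a, P.1 (cf a) = Valued.v (LocRes.D F (φ a)) := by
    intro a
    rw [hcfφ a, map_mul, hDφt, mul_one, hφ.1]
  have hPcf_le : ∀ a, P.1 a ≤ 1 → P.1 (cf a) ≤ 1 := by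
    intro a ha
    rw [hPcf]
    exact val_D_le_one (by rw [hφ.1]; exact ha)
  have hPcf0 : P.1 (cf (f.coeff 0)) = 1 := by
    rw [hPcf]
    have := val_D_of_ne (F := F) (f := φ (f.coeff 0)) (n := 1) (by rw [hφ.1, hc0]) (by simp)
    simpa using this
  -- the formula
  have hform := deriv_aeval_formula ψ s f
  rw [minpoly.aeval K s, map_zero, map_zero] at hform
  have hsum : f.sum (fun i a => LocRes.D F' (ψ (algebraMap K K' a)) * ψ s ^ i) =
      LocRes.D F' (ψ (algebraMap K K' t)) *
        ψ (∑ i ∈ Finset.range e, algebraMap K K' (cf (f.coeff i)) * s ^ i) := by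
    rw [Polynomial.sum_over_range f (by intro n; simp), hdeg, Finset.sum_range_succ]
    have hlead : f.coeff e = 1 := by
      rw [← hdeg, Polynomial.coeff_natDegree, (minpoly.monic (Algebra.IsIntegral.isIntegral s)).leadingCoeff]
    rw [hlead, map_one, map_one, Derivation.map_one_eq_zero, zero_mul, add_zero, map_sum,
      Finset.mul_sum]
    apply Finset.sum_congr rfl
    intro i _
    rw [hcfψ, map_mul, map_pow]; ring
  rw [hsum] at hform
  set w := ∑ i ∈ Finset.range e, algebraMap K K' (cf (f.coeff i)) * s ^ i with hw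
  have hQw : Q.1 w = 1 := by
    have h1 : Q.1 w = Q.1 (algebraMap K K' (cf (f.coeff 0)) * s ^ 0) := by
      apply Valuation.map_sum_eq_of_lt _ (Finset.mem_range.mpr he0)
      intro i hi
      rw [Finset.mem_sdiff, Finset.mem_range, Finset.mem_singleton] at hi
      rw [pow_zero, mul_one, he, hPcf0, one_pow, map_mul, map_pow, he, hs]
      have h2 : P.1 (cf (f.coeff i)) ^ e ≤ 1 :=
        pow_le_one₀ zero_le' (hPcf_le _ (hci i hi.1).le)
      have h3 : (exp (-1 : ℤ) : WithZero (Multiplicative ℤ)) ^ i < 1 := by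
        rw [Lib.LeadFF.zm0_exp_pow, ← exp_zero, exp_lt_exp]
        have : 0 < i := Nat.pos_of_ne_zero hi.2
        have : (0 : ℤ) < i := by exact_mod_cast this
        linarith
      calc _ ≤ 1 * (exp (-1 : ℤ) : WithZero (Multiplicative ℤ)) ^ i := mul_le_mul_left h2 _
        _ < 1 := by rw [one_mul]; exact h3
    rw [h1, pow_zero, mul_one, he, hPcf0, one_pow]
  -- valuations
  have hvs : Valued.v (LocRes.D F' (ψ s)) = 1 := by
    have := val_D_of_ne (F := F') (f := ψ s) (n := 1) (by rw [hψ.1, hs]) (by simp)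
    simpa using this
  have hval : Q.1 (aeval s (derivative f)) = Valued.v (LocRes.D F' (ψ (algebraMap K K' t))) := by
    have h1 : ψ (aeval s (derivative f)) * LocRes.D F' (ψ s) =
        - (LocRes.D F' (ψ (algebraMap K K' t)) * ψ w) := eq_neg_of_add_eq_zero_left hform.symm
    have h2 := congrArg Valued.v h1
    rw [map_mul, Valuation.map_neg, map_mul, hvs, mul_one, hψ.1, hψ.1, hQw, mul_one] at h2
    exact h2
  rw [hdiff]
  unfold Place.ord
  rw [hval]

end Groth.Agent.Lib.LeadMS
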