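import Groth.Agent.Lib.LeadFF40

/-! Zeros of `y` in a hyperelliptic function field. -/

namespace Groth.Agent.Lib.LeadFF

open FunFld WithZero Polynomial

section RatPlaces

variable {k : Type*} [Field k]

lemma ord_pow' {K : Type*} [Field K] [Algebra k K] (P : Place k K) (x : K) (n : ℕ) :
    P.ord (x ^ n) = n * P.ord x := by
  unfold Place.ord
  rw [map_pow]
  by_cases hx : P.1 x = 0
  · rw [hx]
    rcases Nat.eq_zero_or_pos n with rfl | hn
    · simp
    · rw [zero_pow hn.ne']; simp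
  · rw [WithZero.log_pow]; simp

/-- a polynomial with a zero at a finite place has an irreducible factor vanishing there. -/
lemma exists_irreducible_factor (P₀ : Place k (RatFunc k))
    (hX : P₀.1 (RatFunc.X : RatFunc k) ≤ 1) (a : k[X]) (ha : a ≠ 0)
    (hlt : P₀.1 (algebraMap k[X] (RatFunc k) a) < 1) :
    ∃ p : k[X], Irreducible p ∧ p ∣ a ∧ P₀.1 (algebraMap k[X] (RatFunc k) p) < 1 := by
  have hle : ∀ b : k[X], P₀.1 (algebraMap k[X] (RatFunc k) b) ≤ 1 := by
    intro b
    rw [← RatFunc.aeval_X_left_eq_algebraMap]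
    exact val_aeval_le_one (place_trivOn P₀) hX b
  revert ha hlt
  refine UniqueFactorizationMonoid.induction_on_prime a ?_ ?_ ?_
  · intro h; exact absurd rfl h
  · intro u hu _ hlt
    exfalso
    obtain ⟨c, hc, rfl⟩ := Polynomial.isUnit_iff.mp hu
    have : P₀.1 (algebraMap k[X] (RatFunc k) (C c)) = 1 := by
      have h1 : algebraMap k[X] (RatFunc k) (C c) = algebraMap k (RatFunc k) c := by
        rw [IsScalarTower.algebraMap_apply k k[X] (RatFunc k)]; rfl
      rw [h1]
      exact place_trivOn P₀ c hc.ne_zero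
    rw [this] at hlt
    exact lt_irrefl _ hlt
  · intro b p hb hp ih _ hlt
    rw [map_mul, map_mul] at hlt
    by_cases hpl : P₀.1 (algebraMap k[X] (RatFunc k) p) < 1
    · exact ⟨p, hp.irreducible, dvd_mul_right _ _, hpl⟩
    · have hp1 : P₀.1 (algebraMap k[X] (RatFunc k) p) = 1 :=
        le_antisymm (hle p) (not_lt.mp hpl)
      rw [hp1, one_mul] at hlt
      obtain ⟨q, hq, hqb, hql⟩ := ih hb hlt
      exact ⟨q, hq, dvd_mul_of_dvd_right hqb _, hql⟩

end RatPlaces

section Hyperelliptic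

variable {k K : Type*} [Field k] [Field K] [Algebra k K] [Algebra (RatFunc k) K]
  [IsScalarTower k (RatFunc k) K]

theorem hyperelliptic_ord_y (hdeg : Module.finrank (RatFunc k) K = 2) (y : K) (f : k[X])
    (hf : Squarefree f) (hd : 1 ≤ f.natDegree)
    (heq : y ^ 2 = algebraMap (RatFunc k) K (algebraMap k[X] (RatFunc k) f)) (P : Place k K) :
    (0 < P.ord y → P.ord y = 1) ∧
    (0 < P.ord y ↔ ∃ P₀ : Place k (RatFunc k), IsOver P P₀ ∧ 0 ≤ P₀.ord (RatFunc.X : RatFunc k) ∧
      0 < P₀.ord (algebraMap k[X] (RatFunc k) f)) := by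
  classical
  haveI : FiniteDimensional (RatFunc k) K :=
    Module.finite_of_finrank_pos (by rw [hdeg]; norm_num)
  have hK₀ : IsFunctionField k (RatFunc k) := isFunctionField_ratFunc
  have hf0 : f ≠ 0 := by rintro rfl; simp at hd
  have hfr : algebraMap k[X] (RatFunc k) f ≠ 0 := by
    rw [Ne, map_eq_zero_iff _ (IsFractionRing.injective k[X] (RatFunc k))]; exact hf0
  have hord : ∀ (P₀ : Place k (RatFunc k)) (e : ℕ), IsOverWith P P₀ e →
      2 * P.ord y = e * P₀.ord (algebraMap k[X] (RatFunc k) f) := by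
    intro P₀ e he
    rw [← ord_algebraMap_of_isOverWith he, ← heq, ord_pow']; norm_num
  have main : ∀ (P₀ : Place k (RatFunc k)) (e : ℕ), IsOverWith P P₀ e → 0 < P.ord y →
      P.ord y = 1 ∧ 0 ≤ P₀.ord (RatFunc.X : RatFunc k) ∧
        0 < P₀.ord (algebraMap k[X] (RatFunc k) f) := by
    intro P₀ e he hpos
    have he0 := isOverWith_pos he
    have h1 := hord P₀ e he
    have hfpos : 0 < P₀.ord (algebraMap k[X] (RatFunc k) f) := by
      by_contra hle
      rw [not_lt] at hle
      have : (e : ℤ) * P₀.ord (algebraMap k[X] (RatFunc k) f) ≤ 0 :=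
        mul_nonpos_of_nonneg_of_nonpos (by positivity) hle
      omega
    have hflt : P₀.1 (algebraMap k[X] (RatFunc k) f) < 1 := by
      rw [val_eq_exp_neg_ord P₀ hfr, ← exp_zero, exp_lt_exp]; omega
    have hX : P₀.1 (RatFunc.X : RatFunc k) ≤ 1 := by
      by_contra hgt
      rw [not_le] at hgt
      have := one_le_val_poly_of_pole (place_trivOn P₀) hgt hf0
      rw [RatFunc.aeval_X_left_eq_algebraMap] at this
      exact absurd hflt (not_lt.mpr this)
    obtain ⟨p, hp, hpf, hpl⟩ := exists_irreducible_factor P₀ hX f hf0 hflt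
    have hram := (hyperelliptic_ramified hdeg y f hf heq p hp hpf P₀ hpl).2 P ⟨e, he⟩
    have he2 : e = 2 := (isOverWith_unique he hram.1).2
    have hvf : P₀.1 (algebraMap k[X] (RatFunc k) f) = exp (-1 : ℤ) := by
      obtain ⟨f₁, rfl⟩ := hpf
      have hnd : ¬ p ∣ f₁ := by
        intro hd'
        have : p * p ∣ p * f₁ := mul_dvd_mul_left p hd'
        exact hp.not_isUnit (hf p this)
      rw [map_mul, map_mul, val_irreducible P₀ hp hpl, val_poly_eq_one_of_not_dvd P₀ hp hpl hnd,
        mul_one]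
    have hof : P₀.ord (algebraMap k[X] (RatFunc k) f) = 1 := by
      unfold Place.ord; rw [hvf, log_exp]; norm_num
    refine ⟨?_, ?_, hfpos⟩
    · rw [he2, hof] at h1; push_cast at h1; omega
    · have hX0 : (RatFunc.X : RatFunc k) ≠ 0 := RatFunc.X_ne_zero
      rw [val_eq_exp_neg_ord P₀ hX0, ← exp_zero, exp_le_exp] at hX
      omega
  obtain ⟨P₀, e, he0, he⟩ := exists_below hK₀ P
  refine ⟨fun hpos => (main P₀ e he hpos).1, ⟨fun hpos => ⟨P₀, ⟨e, he⟩, (main P₀ e he hpos).2⟩, ?_⟩⟩
  rintro ⟨P₀', ⟨e', he'⟩, -, hfpos⟩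
  have h1 := hord P₀' e' he'
  have he0' := isOverWith_pos he'
  have : 0 < (e' : ℤ) * P₀'.ord (algebraMap k[X] (RatFunc k) f) :=
    mul_pos (by exact_mod_cast he0') hfpos
  omega

end Hyperelliptic

end Groth.Agent.Lib.LeadFF
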