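import Groth.Agent.Lib.LeadNM2
import Groth.Agent.Lib.LeadFF41

/-! The norm formula `deg P · v_P(N x) = ∑_{Q | P} deg Q · v_Q(x)`. -/

namespace Groth.Agent.Lib.LeadNM

open FunFld WithZero Groth.Agent.Lib.LeadFF Groth.Agent.Lib.LeadCE

lemma ord_mul {k K : Type*} [Field k] [Field K] [Algebra k K] (P : Place k K) {a b : K}
    (ha : a ≠ 0) (hb : b ≠ 0) : P.ord (a * b) = P.ord a + P.ord b := by
  unfold Place.ord
  rw [map_mul, log_mul ((Valuation.ne_zero_iff _).mpr ha) ((Valuation.ne_zero_iff _).mpr hb)]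
  ring

variable {k K K' : Type*} [Field k] [Field K] [Field K'] [Algebra k K] [Algebra K K']
  [Algebra k K'] [IsScalarTower k K K'] [FiniteDimensional K K']

/-- the defect in the norm formula. -/
noncomputable def defect (P : Place k K) (Qs : Finset (Place k K')) (x : K') : ℤ :=
  (P.deg : ℤ) * P.ord (Algebra.norm K x) - ∑ Q ∈ Qs, (Q.deg : ℤ) * Q.ord x

lemma defect_mul (P : Place k K) (Qs : Finset (Place k K')) {x y : K'} (hx : x ≠ 0) (hy : y ≠ 0) :
    defect P Qs (x * y) = defect P Qs x + defect P Qs y := by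
  unfold defect
  have hnx : Algebra.norm K x ≠ 0 := Algebra.norm_ne_zero_iff.mpr hx
  have hny : Algebra.norm K y ≠ 0 := Algebra.norm_ne_zero_iff.mpr hy
  rw [map_mul, ord_mul P hnx hny]
  have : ∑ Q ∈ Qs, (Q.deg : ℤ) * Q.ord (x * y)
      = ∑ Q ∈ Qs, (Q.deg : ℤ) * Q.ord x + ∑ Q ∈ Qs, (Q.deg : ℤ) * Q.ord y := by
    rw [← Finset.sum_add_distrib]
    apply Finset.sum_congr rfl
    intro Q _
    rw [ord_mul Q hx hy]; ring
  rw [this]; ring

lemma defect_algebraMap (hK : IsFunctionField k K) (P : Place k K) (Qs : Finset (Place k K'))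
    (hQs : ∀ Q, Q ∈ Qs ↔ IsOver Q P) (y : K) : defect P Qs (algebraMap K K' y) = 0 := by
  unfold defect
  rw [Algebra.norm_algebraMap, ord_pow']
  have h1 : ∑ Q ∈ Qs, (Q.deg : ℤ) * Q.ord (algebraMap K K' y)
      = P.ord y * ∑ Q ∈ Qs, ((ramIdx Q P * Q.deg : ℕ) : ℤ) := by
    rw [Finset.mul_sum]
    apply Finset.sum_congr rfl
    intro Q hQ
    obtain ⟨e, he⟩ := (hQs Q).mp hQ
    rw [ord_algebraMap_of_isOverWith he, ramIdx_eq he]
    push_cast; ring
  rw [h1, ← Nat.cast_sum, sum_ramIdx_deg hK P Qs hQs]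
  push_cast; ring

lemma exists_pow_InR (hK : IsFunctionField k K) (P : Place k K) {t : K} (ht1 : P.1 t < 1)
    (ht0 : t ≠ 0) (y : K') : ∃ m₀ : ℕ, ∀ m, m₀ ≤ m → InR P (algebraMap K K' (t ^ m) * y) := by
  classical
  have hfin := finite_over (K' := K') hK P
  have key : ∀ Q : Place k K', IsOver Q P → ∃ r₀ : ℕ, ∀ r, r₀ ≤ r →
      Q.1 (algebraMap K K' (t ^ r) * y) ≤ 1 := by
    intro Q hQ
    have hlt := val_unif_lt_one hQ ht1
    have h0 : 0 < Q.1 (algebraMap K K' t) := by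
      rw [zero_lt_iff, Valuation.ne_zero_iff, Ne, map_eq_zero]; exact ht0
    obtain ⟨r₀, hr₀⟩ := LeadFG.zm0_archimedean (Q.1 (algebraMap K K' t))⁻¹ (Q.1 y)
      ((one_lt_inv₀ h0).mpr hlt)
    refine ⟨r₀, fun r hr => ?_⟩
    have h1 := hr₀ r hr
    rw [map_mul, map_pow, map_pow]
    have hpos : 0 < Q.1 (algebraMap K K' t) ^ r := pow_pos h0 r
    calc Q.1 (algebraMap K K' t) ^ r * Q.1 y
        ≤ Q.1 (algebraMap K K' t) ^ r * ((Q.1 (algebraMap K K' t))⁻¹ ^ r) :=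
          mul_le_mul_right h1.le _
      _ = 1 := by rw [inv_pow, mul_inv_cancel₀ hpos.ne']
  choose! r₀ hr₀ using key
  refine ⟨hfin.toFinset.sup r₀, fun m hm Q hQ => ?_⟩
  refine hr₀ Q hQ m (le_trans ?_ hm)
  exact Finset.le_sup (f := r₀) (hfin.mem_toFinset.mpr hQ)

theorem norm_formula (hK : IsFunctionField k K) (P : Place k K) (x : K')
    (Qs : Finset (Place k K')) (hQs : ∀ Q, Q ∈ Qs ↔ IsOver Q P) :
    (P.deg : ℤ) * P.ord (Algebra.norm K x) = ∑ Q ∈ Qs, (Q.deg : ℤ) * Q.ord x := by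
  by_cases hx0 : x = 0
  · subst hx0
    simp [Place.ord, Algebra.norm_zero]
  obtain ⟨t, ht⟩ := exists_unif P
  have ht1 : P.1 t < 1 := unif_lt_one ht
  have ht0 : t ≠ 0 := unif_ne_zero ht
  obtain ⟨m1, h1⟩ := exists_pow_InR (K' := K') hK P ht1 ht0 x
  obtain ⟨m2, h2⟩ := exists_pow_InR (K' := K') hK P ht1 ht0 x⁻¹
  set m := max m1 m2 with hm
  have hT0 : algebraMap K K' (t ^ m) ≠ 0 := by
    rw [Ne, map_eq_zero]; exact pow_ne_zero _ ht0
  have hxi0 : x⁻¹ ≠ 0 := inv_ne_zero hx0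
  have hA : defect P Qs (algebraMap K K' (t ^ m) * x) ≤ 0 :=
    sub_nonpos.mpr (norm_le hK P Qs hQs (mul_ne_zero hT0 hx0) (h1 m (le_max_left _ _)))
  have hB : defect P Qs (algebraMap K K' (t ^ m) * x⁻¹) ≤ 0 :=
    sub_nonpos.mpr (norm_le hK P Qs hQs (mul_ne_zero hT0 hxi0) (h2 m (le_max_right _ _)))
  have hsum : defect P Qs (algebraMap K K' (t ^ m) * x)
      + defect P Qs (algebraMap K K' (t ^ m) * x⁻¹) = 0 := by
    rw [← defect_mul P Qs (mul_ne_zero hT0 hx0) (mul_ne_zero hT0 hxi0)]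
    have : algebraMap K K' (t ^ m) * x * (algebraMap K K' (t ^ m) * x⁻¹)
        = algebraMap K K' (t ^ m * t ^ m) := by
      rw [map_mul]; field_simp
    rw [this]
    exact defect_algebraMap hK P Qs hQs _
  have hTx : defect P Qs (algebraMap K K' (t ^ m) * x) = 0 := by omega
  rw [defect_mul P Qs hT0 hx0, defect_algebraMap hK P Qs hQs, zero_add] at hTx
  unfold defect at hTx
  omega

end Groth.Agent.Lib.LeadNM
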