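import Mathlib
import Groth.Agent.Lib.LeadMS7
import Groth.Agent.Lib.LeadNM3
import Groth.Agent.Lib.LeadCE6

/-! Different exponent via the derivative of the minimal polynomial of a local parameter that is a
unit at the other places above (S12572). -/

set_option autoImplicit false

namespace Groth.Agent.Lib.LeadDF
open FunFld WithZero LaurentSeries Polynomial IsLocalRing
open Groth.Agent.Lib.LeadMS
open scoped IntermediateField

universe u v
variable {k : Type u} {K : Type v} [Field k] [Field K] [Algebra k K]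
  {K' : Type v} [Field K'] [Algebra K K'] [Algebra k K'] [IsScalarTower k K K']

/-- equal residue fields give equal degrees. -/
lemma deg_eq_of_surjective (P : Place k K) (Q : Place k K') [P.1.HasExtension Q.1]
    (hf : Function.Surjective (algebraMap (ResidueField P.O) (ResidueField Q.O))) :
    Q.deg = P.deg := by
  let ι : ResidueField P.O →ₗ[k] ResidueField Q.O :=
    { toFun := algebraMap (ResidueField P.O) (ResidueField Q.O)
      map_add' := map_add _
      map_smul' := by
        intro c r
        simp only [RingHom.id_apply]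
        change algebraMap (ResidueField P.O) (ResidueField Q.O)
          (residue P.O (algebraMap k P.O c) * r) =
            residue Q.O (algebraMap k Q.O c) * algebraMap (ResidueField P.O) (ResidueField Q.O) r
        rw [map_mul]
        congr 1
        rw [Valuation.HasExtension.algebraMap_residue_eq_residue_algebraMap]
        congr 1
        apply Subtype.ext
        change algebraMap K K' (algebraMap k K c) = algebraMap k K' c
        rw [← IsScalarTower.algebraMap_apply] }
  have hbij : Function.Bijective ι :=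
    ⟨(algebraMap (ResidueField P.O) (ResidueField Q.O)).injective, hf⟩
  exact (LinearEquiv.ofBijective ι hbij).finrank_eq.symm


lemma ord_neg_one_pow_mul (P : Place k K) (n : ℕ) (a : K) : P.ord ((-1) ^ n * a) = P.ord a := by
  unfold Place.ord
  rw [map_mul, map_pow, Valuation.map_neg, map_one, one_pow, one_mul]

variable {F : Type*} [Field F] [Algebra k F] {F' : Type*} [Field F'] [Algebra k F']

theorem adjoin_top_and_ord (hK : IsFunctionField k K) (hg : IsGeometric k K)
    [FiniteDimensional K K'] [Algebra.IsSeparable K K']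
    (P : Place k K) (Q : Place k K') (e : ℕ) (he : IsOverWith Q P e)
    (φ : K →ₐ[k] F⸨X⸩) (hφ : LocRes.IsExpansionAt P.1 φ)
    (ψ : K' →ₐ[k] F'⸨X⸩) (hψ : LocRes.IsExpansionAt Q.1 ψ)
    (x : K) (hx : LocRes.vDiff φ 1 x ≠ 0) (hx' : LocRes.vDiff ψ 1 (algebraMap K K' x) ≠ 0)
    (hdeg : Q.deg = P.deg) (s : K') (hs : Q.1 s = exp (-1 : ℤ))
    (hs' : ∀ Q' : Place k K', IsOver Q' P → Q' ≠ Q → Q'.1 s = 1) :
    K⟮s⟯ = ⊤ ∧ Q.ord (aeval s (derivative (minpoly K s))) = LocRes.diffExp φ ψ e x := by
  classical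
  letI : Algebra P.O K' := ((algebraMap K K').comp (algebraMap P.O K)).toAlgebra
  haveI : IsScalarTower P.O K K' := IsScalarTower.of_algebraMap_eq (fun _ => rfl)
  have hs0 : s ≠ 0 := by rintro rfl; rw [map_zero] at hs; exact exp_ne_zero hs.symm
  have hint : IsIntegral K s := Algebra.IsIntegral.isIntegral s
  -- the norm of `s` has order one
  set Qs := (Lib.LeadFF.finite_over (K' := K') hK P).toFinset with hQsdef
  have hQs : ∀ Q', Q' ∈ Qs ↔ IsOver Q' P := by intro Q'; simp [Qs]
  have hnorm := Lib.LeadNM.norm_formula hK P s Qs hQs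
  have hsum : ∑ Q' ∈ Qs, (Q'.deg : ℤ) * Q'.ord s = Q.deg := by
    rw [Finset.sum_eq_single Q]
    · rw [Place.ord, hs, log_exp]; ring
    · intro Q' hQ' hne
      rw [Place.ord, hs' Q' ((hQs Q').mp hQ') hne, log_one]; ring
    · intro hQ; exact absurd ((hQs Q).mpr ⟨e, he⟩) hQ
  rw [hsum, hdeg] at hnorm
  have hPdeg : (0 : ℤ) < P.deg := by exact_mod_cast Lib.LeadFF.deg_pos hK P
  have hordN : P.ord (Algebra.norm K s) = 1 := by
    have : (P.deg : ℤ) * P.ord (Algebra.norm K s) = (P.deg : ℤ) * 1 := by rw [hnorm, mul_one]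
    exact mul_left_cancel₀ hPdeg.ne' this
  -- `K(s) = K'`
  have hN := Algebra.norm_eq_norm_adjoin K s
  have hpb := Algebra.PowerBasis.norm_gen_eq_coeff_zero_minpoly
    (IntermediateField.adjoin.powerBasis hint)
  rw [IntermediateField.adjoin.powerBasis_gen, IntermediateField.minpoly_gen] at hpb
  set f := minpoly K s with hf
  rw [hpb] at hN
  rw [hN, Lib.LeadFF.ord_pow', ord_neg_one_pow_mul] at hordN
  have hfr : Module.finrank K⟮s⟯ K' = 1 := by
    have h1 : (0 : ℤ) < Module.finrank K⟮s⟯ K' := by exact_mod_cast Module.finrank_pos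
    have := Int.eq_one_or_neg_one_of_mul_eq_one hordN
    rcases this with h | h
    · exact_mod_cast h
    · omega
  have ha0 : P.ord (f.coeff 0) = 1 := by rw [hfr] at hordN; simpa using hordN
  have htop : K⟮s⟯ = ⊤ := IntermediateField.finrank_eq_one_iff_eq_top.mp hfr
  refine ⟨htop, ?_⟩
  -- degree
  have hmonic : f.Monic := minpoly.monic hint
  -- integrality of the coefficients
  have hInR : ∀ Q' : Place k K', IsOver Q' P → Q'.1 s ≤ 1 := by
    intro Q' hQ'
    by_cases hQQ : Q' = Q
    · rw [hQQ, hs, ← exp_zero, exp_le_exp]; norm_num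
    · rw [hs' Q' hQ' hQQ]
  have hsint : IsIntegral P.O s := Lib.LeadCE.isIntegral_of_forall_over hK P hInR
  have hfR : f = (minpoly P.O s).map (algebraMap P.O K) :=
    minpoly.isIntegrallyClosed_eq_field_fractions' K hsint
  have hci : ∀ i, P.1 (f.coeff i) ≤ 1 := by
    intro i
    rw [hfR, coeff_map]
    exact ((minpoly P.O s).coeff i).2
  have hc0ne : f.coeff 0 ≠ 0 := by
    intro h0; rw [h0] at ha0; simp [Place.ord] at ha0
  have hc0 : P.1 (f.coeff 0) = exp (-1 : ℤ) := by
    rw [Lib.LeadFF.val_eq_exp_neg_ord P hc0ne, ha0]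
  -- the derivation argument
  obtain ⟨t, ht⟩ := hφ.2.2
  obtain ⟨hDφt, hDt, hψt0, hdiff⟩ := diffExp_eq_unif hK hg P Q e he φ hφ ψ hψ x hx hx' ht
  have hΩ := finrank_kaehler hK hg
  have hrat : ∀ a : K, ∃ c : K, c • KaehlerDifferential.D k K t = KaehlerDifferential.D k K a :=
    fun a => (finrank_eq_one_iff_of_nonzero' _ hDt).mp hΩ _
  choose cf hcf using hrat
  have hcfφ : ∀ a, LocRes.D F (φ a) = φ (cf a) * LocRes.D F (φ t) := fun a =>
    D_expand φ (hcf a).symm
  have hcfψ : ∀ a, LocRes.D F' (ψ (algebraMap K K' a)) =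
      ψ (algebraMap K K' (cf a)) * LocRes.D F' (ψ (algebraMap K K' t)) := fun a =>
    D_expand' ψ (hcf a).symm
  have hPcf : ∀ a, P.1 (cf a) = Valued.v (LocRes.D F (φ a)) := by
    intro a
    rw [hcfφ a, map_mul, hDφt, mul_one, hφ.1]
  have hPcf_le : ∀ a, P.1 a ≤ 1 → P.1 (cf a) ≤ 1 := by
    intro a ha
    rw [hPcf]
    exact val_D_le_one (by rw [hφ.1]; exact ha)
  have hPcf0 : P.1 (cf (f.coeff 0)) = 1 := by
    rw [hPcf]
    have := val_D_of_ne (F := F) (f := φ (f.coeff 0)) (n := 1) (by rw [hφ.1, hc0]) (by simp)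
    simpa using this
  have hform := deriv_aeval_formula ψ s f
  rw [minpoly.aeval K s, map_zero, map_zero] at hform
  set n := f.natDegree with hn
  have hsum2 : f.sum (fun i a => LocRes.D F' (ψ (algebraMap K K' a)) * ψ s ^ i) =
      LocRes.D F' (ψ (algebraMap K K' t)) *
        ψ (∑ i ∈ Finset.range n, algebraMap K K' (cf (f.coeff i)) * s ^ i) := by
    rw [Polynomial.sum_over_range f (by intro n; simp), ← hn, Finset.sum_range_succ]
    have hlead : f.coeff n = 1 := by
      rw [hn, Polynomial.coeff_natDegree, hmonic.leadingCoeff]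
    rw [hlead, map_one, map_one, Derivation.map_one_eq_zero, zero_mul, add_zero, map_sum,
      Finset.mul_sum]
    apply Finset.sum_congr rfl
    intro i _
    rw [hcfψ, map_mul, map_pow]; ring
  rw [hsum2] at hform
  set w := ∑ i ∈ Finset.range n, algebraMap K K' (cf (f.coeff i)) * s ^ i with hw
  have hn0 : 0 < n := by
    rw [hn]; exact minpoly.natDegree_pos hint
  have hQw : Q.1 w = 1 := by
    have h1 : Q.1 w = Q.1 (algebraMap K K' (cf (f.coeff 0)) * s ^ 0) := by
      apply Valuation.map_sum_eq_of_lt _ (Finset.mem_range.mpr hn0)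
      intro i hi
      rw [Finset.mem_sdiff, Finset.mem_range, Finset.mem_singleton] at hi
      rw [pow_zero, mul_one, he, hPcf0, one_pow, map_mul, map_pow, he, hs]
      have h2 : P.1 (cf (f.coeff i)) ^ e ≤ 1 :=
        pow_le_one₀ zero_le' (hPcf_le _ (hci i))
      have h3 : (exp (-1 : ℤ) : WithZero (Multiplicative ℤ)) ^ i < 1 := by
        rw [Lib.LeadFF.zm0_exp_pow, ← exp_zero, exp_lt_exp]
        have : 0 < i := Nat.pos_of_ne_zero hi.2
        have : (0 : ℤ) < i := by exact_mod_cast this
        linarith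
      calc _ ≤ 1 * (exp (-1 : ℤ) : WithZero (Multiplicative ℤ)) ^ i := mul_le_mul_left h2 _
        _ < 1 := by rw [one_mul]; exact h3
    rw [h1, pow_zero, mul_one, he, hPcf0, one_pow]
  have hvs : Valued.v (LocRes.D F' (ψ s)) = 1 := by
    have := val_D_of_ne (F := F') (f := ψ s) (n := 1) (by rw [hψ.1, hs]) (by simp)
    simpa using this
  have hval : Q.1 (aeval s (derivative f)) = Valued.v (LocRes.D F' (ψ (algebraMap K K' t))) := by
    have h1 : ψ (aeval s (derivative f)) * LocRes.D F' (ψ s) =
        - (LocRes.D F' (ψ (algebraMap K K' t)) * ψ w) := eq_neg_of_add_eq_zero_left hform.symm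
    have h2 := congrArg Valued.v h1
    rw [map_mul, Valuation.map_neg, map_mul, hvs, mul_one, hψ.1, hψ.1, hQw, mul_one] at h2
    exact h2
  rw [hdiff]
  unfold Place.ord
  rw [hval]

end Groth.Agent.Lib.LeadDF
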