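import Groth.Agent.Lib.LeadCSA
import Mathlib

/-! Central division algebras of prime degree `p`: singly generated subalgebras. -/

namespace Groth.Agent.Lib.LeadDegP

universe u v

variable (K : Type u) [Field K] (p : ℕ) (A : Type v) [DivisionRing A] [Algebra K A]
  [Algebra.IsCentral K A] [FiniteDimensional K A]

theorem isSimpleRing_adjoin_singleton (x : A) : IsSimpleRing (Algebra.adjoin K {x}) := by
  have hcomm : ∀ a ∈ ({x} : Set A), ∀ b ∈ ({x} : Set A), a * b = b * a := by
    intro a ha b hb
    rw [Set.mem_singleton_iff] at ha hb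
    rw [ha, hb]
  letI : CommRing (Algebra.adjoin K {x}) := Algebra.adjoinCommRingOfComm K hcomm
  have hBfield : IsField (Algebra.adjoin K {x}) := IsField.of_isDomain_of_finite K _
  exact (isSimpleRing_iff_isField _).mpr hBfield

theorem finrank_adjoin_singleton (hp : p.Prime) (hA : Module.finrank K A = p ^ 2) (x : A)
    (hx : x ∉ Set.range (algebraMap K A)) :
    Module.finrank K (Algebra.adjoin K {x}) = p ∧
      Subalgebra.centralizer K (Algebra.adjoin K {x} : Set A) = Algebra.adjoin K {x} := by
  classical
  set B : Subalgebra K A := Algebra.adjoin K {x} with hB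
  have hxB : x ∈ B := Algebra.subset_adjoin (Set.mem_singleton x)
  haveI hBsimple : IsSimpleRing B := isSimpleRing_adjoin_singleton K A x
  have hBne : B ≠ ⊥ := by
    intro hbot
    have : x ∈ (⊥ : Subalgebra K A) := hbot ▸ hxB
    exact hx (Algebra.mem_bot.mp this)
  have hC := Groth.Agent.Lib.LeadCSA.centralizer_finrank B
  rw [hA] at hC
  have hBle : B ≤ Subalgebra.centralizer K (B : Set A) := by
    rw [hB]
    apply Algebra.adjoin_le
    intro y hy
    rw [Set.mem_singleton_iff] at hy
    rw [hy, SetLike.mem_coe, Subalgebra.mem_centralizer_iff]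
    intro z hz
    -- z ∈ adjoin K {x} commutes with x
    have : Algebra.adjoin K {x} ≤ Subalgebra.centralizer K ({x} : Set A) := by
      apply Algebra.adjoin_le
      intro w hw
      rw [Set.mem_singleton_iff] at hw
      rw [hw, SetLike.mem_coe, Subalgebra.mem_centralizer_iff]
      intro w' hw'
      rw [Set.mem_singleton_iff] at hw'
      rw [hw']
    have h2 := this hz
    rw [Subalgebra.mem_centralizer_iff] at h2
    exact (h2 x (Set.mem_singleton x)).symm
  have hle : Module.finrank K B ≤ Module.finrank K (Subalgebra.centralizer K (B : Set A)) := by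
    have := Submodule.finrank_mono (show Subalgebra.toSubmodule B ≤
      Subalgebra.toSubmodule (Subalgebra.centralizer K (B : Set A)) from hBle)
    simpa using this
  have hdvd : Module.finrank K B ∣ p ^ 2 := ⟨_, hC⟩
  obtain ⟨j, hj, hjeq⟩ := (Nat.dvd_prime_pow hp).mp hdvd
  have hdimB : Module.finrank K B = p := by
    interval_cases j
    · exfalso
      apply hBne
      rw [pow_zero] at hjeq
      exact Subalgebra.finrank_eq_one_iff.mp hjeq
    · simpa using hjeq
    · exfalso
      rw [hjeq] at hC hle
      have h1 : Module.finrank K (Subalgebra.centralizer K (B : Set A)) = 1 := by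
        have hpp : 0 < p ^ 2 := pow_pos hp.pos 2
        have h2 : p ^ 2 * 1 = p ^ 2 * Module.finrank K (Subalgebra.centralizer K (B : Set A)) := by
          rw [mul_one]; exact hC
        exact (Nat.eq_of_mul_eq_mul_left hpp h2).symm
      rw [h1] at hle
      have : 1 < p ^ 2 := Nat.one_lt_pow (by norm_num) hp.one_lt
      omega
  refine ⟨hdimB, ?_⟩
  rw [hdimB, pow_two] at hC
  have hCdim : Module.finrank K (Subalgebra.centralizer K (B : Set A)) = p :=
    (Nat.eq_of_mul_eq_mul_left hp.pos hC).symm
  symm
  apply Subalgebra.toSubmodule_injective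
  exact Submodule.eq_of_le_of_finrank_eq hBle (by
    rw [Subalgebra.finrank_toSubmodule, Subalgebra.finrank_toSubmodule, hdimB, hCdim])

end Groth.Agent.Lib.LeadDegP
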