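import Mathlib
import Groth.Agent.Lib.Helper27AmpleGlue
import Groth.Agent.Lib.Helper17GrSysCoh
import Groth.Agent.Lib.Helper27EpiGen2
import Groth.Agent.Lib.Helper23QCohAbelian
import Groth.Agent.Lib.Helper23TensorQCoh
import Groth.Prelude.Def_Dual3

/-!
# Sections of `Dual3.idealMul J F` and of intersections of subobjects (lead)

* `exists_idealMulι_app_iff` : for `F` quasi-coherent and `U` affine, the image of `Γ(J·F, U) → Γ(F, U)`
  is `J(U) • Γ(F, U)`.
* `range_appL_idealMulι` : the same, as an equality of submodules.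
* `exists_factor_of_sections` : a morphism `a : A ⟶ G` out of a quasi-coherent module factors through a
  monomorphism `b : B ⟶ G` as soon as it does so on sections over the members of an affine cover.
* `mk_kernel_comp_eq_inf`, `exists_app_inf_arrow`, `range_appL_inf_arrow` : sections of `Subobject.mk a ⊓ Subobject.mk b`.
-/

set_option autoImplicit false
set_option linter.style.haveILetI false
universe u
open CategoryTheory CategoryTheory.Limits AlgebraicGeometry Opposite TopologicalSpace

namespace Groth.Agent.Lib.LeadDeligne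

open Groth.Agent.Lib.Helper17.GrSysCoh Groth.Agent.Lib.Helper27AmpleGlue
  Groth.Agent.Lib.Helper20.StalkExact

variable {X : Scheme.{u}}

theorem comp_app_apply {A B C : X.Modules} (f : A ⟶ B) (g : B ⟶ C) (W : X.Opens) (x : Γ(A, W)) :
    (f ≫ g).app W x = g.app W (f.app W x) := rfl

theorem zero_app_apply {A B : X.Modules} (W : X.Opens) (x : Γ(A, W)) :
    (0 : A ⟶ B).app W x = 0 := rfl

/-- sections of `J·F` over an affine open: the image in `Γ(F, U)` is `J(U) • Γ(F, U)`. -/
theorem exists_idealMulι_app_iff (J : X.IdealSheafData) (F : X.Modules) [F.IsQuasicoherent]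
    (U : X.affineOpens) (m : Γ(F, U.1)) :
    (∃ t : Γ((Dual3.idealMul J).obj F, U.1), (Dual3.idealMulι J F).app U.1 t = m) ↔
      m ∈ (J.ideal U) • (⊤ : Submodule Γ(X, U.1) Γ(F, U.1)) := by
  constructor
  · rintro ⟨t, rfl⟩
    apply mem_smul_of_unit_app_eq_zero F J U
    have h1 : (Dual3.idealMulι J F ≫ η J F).app U.1 t = 0 := by
      have h0 : Dual3.idealMulι J F ≫ η J F = 0 := kernel.condition _
      rw [h0]
      rfl
    exact h1
  · intro hm
    have h0 : (η J F).app U.1 m = 0 := by
      refine Submodule.smul_induction_on hm ?_ ?_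
      · intro r hr n _
        rw [Scheme.Modules.Hom.app_smul]
        exact killedBy_push J _ U r hr _
      · intro x y hx hy
        rw [map_add, hx, hy, add_zero]
    exact exists_app_kernel_ι (η J F) U.1 m h0

theorem range_appL_idealMulι (J : X.IdealSheafData) (F : X.Modules) [F.IsQuasicoherent]
    (U : X.affineOpens) :
    LinearMap.range (appL (Dual3.idealMulι J F) U.1) =
      (J.ideal U) • (⊤ : Submodule Γ(X, U.1) Γ(F, U.1)) := by
  ext m
  rw [← exists_idealMulι_app_iff J F U m]
  rfl

theorem range_appL_comp {A B C : X.Modules} (f : A ⟶ B) (g : B ⟶ C) (W : X.Opens) :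
    LinearMap.range (appL (f ≫ g) W) = (LinearMap.range (appL f W)).map (appL g W) := by
  ext m
  constructor
  · rintro ⟨x, rfl⟩
    exact ⟨f.app W x, ⟨x, rfl⟩, rfl⟩
  · rintro ⟨y, ⟨x, rfl⟩, rfl⟩
    exact ⟨x, rfl⟩

/-- a morphism out of a quasi-coherent module factors through a monomorphism as soon as it does on sections over
an affine cover -/
theorem exists_factor_of_sections {G A B : X.Modules} [A.IsQuasicoherent] (a : A ⟶ G) (b : B ⟶ G) [Mono b]
    {ι : Type*} (W : ι → X.Opens) (hW : ∀ i, IsAffineOpen (W i)) (hcov : ∀ x : X, ∃ i, x ∈ W i)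
    (h : ∀ i (s : Γ(A, W i)), ∃ t : Γ(B, W i), b.app (W i) t = a.app (W i) s) :
    ∃ c : A ⟶ B, c ≫ b = a := by
  have h0 : a ≫ cokernel.π b = 0 := by
    refine Groth.Agent.Lib.Helper27EpiGen.hom_ext_of_affine_cover A _ W hW hcov _ 0 (fun i m => ?_)
    obtain ⟨t, ht⟩ := h i m
    rw [comp_app_apply, ← ht, ← comp_app_apply, cokernel.condition]
    exact (zero_app_apply (W i) t).trans (zero_app_apply (W i) m).symm
  exact ⟨Abelian.monoLift b a h0, Abelian.monoLift_comp b a h0⟩

theorem mk_le_mk_of_sections {G A B : X.Modules} [A.IsQuasicoherent] (a : A ⟶ G) (b : B ⟶ G) [Mono a] [Mono b]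
    {ι : Type*} (W : ι → X.Opens) (hW : ∀ i, IsAffineOpen (W i)) (hcov : ∀ x : X, ∃ i, x ∈ W i)
    (h : ∀ i, LinearMap.range (appL a (W i)) ≤ LinearMap.range (appL b (W i))) :
    Subobject.mk a ≤ Subobject.mk b := by
  obtain ⟨c, hc⟩ := exists_factor_of_sections a b W hW hcov (fun i s => by
    obtain ⟨t, ht⟩ := h i ⟨s, rfl⟩
    exact ⟨t, ht⟩)
  exact Subobject.mk_le_mk_of_comm c hc

section Abelian

variable {C : Type*} [Category C] [Abelian C]

/-- the intersection of two subobjects as a kernel -/
theorem mk_kernel_comp_eq_inf {G A B : C} (a : A ⟶ G) (b : B ⟶ G) [Mono a] [Mono b] :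
    Subobject.mk (kernel.ι (a ≫ cokernel.π b) ≫ a) = Subobject.mk a ⊓ Subobject.mk b := by
  apply le_antisymm
  · apply le_inf
    · exact Subobject.mk_le_mk_of_comm (kernel.ι (a ≫ cokernel.π b)) rfl
    · have h0 : (kernel.ι (a ≫ cokernel.π b) ≫ a) ≫ cokernel.π b = 0 := by
        rw [Category.assoc, kernel.condition]
      exact Subobject.mk_le_mk_of_comm (Abelian.monoLift b _ h0) (Abelian.monoLift_comp b _ h0)
  · -- the arrow of the inf factors through `a` and `b`
    let K := Subobject.mk a ⊓ Subobject.mk b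
    let x : Subobject.underlying.obj K ⟶ A :=
      Subobject.ofLE K (Subobject.mk a) inf_le_left ≫ (Subobject.underlyingIso a).hom
    let y : Subobject.underlying.obj K ⟶ B :=
      Subobject.ofLE K (Subobject.mk b) inf_le_right ≫ (Subobject.underlyingIso b).hom
    have hx : x ≫ a = K.arrow := by
      simp [x]
    have hy : y ≫ b = K.arrow := by
      simp [y]
    have h0 : x ≫ a ≫ cokernel.π b = 0 := by
      rw [← Category.assoc, hx, ← hy, Category.assoc, cokernel.condition, comp_zero]
    have h1 : kernel.lift (a ≫ cokernel.π b) x h0 ≫ (kernel.ι (a ≫ cokernel.π b) ≫ a) = K.arrow := by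
      rw [← Category.assoc, kernel.lift_ι, hx]
    exact Subobject.le_mk_of_comm _ h1

end Abelian

/-- sections of the intersection of two subobjects: every common value is a section of the intersection -/
theorem exists_app_inf_arrow {G A B : X.Modules} (a : A ⟶ G) (b : B ⟶ G) [Mono a] [Mono b] (W : X.Opens)
    (s : Γ(A, W)) (t : Γ(B, W)) (h : a.app W s = b.app W t) :
    ∃ w : Γ(Subobject.underlying.obj (Subobject.mk a ⊓ Subobject.mk b), W),
      (Subobject.mk a ⊓ Subobject.mk b).arrow.app W w = a.app W s := by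
  have h0 : (a ≫ cokernel.π b).app W s = 0 := by
    rw [comp_app_apply, h, ← comp_app_apply, cokernel.condition]
    rfl
  obtain ⟨s', hs'⟩ := exists_app_kernel_ι (a ≫ cokernel.π b) W s h0
  have hle : Subobject.mk (kernel.ι (a ≫ cokernel.π b) ≫ a) ≤ Subobject.mk a ⊓ Subobject.mk b :=
    (mk_kernel_comp_eq_inf a b).le
  let z : kernel (a ≫ cokernel.π b) ⟶ Subobject.underlying.obj (Subobject.mk a ⊓ Subobject.mk b) :=
    (Subobject.underlyingIso (kernel.ι (a ≫ cokernel.π b) ≫ a)).inv ≫ Subobject.ofLE _ _ hle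
  have hz : z ≫ (Subobject.mk a ⊓ Subobject.mk b).arrow = kernel.ι (a ≫ cokernel.π b) ≫ a := by
    simp [z]
  refine ⟨z.app W s', ?_⟩
  rw [← comp_app_apply, hz, comp_app_apply, hs']

theorem range_appL_inf_arrow {G A B : X.Modules} (a : A ⟶ G) (b : B ⟶ G) [Mono a] [Mono b] (W : X.Opens) :
    LinearMap.range (appL (Subobject.mk a ⊓ Subobject.mk b).arrow W) =
      LinearMap.range (appL a W) ⊓ LinearMap.range (appL b W) := by
  apply le_antisymm
  · rintro _ ⟨w, rfl⟩
    let K := Subobject.mk a ⊓ Subobject.mk b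
    let x : Subobject.underlying.obj K ⟶ A :=
      Subobject.ofLE K (Subobject.mk a) inf_le_left ≫ (Subobject.underlyingIso a).hom
    let y : Subobject.underlying.obj K ⟶ B :=
      Subobject.ofLE K (Subobject.mk b) inf_le_right ≫ (Subobject.underlyingIso b).hom
    have hx : x ≫ a = K.arrow := by
      simp [x]
    have hy : y ≫ b = K.arrow := by
      simp [y]
    refine ⟨⟨x.app W w, ?_⟩, ⟨y.app W w, ?_⟩⟩
    · change a.app W (x.app W w) = K.arrow.app W w
      rw [← comp_app_apply, hx]
    · change b.app W (y.app W w) = K.arrow.app W w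
      rw [← comp_app_apply, hy]
  · rintro m ⟨⟨s, rfl⟩, ⟨t, ht⟩⟩
    obtain ⟨w, hw⟩ := exists_app_inf_arrow a b W s t ht.symm
    exact ⟨w, hw⟩

/-- the intersection of two quasi-coherent subobjects of a quasi-coherent module is quasi-coherent -/
theorem isQuasicoherent_inf {G A B : X.Modules} [G.IsQuasicoherent] [A.IsQuasicoherent] [B.IsQuasicoherent]
    (a : A ⟶ G) (b : B ⟶ G) [Mono a] [Mono b] :
    (Subobject.underlying.obj (Subobject.mk a ⊓ Subobject.mk b) : X.Modules).IsQuasicoherent := by
  haveI : (cokernel b).IsQuasicoherent := Groth.Agent.Lib.Helper23.QCohLocal.isQuasicoherent_cokernel b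
  haveI : (kernel (a ≫ cokernel.π b)).IsQuasicoherent :=
    Groth.Agent.Lib.Helper23.QCohLocal.isQuasicoherent_kernel _
  exact Groth.Agent.Lib.Helper23.TensorQCoh.isQuasicoherent_of_iso
    ((Subobject.underlyingIso (kernel.ι (a ≫ cokernel.π b) ≫ a)).symm ≪≫
      Subobject.isoOfEq _ _ (mk_kernel_comp_eq_inf a b))

end Groth.Agent.Lib.LeadDeligne
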