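import Mathlib
import Groth.Agent.Lib.LeadDeligne1
import Groth.Agent.Lib.Helper2PullbackSec
import Groth.Agent.Lib.Helper23QCohLocal
import Groth.Agent.Lib.Helper4DevL

/-!
# `Dual3.idealMul` on quasi-coherent modules, continued (lead)

* `isQuasicoherent_idealMul` : `J·M` is quasi-coherent for `M` quasi-coherent.
* `range_appL_idealMulι_comp` : sections over an affine `U` of `J·K ⟶ K ⟶ F` have image `J(U) • im(K(U) → F(U))`.
* `ar_adjust` : the Artin–Rees equality for the constant `k` gives it for every constant `c ≥ k`.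
-/

set_option autoImplicit false
set_option linter.style.haveILetI false
universe u
open CategoryTheory CategoryTheory.Limits AlgebraicGeometry Opposite TopologicalSpace

namespace Groth.Agent.Lib.LeadDeligne

open Groth.Agent.Lib.Helper17.GrSysCoh Groth.Agent.Lib.Helper27AmpleGlue
  Groth.Agent.Lib.Helper20.StalkExact

variable {X : Scheme.{u}}

theorem isQuasicoherent_idealMul (J : X.IdealSheafData) (M : X.Modules) [M.IsQuasicoherent] :
    ((Dual3.idealMul J).obj M).IsQuasicoherent := by
  haveI : ((Scheme.Modules.pullback J.subschemeι).obj M).IsQuasicoherent :=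
    Groth.Agent.Lib.Helper2.PullbackSec.isQuasicoherent_pullback J.subschemeι M
  haveI : ((Scheme.Modules.pushforward J.subschemeι).obj
      ((Scheme.Modules.pullback J.subschemeι).obj M)).IsQuasicoherent :=
    Groth.Agent.Lib.Helper23.QCohLocal.isQuasicoherent_pushforward J.subschemeι _
  exact Groth.Agent.Lib.Helper23.QCohLocal.isQuasicoherent_kernel (M := M)
    (N := (Scheme.Modules.pushforward J.subschemeι).obj ((Scheme.Modules.pullback J.subschemeι).obj M))
    ((Scheme.Modules.pullbackPushforwardAdjunction J.subschemeι).unit.app M)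

theorem range_appL_idealMulι_comp (J : X.IdealSheafData) {K F : X.Modules} [K.IsQuasicoherent]
    (k : K ⟶ F) (U : X.affineOpens) :
    LinearMap.range (appL (Dual3.idealMulι J K ≫ k) U.1) =
      (J.ideal U) • LinearMap.range (appL k U.1) := by
  rw [range_appL_comp, range_appL_idealMulι, Submodule.map_smul'', Submodule.map_top]

theorem ar_adjust {R M : Type*} [CommRing R] [AddCommGroup M] [Module R M] (a : Ideal R)
    (N : Submodule R M) (k : ℕ)
    (hk : ∀ n ≥ k, a ^ n • (⊤ : Submodule R M) ⊓ N = a ^ (n - k) • (a ^ k • (⊤ : Submodule R M) ⊓ N))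
    (c : ℕ) (hc : k ≤ c) (n : ℕ) (hn : c ≤ n) :
    a ^ (n - c) • (a ^ c • (⊤ : Submodule R M) ⊓ N) = a ^ n • (⊤ : Submodule R M) ⊓ N := by
  rw [hk c hc, ← Submodule.mul_smul, ← pow_add, hk n (hc.trans hn)]
  congr 2
  omega

end Groth.Agent.Lib.LeadDeligne
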