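import Mathlib
import Groth.Agent.Lib.LeadDeligne2
import Groth.Agent.Lib.Helper23Extend
import Groth.Agent.Lib.Helper2QCoh
import Groth.Agent.Lib.Helper4DevO
import Groth.Agent.Lib.Helper23FinType2

/-!
# Morphisms out of `I^n G` vanishing off `V(I)` (lead)

* `app_eq_zero_of_restrict_eq_zero` : a morphism whose restriction to `U` vanishes is zero on sections over `W ≤ U`.
* `basicOpen_le_of_mem_ideal` : `D(f) ⊆ X ∖ V(I)` for `f ∈ I(V)`.
* `exists_pow_smul_eq_bot` (algebra) : a finitely generated submodule which is `a`-power torsion elementwise is killed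
  by a power of the finitely generated ideal `a`.
* `exists_pow_smul_range_eq_bot` : for `ψ : P ⟶ F` (`P` coherent, `F` quasi-coherent, `X` locally Noetherian) vanishing on
  `X ∖ V(I)`, the image of `ψ` on sections over an affine open is killed by a power of `I`.
* `exists_idealMul_le` : the inclusion `I^N G ⟶ I^n G` for `n ≤ N`.
* `app_mem_pow_smul_top` : sections of `I^(n+M) G` land in `I^M · Γ(I^n G, V)`.
-/

set_option autoImplicit false
set_option linter.style.haveILetI false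
universe u
open CategoryTheory CategoryTheory.Limits AlgebraicGeometry Opposite TopologicalSpace

namespace Groth.Agent.Lib.LeadDeligne

open Groth.Agent.Lib.Helper17.GrSysCoh Groth.Agent.Lib.Helper27AmpleGlue
  Groth.Agent.Lib.Helper20.StalkExact

variable {X : Scheme.{u}}

theorem app_eq_zero_of_restrict_eq_zero {A B : X.Modules} (φ : A ⟶ B) (U : X.Opens)
    (h : (Scheme.Modules.restrictFunctor U.ι).map φ = 0) (W : X.Opens) (hW : W ≤ U) (x : Γ(A, W)) :
    φ.app W x = 0 := by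
  have h3 : ∀ W' : (↑U : Scheme.{u}).Opens, φ.app (U.ι ''ᵁ W') = (0 : A ⟶ B).app (U.ι ''ᵁ W') :=
    fun W' => congrArg (fun m => Scheme.Modules.Hom.app m W') h
  have h4 : ∀ W₁ : X.Opens, W₁ = W → φ.app W₁ = (0 : A ⟶ B).app W₁ → φ.app W = (0 : A ⟶ B).app W := by
    rintro W₁ rfl h; exact h
  have h5 : φ.app W = (0 : A ⟶ B).app W := by
    refine h4 _ ?_ (h3 (U.ι ⁻¹ᵁ W))
    rw [Scheme.Hom.image_preimage_eq_opensRange_inf, Scheme.Opens.opensRange_ι]
    exact inf_eq_right.2 hW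
  rw [h5]
  rfl

theorem basicOpen_le_of_mem_ideal (I : X.IdealSheafData) (U : X.Opens)
    (hU : (U : Set X) = (I.support : Set X)ᶜ) (V : X.affineOpens) (f : Γ(X, V.1)) (hf : f ∈ I.ideal V) :
    X.basicOpen f ≤ U := by
  intro x hx
  have hxV : x ∈ V.1 := X.basicOpen_le f hx
  change x ∈ (U : Set X)
  rw [hU]
  intro hxs
  have h1 : x ∈ X.zeroLocus (U := V.1) (I.ideal V : Set Γ(X, V.1)) :=
    (Scheme.IdealSheafData.mem_support_iff_of_mem hxV).1 hxs
  rw [Scheme.mem_zeroLocus_iff] at h1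
  exact h1 f hf hx

theorem exists_pow_smul_eq_bot {R M : Type*} [CommRing R] [AddCommGroup M] [Module R M] (a : Ideal R)
    (ha : a.FG) (Q : Submodule R M) (hQ : Q.FG)
    (h : ∀ f ∈ a, ∀ q ∈ Q, ∃ k : ℕ, f ^ k • q = 0) : ∃ m : ℕ, a ^ m • Q = ⊥ := by
  classical
  have hle : a ≤ (Q.annihilator).radical := by
    intro f hf
    obtain ⟨s, hs⟩ := hQ
    have hs' : ∀ q ∈ s, ∃ k : ℕ, f ^ k • q = 0 := fun q hq => h f hf q (hs ▸ Submodule.subset_span hq)
    choose! k hk using hs'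
    refine ⟨s.sup k, ?_⟩
    rw [← hs, Submodule.mem_annihilator_span]
    rintro ⟨q, hq⟩
    have h1 : k q ≤ s.sup k := Finset.le_sup hq
    change f ^ (s.sup k) • q = 0
    rw [← Nat.sub_add_cancel h1, pow_add, mul_smul, hk q hq, smul_zero]
  obtain ⟨m, hm⟩ := Ideal.exists_pow_le_of_le_radical_of_fg hle ha
  refine ⟨m, ?_⟩
  rw [eq_bot_iff]
  calc a ^ m • Q ≤ Q.annihilator • Q := Submodule.smul_mono_left hm
    _ = ⊥ := Submodule.annihilator_smul Q

/-- the image on sections over an affine open of a morphism vanishing off `V(I)` is killed by a power of `I` -/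
theorem exists_pow_smul_range_eq_bot [IsLocallyNoetherian X] (I : X.IdealSheafData) (U : X.Opens)
    (hU : (U : Set X) = (I.support : Set X)ᶜ) {P F : X.Modules} [P.IsQuasicoherent]
    [SheafOfModules.IsFiniteType (R := X.ringCatSheaf) P] [F.IsQuasicoherent] (ψ : P ⟶ F)
    (hψ : (Scheme.Modules.restrictFunctor U.ι).map ψ = 0) (V : X.affineOpens) :
    ∃ m : ℕ, (I.ideal V) ^ m • LinearMap.range (appL ψ V.1) = ⊥ := by
  haveI : IsNoetherianRing Γ(X, V.1) := IsLocallyNoetherian.component_noetherian V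
  haveI : Module.Finite Γ(X, V.1) Γ(P, V.1) :=
    Groth.Agent.Lib.Helper23.FinType.finite_of_isFiniteType P V.2
  refine exists_pow_smul_eq_bot (I.ideal V) (IsNoetherian.noetherian _) _ ?_ ?_
  · rw [LinearMap.range_eq_map]
    exact Submodule.FG.map _ Module.Finite.fg_top
  · rintro f hf _ ⟨p, rfl⟩
    apply Groth.Agent.Lib.Helper2.QCoh.exists_pow_smul_eq_zero V.2 F f
    change F.presheaf.map (homOfLE (X.basicOpen_le f)).op (ψ.app V.1 p) = 0
    rw [← Groth.Agent.Lib.Helper23.Extend.app_map ψ (homOfLE (X.basicOpen_le f)) p]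
    exact app_eq_zero_of_restrict_eq_zero ψ U hψ _ (basicOpen_le_of_mem_ideal I U hU V f hf) _

/-- the inclusion `I^N G ⟶ I^n G` for `n ≤ N` -/
theorem exists_idealMul_le (I : X.IdealSheafData) (G : X.Modules) [G.IsQuasicoherent] {n N : ℕ}
    (h : n ≤ N) : ∃ ι : (Dual3.idealMul (I ^ N)).obj G ⟶ (Dual3.idealMul (I ^ n)).obj G,
      ι ≫ Dual3.idealMulι (I ^ n) G = Dual3.idealMulι (I ^ N) G := by
  haveI := isQuasicoherent_idealMul (I ^ N) G
  refine exists_factor_of_sections (Dual3.idealMulι (I ^ N) G) (Dual3.idealMulι (I ^ n) G)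
    (fun V : X.affineOpens => V.1) (fun V => V.2) (fun x => ?_) (fun V s => ?_)
  · obtain ⟨W, hW, hx, -⟩ := (Opens.isBasis_iff_nbhd.1 X.isBasis_affineOpens) (Opens.mem_top x)
    exact ⟨⟨W, hW⟩, hx⟩
  · have h1 : (Dual3.idealMulι (I ^ N) G).app V.1 s ∈
        ((I ^ N).ideal V) • (⊤ : Submodule Γ(X, V.1) Γ(G, V.1)) :=
      (exists_idealMulι_app_iff (I ^ N) G V _).1 ⟨s, rfl⟩
    have h2 : ((I ^ N).ideal V) • (⊤ : Submodule Γ(X, V.1) Γ(G, V.1)) ≤
        ((I ^ n).ideal V) • (⊤ : Submodule Γ(X, V.1) Γ(G, V.1)) :=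
      Submodule.smul_mono_left (Ideal.pow_le_pow_right h)
    exact (exists_idealMulι_app_iff (I ^ n) G V _).2 (h2 h1)

/-- sections of `I^(n+M) G`, viewed in `I^n G`, lie in `I^M · Γ(I^n G, V)` -/
theorem app_mem_pow_smul_top (I : X.IdealSheafData) (G : X.Modules) [G.IsQuasicoherent] (n M : ℕ)
    (ι : (Dual3.idealMul (I ^ (n + M))).obj G ⟶ (Dual3.idealMul (I ^ n)).obj G)
    (hι : ι ≫ Dual3.idealMulι (I ^ n) G = Dual3.idealMulι (I ^ (n + M)) G) (V : X.affineOpens)
    (t : Γ((Dual3.idealMul (I ^ (n + M))).obj G, V.1)) :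
    ι.app V.1 t ∈ (I.ideal V) ^ M • (⊤ : Submodule Γ(X, V.1) Γ((Dual3.idealMul (I ^ n)).obj G, V.1)) := by
  have h1 : (Dual3.idealMulι (I ^ (n + M)) G).app V.1 t ∈
      ((I ^ (n + M)).ideal V) • (⊤ : Submodule Γ(X, V.1) Γ(G, V.1)) :=
    (exists_idealMulι_app_iff (I ^ (n + M)) G V _).1 ⟨t, rfl⟩
  have h2 : ((I ^ (n + M)).ideal V) • (⊤ : Submodule Γ(X, V.1) Γ(G, V.1)) =
      ((I.ideal V) ^ M • (⊤ : Submodule Γ(X, V.1) Γ((Dual3.idealMul (I ^ n)).obj G, V.1))).map
        (appL (Dual3.idealMulι (I ^ n) G) V.1) := by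
    rw [Submodule.map_smul'', Submodule.map_top, range_appL_idealMulι, ← Submodule.mul_smul]
    congr 1
    change (I.ideal V) ^ (n + M) = (I.ideal V) ^ M * (I.ideal V) ^ n
    rw [← pow_add, add_comm]
  rw [h2] at h1
  obtain ⟨y, hy, hy'⟩ := h1
  have h3 : y = ι.app V.1 t := by
    apply injective_app_of_mono (Dual3.idealMulι (I ^ n) G) V.1
    rw [← comp_app_apply ι (Dual3.idealMulι (I ^ n) G), hι]
    exact hy'
  rw [← h3]
  exact hy

end Groth.Agent.Lib.LeadDeligne
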