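import Mathlib
import Groth.Agent.Lib.LeadDeligne3
import Groth.Agent.Lib.Helper23Serre
import Groth.Agent.Lib.Helper23SecTw3
import Groth.Agent.Lib.LeadPicFF4

/-!
# Sections lying in every `I^n F` (lead)

* `mem_pow_smul_top_of_res_eq_zero` : a section over an affine open `W` vanishing on `W ∩ V`, `V ⊇ V(I)`, lies in
  `I(W)^n • Γ(F, W)` for every `n`.
* `exists_idealMul_section_of_res_eq_zero` : a global section vanishing on a neighbourhood of `V(I)` is a section of
  `I^n F` for every `n`.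
* `exists_open_res_eq_zero_of_forall_mem` : (Krull) on a locally Noetherian scheme, a global section of a coherent
  module lying in every `I^n F` vanishes on a neighbourhood of `V(I)`.
-/

set_option autoImplicit false
set_option linter.style.haveILetI false
universe u
open CategoryTheory CategoryTheory.Limits AlgebraicGeometry Opposite TopologicalSpace

namespace Groth.Agent.Lib.LeadDeligne

open Groth.Agent.Lib.Helper17.GrSysCoh Groth.Agent.Lib.Helper27AmpleGlue
  Groth.Agent.Lib.Helper20.StalkExact Groth.Agent.Lib.Helper23.SecTw Groth.Agent.Lib.Helper6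
  Groth.Agent.Lib.Helper23.GenLocus

variable {X : Scheme.{u}}

theorem mem_pow_smul_top_of_res_eq_zero (I : X.IdealSheafData) (F : X.Modules) [F.IsQuasicoherent]
    (W : X.affineOpens) (V : X.Opens) (hV : (I.support : Set X) ⊆ V) (x : Γ(F, W.1))
    (hx : F.presheaf.map (homOfLE (inf_le_left : W.1 ⊓ V ≤ W.1)).op x = 0) (n : ℕ) :
    x ∈ (I.ideal W) ^ n • (⊤ : Submodule Γ(X, W.1) Γ(F, W.1)) := by
  let b : Ideal Γ(X, W.1) := LinearMap.ker (LinearMap.toSpanSingleton Γ(X, W.1) Γ(F, W.1) x)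
  have hb : ∀ g : Γ(X, W.1), g ∈ b ↔ g • x = 0 := by
    intro g
    rw [LinearMap.mem_ker, LinearMap.toSpanSingleton_apply]
  have hsup : I.ideal W ⊔ b = ⊤ := by
    by_contra hne
    obtain ⟨m, hm, hle⟩ := Ideal.exists_le_maximal _ hne
    let p : PrimeSpectrum Γ(X, W.1) := ⟨m, hm.isPrime⟩
    let y : X := W.2.fromSpec p
    have hyW : y ∈ W.1 := by
      have h1 : y ∈ Set.range W.2.fromSpec := Set.mem_range_self p
      rw [W.2.range_fromSpec] at h1
      exact h1
    have hmem : ∀ f : Γ(X, W.1), y ∈ X.basicOpen f ↔ f ∉ m := by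
      intro f
      have h1 := W.2.fromSpec_preimage_basicOpen f
      have h2 : y ∈ X.basicOpen f ↔ p ∈ W.2.fromSpec ⁻¹ᵁ X.basicOpen f := Iff.rfl
      rw [h2, h1]
      rfl
    have hys : y ∈ (I.support : Set X) := by
      change y ∈ I.support
      rw [Scheme.IdealSheafData.mem_support_iff_of_mem hyW, Scheme.mem_zeroLocus_iff]
      intro f hf hyf
      exact (hmem f).1 hyf (hle (Ideal.mem_sup_left hf))
    have hyV : y ∈ V := hV hys
    obtain ⟨f, hfle, hyf⟩ := W.2.exists_basicOpen_le (V := W.1 ⊓ V) ⟨y, ⟨hyW, hyV⟩⟩ hyW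
    have hres : F.presheaf.map (homOfLE (X.basicOpen_le f)).op x = 0 := by
      have h1 : (homOfLE (X.basicOpen_le f)).op =
          (homOfLE (inf_le_left : W.1 ⊓ V ≤ W.1)).op ≫ (homOfLE hfle).op := rfl
      rw [h1, F.presheaf.map_comp, ConcreteCategory.comp_apply, hx, map_zero]
    obtain ⟨k, hk⟩ := Groth.Agent.Lib.Helper2.QCoh.exists_pow_smul_eq_zero W.2 F f x hres
    have h1 : f ^ k ∈ m := hle (Ideal.mem_sup_right ((hb _).2 hk))
    exact (hmem f).1 hyf (hm.isPrime.mem_of_pow_mem k h1)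
  obtain ⟨r, hr, g, hg, hrg⟩ := Submodule.mem_sup.1 ((Ideal.eq_top_iff_one _).1 hsup)
  have hx1 : x = r • x := by
    calc x = (1 : Γ(X, W.1)) • x := (one_smul _ _).symm
      _ = (r + g) • x := by rw [hrg]
      _ = r • x + g • x := add_smul _ _ _
      _ = r • x := by rw [(hb g).1 hg, add_zero]
  induction n with
  | zero =>
    rw [pow_zero, Ideal.one_eq_top, Submodule.top_smul]
    exact Submodule.mem_top
  | succ n ih =>
    rw [hx1, pow_succ', Submodule.mul_smul]
    exact Submodule.smul_mem_smul hr ih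

/-- a global section vanishing on a neighbourhood of `V(I)` is a section of `I^n F` for every `n` -/
theorem exists_idealMul_section_of_res_eq_zero (I : X.IdealSheafData) (F : X.Modules) [F.IsQuasicoherent]
    (s : Γ(F, ⊤)) (V : X.Opens) (hV : (I.support : Set X) ⊆ V)
    (hs : F.presheaf.map (homOfLE (le_top : V ≤ ⊤)).op s = 0) (n : ℕ) :
    ∃ t : Γ((Dual3.idealMul (I ^ n)).obj F, ⊤), (Dual3.idealMulι (I ^ n) F).app ⊤ t = s := by
  haveI : (Coh.structureModule X).IsQuasicoherent :=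
    Groth.Agent.Lib.Helper23.Serre.isQuasicoherent_structureModule' X
  obtain ⟨c, hc⟩ := exists_factor_of_sections (secHom F s) (Dual3.idealMulι (I ^ n) F)
    (fun W : X.affineOpens => W.1) (fun W => W.2) (fun x => by
      obtain ⟨W, hW, hx, -⟩ := (Opens.isBasis_iff_nbhd.1 X.isBasis_affineOpens) (Opens.mem_top x)
      exact ⟨⟨W, hW⟩, hx⟩) (fun W g => by
      have h1 : (secHom F s).app W.1 g = (show Γ(X, W.1) from g) • sv (secHom F s) W.1 :=
        app_toS (secHom F s) W.1 g
      rw [h1, sv_secHom]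
      apply (exists_idealMulι_app_iff (I ^ n) F W _).2
      refine Submodule.smul_mem _ _ ?_
      refine mem_pow_smul_top_of_res_eq_zero I F W V hV _ ?_ n
      have h2 : F.presheaf.map (homOfLE (inf_le_left : W.1 ⊓ V ≤ W.1)).op
          (F.presheaf.map (homOfLE (le_top : W.1 ≤ ⊤)).op s) =
          F.presheaf.map (homOfLE (inf_le_right : W.1 ⊓ V ≤ V)).op
            (F.presheaf.map (homOfLE (le_top : V ≤ ⊤)).op s) := by
        rw [← ConcreteCategory.comp_apply, ← F.presheaf.map_comp, ← ConcreteCategory.comp_apply,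
          ← F.presheaf.map_comp]
        rfl
      exact h2.trans (by rw [hs, map_zero]))
  refine ⟨c.app ⊤ (toS ⊤ 1), ?_⟩
  rw [← comp_app_apply, hc]
  exact Groth.Agent.Lib.LeadPicFF.secHom_app_top F s

/-- Krull: a global section of a coherent module lying in every `I^n F` vanishes near `V(I)` -/
theorem exists_open_res_eq_zero_of_forall_mem [IsLocallyNoetherian X] (I : X.IdealSheafData)
    (F : X.Modules) (hF : Coh.IsCoh F) (s : Γ(F, ⊤))
    (h : ∀ n : ℕ, ∃ t : Γ((Dual3.idealMul (I ^ n)).obj F, ⊤), (Dual3.idealMulι (I ^ n) F).app ⊤ t = s) :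
    ∃ V : X.Opens, (I.support : Set X) ⊆ V ∧ F.presheaf.map (homOfLE (le_top : V ≤ ⊤)).op s = 0 := by
  haveI : F.IsQuasicoherent := hF.1
  haveI : SheafOfModules.IsFiniteType (R := X.ringCatSheaf) F := hF.2
  have hex : ∀ W : X.affineOpens, ∃ r : Γ(X, W.1), r ∈ I.ideal W ∧
      r • F.presheaf.map (homOfLE (le_top : W.1 ≤ ⊤)).op s = F.presheaf.map (homOfLE (le_top : W.1 ≤ ⊤)).op s := by
    intro W
    haveI : IsNoetherianRing Γ(X, W.1) := IsLocallyNoetherian.component_noetherian W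
    haveI : Module.Finite Γ(X, W.1) Γ(F, W.1) :=
      Groth.Agent.Lib.Helper23.FinType.finite_of_isFiniteType F W.2
    have hmem : F.presheaf.map (homOfLE (le_top : W.1 ≤ ⊤)).op s ∈
        (⨅ i : ℕ, (I.ideal W) ^ i • ⊤ : Submodule Γ(X, W.1) Γ(F, W.1)) := by
      rw [Submodule.mem_iInf]
      intro i
      obtain ⟨t, ht⟩ := h i
      have h1 : F.presheaf.map (homOfLE (le_top : W.1 ≤ ⊤)).op s =
          (Dual3.idealMulι (I ^ i) F).app W.1
            (((Dual3.idealMul (I ^ i)).obj F).presheaf.map (homOfLE (le_top : W.1 ≤ ⊤)).op t) := by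
        rw [Groth.Agent.Lib.Helper23.Extend.app_map, ht]
      rw [h1]
      exact (exists_idealMulι_app_iff (I ^ i) F W _).1 ⟨_, rfl⟩
    obtain ⟨r, hr⟩ := (Ideal.mem_iInf_smul_pow_eq_bot_iff (I.ideal W) _).1 hmem
    exact ⟨r.1, r.2, hr⟩
  choose r hrI hr using hex
  refine ⟨⨆ W : X.affineOpens, X.basicOpen (1 - r W), ?_, ?_⟩
  · intro y hy
    obtain ⟨W, hW, hyW, -⟩ := (Opens.isBasis_iff_nbhd.1 X.isBasis_affineOpens) (Opens.mem_top y)
    have h1 : y ∈ X.zeroLocus (U := W) (I.ideal ⟨W, hW⟩ : Set Γ(X, W)) :=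
      (Scheme.IdealSheafData.mem_support_iff_of_mem (U := ⟨W, hW⟩) hyW).1 hy
    rw [Scheme.mem_zeroLocus_iff] at h1
    have h2 : y ∉ X.basicOpen (r ⟨W, hW⟩) := h1 _ (hrI ⟨W, hW⟩)
    rw [Scheme.mem_basicOpen _ _ _ hyW] at h2
    have h3 : y ∈ X.basicOpen (1 - r ⟨W, hW⟩) := by
      rw [Scheme.mem_basicOpen _ _ _ hyW, map_sub, map_one]
      exact IsLocalRing.isUnit_one_sub_self_of_mem_nonunits _ h2
    exact Opens.mem_iSup.2 ⟨⟨W, hW⟩, h3⟩
  · refine F.isSheaf.section_ext (U := op (⨆ W : X.affineOpens, X.basicOpen (1 - r W))) fun y hy => ?_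
    obtain ⟨W, hyD⟩ := Opens.mem_iSup.1 hy
    have hle : X.basicOpen (1 - r W) ≤ ⨆ W : X.affineOpens, X.basicOpen (1 - r W) :=
      le_iSup (fun W : X.affineOpens => X.basicOpen (1 - r W)) W
    refine ⟨X.basicOpen (1 - r W), hle, hyD, ?_⟩
    rw [map_zero]
    have h1 : F.presheaf.map (homOfLE hle).op (F.presheaf.map (homOfLE (le_top : _ ≤ ⊤)).op s) =
        F.presheaf.map (homOfLE (X.basicOpen_le (1 - r W))).op
          (F.presheaf.map (homOfLE (le_top : W.1 ≤ ⊤)).op s) := by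
      rw [← ConcreteCategory.comp_apply, ← F.presheaf.map_comp, ← ConcreteCategory.comp_apply,
        ← F.presheaf.map_comp]
      rfl
    rw [h1]
    have h2 : (1 - r W) • F.presheaf.map (homOfLE (le_top : W.1 ≤ ⊤)).op s = 0 := by
      rw [sub_smul, one_smul, hr W, sub_self]
    have h3 := congrArg (F.presheaf.map (homOfLE (X.basicOpen_le (1 - r W))).op) h2
    rw [Scheme.Modules.map_smul, map_zero] at h3
    have hu : IsUnit (X.presheaf.map (homOfLE (X.basicOpen_le (1 - r W))).op (1 - r W)) :=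
      X.toRingedSpace.isUnit_res_basicOpen (1 - r W)
    obtain ⟨u, hu'⟩ := hu
    rw [← hu'] at h3
    have h4 := congrArg (fun z => (↑u⁻¹ : Γ(X, X.basicOpen (1 - r W))) • z) h3
    simp only [smul_zero] at h4
    rw [← mul_smul, Units.inv_mul, one_smul] at h4
    exact h4

end Groth.Agent.Lib.LeadDeligne
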