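import Mathlib

/-!
# Lead: a complex of injectives which is exact in low degrees (abstract homological algebra)

`J` a cochain complex (indexed by `ℕ`) of injective objects of an abelian category, exact in degrees
`≤ p`.  Then all `Z^j(J)`, `j ≤ p`, are injective, `Z^(p+1) ⟶ H^(p+1)` has a section, and every
`h : F ⟶ Z^(p+1)` killed by `homologyπ` lifts along `toCycles` to `J^p`.
-/

set_option autoImplicit false
universe v u
open CategoryTheory CategoryTheory.Limits

namespace Groth.Agent.LeadDz

variable {𝒜 : Type u} [Category.{v} 𝒜] [Abelian 𝒜]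

/-- the zero object is injective. -/
theorem injective_of_isZero {Z : 𝒜} (hZ : IsZero Z) : Injective Z :=
  ⟨fun {A B} g f _ => ⟨0, by rw [comp_zero]; exact (hZ.eq_of_tgt _ _)⟩⟩

/-- a retract of an injective object is injective. -/
theorem injective_of_retract {A B : 𝒜} (σ : B ⟶ A) (t : A ⟶ B) (h : σ ≫ t = 𝟙 B)
    [Injective A] : Injective B :=
  ⟨fun {U V} g f _ => ⟨Injective.factorThru (g ≫ σ) f ≫ t, by
    rw [← Category.assoc, Injective.comp_factorThru, Category.assoc, h, Category.comp_id]⟩⟩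

/-- an epimorphism from an injective object whose kernel is injective has a section. -/
theorem exists_section_of_injective_kernel {K A B : 𝒜} (i : K ⟶ A) (t : A ⟶ B) [Epi t]
    (w : i ≫ t = 0) (hK : IsLimit (KernelFork.ofι i w)) [Injective K] :
    ∃ σ : B ⟶ A, σ ≫ t = 𝟙 B := by
  haveI : Mono i := mono_of_isLimit_fork hK
  let r : A ⟶ K := Injective.factorThru (𝟙 K) i
  have hr : i ≫ r = 𝟙 K := Injective.comp_factorThru _ _
  let e : A ⟶ A := 𝟙 A - r ≫ i
  have he : i ≫ e = 0 := by
    change i ≫ (𝟙 A - r ≫ i) = 0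
    rw [Preadditive.comp_sub, Category.comp_id, ← Category.assoc, hr, Category.id_comp, sub_self]
  have hc : IsColimit (CokernelCofork.ofπ t w) := Abelian.epiIsCokernelOfKernel _ hK
  obtain ⟨σ, hσ⟩ := CokernelCofork.IsColimit.desc' hc e he
  refine ⟨σ, ?_⟩
  rw [← cancel_epi t]
  have hσ' : t ≫ σ = e := hσ
  rw [← Category.assoc, hσ', Category.comp_id]
  change (𝟙 A - r ≫ i) ≫ t = t
  rw [Preadditive.sub_comp, Category.id_comp, Category.assoc, w, comp_zero, sub_zero]

/-- an epimorphic image of an injective object with injective kernel is injective. -/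
theorem injective_of_epi_of_injective_kernel {K A B : 𝒜} (i : K ⟶ A) (t : A ⟶ B) [Epi t]
    (w : i ≫ t = 0) (hK : IsLimit (KernelFork.ofι i w)) [Injective K] [Injective A] :
    Injective B := by
  obtain ⟨σ, hσ⟩ := exists_section_of_injective_kernel i t w hK
  exact injective_of_retract σ t hσ

section Abstract

variable {K A Z H : 𝒜} (i : K ⟶ A) (t : A ⟶ Z) (π : Z ⟶ H) (w : i ≫ t = 0)
  (hK : IsLimit (KernelFork.ofι i w)) (wπ : t ≫ π = 0)
  (hH : IsColimit (CokernelCofork.ofπ π wπ)) [Injective A] [Injective K]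

include hK in
/-- the coimage of `t` splits off on both sides. -/
theorem exists_splitting_data :
    ∃ (Q : 𝒜) (q : A ⟶ Q) (t' : Q ⟶ Z) (σq : Q ⟶ A) (r' : Z ⟶ Q),
      q ≫ t' = t ∧ σq ≫ q = 𝟙 Q ∧ t' ≫ r' = 𝟙 Q ∧ Epi q := by
  let Q := Abelian.coimage t
  let q : A ⟶ Q := Abelian.coimage.π t
  let t' : Q ⟶ Z := Abelian.factorThruCoimage t
  have hqt : q ≫ t' = t := Abelian.coimage.fac t
  haveI : Mono t' := inferInstance
  have wq : i ≫ q = 0 := by
    rw [← cancel_mono t', Category.assoc, hqt, zero_comp]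
    exact w
  have hKq : IsLimit (KernelFork.ofι i wq) :=
    KernelFork.IsLimit.ofι _ _
      (fun {W} x hx => hK.lift (KernelFork.ofι x (by
        rw [← hqt, ← Category.assoc, hx, zero_comp])))
      (fun {W} x hx => hK.fac (KernelFork.ofι x _) WalkingParallelPair.zero)
      (fun {W} x hx m hm => by
        haveI : Mono i := mono_of_isLimit_fork hK
        rw [← cancel_mono i, hm]
        exact (hK.fac (KernelFork.ofι x _) WalkingParallelPair.zero).symm)
  obtain ⟨σq, hσq⟩ := exists_section_of_injective_kernel i q wq hKq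
  haveI : Injective Q := injective_of_retract σq q hσq
  exact ⟨Q, q, t', σq, Injective.factorThru (𝟙 Q) t', hqt, hσq, Injective.comp_factorThru _ _,
    inferInstance⟩

include hK hH in
/-- `Z ⟶ H` has a section. -/
theorem exists_section_of_cokernel : ∃ s : H ⟶ Z, s ≫ π = 𝟙 _ := by
  obtain ⟨Q, q, t', σq, r', hqt, hσq, hr', hq⟩ := exists_splitting_data i t w hK
  haveI : Epi π := epi_of_isColimit_cofork hH
  have ht'π : t' ≫ π = 0 := by
    rw [← cancel_epi q, ← Category.assoc, hqt, wπ, comp_zero]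
  let p : Z ⟶ Z := 𝟙 _ - r' ≫ t'
  have hp : t ≫ p = 0 := by
    change t ≫ (𝟙 _ - r' ≫ t') = 0
    rw [Preadditive.comp_sub, Category.comp_id, ← hqt, Category.assoc, ← Category.assoc t',
      hr', Category.id_comp, sub_self]
  obtain ⟨s, hs⟩ := CokernelCofork.IsColimit.desc' hH p hp
  have hs' : π ≫ s = p := hs
  refine ⟨s, ?_⟩
  rw [← cancel_epi π, ← Category.assoc, hs', Category.comp_id]
  change (𝟙 _ - r' ≫ t') ≫ π = _
  rw [Preadditive.sub_comp, Category.id_comp, Category.assoc, ht'π, comp_zero, sub_zero]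

include hK hH in
/-- a map to `Z` killed by `π` lifts to `A`. -/
theorem exists_lift_of_comp_eq_zero {F : 𝒜} (h : F ⟶ Z) (hh : h ≫ π = 0) :
    ∃ k : F ⟶ A, k ≫ t = h := by
  obtain ⟨Q, q, t', σq, r', hqt, hσq, hr', hq⟩ := exists_splitting_data i t w hK
  let p : Z ⟶ Z := 𝟙 _ - r' ≫ t'
  have hp : t ≫ p = 0 := by
    change t ≫ (𝟙 _ - r' ≫ t') = 0
    rw [Preadditive.comp_sub, Category.comp_id, ← hqt, Category.assoc, ← Category.assoc t',
      hr', Category.id_comp, sub_self]
  obtain ⟨s, hs⟩ := CokernelCofork.IsColimit.desc' hH p hp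
  have hs' : π ≫ s = p := hs
  have hhp : h ≫ p = 0 := by rw [← hs', ← Category.assoc, hh, zero_comp]
  have hh2 : h = h ≫ r' ≫ t' := by
    have : h ≫ (𝟙 _ - r' ≫ t') = 0 := hhp
    rw [Preadditive.comp_sub, Category.comp_id, sub_eq_zero] at this
    exact this
  refine ⟨h ≫ r' ≫ σq, ?_⟩
  rw [← hqt, Category.assoc, Category.assoc, ← Category.assoc σq, hσq, Category.id_comp]
  exact hh2.symm

end Abstract

section Complex

variable (J : CochainComplex 𝒜 ℕ)

/-- `Z^j ⟶ J^j` is a kernel of `toCycles : J^j ⟶ Z^(j+1)`. -/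
noncomputable def iCyclesIsKernelToCycles (j : ℕ) :
    IsLimit (KernelFork.ofι (J.iCycles j) (show J.iCycles j ≫ J.toCycles j (j + 1) = 0 by
      rw [← cancel_mono (J.iCycles (j + 1)), Category.assoc, J.toCycles_i, J.iCycles_d,
        zero_comp])) :=
  KernelFork.IsLimit.ofι _ _
    (fun {W} x hx => J.liftCycles x (j + 1) (by simp) (by
      have : x ≫ J.toCycles j (j + 1) ≫ J.iCycles (j + 1) = 0 := by
        rw [← Category.assoc, hx, zero_comp]
      rwa [J.toCycles_i] at this))
    (fun {W} x hx => J.liftCycles_i _ _ _ _)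
    (fun {W} x hx m hm => by
      rw [← cancel_mono (J.iCycles j), hm, J.liftCycles_i])

variable (hJ : ∀ j, Injective (J.X j))

include hJ in
/-- the cycles of a complex of injectives are injective as long as the complex is exact. -/
theorem injective_cycles (p : ℕ) (hex : ∀ j, j ≤ p → J.ExactAt j) :
    ∀ j, j ≤ p → Injective (J.cycles j) := by
  intro j
  induction j with
  | zero =>
    intro _
    have h0 : IsZero (J.homology 0) := (hex 0 (Nat.zero_le _)).isZero_homology
    exact injective_of_isZero (h0.of_iso J.isoHomologyπ₀)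
  | succ j ih =>
    intro hj
    haveI := ih (by omega)
    haveI := hJ j
    have hex' : J.ExactAt (j + 1) := hex (j + 1) hj
    haveI : Epi (J.toCycles j (j + 1)) := by
      have h0 : IsZero (J.homology (j + 1)) := hex'.isZero_homology
      have hc := J.homologyIsCokernel j (j + 1) (by simp)
      refine ⟨fun {W} a b hab => ?_⟩
      have hd : J.toCycles j (j + 1) ≫ (a - b) = 0 := by
        rw [Preadditive.comp_sub, hab, sub_self]
      obtain ⟨l, hl⟩ := CokernelCofork.IsColimit.desc' hc (a - b) hd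
      have hl' : J.homologyπ (j + 1) ≫ l = a - b := hl
      have : l = 0 := h0.eq_of_src _ _
      rw [this, comp_zero] at hl'
      exact (sub_eq_zero.1 hl'.symm)
    exact injective_of_epi_of_injective_kernel (J.iCycles j) (J.toCycles j (j + 1)) _
      (iCyclesIsKernelToCycles J j)

include hJ in
/-- `Z^(p+1) ⟶ H^(p+1)` has a section when `J` is exact in degrees `≤ p`. -/
theorem exists_section_homologyπ (p : ℕ) (hex : ∀ j, j ≤ p → J.ExactAt j) :
    ∃ s : J.homology (p + 1) ⟶ J.cycles (p + 1), s ≫ J.homologyπ (p + 1) = 𝟙 _ := by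
  haveI := hJ p
  haveI := injective_cycles J hJ p hex p le_rfl
  exact exists_section_of_cokernel (J.iCycles p) (J.toCycles p (p + 1)) (J.homologyπ (p + 1)) _
    (iCyclesIsKernelToCycles J p) (J.toCycles_comp_homologyπ p (p + 1))
    (J.homologyIsCokernel p (p + 1) (by simp))

include hJ in
/-- a map to `Z^(p+1)` killed by `homologyπ` lifts to `J^p`. -/
theorem exists_lift_of_comp_homologyπ_eq_zero (p : ℕ) (hex : ∀ j, j ≤ p → J.ExactAt j)
    {F : 𝒜} (h : F ⟶ J.cycles (p + 1)) (hh : h ≫ J.homologyπ (p + 1) = 0) :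
    ∃ k : F ⟶ J.X p, k ≫ J.toCycles p (p + 1) = h := by
  haveI := hJ p
  haveI := injective_cycles J hJ p hex p le_rfl
  exact exists_lift_of_comp_eq_zero (J.iCycles p) (J.toCycles p (p + 1)) (J.homologyπ (p + 1)) _
    (iCyclesIsKernelToCycles J p) (J.toCycles_comp_homologyπ p (p + 1))
    (J.homologyIsCokernel p (p + 1) (by simp)) h hh

end Complex

end Groth.Agent.LeadDz
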