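import Mathlib
import Groth.Agent.Lib.LeadDzA

/-!
# Lead: `Ext^c(L F, N) ≃ Hom(F, R^c R(N))` for an adjunction `L ⊣ R` with `L` exact, when the lower
derived functors of `R` vanish at `N` (abstract form, through an injective resolution of `N`)
-/

set_option autoImplicit false
universe w v₁ v₂ u₁ u₂
open CategoryTheory CategoryTheory.Limits Abelian

namespace Groth.Agent.LeadDz

variable {𝒞 : Type u₁} [Category.{v₁} 𝒞] [Abelian 𝒞] {𝒟 : Type u₂} [Category.{v₂} 𝒟] [Abelian 𝒟]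
  {L : 𝒞 ⥤ 𝒟} {R : 𝒟 ⥤ 𝒞} (adj : L ⊣ R) [L.Additive] [R.Additive]
  {N : 𝒟} (I : InjectiveResolution N)

/-- the complex `R(I^•)`. -/
noncomputable abbrev RI : CochainComplex 𝒞 ℕ :=
  (R.mapHomologicalComplex (ComplexShape.up ℕ)).obj I.cocomplex

/-- transposition of a map to `R(I^j)`. -/
noncomputable def tr {F : 𝒞} (j : ℕ) (g : F ⟶ (RI (R := R) I).X j) :
    L.obj F ⟶ I.cocomplex.X j :=
  (adj.homEquiv F (I.cocomplex.X j)).symm g

theorem tr_d {F : 𝒞} (j j' : ℕ) (g : F ⟶ (RI (R := R) I).X j) :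
    tr adj I j g ≫ I.cocomplex.d j j' = tr adj I j' (g ≫ (RI (R := R) I).d j j') :=
  (Adjunction.homEquiv_naturality_right_symm adj g (I.cocomplex.d j j')).symm

theorem map_tr {F F' : 𝒞} (φ : F' ⟶ F) (j : ℕ) (g : F ⟶ (RI (R := R) I).X j) :
    L.map φ ≫ tr adj I j g = tr adj I j (φ ≫ g) :=
  (Adjunction.homEquiv_naturality_left_symm adj φ g).symm

theorem tr_sub {F : 𝒞} (j : ℕ) (g g' : F ⟶ (RI (R := R) I).X j) :
    tr adj I j (g - g') = tr adj I j g - tr adj I j g' :=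
  adj.homAddEquiv_symm_sub _ _ g g'

theorem tr_zero {F : 𝒞} (j : ℕ) : tr adj I j (0 : F ⟶ (RI (R := R) I).X j) = 0 :=
  adj.homAddEquiv_symm_zero _ _

theorem tr_injective {F : 𝒞} (j : ℕ) :
    Function.Injective (tr adj I j : (F ⟶ (RI (R := R) I).X j) → _) :=
  (adj.homEquiv F (I.cocomplex.X j)).symm.injective

theorem tr_surjective {F : 𝒞} (j : ℕ) (f : L.obj F ⟶ I.cocomplex.X j) :
    ∃ g : F ⟶ (RI (R := R) I).X j, tr adj I j g = f :=
  ⟨adj.homEquiv F (I.cocomplex.X j) f, (adj.homEquiv F (I.cocomplex.X j)).symm_apply_apply f⟩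

variable [L.PreservesMonomorphisms]

include adj in
theorem injective_RI_X (j : ℕ) : Injective ((RI (R := R) I).X j) :=
  Injective.injective_of_adjoint adj _

variable [HasExt.{w} 𝒟] (p : ℕ) (hex : ∀ j, j ≤ p → (RI (R := R) I).ExactAt j)

include adj hex in
/-- **the fundamental class**: there is `ε ∈ Ext^(p+1)(L(H^(p+1)(R I)), N)` such that
`φ ↦ L(φ) ≫ ε` is a bijection `Hom(F, H^(p+1)(R I)) ≃ Ext^(p+1)(L F, N)` for every `F`. -/
theorem exists_fundamental_class :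
    ∃ ε : Ext.{w} (L.obj ((RI (R := R) I).homology (p + 1))) N (p + 1), ∀ F : 𝒞,
      Function.Bijective (fun φ : F ⟶ (RI (R := R) I).homology (p + 1) =>
        (Ext.mk₀ (L.map φ)).comp ε (zero_add (p + 1))) := by
  set J := RI (R := R) I with hJdef
  have hJ : ∀ j, Injective (J.X j) := injective_RI_X adj I
  obtain ⟨s, hs⟩ := exists_section_homologyπ J hJ p hex
  have hlift := fun {F : 𝒞} (h : F ⟶ J.cycles (p + 1)) hh =>
    exists_lift_of_comp_homologyπ_eq_zero J hJ p hex h hh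
  -- transposition of cocycles
  have key : ∀ {F : 𝒞} (g : F ⟶ J.X (p + 1)), g ≫ J.d (p + 1) (p + 2) = 0 →
      tr adj I (p + 1) g ≫ I.cocomplex.d (p + 1) (p + 2) = 0 := by
    intro F g hg
    rw [tr_d, hg, tr_zero]
  let z : J.homology (p + 1) ⟶ J.X (p + 1) := s ≫ J.iCycles (p + 1)
  have hz : z ≫ J.d (p + 1) (p + 2) = 0 := by
    change (s ≫ J.iCycles (p + 1)) ≫ _ = 0
    rw [Category.assoc, J.iCycles_d, comp_zero]
  let ε : Ext.{w} (L.obj (J.homology (p + 1))) N (p + 1) :=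
    I.extMk (tr adj I (p + 1) z) (p + 2) rfl (key z hz)
  have hφz : ∀ {F : 𝒞} (φ : F ⟶ J.homology (p + 1)), (φ ≫ z) ≫ J.d (p + 1) (p + 2) = 0 := by
    intro F φ
    rw [Category.assoc, hz, comp_zero]
  have hε : ∀ {F : 𝒞} (φ : F ⟶ J.homology (p + 1)),
      (Ext.mk₀ (L.map φ)).comp ε (zero_add (p + 1)) =
        I.extMk (tr adj I (p + 1) (φ ≫ z)) (p + 2) rfl (key _ (hφz φ)) := by
    intro F φ
    change (Ext.mk₀ (L.map φ)).comp (I.extMk _ _ _ _) _ = _
    rw [InjectiveResolution.mk₀_comp_extMk]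
    congr 1
    exact map_tr adj I φ (p + 1) z
  refine ⟨ε, fun F => ⟨?_, ?_⟩⟩
  · intro φ₁ φ₂ h
    change (Ext.mk₀ (L.map φ₁)).comp ε _ = (Ext.mk₀ (L.map φ₂)).comp ε _ at h
    rw [hε, hε, ← sub_eq_zero, InjectiveResolution.sub_extMk,
      InjectiveResolution.extMk_eq_zero_iff _ _ _ _ _ p rfl] at h
    obtain ⟨g, hg⟩ := h
    obtain ⟨g₀, rfl⟩ := tr_surjective adj I p g
    rw [tr_d, ← tr_sub, ← Preadditive.sub_comp] at hg
    have h1 : g₀ ≫ J.d p (p + 1) = (φ₁ - φ₂) ≫ z := tr_injective adj I (p + 1) hg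
    have h2 : g₀ ≫ J.toCycles p (p + 1) = (φ₁ - φ₂) ≫ s := by
      rw [← cancel_mono (J.iCycles (p + 1)), Category.assoc, J.toCycles_i, h1, Category.assoc]
    have h3 : (φ₁ - φ₂) ≫ s ≫ J.homologyπ (p + 1) = 0 := by
      rw [← Category.assoc, ← h2, Category.assoc, J.toCycles_comp_homologyπ, comp_zero]
    rw [hs, Category.comp_id] at h3
    exact sub_eq_zero.1 h3
  · intro e
    obtain ⟨f, hf, rfl⟩ := I.extMk_surjective e (p + 2) rfl
    obtain ⟨g, rfl⟩ := tr_surjective adj I (p + 1) f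
    have hg : g ≫ J.d (p + 1) (p + 2) = 0 := by
      apply tr_injective adj I (p + 2)
      rw [← tr_d, hf, tr_zero]
    let g' : F ⟶ J.cycles (p + 1) := J.liftCycles g (p + 2) (by simp) hg
    have hg' : g' ≫ J.iCycles (p + 1) = g := J.liftCycles_i _ _ _ _
    let φ : F ⟶ J.homology (p + 1) := g' ≫ J.homologyπ (p + 1)
    refine ⟨φ, ?_⟩
    change (Ext.mk₀ (L.map φ)).comp ε _ = _
    rw [hε, ← sub_eq_zero, InjectiveResolution.sub_extMk,
      InjectiveResolution.extMk_eq_zero_iff _ _ _ _ _ p rfl]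
    -- the difference is a coboundary
    let h : F ⟶ J.cycles (p + 1) := φ ≫ s - g'
    have hh : h ≫ J.homologyπ (p + 1) = 0 := by
      change (φ ≫ s - g') ≫ _ = 0
      rw [Preadditive.sub_comp, Category.assoc, hs, Category.comp_id, sub_self]
    obtain ⟨k, hk⟩ := hlift h hh
    refine ⟨tr adj I p k, ?_⟩
    rw [tr_d, ← tr_sub]
    congr 1
    rw [← J.toCycles_i p (p + 1), ← Category.assoc, hk]
    change (φ ≫ s - g') ≫ J.iCycles (p + 1) = _
    rw [Preadditive.sub_comp, Category.assoc, hg']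

end Groth.Agent.LeadDz
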