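import Mathlib
import Groth.Agent.Lib.Helper20StkBridge
import Groth.Agent.Lib.Helper1ClProjB
import Groth.Agent.Lib.Helper4DevI

/-!
# Lead: `ℋom(ι_* O_X, Q)` lies in the essential image of `ι_*` for a closed immersion `ι`
-/

set_option autoImplicit false
set_option linter.style.haveILetI false
universe u
open CategoryTheory CategoryTheory.Limits AlgebraicGeometry TopologicalSpace Opposite Abelian

namespace Groth.Agent.LeadDz

open Groth.Agent.Lib.Helper1.PT Groth.Agent.Lib.Helper1.Sky Groth.Agent.Lib.Helper1.StalkTensor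
  Groth.Agent.Lib.Helper1.ClProj

variable {X P : Scheme.{u}} (ι : X ⟶ P)

/-- goodness is invariant under isomorphism. -/
theorem good_of_iso {A B : P.Modules} (e : A ≅ B) (h : Good ι A) : Good ι B := by
  refine ⟨fun x hx => ?_, fun z r hr b => ?_⟩
  · haveI : Subsingleton ↑((stalkFun x).obj A) := h.1 x hx
    exact ((stalkFun x).mapIso e).symm.toLinearEquiv.toEquiv.subsingleton
  · let E := ((stalkFun (ι.base z)).mapIso e).toLinearEquiv
    obtain ⟨a, rfl⟩ := E.surjective b
    have h1 : r • E a = E (r • a) := (E.map_smul r a).symm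
    have h2 : r • a = 0 := h.2 z r hr a
    exact h1.trans ((congrArg E h2).trans (map_zero E))

variable [IsClosedImmersion ι]

/-- the module `ι_* O_X`. -/
noncomputable abbrev MO : P.Modules := (Scheme.Modules.pushforward ι).obj (Coh.structureModule X)

theorem ext_eq_zero_of_isZero_src {R : Type u} [CommRing R] (A B : ModuleCat.{u} R)
    (hA : IsZero A) (i : ℕ) (y : Ext.{u} A B i) : y = 0 := by
  have h2 : y = (Ext.mk₀ (𝟙 A)).comp y (zero_add i) := (Ext.mk₀_id_comp y).symm
  rw [h2, hA.eq_of_src (𝟙 A) 0, Ext.mk₀_zero, Ext.zero_comp]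

theorem smul_ext_eq_zero {R : Type u} [CommRing R] (A B : ModuleCat.{u} R) (r : R)
    (hr : ∀ a : A, r • a = 0) (i : ℕ) (y : Ext.{u} A B i) : r • y = 0 := by
  have h1 : r • 𝟙 A = 0 := by
    ext a
    exact hr a
  have h2 : y = (Ext.mk₀ (𝟙 A)).comp y (zero_add i) := (Ext.mk₀_id_comp y).symm
  rw [h2, ← Ext.smul_comp, ← Ext.mk₀_smul, h1, Ext.mk₀_zero, Ext.zero_comp]

variable [IsLocallyNoetherian P] [ModSite.HasSheafHom (O := P.sheaf) (MO ι)]
  [HasInjectiveResolutions (ModSite.Mod P.sheaf)]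

/-- `ℋom(ι_* O_X, Q)` is supported on `X` and killed by the ideal of `X`. -/
theorem good_sheafHom (Q : P.Modules) :
    Good ι ((ModSite.sheafHom (O := P.sheaf) (MO ι)).obj Q) := by
  haveI : IsLocallyNoetherian X := LocallyOfFiniteType.isLocallyNoetherian ι
  have hM : Coh.IsCoh (MO ι) := Groth.Agent.Lib.Helper4.Dev.isCoh_push_closed ι _
    (Groth.Agent.Lib.Helper4.Dev.isCoh_structureModule X)
  have hgM : Good ι (MO ι) := good_push ι _
  haveI : (ModSite.sheafHom (O := P.sheaf) (MO ι)).Additive :=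
    (ModSite.sheafHomAdj (O := P.sheaf) (MO ι)).right_adjoint_additive
  let e0 : (ModSite.extSh (O := P.sheaf) (MO ι) 0).obj Q ≅
      (ModSite.sheafHom (O := P.sheaf) (MO ι)).obj Q :=
    (ModSite.sheafHom (O := P.sheaf) (MO ι)).rightDerivedZeroIsoSelf.app Q
  refine good_of_iso ι e0 ⟨fun x hx => ?_, fun z r hr b => ?_⟩
  · obtain ⟨e⟩ := Groth.Agent.Lib.Helper20.StkBridge.nonempty_stalk_extSh_equiv P (MO ι) Q hM x 0
    haveI : Subsingleton ((MO ι).presheaf.stalk x) := hgM.1 x hx
    haveI : Subsingleton (Ext.{u} (ModuleCat.of (P.presheaf.stalk x) ((MO ι).presheaf.stalk x))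
        (ModuleCat.of (P.presheaf.stalk x) (Q.presheaf.stalk x)) 0) := by
      refine ⟨fun a b => ?_⟩
      have h0 : IsZero (ModuleCat.of (P.presheaf.stalk x) ((MO ι).presheaf.stalk x)) :=
        ModuleCat.isZero_of_subsingleton _
      rw [ext_eq_zero_of_isZero_src _ _ h0 0 a, ext_eq_zero_of_isZero_src _ _ h0 0 b]
    exact e.toEquiv.subsingleton
  · obtain ⟨e⟩ := Groth.Agent.Lib.Helper20.StkBridge.nonempty_stalk_extSh_equiv P (MO ι) Q hM
      (ι.base z) 0
    have h1 : e (r • b) = r • e b := map_smul e r b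
    have h2 : e (r • b) = 0 :=
      h1.trans (smul_ext_eq_zero _ _ r (fun a => hgM.2 z r hr a) 0 (e b))
    exact e.injective (h2.trans (map_zero e).symm)

end Groth.Agent.LeadDz
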