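import Mathlib
import Groth.Agent.Lib.LeadDzC
import Groth.Agent.Lib.Helper21ModTensor7

/-!
# Lead: the right adjoint `ι^♮ = ι^* ℋom(ι_* O_X, -)` of `ι_*` for a closed immersion `ι : X ⟶ P`
-/

set_option autoImplicit false
set_option linter.style.haveILetI false
universe u
open CategoryTheory CategoryTheory.Limits AlgebraicGeometry TopologicalSpace Opposite Abelian

namespace Groth.Agent.LeadDz

open Groth.Agent.Lib.Helper1.PT Groth.Agent.Lib.Helper1.Sky Groth.Agent.Lib.Helper1.StalkTensor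
  Groth.Agent.Lib.Helper1.ClProj Groth.Agent.Lib.Helper1.Proj
  Groth.Agent.Lib.Helper21.ModTensor3 Groth.Agent.Lib.Helper21.ModTensor5
  Groth.Agent.Lib.Helper21.ModTensor7

/-- `- ⊗ O ≅ 𝟭`, naturally. -/
noncomputable def tRUnitIso (X : Scheme.{u}) :
    (ModSite.tensorBi X.sheaf).flip.obj (Coh.structureModule X) ≅ 𝟭 X.Modules :=
  ((brd X.sheaf).app (Coh.structureModule X)).symm ≪≫ tLUnitIso X.sheaf

variable {X P : Scheme.{u}} (ι : X ⟶ P) [IsClosedImmersion ι]

/-- the projection formula `A ⊗ ι_* O_X ≅ ι_* ι^* A`, naturally in `A`. -/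
noncomputable def projIso :
    (ModSite.tensorBi P.sheaf).flip.obj (MO ι) ≅ plb ι ⋙ psh ι :=
  NatIso.ofComponents
    (fun A => @asIso _ _ _ _ (th ι A (Coh.structureModule X))
        (isIso_th_closedImmersion ι A (Coh.structureModule X)) ≪≫
      (psh ι).mapIso ((tRUnitIso X).app ((plb ι).obj A)))
    (fun {A A'} φ => by
      have h1 := th_naturality_left ι φ (Coh.structureModule X)
      have h2 := (tRUnitIso X).hom.naturality ((plb ι).map φ)
      change (DCoh.tensorBi.map φ).app ((psh ι).obj (Coh.structureModule X)) ≫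
        (th ι A' (Coh.structureModule X) ≫
          (psh ι).map ((tRUnitIso X).hom.app ((plb ι).obj A'))) =
        (th ι A (Coh.structureModule X) ≫
          (psh ι).map ((tRUnitIso X).hom.app ((plb ι).obj A))) ≫
            (psh ι).map ((plb ι).map φ)
      rw [← Category.assoc, h1, Category.assoc, Category.assoc, ← Functor.map_comp,
        ← Functor.map_comp]
      congr 2)

variable [IsLocallyNoetherian P] [ModSite.HasSheafHom (O := P.sheaf) (MO ι)]
  [HasInjectiveResolutions (ModSite.Mod P.sheaf)]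

/-- the right adjoint of `ι_*`. -/
noncomputable def ishriek : P.Modules ⥤ X.Modules :=
  ModSite.sheafHom (O := P.sheaf) (MO ι) ⋙ plb ι

instance isIso_unit_sheafHom (Q : P.Modules) :
    IsIso ((ppAdj ι).unit.app ((ModSite.sheafHom (O := P.sheaf) (MO ι)).obj Q)) :=
  isIso_unit_of_good ι _ (good_sheafHom ι Q)

/-- `ι_* ι^♮ ≅ ℋom(ι_* O_X, -)`. -/
noncomputable def ishriekPushIso :
    ishriek ι ⋙ psh ι ≅ ModSite.sheafHom (O := P.sheaf) (MO ι) :=
  (NatIso.ofComponents
    (fun Q => @asIso _ _ _ _ ((ppAdj ι).unit.app ((ModSite.sheafHom (O := P.sheaf) (MO ι)).obj Q))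
      (isIso_unit_sheafHom ι Q))
    (fun {Q Q'} g => (ppAdj ι).unit.naturality
      ((ModSite.sheafHom (O := P.sheaf) (MO ι)).map g))).symm

/-- `ι_* ι^* ι_* ≅ ι_*`. -/
noncomputable def pushPullPushIso : psh ι ⋙ (plb ι ⋙ psh ι) ≅ psh ι ⋙ 𝟭 P.Modules :=
  NatIso.ofComponents (fun F => (psh ι).mapIso (asIso ((ppAdj ι).counit.app F)))
    (fun {F F'} f => by
      change (psh ι).map ((plb ι).map ((psh ι).map f)) ≫ (psh ι).map ((ppAdj ι).counit.app F') =
        (psh ι).map ((ppAdj ι).counit.app F) ≫ (psh ι).map f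
      rw [← Functor.map_comp, ← Functor.map_comp]
      exact congrArg (psh ι).map ((ppAdj ι).counit.naturality f))

/-- the adjunction `ι_* ⊣ ι^♮`. -/
noncomputable def ishriekAdj : psh ι ⊣ ishriek ι :=
  ((ModSite.sheafHomAdj (O := P.sheaf) (MO ι)).ofNatIsoLeft (projIso ι)).restrictFullyFaithful
    (pushFullyFaithful ι) (Functor.FullyFaithful.id _) (pushPullPushIso ι)
    ((Functor.leftUnitor _) ≪≫ (ishriekPushIso ι).symm)

end Groth.Agent.LeadDz
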