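import Mathlib
import Groth.Agent.Lib.LeadDzB
import Groth.Agent.Lib.LeadDzD
import Groth.Agent.Lib.Helper21DerPost
import Groth.Agent.Lib.Helper17FinProjLoc

/-!
# Lead: `Hom_X(F, ω) ≃ Ext^c_P(ι_* F, N)` when `ι_* ω ≅ ℰxt^c(ι_* O_X, N)` and the lower `ℰxt` vanish
-/

set_option autoImplicit false
set_option linter.style.haveILetI false
universe u
open CategoryTheory CategoryTheory.Limits AlgebraicGeometry TopologicalSpace Opposite Abelian

namespace Groth.Agent.LeadDz

open Groth.Agent.Lib.Helper1.PT Groth.Agent.Lib.Helper1.ClProj Groth.Agent.Lib.Helper21.DerPost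

variable {X P : Scheme.{u}} (ι : X ⟶ P) [IsClosedImmersion ι]
  [IsLocallyNoetherian P] [ModSite.HasSheafHom (O := P.sheaf) (MO ι)]
  [HasInjectiveResolutions (ModSite.Mod P.sheaf)]

/-- injective resolutions for `P.Modules` from the `ModSite` form of the hypothesis. -/
theorem hasInjectiveResolutions_modules (P : Scheme.{u})
    [h : HasInjectiveResolutions (ModSite.Mod P.sheaf)] : HasInjectiveResolutions P.Modules := h

attribute [local instance] hasInjectiveResolutions_modules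

instance pshPreservesHomology : (psh ι).PreservesHomology :=
  Groth.Agent.Lib.Helper17.FinLoc.preservesHomology_pushforward_of_isClosedImmersion ι

instance pshAdditive : (psh ι).Additive := inferInstance

instance ishriekAdditive : (ishriek ι).Additive := (ishriekAdj ι).right_adjoint_additive

instance sheafHomAdditive : (ModSite.sheafHom (O := P.sheaf) (MO ι)).Additive :=
  (ModSite.sheafHomAdj (O := P.sheaf) (MO ι)).right_adjoint_additive

/-- `ι_* R^j ι^♮ ≅ ℰxt^j(ι_* O_X, -)`. -/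
noncomputable def derivedIshriekPushIso (j : ℕ) :
    (ishriek ι).rightDerived j ⋙ psh ι ≅ ModSite.extSh (O := P.sheaf) (MO ι) j :=
  letI : (show P.Modules ⥤ P.Modules from ModSite.sheafHom (O := P.sheaf) (MO ι)).Additive :=
    sheafHomAdditive ι
  (postIso (C := P.Modules) (ishriek ι) (psh ι) j).symm ≪≫
    natIsoRightDerived (C := P.Modules) (D := P.Modules) (F := ishriek ι ⋙ psh ι)
      (F' := (show P.Modules ⥤ P.Modules from ModSite.sheafHom (O := P.sheaf) (MO ι)))
      (ishriekPushIso ι) j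

theorem isZero_of_isZero_push (A : X.Modules) (h : IsZero ((psh ι).obj A)) : IsZero A := by
  haveI := Groth.Agent.Lib.Helper27ClosedTransfer.faithful_pushforward ι
  rw [IsZero.iff_id_eq_zero]
  apply (psh ι).map_injective
  exact h.eq_of_src _ _

variable [HasExt.{u} P.Modules]

/-- **the fundamental class of a closed immersion.** -/
theorem exists_fundamental_class_closedImmersion (N : P.Modules) (p : ℕ) (ω : X.Modules)
    (hω : Nonempty ((psh ι).obj ω ≅ (ModSite.extSh (O := P.sheaf) (MO ι) (p + 1)).obj N))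
    (hvan : ∀ j, j ≤ p → IsZero ((ModSite.extSh (O := P.sheaf) (MO ι) j).obj N)) :
    ∃ ε : Ext.{u} ((psh ι).obj ω) N (p + 1), ∀ F : X.Modules,
      Function.Bijective (fun φ : F ⟶ ω =>
        (Ext.mk₀ ((psh ι).map φ)).comp ε (zero_add (p + 1))) := by
  obtain ⟨eω⟩ := hω
  let I : InjectiveResolution N := injectiveResolution N
  haveI : (psh ι).PreservesMonomorphisms := inferInstance
  have hH : ∀ j, (psh ι).obj ((RI (R := ishriek ι) I).homology j) ≅
      (ModSite.extSh (O := P.sheaf) (MO ι) j).obj N := fun j =>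
    (psh ι).mapIso (I.isoRightDerivedObj (ishriek ι) j).symm ≪≫
      (derivedIshriekPushIso ι j).app N
  have hex : ∀ j, j ≤ p → (RI (R := ishriek ι) I).ExactAt j := by
    intro j hj
    rw [HomologicalComplex.exactAt_iff_isZero_homology]
    exact isZero_of_isZero_push ι _ ((hvan j hj).of_iso (hH j))
  obtain ⟨ε₀, hε₀⟩ := exists_fundamental_class (ishriekAdj ι) I p hex
  let α : ω ≅ (RI (R := ishriek ι) I).homology (p + 1) :=
    (pushFullyFaithful ι).preimageIso (eω ≪≫ (hH (p + 1)).symm)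
  refine ⟨(Ext.mk₀ ((psh ι).map α.hom)).comp ε₀ (zero_add (p + 1)), fun F => ?_⟩
  have hcomp : (fun φ : F ⟶ ω => (Ext.mk₀ ((psh ι).map φ)).comp
      ((Ext.mk₀ ((psh ι).map α.hom)).comp ε₀ (zero_add (p + 1))) (zero_add (p + 1))) =
      (fun ψ : F ⟶ (RI (R := ishriek ι) I).homology (p + 1) =>
        (Ext.mk₀ ((psh ι).map ψ)).comp ε₀ (zero_add (p + 1))) ∘ (fun φ : F ⟶ ω => φ ≫ α.hom) := by
    funext φ
    change _ = (Ext.mk₀ ((psh ι).map (φ ≫ α.hom))).comp ε₀ (zero_add (p + 1))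
    rw [Functor.map_comp, ← Ext.mk₀_comp_mk₀, Ext.comp_assoc_of_second_deg_zero]
  rw [hcomp]
  refine (hε₀ F).comp ⟨fun φ₁ φ₂ h => ?_, fun ψ => ⟨ψ ≫ α.inv, ?_⟩⟩
  · exact (cancel_mono α.hom).1 h
  · change (ψ ≫ α.inv) ≫ α.hom = ψ
    rw [Category.assoc, Iso.inv_hom_id, Category.comp_id]

/-- the degree zero case. -/
theorem exists_fundamental_class_closedImmersion_zero (N : P.Modules) (ω : X.Modules)
    (hω : Nonempty ((psh ι).obj ω ≅ (ModSite.extSh (O := P.sheaf) (MO ι) 0).obj N)) :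
    ∃ ε : Ext.{u} ((psh ι).obj ω) N 0, ∀ F : X.Modules,
      Function.Bijective (fun φ : F ⟶ ω =>
        (Ext.mk₀ ((psh ι).map φ)).comp ε (zero_add 0)) := by
  obtain ⟨eω⟩ := hω
  haveI : (ModSite.sheafHom (O := P.sheaf) (MO ι)).Additive := sheafHomAdditive ι
  let e0 : (ModSite.extSh (O := P.sheaf) (MO ι) 0).obj N ≅
      (ModSite.sheafHom (O := P.sheaf) (MO ι)).obj N :=
    (ModSite.sheafHom (O := P.sheaf) (MO ι)).rightDerivedZeroIsoSelf.app N
  let e1 : (psh ι).obj ω ≅ (psh ι).obj ((ishriek ι).obj N) :=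
    eω ≪≫ e0 ≪≫ ((ishriekPushIso ι).app N).symm
  let α : ω ≅ (ishriek ι).obj N := (pushFullyFaithful ι).preimageIso e1
  let g : (psh ι).obj ω ⟶ N := ((ishriekAdj ι).homEquiv ω N).symm α.hom
  refine ⟨Ext.mk₀ g, fun F => ?_⟩
  have hcomp : (fun φ : F ⟶ ω => (Ext.mk₀ ((psh ι).map φ)).comp (Ext.mk₀ g) (zero_add 0)) =
      (fun f : (psh ι).obj F ⟶ N => Ext.mk₀ f) ∘ ((ishriekAdj ι).homEquiv F N).symm ∘
        (fun φ : F ⟶ ω => φ ≫ α.hom) := by
    funext φ
    change _ = Ext.mk₀ (((ishriekAdj ι).homEquiv F N).symm (φ ≫ α.hom))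
    rw [Ext.mk₀_comp_mk₀, Adjunction.homEquiv_naturality_left_symm]
  rw [hcomp]
  refine (Ext.mk₀_bijective _ _).comp ((Equiv.bijective _).comp
    ⟨fun φ₁ φ₂ h => (cancel_mono α.hom).1 h, fun ψ => ⟨ψ ≫ α.inv, ?_⟩⟩)
  change (ψ ≫ α.inv) ≫ α.hom = ψ
  rw [Category.assoc, Iso.inv_hom_id, Category.comp_id]

/-- **the fundamental class of a closed immersion**, all codimensions. -/
theorem exists_fundamental_class_closedImmersion' (N : P.Modules) (c : ℕ) (ω : X.Modules)
    (hω : Nonempty ((psh ι).obj ω ≅ (ModSite.extSh (O := P.sheaf) (MO ι) c).obj N))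
    (hvan : ∀ j, j < c → IsZero ((ModSite.extSh (O := P.sheaf) (MO ι) j).obj N)) :
    ∃ ε : Ext.{u} ((psh ι).obj ω) N c, ∀ F : X.Modules,
      Function.Bijective (fun φ : F ⟶ ω =>
        (Ext.mk₀ ((psh ι).map φ)).comp ε (zero_add c)) := by
  cases c with
  | zero => exact exists_fundamental_class_closedImmersion_zero ι N ω hω
  | succ p =>
    exact exists_fundamental_class_closedImmersion ι N p ω hω (fun j hj => hvan j (by omega))

end Groth.Agent.LeadDz
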