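import Mathlib
import Groth.Agent.Lib.LeadExtInj1
import Groth.Agent.Lib.Helper21ExtShDelta

/-!
# Lead: vanishing of `ℰxt¹(S.X₃, G)` makes `ℋom(S.X₂, G) ⟶ ℋom(S.X₁, G)` an epimorphism (for S11163)
-/

set_option autoImplicit false
universe u
open CategoryTheory CategoryTheory.Limits Opposite

namespace Groth.Agent.LeadExtInj

open Groth.Agent.Lib.Helper21.HomI Groth.Agent.Lib.Helper21.HomU
  Groth.Agent.Lib.Helper21.SheafHomLES Groth.Agent.Lib.Helper21.DerLES2
  Groth.Agent.Lib.Helper21.ExtShDelta Groth.Agent.Lib.Helper23DerLES Groth.Agent.Lib.Helper21.GammaZ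

variable {C : Type u} [SmallCategory C] {J : GrothendieckTopology C} {O : Sheaf J CommRingCat.{u}}

theorem epi_sheafHomMap_f (S : ShortComplex (ModSite.Mod O)) (hS : S.ShortExact)
    (G : ModSite.Mod O)
    [ModSite.HasSheafHom S.X₁] [ModSite.HasSheafHom S.X₂] [ModSite.HasSheafHom S.X₃]
    [HasInjectiveResolutions (ModSite.Mod O)]
    (h : IsZero (((ModSite.sheafHom S.X₃).rightDerived 1).obj G)) :
    Epi ((ExtSupp.sheafHomMap S.f).app G) := by
  haveI := sheafHom_preservesFiniteLimits O S.X₃
  haveI := sheafHom_preservesFiniteLimits O S.X₂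
  haveI := sheafHom_preservesFiniteLimits O S.X₁
  let α := ExtSupp.sheafHomMap S.g
  let β := ExtSupp.sheafHomMap S.f
  have w : α ≫ β = 0 := by
    ext Q : 2
    exact sheafHomMap_comp S Q
  have hmono : ∀ Q : ModSite.Mod O, Mono (α.app Q) := fun Q => mono_sheafHomMap_g S hS Q
  have hex : ∀ Q : ModSite.Mod O, Injective Q → (ShortComplex.mk (α.app Q) (β.app Q) (by
      rw [← NatTrans.comp_app, w]; rfl)).ShortExact := by
    intro Q hQ
    refine ShortComplex.ShortExact.mk' (sheafHomMap_exact S hS Q) (hmono Q) ?_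
    exact epi_of_surjective_app _ (fun V => sheafHomMap_f_surjective S hS Q V.unop)
  have hexact := exact_β_γ_app α β w hex G
  have hz : (γ α β w hex).app G = 0 := h.eq_of_tgt _ _
  exact hexact.epi_f hz

theorem epi_iHomPre_f (S : ShortComplex (ModSite.Mod O)) (hS : S.ShortExact)
    (G : ModSite.Mod O)
    [ModSite.HasSheafHom S.X₁] [ModSite.HasSheafHom S.X₂] [ModSite.HasSheafHom S.X₃]
    [HasInjectiveResolutions (ModSite.Mod O)]
    (h : IsZero (((ModSite.sheafHom S.X₃).rightDerived 1).obj G)) :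
    Epi (iHomPre S.f G) :=
  epi_iHomPre_of_epi S.f G (epi_sheafHomMap_f S hS G h)

/-- right derived functors of naturally isomorphic additive functors. -/
noncomputable def rightDerivedIso {𝒞 𝒟 : Type*} [Category 𝒞] [Category 𝒟] [Abelian 𝒞] [Abelian 𝒟]
    [HasInjectiveResolutions 𝒞] {F G : 𝒞 ⥤ 𝒟} [F.Additive] [G.Additive] (e : F ≅ G) (n : ℕ) :
    F.rightDerived n ≅ G.rightDerived n where
  hom := NatTrans.rightDerived e.hom n
  inv := NatTrans.rightDerived e.inv n
  hom_inv_id := by
    rw [← NatTrans.rightDerived_comp, e.hom_inv_id, NatTrans.rightDerived_id]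
  inv_hom_id := by
    rw [← NatTrans.rightDerived_comp, e.inv_hom_id, NatTrans.rightDerived_id]

/-- version of `epi_iHomPre_f` in which the vanishing is known for a functor isomorphic to the
abstract internal hom (all instances are explicit arguments of the statement, so that it can be used
for `O = X.sheaf`, where instance resolution does not see through `TopCat.Sheaf`). -/
theorem epi_iHomPre_of_iso (S : ShortComplex (ModSite.Mod O)) (hS : S.ShortExact)
    (G : ModSite.Mod O)
    [ModSite.HasSheafHom S.X₁] [ModSite.HasSheafHom S.X₂] [ModSite.HasSheafHom S.X₃]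
    [HasInjectiveResolutions (ModSite.Mod O)]
    (T : ModSite.Mod O ⥤ ModSite.Mod O) [T.Additive] (e : T ≅ ModSite.sheafHom S.X₃)
    (h : IsZero ((T.rightDerived 1).obj G)) : Epi (iHomPre S.f G) :=
  epi_iHomPre_f S hS G (IsZero.of_iso h ((rightDerivedIso e 1).app G).symm)

end Groth.Agent.LeadExtInj
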