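import Mathlib

/-!
# Lead: a local-to-global Baer criterion (algebra, for S11163)

`P` a finite module over a ring `A` with a linear map `ι : P → A` (think: an ideal), `g : P → M` linear.
If locally on `Spec A` the map `g` is of the form `p ↦ ι p • m`, then it is so globally.
-/

set_option autoImplicit false

namespace Groth.Agent.LeadExtInj

variable {A : Type*} [CommRing A] {P M : Type*} [AddCommGroup P] [Module A P] [AddCommGroup M]
  [Module A M]

/-- the linear map `p ↦ ι p • m`. -/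
def evAt (ι : P →ₗ[A] A) (m : M) : P →ₗ[A] M := (LinearMap.toSpanSingleton A M m).comp ι

@[simp] theorem evAt_apply (ι : P →ₗ[A] A) (m : M) (p : P) : evAt ι m p = ι p • m := rfl

theorem exists_pow_smul_eq [Module.Finite A P] {Mf : Type*} [AddCommGroup Mf] [Module A Mf]
    (f : A) (ℓ : M →ₗ[A] Mf) [IsLocalizedModule (Submonoid.powers f) ℓ]
    (ι : P →ₗ[A] A) (g : P →ₗ[A] M) (mf : Mf) (h : ∀ p : P, ℓ (g p) = ι p • mf) :
    ∃ (N : ℕ) (m : M), ∀ p : P, f ^ N • g p = ι p • m := by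
  classical
  obtain ⟨⟨m', s⟩, hs⟩ := IsLocalizedModule.surj (Submonoid.powers f) ℓ mf
  obtain ⟨k, hk⟩ := s.2
  have hk' : f ^ k = (s : A) := hk
  have hs' : f ^ k • mf = ℓ m' := by
    rw [hk']
    exact hs
  let D : P →ₗ[A] M := f ^ k • g - evAt ι m'
  have hD : ∀ p : P, ℓ (D p) = 0 := by
    intro p
    change ℓ (f ^ k • g p - ι p • m') = 0
    rw [map_sub, map_smul, map_smul, h p, ← hs', smul_comm, sub_self]
  have hD' : ∀ p : P, ∃ n : ℕ, f ^ n • D p = 0 := by
    intro p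
    have h0 : ℓ (D p) = ℓ 0 := by rw [hD p, map_zero]
    obtain ⟨c, hc⟩ := IsLocalizedModule.exists_of_eq (S := Submonoid.powers f) (f := ℓ) h0
    obtain ⟨n, hn⟩ := c.2
    refine ⟨n, ?_⟩
    rw [smul_zero] at hc
    have hn' : f ^ n = (c : A) := hn
    rw [hn']
    exact hc
  choose n hn using hD'
  obtain ⟨t, ht⟩ := (Module.Finite.fg_top : (⊤ : Submodule A P).FG)
  let K := t.sup n
  have hK : ∀ p : P, f ^ K • D p = 0 := by
    have hle : Submodule.span A (t : Set P) ≤ LinearMap.ker (f ^ K • D) := by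
      rw [Submodule.span_le]
      intro p hp
      rw [SetLike.mem_coe, LinearMap.mem_ker, LinearMap.smul_apply]
      have hnp : n p ≤ K := Finset.le_sup (f := n) hp
      obtain ⟨d, hd⟩ := Nat.exists_eq_add_of_le hnp
      rw [hd, pow_add, mul_comm, mul_smul, hn p, smul_zero]
    intro p
    have hp : p ∈ LinearMap.ker (f ^ K • D) := hle (by rw [ht]; trivial)
    rwa [LinearMap.mem_ker, LinearMap.smul_apply] at hp
  refine ⟨K + k, f ^ K • m', fun p => ?_⟩
  have h1 := hK p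
  change f ^ K • (f ^ k • g p - ι p • m') = 0 at h1
  rw [smul_sub, sub_eq_zero, ← mul_smul, ← pow_add] at h1
  rw [h1, smul_comm]

theorem exists_eq_evAt_of_local (ι : P →ₗ[A] A) (g : P →ₗ[A] M)
    (h : ∀ Q : Ideal A, Q.IsMaximal →
      ∃ f : A, f ∉ Q ∧ ∃ (N : ℕ) (m : M), ∀ p : P, f ^ N • g p = ι p • m) :
    ∃ m : M, ∀ p : P, g p = ι p • m := by
  let J : Ideal A :=
    { carrier := {c | ∃ m : M, ∀ p : P, c • g p = ι p • m}
      add_mem' := by
        rintro c c' ⟨m, hm⟩ ⟨m', hm'⟩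
        refine ⟨m + m', fun p => ?_⟩
        rw [add_smul, hm, hm', smul_add]
      zero_mem' := ⟨0, fun p => by rw [zero_smul, smul_zero]⟩
      smul_mem' := by
        rintro r c ⟨m, hm⟩
        refine ⟨r • m, fun p => ?_⟩
        rw [smul_eq_mul, mul_smul, hm, smul_comm] }
  have hJ : J = ⊤ := by
    by_contra hne
    obtain ⟨Q, hQ, hJQ⟩ := Ideal.exists_le_maximal J hne
    obtain ⟨f, hf, N, m, hm⟩ := h Q hQ
    have hfN : f ^ N ∈ J := ⟨m, hm⟩
    exact hf (hQ.isPrime.mem_of_pow_mem N (hJQ hfN))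
  have h1 : (1 : A) ∈ J := by rw [hJ]; trivial
  obtain ⟨m, hm⟩ := h1
  exact ⟨m, fun p => by rw [← hm p, one_smul]⟩

end Groth.Agent.LeadExtInj
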