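import Mathlib
import Groth.Prelude
import Groth.Agent.Lib.LeadExtInj2
import Groth.Agent.Lib.LeadExtInj3
import Groth.Agent.Lib.Helper17FFaith5
import Groth.Agent.Lib.Helper17GrSysCoh
import Groth.Agent.Lib.Helper4ModEpi
import Groth.Agent.Lib.Helper2QCoh

/-!
# Lead: from an epimorphism `ℋom(O_X, F) ⟶ ℋom(𝒜, F)` to the Baer extension property on affine opens
(for S11163)
-/

set_option autoImplicit false
universe u
open CategoryTheory CategoryTheory.Limits AlgebraicGeometry TopologicalSpace Opposite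

namespace Groth.Agent.LeadExtInj

open Groth.Agent.Lib.Helper21.HomI Groth.Agent.Lib.Helper21.HomU Groth.Agent.Lib.Helper17.FFaith
  Groth.Agent.Lib.Helper17.GrSysCoh

noncomputable section

variable {X : Scheme.{u}}

/-- the unit section of the structure module. -/
def oneSec (D : X.Opens) : (Coh.structureModule X).val.obj (op D) := (1 : Γ(X, D))

/-- sections of the structure module, as functions. -/
def toFn (D : X.Opens) (x : Γ(Coh.structureModule X, D)) : Γ(X, D) := x

theorem smul_oneSec (D : X.Opens) (r : Γ(X, D)) :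
    toFn D (r • oneSec D : (Coh.structureModule X).val.obj (op D)) = r := by
  change r * (1 : Γ(X, D)) = r
  exact mul_one r

/-- a morphism to the structure module, on sections, as a linear map into the ring. -/
def ringL {𝒜 : X.Modules} (ι : 𝒜 ⟶ Coh.structureModule X) (W : X.Opens) :
    Γ(𝒜, W) →ₗ[Γ(X, W)] Γ(X, W) where
  toFun := fun a => toFn W (appL ι W a)
  map_add' := fun a b => by
    rw [map_add]
    rfl
  map_smul' := fun r a => by
    rw [map_smul]
    rfl

theorem ringL_apply {𝒜 : X.Modules} (ι : 𝒜 ⟶ Coh.structureModule X) (W : X.Opens) (a : Γ(𝒜, W)) :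
    ringL ι W a = toFn W (ι.app W a) := rfl

theorem exists_smul_of_epi [IsLocallyNoetherian X] (F : X.Modules) [F.IsQuasicoherent]
    (𝒜 : X.Modules) [𝒜.IsQuasicoherent] (ι : 𝒜 ⟶ Coh.structureModule X)
    (hepi : Epi (iHomPre (O := X.sheaf) ι F))
    {W : X.Opens} (hW : IsAffineOpen W) [Module.Finite Γ(X, W) Γ(𝒜, W)]
    (φ : Γ(𝒜, W) →ₗ[Γ(X, W)] Γ(F, W)) :
    ∃ m : Γ(F, W), ∀ a : Γ(𝒜, W), φ a = ringL ι W a • m := by
  classical
  let ιW : Γ(𝒜, W) →ₗ[Γ(X, W)] Γ(X, W) := ringL ι W
  let s : Γ(sHom 𝒜 F, W) := (evΓEquiv 𝒜 F hW).symm φ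
  have hs : evΓ 𝒜 F (secOut W s) = φ := (evΓEquiv 𝒜 F hW).apply_symm_apply φ
  refine exists_eq_evAt_of_local ιW φ ?_
  intro Q hQ
  let q : PrimeSpectrum Γ(X, W) := ⟨Q, hQ.isPrime⟩
  let x : X := hW.fromSpec q
  have hxW : x ∈ W := Groth.Agent.Lib.Helper2.QCoh.fromSpec_mem hW q
  let π : sHom (Coh.structureModule X) F ⟶ sHom 𝒜 F := iHomPre (O := X.sheaf) ι F
  haveI : Epi π := hepi
  obtain ⟨V, hVW, hxV, t, ht⟩ :=
    Groth.Agent.Lib.Helper4.ModEpi.exists_app_eq_of_epi π W s x hxW
  obtain ⟨f, hfV, hxf⟩ := hW.exists_basicOpen_le ⟨x, hxV⟩ hxW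
  refine ⟨f, ?_, ?_⟩
  · intro hfQ
    have h1 : q ∈ hW.fromSpec ⁻¹ᵁ X.basicOpen f := hxf
    rw [hW.fromSpec_preimage_basicOpen] at h1
    exact h1 hfQ
  · have hDW : X.basicOpen f ≤ W := X.basicOpen_le f
    let mf : RS F hDW := RS.in hDW ((secOut V t).val (X.basicOpen f) (homOfLE hfV) (oneSec _))
    haveI := isLocalizedModule_resLin hW F f
    refine exists_pow_smul_eq f (resLin F hDW) ιW φ mf ?_
    intro p
    -- the two families agree over `V`
    have hfam : famPrecomp (secOut V t) ι = HomFam.res (homOfLE hVW) (secOut W s) :=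
      congrArg (secOut V) ht
    have h4 := congrFun (congrFun (congrFun (congrArg HomFam.val hfam) (X.basicOpen f))
      (homOfLE hfV)) (rs 𝒜 (homOfLE hDW) p)
    rw [famPrecomp_val, HomFam.res_val] at h4
    -- compatibility of the family `s` with restriction
    have h2 := (secOut W s).compat (homOfLE hDW) (𝟙 W) p
    have hφ : φ p = (secOut W s).val W (𝟙 W) p := by
      rw [← hs]
      rfl
    have hb : homOfLE hDW ≫ 𝟙 W = homOfLE hfV ≫ homOfLE hVW := Subsingleton.elim _ _
    rw [hb, ← h4] at h2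
    -- the image of `p|_D` in `O(D)`
    have h5 : (ι.val.app (op (X.basicOpen f))).hom (rs 𝒜 (homOfLE hDW) p) =
        (Groth.Agent.Lib.Helper17.FFaith.toRS ((X.presheaf.map (homOfLE hDW).op).hom (ιW p))) •
          oneSec (X.basicOpen f) := by
      have h6 := rs_nat (R := X.ringCatSheaf) (homOfLE hDW) ι p
      rw [← h6]
      change _ = (X.presheaf.map (homOfLE hDW).op).hom (ιW p) * 1
      rw [mul_one]
      rfl
    rw [h5, (secOut V t).smul] at h2
    change (resLin F hDW (φ p)).out = (ιW p • mf).out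
    rw [resLin_out, RS.out_smul, hφ]
    exact h2

end

end Groth.Agent.LeadExtInj
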