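import Mathlib
import Groth.Prelude
import Groth.Agent.Lib.LeadExtInj4
import Groth.Agent.Lib.Helper20OmegaAff
import Groth.Agent.Lib.Helper20IdealModSec

/-!
# Lead: sections of a quasi-coherent module over affine opens are injective modules as soon as
`ℋom(O_X, F) ⟶ ℋom(I, F)` is an epimorphism for every quasi-coherent ideal `I` (for S11163)
-/

set_option autoImplicit false
universe u
open CategoryTheory CategoryTheory.Limits AlgebraicGeometry TopologicalSpace Opposite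

namespace Groth.Agent.LeadExtInj

open Groth.Agent.Lib.Helper21.HomI Groth.Agent.Lib.Helper21.HomU Groth.Agent.Lib.Helper17.FFaith
  Groth.Agent.Lib.Helper17.GrSysCoh Groth.Agent.Lib.Helper20.OmegaAff
  Groth.Agent.Lib.Helper20.IdealModSec

variable {X : Scheme.{u}}

theorem appLE_top_aux0 {W : X.Opens} (hW : IsAffineOpen W) {R : CommRingCat.{u}} (q : Γ(X, W) ⟶ R)
    (e : ⊤ ≤ Spec.map q ⁻¹ᵁ hW.fromSpec ⁻¹ᵁ W) :
    hW.fromSpec.app W ≫ (Spec.map q).appLE (hW.fromSpec ⁻¹ᵁ W) ⊤ e =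
      q ≫ (Scheme.ΓSpecIso R).inv := by
  rw [hW.fromSpec_app_self, Category.assoc, Scheme.Hom.map_appLE,
    Scheme.ΓSpecIso_inv_naturality]
  congr 1

theorem appLE_top_aux {W : X.Opens} (hW : IsAffineOpen W) {R : CommRingCat.{u}} (q : Γ(X, W) ⟶ R)
    (e : ⊤ ≤ (Spec.map q ≫ hW.fromSpec) ⁻¹ᵁ W) :
    (Spec.map q ≫ hW.fromSpec).appLE W ⊤ e = q ≫ (Scheme.ΓSpecIso R).inv :=
  (Scheme.Hom.comp_appLE _ _ _ _ _).trans (appLE_top_aux0 hW q e)

/-- every ideal of the sections over an affine open of a locally Noetherian scheme extends to a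
quasi-coherent ideal sheaf. -/
theorem exists_idealSheafData_ideal_eq [IsLocallyNoetherian X] {W : X.Opens} (hW : IsAffineOpen W)
    (𝔞 : Ideal Γ(X, W)) : ∃ I : X.IdealSheafData, I.ideal ⟨W, hW⟩ = 𝔞 := by
  let q : Γ(X, W) ⟶ CommRingCat.of (Γ(X, W) ⧸ 𝔞) := CommRingCat.ofHom (Ideal.Quotient.mk 𝔞)
  have hqc : QuasiCompact (Spec.map q ≫ hW.fromSpec) := inferInstance
  refine ⟨(Spec.map q ≫ hW.fromSpec).ker, ?_⟩
  rw [Scheme.Hom.ker_apply]
  have hpre : (Spec.map q ≫ hW.fromSpec) ⁻¹ᵁ W = ⊤ := by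
    rw [Scheme.Hom.comp_preimage, hW.fromSpec_preimage_self]
    rfl
  have key := appLE_top_aux hW q (by rw [hpre])
  ext a
  change a ∈ RingHom.ker ((Spec.map q ≫ hW.fromSpec).app W).hom ↔ a ∈ 𝔞
  rw [RingHom.mem_ker]
  have h3 : ((Spec.map q ≫ hW.fromSpec).appLE W ⊤ (by rw [hpre])).hom a =
      ((Scheme.ΓSpecIso _).inv).hom (Ideal.Quotient.mk 𝔞 a) := by
    rw [key]
    rfl
  have h4 : ((Spec.map q ≫ hW.fromSpec).appLE W ⊤ (by rw [hpre])).hom a =
      ((Spec (CommRingCat.of (Γ(X, W) ⧸ 𝔞))).presheaf.map (homOfLE (by rw [hpre])).op).hom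
        (((Spec.map q ≫ hW.fromSpec).app W).hom a) := rfl
  constructor
  · intro h0
    rw [h0, map_zero] at h4
    rw [h4] at h3
    have h5 : Function.Injective ((Scheme.ΓSpecIso (CommRingCat.of (Γ(X, W) ⧸ 𝔞))).inv).hom :=
      (ConcreteCategory.bijective_of_isIso (Scheme.ΓSpecIso _).inv).1
    have h6 : Ideal.Quotient.mk 𝔞 a = 0 := h5 (by rw [← h3, map_zero])
    exact Ideal.Quotient.eq_zero_iff_mem.1 h6
  · intro ha
    have h6 : Ideal.Quotient.mk 𝔞 a = 0 := Ideal.Quotient.eq_zero_iff_mem.2 ha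
    rw [h6, map_zero] at h3
    rw [h3] at h4
    have hiso : IsIso ((Spec (CommRingCat.of (Γ(X, W) ⧸ 𝔞))).presheaf.map
        (homOfLE (show (⊤ : (Spec (CommRingCat.of (Γ(X, W) ⧸ 𝔞))).Opens) ≤
          (Spec.map q ≫ hW.fromSpec) ⁻¹ᵁ W by rw [hpre])).op) := by
      have : IsIso (homOfLE (show (⊤ : (Spec (CommRingCat.of (Γ(X, W) ⧸ 𝔞))).Opens) ≤
          (Spec.map q ≫ hW.fromSpec) ⁻¹ᵁ W by rw [hpre])) :=
        ⟨homOfLE le_top, Subsingleton.elim _ _, Subsingleton.elim _ _⟩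
      infer_instance
    have h7 := (ConcreteCategory.bijective_of_isIso
      ((Spec (CommRingCat.of (Γ(X, W) ⧸ 𝔞))).presheaf.map
        (homOfLE (show (⊤ : (Spec (CommRingCat.of (Γ(X, W) ⧸ 𝔞))).Opens) ≤
          (Spec.map q ≫ hW.fromSpec) ⁻¹ᵁ W by rw [hpre])).op)).1
    exact h7 (by rw [← h4, map_zero])

section ideal

variable (I : X.IdealSheafData) {W : X.Opens} (hW : IsAffineOpen W)

theorem ringL_idealModι_mem (p : Γ(ClSub.idealMod I, W)) :
    ringL (ClSub.idealModι I) W p ∈ I.ideal ⟨W, hW⟩ := by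
  rw [← I.ker_subschemeι_app ⟨W, hW⟩, RingHom.mem_ker]
  exact ι_toSubscheme I W p

theorem exists_ringL_idealModι_eq (a : Γ(X, W)) (ha : a ∈ I.ideal ⟨W, hW⟩) :
    ∃ p : Γ(ClSub.idealMod I, W), ringL (ClSub.idealModι I) W p = a := by
  rw [← I.ker_subschemeι_app ⟨W, hW⟩, RingHom.mem_ker] at ha
  obtain ⟨j, hj⟩ := exists_eq_ι I W (a : Γ(Coh.structureModule X, W)) ha
  exact ⟨j, hj⟩

theorem ringL_idealModι_injective :
    Function.Injective (ringL (ClSub.idealModι I) W) := ι_injective I W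

end ideal

theorem baer_sections [IsLocallyNoetherian X] (F : X.Modules) [F.IsQuasicoherent]
    (H : ∀ I : X.IdealSheafData, Epi (iHomPre (O := X.sheaf) (ClSub.idealModι I) F))
    {W : X.Opens} (hW : IsAffineOpen W) : Module.Baer Γ(X, W) Γ(F, W) := by
  haveI : IsNoetherianRing Γ(X, W) := IsLocallyNoetherian.component_noetherian ⟨W, hW⟩
  intro 𝔞 g
  obtain ⟨I, hI⟩ := exists_idealSheafData_ideal_eq hW 𝔞
  have hmem : ∀ p : Γ(ClSub.idealMod I, W), ringL (ClSub.idealModι I) W p ∈ 𝔞 := by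
    intro p
    rw [← hI]
    exact ringL_idealModι_mem I hW p
  haveI : Module.Finite Γ(X, W) Γ(ClSub.idealMod I, W) :=
    Module.Finite.of_injective (ringL (ClSub.idealModι I) W) (ringL_idealModι_injective I)
  let φ : Γ(ClSub.idealMod I, W) →ₗ[Γ(X, W)] Γ(F, W) :=
    g ∘ₗ (LinearMap.codRestrict 𝔞 (ringL (ClSub.idealModι I) W) hmem)
  obtain ⟨m, hm⟩ := exists_smul_of_epi F (ClSub.idealMod I) (ClSub.idealModι I) (H I) hW φ
  refine ⟨LinearMap.toSpanSingleton Γ(X, W) Γ(F, W) m, fun a ha => ?_⟩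
  obtain ⟨p, hp⟩ := exists_ringL_idealModι_eq I hW a (by rw [hI]; exact ha)
  have h1 := hm p
  rw [hp] at h1
  rw [LinearMap.toSpanSingleton_apply, ← h1]
  change g _ = g _
  congr 1
  exact Subtype.ext hp

end Groth.Agent.LeadExtInj
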