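import Mathlib
import Groth.Agent.Lib.LeadExtRes3
import Groth.Agent.Lib.Helper1RpushRes

/-!
# Lead: the relative Ext sheaves `R^p(f_* ℋom(F, -))` commute with restriction to an open of the base
-/

set_option autoImplicit false
universe u
open CategoryTheory CategoryTheory.Limits AlgebraicGeometry TopologicalSpace Opposite

namespace Groth.Agent.LeadExtRes

open Groth.Agent.Lib.Helper21.HomI Groth.Agent.Lib.Helper21.HomU Groth.Agent.Lib.Helper17.FFaith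
  Groth.Agent.Lib.Helper21.DerPost

noncomputable section

variable {X Y : Scheme.{u}} (f : X ⟶ Y) (W : Y.Opens)

/-- direct image, typed on the prelude's module categories. -/
def pF : ModSite.Mod X.sheaf ⥤ ModSite.Mod Y.sheaf := Scheme.Modules.pushforward f

variable (F : ModSite.Mod X.sheaf) [ModSite.HasSheafHom (O := X.sheaf) F]
  [ModSite.HasSheafHom (O := (↑(f ⁻¹ᵁ W) : Scheme.{u}).sheaf) ((rF (f ⁻¹ᵁ W)).obj F)]

/-- `(f_* ℋom(F, -))|_W ≅ (f|_W)_* ℋom(F|_{f⁻¹W}, (-)|_{f⁻¹W})`. -/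
def relSheafHomRestrIso :
    (ModSite.sheafHom (O := X.sheaf) F ⋙ pF f) ⋙ rF W ≅
      rF (f ⁻¹ᵁ W) ⋙ (ModSite.sheafHom (O := (↑(f ⁻¹ᵁ W) : Scheme.{u}).sheaf)
        ((rF (f ⁻¹ᵁ W)).obj F) ⋙ pF (f ∣_ W)) :=
  Functor.associator _ _ _ ≪≫
    Functor.isoWhiskerLeft (ModSite.sheafHom (O := X.sheaf) F)
      (Groth.Agent.Lib.Helper1.RpushRes.pushRestrictIso f W) ≪≫
    (Functor.associator _ _ _).symm ≪≫
    Functor.isoWhiskerRight (restrSheafHomIso (f ⁻¹ᵁ W) F) (pF (f ∣_ W)) ≪≫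
    Functor.associator _ _ _

variable [HasInjectiveResolutions (ModSite.Mod X.sheaf)]
  [HasInjectiveResolutions (ModSite.Mod (↑(f ⁻¹ᵁ W) : Scheme.{u}).sheaf)]
  [(ModSite.sheafHom (O := X.sheaf) F ⋙ pF f).Additive]
  [(ModSite.sheafHom (O := (↑(f ⁻¹ᵁ W) : Scheme.{u}).sheaf) ((rF (f ⁻¹ᵁ W)).obj F) ⋙
    pF (f ∣_ W)).Additive]

/-- the relative Ext sheaves commute with restriction to an open of the base. -/
def relExtShRestrIso (p : ℕ) :
    (ModSite.sheafHom (O := X.sheaf) F ⋙ pF f).rightDerived p ⋙ rF W ≅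
      rF (f ⁻¹ᵁ W) ⋙ (ModSite.sheafHom (O := (↑(f ⁻¹ᵁ W) : Scheme.{u}).sheaf)
        ((rF (f ⁻¹ᵁ W)).obj F) ⋙ pF (f ∣_ W)).rightDerived p :=
  (postIso (ModSite.sheafHom (O := X.sheaf) F ⋙ pF f) (rF W) p).symm ≪≫
    natIsoRightDerived (relSheafHomRestrIso f W F) p ≪≫
    Groth.Agent.Lib.Helper23DerComp.compIso (rF (f ⁻¹ᵁ W))
      (ModSite.sheafHom (O := (↑(f ⁻¹ᵁ W) : Scheme.{u}).sheaf) ((rF (f ⁻¹ᵁ W)).obj F) ⋙
        pF (f ∣_ W)) p

end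

end Groth.Agent.LeadExtRes
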