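import Mathlib
import Groth.Prelude.Def_ModSite
import Groth.Agent.Lib.Helper21Dual10
import Groth.Agent.Lib.Helper21SheafHomFree

/-!
# Lead: twisting the internal Hom by an invertible module (ringed sites)

* `homEquiv_conjugateEquiv` : conjugate natural transformations in terms of `homEquiv`;
* `tREquiv` : `- ⊗ L` as an equivalence, for `L` with a tensor inverse;
* `sheafHomTwistIso` : `ℋom(F, -) ⊗ L ≅ ℋom(F, - ⊗ L)` for `L` with a tensor inverse.
-/

set_option autoImplicit false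
universe u
open CategoryTheory CategoryTheory.Limits Opposite

namespace Groth.Agent.LeadExtTw

section Conj

variable {C D : Type*} [Category C] [Category D] {L₁ L₂ : C ⥤ D} {R₁ R₂ : D ⥤ C}
  (adj₁ : L₁ ⊣ R₁) (adj₂ : L₂ ⊣ R₂)

theorem homEquiv_conjugateEquiv (α : L₂ ⟶ L₁) {X : C} {Y : D} (g : L₁.obj X ⟶ Y) :
    adj₂.homEquiv X Y (α.app X ≫ g) =
      adj₁.homEquiv X Y g ≫ (conjugateEquiv adj₁ adj₂ α).app Y := by
  rw [Adjunction.homEquiv_unit, Adjunction.homEquiv_unit, Functor.map_comp, ← Category.assoc,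
    ← unit_conjugateEquiv adj₁ adj₂ α X, Category.assoc, Category.assoc, NatTrans.naturality]

theorem ofNatIsoLeft_homEquiv {L L' : C ⥤ D} {R : D ⥤ C} (adj : L ⊣ R) (e : L ≅ L') {X : C}
    {Y : D} (g : L'.obj X ⟶ Y) :
    (adj.ofNatIsoLeft e).homEquiv X Y g = adj.homEquiv X Y (e.hom.app X ≫ g) := by
  rw [Adjunction.homEquiv_unit, Adjunction.homEquiv_unit, Functor.map_comp]
  simp [Adjunction.ofNatIsoLeft]

end Conj

section Tensor

open Groth.Agent.Lib.Helper21.ModTensor Groth.Agent.Lib.Helper21.ModTensor2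
  Groth.Agent.Lib.Helper21.ModTensor3 Groth.Agent.Lib.Helper21.ModTensor5
  Groth.Agent.Lib.Helper21.ModTensor6 Groth.Agent.Lib.Helper21.ModTensor7
  Groth.Agent.Lib.Helper21.SheafHomFree

attribute [local instance] Groth.Agent.Lib.Helper21.ExtShDelta.hasSheafHom

variable {C : Type u} [SmallCategory C] {J : GrothendieckTopology C} (O : Sheaf J CommRingCat.{u})

/-- `- ⊗ L` as an equivalence, for `L` with tensor inverse `L'`. -/
noncomputable def tREquiv (L L' : ModSite.Mod O)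
    (e : ((ModSite.tensorBi O).obj L).obj L' ≅ ModSite.unit O)
    (e' : ((ModSite.tensorBi O).obj L').obj L ≅ ModSite.unit O) :
    ModSite.Mod O ≌ ModSite.Mod O :=
  CategoryTheory.Equivalence.mk (tR O L) (tR O L')
    (tRTensorIso O L L' ≪≫ (ModSite.tensorBi O).flip.mapIso e ≪≫ tRUnitIso O).symm
    (tRTensorIso O L' L ≪≫ (ModSite.tensorBi O).flip.mapIso e' ≪≫ tRUnitIso O)

/-- the adjunction `- ⊗ L' ⊣ - ⊗ L`. -/
noncomputable def tRAdj (L L' : ModSite.Mod O)
    (e : ((ModSite.tensorBi O).obj L).obj L' ≅ ModSite.unit O)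
    (e' : ((ModSite.tensorBi O).obj L').obj L ≅ ModSite.unit O) : tR O L' ⊣ tR O L :=
  (tREquiv O L L' e e').symm.toAdjunction

/-- `(- ⊗ L') ⊗ F ≅ (- ⊗ F) ⊗ L'`. -/
noncomputable def tRSwapIso (F L' : ModSite.Mod O) : tR O L' ⋙ tR O F ≅ tR O F ⋙ tR O L' :=
  tRTensorIso O L' F ≪≫ (ModSite.tensorBi O).flip.mapIso (brdApp O L' F) ≪≫
    (tRTensorIso O F L').symm

/-- `ℋom(F, -) ⊗ L ≅ ℋom(F, - ⊗ L)` for `L` with tensor inverse `L'`. -/
noncomputable def sheafHomTwistIso (F L L' : ModSite.Mod O)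
    (e : ((ModSite.tensorBi O).obj L).obj L' ≅ ModSite.unit O)
    (e' : ((ModSite.tensorBi O).obj L').obj L ≅ ModSite.unit O) :
    ModSite.sheafHom F ⋙ tR O L ≅ tR O L ⋙ ModSite.sheafHom F :=
  (((tRAdj O L L' e e').comp (ModSite.sheafHomAdj F)).ofNatIsoLeft
      (tRSwapIso O F L')).rightAdjointUniq
    ((ModSite.sheafHomAdj F).comp (tRAdj O L L' e e'))

end Tensor

end Groth.Agent.LeadExtTw
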