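import Mathlib
import Groth.Agent.Lib.Helper27ExtDual2
import Groth.Agent.Lib.Helper27LesLin
import Groth.Agent.Lib.Helper27DualRes

/-!
# Lead: exactness of global sections of a four term exact sequence; `Ext` connecting maps over a
base ring; comparison of cokernels
-/

set_option autoImplicit false
universe u
open CategoryTheory CategoryTheory.Limits AlgebraicGeometry TopologicalSpace Opposite Abelian

namespace Groth.Agent.LeadExtTw

open Groth.Agent.Lib.Helper27CohFin Groth.Agent.Lib.Helper27DualRes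
  Groth.Agent.Lib.Helper23.QCohLocal

section LA

variable {k : Type*} [CommRing k]
variable {A₁ A₂ Y B₁ B₂ Y' : Type*} [AddCommGroup A₁] [Module k A₁] [AddCommGroup A₂] [Module k A₂]
  [AddCommGroup Y] [Module k Y] [AddCommGroup B₁] [Module k B₁] [AddCommGroup B₂] [Module k B₂]
  [AddCommGroup Y'] [Module k Y']

/-- if `A₂ → A₁ → Y → 0` and `B₂ → B₁ → Y' → 0` are exact and compatible `A₁ ≃ B₁`, `A₂ ↠ B₂` are
given, then `Y ≃ Y'`. -/
theorem step_coker (a : A₂ →ₗ[k] A₁) (b : A₁ →ₗ[k] Y) (hb : Function.Surjective b)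
    (hba : ∀ y, b (a y) = 0) (hex : ∀ x, b x = 0 → ∃ y, a y = x)
    (a' : B₂ →ₗ[k] B₁) (b' : B₁ →ₗ[k] Y') (hb' : Function.Surjective b')
    (hba' : ∀ y, b' (a' y) = 0) (hex' : ∀ x, b' x = 0 → ∃ y, a' y = x)
    (θ₁ : A₁ ≃ₗ[k] B₁) (θ₂ : A₂ →ₗ[k] B₂) (hθ₂ : Function.Surjective θ₂)
    (hcomp : ∀ y, θ₁ (a y) = a' (θ₂ y)) : Nonempty (Y ≃ₗ[k] Y') := by
  let g : A₁ →ₗ[k] Y' := b'.comp θ₁.toLinearMap
  have hg : Function.Surjective g := hb'.comp θ₁.surjective
  have hker : LinearMap.ker g = LinearMap.ker b := by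
    ext x
    rw [LinearMap.mem_ker, LinearMap.mem_ker]
    constructor
    · intro hx
      obtain ⟨w, hw⟩ := hex' (θ₁ x) hx
      obtain ⟨y, rfl⟩ := hθ₂ w
      rw [← hcomp] at hw
      rw [← θ₁.injective hw]
      exact hba y
    · intro hx
      obtain ⟨y, rfl⟩ := hex x hx
      change b' (θ₁ (a y)) = 0
      rw [hcomp]
      exact hba' _
  exact ⟨(LinearMap.quotKerEquivOfSurjective b hb).symm ≪≫ₗ
    (Submodule.quotEquivOfEq _ _ hker.symm) ≪≫ₗ LinearMap.quotKerEquivOfSurjective g hg⟩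

end LA

variable (A : Type u) [CommRing A] {X : Scheme.{u}} [X.Over (Spec (CommRingCat.of A))]

section HHSide

theorem HH_exact₂ (S : ShortComplex X.Modules) (hS : S.ShortExact) (i : ℕ)
    (x : Coh.HH X S.X₂ i) (hx : Canon.HHlin A S.g i x = 0) :
    ∃ y : Coh.HH X S.X₁ i, Canon.HHlin A S.f i y = x := by
  obtain ⟨y, hy⟩ := Ext.covariant_sequence_exact₂ _ (shortExact_toAbF S hS) (n := i) x hx
  exact ⟨y, hy⟩

theorem HH_exact₃ (S : ShortComplex X.Modules) (hS : S.ShortExact) (i : ℕ)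
    (x : Coh.HH X S.X₃ i) (hx : deltaLin A S hS i x = 0) :
    ∃ y : Coh.HH X S.X₂ i, Canon.HHlin A S.g i y = x :=
  exact_delta S hS i x hx

/-- For an exact sequence `0 → K → B → C → D → 0` with `H¹(K) = H²(K) = H¹(B) = 0`, the sequence
`H⁰(B) → H⁰(C) → H⁰(D) → 0` is exact. -/
theorem gamma_exact {K B C D : X.Modules} (i : K ⟶ B) (f : B ⟶ C) (g : C ⟶ D) (hi : Mono i)
    (hg : Epi g)
    (w₁ : i ≫ f = 0) (h₁ : (ShortComplex.mk i f w₁).Exact)
    (w₂ : f ≫ g = 0) (h₂ : (ShortComplex.mk f g w₂).Exact)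
    (hK1 : Subsingleton (Coh.HH X K 1)) (hK2 : Subsingleton (Coh.HH X K 2))
    (hB1 : Subsingleton (Coh.HH X B 1)) :
    Function.Surjective (Canon.HHlin A g 0) ∧
      ∀ x : Coh.HH X C 0, Canon.HHlin A g 0 x = 0 →
        ∃ y : Coh.HH X B 0, Canon.HHlin A f 0 y = x := by
  haveI := hi
  haveI := hg
  let e : B ⟶ kernel g := kernel.lift g f w₂
  have he : Epi e := (ShortComplex.exact_iff_epi_kernel_lift _).1 h₂
  have hef : e ≫ kernel.ι g = f := kernel.lift_ι _ _ _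
  let S₂ : ShortComplex X.Modules := ShortComplex.mk (kernel.ι g) g (kernel.condition g)
  have hS₂ : S₂.ShortExact :=
    ShortComplex.ShortExact.mk' (ShortComplex.exact_of_f_is_kernel _ (kernelIsKernel g))
      (inferInstanceAs (Mono (kernel.ι g))) (inferInstanceAs (Epi g))
  have w : i ≫ e = 0 := by
    rw [← cancel_mono (kernel.ι g), Category.assoc, hef, w₁, zero_comp]
  let S₁ : ShortComplex X.Modules := ShortComplex.mk i e w
  have hS₁ex : S₁.Exact := by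
    let φ : S₁ ⟶ ShortComplex.mk i f w₁ :=
      { τ₁ := 𝟙 _
        τ₂ := 𝟙 _
        τ₃ := kernel.ι g
        comm₁₂ := by simp [S₁]
        comm₂₃ := by
          dsimp only [S₁]
          rw [hef, Category.id_comp] }
    haveI : Epi φ.τ₁ := inferInstanceAs (Epi (𝟙 _))
    haveI : IsIso φ.τ₂ := inferInstanceAs (IsIso (𝟙 _))
    haveI : Mono φ.τ₃ := inferInstanceAs (Mono (kernel.ι g))
    exact (ShortComplex.exact_iff_of_epi_of_isIso_of_mono φ).2 h₁
  have hS₁ : S₁.ShortExact :=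
    ShortComplex.ShortExact.mk' hS₁ex (inferInstanceAs (Mono i)) he
  -- `H¹(ker g) = 0`
  have hI1 : ∀ z : Coh.HH X (kernel g) 1, z = 0 := by
    intro z
    have hz : deltaLin A S₁ hS₁ 1 z = 0 := Subsingleton.elim (α := Coh.HH X K 2) _ _
    obtain ⟨y, hy⟩ := HH_exact₃ A S₁ hS₁ 1 z hz
    have : y = 0 := Subsingleton.elim (α := Coh.HH X B 1) _ _
    rw [← hy, this, map_zero]
  constructor
  · intro t
    have ht : deltaLin A S₂ hS₂ 0 t = 0 := hI1 _
    exact HH_exact₃ A S₂ hS₂ 0 t ht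
  · intro x hx
    obtain ⟨z, hz⟩ := HH_exact₂ A S₂ hS₂ 0 x hx
    have hz' : deltaLin A S₁ hS₁ 0 z = 0 := Subsingleton.elim (α := Coh.HH X K 1) _ _
    obtain ⟨y, hy⟩ := HH_exact₃ A S₁ hS₁ 0 z hz'
    refine ⟨y, ?_⟩
    rw [← hef, HHlin_comp]
    exact (congrArg (Canon.HHlin A (kernel.ι g) 0) hy).trans hz

end HHSide

section ExtSide

variable [HasExt.{u} X.Modules] (S : ShortComplex X.Modules) (hS : S.ShortExact) (ω : X.Modules)

/-- the connecting map `Ext^i(K, ω) → Ext^{i+1}(F, ω)`. -/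
noncomputable def extDelta (i : ℕ) : Ext.{u} S.X₁ ω i →ₗ[A] Ext.{u} S.X₃ ω (i + 1) :=
  hS.extClass.precompOfLinear A ω (add_comm 1 i)

theorem extDelta_apply (i : ℕ) (x : Ext.{u} S.X₁ ω i) :
    extDelta A S hS ω i x = hS.extClass.comp x (add_comm 1 i) := rfl

theorem surjective_extDelta (i : ℕ) (h2' : Subsingleton (Ext.{u} S.X₂ ω (i + 1))) :
    Function.Surjective (extDelta A S hS ω i) := by
  intro x₃
  obtain ⟨x₁, hx₁⟩ := Ext.contravariant_sequence_exact₃ hS ω x₃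
    (Subsingleton.elim _ _) (add_comm 1 i)
  exact ⟨x₁, hx₁⟩

theorem exact_extDelta (i : ℕ) (x : Ext.{u} S.X₁ ω i) (hx : extDelta A S hS ω i x = 0) :
    ∃ y : Ext.{u} S.X₂ ω i, (Ext.mk₀ S.f).comp y (zero_add i) = x :=
  Ext.contravariant_sequence_exact₁ hS ω x (add_comm 1 i) hx

theorem extDelta_comp (i : ℕ) (y : Ext.{u} S.X₂ ω i) :
    extDelta A S hS ω i ((Ext.mk₀ S.f).comp y (zero_add i)) = 0 :=
  hS.extClass_comp_assoc (h := add_comm 1 i) y

include hS in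
/-- `Ext^i(K, ω) ≃ Ext^{i+1}(F, ω)` when `Ext^i(E, ω) = 0 = Ext^{i+1}(E, ω)`. -/
theorem nonempty_extDelta_equiv (i : ℕ) (h2 : Subsingleton (Ext.{u} S.X₂ ω i))
    (h2' : Subsingleton (Ext.{u} S.X₂ ω (i + 1))) :
    Nonempty (Ext.{u} S.X₁ ω i ≃ₗ[A] Ext.{u} S.X₃ ω (i + 1)) := by
  refine ⟨LinearEquiv.ofBijective (extDelta A S hS ω i)
    ⟨?_, surjective_extDelta A S hS ω i h2'⟩⟩
  rw [injective_iff_map_eq_zero]
  intro x hx
  obtain ⟨y, rfl⟩ := exact_extDelta A S hS ω i x hx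
  have : y = 0 := Subsingleton.elim _ _
  rw [this, Ext.comp_zero]

end ExtSide

end Groth.Agent.LeadExtTw
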