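import Mathlib
import Groth.Agent.Lib.Helper27ExtHom1
import Groth.Agent.Lib.Helper27LesLin
import Groth.Agent.Lib.LeadExtAff2
import Groth.Agent.Lib.LeadExtTw1

/-!
# Lead: `Ext^0(F, N) ≃ₗ[A] H^0(X, ℰxt^0(F, N))`, naturally in `F`
-/

set_option autoImplicit false
universe u
open CategoryTheory CategoryTheory.Limits AlgebraicGeometry TopologicalSpace Opposite Abelian

namespace Groth.Agent.LeadExtTw

open Groth.Agent.Lib.Helper27ExtHom1 Groth.Agent.Lib.Helper27DualRes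
  Groth.Agent.Lib.Helper21.ModTensor3 Groth.Agent.Lib.Helper21.ModTensor5
  Groth.Agent.Lib.Helper21.SheafHomFree Groth.Agent.Lib.Helper21.ExtShDelta
  Groth.Agent.Lib.Helper21.CoDeltaLib

attribute [local instance] Groth.Agent.Lib.Helper21.ExtShDelta.hasSheafHom

theorem inv_comm {C : Type*} [Category C] {P Q P' Q' : C} (e : P ≅ Q) (e' : P' ≅ Q')
    (a : P ⟶ P') (b : Q ⟶ Q') (h : a ≫ e'.hom = e.hom ≫ b) : b ≫ e'.inv = e.inv ≫ a := by
  rw [Iso.comp_inv_eq, Category.assoc, Iso.eq_inv_comp, h]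

section Site

variable {C : Type u} [SmallCategory C] {J : GrothendieckTopology C} (O : Sheaf J CommRingCat.{u})

theorem key_unit {F F' N : ModSite.Mod O} (u : F' ⟶ F) (f : F ⟶ N) :
    ((brd O).app F').symm.hom.app (ModSite.unit O) ≫ (aIso O F').inv ≫ u ≫ f =
      ((ModSite.tensorBi O).flip.map u).app (ModSite.unit O) ≫
        ((brd O).app F).symm.hom.app (ModSite.unit O) ≫ (aIso O F).inv ≫ f := by
  have h1 : (aIso O F').inv ≫ u =
      ((ModSite.tensorBi O).map u).app (ModSite.unit O) ≫ (aIso O F).inv := by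
    rw [Iso.inv_comp_eq, ← Category.assoc, Iso.eq_comp_inv]
    exact aIso_nat O u
  have h2 := congrArg (fun t => t.app (ModSite.unit O)) ((brd O).inv.naturality u)
  simp only [NatTrans.comp_app] at h2
  have h3 : ((brd O).app F').symm.hom.app (ModSite.unit O) =
      ((brd O).inv.app F').app (ModSite.unit O) := rfl
  have h4 : ((brd O).app F).symm.hom.app (ModSite.unit O) =
      ((brd O).inv.app F).app (ModSite.unit O) := rfl
  rw [h3, h4, ← Category.assoc ((aIso O F').inv) u f, h1, Category.assoc, ← Category.assoc,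
    ← h2, Category.assoc]

end Site

variable {A : Type u} [CommRing A] {X : Scheme.{u}} [X.Over (Spec (CommRingCat.of A))]

/-- the adjunction `F ⊗ - ⊣ ℋom(F, -)`. -/
noncomputable def adjL (F : X.Modules) : tensL F ⊣ ModSite.sheafHom (O := X.sheaf) F :=
  (ModSite.sheafHomAdj (O := X.sheaf) F).ofNatIsoLeft ((brd X.sheaf).app F).symm

theorem homUnitEquiv_nat {F F' : X.Modules} (u : F' ⟶ F) (N : X.Modules) (f : F ⟶ N) :
    homUnitEquiv F' _ (adjL F') N (u ≫ f) =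
      homUnitEquiv F _ (adjL F) N f ≫ (ExtSupp.sheafHomMap (O := X.sheaf) u).app N := by
  refine (homUnitEquiv_apply F' _ (adjL F') N (u ≫ f)).trans ?_
  refine Eq.trans ?_ (congrArg (fun t => t ≫ (ExtSupp.sheafHomMap (O := X.sheaf) u).app N)
    (homUnitEquiv_apply F _ (adjL F) N f)).symm
  refine (ofNatIsoLeft_homEquiv (ModSite.sheafHomAdj (O := X.sheaf) F')
    ((brd X.sheaf).app F').symm _).trans ?_
  refine Eq.trans ?_ (congrArg (fun t => t ≫ (ExtSupp.sheafHomMap (O := X.sheaf) u).app N)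
    (ofNatIsoLeft_homEquiv (ModSite.sheafHomAdj (O := X.sheaf) F)
      ((brd X.sheaf).app F).symm _)).symm
  refine Eq.trans ?_ (homEquiv_conjugateEquiv (ModSite.sheafHomAdj (O := X.sheaf) F)
    (ModSite.sheafHomAdj (O := X.sheaf) F') ((ModSite.tensorBi X.sheaf).flip.map u) _)
  exact congrArg _ (key_unit X.sheaf u f)

variable [HasExt.{u} X.Modules]

/-- `Ext^0(F, N) ≃ₗ[A] H^0(X, ℋom(F, N))`. -/
noncomputable def Θ₀ (F N : X.Modules) :
    Ext.{u} F N 0 ≃ₗ[A] Coh.HH X ((ModSite.sheafHom (O := X.sheaf) F).obj N) 0 :=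
  T (k := A) F (ModSite.sheafHom (O := X.sheaf) F) (adjL F) N

theorem Θ₀_nat {F F' : X.Modules} (u : F' ⟶ F) (N : X.Modules) (x : Ext.{u} F N 0) :
    Θ₀ (A := A) F' N ((Ext.mk₀ u).comp x (zero_add 0)) =
      Canon.HHlin A ((ExtSupp.sheafHomMap (O := X.sheaf) u).app N) 0 (Θ₀ (A := A) F N x) := by
  obtain ⟨f, rfl⟩ := (Ext.mk₀_bijective F N).2 x
  rw [Ext.mk₀_comp_mk₀]
  unfold Θ₀
  rw [T_apply, T_apply]
  apply (h0 _).injective
  rw [h0_HHlin]
  unfold Tfun
  rw [AddEquiv.apply_symm_apply, AddEquiv.apply_symm_apply]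
  have h1 : ∀ {M M' : X.Modules} (h : M ⟶ M'), Ext.linearEquiv₀ (R := A) (Ext.mk₀ h) = h := by
    intro M M' h
    apply (Ext.linearEquiv₀ (R := A)).symm.injective
    rw [LinearEquiv.symm_apply_apply]
    rfl
  rw [h1, h1, homUnitEquiv_nat]
  rfl

variable [HasInjectiveResolutions (ModSite.Mod X.sheaf)]

/-- `ℰxt^0(F, N) ≅ ℋom(F, N)`. -/
noncomputable def e0 (F N : X.Modules) :
    (extShDelta (O := X.sheaf) N).E 0 F ≅ (ModSite.sheafHom (O := X.sheaf) F).obj N :=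
  haveI := sheafHom_preservesFiniteLimits X.sheaf F
  (Functor.rightDerivedZeroIsoSelf (ModSite.sheafHom (O := X.sheaf) F)).app N

omit [X.Over (Spec (CommRingCat.of A))] [HasExt.{u} X.Modules] in
theorem e0_nat {F F' : X.Modules} (u : F' ⟶ F) (N : X.Modules) :
    (extShDelta (O := X.sheaf) N).map 0 u ≫ (e0 F' N).hom =
      (e0 F N).hom ≫ (ExtSupp.sheafHomMap (O := X.sheaf) u).app N := by
  haveI := sheafHom_preservesFiniteLimits X.sheaf F
  haveI := sheafHom_preservesFiniteLimits X.sheaf F'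
  exact Groth.Agent.LeadExtAff.rightDerivedZeroIsoSelf_nat (ExtSupp.sheafHomMap (O := X.sheaf) u) N

/-- `Ext^0(F, N) ≃ₗ[A] H^0(X, ℰxt^0(F, N))`. -/
noncomputable def Θ (F N : X.Modules) :
    Ext.{u} F N 0 ≃ₗ[A] Coh.HH X ((extShDelta (O := X.sheaf) N).E 0 F) 0 :=
  Θ₀ (A := A) F N ≪≫ₗ Groth.Agent.Lib.Helper27LesLin.HHequiv A (e0 F N).symm 0

theorem Θ_nat {F F' : X.Modules} (u : F' ⟶ F) (N : X.Modules) (x : Ext.{u} F N 0) :
    Θ (A := A) F' N ((Ext.mk₀ u).comp x (zero_add 0)) =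
      Canon.HHlin A ((extShDelta (O := X.sheaf) N).map 0 u) 0 (Θ (A := A) F N x) := by
  change Canon.HHlin A (e0 F' N).inv 0 (Θ₀ (A := A) F' N ((Ext.mk₀ u).comp x (zero_add 0))) =
    Canon.HHlin A ((extShDelta (O := X.sheaf) N).map 0 u) 0
      (Canon.HHlin A (e0 F N).inv 0 (Θ₀ (A := A) F N x))
  rw [Θ₀_nat, ← HHlin_comp, ← HHlin_comp]
  congr 2
  exact inv_comm (e0 F N) (e0 F' N) _ _ (e0_nat u N)

end Groth.Agent.LeadExtTw
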