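import Mathlib
import Groth.Agent.Lib.LeadExtTw2
import Groth.Agent.Lib.LeadExtTw3

/-!
# Lead: dimension shifting steps comparing `Ext^i(F, G)` with `H^0(X, ℰxt^i(F, G))`
-/

set_option autoImplicit false
universe u
open CategoryTheory CategoryTheory.Limits AlgebraicGeometry TopologicalSpace Opposite Abelian

namespace Groth.Agent.LeadExtTw

open Groth.Agent.Lib.Helper27DualRes Groth.Agent.Lib.Helper21.ExtShDelta
  Groth.Agent.Lib.Helper21.CoDeltaLib

attribute [local instance] Groth.Agent.Lib.Helper21.ExtShDelta.hasSheafHom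

variable (A : Type u) [CommRing A] {X : Scheme.{u}} [X.Over (Spec (CommRingCat.of A))]
  [HasExt.{u} X.Modules] [HasInjectiveResolutions (ModSite.Mod X.sheaf)]

theorem step_one (S : ShortComplex X.Modules) (hS : S.ShortExact) (G' : X.Modules)
    (hE1 : Subsingleton (Ext.{u} S.X₂ G' 1))
    (hsE1 : IsZero ((extShDelta (O := X.sheaf) G').E 1 S.X₂))
    (hK1 : Subsingleton (Coh.HH X ((extShDelta (O := X.sheaf) G').E 0 S.X₃) 1))
    (hK2 : Subsingleton (Coh.HH X ((extShDelta (O := X.sheaf) G').E 0 S.X₃) 2))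
    (hB1 : Subsingleton (Coh.HH X ((extShDelta (O := X.sheaf) G').E 0 S.X₂) 1)) :
    Nonempty (Ext.{u} S.X₃ G' 1 ≃ₗ[A]
      Coh.HH X ((extShDelta (O := X.sheaf) G').E 1 S.X₃) 0) := by
  obtain ⟨w₁, h₁⟩ := (extShDelta (O := X.sheaf) G').exact₂ S hS 0
  obtain ⟨w₂, h₂⟩ := (extShDelta (O := X.sheaf) G').exact₃ S hS 0
  obtain ⟨w₃, h₃⟩ := (extShDelta (O := X.sheaf) G').exact₁ S hS 0
  have hm : Mono ((extShDelta (O := X.sheaf) G').map 0 S.g) :=
    (extShDelta (O := X.sheaf) G').mono_zero S hS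
  have he : Epi ((extShDelta (O := X.sheaf) G').δ S hS 0) :=
    (ShortComplex.exact_iff_epi _ (hsE1.eq_of_tgt _ _)).1 h₃
  obtain ⟨hsurj, hex⟩ := gamma_exact A ((extShDelta (O := X.sheaf) G').map 0 S.g)
    ((extShDelta (O := X.sheaf) G').map 0 S.f) ((extShDelta (O := X.sheaf) G').δ S hS 0)
    hm he w₁ h₁ w₂ h₂ hK1 hK2 hB1
  refine step_coker ((Ext.mk₀ S.f).precompOfLinear A G' (zero_add 0)) (extDelta A S hS G' 0)
    (surjective_extDelta A S hS G' 0 hE1) (extDelta_comp A S hS G' 0)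
    (exact_extDelta A S hS G' 0)
    (Canon.HHlin A ((extShDelta (O := X.sheaf) G').map 0 S.f) 0)
    (Canon.HHlin A ((extShDelta (O := X.sheaf) G').δ S hS 0) 0) hsurj ?_ hex
    (Θ (A := A) S.X₁ G') (Θ (A := A) S.X₂ G').toLinearMap (Θ (A := A) S.X₂ G').surjective ?_
  · intro y
    refine (HHlin_comp (A := A) _ _ y).symm.trans ?_
    refine (congrArg (fun t => Canon.HHlin A t 0 y) w₂).trans ?_
    exact HHlin_zero y
  · intro y
    exact Θ_nat S.f G' y

theorem step_succ (S : ShortComplex X.Modules) (hS : S.ShortExact) (G' : X.Modules) (i : ℕ)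
    (hE : Subsingleton (Ext.{u} S.X₂ G' (i + 1)))
    (hE' : Subsingleton (Ext.{u} S.X₂ G' (i + 1 + 1)))
    (hs : IsZero ((extShDelta (O := X.sheaf) G').E (i + 1) S.X₂))
    (hs' : IsZero ((extShDelta (O := X.sheaf) G').E (i + 1 + 1) S.X₂))
    (ih : Nonempty (Ext.{u} S.X₁ G' (i + 1) ≃ₗ[A]
      Coh.HH X ((extShDelta (O := X.sheaf) G').E (i + 1) S.X₁) 0)) :
    Nonempty (Ext.{u} S.X₃ G' (i + 1 + 1) ≃ₗ[A]
      Coh.HH X ((extShDelta (O := X.sheaf) G').E (i + 1 + 1) S.X₃) 0) := by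
  obtain ⟨e₁⟩ := nonempty_extDelta_equiv A S hS G' (i + 1) hE hE'
  obtain ⟨e₂⟩ := ih
  have hiso := (extShDelta (O := X.sheaf) G').isIso_δ S hS (i + 1) hs hs'
  let e₃ : (show X.Modules from (extShDelta (O := X.sheaf) G').E (i + 1) S.X₁) ≅
      (show X.Modules from (extShDelta (O := X.sheaf) G').E (i + 1 + 1) S.X₃) :=
    @asIso _ _ _ _ ((extShDelta (O := X.sheaf) G').δ S hS (i + 1)) hiso
  exact ⟨e₁.symm ≪≫ₗ e₂ ≪≫ₗ Groth.Agent.Lib.Helper27LesLin.HHequiv A e₃ 0⟩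

end Groth.Agent.LeadExtTw
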