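import Mathlib
import Groth.Agent.Lib.LeadExtTw4
import Groth.Agent.Lib.Helper27HilbEventually
import Groth.Agent.Lib.Helper27AmpleSerre
import Groth.Agent.Lib.Helper27QProjCover2
import Groth.Agent.Lib.Helper27LocFF
import Groth.Agent.Lib.Helper27ExtTwist1
import Groth.Agent.Lib.Helper27ExtTwist2
import Groth.Agent.Lib.Helper21Dual13
import Groth.Agent.Lib.Helper21HZB9
import Groth.Agent.Lib.Helper21ExtShLocFree
import Groth.Agent.Lib.Helper23ResProp
import Groth.Agent.Lib.Helper23PB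
import Groth.Agent.Lib.Helper23VeryAmple3
import Groth.Agent.Lib.Helper23TensorQCoh
import Groth.Agent.Lib.Helper4DevD
import Groth.Agent.S10943

/-!
# Lead: `Ext^i(F, G(d)) ≃ₗ[A] H^0(X, ℰxt^i(F, G(d)))` for `d ≫ 0` on a projective scheme over a
Noetherian ring
-/

set_option autoImplicit false
universe u
open CategoryTheory CategoryTheory.Limits AlgebraicGeometry TopologicalSpace Opposite Abelian

namespace Groth.Agent.LeadExtTw

open Groth.Agent.Lib.Helper27DualRes Groth.Agent.Lib.Helper21.ExtShDelta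
  Groth.Agent.Lib.Helper21.CoDeltaLib Groth.Agent.Lib.Helper21.ModTensor3
  Groth.Agent.Lib.Helper21.ModTensor7 Groth.Agent.Lib.Helper21.Dual
  Groth.Agent.Lib.Helper4.Dev

attribute [local instance] Groth.Agent.Lib.Helper21.ExtShDelta.hasSheafHom

variable (A : Type u) [CommRing A] (n : ℕ) {X : Scheme.{u}}
  (ι : X ⟶ CohB1.ProjSpace n A)

/-- `ι^* O(d)`. -/
noncomputable abbrev Ld (d : ℤ) : X.Modules :=
  (Scheme.Modules.pullback ι).obj (Twist.twistProjSpace n A d)

/-- `G(d) = G ⊗ ι^* O(d)`. -/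
noncomputable abbrev tw (G : X.Modules) (d : ℤ) : X.Modules := CohB1.tensorMod G (Ld A n ι d)

theorem nonempty_Ld_inv (d : ℤ) :
    Nonempty (CohB1.tensorMod (Ld A n ι d) (Ld A n ι (-d)) ≅ Coh.structureModule X) := by
  obtain ⟨e⟩ := Groth.Agent.Lib.Helper27AmpleSerre.nonempty_twist_inv n A d
  obtain ⟨e2⟩ := Groth.Agent.Lib.Helper23.PB.nonempty_pullback_tensorMod_iso ι _ _
    (Groth.Agent.Lib.Helper27SerreVanPn.isInvertible_twist n A d)
    (Groth.Agent.Lib.Helper27SerreVanPn.isInvertible_twist n A (-d))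
  exact ⟨e2.symm ≪≫ (Scheme.Modules.pullback ι).mapIso e ≪≫
    Groth.Agent.Lib.Helper23.PB.pullbackUnitIso ι⟩

theorem nonempty_Ld_inv' (d : ℤ) :
    Nonempty (CohB1.tensorMod (Ld A n ι (-d)) (Ld A n ι d) ≅ Coh.structureModule X) := by
  obtain ⟨e⟩ := Groth.Agent.Lib.Helper27AmpleSerre.nonempty_twist_inv' n A d
  obtain ⟨e2⟩ := Groth.Agent.Lib.Helper23.PB.nonempty_pullback_tensorMod_iso ι _ _
    (Groth.Agent.Lib.Helper27SerreVanPn.isInvertible_twist n A (-d))
    (Groth.Agent.Lib.Helper27SerreVanPn.isInvertible_twist n A d)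
  exact ⟨e2.symm ≪≫ (Scheme.Modules.pullback ι).mapIso e ≪≫
    Groth.Agent.Lib.Helper23.PB.pullbackUnitIso ι⟩

variable [IsNoetherianRing A] [IsClosedImmersion ι]

include A n ι in
theorem isNoetherian_of_closedImmersion : IsNoetherian X := by
  haveI := Groth.Agent.Lib.Helper27QProjCover.isNoetherian_projSpace n A
  haveI : IsLocallyNoetherian (CohB1.ProjSpace n A) := inferInstance
  haveI : IsLocallyNoetherian X := LocallyOfFiniteType.isLocallyNoetherian ι
  haveI : CompactSpace X := by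
    have h1 : IsCompact (ι ⁻¹' (Set.univ : Set (CohB1.ProjSpace n A))) :=
      QuasiCompact.isCompact_preimage (f := ι) _ isOpen_univ isCompact_univ
    rw [Set.preimage_univ] at h1
    exact isCompact_univ_iff.1 h1
  exact {}

include A n ι in
theorem exists_resolution (F : X.Modules) (hF : Coh.IsCoh F) :
    ∃ (E : X.Modules) (π : E ⟶ F), FlatMod.IsFinLocFree E ∧ Epi π := by
  have hL : CohB1.IsAmple (Ld A n ι 1) :=
    Groth.Agent.Lib.Helper23.PB.isAmple_pullback_of_isAffineHom ι _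
      (Groth.Agent.Lib.Helper23.VeryAmple3.isAmple_twistProjSpace (n := n) (R := A))
  exact Groth.Agent.Lib.Helper23.ResProp.hasResolutionProperty_of_isAmple _ hL F hF.1 hF.2

variable [X.Over (Spec (CommRingCat.of A))]

section Sheaf

variable [HasInjectiveResolutions (ModSite.Mod X.sheaf)]

/-- Serre vanishing for `ℰxt^0(M, G(d))`. -/
theorem exists_vanishing_E0 (M G : X.Modules) (hM : Coh.IsCoh M) (hG : Coh.IsCoh G) :
    ∃ N : ℤ, ∀ d : ℤ, N ≤ d → ∀ p : ℕ, 0 < p →
      Subsingleton (Coh.HH X ((extShDelta (O := X.sheaf) (tw A n ι G d)).E 0 M) p) := by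
  haveI : IsNoetherian X := isNoetherian_of_closedImmersion A n ι
  have hK : Coh.IsCoh ((extShDelta (O := X.sheaf) G).E 0 M) :=
    Groth.Agent.S10943.result X M G hM hG 0
  have hK₀ : Coh.IsCoh ((ModSite.sheafHom (O := X.sheaf) M).obj G) := isCoh_of_iso (e0 M G) hK
  obtain ⟨N, hN⟩ := Groth.Agent.Lib.Helper27HilbEventually.exists_vanishing_twists A n ι _ hK₀
  refine ⟨N, fun d hd p hp => ?_⟩
  obtain ⟨e⟩ := nonempty_Ld_inv A n ι d
  obtain ⟨e'⟩ := nonempty_Ld_inv' A n ι d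
  let φ : (show X.Modules from (extShDelta (O := X.sheaf) (tw A n ι G d)).E 0 M) ≅
      CohB1.tensorMod ((ModSite.sheafHom (O := X.sheaf) M).obj G) (Ld A n ι d) :=
    e0 M (tw A n ι G d) ≪≫
      ((sheafHomTwistIso X.sheaf M (Ld A n ι d) (Ld A n ι (-d)) e e').app G).symm
  haveI := hN d hd p hp
  exact (Groth.Agent.Lib.Helper27LesLin.HHequiv A φ p).toEquiv.subsingleton

end Sheaf

section ExtV

variable [HasExt.{u} X.Modules]

/-- `Ext^i(E, G(d)) = 0` for `i > 0`, `d ≫ 0`, `E` finite locally free. -/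
theorem exists_vanishing_ext (E G : X.Modules) (hE : FlatMod.IsFinLocFree E) (hG : Coh.IsCoh G) :
    ∃ N : ℤ, ∀ d : ℤ, N ≤ d → ∀ i : ℕ, 0 < i →
      Subsingleton (Ext.{u} E (tw A n ι G d) i) := by
  have hEd : FlatMod.IsFinLocFree (dual (O := X.sheaf) E) :=
    Groth.Agent.Lib.Helper27LocFF.isFinLocFree_dual E hE
  have hEdc : Coh.IsCoh (dual (O := X.sheaf) E) :=
    Groth.Agent.Lib.Helper21.HZB.isCoh_of_isFinLocFree _ hEd
  have hcoh : Coh.IsCoh (CohB1.tensorMod G (dual (O := X.sheaf) E)) := by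
    haveI : G.IsQuasicoherent := hG.1
    haveI : SheafOfModules.IsFiniteType (R := X.ringCatSheaf) G := hG.2
    haveI : (show X.Modules from dual (O := X.sheaf) E).IsQuasicoherent := hEdc.1
    haveI : SheafOfModules.IsFiniteType (R := X.ringCatSheaf)
      (show X.Modules from dual (O := X.sheaf) E) := hEdc.2
    exact ⟨Groth.Agent.Lib.Helper23.TensorQCoh.isQuasicoherent_tensorMod _ _,
      Groth.Agent.Lib.Helper23.TensorQCoh.isFiniteType_tensorMod _ _⟩
  obtain ⟨N, hN⟩ := Groth.Agent.Lib.Helper27HilbEventually.exists_vanishing_twists A n ι _ hcoh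
  refine ⟨N, fun d hd i hi => ?_⟩
  have h1 := hN d hd i hi
  let σ : CohB1.tensorMod (tw A n ι G d) (dual (O := X.sheaf) E) ≅
      CohB1.tensorMod (CohB1.tensorMod G (dual (O := X.sheaf) E)) (Ld A n ι d) :=
    (tRSwapIso X.sheaf (dual (O := X.sheaf) E) (Ld A n ι d)).app G
  have h2 : Subsingleton (Coh.HH X (CohB1.tensorMod (tw A n ι G d) (dual (O := X.sheaf) E)) i) :=
    (Groth.Agent.Lib.Helper27LesLin.HHequiv A σ i).toEquiv.subsingleton
  have h3 : Subsingleton (Ext.{u} (Coh.structureModule X)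
      (CohB1.tensorMod (tw A n ι G d) (dual (O := X.sheaf) E)) i) :=
    Groth.Agent.Lib.Helper27ExtTwist2.subsingleton_ext_unit _ i h2
  have hO : HasExt.{u} (ModSite.Mod X.sheaf) := ‹HasExt.{u} X.Modules›
  obtain ⟨a⟩ := @nonempty_ext_tensor_dual _ _ _ X.sheaf E (isLocFF_of_isFinLocFree E hE)
    (ModSite.unit X.sheaf) (tw A n ι G d) hO i
  have h4 : Subsingleton (Ext.{u} ((tR X.sheaf E).obj (ModSite.unit X.sheaf)) (tw A n ι G d) i) :=
    @Equiv.subsingleton _ _ a.toEquiv h3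
  exact Groth.Agent.Lib.Helper27ExtTwist1.subsingleton_ext_of_iso
    ((tLUnitIso X.sheaf).app E) (Iso.refl _) i h4

end ExtV

section Main

variable [HasExt.{u} X.Modules] [HasInjectiveResolutions (ModSite.Mod X.sheaf)]

theorem main (G : X.Modules) (hG : Coh.IsCoh G) (i : ℕ) :
    ∀ F : X.Modules, Coh.IsCoh F → ∃ d₀ : ℕ, ∀ d : ℕ, d₀ ≤ d →
      Nonempty (Ext.{u} F (tw A n ι G (d : ℤ)) i ≃ₗ[A]
        Coh.HH X ((extShDelta (O := X.sheaf) (tw A n ι G (d : ℤ))).E i F) 0) := by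
  haveI : IsNoetherian X := isNoetherian_of_closedImmersion A n ι
  induction i with
  | zero =>
    intro F _
    exact ⟨0, fun d _ => ⟨Θ (A := A) F (tw A n ι G (d : ℤ))⟩⟩
  | succ i ih =>
    intro F hF
    obtain ⟨E, π, hE, hπ⟩ := exists_resolution A n ι F hF
    have hEc : Coh.IsCoh E := Groth.Agent.Lib.Helper21.HZB.isCoh_of_isFinLocFree E hE
    have hS := sesOfEpi_shortExact π
    have hR : Coh.IsCoh (kernel π) := isCoh_kernel π hEc hF
    obtain ⟨N₁, hN₁⟩ := exists_vanishing_ext A n ι E G hE hG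
    have hsE : ∀ (G' : X.Modules) (q : ℕ),
        IsZero ((extShDelta (O := X.sheaf) G').E (q + 1) E) := fun G' q =>
      Groth.Agent.Lib.Helper21.ExtShLocFree.isZero_extSh_of_isFinLocFree E G' hE q
    rcases i with _ | j
    · obtain ⟨N₂, hN₂⟩ := exists_vanishing_E0 A n ι F G hF hG
      obtain ⟨N₃, hN₃⟩ := exists_vanishing_E0 A n ι E G hEc hG
      refine ⟨max N₁.toNat (max N₂.toNat N₃.toNat), fun d hd => ?_⟩
      have h1 : N₁ ≤ (d : ℤ) := Int.toNat_le.1 ((le_max_left _ _).trans hd)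
      have h2 : N₂ ≤ (d : ℤ) :=
        Int.toNat_le.1 ((le_max_left _ _).trans ((le_max_right _ _).trans hd))
      have h3 : N₃ ≤ (d : ℤ) :=
        Int.toNat_le.1 ((le_max_right _ _).trans ((le_max_right _ _).trans hd))
      exact step_one A (sesOfEpi π) hS (tw A n ι G (d : ℤ)) (hN₁ d h1 1 Nat.one_pos)
        (hsE _ 0) (hN₂ d h2 1 Nat.one_pos) (hN₂ d h2 2 (by norm_num)) (hN₃ d h3 1 Nat.one_pos)
    · obtain ⟨d₂, hd₂⟩ := ih (kernel π) hR
      refine ⟨max N₁.toNat d₂, fun d hd => ?_⟩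
      have h1 : N₁ ≤ (d : ℤ) := Int.toNat_le.1 ((le_max_left _ _).trans hd)
      exact step_succ A (sesOfEpi π) hS (tw A n ι G (d : ℤ)) j
        (hN₁ d h1 (j + 1) (Nat.succ_pos j)) (hN₁ d h1 (j + 1 + 1) (Nat.succ_pos _))
        (hsE _ j) (hsE _ (j + 1)) (hd₂ d ((le_max_right _ _).trans hd))

end Main

end Groth.Agent.LeadExtTw
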