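import Mathlib
import Groth.Agent.Lib.LeadExtTw5
import Groth.Agent.Lib.LeadBdd1
import Groth.Agent.Lib.Helper27HilbPolyB
import Groth.Agent.Lib.Helper27CoprodFin
import Groth.Agent.Lib.Helper27ExtDual2

/-!
# Lead: Serre duality with `Ext` on a projective scheme from negative-twist vanishing
-/

set_option autoImplicit false
universe u
open CategoryTheory CategoryTheory.Limits AlgebraicGeometry TopologicalSpace Opposite Abelian

namespace Groth.Agent.LeadExtTw

open Groth.Agent.Lib.Helper27DualRes Groth.Agent.Lib.Helper21.ModTensor3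
  Groth.Agent.Lib.Helper21.ModTensor7 Groth.Agent.Lib.Helper4.Dev
  Groth.Agent.Lib.Helper27ExtTwist1 Groth.Agent.LeadBdd

attribute [local instance] Groth.Agent.Lib.Helper21.ExtShDelta.hasSheafHom

section Site

variable {C : Type u} [SmallCategory C] {J : GrothendieckTopology C} (O : Sheaf J CommRingCat.{u})

/-- `Ext^i(A ⊗ L, B ⊗ L) = 0 ↔ Ext^i(A, B) = 0` for `L` with a tensor inverse. -/
theorem subsingleton_ext_tR_iff [HasExt.{u} (ModSite.Mod O)] (L L' : ModSite.Mod O)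
    (e : ((ModSite.tensorBi O).obj L).obj L' ≅ ModSite.unit O)
    (e' : ((ModSite.tensorBi O).obj L').obj L ≅ ModSite.unit O) (A B : ModSite.Mod O) (i : ℕ) :
    Subsingleton (Ext.{u} ((tR O L).obj A) ((tR O L).obj B) i) ↔ Subsingleton (Ext.{u} A B i) := by
  have : EnoughInjectives (ModSite.Mod O) := Groth.Agent.S0485.result J _
  let E := tREquiv O L L' e e'
  haveI : (tR O L).IsEquivalence := E.isEquivalence_functor
  haveI : (tR O L').IsEquivalence := E.isEquivalence_inverse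
  haveI : (tR O L).PreservesInjectiveObjects :=
    Functor.preservesInjectiveObjects_of_adjunction_of_preservesMonomorphisms
      E.symm.toAdjunction
  have hbij := Functor.mapExt_bijective_of_preservesInjectiveObjects.{u, u} (tR O L) A B i
  exact ⟨fun h => hbij.1.subsingleton, fun h => hbij.2.subsingleton⟩

end Site

variable (A : Type u) [CommRing A] (n : ℕ) {X : Scheme.{u}}
  (ι : X ⟶ CohB1.ProjSpace n A)

section Untwist

variable [HasExt.{u} X.Modules]

/-- `Ext^i(M, G(q)) = 0 → Ext^i(M(-q), G) = 0`. -/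
theorem subsingleton_ext_untwist (M G : X.Modules) (q : ℤ) (i : ℕ)
    (h : Subsingleton (Ext.{u} M (tw A n ι G q) i)) :
    Subsingleton (Ext.{u} (CohB1.tensorMod M (Ld A n ι (-q))) G i) := by
  obtain ⟨e⟩ := nonempty_Ld_inv A n ι q
  obtain ⟨e'⟩ := nonempty_Ld_inv' A n ι q
  have hO : HasExt.{u} (ModSite.Mod X.sheaf) := ‹HasExt.{u} X.Modules›
  refine (@subsingleton_ext_tR_iff _ _ _ X.sheaf hO (Ld A n ι q) (Ld A n ι (-q)) e e'
    (CohB1.tensorMod M (Ld A n ι (-q))) G i).1 ?_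
  exact subsingleton_ext_of_iso
    ((tREquiv X.sheaf (Ld A n ι q) (Ld A n ι (-q)) e e').counitIso.app M).symm (Iso.refl _) i h

end Untwist

omit [CommRing A] in
theorem toNat_le_cast {N : ℤ} {q : ℕ} (h : N.toNat ≤ q) : N ≤ (q : ℤ) := Int.toNat_le.1 h

/-- `O_X(-q) = O_X ⊗ ι^* O(-q)`. -/
noncomputable abbrev Dq (q : ℕ) : X.Modules :=
  CohB1.tensorMod (Coh.structureModule X) (Ld A n ι (-(q : ℤ)))

theorem isInvertible_Dq (q : ℕ) : PicF.IsInvertible (Dq A n ι q) :=
  Groth.Agent.Lib.Helper23.SecTw.isInvertible_tensorMod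
    (Groth.Agent.Lib.Helper23.TensorUnit.isInvertible_structureModule X)
    (Groth.Agent.Lib.Helper23.PB.isInvertible_pullback ι _
      (Groth.Agent.Lib.Helper27SerreVanPn.isInvertible_twist n A _))

theorem isCoh_Dq (q : ℕ) : Coh.IsCoh (Dq A n ι q) :=
  ⟨Groth.Agent.Lib.Helper23.SecTw.isQuasicoherent_of_isInvertible _ (isInvertible_Dq A n ι q),
    Groth.Agent.Lib.Helper20.ZClosLib.isFiniteType_of_isInvertible _ (isInvertible_Dq A n ι q)⟩

theorem nonempty_pow_inverse (q : ℕ) :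
    Nonempty (CohB1.tensorMod (CohB1.tensorPow (Ld A n ι 1) q) (Dq A n ι q) ≅
      Coh.structureModule X) := by
  obtain ⟨e⟩ := nonempty_twist_pow_inverse A n q
  obtain ⟨e'⟩ := nonempty_pullback_inverse ι _ _
    (Groth.Agent.Lib.Helper27SerreVanPn.isInvertible_twist n A 1)
    (Groth.Agent.Lib.Helper27SerreVanPn.isInvertible_twist n A (-(q : ℤ))) q e
  exact ⟨Groth.Agent.Lib.Helper23.AmpleIso.tensorModIso (Iso.refl _)
    (Groth.Agent.Lib.Helper23.TensorUnit.unitTensorIso _) ≪≫ e'⟩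

variable [IsNoetherianRing A] [IsClosedImmersion ι] [X.Over (Spec (CommRingCat.of A))]
  [HasExt.{u} X.Modules]

/-- every coherent module is a quotient of some `O_X(-q)^b` with vanishing low cohomology and
vanishing higher `Ext` into `ω`, provided `H^j(X, O_X(-q)) = 0` for `j < m`, `q ≫ 0`. -/
theorem exists_good_presentation (m : ℕ) (ω : X.Modules) (hω : Coh.IsCoh ω)
    (hneg : ∃ q₀ : ℕ, ∀ q : ℕ, q₀ ≤ q → ∀ j : ℕ, j < m →
      Subsingleton (Coh.HH X (Dq A n ι q) j))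
    (F : X.Modules) (hF : Coh.IsCoh F) :
    ∃ (E : X.Modules) (p : E ⟶ F), Coh.IsCoh E ∧ Epi p ∧ Coh.IsCoh (kernel p) ∧
      (∀ j, j < m → Subsingleton (Coh.HH X E j)) ∧
      (∀ i, 0 < i → Subsingleton (Ext.{u} E ω i)) := by
  haveI : IsNoetherian X := isNoetherian_of_closedImmersion A n ι
  obtain ⟨q₀, hq₀⟩ := hneg
  obtain ⟨N₁, hN₁⟩ := Groth.Agent.Lib.Helper27HilbEventually.exists_vanishing_twists A n ι ω hω
  have hL : CohB1.IsAmple (Ld A n ι 1) :=
    Groth.Agent.Lib.Helper23.PB.isAmple_pullback_of_isAffineHom ι _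
      (Groth.Agent.Lib.Helper23.VeryAmple3.isAmple_twistProjSpace (n := n) (R := A))
  haveI : F.IsQuasicoherent := hF.1
  haveI : SheafOfModules.IsFiniteType (R := X.ringCatSheaf) F := hF.2
  obtain ⟨n₀, hn₀⟩ := Groth.Agent.Lib.Helper23.RelRes.exists_epi_freeMod_twist (Ld A n ι 1) hL F
  obtain ⟨b, p, hp⟩ := hn₀ (max q₀ (max N₁.toNat n₀))
    ((le_max_right _ _).trans (le_max_right _ _))
  have hq1 : q₀ ≤ max q₀ (max N₁.toNat n₀) := le_max_left _ _
  have hq2 : N₁ ≤ ((max q₀ (max N₁.toNat n₀) : ℕ) : ℤ) :=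
    toNat_le_cast ((le_max_left _ _).trans (le_max_right _ _))
  generalize max q₀ (max N₁.toNat n₀) = q at p hp hq1 hq2
  obtain ⟨e⟩ := nonempty_pow_inverse A n ι q
  haveI := hp
  obtain ⟨c, hc⟩ := exists_jEpi_of_twist F (CohB1.tensorPow (Ld A n ι 1) q) (Dq A n ι q) e p
  have hD := isCoh_Dq A n ι q
  have hE : Coh.IsCoh (∐ fun _ : Fin b => Dq A n ι q) :=
    ⟨Groth.Agent.Lib.Helper27CoprodFin.isQuasicoherent_sigma _ (fun _ => hD.1),
      Groth.Agent.Lib.Helper27CoprodFin.isFiniteType_sigma _ (fun _ => hD.1) (fun _ => hD.2)⟩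
  refine ⟨∐ fun _ : Fin b => Dq A n ι q, Sigma.desc c, hE, epi_sigmaDesc_of_jEpi c hc,
    isCoh_kernel _ hE hF, fun j hj => ?_, fun i hi => ?_⟩
  · haveI : ∀ _ : Fin b, Subsingleton (Coh.HH X (Dq A n ι q) j) := fun _ => hq₀ q hq1 j hj
    exact (Groth.Agent.Lib.Helper27HilbPolyB.HHsigmaEquiv A
      (fun _ : Fin b => Dq A n ι q) j).toEquiv.subsingleton
  · refine subsingleton_ext_sigma _ ω i (fun _ => ?_)
    refine subsingleton_ext_untwist A n ι (Coh.structureModule X) ω (q : ℤ) i ?_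
    exact Groth.Agent.Lib.Helper27ExtTwist2.subsingleton_ext_unit _ i (hN₁ q hq2 i hi)

end Groth.Agent.LeadExtTw
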