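import Mathlib
import Groth.Agent.Lib.LeadExtTw6

/-!
# Lead: Serre duality with `Ext` on a projective Cohen–Macaulay scheme (glue over the negative-twist
vanishing criterion)
-/

set_option autoImplicit false
universe u
open CategoryTheory CategoryTheory.Limits AlgebraicGeometry TopologicalSpace Opposite Abelian

namespace Groth.Agent.LeadExtTw

open Groth.Agent.Lib.Helper27DualRes Groth.Agent.Lib.Helper27ExtDual2
  Groth.Agent.Lib.Helper23.ResProp

variable (k : Type u) [Field k] (N n : ℕ) {X : Scheme.{u}} [X.Over (Spec (CommRingCat.of k))]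
  (ι : X ⟶ CohB1.ProjSpace N k) [IsClosedImmersion ι] [HasExt.{u} X.Modules]

theorem isFinLocFree_structureModule : FlatMod.IsFinLocFree (Coh.structureModule X) :=
  isFinLocFree_of_isInvertible _
    (Groth.Agent.Lib.Helper23.TensorUnit.isInvertible_structureModule X)

/-- Serre duality with `Ext` from negative-twist vanishing for locally free modules. -/
theorem duality_of_neg_vanishing (ω : X.Modules) (hω : Coh.IsCoh ω) (t : Coh.HH X ω n →ₗ[k] k)
    (hdual : ∀ F : X.Modules, Coh.IsCoh F → ∀ ψ : Coh.HH X F n →ₗ[k] k, ∃! φ : F ⟶ ω,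
      ∀ x : Coh.HH X F n,
        ψ x = t (Sheaf.H.map ((SheafOfModules.toSheaf X.ringCatSheaf).map φ) n x))
    (hb : ∀ F : X.Modules, FlatMod.IsFinLocFree F → ∃ q₀ : ℕ, ∀ q : ℕ, q₀ ≤ q → ∀ j : ℕ, j < n →
      Subsingleton (Coh.HH X (CohB1.tensorMod F
        ((Scheme.Modules.pullback ι).obj (Twist.twistProjSpace N k (-(q : ℤ))))) j))
    (F : X.Modules) (hF : Coh.IsCoh F) :
    (∀ i : ℕ, i ≤ n → Nonempty (Ext.{u} F ω i ≃ₗ[k] Module.Dual k (Coh.HH X F (n - i)))) ∧
      ∀ i : ℕ, n < i → Subsingleton (Ext.{u} F ω i) := by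
  have hneg := hb (Coh.structureModule X) isFinLocFree_structureModule
  have key := fun i => ext_duality (k := k) ω n t hdual
    (fun F' hF' => exists_good_presentation k N ι n ω hω hneg F' hF') i F hF
  exact ⟨fun i hi => (key i).1 (n - i) (by omega), fun i hi => (key i).2 hi⟩

theorem subsingleton_dual_iff (V : Type*) [AddCommGroup V] [Module k V] :
    Subsingleton (Module.Dual k V) ↔ Subsingleton V := by
  constructor
  · intro h
    refine ⟨fun a b => ?_⟩
    have ha : a - b = 0 := (Module.forall_dual_apply_eq_zero_iff k (a - b)).1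
      (fun φ => by rw [Subsingleton.elim φ 0]; rfl)
    exact sub_eq_zero.1 ha
  · intro h
    exact ⟨fun f g => LinearMap.ext (fun v => by rw [Subsingleton.elim v 0, map_zero, map_zero])⟩

/-- vanishing form of the duality. -/
theorem vanishing_iff_of_neg_vanishing (ω : X.Modules) (hω : Coh.IsCoh ω)
    (t : Coh.HH X ω n →ₗ[k] k)
    (hdual : ∀ F : X.Modules, Coh.IsCoh F → ∀ ψ : Coh.HH X F n →ₗ[k] k, ∃! φ : F ⟶ ω,
      ∀ x : Coh.HH X F n,
        ψ x = t (Sheaf.H.map ((SheafOfModules.toSheaf X.ringCatSheaf).map φ) n x))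
    (hb : ∀ F : X.Modules, FlatMod.IsFinLocFree F → ∃ q₀ : ℕ, ∀ q : ℕ, q₀ ≤ q → ∀ j : ℕ, j < n →
      Subsingleton (Coh.HH X (CohB1.tensorMod F
        ((Scheme.Modules.pullback ι).obj (Twist.twistProjSpace N k (-(q : ℤ))))) j))
    (F : X.Modules) (hF : Coh.IsCoh F) (i : ℕ) (hi : i ≤ n) :
    Subsingleton (Ext.{u} F ω i) ↔ Subsingleton (Coh.HH X F (n - i)) := by
  obtain ⟨e⟩ := (duality_of_neg_vanishing k N n ι ω hω t hdual hb F hF).1 i hi
  constructor
  · intro h
    have h1 : Subsingleton (Module.Dual k (Coh.HH X F (n - i))) := e.symm.toEquiv.subsingleton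
    exact (subsingleton_dual_iff k _).1 h1
  · intro h
    haveI : Subsingleton (Module.Dual k (Coh.HH X F (n - i))) := (subsingleton_dual_iff k _).2 h
    exact e.toEquiv.subsingleton

/-- negative-twist vanishing for locally free modules from the vanishing form of the duality. -/
theorem neg_vanishing_of_vanishing_iff (ω : X.Modules) (hω : Coh.IsCoh ω)
    (h : ∀ F : X.Modules, Coh.IsCoh F → ∀ i : ℕ, i ≤ n →
      (Subsingleton (Ext.{u} F ω i) ↔ Subsingleton (Coh.HH X F (n - i))))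
    (F : X.Modules) (hF : FlatMod.IsFinLocFree F) :
    ∃ q₀ : ℕ, ∀ q : ℕ, q₀ ≤ q → ∀ j : ℕ, j < n →
      Subsingleton (Coh.HH X (CohB1.tensorMod F
        ((Scheme.Modules.pullback ι).obj (Twist.twistProjSpace N k (-(q : ℤ))))) j) := by
  obtain ⟨N₁, hN₁⟩ := exists_vanishing_ext k N ι F ω hF hω
  refine ⟨N₁.toNat, fun q hq j hj => ?_⟩
  have hq' : N₁ ≤ (q : ℤ) := toNat_le_cast hq
  have hFc : Coh.IsCoh F := Groth.Agent.Lib.Helper21.HZB.isCoh_of_isFinLocFree F hF
  have hLi : PicF.IsInvertible (Ld k N ι (-(q : ℤ))) :=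
    Groth.Agent.Lib.Helper23.PB.isInvertible_pullback ι _
      (Groth.Agent.Lib.Helper27SerreVanPn.isInvertible_twist N k _)
  have hcoh : Coh.IsCoh (CohB1.tensorMod F (Ld k N ι (-(q : ℤ)))) := by
    haveI : F.IsQuasicoherent := hFc.1
    haveI : SheafOfModules.IsFiniteType (R := X.ringCatSheaf) F := hFc.2
    haveI : (Ld k N ι (-(q : ℤ))).IsQuasicoherent :=
      Groth.Agent.Lib.Helper23.SecTw.isQuasicoherent_of_isInvertible _ hLi
    haveI : SheafOfModules.IsFiniteType (R := X.ringCatSheaf) (Ld k N ι (-(q : ℤ))) :=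
      Groth.Agent.Lib.Helper20.ZClosLib.isFiniteType_of_isInvertible _ hLi
    exact ⟨Groth.Agent.Lib.Helper23.TensorQCoh.isQuasicoherent_tensorMod _ _,
      Groth.Agent.Lib.Helper23.TensorQCoh.isFiniteType_tensorMod _ _⟩
  have h1 : Subsingleton (Ext.{u} (CohB1.tensorMod F (Ld k N ι (-(q : ℤ)))) ω (n - j)) :=
    subsingleton_ext_untwist k N ι F ω (q : ℤ) (n - j) (hN₁ q hq' (n - j) (by omega))
  have h2 := (h _ hcoh (n - j) (by omega)).1 h1
  have h3 : n - (n - j) = j := by omega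
  rw [h3] at h2
  exact h2

end Groth.Agent.LeadExtTw
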