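import Mathlib
import Groth.Agent.Lib.LeadExtTw7
import Groth.Agent.Lib.Helper27ExtHom3
import Groth.Agent.Lib.Helper4VarDim6
import Groth.Agent.Lib.Helper4VarDim5
import Groth.Agent.Lib.Helper4VarDim4
import Groth.Agent.Lib.Helper27ProjSpaceFibres

/-!
# Lead: local dimension at closed points of an equidimensional scheme of finite type over a field;
duality `H^i(F)^* ≃ H^{n-i}(ℋom(F, ω))` for locally free `F` (glue)
-/

set_option autoImplicit false
universe u
open CategoryTheory CategoryTheory.Limits AlgebraicGeometry TopologicalSpace Opposite Abelian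

namespace Groth.Agent.LeadExtTw

open Groth.Agent.Lib.Helper4.VarDim

section Dim

variable (k : Type u) [Field k] (X : Scheme.{u}) [X.Over (Spec (CommRingCat.of k))]
  [LocallyOfFiniteType (X ↘ Spec (CommRingCat.of k))]

omit [X.Over (Spec (CommRingCat.of k))] [LocallyOfFiniteType (X ↘ Spec (CommRingCat.of k))] in
/-- the closure of a maximal point is an irreducible component. -/
theorem closure_mem_irreducibleComponents (η : X) (hmax : ∀ y : X, y ⤳ η → y = η) :
    closure ({η} : Set X) ∈ irreducibleComponents X := by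
  refine ⟨isIrreducible_singleton.closure, fun Z hZ hle => ?_⟩
  have hZc : IsIrreducible (closure Z) := hZ.closure
  obtain ⟨ζ, hζ⟩ := QuasiSober.sober hZc isClosed_closure
  have h1 : η ∈ closure Z := subset_closure (hle (subset_closure rfl))
  have h2 : ζ ⤳ η := by
    rw [specializes_iff_mem_closure, hζ.def]
    exact h1
  have h3 := hmax ζ h2
  subst h3
  rw [hζ.def]
  exact subset_closure

theorem trdegNat_of_maximal (n : ℕ)
    (heq : ∀ Z : Set ↥X, Z ∈ irreducibleComponents ↥X →
      topologicalKrullDim ↥Z = (n : WithBot ℕ∞))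
    (η : X) (hmax : ∀ y : X, y ⤳ η → y = η) : trdegNat k X η = n := by
  have h1 := topologicalKrullDim_closure_singleton k X η
  rw [heq _ (closure_mem_irreducibleComponents X η hmax)] at h1
  exact_mod_cast h1.symm

include k in
theorem topologicalKrullDim_opens_of_equidim (n : ℕ)
    (heq : ∀ Z : Set ↥X, Z ∈ irreducibleComponents ↥X →
      topologicalKrullDim ↥Z = (n : WithBot ℕ∞))
    (U : X.Opens) (x : X) (hx : x ∈ U) :
    topologicalKrullDim ↥(U : Set X) = (n : WithBot ℕ∞) := by
  rw [topologicalKrullDim_eq_iSup_trdegNat_of_isLocallyClosed k X (U : Set X)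
    U.2.isLocallyClosed]
  apply le_antisymm
  · refine iSup_le fun t => ?_
    obtain ⟨η, hmax, hη⟩ := exists_maximal_specializes (X := X) t.1
    have h1 := trdegNat_le_of_specializes k X η t.1 hη
    rw [trdegNat_of_maximal k X n heq η hmax] at h1
    exact_mod_cast h1
  · obtain ⟨η, hmax, hη⟩ := exists_maximal_specializes (X := X) x
    have hηU : η ∈ (U : Set X) := hη.mem_open U.2 hx
    refine le_iSup_of_le (⟨η, hηU⟩ : (U : Set X)) ?_
    rw [trdegNat_of_maximal k X n heq η hmax]

include k in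
/-- on an equidimensional scheme of dimension `n`, locally of finite type over a field, the
local ring at a closed point has dimension `n`. -/
theorem ringKrullDim_stalk_of_equidim (n : ℕ)
    (heq : ∀ Z : Set ↥X, Z ∈ irreducibleComponents ↥X →
      topologicalKrullDim ↥Z = (n : WithBot ℕ∞))
    (x : X) (hx : IsClosed ({x} : Set X)) :
    ringKrullDim (X.presheaf.stalk x) = n := by
  rw [← localDim_eq_of_trdeg_eq_zero k X x (trdeg_eq_zero_of_isClosed k X x hx)]
  unfold FlatMor.localDim
  have h : ∀ U : {U : TopologicalSpace.Opens X // x ∈ U},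
      topologicalKrullDim ↥(U.1 : Set X) = (n : WithBot ℕ∞) := fun U =>
    topologicalKrullDim_opens_of_equidim k X n heq U.1 x U.2
  haveI : Nonempty {U : TopologicalSpace.Opens X // x ∈ U} := ⟨⟨⊤, trivial⟩⟩
  rw [iInf_congr h, iInf_const]

end Dim

section Glue

variable (k : Type u) [Field k] (N n : ℕ) {X : Scheme.{u}} [X.Over (Spec (CommRingCat.of k))]
  (ι : X ⟶ CohB1.ProjSpace N k) [IsClosedImmersion ι]

include ι in
theorem locallyOfFiniteType_of_closedImmersion
    (hι : ι ≫ CohB1.ProjSpace.toSpec N k = X ↘ Spec (CommRingCat.of k)) :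
    LocallyOfFiniteType (X ↘ Spec (CommRingCat.of k)) := by
  haveI : IsProper (CohB1.ProjSpace.toSpec N k) :=
    Groth.Agent.Lib.Helper27ProjSpaceFibres.isProper_projSpace_toSpec N k
  rw [← hι]
  infer_instance

theorem hasExt_modules (X : Scheme.{u}) : HasExt.{u} X.Modules := by
  haveI : EnoughInjectives (SheafOfModules.{u} X.ringCatSheaf) :=
    Groth.Agent.S0485.result (Opens.grothendieckTopology X) X.ringCatSheaf
  haveI : HasExt.{u} (SheafOfModules.{u} X.ringCatSheaf) := hasExt_of_enoughInjectives _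
  exact ‹HasExt.{u} (SheafOfModules.{u} X.ringCatSheaf)›

/-- `H^i(F)^* ≃ H^{n-i}(ℋom(F, ω))` for `F` finite locally free, from negative-twist vanishing. -/
theorem dual_HH_equiv_HH_sheafHom (ω : X.Modules) (hω : Coh.IsCoh ω) (t : Coh.HH X ω n →ₗ[k] k)
    (hdual : ∀ F : X.Modules, Coh.IsCoh F → ∀ ψ : Coh.HH X F n →ₗ[k] k, ∃! φ : F ⟶ ω,
      ∀ x : Coh.HH X F n,
        ψ x = t (Sheaf.H.map ((SheafOfModules.toSheaf X.ringCatSheaf).map φ) n x))
    (hb : ∀ F : X.Modules, FlatMod.IsFinLocFree F → ∃ q₀ : ℕ, ∀ q : ℕ, q₀ ≤ q → ∀ j : ℕ, j < n →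
      Subsingleton (Coh.HH X (CohB1.tensorMod F
        ((Scheme.Modules.pullback ι).obj (Twist.twistProjSpace N k (-(q : ℤ))))) j))
    (F : X.Modules) (hF : FlatMod.IsFinLocFree F) [DCoh.HasSheafHom F] (i : ℕ) (hi : i ≤ n) :
    Nonempty (Module.Dual k (Coh.HH X F i) ≃ₗ[k]
      Coh.HH X ((DCoh.sheafHom F).obj ω) (n - i)) := by
  haveI : HasExt.{u} X.Modules := hasExt_modules X
  obtain ⟨e₁⟩ := (duality_of_neg_vanishing k N n ι ω hω t hdual hb F
    (Groth.Agent.Lib.Helper21.HZB.isCoh_of_isFinLocFree F hF)).1 (n - i) (Nat.sub_le _ _)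
  have h : n - (n - i) = i := by omega
  rw [h] at e₁
  obtain ⟨e₂⟩ := Groth.Agent.Lib.Helper27ExtHom3.ext_equiv_HH_sheafHom (k := k) F hF (n - i) ω
  exact ⟨e₁.symm ≪≫ₗ e₂⟩

end Glue

end Groth.Agent.LeadExtTw
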