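import Mathlib
import Groth.Prelude.Def_CxOX
import Groth.Agent.Lib.Helper21ExtZero4
import Groth.Agent.Lib.Helper21Subterm

/-!
# Extension by zero of modules along an open subscheme: exactness, counit, unit
-/

universe u

open CategoryTheory Limits AlgebraicGeometry Opposite TopologicalSpace

namespace Groth.Agent.LeadExtZero

section Abstract

variable {C D E : Type*} [Category C] [Category D] [Category E]

lemma mono_counit_comp_ofNatIsoRight {F : C ⥤ D} {G : D ⥤ C} {L : D ⥤ E} {R : E ⥤ D}
    (adjA : F ⊣ G) (adjB : L ⊣ R) [∀ X, IsIso (adjA.counit.app X)] {R' : E ⥤ C}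
    (iso : R ⋙ G ≅ R') (M : E) (h : Mono (adjB.counit.app M)) :
    Mono (((adjA.comp adjB).ofNatIsoRight iso).counit.app M) := by
  rw [Adjunction.ofNatIsoRight_counit]
  simp only [NatTrans.comp_app, Functor.whiskerRight_app, Adjunction.comp_counit_app]
  infer_instance

end Abstract

section Site

variable {C : Type u} [SmallCategory C] {J : GrothendieckTopology C} (O : Sheaf J CommRingCat.{u})
  (U : C)

theorem site_preservesFiniteLimits : PreservesFiniteLimits (ModSite.extZero O U) := inferInstance

theorem site_mono_counit (hU : ∀ V : C, Subsingleton (V ⟶ U)) (M : ModSite.Mod O) :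
    Mono ((ModSite.extZeroAdj O U).counit.app M) :=
  Groth.Agent.Lib.Helper21.Subterm.mono_ε O U hU M

end Site

variable {X : Scheme.{u}} (V : X.Opens)

instance preservesFiniteLimits_extZero : PreservesFiniteLimits (CxOX.extZero V.ι) := by
  have h1 : PreservesFiniteLimits
      ((Scheme.Modules.overEquiv V).inverse ⋙ ModSite.extZero X.sheaf V) :=
    @comp_preservesFiniteLimits _ _ _ _ _ _ _ _ inferInstance
      (site_preservesFiniteLimits X.sheaf V)
  exact @preservesFiniteLimits_of_natIso _ _ _ _ _ _ (CxOX.extZeroIsoSite V).symm h1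

instance preservesMonomorphisms_extZero : (CxOX.extZero V.ι).PreservesMonomorphisms :=
  inferInstance

/-- The adjunction used in the prelude to compare with the site version. -/
noncomputable def siteAdj :
    (Scheme.Modules.overEquiv V).inverse ⋙ ModSite.extZero X.sheaf V ⊣
      Scheme.Modules.restrictFunctor V.ι :=
  (((Scheme.Modules.overEquiv V).symm.toAdjunction).comp
    (ModSite.extZeroAdj X.sheaf V)).ofNatIsoRight (Scheme.Modules.overFunctorEquiv V)

theorem mono_siteAdj_counit (M : X.Modules) : Mono ((siteAdj V).counit.app M) := by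
  have hU : ∀ W : X.Opens, Subsingleton (W ⟶ V) := fun W => inferInstance
  have hm := site_mono_counit X.sheaf V hU M
  have : ∀ Y, IsIso ((Scheme.Modules.overEquiv V).symm.toAdjunction.counit.app Y) :=
    fun Y => inferInstance
  exact mono_counit_comp_ofNatIsoRight ((Scheme.Modules.overEquiv V).symm.toAdjunction)
    (ModSite.extZeroAdj X.sheaf V) (Scheme.Modules.overFunctorEquiv V) M hm

/-- The counit `j_! j^* M ⟶ M` is a monomorphism. -/
instance mono_counit (M : X.Modules) : Mono ((CxOX.extZeroAdj V.ι).counit.app M) := by
  have h := Adjunction.leftAdjointUniq_hom_app_counit (CxOX.extZeroAdj V.ι) (siteAdj V) M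
  rw [← h]
  exact @mono_comp _ _ _ _ _ _ inferInstance _ (mono_siteAdj_counit V M)

end Groth.Agent.LeadExtZero
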