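import Mathlib
import Groth.Prelude.Def_CxOX
import Groth.Agent.Lib.LeadExtZero

/-!
# Extension by zero along a general open immersion
-/

universe u

open CategoryTheory Limits AlgebraicGeometry Opposite TopologicalSpace

namespace Groth.Agent.LeadExtZero

section Iso

variable {U V : Scheme.{u}} (e : U ≅ V)

/-- Restriction along an isomorphism of schemes is an equivalence. -/
noncomputable def restrictEquiv : V.Modules ≌ U.Modules :=
  CategoryTheory.Equivalence.mk (Scheme.Modules.restrictFunctor e.hom) (Scheme.Modules.restrictFunctor e.inv)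
    ((Scheme.Modules.restrictFunctorId (X := V)).symm ≪≫
      Scheme.Modules.restrictFunctorCongr (by simp) ≪≫
      Scheme.Modules.restrictFunctorComp e.inv e.hom)
    ((Scheme.Modules.restrictFunctorComp e.hom e.inv).symm ≪≫
      Scheme.Modules.restrictFunctorCongr (by simp) ≪≫
      Scheme.Modules.restrictFunctorId (X := U))

instance isEquivalence_restrictFunctor_iso :
    (Scheme.Modules.restrictFunctor e.hom).IsEquivalence :=
  (restrictEquiv e).isEquivalence_functor

instance isEquivalence_extZero_iso : (CxOX.extZero e.hom).IsEquivalence :=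
  (CxOX.extZeroAdj e.hom).isEquivalence_left_of_isEquivalence_right

end Iso

section General

variable {U X : Scheme.{u}} (j : U ⟶ X) [IsOpenImmersion j]

/-- The composite adjunction through the open subscheme `j.opensRange`. -/
noncomputable def rangeAdj :
    CxOX.extZero j.isoOpensRange.hom ⋙ CxOX.extZero j.opensRange.ι ⊣
      Scheme.Modules.restrictFunctor j :=
  ((CxOX.extZeroAdj j.isoOpensRange.hom).comp (CxOX.extZeroAdj j.opensRange.ι)).ofNatIsoRight
    ((Scheme.Modules.restrictFunctorComp j.isoOpensRange.hom j.opensRange.ι).symm ≪≫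
      Scheme.Modules.restrictFunctorCongr (by simp))

/-- `j_!` factors through the open subscheme `j.opensRange`. -/
noncomputable def extZeroRangeIso :
    CxOX.extZero j ≅ CxOX.extZero j.isoOpensRange.hom ⋙ CxOX.extZero j.opensRange.ι :=
  (CxOX.extZeroAdj j).leftAdjointUniq (rangeAdj j)

instance preservesFiniteLimits_extZero' : PreservesFiniteLimits (CxOX.extZero j) :=
  preservesFiniteLimits_of_natIso (extZeroRangeIso j).symm

instance preservesMonomorphisms_extZero' : (CxOX.extZero j).PreservesMonomorphisms :=
  inferInstance

theorem mono_rangeAdj_counit (M : X.Modules) : Mono ((rangeAdj j).counit.app M) := by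
  have : ∀ Y, IsIso ((CxOX.extZeroAdj j.isoOpensRange.hom).counit.app Y) :=
    fun Y => inferInstance
  exact mono_counit_comp_ofNatIsoRight (CxOX.extZeroAdj j.isoOpensRange.hom)
    (CxOX.extZeroAdj j.opensRange.ι) _ M inferInstance

/-- The counit `j_! j^* M ⟶ M` is a monomorphism. -/
instance mono_counit' (M : X.Modules) : Mono ((CxOX.extZeroAdj j).counit.app M) := by
  have h := Adjunction.leftAdjointUniq_hom_app_counit (CxOX.extZeroAdj j) (rangeAdj j) M
  rw [← h]
  have := mono_rangeAdj_counit j M
  exact mono_comp _ _

/-- The adjoint triple `j_! ⊣ j^* ⊣ j_*`. -/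
noncomputable def triple : Adjunction.Triple (CxOX.extZero j) (Scheme.Modules.restrictFunctor j)
    (Scheme.Modules.pushforward j) where
  adj₁ := CxOX.extZeroAdj j
  adj₂ := Scheme.Modules.restrictAdjunction j

instance isIso_unit : IsIso (CxOX.extZeroAdj j).unit :=
  (triple j).isIso_unit_iff_isIso_counit.2 (inferInstanceAs (IsIso
    (Scheme.Modules.restrictAdjunction j).counit))

instance isIso_unit_app (G : U.Modules) : IsIso ((CxOX.extZeroAdj j).unit.app G) :=
  inferInstance

/-- `j^*` of the counit is an isomorphism. -/
instance isIso_restrict_counit (M : X.Modules) :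
    IsIso ((Scheme.Modules.restrictFunctor j).map ((CxOX.extZeroAdj j).counit.app M)) := by
  have h := (CxOX.extZeroAdj j).right_triangle_components M
  exact IsIso.of_isIso_fac_left h

/-- The counit at `j_! G` is an isomorphism. -/
instance isIso_counit_extZero (G : U.Modules) :
    IsIso ((CxOX.extZeroAdj j).counit.app ((CxOX.extZero j).obj G)) := by
  have h := (CxOX.extZeroAdj j).left_triangle_components G
  exact IsIso.of_isIso_fac_left h

end General

end Groth.Agent.LeadExtZero
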