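import Mathlib
import Groth.Prelude.Def_CxOX
import Groth.Agent.Lib.LeadExtZero2

/-!
# Subobjects of `j_! G`: they are supported on the open subscheme
-/

universe u

open CategoryTheory Limits AlgebraicGeometry Opposite TopologicalSpace

namespace Groth.Agent.LeadExtZero

variable {U X : Scheme.{u}} (j : U ⟶ X) [IsOpenImmersion j]

/-- For a subobject `A` of `j_! G`, the counit `j_! j^* A ⟶ A` is an isomorphism. -/
theorem isIso_counit_of_mono {A : X.Modules} {G : U.Modules}
    (a : A ⟶ (CxOX.extZero j).obj G) [Mono a] :
    IsIso ((CxOX.extZeroAdj j).counit.app A) := by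
  let L := CxOX.extZero j
  let R := Scheme.Modules.restrictFunctor j
  let adj : L ⊣ R := CxOX.extZeroAdj j
  let T := R ⋙ L
  let c := cokernel.π a
  have hex : (ShortComplex.mk a c (cokernel.condition a)).Exact := ShortComplex.exact_cokernel a
  have hex' := hex.map T
  haveI : Mono (T.map a) := inferInstance
  haveI εB : IsIso (adj.counit.app (L.obj G)) := isIso_counit_extZero j G
  let u : A ⟶ T.obj (L.obj G) := a ≫ inv (adj.counit.app (L.obj G))
  have hu : u ≫ T.map c = 0 := by
    haveI hmono : Mono (adj.counit.app (cokernel a)) := mono_counit' j _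
    rw [← cancel_mono (adj.counit.app (cokernel a))]
    have nat : T.map c ≫ adj.counit.app (cokernel a) = adj.counit.app (L.obj G) ≫ c :=
      adj.counit.naturality c
    simp only [u, Category.assoc, zero_comp]
    rw [nat, IsIso.inv_hom_id_assoc]
    exact cokernel.condition a
  haveI : Mono (ShortComplex.mk a c (cokernel.condition a) |>.map T).f := by
    change Mono (T.map a); infer_instance
  let v : A ⟶ T.obj A := hex'.lift u hu
  have hv : v ≫ T.map a = u := hex'.lift_f u hu
  have h1 : v ≫ adj.counit.app A = 𝟙 A := by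
    rw [← cancel_mono a, Category.assoc, Category.id_comp]
    have nat : T.map a ≫ adj.counit.app (L.obj G) = adj.counit.app A ≫ a :=
      adj.counit.naturality a
    rw [← nat, ← Category.assoc, hv]
    simp [u]
  haveI : Mono (adj.counit.app A) := mono_counit' j A
  haveI : IsSplitEpi (adj.counit.app A) := ⟨⟨⟨v, h1⟩⟩⟩
  exact isIso_of_mono_of_isSplitEpi _

/-- Morphisms out of a subobject of `j_! G` are determined by their restriction along `j`. -/
theorem hom_ext_of_mono {A M : X.Modules} {G : U.Modules}
    (a : A ⟶ (CxOX.extZero j).obj G) [Mono a] (f g : A ⟶ M)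
    (h : (Scheme.Modules.restrictFunctor j).map f = (Scheme.Modules.restrictFunctor j).map g) :
    f = g := by
  haveI := isIso_counit_of_mono j a
  rw [← cancel_epi ((CxOX.extZeroAdj j).counit.app A)]
  have n1 := (CxOX.extZeroAdj j).counit.naturality f
  have n2 := (CxOX.extZeroAdj j).counit.naturality g
  simp only [Functor.comp_map, Functor.id_map] at n1 n2
  rw [← n1, ← n2, h]

/-- A monomorphism between subobjects of `j_! G` which restricts to an isomorphism is an
isomorphism. -/
theorem isIso_of_isIso_restrict {A A' : X.Modules} {G : U.Modules}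
    (a : A ⟶ (CxOX.extZero j).obj G) [Mono a] (a' : A' ⟶ (CxOX.extZero j).obj G) [Mono a']
    (i : A ⟶ A') [IsIso ((Scheme.Modules.restrictFunctor j).map i)] : IsIso i := by
  haveI := isIso_counit_of_mono j a
  haveI := isIso_counit_of_mono j a'
  have n1 := (CxOX.extZeroAdj j).counit.naturality i
  simp only [Functor.comp_map, Functor.id_map] at n1
  have : i = inv ((CxOX.extZeroAdj j).counit.app A) ≫
      (CxOX.extZero j).map ((Scheme.Modules.restrictFunctor j).map i) ≫
      (CxOX.extZeroAdj j).counit.app A' := by
    rw [n1]; simp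
  rw [this]
  infer_instance

/-- Lifting along a subobject of `j_! G` into a module whose restriction is injective. -/
theorem exists_lift_of_injective {A : X.Modules} {G : U.Modules}
    (a : A ⟶ (CxOX.extZero j).obj G) [Mono a] (F : X.Modules)
    [Injective ((Scheme.Modules.restrictFunctor j).obj F)] (φ : A ⟶ F) :
    ∃ ψ : (CxOX.extZero j).obj G ⟶ F, a ≫ ψ = φ := by
  let L := CxOX.extZero j
  let R := Scheme.Modules.restrictFunctor j
  let adj : L ⊣ R := CxOX.extZeroAdj j
  haveI : Mono (R.map a) := inferInstance
  let ψ' : R.obj (L.obj G) ⟶ R.obj F := Injective.factorThru (R.map φ) (R.map a)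
  have hψ' : R.map a ≫ ψ' = R.map φ := Injective.comp_factorThru _ _
  let ψ : L.obj G ⟶ F := (adj.homEquiv _ _).symm (adj.unit.app G ≫ ψ')
  have hψ : R.map ψ = ψ' := by
    have h1 : adj.homEquiv _ _ ψ = adj.unit.app G ≫ ψ' := Equiv.apply_symm_apply _ _
    rw [Adjunction.homEquiv_unit] at h1
    exact (cancel_epi (adj.unit.app G)).1 h1
  refine ⟨ψ, hom_ext_of_mono j a _ _ ?_⟩
  rw [Functor.map_comp, hψ, hψ']

end Groth.Agent.LeadExtZero
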