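import Mathlib
import Groth.Prelude.Def_CxOX
import Groth.Agent.Lib.LeadExtZero3
import Groth.Agent.Lib.Helper20FreeSec

/-!
# Morphisms out of `j_! O_W` are sections over `W`; the modules `j_! O_W` form a separating family
-/

universe u v' u'

open CategoryTheory Limits AlgebraicGeometry Opposite TopologicalSpace

namespace Groth.Agent.LeadExtZero

open Groth.Agent.Lib.Helper20.FreeSec

section SiteLevel

variable {C : Type u'} [Category.{v'} C] {J : GrothendieckTopology C} {S : Sheaf J RingCat.{u}}
  (X₀ : Cᵒᵖ) (hX : IsInitial X₀)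

/-- The morphism from the unit attached to an element over the initial object of `Cᵒᵖ`. -/
noncomputable def unitSec (M : SheafOfModules.{u} S) (x : M.val.obj X₀) :
    SheafOfModules.unit S ⟶ M :=
  M.unitHomEquiv.symm (secOf X₀ hX M x)

theorem unitSec_comp {M N : SheafOfModules.{u} S} (p : M ⟶ N) (x : M.val.obj X₀) :
    unitSec X₀ hX M x ≫ p = unitSec X₀ hX N (p.val.app X₀ x) := by
  unfold unitSec
  rw [SheafOfModules.unitHomEquiv_symm_comp, sectionsMap_secOf]

theorem unitSec_injective (M : SheafOfModules.{u} S) : Function.Injective (unitSec X₀ hX M) := by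
  intro x y h
  have h1 := (Equiv.injective _) h
  have h2 : (secOf X₀ hX M x).val X₀ = (secOf X₀ hX M y).val X₀ := by rw [h1]
  rw [secOf_val_self, secOf_val_self] at h2
  exact h2

end SiteLevel

variable {X : Scheme.{u}}

/-- `op ⊤` is initial in the opposite of the opens. -/
noncomputable def initialOpTop (W : Scheme.{u}) : IsInitial (op (⊤ : W.Opens)) :=
  initialOpOfTerminal isTerminalTop

/-- The element of `Γ(M|_W, ⊤)` attached to a section over `W`. -/
noncomputable def topElem (W : X.Opens) (M : X.Modules) (s : Γ(M, W)) :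
    ((Scheme.Modules.restrictFunctor W.ι).obj M).val.obj (op (⊤ : (W : Scheme.{u}).Opens)) :=
  M.presheaf.map (eqToHom (Scheme.Opens.ι_image_top W)).op s

/-- The morphism `j_! O_W ⟶ M` attached to a section of `M` over `W`. -/
noncomputable def secHom (W : X.Opens) {M : X.Modules} (s : Γ(M, W)) :
    CxOX.extZeroUnit W.ι ⟶ M :=
  ((CxOX.extZeroAdj W.ι).homEquiv _ _).symm
    (unitSec (op ⊤) (initialOpTop _) ((Scheme.Modules.restrictFunctor W.ι).obj M) (topElem W M s))

theorem topElem_app (W : X.Opens) {M N : X.Modules} (f : M ⟶ N) (s : Γ(M, W)) :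
    ((Scheme.Modules.restrictFunctor W.ι).map f).val.app (op ⊤) (topElem W M s) =
      topElem W N (f.app W s) := by
  have := f.mapPresheaf.naturality (eqToHom (Scheme.Opens.ι_image_top W)).op
  have h := ConcreteCategory.congr_hom this s
  simp only [ConcreteCategory.comp_apply] at h
  exact h

theorem secHom_comp (W : X.Opens) {M N : X.Modules} (f : M ⟶ N) (s : Γ(M, W)) :
    secHom W s ≫ f = secHom W (f.app W s) := by
  unfold secHom
  rw [← Adjunction.homEquiv_naturality_right_symm]
  congr 1
  exact (unitSec_comp (op ⊤) (initialOpTop _) ((Scheme.Modules.restrictFunctor W.ι).map f)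
    (topElem W M s)).trans (by rw [topElem_app])

theorem topElem_injective (W : X.Opens) (M : X.Modules) : Function.Injective (topElem W M) := by
  intro s t h
  have : IsIso (M.presheaf.map (eqToHom (Scheme.Opens.ι_image_top W)).op) := inferInstance
  exact ((ConcreteCategory.bijective_of_isIso
    (M.presheaf.map (eqToHom (Scheme.Opens.ι_image_top W)).op)).1) h

theorem secHom_injective (W : X.Opens) (M : X.Modules) :
    Function.Injective (secHom W (M := M)) := by
  intro s t h
  unfold secHom at h
  have h1 := (Equiv.injective _) h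
  exact topElem_injective W M (unitSec_injective _ _ _ h1)

/-- The modules `j_! O_W`, for `W` in a basis of opens, form a separating family. -/
theorem isSeparating_extZeroUnit (𝒲 : Set X.Opens) (h𝒲 : Opens.IsBasis 𝒲) :
    ObjectProperty.IsSeparating
      (fun G : X.Modules => ∃ W ∈ 𝒲, G = CxOX.extZeroUnit W.ι) := by
  intro M N f g h
  apply Scheme.Modules.hom_ext
  intro U
  ext s
  refine TopCat.Sheaf.eq_of_locally_eq' ⟨N.presheaf, N.isSheaf⟩
    (fun W : {W : X.Opens // W ∈ 𝒲 ∧ W ≤ U} => (W.1 : X.Opens)) U
    (fun W => homOfLE W.2.2) ?_ _ _ (fun W => ?_)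
  · intro x hx
    obtain ⟨W, hW, hxW, hWU⟩ := Opens.isBasis_iff_nbhd.1 h𝒲 hx
    exact Opens.mem_iSup.mpr ⟨⟨W, hW, hWU⟩, hxW⟩
  · obtain ⟨W, hW, hWU⟩ := W
    have e := h _ ⟨W, hW, rfl⟩ (secHom W (M.presheaf.map (homOfLE hWU).op s))
    rw [secHom_comp, secHom_comp] at e
    have e' := secHom_injective W N e
    have nf := ConcreteCategory.congr_hom (f.mapPresheaf.naturality (homOfLE hWU).op) s
    have ng := ConcreteCategory.congr_hom (g.mapPresheaf.naturality (homOfLE hWU).op) s
    exact nf.symm.trans (e'.trans ng)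

end Groth.Agent.LeadExtZero
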