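import Mathlib
import Groth.Prelude.Def_CxOX
import Groth.Agent.Lib.LeadExtZero4
import Groth.Agent.Lib.LeadBaerFam
import Groth.Agent.Lib.Helper21ModTensor3

/-!
# Baer's criterion for `O_X`-modules with the generators `j_! O_W`; injectivity is local
-/

universe u

open CategoryTheory Limits AlgebraicGeometry Opposite TopologicalSpace

namespace Groth.Agent.LeadExtZero

variable {X : Scheme.{u}}

theorem isGrothendieckAbelian_modules (X : Scheme.{u}) : IsGrothendieckAbelian.{u} X.Modules :=
  Groth.Agent.Lib.Helper21.ModTensor3.isGrothendieckAbelian (O := X.sheaf)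

/-- Restriction along an open immersion preserves injective objects. -/
theorem injective_restrict {U : Scheme.{u}} (j : U ⟶ X) [IsOpenImmersion j] (F : X.Modules)
    [Injective F] : Injective ((Scheme.Modules.restrictFunctor j).obj F) :=
  Injective.injective_of_adjoint (CxOX.extZeroAdj j) F

/-- Restriction to a smaller open subscheme preserves injectivity of the restriction. -/
theorem injective_restrict_of_le {W U : X.Opens} (h : W ≤ U) (F : X.Modules)
    [Injective ((Scheme.Modules.restrictFunctor U.ι).obj F)] :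
    Injective ((Scheme.Modules.restrictFunctor W.ι).obj F) := by
  have h1 : Injective ((Scheme.Modules.restrictFunctor (X.homOfLE h)).obj
      ((Scheme.Modules.restrictFunctor U.ι).obj F)) := injective_restrict _ _
  have e : Scheme.Modules.restrictFunctor W.ι ≅
      Scheme.Modules.restrictFunctor U.ι ⋙ Scheme.Modules.restrictFunctor (X.homOfLE h) :=
    Scheme.Modules.restrictFunctorCongr (by simp) ≪≫
      Scheme.Modules.restrictFunctorComp (X.homOfLE h) U.ι
  exact Injective.of_iso (e.app F).symm h1

/-- **Baer's criterion** for `O_X`-modules: to check injectivity of `F` it suffices to extend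
morphisms from subobjects of the `j_! O_W`, `W` in a basis of opens. -/
theorem injective_of_lifting_extZeroUnit (𝒲 : Set X.Opens) (h𝒲 : Opens.IsBasis 𝒲) (F : X.Modules)
    (h : ∀ W ∈ 𝒲, ∀ (A : X.Modules) (a : A ⟶ CxOX.extZeroUnit W.ι) [Mono a] (φ : A ⟶ F),
      ∃ ψ : CxOX.extZeroUnit W.ι ⟶ F, a ≫ ψ = φ) : Injective F := by
  haveI := isGrothendieckAbelian_modules X
  refine Groth.Agent.LeadBaerFam.injective_of_lifting'.{u} (isSeparating_extZeroUnit 𝒲 h𝒲) F ?_
  rintro G ⟨W, hW, rfl⟩ A a _ φ
  exact h W hW A a φ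

/-- Injectivity of an `O_X`-module is local. -/
theorem injective_of_locally_injective (F : X.Modules)
    (hF : ∀ x : X, ∃ U : X.Opens, x ∈ U ∧ Injective ((Scheme.Modules.restrictFunctor U.ι).obj F)) :
    Injective F := by
  let 𝒲 : Set X.Opens :=
    {W | ∃ U : X.Opens, W ≤ U ∧ Injective ((Scheme.Modules.restrictFunctor U.ι).obj F)}
  have h𝒲 : Opens.IsBasis 𝒲 := by
    rw [Opens.isBasis_iff_nbhd]
    intro U' x hx
    obtain ⟨U, hxU, hU⟩ := hF x
    exact ⟨U' ⊓ U, ⟨U, inf_le_right, hU⟩, ⟨hx, hxU⟩, inf_le_left⟩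
  refine injective_of_lifting_extZeroUnit 𝒲 h𝒲 F ?_
  rintro W ⟨U, hWU, hU⟩ A a _ φ
  haveI := hU
  haveI := injective_restrict_of_le hWU F
  exact exists_lift_of_injective W.ι a F φ

end Groth.Agent.LeadExtZero
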