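import Groth.Agent.Lib.LeadZT1

/-! Constant field extensions over finite fields: the general splitting law
(`f = lcm`, `#places = gcd`). -/

namespace Groth.Agent.Lib.LeadZC

attribute [-instance] IsLocalRing.instModuleResidueFieldOfAlgebra

open FunFld WithZero Polynomial TensorProduct Groth.Agent.Lib.LeadZT

variable {k k' K K' : Type*} [Field k] [Field k'] [Field K] [Field K']
  [Algebra k k'] [Algebra k K] [Algebra K K'] [Algebra k' K'] [Algebra k K']
  [IsScalarTower k k' K'] [IsScalarTower k K K']

/-- bijectivity of the product map from generation and equality of degrees. -/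
lemma bijective_of_adjoin [FiniteDimensional k k']
    (hadj : Algebra.adjoin K (Set.range (algebraMap k' K')) = ⊤)
    (hrank : Module.finrank K K' = Module.finrank k k') :
    Function.Bijective (Algebra.TensorProduct.productMap
      (IsScalarTower.toAlgHom k k' K') (IsScalarTower.toAlgHom k K K')) := by
  let ψ : K ⊗[k] k' →ₐ[K] K' :=
    Algebra.TensorProduct.productLeftAlgHom (Algebra.ofId K K') (IsScalarTower.toAlgHom k k' K')
  have hψ : ∀ w : k' ⊗[k] K, ψ (Algebra.TensorProduct.comm k k' K w) =
      Algebra.TensorProduct.productMap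
        (IsScalarTower.toAlgHom k k' K') (IsScalarTower.toAlgHom k K K') w := by
    intro w
    induction w using TensorProduct.induction_on with
    | zero => simp
    | add a b ha hb => rw [map_add, map_add, map_add, ha, hb]
    | tmul a b => simp [ψ, Algebra.ofId_apply, mul_comm]
  have hpos : 0 < Module.finrank k k' := Module.finrank_pos
  haveI : FiniteDimensional K K' := Module.finite_of_finrank_pos (by rw [hrank]; exact hpos)
  have hsurj : Function.Surjective ψ := by
    have htop : (⊤ : Subalgebra K K') ≤ ψ.range := by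
      rw [← hadj]
      apply Algebra.adjoin_le
      rintro _ ⟨c, rfl⟩
      refine ⟨1 ⊗ₜ c, ?_⟩
      simp [ψ]
    intro z
    exact htop Algebra.mem_top
  have hfr : Module.finrank K (K ⊗[k] k') = Module.finrank K K' := by
    rw [Module.finrank_baseChange, hrank]
  have hinj : Function.Injective ψ :=
    (LinearMap.injective_iff_surjective_of_finrank_eq_finrank (f := ψ.toLinearMap) hfr).mpr hsurj
  constructor
  · intro x y hxy
    rw [← hψ, ← hψ] at hxy
    exact (Algebra.TensorProduct.comm k k' K).injective (hinj hxy)
  · intro z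
    obtain ⟨w, rfl⟩ := hsurj z
    refine ⟨(Algebra.TensorProduct.comm k k' K).symm w, ?_⟩
    rw [← hψ, AlgEquiv.apply_symm_apply]

/-- a place over `k'` is a place over `k`. -/
def down (Q : Place k' K') : Place k K' :=
  ⟨Q.1, fun c => by rw [IsScalarTower.algebraMap_apply k k' K']; exact Q.2.1 _, Q.2.2⟩

lemma up_down [Algebra.IsAlgebraic k k'] (Q : Place k' K') : up (k := k) (down Q) = Q :=
  Subtype.ext rfl

section Split

variable [Finite k] [Finite k']

/-- the residue degree over `k` of a place above `P` is `lcm (deg P) [k' : k]`. -/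
theorem deg_over_lcm
    (h : Function.Bijective (Algebra.TensorProduct.productMap
      (IsScalarTower.toAlgHom k k' K') (IsScalarTower.toAlgHom k K K')))
    (hK : IsFunctionField k K) (P : Place k K)
    {Q : Place k K'} (hQ : IsOver Q P) : Q.deg = Nat.lcm P.deg (Module.finrank k k') := by
  classical
  haveI : Fintype k := Fintype.ofFinite k
  haveI : Fintype k' := Fintype.ofFinite k'
  haveI : FiniteDimensional k k' := Module.Finite.of_finite
  haveI : Algebra.IsSeparable k k' := Algebra.IsAlgebraic.isSeparable_of_perfectField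
  haveI : FiniteDimensional K K' := LeadCE.finiteDimensional_of_surjective h.2
  letI : Algebra P.O K' := ((algebraMap K K').comp (algebraMap P.O K)).toAlgebra
  haveI : IsScalarTower P.O K K' := IsScalarTower.of_algebraMap_eq (fun _ => rfl)
  have hns := LeadCE.integralClosure_eq h.2 hK P
  have he1 : IsOverWith Q P 1 := LeadCE.isOverWith_one h.2 P Q hQ
  haveI : P.1.HasExtension Q.1 := hasExtension_of_isOverWith he1
  have hk' : ∀ c : k', Q.1 (algebraMap k' K' c) ≤ 1 := fun c =>
    LeadFG.val_le_one_of_isIntegral (LeadFG.place_trivOn Q)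
      (((Algebra.IsAlgebraic.isAlgebraic c).isIntegral).map (IsScalarTower.toAlgHom k k' K'))
  have hadj := LeadCE.residue_adjoin_eq_top h hK P hns Q hk'
  haveI : Module.Finite k (IsLocalRing.ResidueField Q.O) :=
    LeadFG.residueField_finite (LeadFF.isFF_of_finite hK) Q
  haveI : Module.Finite k (IsLocalRing.ResidueField P.O) :=
    LeadFG.residueField_finite (LeadFG.IsFF.of_isFunctionField hK) P
  haveI : Finite (IsLocalRing.ResidueField P.O) := Module.finite_of_finite k
  haveI : Finite (IsLocalRing.ResidueField Q.O) := Module.finite_of_finite k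
  set d := P.deg with hd
  set n := Module.finrank k k' with hn
  set q := Fintype.card k with hq
  let σQ := FiniteField.frobeniusAlgHom k (IsLocalRing.ResidueField Q.O)
  let σP := FiniteField.frobeniusAlgHom k (IsLocalRing.ResidueField P.O)
  have hσQ : ∀ (n : ℕ) (z : IsLocalRing.ResidueField Q.O), (σQ ^ n) z = z ^ q ^ n := by
    intro n z
    rw [AlgHom.coe_pow, FiniteField.coe_frobeniusAlgHom, pow_iterate]
  have hσP : ∀ (n : ℕ) (z : IsLocalRing.ResidueField P.O), (σP ^ n) z = z ^ q ^ n := by
    intro n z
    rw [AlgHom.coe_pow, FiniteField.coe_frobeniusAlgHom, pow_iterate]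
  have hoP : orderOf σP = d := FiniteField.orderOf_frobeniusAlgHom k _
  have hoQ : orderOf σQ = Q.deg := FiniteField.orderOf_frobeniusAlgHom k _
  -- `σQ ^ m = 1` for common multiples
  have h1 : ∀ m : ℕ, d ∣ m → n ∣ m → σQ ^ m = 1 := by
    intro m hdm hnm
    apply AlgHom.ext
    intro z
    rw [AlgHom.one_apply]
    have hz : z ∈ Algebra.adjoin (IsLocalRing.ResidueField P.O)
        (Set.range fun c : k' => IsLocalRing.residue Q.O ⟨algebraMap k' K' c, hk' c⟩) := by
      rw [hadj]; exact Algebra.mem_top
    induction hz using Algebra.adjoin_induction with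
    | mem x hx =>
      obtain ⟨c, rfl⟩ := hx
      rw [hσQ, ← map_pow]
      congr 1
      apply Subtype.ext
      show (algebraMap k' K' c) ^ q ^ m = algebraMap k' K' c
      rw [← map_pow]
      congr 1
      obtain ⟨j, hj⟩ := hnm
      have hc : ∀ j : ℕ, c ^ (Fintype.card k') ^ j = c := by
        intro j
        induction j with
        | zero => simp
        | succ j ih => rw [pow_succ, pow_mul, ih, FiniteField.pow_card]
      have hcard : Fintype.card k' = q ^ n := Module.card_eq_pow_finrank
      rw [hj, pow_mul, ← hcard]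
      exact hc j
    | algebraMap a =>
      rw [hσQ, ← map_pow]
      congr 1
      have : σP ^ m = 1 := by
        rw [← hoP] at hdm
        exact orderOf_dvd_iff_pow_eq_one.mp hdm
      have h2 := congrArg (fun φ => φ a) this
      simp only [AlgHom.one_apply] at h2
      rw [hσP] at h2
      exact h2
    | add x y _ _ hx hy => rw [map_add, hx, hy]
    | mul x y _ _ hx hy => rw [map_mul, hx, hy]
  have hdvd1 : Q.deg ∣ Nat.lcm d n := by
    rw [← hoQ]
    exact orderOf_dvd_of_pow_eq_one (h1 _ (Nat.dvd_lcm_left d n) (Nat.dvd_lcm_right d n))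
  -- `σP ^ Q.deg = 1`
  have h2 : σP ^ Q.deg = 1 := by
    apply AlgHom.ext
    intro a
    rw [AlgHom.one_apply, hσP]
    have := pow_orderOf_eq_one σQ
    rw [hoQ] at this
    have h3 := congrArg (fun φ => φ (algebraMap (IsLocalRing.ResidueField P.O)
      (IsLocalRing.ResidueField Q.O) a)) this
    simp only [AlgHom.one_apply] at h3
    rw [hσQ, ← map_pow] at h3
    exact (algebraMap (IsLocalRing.ResidueField P.O) (IsLocalRing.ResidueField Q.O)).injective h3
  have hdvd2 : d ∣ Q.deg := by
    rw [← hoP]; exact orderOf_dvd_of_pow_eq_one h2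
  have hdvd3 : n ∣ Q.deg := ⟨(up (k' := k') Q).deg, by rw [mul_comm]; exact (up_deg Q).symm⟩
  exact Nat.dvd_antisymm hdvd1 (Nat.lcm_dvd hdvd2 hdvd3)

/-- the degree over `k'` of a place above `P`. -/
theorem up_deg_over
    (h : Function.Bijective (Algebra.TensorProduct.productMap
      (IsScalarTower.toAlgHom k k' K') (IsScalarTower.toAlgHom k K K')))
    (hK : IsFunctionField k K) (P : Place k K)
    {Q : Place k K'} (hQ : IsOver Q P) :
    (up (k' := k') Q).deg * Nat.gcd P.deg (Module.finrank k k') = P.deg := by
  haveI : FiniteDimensional k k' := Module.Finite.of_finite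
  have h1 := up_deg (k' := k') Q
  rw [deg_over_lcm h hK P hQ] at h1
  have hpos : 0 < Module.finrank k k' := Module.finrank_pos
  have h2 := Nat.gcd_mul_lcm P.deg (Module.finrank k k')
  apply Nat.eq_of_mul_eq_mul_right hpos
  rw [← h2, ← h1]
  ring

/-- the number of places above `P`. -/
theorem card_over
    (h : Function.Bijective (Algebra.TensorProduct.productMap
      (IsScalarTower.toAlgHom k k' K') (IsScalarTower.toAlgHom k K K')))
    (hK : IsFunctionField k K) (P : Place k K) :
    haveI : FiniteDimensional K K' := LeadCE.finiteDimensional_of_surjective h.2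
    (LeadFF.finite_over (K' := K') hK P).toFinset.card = Nat.gcd P.deg (Module.finrank k k') := by
  classical
  haveI : FiniteDimensional k k' := Module.Finite.of_finite
  haveI : Algebra.IsSeparable k k' := Algebra.IsAlgebraic.isSeparable_of_perfectField
  haveI : FiniteDimensional K K' := LeadCE.finiteDimensional_of_surjective h.2
  have hfin := LeadFF.finite_over (K' := K') hK P
  have hsum := LeadFF.sum_ramIdx_deg hK P hfin.toFinset (fun Q => hfin.mem_toFinset)
  have hterm : ∀ Q ∈ hfin.toFinset, ramIdx Q P * Q.deg =
      Nat.lcm P.deg (Module.finrank k k') := by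
    intro Q hQ
    have hQP : IsOver Q P := hfin.mem_toFinset.mp hQ
    rw [LeadFF.ramIdx_eq (LeadCE.isOverWith_one h.2 P Q hQP), one_mul,
      deg_over_lcm h hK P hQP]
  rw [Finset.sum_congr rfl hterm, Finset.sum_const, smul_eq_mul, finrank_constExt h] at hsum
  have hdpos : 0 < P.deg := LeadFF.deg_pos hK P
  have hpos : 0 < Module.finrank k k' := Module.finrank_pos
  have hlpos : 0 < Nat.lcm P.deg (Module.finrank k k') := Nat.lcm_pos hdpos hpos
  have h2 := Nat.gcd_mul_lcm P.deg (Module.finrank k k')
  apply Nat.eq_of_mul_eq_mul_right hlpos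
  rw [hsum, h2, mul_comm]

end Split

end Groth.Agent.Lib.LeadZC
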