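import Groth.Agent.Lib.LeadRH5
import Groth.Agent.Lib.LeadZC2

/-! Infinite algebraic constant field extensions: places below, representation of elements. -/

namespace Groth.Agent.Lib.LeadFB

attribute [-instance] IsLocalRing.instModuleResidueFieldOfAlgebra

open FunFld WithZero Polynomial TensorProduct Groth.Agent.Lib.LeadFF

section Below

variable {k K K' : Type*} [Field k] [Field K] [Field K'] [Algebra k K] [Algebra K K']
  [Algebra k K'] [IsScalarTower k K K']

/-- the place below, for an integral extension. -/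
theorem exists_below_alg [Algebra.IsIntegral K K'] (hK : IsFunctionField k K) (Q : Place k K') :
    ∃ (P : Place k K) (e : ℕ), 0 < e ∧ IsOverWith Q P e := by
  let w : Valuation K ZM0 := Q.1.comap (algebraMap K K')
  have hw : ∀ x, w x = Q.1 (algebraMap K K' x) := fun x => rfl
  have hk : TrivOn k w := by
    intro c hc
    rw [hw, ← IsScalarTower.algebraMap_apply]
    exact place_trivOn Q c hc
  have hnt : ∃ z : K, z ≠ 0 ∧ w z < 1 := by
    by_contra hno
    push Not at hno
    have htriv : LeadFG.TrivOn K Q.1 := by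
      intro z hz
      have h1 := hno z hz
      have h2 := hno z⁻¹ (inv_ne_zero hz)
      have h3 : w z * w z⁻¹ = 1 := by rw [← map_mul, mul_inv_cancel₀ hz, map_one]
      rw [← hw]
      apply le_antisymm _ h1
      by_contra hlt
      rw [not_le] at hlt
      have : 1 < w z * w z⁻¹ := by
        calc (1 : ZM0) < w z := hlt
          _ = w z * 1 := (mul_one _).symm
          _ ≤ w z * w z⁻¹ := mul_le_mul' le_rfl h2
      exact absurd h3 this.ne'
    obtain ⟨u, hu⟩ := Q.2.2 (exp (1 : ℤ))
    have hint : IsIntegral K u := Algebra.IsIntegral.isIntegral u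
    have := LeadFG.val_le_one_of_isIntegral htriv hint
    rw [hu, ← exp_zero, exp_le_exp] at this
    omega
  obtain ⟨z, hz0, hz⟩ := hnt
  obtain ⟨P, hP⟩ := exists_place_of_valuation hK hk hz0 hz
  obtain ⟨t, ht⟩ := exists_unif P
  have ht0 := unif_ne_zero ht
  have hwt0 : w t ≠ 0 := (Valuation.ne_zero_iff _).mpr ht0
  have hwt1 : w t < 1 := by
    by_contra hge
    rw [not_lt] at hge
    have : P.1 1 ≤ P.1 t := (hP 1 t).mpr (by rwa [map_one])
    rw [map_one, ht, ← exp_zero, exp_le_exp] at this
    omega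
  obtain ⟨a, ha⟩ : ∃ a : ℤ, w t = exp a := ⟨log (w t), (exp_log hwt0).symm⟩
  have ha0 : a < 0 := by rwa [ha, ← exp_zero, exp_lt_exp] at hwt1
  have hunit : ∀ u : K, P.1 u = 1 → w u = 1 := by
    intro u hu
    apply le_antisymm
    · have := (hP u 1).mp (by rw [hu, map_one])
      rwa [map_one] at this
    · have := (hP 1 u).mp (by rw [hu, map_one])
      rwa [map_one] at this
  have key : ∀ y : K, y ≠ 0 → w y = w t ^ (P.ord y) := by
    intro y hy
    have hu : P.1 (y / t ^ (P.ord y)) = 1 := by
      rw [map_div₀, map_zpow₀, ht, val_eq_exp_neg_ord P hy, zm0_exp_zpow, mul_neg_one,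
        div_self exp_ne_zero]
    have := hunit _ hu
    rw [map_div₀, map_zpow₀, div_eq_one_iff_eq] at this
    · exact this
    · exact zpow_ne_zero _ hwt0
  refine ⟨P, (-a).toNat, by omega, ?_⟩
  intro y
  rw [← hw]
  by_cases hy : y = 0
  · subst hy
    rw [map_zero, map_zero, zero_pow (by omega)]
  rw [key y hy, ha, zm0_exp_zpow, val_eq_exp_neg_ord P hy, zm0_exp_pow]
  congr 1
  rw [Int.toNat_of_nonneg (by omega)]
  ring

end Below

section ConstExt

variable {k K kb Kb : Type*} [Field k] [Field K] [Algebra k K] [Field kb] [Algebra k kb]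
  [Field Kb] [Algebra K Kb] [Algebra kb Kb] [Algebra k Kb] [IsScalarTower k K Kb]
  [IsScalarTower k kb Kb]

lemma exists_finsupp_repr (hgen : Algebra.adjoin K (Set.range (algebraMap kb Kb)) = ⊤) (z : Kb) :
    ∃ c : kb →₀ K, z = c.sum (fun b y => algebraMap K Kb y * algebraMap kb Kb b) := by
  have h1 : z ∈ Submodule.span K (Set.range (algebraMap kb Kb)) := by
    have h2' : z ∈ Algebra.adjoin K (Set.range (algebraMap kb Kb)) := by
      rw [hgen]; exact Algebra.mem_top
    have h2 : z ∈ Subalgebra.toSubmodule (Algebra.adjoin K (Set.range (algebraMap kb Kb))) := h2'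
    rw [Algebra.adjoin_eq_span] at h2
    have h3 : (Submonoid.closure (Set.range (algebraMap kb Kb)) : Set Kb) =
        Set.range (algebraMap kb Kb) := by
      have h4 : Set.range (algebraMap kb Kb) =
          ((MonoidHom.mrange ((algebraMap kb Kb : kb →+* Kb) : kb →* Kb) : Submonoid Kb) : Set Kb) :=
        rfl
      rw [h4, Submonoid.closure_eq]
    rwa [h3] at h2
  obtain ⟨c, hc⟩ := Finsupp.mem_span_range_iff_exists_finsupp.mp h1
  refine ⟨c, ?_⟩
  rw [← hc]
  apply Finsupp.sum_congr
  intro b _
  rw [Algebra.smul_def]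

lemma isIntegral_of_gen [Algebra.IsAlgebraic k kb]
    (hgen : Algebra.adjoin K (Set.range (algebraMap kb Kb)) = ⊤) : Algebra.IsIntegral K Kb := by
  constructor
  intro z
  have h2 : z ∈ Algebra.adjoin K (Set.range (algebraMap kb Kb)) := by
    rw [hgen]; exact Algebra.mem_top
  have hle : Algebra.adjoin K (Set.range (algebraMap kb Kb)) ≤ integralClosure K Kb := by
    apply Algebra.adjoin_le
    rintro _ ⟨c, rfl⟩
    have hc : IsIntegral k c := (Algebra.IsAlgebraic.isAlgebraic c).isIntegral
    have h3 : IsIntegral k (algebraMap kb Kb c) := hc.map (IsScalarTower.toAlgHom k kb Kb)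
    exact h3.tower_top
  exact hle h2

/-- representation in terms of a `k`-basis of `kb`. -/
lemma exists_basis_repr (hgen : Algebra.adjoin K (Set.range (algebraMap kb Kb)) = ⊤)
    {ι : Type*} (ℬ : Module.Basis ι k kb) (z : Kb) :
    ∃ (s : Finset ι) (n : ι → K),
      z = ∑ i ∈ s, algebraMap kb Kb (ℬ i) * algebraMap K Kb (n i) := by
  classical
  obtain ⟨c, hc⟩ := exists_finsupp_repr hgen z
  let φ := Algebra.TensorProduct.productMap
    (IsScalarTower.toAlgHom k kb Kb) (IsScalarTower.toAlgHom k K Kb)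
  have hφ : ∀ (a : kb) (b : K), φ (a ⊗ₜ b) = algebraMap kb Kb a * algebraMap K Kb b := by
    intro a b; simp [φ]
  set w : kb ⊗[k] K := c.sum (fun b y => b ⊗ₜ[k] y) with hw
  have hzw : z = φ w := by
    rw [hc, hw, Finsupp.sum, Finsupp.sum, map_sum]
    apply Finset.sum_congr rfl
    intro b _
    rw [hφ, mul_comm]
  obtain ⟨d, hd⟩ := TensorProduct.eq_repr_basis_left ℬ w
  refine ⟨d.support, fun i => d i, ?_⟩
  rw [hzw, ← hd, Finsupp.sum, map_sum]
  apply Finset.sum_congr rfl
  intro i _
  rw [hφ]

end ConstExt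

end Groth.Agent.Lib.LeadFB
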