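import Groth.Agent.Lib.LeadFB1

/-! Places of `k̄ K` fixed by the Frobenius map are the places defined over `k`. -/

namespace Groth.Agent.Lib.LeadFB

attribute [-instance] IsLocalRing.instModuleResidueFieldOfAlgebra

open FunFld WithZero Polynomial TensorProduct Groth.Agent.Lib.LeadFF

section ConstExt

variable {k K kb Kb : Type*} [Field k] [Field K] [Algebra k K] [Field kb] [Algebra k kb]
  [Field Kb] [Algebra K Kb] [Algebra kb Kb] [Algebra k Kb] [IsScalarTower k K Kb]
  [IsScalarTower k kb Kb]

/-- `Kb/kb` is a (weak) function field. -/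
lemma isFF_constExt [Algebra.IsAlgebraic k kb] (hK : IsFunctionField k K)
    (hgen : Algebra.adjoin K (Set.range (algebraMap kb Kb)) = ⊤) : LeadFG.IsFF kb Kb := by
  classical
  obtain ⟨⟨x₀, hx₀, hfin⟩, -⟩ := hK
  refine ⟨algebraMap K Kb x₀, ?_, ?_⟩
  · intro halg
    have h1 : IsAlgebraic k (algebraMap K Kb x₀) := halg.restrictScalars k
    exact hx₀ ((isAlgebraic_algebraMap_iff (algebraMap K Kb).injective).mp h1)
  · obtain ⟨s, hs⟩ := Module.finite_def.mp hfin
    refine Module.finite_def.mpr ⟨s.image (algebraMap K Kb), ?_⟩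
    rw [Submodule.eq_top_iff']
    intro z
    have hAB : ∀ a : K, a ∈ IntermediateField.adjoin k ({x₀} : Set K) →
        algebraMap K Kb a ∈ IntermediateField.adjoin kb ({algebraMap K Kb x₀} : Set Kb) := by
      intro a ha
      have hle : (IntermediateField.adjoin k ({x₀} : Set K)).map (IsScalarTower.toAlgHom k K Kb) ≤
          (IntermediateField.adjoin kb ({algebraMap K Kb x₀} : Set Kb)).restrictScalars k := by
        rw [IntermediateField.adjoin_map, Set.image_singleton, IntermediateField.adjoin_le_iff]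
        intro y hy
        exact IntermediateField.subset_adjoin kb _ hy
      exact hle ((IntermediateField.mem_map _).mpr ⟨a, ha, rfl⟩)
    have hK' : ∀ y : K, algebraMap K Kb y ∈
        Submodule.span (IntermediateField.adjoin kb ({algebraMap K Kb x₀} : Set Kb))
          ((s.image (algebraMap K Kb) : Finset Kb) : Set Kb) := by
      intro y
      have hy : y ∈ Submodule.span (IntermediateField.adjoin k ({x₀} : Set K)) (s : Set K) := by
        rw [hs]; trivial
      induction hy using Submodule.span_induction with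
      | mem y hy =>
        apply Submodule.subset_span
        rw [Finset.coe_image]
        exact ⟨y, hy, rfl⟩
      | zero => rw [map_zero]; exact Submodule.zero_mem _
      | add y z _ _ hy hz => rw [map_add]; exact Submodule.add_mem _ hy hz
      | smul a y _ hy =>
        have h1 := Submodule.smul_mem _ (⟨algebraMap K Kb (a : K), hAB a a.2⟩ :
          IntermediateField.adjoin kb ({algebraMap K Kb x₀} : Set Kb)) hy
        rw [Algebra.smul_def, IntermediateField.algebraMap_apply] at h1
        rw [Algebra.smul_def, IntermediateField.algebraMap_apply, map_mul]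
        exact h1
    obtain ⟨c, hc⟩ := exists_finsupp_repr hgen z
    rw [hc]
    apply Submodule.sum_mem
    intro b _
    have hb : algebraMap kb Kb b ∈ IntermediateField.adjoin kb ({algebraMap K Kb x₀} : Set Kb) :=
      IntermediateField.algebraMap_mem _ b
    have h1 := Submodule.smul_mem _ (⟨algebraMap kb Kb b, hb⟩ :
      IntermediateField.adjoin kb ({algebraMap K Kb x₀} : Set Kb)) (hK' (c b))
    rw [Algebra.smul_def, IntermediateField.algebraMap_apply] at h1
    show algebraMap K Kb (c b) * algebraMap kb Kb b ∈ _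
    rw [mul_comm]; exact h1

lemma exists_const_sub_lt [IsAlgClosed kb] (hFF : LeadFG.IsFF kb Kb) (Q : Place kb Kb) {z : Kb}
    (hz : Q.1 z ≤ 1) : ∃ c : kb, Q.1 (z - algebraMap kb Kb c) < 1 := by
  haveI : FiniteDimensional kb (IsLocalRing.ResidueField Q.O) := LeadFG.residueField_finite hFF Q
  haveI : Algebra.IsIntegral kb (IsLocalRing.ResidueField Q.O) := Algebra.IsIntegral.of_finite _ _
  obtain ⟨c, hc⟩ := (IsAlgClosed.algebraMap_bijective_of_isIntegral (k := kb)
    (K := IsLocalRing.ResidueField Q.O)).2 (IsLocalRing.residue Q.O ⟨z, hz⟩)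
  refine ⟨c, ?_⟩
  have h1 : IsLocalRing.residue Q.O (⟨z, hz⟩ - algebraMap kb Q.O c) = 0 := by
    rw [map_sub, sub_eq_zero]; exact hc.symm
  exact (LeadFG.residue_eq_zero_iff Q _).mp h1

lemma val_eq_one_of_repr {ι : Type*} (ℬ : Module.Basis ι k kb) (Q : Place kb Kb) (P : Place k K)
    (hQP : ∀ x : K, P.1 x < 1 → Q.1 (algebraMap K Kb x) < 1)
    (s : Finset ι) (Y : ι → K) (a : ι → k)
    (hY : ∀ i ∈ s, P.1 (Y i - algebraMap k K (a i)) < 1)
    (i₀ : ι) (hi₀ : i₀ ∈ s) (ha : a i₀ ≠ 0) :
    Q.1 (∑ i ∈ s, algebraMap kb Kb (ℬ i) * algebraMap K Kb (Y i)) = 1 := by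
  classical
  set c₀ : kb := ∑ i ∈ s, a i • ℬ i with hc₀
  have hc₀ne : c₀ ≠ 0 := by
    intro h0
    exact ha ((linearIndependent_iff'.mp ℬ.linearIndependent) s a h0 i₀ hi₀)
  have hQc : Q.1 (algebraMap kb Kb c₀) = 1 := LeadFG.place_trivOn Q c₀ hc₀ne
  have hsplit : ∑ i ∈ s, algebraMap kb Kb (ℬ i) * algebraMap K Kb (Y i) =
      algebraMap kb Kb c₀ +
        ∑ i ∈ s, algebraMap kb Kb (ℬ i) * algebraMap K Kb (Y i - algebraMap k K (a i)) := by
    rw [hc₀, map_sum, ← Finset.sum_add_distrib]
    apply Finset.sum_congr rfl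
    intro i _
    rw [map_sub, mul_sub, Algebra.smul_def, map_mul, ← IsScalarTower.algebraMap_apply k kb Kb,
      ← IsScalarTower.algebraMap_apply k K Kb]
    ring
  have hsmall : Q.1 (∑ i ∈ s, algebraMap kb Kb (ℬ i) *
      algebraMap K Kb (Y i - algebraMap k K (a i))) < 1 := by
    apply Valuation.map_sum_lt Q.1 one_ne_zero
    intro i hi
    rw [map_mul]
    calc Q.1 (algebraMap kb Kb (ℬ i)) * Q.1 (algebraMap K Kb (Y i - algebraMap k K (a i)))
        ≤ 1 * Q.1 (algebraMap K Kb (Y i - algebraMap k K (a i))) := mul_le_mul' (Q.2.1 _) le_rfl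
      _ < 1 := by rw [one_mul]; exact hQP _ (hY i hi)
  rw [hsplit]
  have := Valuation.map_add_eq_of_lt_left Q.1 (x := algebraMap kb Kb c₀)
    (y := ∑ i ∈ s, algebraMap kb Kb (ℬ i) * algebraMap K Kb (Y i - algebraMap k K (a i)))
    (by rw [hQc]; exact hsmall)
  rw [this, hQc]

theorem frob_fix_iff [Finite k] [IsAlgClosure k kb] (hK : IsFunctionField k K)
    (hgen : Algebra.adjoin K (Set.range (algebraMap kb Kb)) = ⊤)
    (F : Kb →+* Kb) (hF1 : ∀ c : kb, F (algebraMap kb Kb c) = algebraMap kb Kb c)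
    (hF2 : ∀ x : K, F (algebraMap K Kb x) = algebraMap K Kb x ^ Nat.card k)
    (Q : Place kb Kb) :
    (∀ z : Kb, Q.1 (F z) < 1 ↔ Q.1 z < 1) ↔
      ∃ P : Place k K, (∀ x : K, Q.1 (algebraMap K Kb x) ≤ 1 ↔ P.1 x ≤ 1) ∧ P.deg = 1 := by
  classical
  haveI : IsAlgClosed kb := IsAlgClosure.isAlgClosed k
  haveI : Algebra.IsAlgebraic k kb := IsAlgClosure.isAlgebraic
  have hFF : LeadFG.IsFF kb Kb := isFF_constExt hK hgen
  set q := Nat.card k with hq
  have hq0 : 0 < q := Nat.card_pos
  constructor
  · intro hQF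
    haveI : Algebra.IsIntegral K Kb := isIntegral_of_gen (k := k) hgen
    obtain ⟨P, e, he0, he⟩ := exists_below_alg hK (LeadZC.down (k := k) Q)
    have hQP : ∀ x : K, Q.1 (algebraMap K Kb x) = P.1 x ^ e := he
    refine ⟨P, fun x => by rw [hQP, pow_le_one_iff he0.ne'], ?_⟩
    have hdvd : P.deg ∣ 1 := by
      apply Groth.Agent.Lib.LeadRH.deg_dvd_of_forall hK P 1
      intro x hx
      have hX : Q.1 (algebraMap K Kb x) ≤ 1 := by rw [hQP]; exact pow_le_one' hx e
      obtain ⟨c, hc⟩ := exists_const_sub_lt hFF Q hX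
      have h1 : Q.1 (F (algebraMap K Kb x - algebraMap kb Kb c)) < 1 := (hQF _).mpr hc
      rw [map_sub, hF1, hF2] at h1
      have h2 : Q.1 (algebraMap K Kb x ^ q - algebraMap K Kb x) < 1 := by
        have : algebraMap K Kb x ^ q - algebraMap K Kb x =
            (algebraMap K Kb x ^ q - algebraMap kb Kb c) -
              (algebraMap K Kb x - algebraMap kb Kb c) := by ring
        rw [this]
        exact lt_of_le_of_lt (Valuation.map_sub _ _ _) (max_lt h1 hc)
      rw [pow_one]
      rw [← map_pow, ← map_sub, hQP] at h2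
      exact (pow_lt_one_iff he0.ne').mp h2
    exact Nat.dvd_one.mp hdvd
  · rintro ⟨P, hP, hdeg⟩
    have hlt : ∀ x : K, P.1 x < 1 → Q.1 (algebraMap K Kb x) < 1 := by
      intro x hx
      by_cases hx0 : x = 0
      · rw [hx0, map_zero, map_zero]; exact zero_lt_one
      have hX0 : algebraMap K Kb x ≠ 0 := (_root_.map_ne_zero _).mpr hx0
      rw [Valuation.val_lt_one_iff _ hX0, ← map_inv₀]
      rw [Valuation.val_lt_one_iff _ hx0] at hx
      by_contra hle
      rw [not_lt] at hle
      exact absurd ((hP _).mp hle) (not_le.mpr hx)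
    obtain ⟨t, ht⟩ := exists_unif P
    have ht0 := unif_ne_zero ht
    set T := algebraMap K Kb t with hT
    have hT0 : T ≠ 0 := (_root_.map_ne_zero _).mpr ht0
    have hT1 : Q.1 T < 1 := hlt t (by rw [ht, ← exp_zero, exp_lt_exp]; norm_num)
    have hFT : F T = T ^ q := hF2 t
    have hres : ∀ y : K, P.1 y ≤ 1 → ∃ a : k, P.1 (y - algebraMap k K a) < 1 := by
      intro y hy
      have h1 : Module.finrank k (IsLocalRing.ResidueField P.O) = 1 := hdeg
      haveI : Module.Finite k (IsLocalRing.ResidueField P.O) := residueField_finite hK P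
      have h2 := Subalgebra.bot_eq_top_of_finrank_eq_one h1
      have h3 : IsLocalRing.residue P.O ⟨y, hy⟩ ∈
          (⊥ : Subalgebra k (IsLocalRing.ResidueField P.O)) := by
        rw [h2]; exact Algebra.mem_top
      obtain ⟨a, ha⟩ := Algebra.mem_bot.mp h3
      refine ⟨a, ?_⟩
      have h4 : IsLocalRing.residue P.O (⟨y, hy⟩ - algebraMap k P.O a) = 0 := by
        rw [map_sub, sub_eq_zero]; exact ha.symm
      exact (LeadFG.residue_eq_zero_iff P _).mp h4
    let ℬ := Module.Basis.ofVectorSpace k kb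
    have key : ∀ z : Kb, z ≠ 0 → ∃ (m : ℤ) (u : Kb), z = T ^ m * u ∧ Q.1 u = 1 ∧
        Q.1 (F u) = 1 := by
      intro z hz
      obtain ⟨s, n, hzn⟩ := exists_basis_repr hgen ℬ z
      set s' := s.filter (fun i => n i ≠ 0) with hs'
      have hzn' : z = ∑ i ∈ s', algebraMap kb Kb (ℬ i) * algebraMap K Kb (n i) := by
        rw [hzn, hs', Finset.sum_filter_of_ne]
        intro i _ hne hni
        apply hne
        rw [hni, map_zero, mul_zero]
      have hs'ne : s'.Nonempty := by
        by_contra hemp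
        rw [Finset.not_nonempty_iff_eq_empty] at hemp
        rw [hemp, Finset.sum_empty] at hzn'
        exact hz hzn'
      obtain ⟨i₀, hi₀, hmin⟩ := Finset.exists_min_image s' (fun i => P.ord (n i)) hs'ne
      set m := P.ord (n i₀) with hm
      have hn0 : ∀ i ∈ s', n i ≠ 0 := fun i hi => (Finset.mem_filter.mp hi).2
      let Y := fun i => n i / t ^ m
      have hPt : ∀ j : ℤ, P.1 (t ^ j) = exp (-j) := by
        intro j
        rw [map_zpow₀, ht, zm0_exp_zpow]
        congr 1; ring
      have hYval : ∀ i ∈ s', P.1 (Y i) = exp (-(P.ord (n i) - m)) := by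
        intro i hi
        show P.1 (n i / t ^ m) = _
        rw [map_div₀, hPt, val_eq_exp_neg_ord P (hn0 i hi), ← exp_sub]
        congr 1; ring
      have hY1 : ∀ i ∈ s', P.1 (Y i) ≤ 1 := by
        intro i hi
        rw [hYval i hi, ← exp_zero, exp_le_exp]
        have := hmin i hi
        omega
      have hYi₀ : P.1 (Y i₀) = 1 := by
        rw [hYval i₀ hi₀, ← exp_zero]
        congr 1; omega
      let a := fun i => if h : P.1 (Y i) ≤ 1 then Classical.choose (hres _ h) else 0
      have ha : ∀ i ∈ s', P.1 (Y i - algebraMap k K (a i)) < 1 := by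
        intro i hi
        have h := hY1 i hi
        simp only [a, dif_pos h]
        exact Classical.choose_spec (hres _ h)
      have ha₀ : a i₀ ≠ 0 := by
        intro h0
        have := ha i₀ hi₀
        rw [h0, map_zero, sub_zero, hYi₀] at this
        exact lt_irrefl _ this
      refine ⟨m, ∑ i ∈ s', algebraMap kb Kb (ℬ i) * algebraMap K Kb (Y i), ?_, ?_, ?_⟩
      · rw [hzn', Finset.mul_sum]
        apply Finset.sum_congr rfl
        intro i _
        show _ = T ^ m * (algebraMap kb Kb (ℬ i) * algebraMap K Kb (n i / t ^ m))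
        rw [map_div₀, map_zpow₀, ← hT]
        have hTm : T ^ m ≠ 0 := zpow_ne_zero _ hT0
        field_simp
      · exact val_eq_one_of_repr ℬ Q P hlt s' Y a ha i₀ hi₀ ha₀
      · have hFu : F (∑ i ∈ s', algebraMap kb Kb (ℬ i) * algebraMap K Kb (Y i)) =
            ∑ i ∈ s', algebraMap kb Kb (ℬ i) * algebraMap K Kb (Y i ^ q) := by
          rw [map_sum]
          apply Finset.sum_congr rfl
          intro i _
          rw [map_mul, hF1, hF2, map_pow]
        rw [hFu]
        apply val_eq_one_of_repr ℬ Q P hlt s' (fun i => Y i ^ q) a ?_ i₀ hi₀ ha₀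
        intro i hi
        have haq : (a i) ^ q = a i := by
          have := Groth.Agent.Lib.LeadRH.pow_card_pow_eq k (a i) 1
          rwa [pow_one] at this
        have h1 : P.1 (Y i ^ q - algebraMap k K (a i) ^ q) < 1 := by
          have hYi := hY1 i hi
          have hai : P.1 (algebraMap k K (a i)) ≤ 1 := P.2.1 _
          have h2 : IsLocalRing.residue P.O
              ((⟨Y i, hYi⟩ : P.O) - ⟨algebraMap k K (a i), hai⟩) = 0 :=
            (LeadFG.residue_eq_zero_iff P _).mpr (ha i hi)
          rw [map_sub, sub_eq_zero] at h2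
          have h3 : IsLocalRing.residue P.O
              ((⟨Y i, hYi⟩ : P.O) ^ q - ⟨algebraMap k K (a i), hai⟩ ^ q) = 0 := by
            rw [map_sub, map_pow, map_pow, h2, sub_self]
          exact (LeadFG.residue_eq_zero_iff P _).mp h3
        rwa [← map_pow, haq] at h1
    intro z
    by_cases hz : z = 0
    · rw [hz, map_zero]
    obtain ⟨m, u, hzu, hu1, hFu1⟩ := key z hz
    have hQz : Q.1 z = Q.1 T ^ m := by rw [hzu, map_mul, map_zpow₀, hu1, mul_one]
    have hQFz : Q.1 (F z) = (Q.1 T ^ q) ^ m := by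
      rw [hzu, map_mul, map_zpow₀, hFT, map_mul, map_zpow₀, map_pow, hFu1, mul_one]
    have hQT0 : Q.1 T ≠ 0 := (Valuation.ne_zero_iff _).mpr hT0
    obtain ⟨b, hb⟩ : ∃ b : ℤ, Q.1 T = exp b := ⟨log (Q.1 T), (exp_log hQT0).symm⟩
    have hb0 : b < 0 := by rwa [hb, ← exp_zero, exp_lt_exp] at hT1
    rw [hQz, hQFz, hb, zm0_exp_pow, zm0_exp_zpow, zm0_exp_zpow, ← exp_zero, exp_lt_exp,
      exp_lt_exp]
    have hqZ : (0 : ℤ) < q := by exact_mod_cast hq0
    constructor
    · intro h
      by_contra hge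
      rw [not_lt] at hge
      nlinarith
    · intro h
      nlinarith

end ConstExt

end Groth.Agent.Lib.LeadFB
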