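import Groth.Agent.Lib.LeadFB2
import Groth.Agent.Lib.LeadFG5

/-! Places of `k̄ K` are defined over a finite extension of `k`. -/

namespace Groth.Agent.Lib.LeadFB

attribute [-instance] IsLocalRing.instModuleResidueFieldOfAlgebra

open FunFld WithZero Polynomial TensorProduct Groth.Agent.Lib.LeadFF

section ConstExt

variable {k K kb Kb : Type*} [Field k] [Field K] [Algebra k K] [Field kb] [Algebra k kb]
  [Field Kb] [Algebra K Kb] [Algebra kb Kb] [Algebra k Kb] [IsScalarTower k K Kb]
  [IsScalarTower k kb Kb]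

lemma transcendental_map [Algebra.IsAlgebraic k kb] {x : K} (hx : Transcendental k x) :
    Transcendental kb (algebraMap K Kb x) := by
  intro halg
  have h1 : IsAlgebraic k (algebraMap K Kb x) := halg.restrictScalars k
  exact hx ((isAlgebraic_algebraMap_iff (algebraMap K Kb).injective).mp h1)

theorem defined_over_finite [IsAlgClosure k kb] (hK : IsFunctionField k K)
    (hgen : Algebra.adjoin K (Set.range (algebraMap kb Kb)) = ⊤) (Q : Place kb Kb) :
    ∃ k' : IntermediateField k kb, FiniteDimensional k k' ∧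
      (∃ z ∈ Algebra.adjoin K (Set.range fun c : k' => algebraMap kb Kb c),
        Q.1 z = WithZero.exp (-1)) ∧
      ∀ Q' : Place kb Kb,
        (∃ e : ℕ, ∀ z ∈ Algebra.adjoin K (Set.range fun c : k' => algebraMap kb Kb c),
          Q'.1 z = Q.1 z ^ e) → Q' = Q := by
  classical
  haveI : Algebra.IsAlgebraic k kb := IsAlgClosure.isAlgebraic
  have hFF : LeadFG.IsFF kb Kb := isFF_constExt hK hgen
  haveI : Algebra.IsIntegral K Kb := isIntegral_of_gen (k := k) hgen
  have hexp1 : exp (-1 : ℤ) < (1 : ZM0) := by rw [← exp_zero, exp_lt_exp]; norm_num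
  obtain ⟨t, ht⟩ := LeadFG.exists_unif Q
  obtain ⟨P, e₀, he₀, heP⟩ := exists_below_alg hK (LeadZC.down (k := k) Q)
  obtain ⟨t₀, ht₀⟩ := exists_unif P
  have ht₀0 := unif_ne_zero ht₀
  have ht₀tr : Transcendental k t₀ := by
    intro halg
    obtain ⟨c, hc⟩ := hK.2 t₀ halg
    have hc0 : c ≠ 0 := by rintro rfl; exact ht₀0 (by rw [← hc, map_zero])
    have := place_trivOn P c hc0
    rw [hc, ht₀] at this
    exact absurd this hexp1.ne
  have hT₀tr : Transcendental kb (algebraMap K Kb t₀) := transcendental_map ht₀tr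
  have hZfin : {Q' : Place kb Kb | Q'.1 (algebraMap K Kb t₀) < 1}.Finite :=
    LeadFG.zeros_finite hFF hT₀tr
  set Z := hZfin.toFinset with hZ
  obtain ⟨y, hy⟩ := LeadFG.weak_approx (insert Q Z) (fun Q' => if Q' = Q then 0 else 1)
    (fun _ => -1)
  have hyQ : Q.1 y < 1 := by
    have := hy Q (Finset.mem_insert_self _ _)
    rw [if_pos rfl, sub_zero] at this
    rw [this]; exact hexp1
  have hyZ : ∀ Q' ∈ Z, Q' ≠ Q → Q'.1 y = 1 := by
    intro Q' hQ' hne
    have := hy Q' (Finset.mem_insert_of_mem hQ')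
    rw [if_neg hne] at this
    exact val_eq_one_of_sub_one_lt Q'.1 (by rw [this]; exact hexp1)
  obtain ⟨c₁, hc₁⟩ := exists_finsupp_repr hgen t
  obtain ⟨c₂, hc₂⟩ := exists_finsupp_repr hgen y
  let S : Set kb := ((c₁.support ∪ c₂.support : Finset kb) : Set kb)
  haveI : Finite S := Finset.finite_toSet _
  let k' := IntermediateField.adjoin k S
  haveI : FiniteDimensional k k' :=
    IntermediateField.finiteDimensional_adjoin
      (fun x _ => (Algebra.IsAlgebraic.isAlgebraic x).isIntegral)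
  have hmemA : ∀ c : kb →₀ K, ((c.support : Finset kb) : Set kb) ⊆ S →
      c.sum (fun b y => algebraMap K Kb y * algebraMap kb Kb b) ∈
        Algebra.adjoin K (Set.range fun c : k' => algebraMap kb Kb c) := by
    intro c hcS
    apply Subalgebra.sum_mem
    intro b hb
    exact Subalgebra.mul_mem _ (Subalgebra.algebraMap_mem _ _)
      (Algebra.subset_adjoin ⟨⟨b, IntermediateField.subset_adjoin k S (hcS hb)⟩, rfl⟩)
  have hS₁ : ((c₁.support : Finset kb) : Set kb) ⊆ S := by
    intro b hb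
    exact Finset.mem_coe.mpr (Finset.mem_union_left _ (Finset.mem_coe.mp hb))
  have hS₂ : ((c₂.support : Finset kb) : Set kb) ⊆ S := by
    intro b hb
    exact Finset.mem_coe.mpr (Finset.mem_union_right _ (Finset.mem_coe.mp hb))
  refine ⟨k', inferInstance, ⟨t, by rw [hc₁]; exact hmemA c₁ hS₁, ht⟩, ?_⟩
  rintro Q' ⟨e, hQ'⟩
  have he : e ≠ 0 := by
    rintro rfl
    have := hQ' 0 (Subalgebra.zero_mem _)
    rw [map_zero, pow_zero] at this
    exact zero_ne_one this
  have hT₀mem : algebraMap K Kb t₀ ∈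
      Algebra.adjoin K (Set.range fun c : k' => algebraMap kb Kb c) :=
    Subalgebra.algebraMap_mem _ t₀
  have hQt₀ : Q.1 (algebraMap K Kb t₀) < 1 := by
    have : Q.1 (algebraMap K Kb t₀) = P.1 t₀ ^ e₀ := heP t₀
    rw [this, ht₀]; exact pow_lt_one' hexp1 he₀.ne'
  have hQ'Z : Q' ∈ Z := by
    rw [hZ, Set.Finite.mem_toFinset]
    show Q'.1 (algebraMap K Kb t₀) < 1
    rw [hQ' _ hT₀mem]; exact pow_lt_one' hQt₀ he
  by_contra hne
  have h1 := hyZ Q' hQ'Z hne
  have h2 := hQ' y (by rw [hc₂]; exact hmemA c₂ hS₂)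
  rw [h1] at h2
  have h3 : Q.1 y ^ e < 1 := pow_lt_one' hyQ he
  rw [← h2] at h3
  exact lt_irrefl _ h3

end ConstExt

end Groth.Agent.Lib.LeadFB
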