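import Mathlib
import Groth.Agent.Lib.LeadFF22

/-! Function fields of one variable, part 23: large-degree complete linear systems are
birational embeddings. -/

namespace Groth.Agent.Lib.LeadFF

open FunFld WithZero

section LargeDeg

variable {k K : Type*} [Field k] [Field K] [Algebra k K]

lemma ell_sub_single_eq (hK : IsFunctionField k K) (D : Divisor k K)
    (hD : 2 * (genus k K : ℤ) ≤ D.deg) (P : Place k K) (hP : P.deg = 1) :
    ell (D - Finsupp.single P 1) + 1 = ell D := by
  have h1 := ell_of_deg_ge hK D (by omega)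
  have h2 := ell_of_deg_ge hK (D - Finsupp.single P 1) (by
    rw [deg_sub, deg_single, hP]; push_cast; omega)
  rw [deg_sub, deg_single, hP] at h2
  push_cast at h2
  omega

/-- a section avoiding finitely many points. -/
lemma exists_avoid [Infinite k] (hK : IsFunctionField k K) (D : Divisor k K)
    (hD : 2 * (genus k K : ℤ) ≤ D.deg) (S : Finset (Place k K)) (hS : ∀ Q ∈ S, Q.deg = 1) :
    ∃ f ∈ L D, ∀ Q ∈ S, Q.1 f = exp (D Q) := by
  classical
  haveI := L_finite hK D
  let V : S → Submodule k (L D) := fun Q =>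
    Submodule.comap (L D).subtype (L (D - Finsupp.single Q.1 1))
  have hVne : ∀ Q, V Q ≠ ⊤ := by
    intro Q htop
    have hle : L (D - Finsupp.single Q.1 1) ≤ L D := fun f hf => (mem_L_sub_single.mp hf).1
    have h1 : L D ≤ L (D - Finsupp.single Q.1 1) := by
      intro f hf
      have : (⟨f, hf⟩ : L D) ∈ V Q := by rw [htop]; trivial
      exact this
    have h2 : L (D - Finsupp.single Q.1 1) = L D := le_antisymm hle h1
    have h3 := ell_sub_single_eq hK D hD Q.1 (hS Q.1 Q.2)
    unfold ell at h3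
    rw [h2] at h3
    omega
  have hcov : ⋃ Q, (V Q : Set (L D)) ≠ Set.univ := by
    intro h
    obtain ⟨Q, hQ⟩ := Subspace.exists_eq_top_of_iUnion_eq_univ h
    exact hVne Q hQ
  obtain ⟨f, hf⟩ := (Set.ne_univ_iff_exists_notMem _).mp hcov
  refine ⟨f.1, f.2, fun Q hQ => ?_⟩
  have h1 : f ∉ V ⟨Q, hQ⟩ := fun h => hf (Set.mem_iUnion.mpr ⟨⟨Q, hQ⟩, h⟩)
  have h2 : ¬ (f.1 ∈ L (D - Finsupp.single Q 1)) := h1
  rw [mem_L_sub_single] at h2
  push Not at h2
  have h3 := h2 f.2
  have h4 : ¬ (Q.1 f.1 < exp (D Q)) := by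
    rw [zm0_lt_exp_iff]; exact not_le.mpr h3
  exact le_antisymm (f.2 Q) (not_lt.mp h4)

/-- functions of prescribed degree inside `L(D)/L(D)`. -/
lemma exists_ratio_of_degree [Infinite k] (hK : IsFunctionField k K) (D : Divisor k K)
    (hD : 2 * (genus k K : ℤ) ≤ D.deg) (hD1 : 1 ≤ D.deg) (hdeg1 : ∀ Q : Place k K, Q.deg = 1) :
    ∃ f ∈ L D, ∃ h ∈ L D, h ≠ 0 ∧
      (Module.finrank (IntermediateField.adjoin k ({f / h} : Set K)) K : ℤ) = D.deg := by
  classical
  haveI := L_finite hK D
  have hell := ell_of_deg_ge hK D (by omega)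
  have hpos : 0 < Module.finrank k (L D) := by
    have : (0 : ℤ) < ell D := by rw [hell]; omega
    unfold ell at this
    exact_mod_cast this
  obtain ⟨⟨h, hhL⟩, hh0'⟩ := Module.finrank_pos_iff_exists_ne_zero.mp hpos
  have hh0 : h ≠ 0 := fun e => hh0' (Subtype.ext e)
  set E := FunFld.div k h + D with hE
  have hE0 : 0 ≤ E := by
    have := neg_le_div_of_mem_L hK hhL hh0
    rw [hE]
    intro R
    have := this R
    simp only [Finsupp.coe_neg, Pi.neg_apply, Finsupp.coe_add, Pi.add_apply, Finsupp.coe_zero,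
      Pi.zero_apply] at this ⊢
    omega
  have hEdeg : E.deg = D.deg := by rw [hE, deg_add, deg_div hK, zero_add]
  obtain ⟨f, hfL, hf⟩ := exists_avoid hK D hD E.support (fun Q _ => hdeg1 Q)
  have hSne : E.support.Nonempty := by
    rw [Finsupp.support_nonempty_iff]
    rintro h0
    rw [h0, deg_zero] at hEdeg
    omega
  have hf0 : f ≠ 0 := by
    obtain ⟨Q, hQ⟩ := hSne
    intro h0
    have := hf Q hQ
    rw [h0, map_zero] at this
    exact exp_ne_zero this.symm
  refine ⟨f, hfL, h, hhL, hh0, ?_⟩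
  set x := f / h with hx
  have hx0 : x ≠ 0 := div_ne_zero hf0 hh0
  have hpole : zdiv k x⁻¹ = E := by
    ext R
    rw [pdiv_apply hK]
    have hord : R.ord x = R.ord f - R.ord h := by
      unfold Place.ord
      rw [hx, map_div₀, log_div ((Valuation.ne_zero_iff _).mpr hf0)
        ((Valuation.ne_zero_iff _).mpr hh0)]
      ring
    have hER : E R = R.ord h + D R := by rw [hE, Finsupp.add_apply, div_apply hK]
    have hfR : 0 ≤ R.ord f + D R := by
      have := hfL R
      rw [val_eq_exp_neg_ord R hf0, exp_le_exp] at this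
      omega
    by_cases hRS : R ∈ E.support
    · have := hf R hRS
      rw [val_eq_exp_neg_ord R hf0] at this
      have h2 : -R.ord f = D R := exp_injective this
      rw [hord, hER]
      have : 0 ≤ R.ord h + D R := by rw [← hER]; exact hE0 R
      rw [max_eq_left (by omega)]; omega
    · rw [Finsupp.notMem_support_iff] at hRS
      rw [hRS, hord]
      rw [hER] at hRS
      exact max_eq_right (by omega)
  have hxk : x ∉ Set.range (algebraMap k K) := by
    intro hmem
    have h0 : zdiv k x⁻¹ = 0 := by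
      have hxi : x⁻¹ ∈ Set.range (algebraMap k K) := by
        obtain ⟨c, hc⟩ := hmem
        exact ⟨c⁻¹, by rw [map_inv₀, hc]⟩
      rw [zdiv, div_eq_zero_of_mem hK hxi]; simp
    rw [hpole] at h0
    rw [h0, deg_zero] at hEdeg
    omega
  rw [← finrank_adjoin_eq_deg_pdiv hK hxk, hpole, hEdeg]

end LargeDeg

end Groth.Agent.Lib.LeadFF

namespace Groth.Agent.Lib.LeadFF

open FunFld WithZero

section Embedding

variable {k K : Type*} [Field k] [Field K] [Algebra k K]

lemma ratio_mem_adjoin {ι : Type*} [Fintype ι] (φ : ι → K) (i₀ : ι) (h0 : φ i₀ ≠ 0) {f h : K}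
    (hf : f ∈ Submodule.span k (Set.range φ)) (hh : h ∈ Submodule.span k (Set.range φ)) :
    f / h ∈ IntermediateField.adjoin k (Set.range fun i => φ i / φ i₀) := by
  have h1 := chart_le_adjoin φ i₀ i₀ h0 (span_div_mem_chart φ i₀ h0 hf)
  have h2 := chart_le_adjoin φ i₀ i₀ h0 (span_div_mem_chart φ i₀ h0 hh)
  have : f / h = (f / φ i₀) / (h / φ i₀) := by
    by_cases hh0 : h = 0
    · simp [hh0]
    · field_simp
  rw [this]
  exact div_mem h1 h2

/-- the complete linear system of a divisor of degree `≥ 2g+1` is birational. -/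
theorem birational_of_deg_ge [IsAlgClosed k] (hK : IsFunctionField k K) (D : Divisor k K)
    (hD : 2 * (genus k K : ℤ) + 1 ≤ D.deg) {ι : Type*} [Fintype ι] (φ : ι → K) (i₀ : ι)
    (h0 : φ i₀ ≠ 0) (hspan : Submodule.span k (Set.range φ) = L D) :
    IntermediateField.adjoin k (Set.range fun i => φ i / φ i₀) = ⊤ := by
  haveI : Infinite k := IsAlgClosed.instInfinite
  set K₀ := IntermediateField.adjoin k (Set.range fun i => φ i / φ i₀) with hK₀
  obtain ⟨P₀⟩ := nonempty_place hK
  have hdeg1 : ∀ Q : Place k K, Q.deg = 1 := deg_eq_one_of_algClosed hK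
  -- for each admissible m, d divides m
  have key : ∀ m : ℕ, 2 * genus k K ≤ m → 1 ≤ m → (m : ℤ) ≤ D.deg →
      Module.finrank K₀ K ∣ m := by
    intro m hm1 hm2 hm3
    set Dm := D - (D.deg - m).toNat • Finsupp.single P₀ (1 : ℤ) with hDm
    have hDmdeg : Dm.deg = m := by
      rw [hDm, deg_sub, deg_nsmul, deg_single, hdeg1 P₀]
      push_cast
      rw [Int.toNat_of_nonneg (by omega)]; ring
    have hDmle : Dm ≤ D := by
      rw [hDm]
      apply sub_le_self
      exact nsmul_nonneg (by
        intro R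
        by_cases hR : R = P₀
        · subst hR; simp
        · simp [single_apply_ne hR]) _
    obtain ⟨f, hf, h, hh, hh0, hfin⟩ := exists_ratio_of_degree hK Dm
      (by rw [hDmdeg]; exact_mod_cast hm1) (by rw [hDmdeg]; exact_mod_cast hm2) hdeg1
    rw [hDmdeg] at hfin
    have hfW : f ∈ Submodule.span k (Set.range φ) := by rw [hspan]; exact L_mono hDmle hf
    have hhW : h ∈ Submodule.span k (Set.range φ) := by rw [hspan]; exact L_mono hDmle hh
    have hxK₀ : f / h ∈ K₀ := ratio_mem_adjoin φ i₀ h0 hfW hhW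
    have hle : IntermediateField.adjoin k ({f / h} : Set K) ≤ K₀ := by
      rw [IntermediateField.adjoin_le_iff]
      intro y hy
      rw [Set.mem_singleton_iff] at hy
      subst hy
      exact hxK₀
    have := IntermediateField.finrank_dvd_of_le_left hle
    have hfin' : Module.finrank (IntermediateField.adjoin k ({f / h} : Set K)) K = m := by
      exact_mod_cast hfin
    rwa [hfin'] at this
  have h1 := key (2 * genus k K + 1) (by omega) (by omega) (by push_cast; omega)
  have hd1 : Module.finrank K₀ K = 1 := by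
    by_cases hg : genus k K = 0
    · rw [hg] at h1; simpa using h1
    · have h2 := key (2 * genus k K) le_rfl (by omega) (by push_cast; omega)
      have := (Nat.dvd_add_right h2).mp h1
      simpa using this
  exact IntermediateField.finrank_eq_one_iff_eq_top.mp hd1

/-- the divisor of a base-point-free complete linear system. -/
lemma mapDiv_eq_of_span (hK : IsFunctionField k K) (D : Divisor k K) {ι : Type*} [Fintype ι]
    [Nonempty ι] (φ : ι → K) (hne : ∀ i, φ i ≠ 0)
    (hspan : Submodule.span k (Set.range φ) = L D)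
    (hbpf : ∀ R : Place k K, ∃ f ∈ L D, R.1 f = exp (D R)) : mapDiv k φ = D := by
  ext R
  obtain ⟨j, hj, hmax⟩ := exists_maxIdx φ R ⟨Classical.arbitrary ι, hne _⟩
  have h1 := exp_mapDiv hK φ hne R j hmax
  apply exp_injective
  rw [h1]
  apply le_antisymm
  · have : φ j ∈ L D := by rw [← hspan]; exact Submodule.subset_span ⟨j, rfl⟩
    exact this R
  · obtain ⟨f, hf, hfv⟩ := hbpf R
    rw [← hfv]
    rw [← hspan] at hf
    obtain ⟨b, hb⟩ := Submodule.mem_span_range_iff_exists_fun k |>.mp hf
    rw [← hb]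
    apply Valuation.map_sum_le
    intro i _
    rw [Algebra.smul_def, map_mul]
    calc R.1 (algebraMap k K (b i)) * R.1 (φ i) ≤ 1 * R.1 (φ j) :=
          mul_le_mul' (R.2.1 _) (hmax i)
      _ = _ := one_mul _

/-- S11056 core. -/
theorem embedding_of_deg_ge [IsAlgClosed k] (hK : IsFunctionField k K) (D : Divisor k K)
    (hD : 2 * (genus k K : ℤ) + 1 ≤ D.deg) {ι : Type*} [Fintype ι] [Nonempty ι] (φ : ι → K)
    (hφ : LinearIndependent k φ) (hspan : Submodule.span k (Set.range φ) = L D)
    (P : Place k K) : IsNonsingularAt φ P := by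
  haveI : Infinite k := IsAlgClosed.instInfinite
  have hne : ∀ i, φ i ≠ 0 := hφ.ne_zero
  have hdeg1 : ∀ Q : Place k K, Q.deg = 1 := deg_eq_one_of_algClosed hK
  set i₀ := Classical.arbitrary ι
  have hbir := birational_of_deg_ge hK D hD φ i₀ (hne i₀) hspan
  have hbpf : ∀ R : Place k K, ∃ f ∈ L D, R.1 f = exp (D R) := by
    intro R
    obtain ⟨f, hf, hfv⟩ := exists_avoid hK D (by omega) {R} (fun Q _ => hdeg1 Q)
    exact ⟨f, hf, hfv R (Finset.mem_singleton_self R)⟩
  have hmap := mapDiv_eq_of_span hK D φ hne hspan hbpf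
  rw [nonsingular_iff_exists_sections hK φ hne i₀ hbir P]
  intro Q
  rw [hmap, hspan]
  have h1 := ell_sub_single_eq hK (D - Finsupp.single P 1) (by
    rw [deg_sub, deg_single, hdeg1 P]; push_cast; omega) Q (hdeg1 Q)
  have hle : L (D - Finsupp.single P 1 - Finsupp.single Q 1) ≤ L (D - Finsupp.single P 1) :=
    fun f hf => (mem_L_sub_single.mp hf).1
  have hlt : L (D - Finsupp.single P 1 - Finsupp.single Q 1) < L (D - Finsupp.single P 1) := by
    refine lt_of_le_of_ne hle fun heq => ?_
    unfold ell at h1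
    rw [heq] at h1
    omega
  obtain ⟨f, hf1, hf2⟩ := SetLike.exists_of_lt hlt
  exact ⟨f, (mem_L_sub_single.mp hf1).1, hf1, hf2⟩

end Embedding

end Groth.Agent.Lib.LeadFF
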