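import Mathlib
import Groth.Agent.Lib.LeadFF23

/-! Function fields of one variable, part 24: the genus bound for plane models. -/

namespace Groth.Agent.Lib.LeadFF

open FunFld WithZero

section MapDivGeneral

variable {k K : Type*} [Field k] [Field K] [Algebra k K]

lemma mem_L_mapDiv (hK : IsFunctionField k K) {ι : Type*} [Fintype ι] [Nonempty ι]
    (φ : ι → K) (i : ι) : φ i ∈ L (mapDiv k φ) := by
  intro Q
  by_cases h0 : φ i = 0
  · simp [h0]
  · rw [mapDiv_apply hK, val_eq_exp_neg_ord Q h0, exp_le_exp, neg_le_neg_iff]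
    exact Finset.inf'_le _ (Finset.mem_univ i)

lemma mapDiv_le (hK : IsFunctionField k K) {ι : Type*} [Fintype ι] [Nonempty ι]
    (φ : ι → K) {E : Divisor k K} (hE0 : 0 ≤ E) (h : ∀ i, φ i ∈ L E) : mapDiv k φ ≤ E := by
  intro Q
  rw [mapDiv_apply hK]
  obtain ⟨i, -, hi⟩ := Finset.exists_mem_eq_inf' Finset.univ_nonempty (fun i => Q.ord (φ i))
  rw [hi]
  by_cases h0 : φ i = 0
  · simp only [h0, Place.ord, map_zero, log_zero, neg_zero]
    exact hE0 Q
  · have := h i Q
    rwa [val_eq_exp_neg_ord Q h0, exp_le_exp] at this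

lemma mapDiv_nonneg_of_one (hK : IsFunctionField k K) {ι : Type*} [Fintype ι] [Nonempty ι]
    (φ : ι → K) (i : ι) (hi : φ i = 1) : 0 ≤ mapDiv k φ := by
  intro Q
  rw [mapDiv_apply hK]
  have := Finset.inf'_le (fun i => Q.ord (φ i)) (Finset.mem_univ i)
  have h1 : Q.ord (φ i) = 0 := by simp [hi, Place.ord]
  rw [h1] at this
  simp only [Finsupp.coe_zero, Pi.zero_apply]
  omega

lemma pdiv_le_of_mem (hK : IsFunctionField k K) {X : K} {E : Divisor k K} (hE0 : 0 ≤ E)
    (h : X ∈ L E) : zdiv k X⁻¹ ≤ E := by
  intro Q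
  rw [pdiv_apply hK]
  apply max_le _ (hE0 Q)
  by_cases h0 : X = 0
  · simp only [h0, Place.ord, map_zero, log_zero, neg_zero]
    exact hE0 Q
  · have := h Q
    rwa [val_eq_exp_neg_ord Q h0, exp_le_exp] at this

end MapDivGeneral

end Groth.Agent.Lib.LeadFF

namespace Groth.Agent.Lib.LeadFF

open FunFld WithZero

section Triangle

variable {k K : Type*} [Field k] [Field K] [Algebra k K]

/-- the triangle count: `g ≤ (d-1)(d-2)/2` for a plane model of degree `d`. -/
theorem triangle_bound (hK : IsFunctionField k K) {X y' : K} (hX : Transcendental k X)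
    (D : Divisor k K) (hD0 : 0 ≤ D) (hXD : X ∈ L D) (hyD : y' ∈ L D)
    (hdeg : D.deg = Module.finrank (IntermediateField.adjoin k ({X} : Set K)) K)
    (hprim : IntermediateField.adjoin k ({X, y'} : Set K) = ⊤) :
    2 * (genus k K : ℤ) ≤ (D.deg - 1) * (D.deg - 2) := by
  classical
  set F := IntermediateField.adjoin k ({X} : Set K) with hF
  haveI := finite_over_adjoin hK hX
  have hFy : IntermediateField.adjoin F ({y'} : Set K) = ⊤ := by
    rw [← IntermediateField.restrictScalars_eq_top_iff (K := k), IntermediateField.adjoin_adjoin_left,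
      ← hprim]
    congr 1
  have hint : IsIntegral F y' := IsIntegral.of_finite F y'
  set n := (minpoly F y').natDegree with hn
  have hnd : n = Module.finrank F K := by
    rw [hn, ← IntermediateField.adjoin.finrank hint, hFy, IntermediateField.finrank_top']
  have hnpos : 0 < n := by rw [hnd]; exact Module.finrank_pos
  have hpow := linearIndependent_pow (K := F) y'
  set g := genus k K with hg
  set m := n + 2 * g + 1 with hm
  have hXF : X ∈ F := IntermediateField.mem_adjoin_simple_self k X
  have hb := linearIndependent_pow_of_transcendental hX m F hXF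
  have hli := linearIndependent_smul hb hpow
  -- the triangular index set
  let J := Σ b : Fin n, Fin (m + 1 - (b : ℕ))
  let inj : J → Fin (m + 1) × Fin n := fun p => (⟨p.2, by have := p.2.2; omega⟩, p.1)
  have hinj : Function.Injective inj := by
    rintro ⟨b, a⟩ ⟨b', a'⟩ h
    simp only [inj, Prod.mk.injEq, Fin.mk.injEq] at h
    obtain ⟨h1, h2⟩ := h
    subst h2
    congr 1
    exact Fin.ext h1
  have hliJ := hli.comp inj hinj
  have hmem : ∀ p : J, ((⟨X, hXF⟩ : F) ^ ((inj p).1 : ℕ)) • y' ^ ((inj p).2 : ℕ) ∈ L (m • D) := by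
    intro p
    rw [IntermediateField.smul_def]
    simp only [SubmonoidClass.mk_pow, smul_eq_mul]
    have h1 := mul_mem_L_add (pow_mem_L_nsmul hXD ((inj p).1 : ℕ)) (pow_mem_L_nsmul hyD ((inj p).2 : ℕ))
    rw [← add_smul] at h1
    refine L_nsmul_mono hD0 ?_ h1
    have := p.2.2
    simp only [inj]
    omega
  haveI := L_finite hK (m • D)
  have hli' : LinearIndependent k (fun p : J => (⟨_, hmem p⟩ : L (m • D))) := by
    apply LinearIndependent.of_comp (L (m • D)).subtype
    exact hliJ
  have hcard := hli'.fintype_card_le_finrank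
  have hJcard : Fintype.card J = ∑ b ∈ Finset.range n, (m + 1 - b) := by
    rw [Fintype.card_sigma]
    simp only [Fintype.card_fin]
    exact Fin.sum_univ_eq_sum_range (fun b => m + 1 - b) n
  have hsum : (∑ b ∈ Finset.range n, (m + 1 - b)) + ∑ b ∈ Finset.range n, b = n * (m + 1) := by
    rw [← Finset.sum_add_distrib]
    have : ∀ b ∈ Finset.range n, m + 1 - b + b = m + 1 := by
      intro b hb
      rw [Finset.mem_range] at hb
      omega
    rw [Finset.sum_congr rfl this, Finset.sum_const, Finset.card_range, smul_eq_mul]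
  have hgauss := Finset.sum_range_id_mul_two n
  have hell := ell_of_deg_ge hK (m • D) (by
    rw [deg_nsmul, hdeg, ← hnd]
    have : (0 : ℤ) < n := by exact_mod_cast hnpos
    have : (2 * (g : ℤ)) ≤ m := by rw [hm]; push_cast; omega
    nlinarith)
  rw [deg_nsmul, hdeg, ← hnd] at hell
  have hcard' : (Fintype.card J : ℤ) ≤ ell (m • D) := by
    unfold ell; exact_mod_cast hcard
  rw [hdeg, ← hnd]
  -- arithmetic
  set S := ∑ b ∈ Finset.range n, b with hS
  have h1 : (Fintype.card J : ℤ) + S = n * (m + 1) := by
    rw [hJcard]; exact_mod_cast hsum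
  have h2 : (S : ℤ) * 2 = n * (n - 1) := by
    have : ((n - 1 : ℕ) : ℤ) = (n : ℤ) - 1 := by
      rw [Nat.cast_sub hnpos]; simp
    rw [← this]; exact_mod_cast hgauss
  nlinarith

end Triangle

end Groth.Agent.Lib.LeadFF

namespace Groth.Agent.Lib.LeadFF

open FunFld WithZero

section PlaneBound

variable {k K : Type*} [Field k] [Field K] [Algebra k K]

/-- S11054 core. -/
theorem plane_genus_bound [IsAlgClosed k] (hK : IsFunctionField k K) (x y : K)
    (hxy : IntermediateField.adjoin k ({x, y} : Set K) = ⊤) :
    2 * (genus k K : ℤ) ≤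
      ((mapDiv k ![(1 : K), x, y]).deg - 1) * ((mapDiv k ![(1 : K), x, y]).deg - 2) := by
  haveI : Infinite k := IsAlgClosed.instInfinite
  set φ : Fin 3 → K := ![(1 : K), x, y] with hφ
  obtain ⟨a, hgen⟩ := exists_generic hK φ
  set X := ∑ l, a l • φ l with hX
  have hXsum : X = algebraMap k K (a 0) + algebraMap k K (a 1) * x + algebraMap k K (a 2) * y := by
    rw [hX, Fin.sum_univ_three]
    simp [hφ, Algebra.smul_def]
  -- X is transcendental
  have hXk : X ∉ Set.range (algebraMap k K) := by
    rintro ⟨c, hc⟩
    have hnopole : ∀ (Q : Place k K) (i : Fin 3), Q.1 (φ i) ≤ 1 := by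
      intro Q i
      by_contra h
      rw [not_le] at h
      have := lt_of_lt_of_le h (hgen Q i h)
      rw [← hc] at this
      exact absurd this (not_lt.mpr (Q.2.1 c))
    have hconst : ∀ i, φ i ∈ (⊥ : IntermediateField k K) := by
      intro i
      have : φ i ∈ L (0 : Divisor k K) := fun Q => by simpa using hnopole Q i
      rw [L_zero hK, Submodule.mem_one] at this
      obtain ⟨c, hc⟩ := this
      rw [IntermediateField.mem_bot]; exact ⟨c, hc⟩
    have hbot : IntermediateField.adjoin k ({x, y} : Set K) = ⊥ := by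
      rw [eq_bot_iff, IntermediateField.adjoin_le_iff]
      intro z hz
      rcases hz with rfl | rfl
      · exact hconst 1
      · exact hconst 2
    rw [hxy] at hbot
    obtain ⟨z, hz, -⟩ := hK.1
    have : z ∈ (⊥ : IntermediateField k K) := by rw [← hbot]; trivial
    rw [IntermediateField.mem_bot] at this
    obtain ⟨d, rfl⟩ := this
    exact hz (isAlgebraic_algebraMap d)
  have hXtr : Transcendental k X := transcendental_of_not_mem hK hXk
  set D := mapDiv k φ with hD
  have hD0 : 0 ≤ D := mapDiv_nonneg_of_one hK φ 0 rfl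
  have hXD : X ∈ L D :=
    sum_mem fun l _ => Submodule.smul_mem _ _ (mem_L_mapDiv hK φ l)
  have hDeq : D = zdiv k X⁻¹ :=
    le_antisymm (mapDiv_le hK φ (zdiv_nonneg _) (gen_mem_L hK φ X hgen))
      (pdiv_le_of_mem hK hD0 hXD)
  have hdeg : D.deg = Module.finrank (IntermediateField.adjoin k ({X} : Set K)) K := by
    rw [hDeq]; exact finrank_adjoin_eq_deg_pdiv hK hXk
  have hxX : ∀ {S : IntermediateField k K}, X ∈ S → ∀ c : k, algebraMap k K c ∈ S :=
    fun _ c => IntermediateField.algebraMap_mem _ c
  by_cases ha2 : a 2 = 0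
  · have ha1 : a 1 ≠ 0 := by
      intro ha1
      apply hXk
      exact ⟨a 0, by rw [hXsum, ha1, ha2]; simp⟩
    have hprim : IntermediateField.adjoin k ({X, y} : Set K) = ⊤ := by
      rw [eq_top_iff, ← hxy, IntermediateField.adjoin_le_iff]
      have hXm : X ∈ IntermediateField.adjoin k ({X, y} : Set K) :=
        IntermediateField.subset_adjoin _ _ (by simp)
      have hym : y ∈ IntermediateField.adjoin k ({X, y} : Set K) :=
        IntermediateField.subset_adjoin _ _ (by simp)
      intro z hz
      rcases hz with rfl | rfl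
      · have : z = (X - algebraMap k K (a 0)) / algebraMap k K (a 1) := by
          have h1 : algebraMap k K (a 1) ≠ 0 := by simpa using ha1
          rw [hXsum, ha2]; field_simp; simp
        rw [SetLike.mem_coe, this]
        exact div_mem (sub_mem hXm (IntermediateField.algebraMap_mem _ _))
          (IntermediateField.algebraMap_mem _ _)
      · exact hym
    exact triangle_bound hK hXtr D hD0 hXD (mem_L_mapDiv hK φ 2) hdeg hprim
  · have hprim : IntermediateField.adjoin k ({X, x} : Set K) = ⊤ := by
      rw [eq_top_iff, ← hxy, IntermediateField.adjoin_le_iff]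
      have hXm : X ∈ IntermediateField.adjoin k ({X, x} : Set K) :=
        IntermediateField.subset_adjoin _ _ (by simp)
      have hxm : x ∈ IntermediateField.adjoin k ({X, x} : Set K) :=
        IntermediateField.subset_adjoin _ _ (by simp)
      intro z hz
      rcases hz with rfl | rfl
      · exact hxm
      · have : z = (X - algebraMap k K (a 0) - algebraMap k K (a 1) * x) / algebraMap k K (a 2) := by
          have h2 : algebraMap k K (a 2) ≠ 0 := by simpa using ha2
          rw [hXsum]; field_simp; ring
        rw [SetLike.mem_coe, this]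
        exact div_mem (sub_mem (sub_mem hXm (IntermediateField.algebraMap_mem _ _))
          (mul_mem (IntermediateField.algebraMap_mem _ _) hxm))
          (IntermediateField.algebraMap_mem _ _)
    exact triangle_bound hK hXtr D hD0 hXD (mem_L_mapDiv hK φ 1) hdeg hprim

end PlaneBound

end Groth.Agent.Lib.LeadFF
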