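import Groth.Agent.Lib.LeadFF25

/-! Conorm of divisors. -/

namespace Groth.Agent.Lib.LeadFF

open FunFld WithZero

section Conorm

variable {k K K' : Type*} [Field k] [Field K] [Field K'] [Algebra k K] [Algebra K K']
  [Algebra k K'] [IsScalarTower k K K'] [FiniteDimensional K K']

open scoped Classical in
/-- the divisor `∑_{Q|P} e(Q|P) Q`. -/
noncomputable def conormPlace (hK : IsFunctionField k K) (P : Place k K) : Divisor k K' :=
  (finite_over (K' := K') hK P).toFinset.sum (fun Q => (ramIdx Q P : ℤ) • Finsupp.single Q 1)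

lemma conorm_eq (hK : IsFunctionField k K) (D : Divisor k K) :
    conorm K' D = D.sum fun P n => n • conormPlace (K' := K') hK P := by
  classical
  unfold conorm
  apply Finsupp.sum_congr
  intro P _
  rw [dif_pos (finite_over hK P)]
  rfl

open scoped Classical in
lemma conormPlace_apply (hK : IsFunctionField k K) {Q : Place k K'} {P : Place k K} {e : ℕ}
    (h : IsOverWith Q P e) (P' : Place k K) :
    conormPlace (K' := K') hK P' Q = if P' = P then (e : ℤ) else 0 := by
  unfold conormPlace
  rw [Finsupp.finsetSum_apply]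
  simp only [Finsupp.smul_apply, smul_eq_mul, Finsupp.single_apply, mul_ite, mul_one, mul_zero]
  rw [Finset.sum_ite_eq']
  simp only [Set.Finite.mem_toFinset, Set.mem_ofPred_eq]
  by_cases hP : P' = P
  · subst hP
    rw [if_pos ⟨e, h⟩, if_pos rfl, ramIdx_eq h]
  · rw [if_neg hP, if_neg]
    rintro ⟨e', he'⟩
    exact hP (isOverWith_unique he' h).1

lemma conorm_apply (hK : IsFunctionField k K) (D : Divisor k K) {Q : Place k K'} {P : Place k K}
    {e : ℕ} (h : IsOverWith Q P e) : conorm K' D Q = e * D P := by
  classical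
  rw [conorm_eq hK, Finsupp.sum_apply]
  simp only [Finsupp.smul_apply, smul_eq_mul, conormPlace_apply hK h, mul_ite, mul_zero]
  unfold Finsupp.sum
  rw [Finset.sum_ite_eq']
  split_ifs with hP
  · ring
  · rw [Finsupp.notMem_support_iff.mp hP]; ring

lemma deg_conormPlace (hK : IsFunctionField k K) (P : Place k K) :
    (conormPlace (K' := K') hK P).deg = Module.finrank K K' * P.deg := by
  classical
  unfold conormPlace
  rw [← degHom_apply, map_sum]
  simp only [map_zsmul, degHom_apply, deg_single, smul_eq_mul, one_mul]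
  have := sum_ramIdx_deg (K' := K') hK P (finite_over hK P).toFinset (by
    intro Q; simp)
  have h2 : ((∑ Q ∈ (finite_over (K' := K') hK P).toFinset, ramIdx Q P * Q.deg : ℕ) : ℤ) =
      ((Module.finrank K K' * P.deg : ℕ) : ℤ) := by rw [this]
  push_cast at h2
  exact h2

theorem deg_conorm (hK : IsFunctionField k K) (D : Divisor k K) :
    (conorm K' D).deg = Module.finrank K K' * D.deg := by
  classical
  rw [conorm_eq hK]
  unfold Finsupp.sum
  rw [← degHom_apply, map_sum]
  simp only [map_zsmul, degHom_apply, deg_conormPlace, smul_eq_mul]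
  conv_rhs => rw [Divisor.deg]
  unfold Finsupp.sum
  rw [Finset.mul_sum]
  apply Finset.sum_congr rfl
  intro P _
  ring

theorem div_algebraMap (hK : IsFunctionField k K) (x : K) :
    FunFld.div k (algebraMap K K' x) = conorm K' (FunFld.div k x) := by
  ext Q
  obtain ⟨P, e, -, he⟩ := exists_below hK Q
  rw [conorm_apply hK _ he, LeadFG.div_apply (isFF_of_finite hK), div_apply hK,
    ord_algebraMap_of_isOverWith he]

end Conorm

end Groth.Agent.Lib.LeadFF

namespace Groth.Agent.Lib.LeadFF

open FunFld WithZero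

section Conorm2

variable {k K K' : Type*} [Field k] [Field K] [Field K'] [Algebra k K] [Algebra K K']
  [Algebra k K'] [IsScalarTower k K K'] [FiniteDimensional K K']

theorem mapDiv_algebraMap (hK : IsFunctionField k K) (hK' : IsFunctionField k K')
    {ι : Type*} [Fintype ι] [Nonempty ι] (φ : ι → K) :
    mapDiv k (fun i => algebraMap K K' (φ i)) = conorm K' (mapDiv k φ) := by
  ext Q
  obtain ⟨P, e, -, he⟩ := exists_below hK Q
  rw [conorm_apply hK _ he, mapDiv_apply hK', mapDiv_apply hK]
  simp only [ord_algebraMap_of_isOverWith he]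
  have hmono : Monotone (fun x : ℤ => (e : ℤ) * x) :=
    fun x y hxy => mul_le_mul_of_nonneg_left hxy (Int.natCast_nonneg e)
  have := Finset.apply_inf'_eq_inf'_comp (s := (Finset.univ : Finset ι)) Finset.univ_nonempty
    (f := fun i => P.ord (φ i)) (fun x : ℤ => (e : ℤ) * x) (fun x y => hmono.map_min)
  simp only [Function.comp_def] at this
  rw [← this]
  ring

end Conorm2

end Groth.Agent.Lib.LeadFF

namespace Groth.Agent.Lib.LeadFF

open FunFld WithZero

section Twist

variable {k K : Type*} [Field k] [Field K] [Algebra k K]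

lemma finite_fieldRange (hK : IsFunctionField k K) (τ : K →ₐ[k] K) :
    FiniteDimensional τ.fieldRange K := by
  obtain ⟨x, hx, -⟩ := hK.1
  have hτx : Transcendental k (τ x) := by
    intro h
    apply hx
    obtain ⟨p, hp0, hp⟩ := h
    refine ⟨p, hp0, ?_⟩
    apply τ.toRingHom.injective
    rw [map_zero]
    change τ (Polynomial.aeval x p) = 0
    rw [← Polynomial.aeval_algHom_apply]; exact hp
  haveI := finite_over_adjoin hK hτx
  have hle : IntermediateField.adjoin k {τ x} ≤ τ.fieldRange := by
    rw [IntermediateField.adjoin_simple_le_iff]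
    exact ⟨x, rfl⟩
  letI : Algebra (IntermediateField.adjoin k {τ x}) τ.fieldRange :=
    (IntermediateField.inclusion hle).toRingHom.toAlgebra
  haveI : IsScalarTower (IntermediateField.adjoin k {τ x}) τ.fieldRange K :=
    IsScalarTower.of_algebraMap_eq (fun _ => rfl)
  exact Module.Finite.of_restrictScalars_finite (IntermediateField.adjoin k {τ x}) τ.fieldRange K

/-- `K` viewed as an extension of itself via `τ`. -/
def Tw (_τ : K →ₐ[k] K) : Type _ := K

namespace Tw
variable (τ : K →ₐ[k] K)
noncomputable instance : Field (Tw τ) := inferInstanceAs (Field K)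
noncomputable instance : Algebra k (Tw τ) := inferInstanceAs (Algebra k K)
noncomputable instance : Algebra K (Tw τ) := τ.toRingHom.toAlgebra
instance : IsScalarTower k K (Tw τ) :=
  IsScalarTower.of_algebraMap_eq (fun c => (τ.commutes c).symm)

/-- `K ≃ τ(K)`. -/
noncomputable def rangeEquiv : K ≃+* τ.fieldRange :=
  RingEquiv.ofBijective (τ.toRingHom.codRestrict τ.fieldRange (fun x => ⟨x, rfl⟩))
    ⟨fun a b h => τ.toRingHom.injective (congrArg Subtype.val h),
     fun ⟨y, x, hx⟩ => ⟨x, Subtype.ext hx⟩⟩

/-- identity. -/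
def idEquiv : K ≃+* Tw τ := RingEquiv.refl K

lemma comp_eq : (algebraMap K (Tw τ)).comp (rangeEquiv τ).symm.toRingHom =
    (idEquiv τ).toRingHom.comp (algebraMap τ.fieldRange K) := by
  ext a
  obtain ⟨b, rfl⟩ := (rangeEquiv τ).surjective a
  simp only [RingEquiv.toRingHom_eq_coe, RingHom.coe_comp, RingHom.coe_coe, Function.comp_apply,
    RingEquiv.symm_apply_apply]
  rfl

lemma finrank_eq : Module.finrank K (Tw τ) = Module.finrank τ.fieldRange K :=
  (Algebra.finrank_eq_of_equiv_equiv (rangeEquiv τ).symm (idEquiv τ)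
    (comp_eq τ)).symm

lemma finite (hK : IsFunctionField k K) : FiniteDimensional K (Tw τ) := by
  haveI := finite_fieldRange hK τ
  exact Module.Finite.of_equiv_equiv (rangeEquiv τ).symm (idEquiv τ)
    (comp_eq τ)

end Tw

theorem deg_mapDiv_comp (hK : IsFunctionField k K) (τ : K →ₐ[k] K)
    {ι : Type*} [Fintype ι] [Nonempty ι] (φ : ι → K) :
    (mapDiv k (τ ∘ φ)).deg = Module.finrank τ.fieldRange K * (mapDiv k φ).deg := by
  haveI := Tw.finite τ hK
  have hK' : IsFunctionField k (Tw τ) := hK
  have h1 := mapDiv_algebraMap (K' := Tw τ) hK hK' φ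
  have h2 := deg_conorm (K' := Tw τ) hK (mapDiv k φ)
  rw [← Tw.finrank_eq τ, ← h2, ← h1]
  rfl

end Twist

end Groth.Agent.Lib.LeadFF
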