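import Groth.Agent.Lib.LeadFF26

/-! Galois extensions: transitivity on the places above `P`. -/

namespace Groth.Agent.Lib.LeadFF

open FunFld WithZero

section Galois

variable {k K K' : Type*} [Field k] [Field K] [Field K'] [Algebra k K] [Algebra K K']
  [Algebra k K'] [IsScalarTower k K K']

/-- the place `Q ∘ σ`. -/
def cm (Q : Place k K') (σ : K' ≃ₐ[K] K') : Place k K' :=
  ⟨Q.1.comap (σ : K' →+* K'), by
    intro c
    change Q.1 (σ (algebraMap k K' c)) ≤ 1
    rw [IsScalarTower.algebraMap_apply k K K', σ.commutes, ← IsScalarTower.algebraMap_apply]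
    exact Q.2.1 c, by
    intro γ
    obtain ⟨y, hy⟩ := Q.2.2 γ
    refine ⟨σ.symm y, ?_⟩
    change Q.1 (σ (σ.symm y)) = γ
    rw [AlgEquiv.apply_symm_apply, hy]⟩

lemma cm_apply (Q : Place k K') (σ : K' ≃ₐ[K] K') (y : K') : (cm Q σ).1 y = Q.1 (σ y) := rfl

lemma cm_cm (Q : Place k K') (σ ρ : K' ≃ₐ[K] K') : cm (cm Q σ) ρ = cm Q (σ * ρ) := by
  apply Subtype.ext
  apply Valuation.ext
  intro y
  rfl

lemma cm_one (Q : Place k K') : cm Q (1 : K' ≃ₐ[K] K') = Q := by
  apply Subtype.ext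
  apply Valuation.ext
  intro y
  rfl

lemma isOverWith_cm {Q : Place k K'} {P : Place k K} {e : ℕ} (h : IsOverWith Q P e)
    (σ : K' ≃ₐ[K] K') : IsOverWith (cm Q σ) P e := by
  intro x
  rw [cm_apply, σ.commutes, h x]

lemma val_eq_one_of_sub_one_lt {Γ₀ : Type*} [LinearOrderedCommGroupWithZero Γ₀]
    (v : Valuation K' Γ₀) {z : K'} (h : v (z - 1) < 1) : v z = 1 := by
  have := Valuation.map_add_eq_of_lt_right v (x := z - 1) (y := 1) (by rwa [map_one])
  rwa [sub_add_cancel, map_one] at this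

variable [FiniteDimensional K K'] [IsGalois K K']

/-- transitivity. -/
theorem exists_cm_eq (Q₁ Q₂ : Place k K')
    (h : ∀ y : K, Q₁.1 (algebraMap K K' y) = 1 → Q₂.1 (algebraMap K K' y) = 1) :
    ∃ σ : K' ≃ₐ[K] K', cm Q₁ σ = Q₂ := by
  classical
  by_contra hno
  push Not at hno
  let G := K' ≃ₐ[K] K'
  have hdisj : ∀ σ τ : G, cm Q₁ σ ≠ cm Q₂ τ := by
    intro σ τ heq
    apply hno (σ * τ⁻¹)
    rw [← cm_cm, heq, cm_cm, mul_inv_cancel, cm_one]
  let s : Finset (Place k K') :=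
    (Finset.univ : Finset G).image (fun σ => cm Q₁ σ) ∪
      (Finset.univ : Finset G).image (fun σ => cm Q₂ σ)
  let x : Place k K' → K' := fun P => if ∃ σ : G, P = cm Q₁ σ then 1 else 0
  obtain ⟨z, hz⟩ := weak_approx s x (fun _ => -1)
  have h1 : ∀ σ : G, Q₁.1 (σ z) = 1 := by
    intro σ
    have hmem : cm Q₁ σ ∈ s :=
      Finset.mem_union_left _ (Finset.mem_image_of_mem _ (Finset.mem_univ σ))
    have := hz _ hmem
    simp only [x] at this
    rw [if_pos ⟨σ, rfl⟩] at this
    rw [← cm_apply]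
    apply val_eq_one_of_sub_one_lt
    rw [this, ← exp_zero, exp_lt_exp]; norm_num
  have h2 : ∀ σ : G, Q₂.1 (σ z) < 1 := by
    intro σ
    have hmem : cm Q₂ σ ∈ s :=
      Finset.mem_union_right _ (Finset.mem_image_of_mem _ (Finset.mem_univ σ))
    have := hz _ hmem
    simp only [x] at this
    rw [if_neg, sub_zero] at this
    · rw [← cm_apply, this, ← exp_zero, exp_lt_exp]; norm_num
    · rintro ⟨τ, hτ⟩
      exact hdisj τ σ hτ.symm
  have hN := Algebra.norm_eq_prod_automorphisms K z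
  have h3 : Q₁.1 (algebraMap K K' (Algebra.norm K z)) = 1 := by
    rw [hN, map_prod]
    exact Finset.prod_eq_one (fun σ _ => h1 σ)
  have h4 : Q₂.1 (algebraMap K K' (Algebra.norm K z)) < 1 := by
    rw [hN, map_prod, ← Finset.mul_prod_erase Finset.univ _ (Finset.mem_univ (1 : G))]
    calc Q₂.1 ((1 : G) z) * ∏ σ ∈ Finset.univ.erase (1 : G), Q₂.1 (σ z)
        ≤ Q₂.1 ((1 : G) z) * 1 :=
          mul_le_mul' le_rfl (Finset.prod_le_one' (fun σ _ => (h2 σ).le))
      _ < 1 := by rw [mul_one]; exact h2 1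
  exact absurd (h _ h3) h4.ne

end Galois

end Groth.Agent.Lib.LeadFF

namespace Groth.Agent.Lib.LeadFF

open FunFld WithZero

section Galois2

variable {k K K' : Type*} [Field k] [Field K] [Field K'] [Algebra k K] [Algebra K K']
  [Algebra k K'] [IsScalarTower k K K']

/-- `σ` restricted to the valuation rings. -/
def cmRingEquiv (Q : Place k K') (σ : K' ≃ₐ[K] K') : (cm Q σ).O ≃+* Q.O where
  toFun y := ⟨σ y.1, y.2⟩
  invFun y := ⟨σ.symm y.1, by
    change Q.1 (σ (σ.symm y.1)) ≤ 1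
    rw [AlgEquiv.apply_symm_apply]; exact y.2⟩
  left_inv y := Subtype.ext (σ.symm_apply_apply _)
  right_inv y := Subtype.ext (σ.apply_symm_apply _)
  map_mul' a b := Subtype.ext (map_mul σ _ _)
  map_add' a b := Subtype.ext (map_add σ _ _)

lemma deg_cm (Q : Place k K') (σ : K' ≃ₐ[K] K') : (cm Q σ).deg = Q.deg := by
  unfold Place.deg
  apply Algebra.finrank_eq_of_equiv_equiv (RingEquiv.refl k)
    (IsLocalRing.ResidueField.mapEquiv (cmRingEquiv Q σ))
  ext c
  simp only [RingEquiv.toRingHom_eq_coe, RingHom.coe_comp, RingHom.coe_coe, Function.comp_apply,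
    RingEquiv.refl_apply, IsLocalRing.ResidueField.mapEquiv_apply]
  change IsLocalRing.residue _ (algebraMap k Q.O c) =
    IsLocalRing.ResidueField.map _ (IsLocalRing.residue _ (algebraMap k (cm Q σ).O c))
  rw [IsLocalRing.ResidueField.map_residue]
  congr 1
  apply Subtype.ext
  change algebraMap k K' c = σ (algebraMap k K' c)
  rw [IsScalarTower.algebraMap_apply k K K', σ.commutes]

open scoped Pointwise in
lemma smul_O (Q : Place k K') (σ : K' ≃ₐ[K] K') : σ • Q.O = (cm Q σ⁻¹).O := by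
  ext x
  rw [ValuationSubring.mem_pointwise_smul_iff_inv_smul_mem]
  rfl

lemma place_eq_of_O_eq {Q Q' : Place k K'} (h : Q.O = Q'.O) : Q = Q' := by
  apply place_eq_of_le
  intro y hy
  have : y ∈ Q.O := hy
  rw [h] at this
  exact this

variable [FiniteDimensional K K'] [IsGalois K K']

lemma exists_cm_of_isOver {Q Q' : Place k K'} {P : Place k K} (h : IsOver Q P)
    (h' : IsOver Q' P) : ∃ σ : K' ≃ₐ[K] K', cm Q σ = Q' := by
  obtain ⟨e, he⟩ := h
  obtain ⟨e', he'⟩ := h'
  apply exists_cm_eq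
  intro y hy
  rw [he y] at hy
  have hy1 : P.1 y = 1 := by
    rcases lt_trichotomy (P.1 y) 1 with h1 | h1 | h1
    · exact absurd hy (pow_lt_one' h1 (isOverWith_pos he).ne').ne
    · exact h1
    · exact absurd hy (one_lt_pow' h1 (isOverWith_pos he).ne').ne'
  rw [he' y, hy1, one_pow]

open scoped Pointwise in
theorem card_over_mul_card_decomp {Q : Place k K'} {P : Place k K} (h : IsOver Q P) :
    Nat.card {Q' : Place k K' // IsOver Q' P} * Nat.card (Q.O.decompositionSubgroup K) =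
      Module.finrank K K' := by
  classical
  let G := K' ≃ₐ[K] K'
  haveI : Finite (MulAction.orbit G Q.O) := Set.finite_range _
  haveI : Fintype (MulAction.orbit G Q.O) := Fintype.ofFinite _
  haveI : Fintype (MulAction.stabilizer G Q.O) := Fintype.ofFinite _
  have h1 := MulAction.card_orbit_mul_card_stabilizer_eq_card_group G Q.O
  rw [← Nat.card_eq_fintype_card, ← Nat.card_eq_fintype_card, ← Nat.card_eq_fintype_card] at h1
  rw [← IsGalois.card_aut_eq_finrank, ← h1]
  congr 1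
  obtain ⟨e, he⟩ := h
  refine Nat.card_congr (Equiv.ofBijective
    (fun Q' : {Q' : Place k K' // IsOver Q' P} =>
      (⟨Q'.1.O, by
        obtain ⟨σ, hσ⟩ := exists_cm_of_isOver ⟨e, he⟩ Q'.2
        refine ⟨σ⁻¹, ?_⟩
        change σ⁻¹ • Q.O = _
        rw [smul_O, inv_inv, hσ]⟩ : MulAction.orbit G Q.O)) ⟨?_, ?_⟩)
  · intro Q₁ Q₂ h12
    apply Subtype.ext
    apply place_eq_of_O_eq
    exact congrArg Subtype.val h12
  · rintro ⟨A, σ, hσ⟩
    refine ⟨⟨cm Q σ⁻¹, e, isOverWith_cm he _⟩, ?_⟩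
    apply Subtype.ext
    change (cm Q σ⁻¹).O = A
    rw [← smul_O]
    exact hσ

theorem isOverWith_and_deg_of_isOver {Q Q' : Place k K'} {P : Place k K} {e : ℕ}
    (he : IsOverWith Q P e) (h' : IsOver Q' P) : IsOverWith Q' P e ∧ Q'.deg = Q.deg := by
  obtain ⟨σ, rfl⟩ := exists_cm_of_isOver ⟨e, he⟩ h'
  exact ⟨isOverWith_cm he σ, deg_cm Q σ⟩

theorem card_decomp_mul_deg (hK : IsFunctionField k K) {Q : Place k K'} {P : Place k K} {e : ℕ}
    (he : IsOverWith Q P e) :
    Nat.card (Q.O.decompositionSubgroup K) * P.deg = e * Q.deg := by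
  classical
  have hfin := finite_over (K' := K') hK P
  have h1 := sum_ramIdx_deg (K' := K') hK P hfin.toFinset (by intro Q'; simp)
  have h2 : ∀ Q' ∈ hfin.toFinset, ramIdx Q' P * Q'.deg = e * Q.deg := by
    intro Q' hQ'
    have hQ'' : IsOver Q' P := by simpa using hQ'
    obtain ⟨h3, h4⟩ := isOverWith_and_deg_of_isOver he hQ''
    rw [ramIdx_eq h3, h4]
  rw [Finset.sum_congr rfl h2, Finset.sum_const, smul_eq_mul] at h1
  have h5 := card_over_mul_card_decomp (K := K) ⟨e, he⟩
  have h6 : Nat.card {Q' : Place k K' // IsOver Q' P} = hfin.toFinset.card := by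
    rw [← Set.ncard_eq_toFinset_card _ hfin]
    rfl
  rw [h6] at h5
  have hpos : 0 < hfin.toFinset.card := by
    apply Finset.card_pos.mpr
    exact ⟨Q, by simpa using ⟨e, he⟩⟩
  rw [← h5] at h1
  have : hfin.toFinset.card * (e * Q.deg) =
      hfin.toFinset.card * (Nat.card (Q.O.decompositionSubgroup K) * P.deg) := by
    rw [h1]; ring
  exact (Nat.eq_of_mul_eq_mul_left hpos this).symm

end Galois2

end Groth.Agent.Lib.LeadFF
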