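import Groth.Agent.Lib.LeadFF27

/-! Base-point-free complete linear systems; the canonical embedding. -/

namespace Groth.Agent.Lib.LeadFF

open FunFld WithZero

section Bpf

variable {k K : Type*} [Field k] [Field K] [Algebra k K]

lemma L_sub_single_le (D : Divisor k K) (Q : Place k K) :
    L (D - Finsupp.single Q 1) ≤ L D := fun _ hf => (mem_L_sub_single.mp hf).1

/-- a section avoiding finitely many non-base points. -/
lemma exists_avoid' [Infinite k] (hK : IsFunctionField k K) (D : Divisor k K)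
    (S : Finset (Place k K)) (hS : ∀ Q ∈ S, L (D - Finsupp.single Q 1) ≠ L D) :
    ∃ f ∈ L D, ∀ Q ∈ S, Q.1 f = exp (D Q) := by
  classical
  haveI := L_finite hK D
  let V : S → Submodule k (L D) := fun Q =>
    Submodule.comap (L D).subtype (L (D - Finsupp.single Q.1 1))
  have hVne : ∀ Q, V Q ≠ ⊤ := by
    intro Q htop
    have hle : L (D - Finsupp.single Q.1 1) ≤ L D := L_sub_single_le D Q.1
    have h1 : L D ≤ L (D - Finsupp.single Q.1 1) := by
      intro f hf
      have : (⟨f, hf⟩ : L D) ∈ V Q := by rw [htop]; trivial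
      exact this
    exact hS Q.1 Q.2 (le_antisymm hle h1)
  have hcov : ⋃ Q, (V Q : Set (L D)) ≠ Set.univ := by
    intro h
    obtain ⟨Q, hQ⟩ := Subspace.exists_eq_top_of_iUnion_eq_univ h
    exact hVne Q hQ
  obtain ⟨f, hf⟩ := (Set.ne_univ_iff_exists_notMem _).mp hcov
  refine ⟨f.1, f.2, fun Q hQ => ?_⟩
  have h1 : f ∉ V ⟨Q, hQ⟩ := fun h => hf (Set.mem_iUnion.mpr ⟨⟨Q, hQ⟩, h⟩)
  have h2 : ¬ (f.1 ∈ L (D - Finsupp.single Q 1)) := h1
  rw [mem_L_sub_single] at h2
  push Not at h2
  have h3 := h2 f.2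
  have h4 : ¬ (Q.1 f.1 < exp (D Q)) := by
    rw [zm0_lt_exp_iff]; exact not_le.mpr h3
  exact le_antisymm (f.2 Q) (not_lt.mp h4)

/-- functions of prescribed degree inside `L(D)/L(D)`, base-point-free version. -/
lemma exists_ratio_of_degree' [Infinite k] (hK : IsFunctionField k K) (D : Divisor k K)
    (hbpf : ∀ Q : Place k K, L (D - Finsupp.single Q 1) ≠ L D) (hD1 : 1 ≤ D.deg) :
    ∃ f ∈ L D, ∃ h ∈ L D, h ≠ 0 ∧
      (Module.finrank (IntermediateField.adjoin k ({f / h} : Set K)) K : ℤ) = D.deg := by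
  classical
  haveI := L_finite hK D
  obtain ⟨P₀⟩ := nonempty_place hK
  have hpos : 0 < Module.finrank k (L D) := by
    by_contra h0
    have h1 : L D = ⊥ := Submodule.finrank_eq_zero.mp (by omega)
    apply hbpf P₀
    apply le_antisymm (L_sub_single_le D P₀)
    rw [h1]; exact bot_le
  obtain ⟨⟨h, hhL⟩, hh0'⟩ := Module.finrank_pos_iff_exists_ne_zero.mp hpos
  have hh0 : h ≠ 0 := fun e => hh0' (Subtype.ext e)
  set E := FunFld.div k h + D with hE
  have hE0 : 0 ≤ E := by
    have := neg_le_div_of_mem_L hK hhL hh0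
    rw [hE]
    intro R
    have := this R
    simp only [Finsupp.coe_neg, Pi.neg_apply, Finsupp.coe_add, Pi.add_apply, Finsupp.coe_zero,
      Pi.zero_apply] at this ⊢
    omega
  have hEdeg : E.deg = D.deg := by rw [hE, deg_add, deg_div hK, zero_add]
  obtain ⟨f, hfL, hf⟩ := exists_avoid' hK D E.support (fun Q _ => hbpf Q)
  have hSne : E.support.Nonempty := by
    rw [Finsupp.support_nonempty_iff]
    rintro h0
    rw [h0, deg_zero] at hEdeg
    omega
  have hf0 : f ≠ 0 := by
    obtain ⟨Q, hQ⟩ := hSne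
    intro h0
    have := hf Q hQ
    rw [h0, map_zero] at this
    exact exp_ne_zero this.symm
  refine ⟨f, hfL, h, hhL, hh0, ?_⟩
  set x := f / h with hx
  have hx0 : x ≠ 0 := div_ne_zero hf0 hh0
  have hpole : zdiv k x⁻¹ = E := by
    ext R
    rw [pdiv_apply hK]
    have hord : R.ord x = R.ord f - R.ord h := by
      unfold Place.ord
      rw [hx, map_div₀, log_div ((Valuation.ne_zero_iff _).mpr hf0)
        ((Valuation.ne_zero_iff _).mpr hh0)]
      ring
    have hER : E R = R.ord h + D R := by rw [hE, Finsupp.add_apply, div_apply hK]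
    have hfR : 0 ≤ R.ord f + D R := by
      have := hfL R
      rw [val_eq_exp_neg_ord R hf0, exp_le_exp] at this
      omega
    by_cases hRS : R ∈ E.support
    · have := hf R hRS
      rw [val_eq_exp_neg_ord R hf0] at this
      have h2 : -R.ord f = D R := exp_injective this
      rw [hord, hER]
      have : 0 ≤ R.ord h + D R := by rw [← hER]; exact hE0 R
      rw [max_eq_left (by omega)]; omega
    · rw [Finsupp.notMem_support_iff] at hRS
      rw [hRS, hord]
      rw [hER] at hRS
      exact max_eq_right (by omega)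
  have hxk : x ∉ Set.range (algebraMap k K) := by
    intro hmem
    have h0 : zdiv k x⁻¹ = 0 := by
      have hxi : x⁻¹ ∈ Set.range (algebraMap k K) := by
        obtain ⟨c, hc⟩ := hmem
        exact ⟨c⁻¹, by rw [map_inv₀, hc]⟩
      rw [zdiv, div_eq_zero_of_mem hK hxi]; simp
    rw [hpole] at h0
    rw [h0, deg_zero] at hEdeg
    omega
  rw [← finrank_adjoin_eq_deg_pdiv hK hxk, hpole, hEdeg]

theorem birational_of_bpf [Infinite k] (hK : IsFunctionField k K) {ι : Type*} [Fintype ι]
    (φ : ι → K) (i₀ : ι) (h0 : φ i₀ ≠ 0) (D₁ D₂ : Divisor k K)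
    (h1 : L D₁ ≤ Submodule.span k (Set.range φ)) (h2 : L D₂ ≤ Submodule.span k (Set.range φ))
    (hb1 : ∀ Q : Place k K, L (D₁ - Finsupp.single Q 1) ≠ L D₁)
    (hb2 : ∀ Q : Place k K, L (D₂ - Finsupp.single Q 1) ≠ L D₂)
    (hd2 : 1 ≤ D₂.deg) (hcop : D₁.deg = D₂.deg + 1) :
    IntermediateField.adjoin k (Set.range fun i => φ i / φ i₀) = ⊤ := by
  set K₀ := IntermediateField.adjoin k (Set.range fun i => φ i / φ i₀) with hK₀
  have key : ∀ D : Divisor k K, L D ≤ Submodule.span k (Set.range φ) →
      (∀ Q : Place k K, L (D - Finsupp.single Q 1) ≠ L D) → 1 ≤ D.deg →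
      (Module.finrank K₀ K : ℤ) ∣ D.deg := by
    intro D hD hb hd
    obtain ⟨f, hf, h, hh, hh0, hfin⟩ := exists_ratio_of_degree' hK D hb hd
    have hxK₀ : f / h ∈ K₀ := ratio_mem_adjoin φ i₀ h0 (hD hf) (hD hh)
    have hle : IntermediateField.adjoin k ({f / h} : Set K) ≤ K₀ := by
      rw [IntermediateField.adjoin_le_iff]
      intro y hy
      rw [Set.mem_singleton_iff] at hy
      subst hy
      exact hxK₀
    have := IntermediateField.finrank_dvd_of_le_left hle
    rw [← hfin]
    exact_mod_cast this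
  have k1 := key D₁ h1 hb1 (by omega)
  have k2 := key D₂ h2 hb2 hd2
  rw [hcop] at k1
  have k3 : (Module.finrank K₀ K : ℤ) ∣ 1 := (Int.dvd_add_right k2).mp k1
  have hd1 : Module.finrank K₀ K = 1 := by
    have := Int.natCast_dvd_natCast.mp (by simpa using k3 : ((Module.finrank K₀ K : ℕ) : ℤ) ∣ ((1 : ℕ) : ℤ))
    exact Nat.dvd_one.mp this
  exact IntermediateField.finrank_eq_one_iff_eq_top.mp hd1

/-- the canonical embedding of a non-hyperelliptic function field. -/
theorem canonical_embedding [IsAlgClosed k] (hK : IsFunctionField k K)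
    (h2 : ∀ x : K, Transcendental k x →
      2 < Module.finrank (IntermediateField.adjoin k ({x} : Set K)) K)
    (D : Divisor k K) (hD : IsCanonical k K D) {ι : Type*} [Fintype ι] [Nonempty ι] (φ : ι → K)
    (hφ : LinearIndependent k φ) (hspan : Submodule.span k (Set.range φ) = L D)
    (P : Place k K) : IsNonsingularAt φ P := by
  haveI : Infinite k := IsAlgClosed.instInfinite
  have hne : ∀ i, φ i ≠ 0 := hφ.ne_zero
  have hdeg1 : ∀ Q : Place k K, Q.deg = 1 := deg_eq_one_of_algClosed hK
  set i₀ := Classical.arbitrary ι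
  -- ℓ(P+Q) = 1
  have hone : ∀ E : Divisor k K, 0 ≤ E → E.deg ≤ 2 → ell E = 1 := by
    intro E hE0 hEd
    haveI := L_finite hK E
    have hge : 1 ≤ ell E := by
      have := Submodule.finrank_mono (L_mono hE0)
      have h0 : ell (0 : Divisor k K) = 1 := ell_zero hK
      unfold ell at h0 ⊢; omega
    by_contra hne1
    have hnle : ¬ (L E ≤ L (0 : Divisor k K)) := by
      intro hle
      haveI := L_finite hK (0 : Divisor k K)
      have h3 := Submodule.finrank_mono hle
      have h0 : ell (0 : Divisor k K) = 1 := ell_zero hK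
      unfold ell at hge hne1 h0; omega
    obtain ⟨x, hxE, hx0⟩ := SetLike.not_le_iff_exists.mp hnle
    have hxk : x ∉ Set.range (algebraMap k K) := by
      intro hmem
      apply hx0
      rw [L_zero hK, Submodule.mem_one]
      exact hmem
    have h3 := h2 x (transcendental_of_not_mem hK hxk)
    have h4 := finrank_adjoin_eq_deg_pdiv hK hxk
    have h5 := deg_mono (pdiv_le_of_mem hK hE0 hxE)
    have : (2 : ℤ) < Module.finrank (IntermediateField.adjoin k ({x} : Set K)) K := by
      exact_mod_cast h3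
    omega
  have hs0 : ∀ Q : Place k K, (0 : Divisor k K) ≤ Finsupp.single Q 1 := by
    intro Q R
    by_cases hR : R = Q
    · subst hR; simp
    · simp [single_apply_ne hR]
  have hg := canonical_ell_deg hK hD
  have hP1 : ∀ Q : Place k K, ell (Finsupp.single Q 1 : Divisor k K) = 1 := fun Q =>
    hone _ (hs0 Q) (by rw [deg_single, hdeg1 Q]; norm_num)
  have hPQ : ∀ Q R : Place k K, ell (Finsupp.single Q 1 + Finsupp.single R 1 : Divisor k K) = 1 :=
    fun Q R => hone _ (add_nonneg (hs0 Q) (hs0 R)) (by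
      rw [deg_add, deg_single, deg_single, hdeg1 Q, hdeg1 R]; norm_num)
  have hell1 : ∀ Q : Place k K, (ell (D - Finsupp.single Q 1) : ℤ) = genus k K - 1 := by
    intro Q
    have := riemann_roch hK D hD (D - Finsupp.single Q 1)
    rw [show D - (D - Finsupp.single Q 1) = Finsupp.single Q 1 by abel, hP1 Q, deg_sub,
      deg_single, hdeg1 Q, hg.2] at this
    push_cast at this
    omega
  have hell2 : ∀ Q R : Place k K,
      (ell (D - Finsupp.single Q 1 - Finsupp.single R 1) : ℤ) = genus k K - 2 := by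
    intro Q R
    have := riemann_roch hK D hD (D - Finsupp.single Q 1 - Finsupp.single R 1)
    rw [show D - (D - Finsupp.single Q 1 - Finsupp.single R 1) =
      Finsupp.single Q 1 + Finsupp.single R 1 by abel, hPQ Q R, deg_sub, deg_sub,
      deg_single, deg_single, hdeg1 Q, hdeg1 R, hg.2] at this
    push_cast at this
    omega
  have hg2 : (2 : ℤ) ≤ genus k K := by
    have := hell2 P P
    have h0 : (0 : ℤ) ≤ ell (D - Finsupp.single P 1 - Finsupp.single P 1) := by positivity
    omega
  have hb1 : ∀ Q : Place k K, L (D - Finsupp.single Q 1) ≠ L D := by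
    intro Q heq
    have h1 := hell1 Q
    have h3 := hg.1
    unfold ell at h1 h3
    rw [heq] at h1
    omega
  have hb2 : ∀ Q : Place k K,
      L (D - Finsupp.single P 1 - Finsupp.single Q 1) ≠ L (D - Finsupp.single P 1) := by
    intro Q heq
    have h1 := hell2 P Q
    have h3 := hell1 P
    unfold ell at h1 h3
    rw [heq] at h1
    omega
  have hbir : IntermediateField.adjoin k (Set.range fun i => φ i / φ i₀) = ⊤ := by
    apply birational_of_bpf hK φ i₀ (hne i₀) D (D - Finsupp.single P 1) hspan.ge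
      (by rw [hspan]; exact L_sub_single_le D P) hb1 hb2
    · rw [deg_sub, deg_single, hdeg1 P, hg.2]; push_cast; omega
    · rw [deg_sub, deg_single, hdeg1 P]; push_cast; ring
  have hbpf : ∀ R : Place k K, ∃ f ∈ L D, R.1 f = exp (D R) := by
    intro R
    obtain ⟨f, hf, hfv⟩ := exists_avoid' hK D {R} (fun Q _ => hb1 Q)
    exact ⟨f, hf, hfv R (Finset.mem_singleton_self R)⟩
  have hmap := mapDiv_eq_of_span hK D φ hne hspan hbpf
  rw [nonsingular_iff_exists_sections hK φ hne i₀ hbir P]
  intro Q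
  rw [hmap, hspan]
  have hlt : L (D - Finsupp.single P 1 - Finsupp.single Q 1) < L (D - Finsupp.single P 1) :=
    lt_of_le_of_ne (L_sub_single_le _ Q) (hb2 Q)
  obtain ⟨f, hf1, hf2⟩ := SetLike.exists_of_lt hlt
  exact ⟨f, L_sub_single_le D P hf1, hf1, hf2⟩

end Bpf

end Groth.Agent.Lib.LeadFF
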