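import Groth.Agent.Lib.LeadFF28

/-! Finiteness of the singular places of a birational projective map (conductor argument). -/

namespace Groth.Agent.Lib.LeadFF

open FunFld WithZero Polynomial

section Sing

variable {k K : Type*} [Field k] [Field K] [Algebra k K]

/-- functions regular at all places where `x` is regular. -/
def finRing (k : Type*) {K : Type*} [Field k] [Field K] [Algebra k K] (x : K) : Subalgebra k K where
  carrier := {z | ∀ Q : Place k K, Q.1 x ≤ 1 → Q.1 z ≤ 1}
  mul_mem' ha hb Q hQ := by rw [map_mul]; exact mul_le_one' (ha Q hQ) (hb Q hQ)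
  add_mem' ha hb Q hQ := (Q.1.map_add _ _).trans (max_le (ha Q hQ) (hb Q hQ))
  one_mem' Q _ := by rw [map_one]
  zero_mem' Q _ := by rw [map_zero]; exact zero_le_one
  algebraMap_mem' c Q _ := Q.2.1 c

lemma mem_finRing {x z : K} : z ∈ finRing k x ↔ ∀ Q : Place k K, Q.1 x ≤ 1 → Q.1 z ≤ 1 := Iff.rfl

lemma self_mem_finRing (x : K) : x ∈ finRing k x := fun _ hQ => hQ

lemma pdiv_eq_zero_of_le (hK : IsFunctionField k K) {x : K} {Q : Place k K} (hQ : Q.1 x ≤ 1) :
    zdiv k x⁻¹ Q = 0 := by
  rw [pdiv_apply hK]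
  by_cases hx : x = 0
  · subst hx; simp [Place.ord]
  · apply max_eq_right
    have := (ord_neg_iff Q hx).not.mpr (not_lt.mpr hQ)
    omega

lemma mem_finRing_of_mem_L (hK : IsFunctionField k K) {x z : K} {m : ℕ}
    (h : z ∈ L (m • zdiv k x⁻¹)) : z ∈ finRing k x := by
  intro Q hQ
  have := h Q
  rwa [Finsupp.smul_apply, pdiv_eq_zero_of_le hK hQ, smul_zero, exp_zero] at this

lemma exists_mem_L_of_mem_finRing (hK : IsFunctionField k K) {x z : K} (h : z ∈ finRing k x) :
    ∃ m : ℕ, z ∈ L (m • zdiv k x⁻¹) := by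
  classical
  obtain ⟨M, hM⟩ := zm0_finset_bound (poles_finite' hK x).toFinset (fun Q => Q.1 z)
  refine ⟨M, fun Q => ?_⟩
  have hD : (0 : Divisor k K) ≤ zdiv k x⁻¹ := zdiv_nonneg _
  by_cases hQ : Q.1 x ≤ 1
  · refine (h Q hQ).trans ?_
    rw [← exp_zero, exp_le_exp]
    exact nsmul_nonneg hD M Q
  · rw [not_le] at hQ
    have h1 := hM Q (by rw [Set.Finite.mem_toFinset]; exact hQ)
    refine h1.trans ?_
    rw [exp_le_exp, Finsupp.smul_apply, pdiv_apply hK]
    have hx0 : x ≠ 0 := by rintro rfl; simp at hQ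
    have hneg := (ord_neg_iff Q hx0).mpr hQ
    have : (1 : ℤ) ≤ max (-(Q.ord x)) 0 := le_max_of_le_left (by omega)
    simp only [nsmul_eq_mul]
    nlinarith

lemma exists_finRing_multiplier [IsAlgClosed k] (hK : IsFunctionField k K) {x : K}
    (hx : x ∉ Set.range (algebraMap k K)) {P Q : Place k K} (hQP : Q ≠ P)
    (hP : P.1 x ≤ 1) (hQ : Q.1 x ≤ 1) : ∃ w ∈ finRing k x, Q.1 w < 1 ∧ P.1 w = 1 := by
  have hdeg1 : ∀ R : Place k K, R.deg = 1 := deg_eq_one_of_algClosed hK
  set Z := zdiv k x⁻¹ with hZ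
  have hZdeg : (1 : ℤ) ≤ Z.deg := by
    rw [finrank_adjoin_eq_deg_pdiv hK hx]
    haveI := finite_over_adjoin hK (transcendental_of_not_mem hK hx)
    exact_mod_cast (Module.finrank_pos :
      0 < Module.finrank (IntermediateField.adjoin k ({x} : Set K)) K)
  set m : ℕ := 2 * genus k K + 1 with hm
  set D : Divisor k K := m • Z - Finsupp.single Q 1 with hD
  have hDdeg : 2 * (genus k K : ℤ) ≤ D.deg := by
    rw [hD, deg_sub, deg_nsmul, deg_single, hdeg1 Q, hm]
    push_cast
    nlinarith
  have h1 := ell_sub_single_eq hK D hDdeg P (hdeg1 P)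
  have hlt : L (D - Finsupp.single P 1) < L D := by
    refine lt_of_le_of_ne (L_sub_single_le D P) fun heq => ?_
    unfold ell at h1
    rw [heq] at h1
    omega
  obtain ⟨f, hf1, hf2⟩ := SetLike.exists_of_lt hlt
  have hDle : D ≤ m • Z := by
    rw [hD]
    apply sub_le_self
    intro R
    by_cases hR : R = Q
    · subst hR; simp
    · simp [single_apply_ne hR]
  have hDP : D P = 0 := by
    rw [hD, Finsupp.sub_apply, Finsupp.smul_apply, pdiv_eq_zero_of_le hK hP,
      single_apply_ne hQP.symm]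
    simp
  have hDQ : D Q = -1 := by
    rw [hD, Finsupp.sub_apply, Finsupp.smul_apply, pdiv_eq_zero_of_le hK hQ, single_apply_self]
    simp
  refine ⟨f, mem_finRing_of_mem_L hK (L_mono hDle hf1), ?_, ?_⟩
  · have := hf1 Q
    rw [hDQ] at this
    exact zm0_lt_one_iff.mpr this
  · have h3 := hf1 P
    rw [hDP, exp_zero] at h3
    apply le_antisymm h3
    by_contra hlt1
    rw [not_le] at hlt1
    apply hf2
    rw [mem_L_sub_single]
    refine ⟨hf1, ?_⟩
    rw [hDP]
    exact zm0_lt_one_iff.mp hlt1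

lemma exists_clear_fin [IsAlgClosed k] (hK : IsFunctionField k K) {x : K}
    (hx : x ∉ Set.range (algebraMap k K)) (P : Place k K) (hP : P.1 x ≤ 1) :
    ∀ (s : Finset (Place k K)) (z : K), P.1 z ≤ 1 →
      (∀ Q : Place k K, Q.1 x ≤ 1 → 1 < Q.1 z → Q ∈ s) →
      ∃ w ∈ finRing k x, P.1 w = 1 ∧ z * w ∈ finRing k x := by
  classical
  intro s
  induction s using Finset.induction_on with
  | empty =>
    intro z _ hbad
    refine ⟨1, one_mem _, by simp, fun Q hQ => ?_⟩
    rw [mul_one]
    by_contra h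
    rw [not_le] at h
    simpa using hbad Q hQ h
  | insert Q0 s hQ0 ih =>
    intro z hz hbad
    by_cases hb : Q0.1 x ≤ 1 ∧ 1 < Q0.1 z
    · obtain ⟨hb1, hb2⟩ := hb
      have hQ0P : Q0 ≠ P := by
        rintro rfl; exact absurd hb2 (not_lt.mpr hz)
      obtain ⟨w0, hw0R, hw0Q, hw0P⟩ := exists_finRing_multiplier hK hx hQ0P hP hb1
      obtain ⟨M, hM⟩ := zm0_exists_le_exp (Q0.1 z)
      set z' := z * w0 ^ M with hz'
      have hPz' : P.1 z' ≤ 1 := by
        rw [hz', map_mul, map_pow, hw0P, one_pow, mul_one]; exact hz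
      have hQ0z' : Q0.1 z' ≤ 1 := by
        rw [hz', map_mul, map_pow]
        have h1 : Q0.1 w0 ^ M ≤ exp (-1 : ℤ) ^ M := pow_le_pow_left' (zm0_lt_one_iff.mp hw0Q) M
        rw [zm0_exp_pow] at h1
        calc Q0.1 z * Q0.1 w0 ^ M ≤ exp (M : ℤ) * exp ((M : ℤ) * (-1)) := mul_le_mul' hM h1
          _ = 1 := by rw [← exp_add]; simp
      have hbad' : ∀ Q : Place k K, Q.1 x ≤ 1 → 1 < Q.1 z' → Q ∈ s := by
        intro Q hQ hQz'
        have hw0Q' : Q.1 w0 ≤ 1 := hw0R Q hQ
        have hQz : 1 < Q.1 z := by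
          refine lt_of_lt_of_le hQz' ?_
          rw [hz', map_mul, map_pow]
          calc Q.1 z * Q.1 w0 ^ M ≤ Q.1 z * 1 := mul_le_mul' le_rfl (pow_le_one' hw0Q' M)
            _ = Q.1 z := mul_one _
        have := hbad Q hQ hQz
        rw [Finset.mem_insert] at this
        rcases this with rfl | h
        · exact absurd hQz' (not_lt.mpr hQ0z')
        · exact h
      obtain ⟨w', hw'R, hw'P, hw'⟩ := ih z' hPz' hbad'
      refine ⟨w0 ^ M * w', mul_mem (pow_mem hw0R M) hw'R, ?_, ?_⟩
      · rw [map_mul, map_pow, hw0P, one_pow, one_mul, hw'P]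
      · rwa [hz', mul_assoc] at hw'
    · apply ih z hz
      intro Q hQ hQz
      have := hbad Q hQ hQz
      rw [Finset.mem_insert] at this
      rcases this with rfl | h
      · exact absurd ⟨hQ, hQz⟩ hb
      · exact h

/-- the conductor. -/
theorem exists_conductor_global (R : Subalgebra k K) {x : K} (hxR : x ∈ R)
    (hxtr : Transcendental k x) (hRU : R ≤ finRing k x) (B : ℕ)
    (hB : ∀ z : Fin (B + 1) → K, (∀ i, z i ∈ finRing k x) →
      ∃ g : Fin (B + 1) → k, g ≠ 0 ∧ ∑ i, g i • z i ∈ R) :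
    ∃ c ∈ R, c ≠ 0 ∧ ∀ z ∈ finRing k x, c * z ∈ R := by
  classical
  set U : Submodule k K := (finRing k x).toSubmodule with hU
  set W : Submodule k U := Submodule.comap U.subtype R.toSubmodule with hW
  -- bounded dimension of the quotient
  have hnoli : ∀ v : Fin (B + 1) → U ⧸ W, ¬ LinearIndependent k v := by
    intro v hli
    choose z hz using fun i => Submodule.mkQ_surjective W (v i)
    obtain ⟨g, hg0, hg⟩ := hB (fun i => (z i : K)) (fun i => (z i).2)
    have h0 : ∑ i, g i • v i = 0 := by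
      simp only [← hz, ← map_smul, ← map_sum]
      rw [Submodule.mkQ_apply, Submodule.Quotient.mk_eq_zero]
      change U.subtype _ ∈ R.toSubmodule
      simpa using hg
    exact hg0 (funext fun i => Fintype.linearIndependent_iff.mp hli g h0 i)
  have hrank : Module.rank k (U ⧸ W) ≤ B := by
    apply rank_le
    intro s hs
    by_contra hcard
    rw [not_le] at hcard
    have : Fintype.card (Fin (B + 1)) ≤ Fintype.card s := by simpa using hcard
    obtain ⟨e⟩ := Function.Embedding.nonempty_of_card_le this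
    exact hnoli _ (hs.comp e e.injective)
  haveI : Module.Finite k (U ⧸ W) :=
    Module.rank_lt_aleph0_iff.mp (lt_of_le_of_lt hrank (Cardinal.nat_lt_aleph0 B))
  let b := Module.finBasis k (U ⧸ W)
  choose z hz using fun i => Submodule.mkQ_surjective W (b i)
  -- annihilating polynomials
  have hann : ∀ y ∈ finRing k x, ∃ p : k[X], p ≠ 0 ∧ aeval x p * y ∈ R := by
    intro y hy
    obtain ⟨g, hg0, hg⟩ := hB (fun i => x ^ (i : ℕ) * y)
      (fun i => mul_mem (pow_mem (self_mem_finRing x) _) hy)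
    refine ⟨∑ i : Fin (B + 1), Polynomial.monomial (i : ℕ) (g i), ?_, ?_⟩
    · intro h0
      apply hg0
      funext i
      have := congrArg (fun p => Polynomial.coeff p (i : ℕ)) h0
      simp only [Polynomial.finsetSum_coeff, Polynomial.coeff_monomial, Polynomial.coeff_zero] at this
      rw [Finset.sum_eq_single i] at this
      · simpa using this
      · intro l _ hl
        rw [if_neg]
        exact fun h => hl (Fin.ext h)
      · simp
    · rw [map_sum, Finset.sum_mul]
      convert hg using 1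
      apply Finset.sum_congr rfl
      intro i _
      rw [Polynomial.aeval_monomial, Algebra.smul_def, mul_assoc]
  choose p hp0 hp using fun i => hann (z i : K) (z i).2
  have hpR : ∀ i, aeval x (p i) ∈ R := fun i => by
    rw [Polynomial.aeval_def, Polynomial.eval₂_eq_sum_range]
    exact sum_mem fun l _ => mul_mem (R.algebraMap_mem _) (pow_mem hxR _)
  refine ⟨∏ i, aeval x (p i), prod_mem fun i _ => hpR i, ?_, ?_⟩
  · rw [Finset.prod_ne_zero_iff]
    intro i _ h0
    exact hp0 i ((transcendental_iff.mp hxtr) _ h0)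
  · intro y hy
    set yU : U := ⟨y, hy⟩
    have hrep := b.sum_repr (W.mkQ yU)
    set cf : Fin (Module.finrank k (U ⧸ W)) → k := fun i => b.repr (W.mkQ yU) i with hcf
    have hdiff : yU - ∑ i, cf i • z i ∈ W := by
      rw [← Submodule.Quotient.mk_eq_zero, ← Submodule.mkQ_apply, map_sub, map_sum]
      simp only [map_smul, hz]
      rw [hrep, sub_self]
    have hdiffR : y - ∑ i, cf i • (z i : K) ∈ R := by
      have h3 : U.subtype (yU - ∑ i, cf i • z i) ∈ R.toSubmodule := hdiff
      simpa [yU] using h3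
    have hsplit : y = (y - ∑ i, cf i • (z i : K)) + ∑ i, cf i • (z i : K) := by ring
    rw [hsplit, mul_add]
    apply add_mem (mul_mem (prod_mem fun i _ => hpR i) hdiffR)
    rw [Finset.mul_sum]
    apply sum_mem
    intro i _
    rw [mul_smul_comm]
    apply R.smul_mem
    rw [← Finset.mul_prod_erase Finset.univ _ (Finset.mem_univ i), mul_comm (aeval x (p i)),
      mul_assoc]
    exact mul_mem (prod_mem fun l _ => hpR l) (hp i)

/-- S11058 core. -/
theorem finite_singular [IsAlgClosed k] (hK : IsFunctionField k K) {ι : Type*} [Fintype ι]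
    (φ : ι → K) (j : ι) (hj : φ j ≠ 0)
    (hbir : IntermediateField.adjoin k (Set.range fun i => φ i / φ j) = ⊤) :
    {P : Place k K | ¬ IsNonsingularAt φ P}.Finite := by
  classical
  haveI : Infinite k := IsAlgClosed.instInfinite
  obtain ⟨a, hgen⟩ := exists_generic hK (fun i => φ i / φ j)
  set x := ∑ l, a l • (φ l / φ j) with hx
  have hxR : x ∈ chart k φ j := sum_smul_ratio_mem_chart φ j a
  have hxk : x ∉ Set.range (algebraMap k K) := by
    rintro ⟨c, hc⟩
    have hnopole : ∀ (Q : Place k K) (i : ι), Q.1 (φ i / φ j) ≤ 1 := by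
      intro Q i
      by_contra h
      rw [not_le] at h
      have := lt_of_lt_of_le h (hgen Q i h)
      rw [← hc] at this
      exact absurd this (not_lt.mpr (Q.2.1 c))
    have hconst : ∀ i, φ i / φ j ∈ (⊥ : IntermediateField k K) := by
      intro i
      have : φ i / φ j ∈ L (0 : Divisor k K) := fun Q => by simpa using hnopole Q i
      rw [L_zero hK, Submodule.mem_one] at this
      obtain ⟨c, hc⟩ := this
      rw [IntermediateField.mem_bot]; exact ⟨c, hc⟩
    have hbot : IntermediateField.adjoin k (Set.range fun i => φ i / φ j) = ⊥ := by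
      rw [eq_bot_iff, IntermediateField.adjoin_le_iff]
      rintro _ ⟨i, rfl⟩
      exact hconst i
    rw [hbir] at hbot
    obtain ⟨y, hy, -⟩ := hK.1
    have : y ∈ (⊥ : IntermediateField k K) := by rw [← hbot]; trivial
    rw [IntermediateField.mem_bot] at this
    obtain ⟨d, rfl⟩ := this
    exact hy (isAlgebraic_algebraMap d)
  have hxtr : Transcendental k x := transcendental_of_not_mem hK hxk
  obtain ⟨B, hB⟩ := exists_codim_bound hK (fun i => φ i / φ j) hbir hxtr hxR hgen
  have hRU : chart k φ j ≤ finRing k x := by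
    intro u hu
    obtain ⟨m, hm⟩ := adjoin_mem_L hK (fun i => φ i / φ j) x hgen u hu
    exact mem_finRing_of_mem_L hK hm
  obtain ⟨c, hcR, hc0, hc⟩ := exists_conductor_global (chart k φ j) hxR hxtr hRU B
    (fun z hz => hB z (fun i => exists_mem_L_of_mem_finRing hK (hz i)))
  apply ((poles_finite' hK x).union (zeros_finite' hK hc0)).subset
  intro P hP
  by_contra hnot
  rw [Set.mem_union, not_or] at hnot
  obtain ⟨h1, h2⟩ := hnot
  have hPx : P.1 x ≤ 1 := not_lt.mp h1
  have hPc : P.1 c = 1 := le_antisymm (hRU hcR P hPx) (not_lt.mp h2)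
  apply hP
  have hmax : ∀ i, P.1 (φ i) ≤ P.1 (φ j) := by
    intro i
    have h0 : 0 < P.1 (φ j) := zero_lt_iff.mpr ((Valuation.ne_zero_iff _).mpr hj)
    have : P.1 (φ i / φ j) ≤ 1 := by
      by_contra h
      rw [not_le] at h
      exact absurd (lt_of_lt_of_le h (hgen P i h)) (not_lt.mpr hPx)
    rwa [map_div₀, div_le_one₀ h0] at this
  intro z hz
  obtain ⟨w, hwU, hwP, hzw⟩ := exists_clear_fin hK hxk P hPx
    (poles_finite' hK z).toFinset z hz (fun Q _ hQz => by
      rw [Set.Finite.mem_toFinset]; exact hQz)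
  refine ⟨j, hj, hmax, c * (z * w), hc _ hzw, c * w, hc _ hwU, ?_, ?_⟩
  · rw [map_mul, hPc, hwP, one_mul]
  · ring

end Sing

end Groth.Agent.Lib.LeadFF
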