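import Groth.Agent.Lib.LeadFF29

/-! Hyperplane sections of multiplicity one (S11076). -/

namespace Groth.Agent.Lib.LeadFF

open FunFld WithZero

section Hyper

variable {k K : Type*} [Field k] [Field K] [Algebra k K]

/-- if every section through `φ(P)` also passes through `φ(Q)`, the image points agree. -/
lemma sameImage_of_no_sep [IsAlgClosed k] (hK : IsFunctionField k K) {ι : Type*}
    [Fintype ι] [Nonempty ι] (φ : ι → K) (hne : ∀ i, φ i ≠ 0) (P Q : Place k K) (hQP : Q ≠ P)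
    (hall : ∀ f ∈ Submodule.span k (Set.range φ), f ∈ L (mapDiv k φ - Finsupp.single P 1) →
      f ∈ L (mapDiv k φ - Finsupp.single P 1 - Finsupp.single Q 1)) :
    SameImage φ P Q := by
  classical
  set W := Submodule.span k (Set.range φ) with hW
  have hWL : W ≤ L (mapDiv k φ) := span_le_L_mapDiv hK φ hne
  have hφ0 : ∃ i, φ i ≠ 0 := ⟨Classical.arbitrary ι, hne _⟩
  obtain ⟨j, hj, hmax⟩ := exists_maxIdx φ P hφ0
  have hPj := exp_mapDiv hK φ hne P j hmax
  have h0P : 0 < P.1 (φ j) := zero_lt_iff.mpr ((Valuation.ne_zero_iff _).mpr hj)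
  have hr1 : ∀ i, P.1 (φ i / φ j) ≤ 1 := fun i => by
    rw [map_div₀, div_le_one₀ h0P]; exact hmax i
  choose c hc using fun i => exists_const_sub_lt_one hK P (hr1 i)
  have hφW : ∀ i, φ i ∈ W := fun i => Submodule.subset_span ⟨i, rfl⟩
  have hmemP : ∀ f ∈ W, (f ∈ L (mapDiv k φ - Finsupp.single P 1) ↔ P.1 (f / φ j) < 1) := by
    intro f hf
    rw [mem_L_sub_single, map_div₀, div_lt_one₀ h0P, ← hPj, zm0_lt_exp_iff]
    exact ⟨fun h => h.2, fun h => ⟨hWL hf, h⟩⟩
  have hmemPQ : ∀ (jQ : ι), (∀ i, Q.1 (φ i) ≤ Q.1 (φ jQ)) → ∀ f ∈ W,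
      (f ∈ L (mapDiv k φ - Finsupp.single P 1 - Finsupp.single Q 1) ↔
        P.1 (f / φ j) < 1 ∧ Q.1 f < Q.1 (φ jQ)) := by
    intro jQ hmaxQ f hf
    rw [mem_L_sub_single, hmemP f hf, Finsupp.sub_apply, single_apply_ne hQP, sub_zero,
      ← zm0_lt_exp_iff, exp_mapDiv hK φ hne Q jQ hmaxQ]
  obtain ⟨jQ, hjQ, hmaxQ⟩ := exists_maxIdx φ Q hφ0
  have h0Q : 0 < Q.1 (φ jQ) := zero_lt_iff.mpr ((Valuation.ne_zero_iff _).mpr hjQ)
  have hfi : ∀ i, P.1 ((φ i - c i • φ j) / φ j) < 1 ∧ Q.1 (φ i - c i • φ j) < Q.1 (φ jQ) := by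
    intro i
    have hfW : φ i - c i • φ j ∈ W := sub_mem (hφW i) (Submodule.smul_mem _ _ (hφW j))
    have h1 : P.1 ((φ i - c i • φ j) / φ j) < 1 := by
      have : (φ i - c i • φ j) / φ j = φ i / φ j - algebraMap k K (c i) := by
        rw [Algebra.smul_def]; field_simp
      rw [this]; exact hc i
    have := hall _ hfW ((hmemP _ hfW).mpr h1)
    exact (hmemPQ jQ hmaxQ _ hfW).mp this
  have hjmaxQ : Q.1 (φ jQ) ≤ Q.1 (φ j) := by
    by_contra hlt
    rw [not_le] at hlt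
    have h1 := (hfi jQ).2
    have h2 : Q.1 (c jQ • φ j) < Q.1 (φ jQ) := by
      rw [Algebra.smul_def, map_mul]
      calc Q.1 (algebraMap k K (c jQ)) * Q.1 (φ j) ≤ 1 * Q.1 (φ j) :=
            mul_le_mul' (Q.2.1 _) le_rfl
        _ < _ := by rw [one_mul]; exact hlt
    have h3 : φ jQ = (φ jQ - c jQ • φ j) + c jQ • φ j := by ring
    have h4 : Q.1 (φ jQ) < Q.1 (φ jQ) := by
      conv_lhs => rw [h3]
      exact lt_of_le_of_lt (Q.1.map_add _ _) (max_lt h1 h2)
    exact lt_irrefl _ h4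
  have hmaxQ' : ∀ i, Q.1 (φ i) ≤ Q.1 (φ j) := fun i => (hmaxQ i).trans hjmaxQ
  have h0Qj : 0 < Q.1 (φ j) := zero_lt_iff.mpr ((Valuation.ne_zero_iff _).mpr hj)
  refine ⟨j, hj, hmax, hmaxQ', fun i => ⟨c i, hc i, ?_⟩⟩
  have : φ i / φ j - algebraMap k K (c i) = (φ i - c i • φ j) / φ j := by
    rw [Algebra.smul_def]; field_simp
  rw [this, map_div₀, div_lt_one₀ h0Qj]
  exact lt_of_lt_of_le (hfi i).2 hjmaxQ

lemma sameImage_self [IsAlgClosed k] (hK : IsFunctionField k K) {ι : Type*}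
    [Finite ι] [Nonempty ι] (φ : ι → K) (hφ0 : ∃ i, φ i ≠ 0) (P : Place k K) :
    SameImage φ P P := by
  obtain ⟨j, hj, hmax⟩ := exists_maxIdx φ P hφ0
  have h0P : 0 < P.1 (φ j) := zero_lt_iff.mpr ((Valuation.ne_zero_iff _).mpr hj)
  have hr1 : ∀ i, P.1 (φ i / φ j) ≤ 1 := fun i => by
    rw [map_div₀, div_le_one₀ h0P]; exact hmax i
  choose c hc using fun i => exists_const_sub_lt_one hK P (hr1 i)
  exact ⟨j, hj, hmax, hmax, fun i => ⟨c i, hc i, hc i⟩⟩

/-- vanishing order of a section. -/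
lemma one_le_vanish_iff (hK : IsFunctionField k K) {ι : Type*} [Fintype ι] [Nonempty ι]
    (φ : ι → K) (hne : ∀ i, φ i ≠ 0) {f : K} (hf0 : f ≠ 0) (Q : Place k K) (j : ι)
    (hmax : ∀ i, Q.1 (φ i) ≤ Q.1 (φ j)) :
    1 ≤ mapDiv k φ Q + Q.ord f ↔ Q.1 (f / φ j) < 1 := by
  have h0 : 0 < Q.1 (φ j) := zero_lt_iff.mpr ((Valuation.ne_zero_iff _).mpr (hne j))
  rw [map_div₀, div_lt_one₀ h0, ← exp_mapDiv hK φ hne Q j hmax, val_eq_exp_neg_ord Q hf0,
    exp_lt_exp]
  omega

lemma vanish_nonneg (hK : IsFunctionField k K) {ι : Type*} [Fintype ι] [Nonempty ι]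
    (φ : ι → K) (hne : ∀ i, φ i ≠ 0) {f : K} (hf0 : f ≠ 0)
    (hf : f ∈ Submodule.span k (Set.range φ)) (Q : Place k K) :
    0 ≤ mapDiv k φ Q + Q.ord f := by
  have := span_le_L_mapDiv hK φ hne hf Q
  rw [val_eq_exp_neg_ord Q hf0, exp_le_exp] at this
  omega

theorem nonsingular_iff_hyperplane [IsAlgClosed k] (hK : IsFunctionField k K) {ι : Type*}
    [Fintype ι] [Nonempty ι] (φ : ι → K) (hne : ∀ i, φ i ≠ 0) (i₀ : ι)
    (hbir : IntermediateField.adjoin k (Set.range fun i => φ i / φ i₀) = ⊤) (P : Place k K) :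
    IsNonsingularAt φ P ↔ ∃ c : ι → k, ∑ i, c i • φ i ≠ 0 ∧
      ∑ᶠ Q ∈ {Q : Place k K | SameImage φ P Q},
        ((mapDiv k φ) Q + Q.ord (∑ i, c i • φ i)) = 1 := by
  classical
  have hφ0 : ∃ i, φ i ≠ 0 := ⟨i₀, hne i₀⟩
  set W := Submodule.span k (Set.range φ) with hW
  have hPP : SameImage φ P P := sameImage_self hK φ hφ0 P
  -- vanishing at points of the fibre
  have hF3 : ∀ f ∈ W, f ≠ 0 → ∀ Q : Place k K, SameImage φ P Q →
      (1 ≤ mapDiv k φ Q + Q.ord f ↔ 1 ≤ mapDiv k φ P + P.ord f) := by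
    intro f hfW hf0 Q hsame
    have h5 := (sameImage_iff hK φ hφ0 P Q).mp hsame
    obtain ⟨j, hj, hmaxP, hmaxQ, -⟩ := hsame
    have hz : InLocRing φ P (f / φ j) :=
      (inLocRing_iff φ P j hj hmaxP _).mpr (InLoc.of_mem (span_div_mem_chart φ j hj hfW))
    rw [one_le_vanish_iff hK φ hne hf0 Q j hmaxQ, one_le_vanish_iff hK φ hne hf0 P j hmaxP]
    exact (h5 _ hz).2
  constructor
  · intro hns
    have hfib : {Q : Place k K | SameImage φ P Q} = {P} := by
      ext Q
      simp only [Set.mem_ofPred_eq, Set.mem_singleton_iff]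
      constructor
      · intro hsame
        have h5 := (sameImage_iff hK φ hφ0 P Q).mp hsame
        exact (place_eq_of_le (fun y hy => (h5 y (hns y hy)).1)).symm
      · rintro rfl; exact hPP
    obtain ⟨f, hfW, hf1, hf2⟩ := (nonsingular_iff_exists_sections hK φ hne i₀ hbir P).mp hns P
    obtain ⟨c, hc⟩ := Submodule.mem_span_range_iff_exists_fun k |>.mp hfW
    have hf0 : f ≠ 0 := by
      rintro rfl; exact hf2 (Submodule.zero_mem _)
    refine ⟨c, by rw [hc]; exact hf0, ?_⟩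
    rw [hfib, finsum_mem_singleton, hc]
    rw [mem_L_sub_single] at hf1
    rw [mem_L_sub_single, Finsupp.sub_apply, single_apply_self] at hf2
    have h1 := hf1.2
    rw [val_eq_exp_neg_ord P hf0, exp_le_exp] at h1
    have h2 : ¬ (P.1 f ≤ exp (mapDiv k φ P - 1 - 1)) := fun h => hf2 ⟨mem_L_sub_single.mpr hf1, h⟩
    rw [val_eq_exp_neg_ord P hf0, exp_le_exp] at h2
    omega
  · rintro ⟨c, hf0, hsum⟩
    set f := ∑ i, c i • φ i with hf
    have hfW : f ∈ W := sum_mem fun i _ => Submodule.smul_mem _ _ (Submodule.subset_span ⟨i, rfl⟩)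
    set v : Place k K → ℤ := fun Q => mapDiv k φ Q + Q.ord f with hv
    have hv0 : ∀ Q, 0 ≤ v Q := fun Q => vanish_nonneg hK φ hne hf0 hfW Q
    have hsupp : (Function.support v).Finite := by
      apply ((mapDiv k φ).finite_support.union (support_ord_finite hK f)).subset
      intro Q hQ
      rw [Function.mem_support] at hQ
      by_contra hnot
      rw [Set.mem_union, not_or] at hnot
      apply hQ
      have h1 : mapDiv k φ Q = 0 := by
        by_contra h; exact hnot.1 (Function.mem_support.mpr h)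
      have h2 : Q.ord f = 0 := by
        by_contra h; exact hnot.2 (Function.mem_support.mpr h)
      simp only [hv, h1, h2, add_zero]
    set S : Set (Place k K) := {Q | SameImage φ P Q} with hS
    set T : Finset (Place k K) := (hsupp.inter_of_right S).toFinset with hT
    have hmemT : ∀ Q, Q ∈ T ↔ SameImage φ P Q ∧ v Q ≠ 0 := by
      intro Q
      rw [hT, Set.Finite.mem_toFinset]
      rfl
    have hsumT : ∑ᶠ Q ∈ S, v Q = ∑ Q ∈ T, v Q := by
      apply finsum_mem_eq_sum_of_inter_support_eq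
      ext Q
      simp only [Set.mem_inter_iff, Finset.mem_coe, hmemT, Function.mem_support, hS,
        Set.mem_ofPred_eq]
      tauto
    rw [hsumT] at hsum
    have hge1 : ∀ Q ∈ T, 1 ≤ v Q := by
      intro Q hQ
      have := ((hmemT Q).mp hQ).2
      have := hv0 Q
      omega
    have hcard : T.card ≤ 1 := by
      have h1 : ∑ Q ∈ T, (1 : ℤ) ≤ ∑ Q ∈ T, v Q := Finset.sum_le_sum hge1
      rw [Finset.sum_const, hsum] at h1
      simpa using h1
    have hTne : T.Nonempty := by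
      by_contra hemp
      rw [Finset.not_nonempty_iff_eq_empty] at hemp
      rw [hemp, Finset.sum_empty] at hsum
      exact absurd hsum (by norm_num)
    obtain ⟨Q₀, hQ₀⟩ := hTne
    have hPv : 1 ≤ v P := (hF3 f hfW hf0 Q₀ ((hmemT Q₀).mp hQ₀).1).mp (hge1 Q₀ hQ₀)
    have hPT : P ∈ T := (hmemT P).mpr ⟨hPP, by omega⟩
    have hTP : T = {P} := by
      apply Finset.eq_singleton_iff_unique_mem.mpr
      refine ⟨hPT, fun Q hQ => ?_⟩
      exact Finset.card_le_one.mp hcard Q hQ P hPT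
    have hvP : v P = 1 := by
      rw [hTP, Finset.sum_singleton] at hsum
      exact hsum
    have hfibre : ∀ Q, SameImage φ P Q → Q = P := by
      intro Q hQ
      have h1 : 1 ≤ v Q := (hF3 f hfW hf0 Q hQ).mpr hPv
      have hQT : Q ∈ T := (hmemT Q).mpr ⟨hQ, by omega⟩
      rw [hTP, Finset.mem_singleton] at hQT
      exact hQT
    rw [nonsingular_iff_exists_sections hK φ hne i₀ hbir P]
    intro Q
    by_cases hQP : Q = P
    · subst hQP
      refine ⟨f, hfW, ?_, ?_⟩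
      · rw [mem_L_sub_single]
        refine ⟨span_le_L_mapDiv hK φ hne hfW, ?_⟩
        rw [val_eq_exp_neg_ord Q hf0, exp_le_exp]
        simp only [hv] at hvP
        omega
      · rw [mem_L_sub_single, Finsupp.sub_apply, single_apply_self]
        rintro ⟨-, h2⟩
        rw [val_eq_exp_neg_ord Q hf0, exp_le_exp] at h2
        simp only [hv] at hvP
        omega
    · by_contra hall
      push Not at hall
      exact hQP (hfibre Q (sameImage_of_no_sep hK φ hne P Q hQP hall))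

end Hyper

end Groth.Agent.Lib.LeadFF
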