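import Groth.Agent.Lib.LeadFF30

/-! Higher ramification groups: approximate Teichmüller lifts and the uniformizer criterion. -/

namespace Groth.Agent.Lib.LeadFF

open FunFld WithZero Polynomial

section Ram

variable {k L : Type*} [Field k] [Field L] [Algebra k L]

lemma coe_eval_map (Q : Place k L) (g : k[X]) (x : Q.O) :
    (((g.map (algebraMap k Q.O)).eval x : Q.O) : L) = aeval (x : L) g := by
  rw [eval_map, aeval_def]
  exact hom_eval₂ g (algebraMap k Q.O) Q.O.subtype x

lemma residue_eval_map (Q : Place k L) (g : k[X]) (x : Q.O) :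
    IsLocalRing.residue Q.O ((g.map (algebraMap k Q.O)).eval x) =
      aeval (IsLocalRing.residue Q.O x) g := by
  rw [eval_map, aeval_def]
  exact hom_eval₂ g (algebraMap k Q.O) (IsLocalRing.residue Q.O) x

lemma val_aeval_lt_one_iff (Q : Place k L) (g : k[X]) {a : L} (ha : Q.1 a ≤ 1) :
    Q.1 (aeval a g) < 1 ↔
      aeval (IsLocalRing.residue Q.O ⟨a, (Valuation.mem_valuationSubring_iff Q.1 a).mpr ha⟩) g = 0 := by
  rw [← residue_eval_map, IsLocalRing.residue_eq_zero_iff,
    Valuation.mem_maximalIdeal_iff (v := Q.1), coe_eval_map]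

/-- Taylor expansion with integral remainder. -/
lemma taylor2 (Q : Place k L) (g : k[X]) {x h : L} (hx : Q.1 x ≤ 1) (hh : Q.1 h ≤ 1) :
    ∃ r : L, Q.1 r ≤ 1 ∧
      aeval (x + h) g = aeval x g + aeval x (derivative g) * h + r * h ^ 2 := by
  let xO : Q.O := ⟨x, (Valuation.mem_valuationSubring_iff Q.1 x).mpr hx⟩
  let hO : Q.O := ⟨h, (Valuation.mem_valuationSubring_iff Q.1 h).mpr hh⟩
  obtain ⟨r, hr⟩ := (g.map (algebraMap k Q.O)).binomExpansion xO hO
  refine ⟨r, (Valuation.mem_valuationSubring_iff Q.1 _).mp r.2, ?_⟩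
  have := congrArg (fun y : Q.O => (y : L)) hr
  simp only [derivative_map] at this
  push_cast at this
  have e1 := coe_eval_map Q g (xO + hO)
  have e2 := coe_eval_map Q g xO
  have e3 := coe_eval_map Q (derivative g) xO
  rw [e1, e2, e3] at this
  exact this

lemma taylor1 (Q : Place k L) (g : k[X]) {x y : L} (hx : Q.1 x ≤ 1) (hy : Q.1 y ≤ 1) :
    ∃ z : L, Q.1 z ≤ 1 ∧ aeval x g - aeval y g = z * (x - y) := by
  let xO : Q.O := ⟨x, (Valuation.mem_valuationSubring_iff Q.1 x).mpr hx⟩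
  let yO : Q.O := ⟨y, (Valuation.mem_valuationSubring_iff Q.1 y).mpr hy⟩
  obtain ⟨z, hz⟩ := (g.map (algebraMap k Q.O)).evalSubFactor xO yO
  refine ⟨z, (Valuation.mem_valuationSubring_iff Q.1 _).mp z.2, ?_⟩
  have := congrArg (fun y : Q.O => (y : L)) hz
  push_cast at this
  rw [coe_eval_map, coe_eval_map] at this
  exact this

lemma exp_neg_lt_one {m : ℕ} (hm : 1 ≤ m) : (exp (-(m : ℤ)) : ZM0) < 1 := by
  rw [← exp_zero, exp_lt_exp]; omega

lemma newton_step (Q : Place k L) (g : k[X]) {x : L} (hx : Q.1 x ≤ 1) {m : ℕ} (hm : 1 ≤ m)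
    (h1 : Q.1 (aeval x g) ≤ exp (-(m : ℤ))) (h2 : Q.1 (aeval x (derivative g)) = 1) :
    ∃ x' : L, Q.1 (x' - x) < 1 ∧ Q.1 x' ≤ 1 ∧ Q.1 (aeval x' g) ≤ exp (-((m + 1 : ℕ) : ℤ)) ∧
      Q.1 (aeval x' (derivative g)) = 1 := by
  have hd0 : aeval x (derivative g) ≠ 0 := by
    intro h0; rw [h0, map_zero] at h2; exact zero_ne_one h2
  set h := -(aeval x g) / aeval x (derivative g) with hh
  have hQh : Q.1 h = Q.1 (aeval x g) := by
    rw [hh, map_div₀, Valuation.map_neg, h2, div_one]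
  have hh1 : Q.1 h < 1 := by rw [hQh]; exact lt_of_le_of_lt h1 (exp_neg_lt_one hm)
  have hx' : Q.1 (x + h) ≤ 1 := (Q.1.map_add _ _).trans (max_le hx hh1.le)
  refine ⟨x + h, by rwa [add_sub_cancel_left], hx', ?_, ?_⟩
  · obtain ⟨r, hr1, hr⟩ := taylor2 Q g hx hh1.le
    have hcancel : aeval x g + aeval x (derivative g) * h = 0 := by
      rw [hh]; field_simp; ring
    rw [hr, hcancel, zero_add, map_mul, map_pow, hQh]
    calc Q.1 r * Q.1 (aeval x g) ^ 2 ≤ 1 * (exp (-(m : ℤ))) ^ 2 :=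
          mul_le_mul' hr1 (pow_le_pow_left' h1 2)
      _ ≤ exp (-((m + 1 : ℕ) : ℤ)) := by
          rw [one_mul, zm0_exp_pow, exp_le_exp]; push_cast; omega
  · obtain ⟨z, hz1, hz⟩ := taylor1 Q (derivative g) hx' hx
    rw [add_sub_cancel_left] at hz
    have hlt : Q.1 (aeval (x + h) (derivative g) - aeval x (derivative g)) < 1 := by
      rw [hz, map_mul]
      calc Q.1 z * Q.1 h ≤ 1 * Q.1 h := mul_le_mul' hz1 le_rfl
        _ < 1 := by rwa [one_mul]
    have : aeval (x + h) (derivative g) =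
        (aeval (x + h) (derivative g) - aeval x (derivative g)) + aeval x (derivative g) := by ring
    rw [this, Valuation.map_add_eq_of_lt_right _ (by rwa [h2]), h2]

/-- approximate Teichmüller elements of precision `N`. -/
def IsTeich (Q : Place k L) (N : ℕ) (a : L) : Prop :=
  Q.1 a ≤ 1 ∧ ∃ g : k[X], Q.1 (aeval a g) ≤ exp (-(N : ℤ)) ∧ Q.1 (aeval a (derivative g)) = 1

lemma exists_lift (Q : Place k L) [Algebra.IsSeparable k (IsLocalRing.ResidueField Q.O)]
    {a : L} (ha : Q.1 a ≤ 1) :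
    ∀ N : ℕ, 1 ≤ N → ∃ a' : L, Q.1 (a' - a) < 1 ∧ IsTeich Q N a' := by
  intro N hN
  induction N, hN using Nat.le_induction with
  | base =>
    set aO : Q.O := ⟨a, (Valuation.mem_valuationSubring_iff Q.1 a).mpr ha⟩ with haO
    set ā := IsLocalRing.residue Q.O aO with hā
    have hsep : (minpoly k ā).Separable := Algebra.IsSeparable.isSeparable k ā
    refine ⟨a, by simp, ha, minpoly k ā, ?_, ?_⟩
    · have : Q.1 (aeval a (minpoly k ā)) < 1 :=
        (val_aeval_lt_one_iff Q _ ha).mpr (minpoly.aeval k ā)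
      exact zm0_lt_one_iff.mp this
    · apply le_antisymm (val_aeval_le_one (place_trivOn Q) ha _)
      by_contra hlt
      rw [not_le] at hlt
      exact hsep.aeval_derivative_ne_zero (minpoly.aeval k ā)
        ((val_aeval_lt_one_iff Q _ ha).mp hlt)
  | succ m hm ih =>
    obtain ⟨a', ha'1, ha'2, g, hg1, hg2⟩ := ih
    obtain ⟨a'', h1, h2, h3, h4⟩ := newton_step Q g ha'2 hm hg1 hg2
    refine ⟨a'', ?_, h2, g, h3, h4⟩
    have : a'' - a = (a'' - a') + (a' - a) := by ring
    rw [this]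
    exact lt_of_le_of_lt (Q.1.map_add _ _) (max_lt h1 ha'1)

/-- expansion in powers of a uniformizer with Teichmüller coefficients. -/
lemma exists_expansion (Q : Place k L) [Algebra.IsSeparable k (IsLocalRing.ResidueField Q.O)]
    {t : L} (ht : Q.1 t = exp (-1 : ℤ)) {N : ℕ} (hN : 1 ≤ N) :
    ∀ (M : ℕ) (x : L), Q.1 x ≤ 1 → ∃ (a : ℕ → L) (x' : L), (∀ i, IsTeich Q N (a i)) ∧
      Q.1 x' ≤ 1 ∧ x = ∑ i ∈ Finset.range M, a i * t ^ i + t ^ M * x' := by
  have ht0 : t ≠ 0 := unif_ne_zero ht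
  obtain ⟨a₀, -, ha₀⟩ := exists_lift Q (a := (0 : L)) (by simp) N hN
  intro M
  induction M with
  | zero =>
    intro x hx
    exact ⟨fun _ => a₀, x, fun _ => ha₀, hx, by simp⟩
  | succ M ih =>
    intro x hx
    obtain ⟨a, x', ha, hx', hxx'⟩ := ih x hx
    obtain ⟨a', ha'1, ha'2⟩ := exists_lift Q hx' N hN
    refine ⟨fun i => if i = M then a' else a i, (x' - a') / t, ?_, ?_, ?_⟩
    · intro i
      by_cases hi : i = M
      · simp only [hi, if_true]; exact ha'2
      · simp only [hi, if_false]; exact ha i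
    · rw [map_div₀, ht, div_le_iff₀ (by simp), one_mul, ← zm0_lt_one_iff, ← Valuation.map_neg]
      rwa [neg_sub]
    · rw [Finset.sum_range_succ]
      beta_reduce
      rw [if_pos rfl, hxx']
      have : ∑ i ∈ Finset.range M, (if i = M then a' else a i) * t ^ i =
          ∑ i ∈ Finset.range M, a i * t ^ i := by
        apply Finset.sum_congr rfl
        intro i hi
        rw [if_neg (Finset.mem_range.mp hi).ne]
      rw [this, pow_succ]
      field_simp
      ring

end Ram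

end Groth.Agent.Lib.LeadFF
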