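import Groth.Agent.Lib.LeadFF31

/-! Higher ramification groups: the uniformizer criterion and the structure of the quotients. -/

namespace Groth.Agent.Lib.LeadFF

open FunFld WithZero Polynomial

section Ram2

variable {k K L : Type*} [Field k] [Field K] [Field L] [Algebra k K] [Algebra K L] [Algebra k L]
  [IsScalarTower k K L]

/-- `σ x ≡ x mod Q^i` on `O_Q`. -/
def InRam (Q : Place k L) (i : ℕ) (σ : L ≃ₐ[K] L) : Prop :=
  ∀ x : L, Q.1 x ≤ 1 → Q.1 (σ x - x) ≤ exp (-(i : ℤ))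

lemma InRam.mono {Q : Place k L} {i j : ℕ} {σ : L ≃ₐ[K] L} (h : InRam Q j σ) (hij : i ≤ j) :
    InRam Q i σ := fun x hx => (h x hx).trans (by rw [exp_le_exp]; omega)

lemma val_comp_eq {Q : Place k L} {σ : L ≃ₐ[K] L} (hσ : InRam Q 1 σ) (x : L) :
    Q.1 (σ x) = Q.1 x := by
  have : Q = cm Q σ := by
    apply place_eq_of_le
    intro y hy
    rw [cm_apply]
    have : σ y = (σ y - y) + y := by ring
    rw [this]
    refine (Q.1.map_add _ _).trans (max_le ((hσ y hy).trans ?_) hy)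
    rw [← exp_zero, exp_le_exp]; norm_num
  conv_rhs => rw [this]
  rfl

lemma aeval_algEquiv (σ : L ≃ₐ[K] L) (g : k[X]) (a : L) : aeval (σ a) g = σ (aeval a g) := by
  have := Polynomial.aeval_algHom_apply ((σ : L →ₐ[K] L).restrictScalars k) a g
  exact this

lemma val_sub_of_teich {Q : Place k L} {σ : L ≃ₐ[K] L} (hσ : InRam Q 1 σ) {N : ℕ} {a : L}
    (ha : IsTeich Q N a) : Q.1 (σ a - a) ≤ exp (-(N : ℤ)) := by
  obtain ⟨ha1, g, h1, h2⟩ := ha
  set h := σ a - a with hh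
  have hh1 : Q.1 h ≤ exp (-((1 : ℕ) : ℤ)) := hσ a ha1
  have hhlt : Q.1 h < 1 := lt_of_le_of_lt hh1 (exp_neg_lt_one le_rfl)
  obtain ⟨r, hr1, hr⟩ := taylor2 Q g ha1 hhlt.le
  have hah : a + h = σ a := by rw [hh]; ring
  rw [hah, aeval_algEquiv] at hr
  by_contra hlt
  rw [not_le] at hlt
  have hh0 : Q.1 h ≠ 0 := (lt_of_le_of_lt zero_le' hlt).ne'
  have e : aeval a (derivative g) * h = σ (aeval a g) - aeval a g - r * h ^ 2 := by
    rw [hr]; ring
  have h3 : Q.1 (aeval a (derivative g) * h) = Q.1 h := by rw [map_mul, h2, one_mul]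
  have h4 : Q.1 (σ (aeval a g) - aeval a g - r * h ^ 2) < Q.1 h := by
    apply lt_of_le_of_lt (Q.1.map_sub _ _)
    apply max_lt
    · apply lt_of_le_of_lt (Q.1.map_sub _ _)
      apply max_lt
      · rw [val_comp_eq hσ]; exact lt_of_le_of_lt h1 hlt
      · exact lt_of_le_of_lt h1 hlt
    · rw [map_mul, map_pow, pow_two]
      calc Q.1 r * (Q.1 h * Q.1 h) ≤ 1 * (Q.1 h * Q.1 h) := mul_le_mul' hr1 le_rfl
        _ = Q.1 h * Q.1 h := one_mul _
        _ < 1 * Q.1 h := by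
            apply mul_lt_mul_of_pos_right hhlt (zero_lt_iff.mpr hh0)
        _ = Q.1 h := one_mul _
  rw [← e, h3] at h4
  exact lt_irrefl _ h4

lemma val_pow_sub_pow_le {Q : Place k L} {x y : L} (hx : Q.1 x ≤ 1) (hy : Q.1 y ≤ 1) (n : ℕ) :
    Q.1 (x ^ n - y ^ n) ≤ Q.1 (x - y) := by
  rw [← geom_sum₂_mul, map_mul]
  calc Q.1 (∑ i ∈ Finset.range n, x ^ i * y ^ (n - 1 - i)) * Q.1 (x - y) ≤ 1 * Q.1 (x - y) := by
        apply mul_le_mul' _ le_rfl
        apply Valuation.map_sum_le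
        intro i _
        rw [map_mul, map_pow, map_pow]
        exact mul_le_one' (pow_le_one' hx _) (pow_le_one' hy _)
    _ = _ := one_mul _

/-- S11027 core: membership in the ramification groups is detected on a uniformizer. -/
theorem inRam_iff_unif (Q : Place k L) [Algebra.IsSeparable k (IsLocalRing.ResidueField Q.O)]
    {σ : L ≃ₐ[K] L} (hσ : InRam Q 1 σ) {t : L} (ht : Q.1 t = exp (-1 : ℤ)) {j : ℕ} (hj : 1 ≤ j) :
    InRam Q j σ ↔ Q.1 (σ t - t) ≤ exp (-(j : ℤ)) := by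
  have ht1 : Q.1 t ≤ 1 := (unif_lt_one ht).le
  constructor
  · intro h
    exact h t ht1
  · intro h x hx
    obtain ⟨a, x', ha, hx', hxx'⟩ := exists_expansion Q ht hj j x hx
    have hσt1 : Q.1 (σ t) ≤ 1 := by rw [val_comp_eq hσ]; exact ht1
    have e : σ x - x = ∑ i ∈ Finset.range j, (σ (a i * t ^ i) - a i * t ^ i) +
        (σ (t ^ j * x') - t ^ j * x') := by
      conv_lhs => rw [hxx']
      rw [map_add, map_sum, Finset.sum_sub_distrib]
      ring
    rw [e]
    refine (Q.1.map_add _ _).trans (max_le ?_ ?_)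
    · apply Valuation.map_sum_le
      intro i _
      have e2 : σ (a i * t ^ i) - a i * t ^ i =
          (σ (a i) - a i) * σ t ^ i + a i * (σ t ^ i - t ^ i) := by
        rw [map_mul, map_pow]; ring
      rw [e2]
      refine (Q.1.map_add _ _).trans (max_le ?_ ?_)
      · rw [map_mul, map_pow]
        calc Q.1 (σ (a i) - a i) * Q.1 (σ t) ^ i ≤ exp (-(j : ℤ)) * 1 :=
              mul_le_mul' (val_sub_of_teich hσ (ha i)) (pow_le_one' hσt1 _)
          _ = _ := mul_one _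
      · rw [map_mul]
        calc Q.1 (a i) * Q.1 (σ t ^ i - t ^ i) ≤ 1 * exp (-(j : ℤ)) :=
              mul_le_mul' (ha i).1 ((val_pow_sub_pow_le hσt1 ht1 i).trans h)
          _ = _ := one_mul _
    · have h5 : Q.1 (t ^ j * x') ≤ exp (-(j : ℤ)) := by
        rw [map_mul, map_pow, ht, zm0_exp_pow, mul_neg_one]
        calc exp (-(j : ℤ)) * Q.1 x' ≤ exp (-(j : ℤ)) * 1 := mul_le_mul' le_rfl hx'
          _ = _ := mul_one _
      refine (Q.1.map_sub _ _).trans (max_le ?_ h5)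
      rw [val_comp_eq hσ]; exact h5

end Ram2

end Groth.Agent.Lib.LeadFF
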