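import Groth.Agent.Lib.LeadFF32

/-! Higher ramification groups: `G_i/G_{i+1}` for `i ≥ 2`. -/

namespace Groth.Agent.Lib.LeadFF

open FunFld WithZero Polynomial

section Ram3

variable {k K L : Type*} [Field k] [Field K] [Field L] [Algebra k K] [Algebra K L] [Algebra k L]
  [IsScalarTower k K L]

lemma inRam_one (Q : Place k L) (i : ℕ) : InRam Q i (1 : L ≃ₐ[K] L) := by
  intro x _
  simp

lemma inRam_mul {Q : Place k L} {i : ℕ} (hi : 1 ≤ i) {σ τ : L ≃ₐ[K] L} (hσ : InRam Q i σ)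
    (hτ : InRam Q i τ) : InRam Q i (σ * τ) := by
  intro x hx
  have : (σ * τ) x - x = σ (τ x - x) + (σ x - x) := by rw [AlgEquiv.mul_apply, map_sub]; ring
  rw [this]
  refine (Q.1.map_add _ _).trans (max_le ?_ (hσ x hx))
  rw [val_comp_eq (hσ.mono hi)]; exact hτ x hx

lemma apply_inv_apply (σ : L ≃ₐ[K] L) (x : L) : σ (σ⁻¹ x) = x := by
  rw [← AlgEquiv.mul_apply, mul_inv_cancel, AlgEquiv.one_apply]

lemma inRam_inv {Q : Place k L} {i : ℕ} (hi : 1 ≤ i) {σ : L ≃ₐ[K] L} (hσ : InRam Q i σ) :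
    InRam Q i σ⁻¹ := by
  intro x hx
  have h1 : Q.1 (σ⁻¹ x) = Q.1 x := by
    have := val_comp_eq (hσ.mono hi) (σ⁻¹ x)
    rw [apply_inv_apply] at this
    exact this.symm
  have := hσ (σ⁻¹ x) (by rw [h1]; exact hx)
  rw [apply_inv_apply] at this
  rwa [← Valuation.map_neg, neg_sub] at this

lemma inRam_pow {Q : Place k L} {i : ℕ} (hi : 1 ≤ i) {σ : L ≃ₐ[K] L} (hσ : InRam Q i σ) (n : ℕ) :
    InRam Q i (σ ^ n) := by
  induction n with
  | zero => rw [pow_zero]; exact inRam_one Q i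
  | succ n ih => rw [pow_succ]; exact inRam_mul hi ih hσ

/-- `σ t ≡ t + t^i u mod t^{i+1}`. -/
def RamRel (Q : Place k L) (t : L) (i : ℕ) (σ : L ≃ₐ[K] L) (u : L) : Prop :=
  Q.1 (σ t - t - t ^ i * u) ≤ exp (-((i + 1 : ℕ) : ℤ))

lemma exists_ramRel {Q : Place k L} {t : L} (ht : Q.1 t = exp (-1 : ℤ)) {i : ℕ}
    {σ : L ≃ₐ[K] L} (hσ : InRam Q i σ) : ∃ u : L, Q.1 u ≤ 1 ∧ RamRel Q t i σ u := by
  have ht0 : t ≠ 0 := unif_ne_zero ht
  refine ⟨(σ t - t) / t ^ i, ?_, ?_⟩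
  · rw [map_div₀, map_pow, ht, zm0_exp_pow, mul_neg_one, div_le_iff₀ (by simp), one_mul]
    exact hσ t (unif_lt_one ht).le
  · unfold RamRel
    rw [mul_div_cancel₀ _ (pow_ne_zero _ ht0), sub_self, map_zero]
    exact zero_le'

lemma ramRel_to_le {Q : Place k L} {t : L} (ht : Q.1 t = exp (-1 : ℤ)) {i : ℕ}
    {σ : L ≃ₐ[K] L} {u : L} (h : RamRel Q t i σ u) (hu : Q.1 u < 1) :
    Q.1 (σ t - t) ≤ exp (-((i + 1 : ℕ) : ℤ)) := by
  have : σ t - t = (σ t - t - t ^ i * u) + t ^ i * u := by ring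
  rw [this]
  refine (Q.1.map_add _ _).trans (max_le h ?_)
  rw [map_mul, map_pow, ht, zm0_exp_pow, mul_neg_one]
  calc exp (-(i : ℤ)) * Q.1 u ≤ exp (-(i : ℤ)) * exp (-1 : ℤ) :=
        mul_le_mul' le_rfl (zm0_lt_one_iff.mp hu)
    _ = _ := by rw [← exp_add]; push_cast; ring_nf

lemma ramRel_lt_of {Q : Place k L} {t : L} (ht : Q.1 t = exp (-1 : ℤ)) {i : ℕ}
    {σ : L ≃ₐ[K] L} {u : L} (h : RamRel Q t i σ u)
    (h2 : Q.1 (σ t - t) ≤ exp (-((i + 1 : ℕ) : ℤ))) : Q.1 u < 1 := by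
  have e : t ^ i * u = (σ t - t) - (σ t - t - t ^ i * u) := by ring
  have h3 : Q.1 (t ^ i * u) ≤ exp (-((i + 1 : ℕ) : ℤ)) := by
    rw [e]; exact (Q.1.map_sub _ _).trans (max_le h2 h)
  rw [map_mul, map_pow, ht, zm0_exp_pow, mul_neg_one] at h3
  rw [zm0_lt_one_iff]
  by_contra hlt
  rw [not_le] at hlt
  have : exp (-(i : ℤ)) * exp (-1 : ℤ) < exp (-(i : ℤ)) * Q.1 u :=
    mul_lt_mul_of_pos_left hlt (by simp)
  rw [← exp_add] at this
  have h4 := lt_of_lt_of_le this h3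
  rw [exp_lt_exp] at h4
  push_cast at h4
  omega

lemma ramRel_one (Q : Place k L) (t : L) (i : ℕ) : RamRel Q t i (1 : L ≃ₐ[K] L) 0 := by
  unfold RamRel
  simp

lemma ramRel_mul {Q : Place k L} {t : L} (ht : Q.1 t = exp (-1 : ℤ)) {i : ℕ} (hi : 2 ≤ i)
    {σ τ : L ≃ₐ[K] L} (hσ : InRam Q i σ) {u w : L} (hu : RamRel Q t i σ u)
    (hw1 : Q.1 w ≤ 1) (hw : RamRel Q t i τ w) : RamRel Q t i (σ * τ) (u + w) := by
  have hσ1 : InRam Q 1 σ := hσ.mono (by omega)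
  have ht1 : Q.1 t ≤ 1 := (unif_lt_one ht).le
  have hσt : Q.1 (σ t) = exp (-1 : ℤ) := by rw [val_comp_eq hσ1, ht]
  have e : (σ * τ) t - t - t ^ i * (u + w) =
      σ (τ t - t - t ^ i * w) + (σ t - t - t ^ i * u) + (σ t ^ i - t ^ i) * σ w +
        t ^ i * (σ w - w) := by
    rw [AlgEquiv.mul_apply, map_sub, map_sub, map_mul, map_pow]; ring
  unfold RamRel
  rw [e]
  have hgeom : Q.1 (σ t ^ i - t ^ i) ≤ exp (-((i + 1 : ℕ) : ℤ)) := by
    rw [← geom_sum₂_mul, map_mul]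
    have h1 : Q.1 (∑ l ∈ Finset.range i, σ t ^ l * t ^ (i - 1 - l)) ≤ exp (-((i : ℤ) - 1)) := by
      apply Valuation.map_sum_le
      intro l hl
      rw [map_mul, map_pow, map_pow, hσt, ht, zm0_exp_pow, zm0_exp_pow, ← exp_add, exp_le_exp]
      have := Finset.mem_range.mp hl
      push_cast [Nat.sub_sub, Nat.cast_sub (show 1 + l ≤ i by omega)]
      omega
    calc Q.1 (∑ l ∈ Finset.range i, σ t ^ l * t ^ (i - 1 - l)) * Q.1 (σ t - t)
        ≤ exp (-((i : ℤ) - 1)) * exp (-(i : ℤ)) := mul_le_mul' h1 (hσ t ht1)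
      _ ≤ _ := by rw [← exp_add, exp_le_exp]; push_cast; omega
  refine (Q.1.map_add _ _).trans (max_le ((Q.1.map_add _ _).trans (max_le
    ((Q.1.map_add _ _).trans (max_le ?_ hu)) ?_)) ?_)
  · rw [val_comp_eq hσ1]; exact hw
  · rw [map_mul, val_comp_eq hσ1]
    calc Q.1 (σ t ^ i - t ^ i) * Q.1 w ≤ exp (-((i + 1 : ℕ) : ℤ)) * 1 := mul_le_mul' hgeom hw1
      _ = _ := mul_one _
  · rw [map_mul, map_pow, ht, zm0_exp_pow, mul_neg_one]
    calc exp (-(i : ℤ)) * Q.1 (σ w - w) ≤ exp (-(i : ℤ)) * exp (-(i : ℤ)) :=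
          mul_le_mul' le_rfl (hσ w hw1)
      _ ≤ _ := by rw [← exp_add, exp_le_exp]; push_cast; omega

lemma ramRel_pow {Q : Place k L} {t : L} (ht : Q.1 t = exp (-1 : ℤ)) {i : ℕ} (hi : 2 ≤ i)
    {σ : L ≃ₐ[K] L} (hσ : InRam Q i σ) {u : L} (hu1 : Q.1 u ≤ 1) (hu : RamRel Q t i σ u)
    (n : ℕ) : RamRel Q t i (σ ^ n) (n • u) := by
  induction n with
  | zero => rw [pow_zero, zero_smul]; exact ramRel_one Q t i
  | succ n ih =>
    rw [pow_succ, succ_nsmul]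
    exact ramRel_mul ht hi (inRam_pow (by omega) hσ n) ih hu1 hu

/-- S11025 core. -/
theorem ram_quotient (Q : Place k L) [Algebra.IsSeparable k (IsLocalRing.ResidueField Q.O)]
    [Finite (L ≃ₐ[K] L)] {i : ℕ} (hi : 2 ≤ i) {σ τ : L ≃ₐ[K] L} (hσ : InRam Q i σ)
    (hτ : InRam Q i τ) :
    InRam Q (i + 1) (σ * τ * σ⁻¹ * τ⁻¹) ∧ (ringChar K = 0 → InRam Q (i + 1) σ) ∧
      ∀ p : ℕ, p.Prime → ringChar K = p → InRam Q (i + 1) (σ ^ p) := by
  obtain ⟨t, ht⟩ := exists_unif Q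
  have hi1 : 1 ≤ i := by omega
  have hσi := inRam_inv hi1 hσ
  have hτi := inRam_inv hi1 hτ
  obtain ⟨u, hu1, hu⟩ := exists_ramRel ht hσ
  obtain ⟨w, hw1, hw⟩ := exists_ramRel ht hτ
  obtain ⟨u', hu'1, hu'⟩ := exists_ramRel ht hσi
  obtain ⟨w', hw'1, hw'⟩ := exists_ramRel ht hτi
  have hzero : Q.1 ((1 : L ≃ₐ[K] L) t - t) ≤ exp (-((i + 1 : ℕ) : ℤ)) := by simp
  refine ⟨?_, ?_, ?_⟩
  · have h1 : InRam Q i (σ * τ * σ⁻¹ * τ⁻¹) :=
      inRam_mul hi1 (inRam_mul hi1 (inRam_mul hi1 hσ hτ) hσi) hτi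
    rw [inRam_iff_unif Q (h1.mono hi1) ht (by omega)]
    have h2 : RamRel Q t i (σ * τ * σ⁻¹ * τ⁻¹) (u + w + u' + w') :=
      ramRel_mul ht hi (inRam_mul hi1 (inRam_mul hi1 hσ hτ) hσi)
        (ramRel_mul ht hi (inRam_mul hi1 hσ hτ) (ramRel_mul ht hi hσ hu hw1 hw) hu'1 hu') hw'1 hw'
    have h3 : Q.1 (u + u') < 1 := by
      have := ramRel_mul ht hi hσ hu hu'1 hu'
      rw [mul_inv_cancel] at this
      exact ramRel_lt_of ht this hzero
    have h4 : Q.1 (w + w') < 1 := by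
      have := ramRel_mul ht hi hτ hw hw'1 hw'
      rw [mul_inv_cancel] at this
      exact ramRel_lt_of ht this hzero
    apply ramRel_to_le ht h2
    have : u + w + u' + w' = (u + u') + (w + w') := by ring
    rw [this]
    exact lt_of_le_of_lt (Q.1.map_add _ _) (max_lt h3 h4)
  · intro hchar
    haveI : CharP K 0 := hchar ▸ ringChar.charP K
    haveI : CharZero K := CharP.charP_to_charZero K
    rw [inRam_iff_unif Q (hσ.mono hi1) ht (by omega)]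
    apply ramRel_to_le ht hu
    set n := orderOf σ with hn
    have hnpos : 0 < n := orderOf_pos σ
    have h1 := ramRel_pow ht hi hσ hu1 hu n
    rw [hn, pow_orderOf_eq_one, ← hn] at h1
    have h2 := ramRel_lt_of ht h1 hzero
    rw [nsmul_eq_mul, map_mul] at h2
    have hnk : (n : k) ≠ 0 := by
      intro h0
      have : (n : K) = 0 := by rw [← map_natCast (algebraMap k K), h0, map_zero]
      exact (Nat.cast_ne_zero.mpr hnpos.ne') this
    have hnL : Q.1 (n : L) = 1 := by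
      rw [← map_natCast (algebraMap k L)]
      exact place_trivOn Q _ hnk
    rwa [hnL, one_mul] at h2
  · intro p _ hchar
    have hpK : (p : K) = 0 := by
      rw [ringChar.spec, hchar]
    have hpL : (p : L) = 0 := by rw [← map_natCast (algebraMap K L), hpK, map_zero]
    rw [inRam_iff_unif Q ((inRam_pow hi1 hσ p).mono hi1) ht (by omega)]
    have h1 := ramRel_pow ht hi hσ hu1 hu p
    rw [nsmul_eq_mul, hpL, zero_mul] at h1
    exact ramRel_to_le ht h1 (by simp)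

end Ram3

end Groth.Agent.Lib.LeadFF
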