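import Groth.Agent.Lib.LeadFF33

/-! `G₁/G₂` is cyclic. -/

namespace Groth.Agent.Lib.LeadFF

open FunFld WithZero Polynomial

section Ram4

variable {k K L : Type*} [Field k] [Field K] [Field L] [Algebra k K] [Algebra K L] [Algebra k L]
  [IsScalarTower k K L]

/-- residue of an integral element (junk `0` otherwise). -/
noncomputable def resO (Q : Place k L) (y : L) : IsLocalRing.ResidueField Q.O :=
  open scoped Classical in
  if h : Q.1 y ≤ 1 then
    IsLocalRing.residue Q.O ⟨y, (Valuation.mem_valuationSubring_iff Q.1 y).mpr h⟩ else 0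

omit [Field K] [Algebra k K] [Algebra K L] [IsScalarTower k K L] in
lemma resO_mul (Q : Place k L) {x y : L} (hx : Q.1 x ≤ 1) (hy : Q.1 y ≤ 1) :
    resO Q (x * y) = resO Q x * resO Q y := by
  unfold resO
  rw [dif_pos hx, dif_pos hy, dif_pos (by rw [map_mul]; exact mul_le_one' hx hy)]
  exact map_mul (IsLocalRing.residue Q.O)
    ⟨x, (Valuation.mem_valuationSubring_iff Q.1 x).mpr hx⟩
    ⟨y, (Valuation.mem_valuationSubring_iff Q.1 y).mpr hy⟩

omit [Field K] [Algebra k K] [Algebra K L] [IsScalarTower k K L] in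
lemma resO_one (Q : Place k L) : resO Q 1 = 1 := by
  unfold resO
  rw [dif_pos (by simp)]
  exact map_one _

omit [Field K] [Algebra k K] [Algebra K L] [IsScalarTower k K L] in
lemma resO_eq_iff (Q : Place k L) {x y : L} (hx : Q.1 x ≤ 1) (hy : Q.1 y ≤ 1) :
    resO Q x = resO Q y ↔ Q.1 (x - y) < 1 := by
  unfold resO
  rw [dif_pos hx, dif_pos hy, ← sub_eq_zero, ← map_sub, IsLocalRing.residue_eq_zero_iff,
    Valuation.mem_maximalIdeal_iff (v := Q.1)]
  rfl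

/-- the first ramification group `G₁` (inertia group). -/
def ramGroup (Q : Place k L) : Subgroup (L ≃ₐ[K] L) where
  carrier := {σ | InRam Q 1 σ}
  mul_mem' ha hb := inRam_mul le_rfl ha hb
  one_mem' := inRam_one Q 1
  inv_mem' ha := inRam_inv le_rfl ha

lemma mem_ramGroup {Q : Place k L} {σ : L ≃ₐ[K] L} : σ ∈ ramGroup (K := K) Q ↔ InRam Q 1 σ :=
  Iff.rfl

lemma val_ratio {Q : Place k L} {t : L} (ht : Q.1 t = exp (-1 : ℤ)) {σ : L ≃ₐ[K] L}
    (hσ : InRam Q 1 σ) : Q.1 (σ t / t) = 1 := by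
  rw [map_div₀, val_comp_eq hσ, div_self]
  rw [ht]; exact exp_ne_zero

/-- `σ ↦ σ t / t mod Q`. -/
noncomputable def ramChar (Q : Place k L) {t : L} (ht : Q.1 t = exp (-1 : ℤ)) :
    ramGroup (K := K) Q →* IsLocalRing.ResidueField Q.O where
  toFun σ := resO Q (σ.1 t / t)
  map_one' := by
    have ht0 : t ≠ 0 := unif_ne_zero ht
    change resO Q ((1 : L ≃ₐ[K] L) t / t) = 1
    rw [AlgEquiv.one_apply, div_self ht0, resO_one]
  map_mul' := by
    rintro ⟨σ, hσ⟩ ⟨τ, hτ⟩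
    have ht0 : t ≠ 0 := unif_ne_zero ht
    have hσt0 : σ t ≠ 0 := by
      intro h0
      have := val_comp_eq hσ t
      rw [h0, map_zero, ht] at this
      exact exp_ne_zero this.symm
    change resO Q ((σ * τ) t / t) = resO Q (σ t / t) * resO Q (τ t / t)
    have e : (σ * τ) t / t = σ (τ t / t) * (σ t / t) := by
      rw [AlgEquiv.mul_apply, map_div₀]
      field_simp
    have h1 : Q.1 (τ t / t) ≤ 1 := (val_ratio ht hτ).le
    have h2 : Q.1 (σ (τ t / t)) ≤ 1 := by rw [val_comp_eq hσ]; exact h1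
    rw [e, resO_mul Q h2 (val_ratio ht hσ).le, mul_comm]
    congr 1
    rw [resO_eq_iff Q h2 h1]
    exact lt_of_le_of_lt (hσ _ h1) (exp_neg_lt_one le_rfl)

lemma ramChar_eq_one_iff (Q : Place k L) [Algebra.IsSeparable k (IsLocalRing.ResidueField Q.O)]
    {t : L} (ht : Q.1 t = exp (-1 : ℤ)) (σ : ramGroup (K := K) Q) :
    ramChar Q ht σ = 1 ↔ InRam Q 2 σ.1 := by
  have ht0 : t ≠ 0 := unif_ne_zero ht
  rw [inRam_iff_unif Q σ.2 ht (by norm_num)]
  change resO Q (σ.1 t / t) = 1 ↔ _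
  rw [← resO_one Q, resO_eq_iff Q (val_ratio ht σ.2).le (by simp)]
  have e : σ.1 t / t - 1 = (σ.1 t - t) / t := by field_simp
  rw [e, map_div₀, ht, div_lt_iff₀ (by simp), one_mul, zm0_lt_exp_iff]
  norm_num

/-- S11024 core. -/
theorem ram_one_two_cyclic (Q : Place k L)
    [Algebra.IsSeparable k (IsLocalRing.ResidueField Q.O)] [Finite (L ≃ₐ[K] L)] :
    ∃ σ₀ : L ≃ₐ[K] L, InRam Q 1 σ₀ ∧ ∀ σ : L ≃ₐ[K] L, InRam Q 1 σ →
      ∃ n : ℕ, InRam Q 2 ((σ₀ ^ n)⁻¹ * σ) := by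
  obtain ⟨t, ht⟩ := exists_unif Q
  set ψ := (ramChar (K := K) Q ht).toHomUnits with hψ
  have hinj : Function.Injective
      ((Units.coeHom (IsLocalRing.ResidueField Q.O)).comp (QuotientGroup.kerLift ψ)) :=
    (Units.val_injective).comp (QuotientGroup.kerLift_injective ψ)
  haveI : IsCyclic (ramGroup (K := K) Q ⧸ ψ.ker) := isCyclic_of_injective_ringHom _ hinj
  obtain ⟨g, hg⟩ := IsCyclic.exists_monoid_generator (α := ramGroup (K := K) Q ⧸ ψ.ker)
  obtain ⟨σ₀, rfl⟩ := QuotientGroup.mk_surjective g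
  refine ⟨σ₀.1, σ₀.2, fun σ hσ => ?_⟩
  obtain ⟨n, hn⟩ := hg (QuotientGroup.mk ⟨σ, hσ⟩)
  refine ⟨n, ?_⟩
  simp only at hn
  rw [← QuotientGroup.mk_pow, QuotientGroup.eq] at hn
  have h1 : ψ ((σ₀ ^ n)⁻¹ * ⟨σ, hσ⟩) = 1 := MonoidHom.mem_ker.mp hn
  have h2 : ramChar (K := K) Q ht ((σ₀ ^ n)⁻¹ * ⟨σ, hσ⟩) = 1 := by
    have := congrArg Units.val h1
    rwa [hψ, MonoidHom.coe_toHomUnits] at this
  exact (ramChar_eq_one_iff Q ht _).mp h2

end Ram4

end Groth.Agent.Lib.LeadFF
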