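import Groth.Agent.Lib.LeadFF34

/-! Finite constant fields: finiteness of places of bounded degree, of effective divisors of given
degree, and of the divisor class group. -/

namespace Groth.Agent.Lib.LeadFF

open FunFld WithZero Polynomial

section FiniteField

variable {k K : Type*} [Field k] [Field K] [Algebra k K]

lemma resO_pow (Q : Place k K) {x : K} (hx : Q.1 x ≤ 1) (n : ℕ) :
    resO Q (x ^ n) = resO Q x ^ n := by
  induction n with
  | zero => rw [pow_zero, pow_zero, resO_one]
  | succ n ih =>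
    rw [pow_succ, pow_succ, resO_mul Q (by rw [map_pow]; exact pow_le_one' hx n) hx, ih]

variable [Finite k]

lemma residue_pow_card (hK : IsFunctionField k K) (P : Place k K) {m : ℕ} (hm : P.deg ∣ m)
    (z : IsLocalRing.ResidueField P.O) : z ^ (Nat.card k ^ m) = z := by
  haveI := residueField_finite hK P
  haveI : Finite (IsLocalRing.ResidueField P.O) := Module.finite_of_finite k
  haveI : Fintype (IsLocalRing.ResidueField P.O) := Fintype.ofFinite _
  have hcard : Fintype.card (IsLocalRing.ResidueField P.O) = Nat.card k ^ P.deg := by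
    rw [Fintype.card_eq_nat_card, Module.natCard_eq_pow_finrank (K := k)]
    rfl
  obtain ⟨r, rfl⟩ := hm
  rw [pow_mul, ← hcard]
  exact FiniteField.pow_card_pow r z

lemma val_pow_sub_lt_one (hK : IsFunctionField k K) (P : Place k K) {x : K} (hx : P.1 x ≤ 1)
    {m : ℕ} (hm : P.deg ∣ m) : P.1 (x ^ (Nat.card k ^ m) - x) < 1 := by
  rw [← resO_eq_iff P (by rw [map_pow]; exact pow_le_one' hx _) hx, resO_pow P hx]
  exact residue_pow_card hK P hm _

theorem finite_places_deg_le (hK : IsFunctionField k K) (n : ℕ) :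
    {P : Place k K | P.deg ≤ n}.Finite := by
  obtain ⟨x, hx, -⟩ := hK.1
  have hq : 2 ≤ Nat.card k := by
    haveI : Fintype k := Fintype.ofFinite k
    rw [← Fintype.card_eq_nat_card]
    exact Fintype.one_lt_card
  set N := Nat.card k ^ n.factorial with hN
  have hN2 : 2 ≤ N := by
    calc 2 ≤ Nat.card k := hq
      _ = Nat.card k ^ 1 := (pow_one _).symm
      _ ≤ N := Nat.pow_le_pow_right (by omega) (Nat.factorial_pos n)
  have hw : x ^ N - x ≠ 0 := by
    intro h0
    apply hx
    refine ⟨X ^ N - X, ?_, by simpa using h0⟩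
    intro h
    have := congrArg (fun p => Polynomial.coeff p N) h
    simp only [coeff_sub, coeff_X_pow, if_true, coeff_X, coeff_zero] at this
    rw [if_neg (by omega)] at this
    simp at this
  apply ((poles_finite' hK x).union (zeros_finite' hK hw)).subset
  intro P hP
  by_cases hPx : P.1 x ≤ 1
  · right
    exact val_pow_sub_lt_one hK P hPx (Nat.dvd_factorial (deg_pos hK P) hP)
  · left
    exact not_le.mp hPx

theorem finite_effDiv (hK : IsFunctionField k K) (n : ℕ) :
    {D : Divisor k K | 0 ≤ D ∧ D.deg = n}.Finite := by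
  classical
  set S := (finite_places_deg_le hK n).toFinset with hS
  have hkey : ∀ D : Divisor k K, 0 ≤ D → D.deg = n → ∀ P, (D P ≤ n) ∧ (D P ≠ 0 → P ∈ S) := by
    intro D hD0 hDn P
    have hterm : D P * (P.deg : ℤ) ≤ n := by
      by_cases hP : P ∈ D.support
      · rw [← hDn]
        unfold Divisor.deg Finsupp.sum
        exact Finset.single_le_sum (f := fun P => D P * (P.deg : ℤ))
          (fun Q _ => mul_nonneg (hD0 Q) (by positivity)) hP
      · rw [Finsupp.notMem_support_iff.mp hP]; simp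
    have hdeg : (1 : ℤ) ≤ P.deg := by exact_mod_cast deg_pos hK P
    have hDP : 0 ≤ D P := hD0 P
    constructor
    · nlinarith
    · intro hne
      rw [hS, Set.Finite.mem_toFinset, Set.mem_ofPred_eq]
      have : 1 ≤ D P := by omega
      have : (P.deg : ℤ) ≤ n := by nlinarith
      exact_mod_cast this
  let F : Divisor k K → (S → ℤ) := fun D P => D P.1
  apply Set.Finite.of_injOn (f := F) (t := Set.pi Set.univ (fun _ => Set.Icc (0 : ℤ) n))
  · intro D hD P _
    exact ⟨hD.1 P.1, (hkey D hD.1 hD.2 P.1).1⟩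
  · intro D hD D' hD' hFF
    ext P
    by_cases hP : P ∈ S
    · exact congrFun hFF ⟨P, hP⟩
    · have h1 : D P = 0 := by
        by_contra h; exact hP ((hkey D hD.1 hD.2 P).2 h)
      have h2 : D' P = 0 := by
        by_contra h; exact hP ((hkey D' hD'.1 hD'.2 P).2 h)
      rw [h1, h2]
  · exact Set.Finite.pi (fun _ => Set.finite_Icc _ _)

end FiniteField

section ClassGroup

variable {k K : Type*} [Field k] [Field K] [Algebra k K]

lemma prelude_degHom_apply (D : Divisor k K) : FunFld.degHom k K D = D.deg := by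
  unfold FunFld.degHom Divisor.deg
  rw [Finsupp.liftAddHom_apply]
  rfl

lemma mem_ker_degHom {D : Divisor k K} : D ∈ (FunFld.degHom k K).ker ↔ D.deg = 0 := by
  rw [AddMonoidHom.mem_ker, prelude_degHom_apply]

lemma div_one' (hK : IsFunctionField k K) : FunFld.div k (1 : K) = 0 := by
  ext P
  rw [div_apply hK]
  simp [Place.ord]

lemma mem_prinDivs (hK : IsFunctionField k K) {D : Divisor k K} :
    D ∈ prinDivs k K ↔ ∃ x : K, x ≠ 0 ∧ D = FunFld.div k x := by
  constructor
  · intro h
    unfold prinDivs at h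
    induction h using AddSubgroup.closure_induction with
    | mem D hD =>
      obtain ⟨x, rfl⟩ := hD
      by_cases hx : x = 0
      · refine ⟨1, one_ne_zero, ?_⟩
        rw [div_one' hK, hx]
        ext P
        rw [div_apply hK]
        simp [Place.ord]
      · exact ⟨x, hx, rfl⟩
    | zero => exact ⟨1, one_ne_zero, (div_one' hK).symm⟩
    | add D E _ _ hD hE =>
      obtain ⟨x, hx, rfl⟩ := hD
      obtain ⟨y, hy, rfl⟩ := hE
      exact ⟨x * y, mul_ne_zero hx hy, (div_mul hK hx hy).symm⟩
    | neg D _ hD =>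
      obtain ⟨x, hx, rfl⟩ := hD
      exact ⟨x⁻¹, inv_ne_zero hx, (div_inv hK x).symm⟩
  · rintro ⟨x, -, rfl⟩
    exact AddSubgroup.subset_closure ⟨x, rfl⟩

/-- the degree zero divisor class group. -/
abbrev Cl0 (k K : Type*) [Field k] [Field K] [Algebra k K] : Type _ :=
  (FunFld.degHom k K).ker ⧸ (prinDivs k K).addSubgroupOf (FunFld.degHom k K).ker

/-- a degree zero representative of a class. -/
noncomputable def repr0 (c : Cl0 k K) : Divisor k K := (Quotient.out c : (FunFld.degHom k K).ker).1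

lemma deg_repr0 (c : Cl0 k K) : (repr0 c).deg = 0 :=
  mem_ker_degHom.mp (Quotient.out c : (FunFld.degHom k K).ker).2

lemma mk_repr0 (c : Cl0 k K) :
    (QuotientAddGroup.mk ⟨repr0 c, mem_ker_degHom.mpr (deg_repr0 c)⟩ : Cl0 k K) = c :=
  Quotient.out_eq c

lemma class_eq_iff (hK : IsFunctionField k K) {D E : Divisor k K} (hD : D.deg = 0)
    (hE : E.deg = 0) :
    (QuotientAddGroup.mk ⟨D, mem_ker_degHom.mpr hD⟩ : Cl0 k K) =
      QuotientAddGroup.mk ⟨E, mem_ker_degHom.mpr hE⟩ ↔ ∃ x : K, x ≠ 0 ∧ E - D = FunFld.div k x := by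
  rw [QuotientAddGroup.eq, AddSubgroup.mem_addSubgroupOf, ← mem_prinDivs hK]
  have : ((-(⟨D, mem_ker_degHom.mpr hD⟩ : (FunFld.degHom k K).ker) +
      ⟨E, mem_ker_degHom.mpr hE⟩ : (FunFld.degHom k K).ker) : Divisor k K) = E - D := by
    push_cast
    abel
  rw [this]

/-- an effective divisor in the class `D₀ + c`. -/
lemma exists_eff_in_class (hK : IsFunctionField k K) (D₀ : Divisor k K)
    (hD₀ : (genus k K : ℤ) ≤ D₀.deg) (c : Cl0 k K) :
    ∃ f : K, f ≠ 0 ∧ f ∈ L (D₀ + repr0 c) := by
  haveI := L_finite hK (D₀ + repr0 c)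
  have h1 := (riemann hK).1 (D₀ + repr0 c)
  rw [deg_add, deg_repr0] at h1
  have hpos : 0 < Module.finrank k (L (D₀ + repr0 c)) := by
    unfold ell at h1
    omega
  obtain ⟨⟨f, hf⟩, hf0⟩ := Module.finrank_pos_iff_exists_ne_zero.mp hpos
  exact ⟨f, fun e => hf0 (Subtype.ext e), hf⟩

theorem finite_Cl0 [Finite k] (hK : IsFunctionField k K) : Finite (Cl0 k K) := by
  classical
  obtain ⟨P₁⟩ := nonempty_place hK
  set D₀ : Divisor k K := (genus k K) • Finsupp.single P₁ (1 : ℤ) with hD₀
  have hD₀deg : (genus k K : ℤ) ≤ D₀.deg := by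
    rw [hD₀, deg_nsmul, deg_single]
    have : (1 : ℤ) ≤ P₁.deg := by exact_mod_cast deg_pos hK P₁
    nlinarith [Int.natCast_nonneg (genus k K)]
  have hdegnn : 0 ≤ D₀.deg := le_trans (Int.natCast_nonneg _) hD₀deg
  choose f hf0 hf using exists_eff_in_class hK D₀ hD₀deg
  haveI : Finite {D : Divisor k K // 0 ≤ D ∧ D.deg = (D₀.deg.toNat : ℤ)} :=
    (finite_effDiv hK D₀.deg.toNat).to_subtype
  let Φ : Cl0 k K → {D : Divisor k K // 0 ≤ D ∧ D.deg = (D₀.deg.toNat : ℤ)} := fun c =>
    ⟨D₀ + repr0 c + FunFld.div k (f c), by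
      have := neg_le_div_of_mem_L hK (hf c) (hf0 c)
      intro P
      have := this P
      simp only [Finsupp.coe_neg, Pi.neg_apply, Finsupp.coe_add, Pi.add_apply, Finsupp.coe_zero,
        Pi.zero_apply] at this ⊢
      omega, by
      rw [deg_add, deg_add, deg_repr0, deg_div hK, Int.toNat_of_nonneg hdegnn]; ring⟩
  apply Finite.of_injective Φ
  intro c c' hcc'
  have h1 : D₀ + repr0 c + FunFld.div k (f c) = D₀ + repr0 c' + FunFld.div k (f c') :=
    congrArg Subtype.val hcc'
  rw [← mk_repr0 c, ← mk_repr0 c', class_eq_iff hK (deg_repr0 c) (deg_repr0 c')]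
  refine ⟨f c * (f c')⁻¹, mul_ne_zero (hf0 c) (inv_ne_zero (hf0 c')), ?_⟩
  rw [div_mul hK (hf0 c) (inv_ne_zero (hf0 c')), div_inv hK]
  have : repr0 c' - repr0 c = FunFld.div k (f c) - FunFld.div k (f c') := by
    have e : repr0 c' - repr0 c - (FunFld.div k (f c) - FunFld.div k (f c')) =
        (D₀ + repr0 c' + FunFld.div k (f c')) - (D₀ + repr0 c + FunFld.div k (f c)) := by abel
    rw [← h1, sub_self] at e
    exact sub_eq_zero.mp e
  rw [this]; abel

end ClassGroup

end Groth.Agent.Lib.LeadFF
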