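import Groth.Agent.Lib.LeadFF35

/-! Counting effective divisors over a finite constant field. -/

namespace Groth.Agent.Lib.LeadFF

open FunFld WithZero Polynomial

section Count

variable {k K : Type*} [Field k] [Field K] [Algebra k K]

lemma mem_L_of_neg_le_div (hK : IsFunctionField k K) {D : Divisor k K} {x : K} (hx : x ≠ 0)
    (h : -D ≤ FunFld.div k x) : x ∈ L D := by
  intro P
  have := h P
  rw [Finsupp.neg_apply, div_apply hK] at this
  rw [val_eq_exp_neg_ord P hx, exp_le_exp]
  omega

lemma div_eq_zero_iff (hK : IsFunctionField k K) {x : K} (hx : x ≠ 0) :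
    FunFld.div k x = 0 ↔ ∃ c : k, c ≠ 0 ∧ x = algebraMap k K c := by
  constructor
  · intro h
    have : x ∈ L (0 : Divisor k K) := mem_L_of_neg_le_div hK hx (by rw [h, neg_zero])
    rw [L_zero hK, Submodule.mem_one] at this
    obtain ⟨c, rfl⟩ := this
    exact ⟨c, fun h0 => hx (by rw [h0, map_zero]), rfl⟩
  · rintro ⟨c, -, rfl⟩
    exact div_eq_zero_of_mem hK ⟨c, rfl⟩

variable [Finite k]

theorem effDivCount_formula (hK : IsFunctionField k K) (n : ℕ)
    (hn : 2 * genus k K ≤ n + 1) (D₀ : Divisor k K) (hD₀ : D₀.deg = n) :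
    ((Nat.card k : ℤ) - 1) * (effDivCount k K n : ℤ) =
      (classNum k K : ℤ) * ((Nat.card k : ℤ) ^ (n + 1 - genus k K) - 1) := by
  classical
  haveI := finite_Cl0 hK
  haveI : Fintype (Cl0 k K) := Fintype.ofFinite _
  haveI : Fintype k := Fintype.ofFinite k
  have hq : 1 ≤ Nat.card k := Nat.card_pos
  set E := {D : Divisor k K // 0 ≤ D ∧ D.deg = (n : ℤ)} with hE
  haveI : Finite E := (finite_effDiv hK n).to_subtype
  haveI : Fintype E := Fintype.ofFinite _
  let T := Σ c : Cl0 k K, {f : L (D₀ + repr0 c) // f ≠ 0}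
  haveI hLfin : ∀ c : Cl0 k K, Finite (L (D₀ + repr0 c)) := fun c => by
    haveI := L_finite hK (D₀ + repr0 c)
    exact Module.finite_of_finite k
  haveI : Finite T := inferInstance
  -- cardinality of T via the classes
  have hell : ∀ c : Cl0 k K, Module.finrank k (L (D₀ + repr0 c)) = n + 1 - genus k K := by
    intro c
    have := ell_of_deg_ge hK (D₀ + repr0 c) (by rw [deg_add, deg_repr0, hD₀]; omega)
    rw [deg_add, deg_repr0, hD₀] at this
    unfold ell at this
    omega
  have hcardT : Nat.card T = Nat.card (Cl0 k K) * (Nat.card k ^ (n + 1 - genus k K) - 1) := by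
    rw [Nat.card_sigma]
    have : ∀ c : Cl0 k K, Nat.card {f : L (D₀ + repr0 c) // f ≠ 0} =
        Nat.card k ^ (n + 1 - genus k K) - 1 := by
      intro c
      haveI := L_finite hK (D₀ + repr0 c)
      haveI : Fintype (L (D₀ + repr0 c)) := Fintype.ofFinite _
      rw [← hell c, ← Module.natCard_eq_pow_finrank (K := k) (V := L (D₀ + repr0 c)),
        ← Fintype.card_eq_nat_card, ← Fintype.card_eq_nat_card, Fintype.card_subtype_compl,
        Fintype.card_subtype_eq]
    rw [Finset.sum_congr rfl (fun c _ => this c), Finset.sum_const, Finset.card_univ,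
      smul_eq_mul, Fintype.card_eq_nat_card]
  -- the map to effective divisors
  let π : T → E := fun x => ⟨D₀ + repr0 x.1 + FunFld.div k (x.2.1 : K), by
      have hf0 : (x.2.1 : K) ≠ 0 := fun e => x.2.2 (Subtype.ext e)
      have := neg_le_div_of_mem_L hK x.2.1.2 hf0
      intro P
      have := this P
      simp only [Finsupp.coe_neg, Pi.neg_apply, Finsupp.coe_add, Pi.add_apply, Finsupp.coe_zero,
        Pi.zero_apply] at this ⊢
      omega, by
      rw [deg_add, deg_add, deg_repr0, deg_div hK, hD₀]; ring⟩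
  have hfib : ∀ D : E, Nat.card {x : T // π x = D} = Nat.card k - 1 := by
    intro D
    -- a point of the fibre
    have hdeg0 : (D.1 - D₀).deg = 0 := by rw [deg_sub, D.2.2, hD₀]; ring
    set c₀ : Cl0 k K := QuotientAddGroup.mk ⟨D.1 - D₀, mem_ker_degHom.mpr hdeg0⟩ with hc₀
    obtain ⟨f₀, hf₀0, hf₀⟩ : ∃ f₀ : K, f₀ ≠ 0 ∧ D.1 - D₀ - repr0 c₀ = FunFld.div k f₀ := by
      have := (class_eq_iff hK (deg_repr0 c₀) hdeg0).mp (by rw [mk_repr0])
      exact this
    have hD : D.1 = D₀ + repr0 c₀ + FunFld.div k f₀ := by rw [← hf₀]; abel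
    have hf₀L : f₀ ∈ L (D₀ + repr0 c₀) := by
      apply mem_L_of_neg_le_div hK hf₀0
      intro P
      have := D.2.1 P
      rw [hD] at this
      simp only [Finsupp.coe_neg, Pi.neg_apply, Finsupp.coe_add, Pi.add_apply, Finsupp.coe_zero,
        Pi.zero_apply] at this ⊢
      omega
    rw [← Nat.card_units]
    let g : kˣ → {x : T // π x = D} := fun u =>
      ⟨⟨c₀, ⟨⟨(u : k) • f₀, Submodule.smul_mem _ _ hf₀L⟩, by
        intro e
        have := congrArg Subtype.val e
        simp only [Submodule.coe_zero, smul_eq_zero] at this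
        rcases this with h | h
        · exact u.ne_zero h
        · exact hf₀0 h⟩⟩, by
        apply Subtype.ext
        change D₀ + repr0 c₀ + FunFld.div k ((u : k) • f₀) = D.1
        rw [Algebra.smul_def, div_mul hK (by
          rw [Ne, map_eq_zero_iff _ (algebraMap k K).injective]; exact u.ne_zero) hf₀0,
          div_eq_zero_of_mem hK ⟨(u : k), rfl⟩, zero_add, hD]⟩
    apply (Nat.card_congr (Equiv.ofBijective g ⟨?_, ?_⟩)).symm
    · intro u u' huu'
      have h1 := congrArg (fun x : {x : T // π x = D} => ((x.1.2.1 : L (D₀ + repr0 x.1.1)) : K)) huu'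
      simp only [g] at h1
      have h2 : ((u : k) - (u' : k)) • f₀ = 0 := by rw [sub_smul, h1, sub_self]
      rcases smul_eq_zero.mp h2 with h | h
      · exact Units.ext (sub_eq_zero.mp h)
      · exact absurd h hf₀0
    · rintro ⟨⟨c, ⟨⟨f, hfL⟩, hf0⟩⟩, hx⟩
      have hf0' : f ≠ 0 := fun e => hf0 (Subtype.ext e)
      have hx' : D₀ + repr0 c + FunFld.div k f = D.1 := congrArg Subtype.val hx
      have hcc : c = c₀ := by
        rw [← mk_repr0 c, ← mk_repr0 c₀, class_eq_iff hK (deg_repr0 c) (deg_repr0 c₀)]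
        refine ⟨f * f₀⁻¹, mul_ne_zero hf0' (inv_ne_zero hf₀0), ?_⟩
        rw [div_mul hK hf0' (inv_ne_zero hf₀0), div_inv hK]
        have e : repr0 c₀ - repr0 c - (FunFld.div k f - FunFld.div k f₀) =
            (D₀ + repr0 c₀ + FunFld.div k f₀) - (D₀ + repr0 c + FunFld.div k f) := by abel
        rw [hx', ← hD, sub_self] at e
        rw [sub_eq_zero.mp e]; abel
      subst hcc
      have hdiv : FunFld.div k (f * f₀⁻¹) = 0 := by
        rw [div_mul hK hf0' (inv_ne_zero hf₀0), div_inv hK]
        have e : FunFld.div k f - FunFld.div k f₀ =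
            (D₀ + repr0 c₀ + FunFld.div k f) - (D₀ + repr0 c₀ + FunFld.div k f₀) := by abel
        rw [hx', ← hD, sub_self] at e
        rw [← sub_eq_add_neg, e]
      obtain ⟨u, hu0, hu⟩ := (div_eq_zero_iff hK (mul_ne_zero hf0' (inv_ne_zero hf₀0))).mp hdiv
      refine ⟨Units.mk0 u hu0, ?_⟩
      apply Subtype.ext
      simp only [g]
      refine Sigma.ext rfl (heq_of_eq ?_)
      apply Subtype.ext
      apply Subtype.ext
      simp only [Units.val_mk0]
      rw [Algebra.smul_def, ← hu]
      field_simp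
  have hcardT2 : Nat.card T = Nat.card E * (Nat.card k - 1) := by
    rw [Nat.card_congr (Equiv.sigmaFiberEquiv π).symm, Nat.card_sigma,
      Finset.sum_congr rfl (fun D _ => hfib D), Finset.sum_const, Finset.card_univ, smul_eq_mul,
      Fintype.card_eq_nat_card]
  have hfinal : Nat.card E * (Nat.card k - 1) =
      Nat.card (Cl0 k K) * (Nat.card k ^ (n + 1 - genus k K) - 1) := by
    rw [← hcardT2, hcardT]
  have hpow : 1 ≤ Nat.card k ^ (n + 1 - genus k K) := Nat.one_le_pow _ _ hq
  have hz := congrArg (fun m : ℕ => (m : ℤ)) hfinal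
  simp only [Nat.cast_mul, Nat.cast_sub hq, Nat.cast_sub hpow, Nat.cast_pow, Nat.cast_one] at hz
  unfold effDivCount classNum
  rw [mul_comm]
  exact hz

end Count

end Groth.Agent.Lib.LeadFF
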