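import Groth.Agent.Lib.LeadFF36

/-! Residue degrees grow in extensions; places of the rational function field at irreducible
polynomials; ramified places of hyperelliptic fields. -/

namespace Groth.Agent.Lib.LeadFF

open FunFld WithZero Polynomial

section ResDeg

variable {k K K' : Type*} [Field k] [Field K] [Field K'] [Algebra k K] [Algebra K K']
  [Algebra k K'] [IsScalarTower k K K'] [FiniteDimensional K K']

/-- the local homomorphism `O_P → O_Q` for `Q` over `P`. -/
def overHom {Q : Place k K'} {P : Place k K} {e : ℕ} (h : IsOverWith Q P e) : P.O →+* Q.O where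
  toFun x := ⟨algebraMap K K' x.1, by
    rw [Valuation.mem_valuationSubring_iff, h x.1]
    exact pow_le_one' ((Valuation.mem_valuationSubring_iff _ _).mp x.2) e⟩
  map_one' := Subtype.ext (map_one _)
  map_mul' a b := Subtype.ext (map_mul _ _ _)
  map_zero' := Subtype.ext (map_zero _)
  map_add' a b := Subtype.ext (map_add _ _ _)

instance overHom_isLocalHom {Q : Place k K'} {P : Place k K} {e : ℕ} (h : IsOverWith Q P e) :
    IsLocalHom (overHom h) := by
  constructor
  intro a ha
  have he := isOverWith_pos h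
  have h1 : Q.1 (algebraMap K K' a.1) = 1 := by
    have := (Valuation.integer.integers Q.1).isUnit_iff_valuation_eq_one.mp ha
    exact this
  rw [h a.1] at h1
  have h2 : P.1 a.1 = 1 := by
    rcases lt_trichotomy (P.1 a.1) 1 with h3 | h3 | h3
    · exact absurd h1 (pow_lt_one' h3 he.ne').ne
    · exact h3
    · exact absurd h1 (one_lt_pow' h3 he.ne').ne'
  exact (Valuation.integer.integers P.1).isUnit_iff_valuation_eq_one.mpr h2

theorem deg_le_of_isOver (hK' : LeadFG.IsFF k K') {Q : Place k K'} {P : Place k K} {e : ℕ}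
    (h : IsOverWith Q P e) : P.deg ≤ Q.deg := by
  haveI := LeadFG.residueField_finite hK' Q
  let φ := IsLocalRing.ResidueField.map (overHom h)
  let ψ : IsLocalRing.ResidueField P.O →ₗ[k] IsLocalRing.ResidueField Q.O :=
    { toFun := φ
      map_add' := map_add φ
      map_smul' := by
        intro c z
        obtain ⟨w, rfl⟩ := IsLocalRing.residue_surjective z
        change φ (IsLocalRing.residue _ (c • w)) = c • φ (IsLocalRing.residue _ w)
        rw [IsLocalRing.ResidueField.map_residue, IsLocalRing.ResidueField.map_residue]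
        change _ = IsLocalRing.residue _ (c • overHom h w)
        congr 1
        rw [Algebra.smul_def, Algebra.smul_def, map_mul]
        congr 1
        apply Subtype.ext
        change algebraMap K K' (algebraMap k K c) = algebraMap k K' c
        rw [← IsScalarTower.algebraMap_apply] }
  exact LinearMap.finrank_le_finrank_of_injective (f := ψ) φ.injective

end ResDeg

section RatFuncPlaces

variable {k : Type*} [Field k]

lemma isFunctionField_ratFunc : IsFunctionField k (RatFunc k) := by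
  refine ⟨⟨RatFunc.X, RatFunc.transcendental_X, ?_⟩, ?_⟩
  · rw [RatFunc.adjoin_X]
    apply Module.finite_of_finrank_pos
    rw [IntermediateField.finrank_top]
    exact one_pos
  · intro y hy
    by_contra hne
    apply RatFunc.transcendental_of_ne_C (f := y) _ hy
    rintro ⟨c, hc⟩
    exact hne ⟨c, by rw [hc, RatFunc.algebraMap_eq_C]⟩

/-- valuation of a polynomial at a pole of `X`. -/
lemma one_le_val_poly_of_pole {Γ₀ : Type*} [LinearOrderedCommGroupWithZero Γ₀]
    {K : Type*} [Field K] [Algebra k K] {v : Valuation K Γ₀} (hk : TrivOn k v) {x : K}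
    (hx : 1 < v x) {p : k[X]} (hp : p ≠ 0) : 1 ≤ v (aeval x p) := by
  have hx0 : x ≠ 0 := by rintro rfl; simp at hx
  letI := invertibleOfNonzero hx0
  have h1 := eval₂_reverse_mul_pow (algebraMap k K) x p
  rw [invOf_eq_inv] at h1
  rw [aeval_def, ← h1, map_mul, map_pow]
  have hxi : v x⁻¹ < 1 := by
    rw [map_inv₀]
    exact inv_lt_one_of_one_lt₀ hx
  have h2 := val_aeval_sub_coeff_zero_lt hk hxi p.reverse
  rw [coeff_zero_reverse] at h2
  have hlc : v (algebraMap k K p.leadingCoeff) = 1 := hk _ (leadingCoeff_ne_zero.mpr hp)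
  have h3 : v (aeval x⁻¹ p.reverse) = 1 := by
    have e : aeval x⁻¹ p.reverse =
        (aeval x⁻¹ p.reverse - algebraMap k K p.leadingCoeff) + algebraMap k K p.leadingCoeff := by
      ring
    rw [e, Valuation.map_add_eq_of_lt_right _ (by rw [hlc]; exact h2), hlc]
  rw [← aeval_def, h3, one_mul]
  exact one_le_pow_of_one_le' hx.le _

variable (P₀ : Place k (RatFunc k)) {p : k[X]} (hp : Irreducible p)
  (hP₀ : P₀.1 (algebraMap k[X] (RatFunc k) p) < 1)

include hp hP₀ in
lemma val_X_le_one : P₀.1 (RatFunc.X : RatFunc k) ≤ 1 := by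
  by_contra h
  rw [not_le] at h
  have hp0 : p ≠ 0 := hp.ne_zero
  have := one_le_val_poly_of_pole (place_trivOn P₀) h hp0
  rw [RatFunc.aeval_X_left_eq_algebraMap] at this
  exact absurd hP₀ (not_lt.mpr this)

include hp hP₀ in
lemma val_poly_le_one (a : k[X]) : P₀.1 (algebraMap k[X] (RatFunc k) a) ≤ 1 := by
  rw [← RatFunc.aeval_X_left_eq_algebraMap]
  exact val_aeval_le_one (place_trivOn P₀) (val_X_le_one P₀ hp hP₀) a

include hp hP₀ in
lemma val_poly_eq_one_of_not_dvd {a : k[X]} (ha : ¬ p ∣ a) :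
    P₀.1 (algebraMap k[X] (RatFunc k) a) = 1 := by
  have hcop : IsCoprime p a := (Irreducible.coprime_iff_not_dvd hp).mpr ha
  obtain ⟨u, w, huw⟩ := hcop
  apply le_antisymm (val_poly_le_one P₀ hp hP₀ a)
  by_contra hlt
  rw [not_le] at hlt
  have h1 : P₀.1 (algebraMap k[X] (RatFunc k) (u * p + w * a)) < 1 := by
    rw [map_add, map_mul, map_mul]
    apply lt_of_le_of_lt (P₀.1.map_add _ _)
    apply max_lt
    · rw [map_mul]
      calc P₀.1 (algebraMap k[X] (RatFunc k) u) * P₀.1 (algebraMap k[X] (RatFunc k) p)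
          ≤ 1 * P₀.1 (algebraMap k[X] (RatFunc k) p) := mul_le_mul' (val_poly_le_one P₀ hp hP₀ u) le_rfl
        _ < 1 := by rwa [one_mul]
    · rw [map_mul]
      calc P₀.1 (algebraMap k[X] (RatFunc k) w) * P₀.1 (algebraMap k[X] (RatFunc k) a)
          ≤ 1 * P₀.1 (algebraMap k[X] (RatFunc k) a) := mul_le_mul' (val_poly_le_one P₀ hp hP₀ w) le_rfl
        _ < 1 := by rwa [one_mul]
  rw [huw, map_one, map_one] at h1
  exact lt_irrefl _ h1

include hp hP₀ in
lemma val_poly_eq_pow {a : k[X]} (ha : a ≠ 0) :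
    ∃ i : ℕ, P₀.1 (algebraMap k[X] (RatFunc k) a) =
      P₀.1 (algebraMap k[X] (RatFunc k) p) ^ i := by
  have hfin : FiniteMultiplicity p a := FiniteMultiplicity.of_not_isUnit hp.not_isUnit ha
  obtain ⟨c, hc, hnd⟩ := hfin.exists_eq_pow_mul_and_not_dvd
  refine ⟨multiplicity p a, ?_⟩
  conv_lhs => rw [hc]
  rw [map_mul, map_pow, map_mul, map_pow, val_poly_eq_one_of_not_dvd P₀ hp hP₀ hnd, mul_one]

include hp hP₀ in
/-- `p` is a uniformizer at its place. -/
theorem val_irreducible : P₀.1 (algebraMap k[X] (RatFunc k) p) = exp (-1 : ℤ) := by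
  set π := P₀.1 (algebraMap k[X] (RatFunc k) p) with hπ
  have hp0 : p ≠ 0 := hp.ne_zero
  have hπ0 : π ≠ 0 := by
    rw [hπ, Ne, map_eq_zero, map_eq_zero_iff _ (IsFractionRing.injective k[X] (RatFunc k))]
    exact hp0
  obtain ⟨c, hc⟩ : ∃ c : ℤ, π = exp c := ⟨log π, (exp_log hπ0).symm⟩
  have hc0 : c < 0 := by
    have := hP₀
    rw [hc, ← exp_zero, exp_lt_exp] at this
    exact this
  obtain ⟨z, hz⟩ := P₀.2.2 (exp (-1 : ℤ))
  have hz0 : z ≠ 0 := by rintro rfl; rw [map_zero] at hz; exact exp_ne_zero hz.symm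
  have hnum0 : z.num ≠ 0 := RatFunc.num_ne_zero hz0
  have hden0 : z.denom ≠ 0 := RatFunc.denom_ne_zero z
  obtain ⟨i, hi⟩ := val_poly_eq_pow P₀ hp hP₀ hnum0
  obtain ⟨j, hj⟩ := val_poly_eq_pow P₀ hp hP₀ hden0
  rw [← RatFunc.num_div_denom z, map_div₀, hi, hj, ← hπ, hc, zm0_exp_pow, zm0_exp_pow,
    ← exp_sub, exp_inj] at hz
  rw [hc]
  congr 1
  have h1 : c * ((i : ℤ) - j) = -1 := by rw [← hz]; ring
  have h2 : (1 : ℤ) ≤ (i : ℤ) - j := by
    by_contra h
    have h3 : (i : ℤ) - j ≤ 0 := by omega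
    nlinarith [mul_nonneg_of_nonpos_of_nonpos hc0.le h3]
  nlinarith [mul_le_mul_of_nonpos_left h2 hc0.le]

end RatFuncPlaces

end Groth.Agent.Lib.LeadFF
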