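import Groth.Agent.Lib.LeadFF37

/-! Ramified places of hyperelliptic function fields (S11034). -/

namespace Groth.Agent.Lib.LeadFF

open FunFld WithZero Polynomial

section Hyperelliptic

variable {k K : Type*} [Field k] [Field K] [Algebra k K] [Algebra (RatFunc k) K]
  [IsScalarTower k (RatFunc k) K]

theorem hyperelliptic_ramified (hdeg : Module.finrank (RatFunc k) K = 2) (y : K) (f : k[X])
    (hf : Squarefree f)
    (heq : y ^ 2 = algebraMap (RatFunc k) K (algebraMap k[X] (RatFunc k) f))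
    (p : k[X]) (hp : Irreducible p) (hpf : p ∣ f) (P₀ : Place k (RatFunc k))
    (hP₀ : P₀.1 (algebraMap k[X] (RatFunc k) p) < 1) :
    (∃! P : Place k K, IsOver P P₀) ∧
      ∀ P : Place k K, IsOver P P₀ → IsOverWith P P₀ 2 ∧ P.deg = P₀.deg := by
  classical
  haveI : FiniteDimensional (RatFunc k) K :=
    Module.finite_of_finrank_pos (by rw [hdeg]; norm_num)
  have hK₀ : IsFunctionField k (RatFunc k) := isFunctionField_ratFunc
  have hK' : LeadFG.IsFF k K := isFF_of_finite hK₀
  -- the valuation of f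
  have hvf : P₀.1 (algebraMap k[X] (RatFunc k) f) = exp (-1 : ℤ) := by
    obtain ⟨f₁, rfl⟩ := hpf
    have hnd : ¬ p ∣ f₁ := by
      intro hd
      have : p * p ∣ p * f₁ := mul_dvd_mul_left p hd
      exact hp.not_isUnit (hf p this)
    rw [map_mul, map_mul, val_irreducible P₀ hp hP₀, val_poly_eq_one_of_not_dvd P₀ hp hP₀ hnd,
      mul_one]
  have key : ∀ (P : Place k K) (e : ℕ), IsOverWith P P₀ e → 2 ≤ e ∧ 2 ∣ e := by
    intro P e he
    have h1 : P.1 y ^ 2 = exp (-(e : ℤ)) := by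
      rw [← map_pow, heq, he, hvf, zm0_exp_pow, mul_neg_one]
    have hy0 : P.1 y ≠ 0 := by
      intro h0
      rw [h0, zero_pow two_ne_zero] at h1
      exact exp_ne_zero h1.symm
    obtain ⟨m, hm⟩ : ∃ m : ℤ, P.1 y = exp m := ⟨log (P.1 y), (exp_log hy0).symm⟩
    rw [hm, zm0_exp_pow, exp_inj] at h1
    have he0 := isOverWith_pos he
    push_cast at h1
    constructor
    · omega
    · omega
  have hfin := finite_over (K' := K) hK₀ P₀
  have hsum := sum_ramIdx_deg (K' := K) hK₀ P₀ hfin.toFinset (by intro Q; simp)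
  rw [hdeg] at hsum
  set d := P₀.deg with hd
  have hd1 : 1 ≤ d := deg_pos hK₀ P₀
  have hterm : ∀ P ∈ hfin.toFinset, 2 * d ≤ ramIdx P P₀ * P.deg := by
    intro P hP
    have hP' : IsOver P P₀ := by simpa using hP
    obtain ⟨e, he⟩ := hP'
    rw [ramIdx_eq he]
    exact Nat.mul_le_mul (key P e he).1 (deg_le_of_isOver hK' he)
  have hcard : hfin.toFinset.card ≤ 1 := by
    have := Finset.card_nsmul_le_sum hfin.toFinset _ (2 * d) hterm
    rw [hsum, smul_eq_mul] at this
    by_contra hgt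
    rw [not_le] at hgt
    have : 2 * (2 * d) ≤ 2 * d := le_trans (Nat.mul_le_mul_right _ hgt) this
    omega
  have hne : hfin.toFinset.Nonempty := by
    by_contra hemp
    rw [Finset.not_nonempty_iff_eq_empty] at hemp
    rw [hemp, Finset.sum_empty] at hsum
    omega
  obtain ⟨P₁, hP₁⟩ := hne
  have hS : hfin.toFinset = {P₁} := by
    apply Finset.eq_singleton_iff_unique_mem.mpr
    exact ⟨hP₁, fun Q hQ => Finset.card_le_one.mp hcard Q hQ P₁ hP₁⟩
  have hP₁' : IsOver P₁ P₀ := by simpa using hP₁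
  obtain ⟨e₁, he₁⟩ := hP₁'
  rw [hS, Finset.sum_singleton, ramIdx_eq he₁] at hsum
  have h2e := key P₁ e₁ he₁
  have hdle := deg_le_of_isOver hK' he₁
  have he2 : e₁ = 2 := by
    by_contra hne2
    have h3 : 3 ≤ e₁ := by omega
    have : 3 * d ≤ e₁ * P₁.deg := Nat.mul_le_mul h3 hdle
    omega
  have hdeq : P₁.deg = d := by
    rw [he2] at hsum
    omega
  have huniq : ∀ P : Place k K, IsOver P P₀ → P = P₁ := by
    intro P hP
    have : P ∈ hfin.toFinset := by simpa using hP
    rw [hS, Finset.mem_singleton] at this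
    exact this
  refine ⟨⟨P₁, ⟨e₁, he₁⟩, fun P hP => huniq P hP⟩, fun P hP => ?_⟩
  rw [huniq P hP, ← he2]
  exact ⟨he₁, hdeq⟩

end Hyperelliptic

end Groth.Agent.Lib.LeadFF
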