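import Groth.Agent.Lib.LeadFF39

/-! Intermediate fields of function fields. -/

open Polynomial TensorProduct FunFld

namespace Groth.Agent.Lib.LeadFF

universe u v

theorem isFunctionField_intermediate {k : Type*} {K : Type*} [Field k] [Field K] [Algebra k K]
    (hK : FunFld.IsFunctionField k K) (K₀ : IntermediateField k K)
    (h₀ : ∃ x ∈ K₀, Transcendental k x) :
    FiniteDimensional K₀ K ∧ FunFld.IsFunctionField k K₀ := by
  obtain ⟨x, hx, hxt⟩ := h₀
  haveI hfin := finite_over_adjoin hK hxt
  have hle : IntermediateField.adjoin k {x} ≤ K₀ := by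
    rw [IntermediateField.adjoin_le_iff]
    intro y hy
    rw [Set.mem_singleton_iff] at hy
    rw [hy]; exact hx
  haveI hfin₀ : FiniteDimensional K₀ K := by
    have := IntermediateField.finiteDimensional_right (IntermediateField.extendScalars hle)
    exact this
  refine ⟨hfin₀, ⟨⟨⟨x, hx⟩, ?_, ?_⟩, ?_⟩⟩
  · rw [← transcendental_algebraMap_iff (algebraMap K₀ K).injective]
    exact hxt
  · apply Module.finite_of_finrank_pos
    have h1 := finrank_adjoin_map (k := k) (K := K₀) (K' := K) ⟨x, hx⟩
    have h2 : (0 : ℕ) < Module.finrank (IntermediateField.adjoin k ({x} : Set K)) K :=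
      Module.finrank_pos
    have h3 : algebraMap K₀ K ⟨x, hx⟩ = x := rfl
    rw [h3] at h1
    rw [h1] at h2
    exact Nat.pos_of_mul_pos_right h2
  · intro y hy
    have : IsAlgebraic k (y : K) := by
      obtain ⟨p, hp0, hp⟩ := hy
      refine ⟨p, hp0, ?_⟩
      have := congrArg (algebraMap K₀ K) hp
      rw [map_zero, ← Polynomial.aeval_algebraMap_apply] at this
      exact this
    obtain ⟨c, hc⟩ := hK.2 _ this
    exact ⟨c, Subtype.ext hc⟩

theorem isGeometric_intermediate {k : Type u} {K : Type v} [Field k] [Field K] [Algebra k K]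
    (hg : FunFld.IsGeometric k K) (K₀ : IntermediateField k K) :
    FunFld.IsGeometric k K₀ := by
  intro k' _ _ hfd
  haveI := hfd
  have hF := hg k' hfd
  haveI : IsDomain (k' ⊗[k] K) := hF.isDomain
  let f : k' ⊗[k] K₀ →ₐ[k] k' ⊗[k] K := Algebra.TensorProduct.map (AlgHom.id k k') K₀.val
  have hf : Function.Injective f := by
    have := Module.Flat.lTensor_preserves_injective_linearMap (M := k') K₀.val.toLinearMap
      K₀.val.injective
    exact this
  haveI : IsDomain (k' ⊗[k] K₀) := Function.Injective.isDomain f.toRingHom hf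
  exact Algebra.TensorProduct.isField_of_isAlgebraic k k' K₀ (Or.inl inferInstance)

end Groth.Agent.Lib.LeadFF
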