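import Groth.Agent.Lib.LeadFF41

/-! The infinite place of `k(x)` and hyperelliptic fields. -/

namespace Groth.Agent.Lib.LeadFF

open FunFld WithZero Polynomial

section Pole

variable {k : Type*} [Field k]

/-- value of a polynomial at a pole of `x`. -/
lemma val_poly_of_pole {Γ₀ : Type*} [LinearOrderedCommGroupWithZero Γ₀]
    {K : Type*} [Field K] [Algebra k K] {v : Valuation K Γ₀} (hk : TrivOn k v) {x : K}
    (hx : 1 < v x) {p : k[X]} (hp : p ≠ 0) : v (aeval x p) = v x ^ p.natDegree := by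
  have hx0 : x ≠ 0 := by rintro rfl; simp at hx
  letI := invertibleOfNonzero hx0
  have h1 := eval₂_reverse_mul_pow (algebraMap k K) x p
  rw [invOf_eq_inv] at h1
  rw [aeval_def, ← h1, map_mul, map_pow]
  have hxi : v x⁻¹ < 1 := by
    rw [map_inv₀]
    exact inv_lt_one_of_one_lt₀ hx
  have h2 := val_aeval_sub_coeff_zero_lt hk hxi p.reverse
  rw [coeff_zero_reverse] at h2
  have hlc : v (algebraMap k K p.leadingCoeff) = 1 := hk _ (leadingCoeff_ne_zero.mpr hp)
  have h3 : v (aeval x⁻¹ p.reverse) = 1 := by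
    have e : aeval x⁻¹ p.reverse =
        (aeval x⁻¹ p.reverse - algebraMap k K p.leadingCoeff) + algebraMap k K p.leadingCoeff := by
      ring
    rw [e, Valuation.map_add_eq_of_lt_right _ (by rw [hlc]; exact h2), hlc]
  rw [← aeval_def, h3, one_mul]

variable (Pinf : Place k (RatFunc k)) (hinf : Pinf.ord (RatFunc.X : RatFunc k) < 0)

include hinf in
lemma val_X_inf_gt : 1 < Pinf.1 (RatFunc.X : RatFunc k) := by
  rw [val_eq_exp_neg_ord Pinf RatFunc.X_ne_zero, ← exp_zero, exp_lt_exp]; omega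

include hinf in
lemma ord_X_inf : Pinf.ord (RatFunc.X : RatFunc k) = -1 := by
  have hX0 : (RatFunc.X : RatFunc k) ≠ 0 := RatFunc.X_ne_zero
  have hXi0 : (RatFunc.X : RatFunc k)⁻¹ ≠ 0 := inv_ne_zero hX0
  have hlt : Pinf.1 (RatFunc.X : RatFunc k)⁻¹ < 1 := by
    rw [map_inv₀]; exact inv_lt_one_of_one_lt₀ (val_X_inf_gt Pinf hinf)
  obtain ⟨t, ht⟩ := exists_unif Pinf
  have ht0 := unif_ne_zero ht
  have hmem : t ∈ IntermediateField.adjoin k {(RatFunc.X : RatFunc k)⁻¹} := by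
    rw [adjoin_inv, RatFunc.adjoin_X]; trivial
  obtain ⟨m, hm⟩ := val_rat (place_trivOn Pinf) hXi0 hlt hmem ht0
  rw [ht, val_eq_exp_neg_ord Pinf hXi0, zm0_exp_zpow, exp_inj, ord_inv] at hm
  rw [neg_neg] at hm
  have h1 : Pinf.ord (RatFunc.X : RatFunc k) * m = -1 := by rw [mul_comm]; exact hm.symm
  have hdvd : Pinf.ord (RatFunc.X : RatFunc k) ∣ -1 := ⟨m, h1.symm⟩
  have := Int.eq_one_or_neg_one_of_mul_eq_neg_one' h1
  omega

include hinf in
lemma deg_inf : Pinf.deg = 1 := by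
  have hX0 : (RatFunc.X : RatFunc k) ≠ 0 := RatFunc.X_ne_zero
  have hXi0 : (RatFunc.X : RatFunc k)⁻¹ ≠ 0 := inv_ne_zero hX0
  have hlt : Pinf.1 (RatFunc.X : RatFunc k)⁻¹ < 1 := by
    rw [map_inv₀]; exact inv_lt_one_of_one_lt₀ (val_X_inf_gt Pinf hinf)
  unfold Place.deg
  rw [finrank_eq_one_iff_of_nonzero' (1 : IsLocalRing.ResidueField Pinf.O) one_ne_zero]
  intro w
  obtain ⟨⟨g, hgO⟩, rfl⟩ := IsLocalRing.residue_surjective w
  have hg1 : Pinf.1 g ≤ 1 := (Valuation.mem_valuationSubring_iff Pinf.1 g).mp hgO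
  have hmem : g ∈ IntermediateField.adjoin k {(RatFunc.X : RatFunc k)⁻¹} := by
    rw [adjoin_inv, RatFunc.adjoin_X]; trivial
  obtain ⟨c, hc⟩ := residue_rat (place_trivOn Pinf) hXi0 hlt hmem hg1
  refine ⟨c, ?_⟩
  have hcO : algebraMap k (RatFunc k) c ∈ Pinf.O :=
    (Valuation.mem_valuationSubring_iff Pinf.1 _).mpr (Pinf.2.1 c)
  have h1 : IsLocalRing.residue Pinf.O (⟨g, hgO⟩ - ⟨algebraMap k (RatFunc k) c, hcO⟩) = 0 := by
    rw [IsLocalRing.residue_eq_zero_iff]
    exact (Valuation.mem_maximalIdeal_iff (v := Pinf.1)).mpr hc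
  rw [map_sub, sub_eq_zero] at h1
  have h3 : algebraMap k (IsLocalRing.ResidueField Pinf.O) c =
      IsLocalRing.residue Pinf.O ⟨algebraMap k (RatFunc k) c, hcO⟩ := rfl
  rw [h1, ← h3, Algebra.algebraMap_eq_smul_one]
  rfl

include hinf in
lemma ord_poly_inf {f : k[X]} (hf : f ≠ 0) :
    Pinf.ord (algebraMap k[X] (RatFunc k) f) = -(f.natDegree : ℤ) := by
  have h1 := val_poly_of_pole (place_trivOn Pinf) (val_X_inf_gt Pinf hinf) hf
  rw [RatFunc.aeval_X_left_eq_algebraMap] at h1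
  unfold Place.ord at *
  rw [h1, WithZero.log_pow]
  have : log (Pinf.1 (RatFunc.X : RatFunc k)) = 1 := by
    have := ord_X_inf Pinf hinf
    unfold Place.ord at this
    omega
  rw [this]; simp

end Pole

section TotRam

variable {k K₀ K : Type*} [Field k] [Field K₀] [Field K] [Algebra k K₀] [Algebra K₀ K]
  [Algebra k K] [IsScalarTower k K₀ K] [FiniteDimensional K₀ K]

/-- in a quadratic extension, a place all of whose extensions are ramified is totally ramified. -/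
theorem totally_ramified_of_two_le (hK₀ : IsFunctionField k K₀)
    (hdeg : Module.finrank K₀ K = 2) (P₀ : Place k K₀)
    (key : ∀ (P : Place k K) (e : ℕ), IsOverWith P P₀ e → 2 ≤ e) :
    (∃! P : Place k K, IsOver P P₀) ∧
      ∀ P : Place k K, IsOver P P₀ → IsOverWith P P₀ 2 ∧ P.deg = P₀.deg := by
  classical
  have hK' : LeadFG.IsFF k K := isFF_of_finite hK₀
  have hfin := finite_over (K' := K) hK₀ P₀
  have hsum := sum_ramIdx_deg (K' := K) hK₀ P₀ hfin.toFinset (by intro Q; simp)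
  rw [hdeg] at hsum
  set d := P₀.deg with hd
  have hd1 : 1 ≤ d := deg_pos hK₀ P₀
  have hterm : ∀ P ∈ hfin.toFinset, 2 * d ≤ ramIdx P P₀ * P.deg := by
    intro P hP
    have hP' : IsOver P P₀ := by simpa using hP
    obtain ⟨e, he⟩ := hP'
    rw [ramIdx_eq he]
    exact Nat.mul_le_mul (key P e he) (deg_le_of_isOver hK' he)
  have hcard : hfin.toFinset.card ≤ 1 := by
    have := Finset.card_nsmul_le_sum hfin.toFinset _ (2 * d) hterm
    rw [hsum, smul_eq_mul] at this
    by_contra hgt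
    rw [not_le] at hgt
    have : 2 * (2 * d) ≤ 2 * d := le_trans (Nat.mul_le_mul_right _ hgt) this
    omega
  have hne : hfin.toFinset.Nonempty := by
    by_contra hemp
    rw [Finset.not_nonempty_iff_eq_empty] at hemp
    rw [hemp, Finset.sum_empty] at hsum
    omega
  obtain ⟨P₁, hP₁⟩ := hne
  have hS : hfin.toFinset = {P₁} := by
    apply Finset.eq_singleton_iff_unique_mem.mpr
    exact ⟨hP₁, fun Q hQ => Finset.card_le_one.mp hcard Q hQ P₁ hP₁⟩
  have hP₁' : IsOver P₁ P₀ := by simpa using hP₁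
  obtain ⟨e₁, he₁⟩ := hP₁'
  rw [hS, Finset.sum_singleton, ramIdx_eq he₁] at hsum
  have h2e := key P₁ e₁ he₁
  have hdle := deg_le_of_isOver hK' he₁
  have he2 : e₁ = 2 := by
    by_contra hne2
    have h3 : 3 ≤ e₁ := by omega
    have : 3 * d ≤ e₁ * P₁.deg := Nat.mul_le_mul h3 hdle
    omega
  have hdeq : P₁.deg = d := by
    rw [he2] at hsum
    omega
  have huniq : ∀ P : Place k K, IsOver P P₀ → P = P₁ := by
    intro P hP
    have : P ∈ hfin.toFinset := by simpa using hP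
    rw [hS, Finset.mem_singleton] at this
    exact this
  refine ⟨⟨P₁, ⟨e₁, he₁⟩, fun P hP => huniq P hP⟩, fun P hP => ?_⟩
  rw [huniq P hP, ← he2]
  exact ⟨he₁, hdeq⟩

/-- if `z ∈ K` is a unit at `P`, `z² ∈ K₀`, `K = K₀ + K₀ z` and `2 ≠ 0`, then `P` is unramified. -/
theorem unramified_of_unit_sqrt (h2 : (2 : K₀) ≠ 0) {P : Place k K} {P₀ : Place k K₀} {e : ℕ}
    (he : IsOverWith P P₀ e) (z : K) (u : K₀) (hzu : z ^ 2 = algebraMap K₀ K u) (hz1 : P.1 z = 1)
    (hspan : ∀ w : K, ∃ α β : K₀, w = algebraMap K₀ K α + algebraMap K₀ K β * z) : e = 1 := by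
  have he0 := isOverWith_pos he
  by_contra hne
  have he2 : 2 ≤ e := by omega
  -- values on K₀ are in eℤ
  have hval : ∀ a : K₀, a ≠ 0 → ∃ r : ℤ, P.1 (algebraMap K₀ K a) = exp ((e : ℤ) * r) := by
    intro a ha
    refine ⟨-P₀.ord a, ?_⟩
    rw [he a, val_eq_exp_neg_ord P₀ ha, zm0_exp_pow]
  obtain ⟨π, hπ⟩ := exists_unif P
  obtain ⟨α, β, hπe⟩ := hspan π
  have h2K : P.1 (algebraMap K₀ K 2) = 1 := by
    obtain ⟨r, hr⟩ := hval 2 h2
    have h3 : P.1 (algebraMap K₀ K 2) ≤ 1 := by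
      rw [map_ofNat]
      have : (2 : K) = algebraMap k K 2 := by rw [map_ofNat]
      rw [this]; exact P.2.1 2
    have h4 : (2 : K₀) = algebraMap k K₀ 2 := by rw [map_ofNat]
    have h20 : (2 : k) ≠ 0 := by
      intro h0; apply h2; rw [h4, h0, map_zero]
    rw [h4, ← IsScalarTower.algebraMap_apply]
    exact place_trivOn P 2 h20
  by_cases hβ : β = 0
  · subst hβ
    rw [map_zero, zero_mul, add_zero] at hπe
    have hα : α ≠ 0 := by rintro rfl; rw [map_zero] at hπe; exact unif_ne_zero hπ hπe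
    obtain ⟨r, hr⟩ := hval α hα
    rw [hπe, hr, exp_inj] at hπ
    have : (e : ℤ) ∣ -1 := ⟨r, hπ.symm⟩
    have := Int.le_of_dvd (by norm_num) ((Int.dvd_neg).mp this)
    omega
  by_cases hα : α = 0
  · subst hα
    rw [map_zero, zero_add] at hπe
    obtain ⟨r, hr⟩ := hval β hβ
    rw [hπe, map_mul, hz1, mul_one, hr, exp_inj] at hπ
    have : (e : ℤ) ∣ -1 := ⟨r, hπ.symm⟩
    have := Int.le_of_dvd (by norm_num) ((Int.dvd_neg).mp this)
    omega
  obtain ⟨r, hr⟩ := hval α hα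
  obtain ⟨s, hs⟩ := hval β hβ
  have hβz : P.1 (algebraMap K₀ K β * z) = exp ((e : ℤ) * s) := by rw [map_mul, hz1, mul_one, hs]
  have hne1 : ∀ r : ℤ, (e : ℤ) * r ≠ -1 := by
    intro r h
    have : (e : ℤ) ∣ -1 := ⟨r, h.symm⟩
    have := Int.le_of_dvd (by norm_num) ((Int.dvd_neg).mp this)
    omega
  -- r = s
  have hrs : r = s := by
    by_contra hrs
    rcases lt_or_gt_of_ne hrs with h | h
    · -- α smaller value
      have : P.1 π = exp ((e : ℤ) * s) := by
        rw [hπe, Valuation.map_add_eq_of_lt_right, hβz]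
        rw [hr, hβz, exp_lt_exp]
        exact mul_lt_mul_of_pos_left h (by exact_mod_cast he0)
      rw [hπ, exp_inj] at this
      exact hne1 s this.symm
    · have : P.1 π = exp ((e : ℤ) * r) := by
        rw [hπe, Valuation.map_add_eq_of_lt_left, hr]
        rw [hr, hβz, exp_lt_exp]
        exact mul_lt_mul_of_pos_left h (by exact_mod_cast he0)
      rw [hπ, exp_inj] at this
      exact hne1 r this.symm
  subst hrs
  -- exp(-1) ≤ exp (e r), hence -1 < e r... (value of π at most max)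
  have hle : P.1 π ≤ exp ((e : ℤ) * r) := by
    rw [hπe]
    exact Valuation.map_add_le _ hr.le hβz.le
  rw [hπ, exp_le_exp] at hle
  have hlt : -1 < (e : ℤ) * r := lt_of_le_of_ne hle (fun h => hne1 r h.symm)
  -- conjugate
  set π' : K := algebraMap K₀ K α - algebraMap K₀ K β * z with hπ'
  have hsum2 : π' = algebraMap K₀ K 2 * algebraMap K₀ K α - π := by
    rw [hπe, hπ', map_ofNat]; ring
  have h2α : P.1 (algebraMap K₀ K 2 * algebraMap K₀ K α) = exp ((e : ℤ) * r) := by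
    rw [map_mul, h2K, one_mul, hr]
  have hπ'v : P.1 π' = exp ((e : ℤ) * r) := by
    rw [hsum2, sub_eq_add_neg, Valuation.map_add_eq_of_lt_left, h2α]
    rw [Valuation.map_neg, hπ, h2α, exp_lt_exp]
    exact hlt
  have hN : π * π' = algebraMap K₀ K (α ^ 2 - β ^ 2 * u) := by
    rw [hπe, hπ', map_sub, map_mul, map_pow, map_pow, ← hzu]; ring
  have hN0 : α ^ 2 - β ^ 2 * u ≠ 0 := by
    intro h0
    rw [h0, map_zero] at hN
    have : P.1 (π * π') = 0 := by rw [hN, map_zero]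
    rw [map_mul, hπ, hπ'v, ← exp_add] at this
    exact exp_ne_zero this
  obtain ⟨m, hm⟩ := hval _ hN0
  rw [← hN, map_mul, hπ, hπ'v, ← exp_add, exp_inj] at hm
  have : (e : ℤ) * (m - r) = -1 := by rw [mul_sub]; omega
  exact hne1 _ this

end TotRam

end Groth.Agent.Lib.LeadFF
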