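import Groth.Agent.Lib.LeadFF42

/-! Places of a hyperelliptic field above the infinite place of `k(x)`. -/

namespace Groth.Agent.Lib.LeadFF

open FunFld WithZero Polynomial

section Quad

variable {K₀ K : Type*} [Field K₀] [Field K] [Algebra K₀ K]

lemma span_of_finrank_two (hdeg : Module.finrank K₀ K = 2) (z : K)
    (hz : z ∉ Set.range (algebraMap K₀ K)) :
    ∀ w : K, ∃ α β : K₀, w = algebraMap K₀ K α + algebraMap K₀ K β * z := by
  haveI : FiniteDimensional K₀ K := Module.finite_of_finrank_pos (by rw [hdeg]; norm_num)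
  have hli : LinearIndependent K₀ ![(1 : K), z] := by
    rw [LinearIndependent.pair_iff]
    intro s t hst
    by_cases ht : t = 0
    · subst ht
      rw [zero_smul, add_zero, Algebra.smul_def, mul_one] at hst
      exact ⟨(map_eq_zero_iff _ (algebraMap K₀ K).injective).mp hst, rfl⟩
    · exfalso
      apply hz
      refine ⟨-s / t, ?_⟩
      rw [Algebra.smul_def, Algebra.smul_def, mul_one] at hst
      have ht' : algebraMap K₀ K t ≠ 0 := by
        rwa [Ne, map_eq_zero_iff _ (algebraMap K₀ K).injective]
      rw [map_div₀, map_neg, div_eq_iff ht']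
      linear_combination -hst
  let b := basisOfLinearIndependentOfCardEqFinrank hli (by rw [hdeg]; simp)
  intro w
  refine ⟨b.repr w 0, b.repr w 1, ?_⟩
  conv_lhs => rw [← b.sum_repr w]
  rw [Fin.sum_univ_two]
  simp only [b, coe_basisOfLinearIndependentOfCardEqFinrank, Matrix.cons_val_zero,
    Matrix.cons_val_one]
  rw [Algebra.smul_def, Algebra.smul_def, mul_one]

end Quad

section HypInf

variable {k K : Type*} [Field k] [Field K] [Algebra k K] [Algebra (RatFunc k) K]
  [IsScalarTower k (RatFunc k) K]

lemma hyperelliptic_y_not_mem (y : K) (f : k[X]) (hf : Squarefree f) (hd : 1 ≤ f.natDegree)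
    (heq : y ^ 2 = algebraMap (RatFunc k) K (algebraMap k[X] (RatFunc k) f)) :
    y ∉ Set.range (algebraMap (RatFunc k) K) := by
  rintro ⟨r, rfl⟩
  rw [← map_pow] at heq
  have hr2 : r ^ 2 = algebraMap k[X] (RatFunc k) f := (algebraMap (RatFunc k) K).injective heq
  have hint : IsIntegral k[X] r := by
    apply IsIntegral.of_pow (n := 2) (by norm_num)
    rw [hr2]; exact isIntegral_algebraMap
  obtain ⟨g, rfl⟩ := IsIntegrallyClosed.isIntegral_iff.mp hint
  rw [← map_pow] at hr2
  have hg2 : g ^ 2 = f := IsFractionRing.injective k[X] (RatFunc k) hr2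
  have hu : IsUnit g := hf g ⟨1, by rw [mul_one, ← sq, hg2]⟩
  have : IsUnit f := by rw [← hg2]; exact hu.pow 2
  have := Polynomial.natDegree_eq_zero_of_isUnit this
  omega

theorem hyperelliptic_infinite (h2 : ringChar k ≠ 2)
    (hdeg : Module.finrank (RatFunc k) K = 2) (y : K) (f : k[X]) (hf : Squarefree f)
    (hd : 1 ≤ f.natDegree)
    (heq : y ^ 2 = algebraMap (RatFunc k) K (algebraMap k[X] (RatFunc k) f))
    (Pinf : Place k (RatFunc k)) (hinf : Pinf.ord (RatFunc.X : RatFunc k) < 0) :
    (Odd f.natDegree → (∃! P : Place k K, IsOver P Pinf) ∧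
      ∀ P : Place k K, IsOver P Pinf → IsOverWith P Pinf 2 ∧ P.deg = 1) ∧
    (Even f.natDegree → (conorm K (Finsupp.single Pinf 1)).deg = 2 ∧
      ∀ P : Place k K, IsOver P Pinf → IsOverWith P Pinf 1) := by
  classical
  haveI : FiniteDimensional (RatFunc k) K :=
    Module.finite_of_finrank_pos (by rw [hdeg]; norm_num)
  have hK₀ : IsFunctionField k (RatFunc k) := isFunctionField_ratFunc
  have hf0 : f ≠ 0 := by rintro rfl; simp at hd
  have hynm := hyperelliptic_y_not_mem y f hf hd heq
  have hdinf := deg_inf Pinf hinf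
  have hordf := ord_poly_inf Pinf hinf hf0
  have hord : ∀ (P : Place k K) (e : ℕ), IsOverWith P Pinf e →
      2 * P.ord y = -((e : ℤ) * f.natDegree) := by
    intro P e he
    have h1 : (2 : ℤ) * P.ord y = P.ord (y ^ 2) := by rw [ord_pow']; norm_num
    rw [h1, heq, ord_algebraMap_of_isOverWith he, hordf]; ring
  refine ⟨fun hodd => ?_, fun heven => ?_⟩
  · have key : ∀ (P : Place k K) (e : ℕ), IsOverWith P Pinf e → 2 ≤ e := by
      intro P e he
      have he0 := isOverWith_pos he
      have h1 := hord P e he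
      obtain ⟨m, hm⟩ := hodd
      rw [hm] at h1
      push_cast at h1
      have h5 : (e : ℤ) = 2 * (-(P.ord y) - (e : ℤ) * m) := by linear_combination h1
      obtain ⟨t, ht⟩ : ∃ t : ℤ, (e : ℤ) = 2 * t := ⟨_, h5⟩
      omega
    have := totally_ramified_of_two_le hK₀ hdeg Pinf key
    refine ⟨this.1, fun P hP => ?_⟩
    have h3 := this.2 P hP
    rw [hdinf] at h3
    exact h3
  · refine ⟨?_, ?_⟩
    · rw [deg_conorm hK₀, hdeg, deg_single, hdinf]; norm_num
    · rintro P ⟨e, he⟩
      obtain ⟨m, hm⟩ := heven
      have he0 := isOverWith_pos he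
      have hX0 : (RatFunc.X : RatFunc k) ≠ 0 := RatFunc.X_ne_zero
      have hXm0 : algebraMap (RatFunc k) K ((RatFunc.X : RatFunc k) ^ m) ≠ 0 := by
        rw [Ne, map_eq_zero_iff _ (algebraMap (RatFunc k) K).injective]
        exact pow_ne_zero _ hX0
      set z : K := y / algebraMap (RatFunc k) K ((RatFunc.X : RatFunc k) ^ m) with hz
      set u : RatFunc k := algebraMap k[X] (RatFunc k) f / ((RatFunc.X : RatFunc k) ^ m) ^ 2 with hu
      have hzu : z ^ 2 = algebraMap (RatFunc k) K u := by
        rw [hz, div_pow, heq, hu, map_div₀]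
        simp only [map_pow]
      have hy0 : y ≠ 0 := by
        rintro rfl
        apply hynm
        exact ⟨0, map_zero _⟩
      have hz0 : z ≠ 0 := div_ne_zero hy0 hXm0
      have hzord : P.ord z = 0 := by
        have h1 : (2 : ℤ) * P.ord z = P.ord (z ^ 2) := by rw [ord_pow']; norm_num
        have hfr : algebraMap k[X] (RatFunc k) f ≠ 0 := by
          rw [Ne, map_eq_zero_iff _ (IsFractionRing.injective k[X] (RatFunc k))]; exact hf0
        have h2' : Pinf.ord u = 0 := by
          rw [hu, div_eq_mul_inv]
          unfold Place.ord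
          rw [map_mul, map_inv₀, WithZero.log_mul, WithZero.log_inv]
          · have h3 : -log (Pinf.1 (algebraMap k[X] (RatFunc k) f)) = -(f.natDegree : ℤ) := hordf
            have h4 : -log (Pinf.1 (((RatFunc.X : RatFunc k) ^ m) ^ 2)) = ((m * 2 : ℕ) : ℤ) * (-1) := by
              have := ord_pow' Pinf (RatFunc.X : RatFunc k) (m * 2)
              rw [ord_X_inf Pinf hinf, pow_mul] at this
              exact this
            rw [hm] at h3
            push_cast at h3 h4
            omega
          · exact (Valuation.ne_zero_iff _).mpr hfr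
          · rw [Ne, inv_eq_zero]
            exact (Valuation.ne_zero_iff _).mpr (pow_ne_zero _ (pow_ne_zero _ hX0))
        rw [hzu, ord_algebraMap_of_isOverWith he, h2'] at h1
        omega
      have hz1 : P.1 z = 1 := by
        rw [val_eq_exp_neg_ord P hz0, hzord]; simp
      have hznm : z ∉ Set.range (algebraMap (RatFunc k) K) := by
        rintro ⟨r, hr⟩
        apply hynm
        refine ⟨r * (RatFunc.X : RatFunc k) ^ m, ?_⟩
        rw [map_mul, hr, hz, div_mul_cancel₀ _ hXm0]
      have hspan := span_of_finrank_two hdeg z hznm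
      have h2K : (2 : RatFunc k) ≠ 0 := by
        have h2k : (2 : k) ≠ 0 := Ring.two_ne_zero h2
        have : (2 : RatFunc k) = algebraMap k (RatFunc k) 2 := by rw [map_ofNat]
        rw [this, Ne, map_eq_zero_iff _ (algebraMap k (RatFunc k)).injective]
        exact h2k
      have he1 := unramified_of_unit_sqrt h2K he z u hzu hz1 hspan
      rw [← he1]; exact he

end HypInf

end Groth.Agent.Lib.LeadFF
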