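import Groth.Agent.Lib.LeadFF43

/-! Artin–Schreier extensions in characteristic 2: ramification. -/

namespace Groth.Agent.Lib.LeadFF

open FunFld WithZero Polynomial

section AS

variable {k K₀ K : Type*} [Field k] [Field K₀] [Field K] [Algebra k K₀] [Algebra K₀ K]
  [Algebra k K] [IsScalarTower k K₀ K] [FiniteDimensional K₀ K]

theorem unramified_of_artin_schreier (h2 : (2 : K₀) = 0) {P : Place k K} {P₀ : Place k K₀} {e : ℕ}
    (he : IsOverWith P P₀ e) (y : K) (f : K₀) (heq : y ^ 2 + y = algebraMap K₀ K f)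
    (hf : P₀.1 f ≤ 1)
    (hspan : ∀ w : K, ∃ α β : K₀, w = algebraMap K₀ K α + algebraMap K₀ K β * y) : e = 1 := by
  have he0 := isOverWith_pos he
  by_contra hne
  have he2 : 2 ≤ e := by omega
  have h2K : (2 : K) = 0 := by
    have := congrArg (algebraMap K₀ K) h2
    rwa [map_ofNat, map_zero] at this
  have hval : ∀ a : K₀, a ≠ 0 → ∃ r : ℤ, P.1 (algebraMap K₀ K a) = exp ((e : ℤ) * r) := by
    intro a ha
    refine ⟨-P₀.ord a, ?_⟩
    rw [he a, val_eq_exp_neg_ord P₀ ha, zm0_exp_pow]
  have hne1 : ∀ r : ℤ, (e : ℤ) * r ≠ -1 := by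
    intro r h
    have : (e : ℤ) ∣ -1 := ⟨r, h.symm⟩
    have := Int.le_of_dvd (by norm_num) ((Int.dvd_neg).mp this)
    omega
  obtain ⟨π, hπ⟩ := exists_unif P
  obtain ⟨α, β, hπe⟩ := hspan π
  by_cases hβ : β = 0
  · subst hβ
    rw [map_zero, zero_mul, add_zero] at hπe
    have hα : α ≠ 0 := by rintro rfl; rw [map_zero] at hπe; exact unif_ne_zero hπ hπe
    obtain ⟨r, hr⟩ := hval α hα
    rw [hπe, hr, exp_inj] at hπ
    exact hne1 r hπ
  obtain ⟨s, hs⟩ := hval β hβ
  have hβ' : algebraMap K₀ K β ≠ 0 := by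
    rwa [Ne, map_eq_zero_iff _ (algebraMap K₀ K).injective]
  set a : K₀ := α / β with ha
  set w : K := algebraMap K₀ K a + y with hw
  have hwπ : w = π / algebraMap K₀ K β := by
    rw [hw, ha, hπe, map_div₀]
    field_simp
  set c : ℤ := -1 - (e : ℤ) * s with hc
  have hwv : P.1 w = exp c := by
    rw [hwπ, map_div₀, hπ, hs, ← exp_sub]
  set N : K₀ := a ^ 2 + a + f with hN
  have hNw : w * (w + 1) = algebraMap K₀ K N := by
    rw [hN, map_add, map_add, map_pow, ← heq, hw]
    have : (algebraMap K₀ K a + y) * (algebraMap K₀ K a + y + 1) =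
        algebraMap K₀ K a ^ 2 + algebraMap K₀ K a + (y ^ 2 + y) + 2 * (algebraMap K₀ K a * y) := by ring
    rw [this, h2K, zero_mul, add_zero]
  rcases lt_trichotomy c 0 with hc0 | hc0 | hc0
  · -- w in the maximal ideal
    have hw1 : P.1 w < 1 := by rw [hwv, ← exp_zero, exp_lt_exp]; exact hc0
    have hw' : P.1 (w + 1) = 1 := by
      rw [Valuation.map_add_eq_of_lt_right, map_one]
      rw [map_one]; exact hw1
    have hNv : P.1 (algebraMap K₀ K N) = exp c := by
      rw [← hNw, map_mul, hw', mul_one, hwv]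
    have hN0 : N ≠ 0 := by
      rintro h0
      rw [h0, map_zero, map_zero] at hNv
      exact exp_ne_zero hNv.symm
    obtain ⟨m, hm⟩ := hval N hN0
    rw [hNv, exp_inj] at hm
    apply hne1 (m + s)
    rw [mul_add]; omega
  · apply hne1 s
    omega
  · have hw1 : 1 < P.1 w := by rw [hwv, ← exp_zero, exp_lt_exp]; exact hc0
    have hw' : P.1 (w + 1) = P.1 w := by
      rw [Valuation.map_add_eq_of_lt_left]
      rw [map_one]; exact hw1
    have hNv : P.1 (algebraMap K₀ K N) = exp (2 * c) := by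
      rw [← hNw, map_mul, hw', hwv, ← exp_add]; congr 1; ring
    have hN1 : 1 < P₀.1 N := by
      by_contra hle
      rw [not_lt] at hle
      have : P.1 (algebraMap K₀ K N) ≤ 1 := by rw [he N]; exact pow_le_one' hle e
      rw [hNv, ← exp_zero, exp_le_exp] at this
      omega
    have ha1 : 1 < P₀.1 a := by
      by_contra hle
      rw [not_lt] at hle
      have : P₀.1 N ≤ 1 := by
        rw [hN]
        apply Valuation.map_add_le _ (Valuation.map_add_le _ _ hle) hf
        rw [map_pow]; exact pow_le_one' hle 2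
      exact absurd hN1 (not_lt.mpr this)
    have ha0 : a ≠ 0 := by rintro h0; rw [h0, map_zero] at ha1; exact absurd ha1 (by simp)
    have hNa : P₀.1 N = P₀.1 a ^ 2 := by
      have : N = a ^ 2 + (a + f) := by rw [hN]; ring
      rw [this, Valuation.map_add_eq_of_lt_left, map_pow]
      rw [map_pow]
      apply lt_of_le_of_lt (Valuation.map_add_le_max' _ _ _)
      rw [max_lt_iff]
      constructor
      · calc P₀.1 a = P₀.1 a * 1 := (mul_one _).symm
          _ < P₀.1 a * P₀.1 a := by
            apply mul_lt_mul_of_pos_left ha1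
            exact lt_trans zero_lt_one ha1
          _ = P₀.1 a ^ 2 := (sq _).symm
      · exact lt_of_le_of_lt hf (one_lt_pow' ha1 two_ne_zero)
    have hat : P₀.1 a = exp (-P₀.ord a) := val_eq_exp_neg_ord P₀ ha0
    rw [he N, hNa, hat, zm0_exp_pow, zm0_exp_pow, exp_inj] at hNv
    apply hne1 (s + -P₀.ord a)
    rw [mul_add]
    push_cast at hNv
    have h3 : (e : ℤ) * -P₀.ord a = c := by linarith
    omega

/-- at an odd pole of `f`, every place above is ramified. -/
theorem ramified_of_artin_schreier_pole {P : Place k K} {P₀ : Place k K₀} {e : ℕ}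
    (he : IsOverWith P P₀ e) (y : K) (f : K₀) (heq : y ^ 2 + y = algebraMap K₀ K f)
    (hf : P₀.ord f < 0) (hodd : Odd (P₀.ord f)) : 2 ≤ e := by
  have he0 := isOverWith_pos he
  have hf0 : f ≠ 0 := by
    rintro rfl
    unfold Place.ord at hf
    simp at hf
  have hfv : P.1 (algebraMap K₀ K f) = exp (-(e : ℤ) * P₀.ord f) := by
    rw [he f, val_eq_exp_neg_ord P₀ hf0, zm0_exp_pow]; congr 1; ring
  have hpos : 0 < -(e : ℤ) * P₀.ord f := by
    have : (0 : ℤ) < e := by exact_mod_cast he0
    nlinarith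
  have hy1 : 1 < P.1 y := by
    by_contra hle
    rw [not_lt] at hle
    have : P.1 (y ^ 2 + y) ≤ 1 := by
      apply Valuation.map_add_le _ _ hle
      rw [map_pow]; exact pow_le_one' hle 2
    rw [heq, hfv, ← exp_zero, exp_le_exp] at this
    omega
  have hy0 : y ≠ 0 := by rintro rfl; rw [map_zero] at hy1; exact absurd hy1 (by simp)
  have hyy : P.1 (y ^ 2 + y) = P.1 y ^ 2 := by
    rw [Valuation.map_add_eq_of_lt_left, map_pow]
    rw [map_pow]
    calc P.1 y = P.1 y * 1 := (mul_one _).symm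
      _ < P.1 y * P.1 y := by
        apply mul_lt_mul_of_pos_left hy1
        exact lt_trans zero_lt_one hy1
      _ = P.1 y ^ 2 := (sq _).symm
  rw [heq, hfv, val_eq_exp_neg_ord P hy0, zm0_exp_pow, exp_inj] at hyy
  obtain ⟨m, hm⟩ := hodd
  rw [hm] at hyy
  push_cast at hyy
  have h5 : (e : ℤ) = 2 * (P.ord y - (e : ℤ) * m) := by linear_combination -hyy
  obtain ⟨t, ht⟩ : ∃ t : ℤ, (e : ℤ) = 2 * t := ⟨_, h5⟩
  omega

end AS

section ASRat

variable {k K : Type*} [Field k] [Field K] [Algebra k K] [Algebra (RatFunc k) K]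
  [IsScalarTower k (RatFunc k) K]

theorem artin_schreier_ramification (h2 : ringChar k = 2)
    (hdeg : Module.finrank (RatFunc k) K = 2)
    (y : K) (hy : y ∉ Set.range (algebraMap (RatFunc k) K))
    (f : RatFunc k) (heq : y ^ 2 + y = algebraMap (RatFunc k) K f)
    (P₀ : Place k (RatFunc k)) :
    ((P₀.ord f < 0 ∧ Odd (P₀.ord f)) → (∃! P : Place k K, IsOver P P₀) ∧
      ∀ P : Place k K, IsOver P P₀ → IsOverWith P P₀ 2 ∧ P.deg = P₀.deg) ∧
    (0 ≤ P₀.ord f → ∀ P : Place k K, IsOver P P₀ → IsOverWith P P₀ 1) := by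
  haveI : FiniteDimensional (RatFunc k) K :=
    Module.finite_of_finrank_pos (by rw [hdeg]; norm_num)
  have hK₀ : IsFunctionField k (RatFunc k) := isFunctionField_ratFunc
  refine ⟨fun ⟨hneg, hodd⟩ => ?_, fun hnn => ?_⟩
  · exact totally_ramified_of_two_le hK₀ hdeg P₀
      (fun P e he => ramified_of_artin_schreier_pole he y f heq hneg hodd)
  · rintro P ⟨e, he⟩
    have h2K : (2 : RatFunc k) = 0 := by
      haveI : CharP k 2 := by rw [← h2]; exact ringChar.charP k
      have h2k : (2 : k) = 0 := CharTwo.two_eq_zero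
      have : (2 : RatFunc k) = algebraMap k (RatFunc k) 2 := by rw [map_ofNat]
      rw [this, h2k, map_zero]
    have hf1 : P₀.1 f ≤ 1 := by
      by_cases hf0 : f = 0
      · rw [hf0, map_zero]; exact zero_le_one
      · rw [val_eq_exp_neg_ord P₀ hf0, ← exp_zero, exp_le_exp]; omega
    have he1 := unramified_of_artin_schreier h2K he y f heq hf1 (span_of_finrank_two hdeg y hy)
    rw [← he1]; exact he

end ASRat

end Groth.Agent.Lib.LeadFF
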