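import Groth.Agent.Lib.LeadFF44

/-! `k(x, y)`, `y² = f(x)` squarefree, is a function field with constant field `k`. -/

namespace Groth.Agent.Lib.LeadFF

open FunFld WithZero Polynomial

section HypFF

variable {k K : Type*} [Field k] [Field K] [Algebra k K] [Algebra (RatFunc k) K]
  [IsScalarTower k (RatFunc k) K]

/-- in a hyperelliptic field of degree 2 over `k(x)`, `char ≠ 2`, `k` is algebraically closed. -/
theorem hyperelliptic_algClosed (h2 : ringChar k ≠ 2)
    (hdeg : Module.finrank (RatFunc k) K = 2) (y : K) (f : k[X]) (hf : Squarefree f)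
    (hd : 1 ≤ f.natDegree)
    (heq : y ^ 2 = algebraMap (RatFunc k) K (algebraMap k[X] (RatFunc k) f))
    (c : K) (hc : IsAlgebraic k c) : c ∈ Set.range (algebraMap k K) := by
  classical
  haveI : FiniteDimensional (RatFunc k) K :=
    Module.finite_of_finrank_pos (by rw [hdeg]; norm_num)
  have hK₀ : IsFunctionField k (RatFunc k) := isFunctionField_ratFunc
  have hK' : LeadFG.IsFF k K := isFF_of_finite hK₀
  by_cases hcr : c ∈ Set.range (algebraMap (RatFunc k) K)
  · obtain ⟨r, rfl⟩ := hcr
    have hr : IsAlgebraic k r :=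
      (isAlgebraic_algebraMap_iff (algebraMap (RatFunc k) K).injective).mp hc
    obtain ⟨c₀, rfl⟩ := hK₀.2 r hr
    exact ⟨c₀, by rw [← IsScalarTower.algebraMap_apply]⟩
  exfalso
  have h2k : (2 : k) ≠ 0 := Ring.two_ne_zero h2
  have h2K₀ : (2 : RatFunc k) ≠ 0 := by
    have : (2 : RatFunc k) = algebraMap k (RatFunc k) 2 := by rw [map_ofNat]
    rw [this, Ne, map_eq_zero_iff _ (algebraMap k (RatFunc k)).injective]
    exact h2k
  have h2K : (2 : K) ≠ 0 := by
    have : (2 : K) = algebraMap (RatFunc k) K 2 := by rw [map_ofNat]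
    rw [this, Ne, map_eq_zero_iff _ (algebraMap (RatFunc k) K).injective]
    exact h2K₀
  have hcint : IsIntegral (RatFunc k) c := Algebra.IsIntegral.isIntegral c
  set q := minpoly (RatFunc k) c with hq
  have hqm : q.Monic := minpoly.monic hcint
  have hq2 : q.natDegree = 2 := by
    apply le_antisymm
    · rw [← hdeg]; exact minpoly.natDegree_le c
    · rw [minpoly.two_le_natDegree_iff hcint]
      intro h; exact hcr h
  have hqdvd : q ∣ (minpoly k c).map (algebraMap k (RatFunc k)) :=
    minpoly.dvd_map_of_isScalarTower k (RatFunc k) c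
  have hcoef : ∀ i, IsAlgebraic k (q.coeff i) := fun i =>
    (Polynomial.isIntegral_coeff_of_dvd (minpoly k c) q (minpoly.monic hc.isIntegral) hqm
      hqdvd i).isAlgebraic
  set b := q.coeff 1 with hb
  set d := q.coeff 0 with hd'
  have hroot : c ^ 2 + algebraMap (RatFunc k) K b * c + algebraMap (RatFunc k) K d = 0 := by
    have h0 : aeval c q = 0 := minpoly.aeval _ _
    rw [aeval_eq_sum_range, hq2, Finset.sum_range_succ, Finset.sum_range_succ,
      Finset.sum_range_one] at h0
    have hc2 : q.coeff 2 = 1 := by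
      have := hqm.coeff_natDegree
      rwa [hq2] at this
    rw [hc2, one_smul, pow_zero, pow_one, Algebra.smul_def, Algebra.smul_def, mul_one] at h0
    rw [← h0]; ring
  set z : K := 2 * c + algebraMap (RatFunc k) K b with hz
  set u : RatFunc k := b ^ 2 - 4 * d with hu
  have hzu : z ^ 2 = algebraMap (RatFunc k) K u := by
    rw [hz, hu, map_sub, map_mul, map_pow, map_ofNat]
    linear_combination 4 * hroot
  have hzalg : IsAlgebraic k z := by
    apply IsAlgebraic.add
    · apply IsAlgebraic.mul _ hc
      have : (2 : K) = algebraMap k K 2 := by rw [map_ofNat]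
      rw [this]; exact isAlgebraic_algebraMap _
    · exact (hcoef 1).algebraMap
  have hznm : z ∉ Set.range (algebraMap (RatFunc k) K) := by
    rintro ⟨r, hr⟩
    apply hcr
    refine ⟨(r - b) / 2, ?_⟩
    rw [map_div₀, map_sub, hr, map_ofNat, hz, div_eq_iff h2K]
    ring
  have hz0 : z ≠ 0 := by
    rintro h0; apply hznm; exact ⟨0, by rw [map_zero, h0]⟩
  have hspan := span_of_finrank_two hdeg z hznm
  -- a ramified place
  have hfnu : ¬ IsUnit f := by
    intro hu'
    have := Polynomial.natDegree_eq_zero_of_isUnit hu'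
    omega
  have hf0 : f ≠ 0 := by rintro rfl; simp at hd
  obtain ⟨p, hp, hpf⟩ := WfDvdMonoid.exists_irreducible_factor hfnu hf0
  have hptr : Transcendental k (algebraMap k[X] (RatFunc k) p) := by
    intro halg
    obtain ⟨c₀, hc₀⟩ := hK₀.2 _ halg
    have h1 : algebraMap k[X] (RatFunc k) (C c₀) = algebraMap k[X] (RatFunc k) p := by
      rw [← hc₀, IsScalarTower.algebraMap_apply k k[X] (RatFunc k)]; rfl
    have h3 : C c₀ = p := IsFractionRing.injective k[X] (RatFunc k) h1
    have : p.natDegree = 0 := by rw [← h3]; exact natDegree_C _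
    exact (Polynomial.natDegree_pos_iff_degree_pos.mpr
      (Polynomial.degree_pos_of_irreducible hp)).ne' this
  obtain ⟨P₀, hP₀⟩ := exists_place_lt_one hK₀ hptr
  obtain ⟨⟨P, hPover, -⟩, hall⟩ := hyperelliptic_ramified hdeg y f hf heq p hp hpf P₀ hP₀
  have he2 := (hall P hPover).1
  have hz1 : P.1 z = 1 := LeadFG.val_eq_one_of_isAlgebraic (LeadFG.place_trivOn P) hz0 hzalg
  have := unramified_of_unit_sqrt h2K₀ he2 z u hzu hz1 hspan
  omega

end HypFF

section Abstract

variable {k K : Type*} [Field k] [Field K] [Algebra k K]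

theorem isFunctionField_hyperelliptic (h2 : ringChar k ≠ 2) (x y : K)
    (hx : Transcendental k x) (hxy : IntermediateField.adjoin k ({x, y} : Set K) = ⊤)
    (f : k[X]) (hf : Squarefree f) (hd : 1 ≤ f.natDegree) (heq : y ^ 2 = aeval x f) :
    IsFunctionField k K := by
  have hinj : Function.Injective (aeval x : k[X] →ₐ[k] K) := transcendental_iff_injective.mp hx
  let Φ : RatFunc k →ₐ[k] K := RatFunc.liftAlgHom (aeval x)
    (nonZeroDivisors_le_comap_nonZeroDivisors_of_injective _ hinj)
  have hΦ : ∀ p : k[X], Φ (algebraMap k[X] (RatFunc k) p) = aeval x p := fun p =>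
    RatFunc.liftRingHom_algebraMap _ _ p
  letI : Algebra (RatFunc k) K := Φ.toRingHom.toAlgebra
  haveI : IsScalarTower k (RatFunc k) K :=
    IsScalarTower.of_algebraMap_eq (fun c => (Φ.commutes c).symm)
  have hΦ' : ∀ p : k[X], algebraMap (RatFunc k) K (algebraMap k[X] (RatFunc k) p) = aeval x p := hΦ
  have hX : algebraMap (RatFunc k) K RatFunc.X = x := by
    have := hΦ' Polynomial.X
    rwa [RatFunc.algebraMap_X, aeval_X] at this
  have heq' : y ^ 2 = algebraMap (RatFunc k) K (algebraMap k[X] (RatFunc k) f) := by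
    rw [hΦ', heq]
  have hynm := hyperelliptic_y_not_mem y f hf hd heq'
  have hyint : IsIntegral (RatFunc k) y := by
    apply IsIntegral.of_pow (n := 2) (by norm_num)
    rw [heq']; exact isIntegral_algebraMap
  have htop : IntermediateField.adjoin (RatFunc k) ({y} : Set K) = ⊤ := by
    rw [eq_top_iff]
    intro w _
    have hw : w ∈ IntermediateField.adjoin k ({x, y} : Set K) := by rw [hxy]; trivial
    have hle : IntermediateField.adjoin k ({x, y} : Set K) ≤
        (IntermediateField.adjoin (RatFunc k) ({y} : Set K)).restrictScalars k := by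
      rw [IntermediateField.adjoin_le_iff]
      rintro t (rfl | rfl)
      · rw [← hX]
        exact (IntermediateField.adjoin (RatFunc k) ({y} : Set K)).algebraMap_mem _
      · exact IntermediateField.mem_adjoin_simple_self _ _
    exact hle hw
  have hdeg : Module.finrank (RatFunc k) K = 2 := by
    rw [← IntermediateField.finrank_top', ← htop, IntermediateField.adjoin.finrank hyint]
    apply le_antisymm
    · have hdvd : minpoly (RatFunc k) y ∣
          (Polynomial.X ^ 2 - C (algebraMap k[X] (RatFunc k) f) : (RatFunc k)[X]) := by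
        apply minpoly.dvd
        rw [map_sub, map_pow, aeval_X, aeval_C, heq', sub_self]
      have hne : (Polynomial.X ^ 2 - C (algebraMap k[X] (RatFunc k) f) : (RatFunc k)[X]) ≠ 0 :=
        (monic_X_pow_sub_C _ two_ne_zero).ne_zero
      have := Polynomial.natDegree_le_of_dvd hdvd hne
      rwa [natDegree_X_pow_sub_C] at this
    · rw [minpoly.two_le_natDegree_iff hyint]
      intro h; exact hynm h
  haveI : FiniteDimensional (RatFunc k) K :=
    Module.finite_of_finrank_pos (by rw [hdeg]; norm_num)
  have hK' : LeadFG.IsFF k K := isFF_of_finite (isFunctionField_ratFunc (k := k))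
  exact ⟨hK', fun c hc => hyperelliptic_algClosed h2 hdeg y f hf hd heq' c hc⟩

end Abstract

end Groth.Agent.Lib.LeadFF
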