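import Groth.Agent.Lib.LeadFF45

/-! Elements of large order along a fibre lie in the local ring of a birational projective map. -/

namespace Groth.Agent.Lib.LeadFF

open FunFld WithZero Polynomial

section LocBound

variable {k K : Type*} [Field k] [Field K] [Algebra k K]

/-- chart, generic coordinate and conductor. -/
theorem exists_chart_conductor [IsAlgClosed k] (hK : IsFunctionField k K) {ι : Type*} [Fintype ι]
    (φ : ι → K) (j : ι) (hj : φ j ≠ 0)
    (hbir : IntermediateField.adjoin k (Set.range fun i => φ i / φ j) = ⊤) :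
    ∃ x c : K, x ∈ chart k φ j ∧ x ∉ Set.range (algebraMap k K) ∧
      (∀ (Q : Place k K) (i : ι), 1 < Q.1 (φ i / φ j) → Q.1 (φ i / φ j) ≤ Q.1 x) ∧
      chart k φ j ≤ finRing k x ∧ c ∈ chart k φ j ∧ c ≠ 0 ∧
      ∀ z ∈ finRing k x, c * z ∈ chart k φ j := by
  classical
  haveI : Infinite k := IsAlgClosed.instInfinite
  obtain ⟨a, hgen⟩ := exists_generic hK (fun i => φ i / φ j)
  set x := ∑ l, a l • (φ l / φ j) with hx
  have hxR : x ∈ chart k φ j := sum_smul_ratio_mem_chart φ j a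
  have hxk : x ∉ Set.range (algebraMap k K) := by
    rintro ⟨c, hc⟩
    have hnopole : ∀ (Q : Place k K) (i : ι), Q.1 (φ i / φ j) ≤ 1 := by
      intro Q i
      by_contra h
      rw [not_le] at h
      have := lt_of_lt_of_le h (hgen Q i h)
      rw [← hc] at this
      exact absurd this (not_lt.mpr (Q.2.1 c))
    have hconst : ∀ i, φ i / φ j ∈ (⊥ : IntermediateField k K) := by
      intro i
      have : φ i / φ j ∈ L (0 : Divisor k K) := fun Q => by simpa using hnopole Q i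
      rw [L_zero hK, Submodule.mem_one] at this
      obtain ⟨c, hc⟩ := this
      rw [IntermediateField.mem_bot]; exact ⟨c, hc⟩
    have hbot : IntermediateField.adjoin k (Set.range fun i => φ i / φ j) = ⊥ := by
      rw [eq_bot_iff, IntermediateField.adjoin_le_iff]
      rintro _ ⟨i, rfl⟩
      exact hconst i
    rw [hbir] at hbot
    obtain ⟨y, hy, -⟩ := hK.1
    have : y ∈ (⊥ : IntermediateField k K) := by rw [← hbot]; trivial
    rw [IntermediateField.mem_bot] at this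
    obtain ⟨d, rfl⟩ := this
    exact hy (isAlgebraic_algebraMap d)
  have hxtr : Transcendental k x := transcendental_of_not_mem hK hxk
  obtain ⟨B, hB⟩ := exists_codim_bound hK (fun i => φ i / φ j) hbir hxtr hxR hgen
  have hRU : chart k φ j ≤ finRing k x := by
    intro u hu
    obtain ⟨m, hm⟩ := adjoin_mem_L hK (fun i => φ i / φ j) x hgen u hu
    exact mem_finRing_of_mem_L hK hm
  obtain ⟨c, hcR, hc0, hc⟩ := exists_conductor_global (chart k φ j) hxR hxtr hRU B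
    (fun z hz => hB z (fun i => exists_mem_L_of_mem_finRing hK (hz i)))
  exact ⟨x, c, hxR, hxk, hgen, hRU, hcR, hc0, hc⟩

/-- a chart element separating a finite place outside the fibre from `P`. -/
lemma exists_chart_multiplier [IsAlgClosed k] (hK : IsFunctionField k K) {ι : Type*} [Fintype ι]
    [Nonempty ι] (φ : ι → K) (P : Place k K) (j : ι) (hj : φ j ≠ 0)
    (hmax : ∀ i, P.1 (φ i) ≤ P.1 (φ j)) {x : K} (hRU : chart k φ j ≤ finRing k x)
    (hPx : P.1 x ≤ 1) {Q : Place k K} (hQx : Q.1 x ≤ 1) (hQ : ¬ SameImage φ P Q) :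
    ∃ r ∈ chart k φ j, Q.1 r < 1 ∧ P.1 r = 1 := by
  have hφ0 : ∃ i, φ i ≠ 0 := ⟨j, hj⟩
  rw [sameImage_iff hK φ hφ0 P Q] at hQ
  push Not at hQ
  obtain ⟨z₀, hz₀, hfail⟩ := hQ
  rw [inLocRing_iff φ P j hj hmax] at hz₀
  obtain ⟨u₀, hu₀, w₀, hw₀, hw₀P, hzw⟩ := hz₀
  have hQw : Q.1 w₀ ≤ 1 := hRU hw₀ Q hQx
  have hQu : Q.1 u₀ ≤ 1 := hRU hu₀ Q hQx
  have hPu : P.1 u₀ ≤ 1 := hRU hu₀ P hPx
  by_cases hw1 : Q.1 w₀ < 1
  · exact ⟨w₀, hw₀, hw1, hw₀P⟩
  have hQw1 : Q.1 w₀ = 1 := le_antisymm hQw (not_lt.mp hw1)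
  have hQz : Q.1 z₀ = Q.1 u₀ := by rw [← hzw, map_mul, hQw1, mul_one]
  have hPz : P.1 z₀ = P.1 u₀ := by rw [← hzw, map_mul, hw₀P, mul_one]
  have hfail' := hfail (by rw [hQz]; exact hQu)
  rw [hQz, hPz] at hfail'
  rcases hfail' with ⟨hQu1, hPu1⟩ | ⟨hQu1, hPu1⟩
  · exact ⟨u₀, hu₀, hQu1, le_antisymm hPu hPu1⟩
  · obtain ⟨c₀, hc₀⟩ := exists_const_sub_lt_one hK Q hQu
    have hc₀0 : c₀ ≠ 0 := by
      rintro rfl
      rw [map_zero, sub_zero] at hc₀
      exact absurd hc₀ (not_lt.mpr hQu1)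
    refine ⟨u₀ - algebraMap k K c₀, sub_mem hu₀ (Subalgebra.algebraMap_mem _ _), hc₀, ?_⟩
    have h1 : P.1 (algebraMap k K c₀) = 1 := place_trivOn P c₀ hc₀0
    rw [sub_eq_add_neg, Valuation.map_add_eq_of_lt_right, Valuation.map_neg, h1]
    rw [Valuation.map_neg, h1]; exact hPu1

lemma exists_clear_chart [IsAlgClosed k] (hK : IsFunctionField k K) {ι : Type*} [Fintype ι]
    [Nonempty ι] (φ : ι → K) (P : Place k K) (j : ι) (hj : φ j ≠ 0)
    (hmax : ∀ i, P.1 (φ i) ≤ P.1 (φ j)) {x : K} (hRU : chart k φ j ≤ finRing k x)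
    (hPx : P.1 x ≤ 1) :
    ∀ (s : Finset (Place k K)) (z : K),
      (∀ Q : Place k K, Q.1 x ≤ 1 → 1 < Q.1 z → Q ∈ s ∧ ¬ SameImage φ P Q) →
      ∃ w ∈ chart k φ j, P.1 w = 1 ∧ z * w ∈ finRing k x := by
  classical
  intro s
  induction s using Finset.induction_on with
  | empty =>
    intro z hbad
    refine ⟨1, one_mem _, by simp, fun Q hQ => ?_⟩
    rw [mul_one]
    by_contra h
    rw [not_le] at h
    simpa using (hbad Q hQ h).1
  | insert Q0 s hQ0 ih =>
    intro z hbad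
    by_cases hb : Q0.1 x ≤ 1 ∧ 1 < Q0.1 z
    · obtain ⟨hb1, hb2⟩ := hb
      have hnS := (hbad Q0 hb1 hb2).2
      obtain ⟨w0, hw0R, hw0Q, hw0P⟩ := exists_chart_multiplier hK φ P j hj hmax hRU hPx hb1 hnS
      obtain ⟨M, hM⟩ := zm0_exists_le_exp (Q0.1 z)
      set z' := z * w0 ^ M with hz'
      have hQ0z' : Q0.1 z' ≤ 1 := by
        rw [hz', map_mul, map_pow]
        have h1 : Q0.1 w0 ^ M ≤ exp (-1 : ℤ) ^ M := pow_le_pow_left' (zm0_lt_one_iff.mp hw0Q) M
        rw [zm0_exp_pow] at h1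
        calc Q0.1 z * Q0.1 w0 ^ M ≤ exp (M : ℤ) * exp ((M : ℤ) * (-1)) := mul_le_mul' hM h1
          _ = 1 := by rw [← exp_add]; simp
      have hbad' : ∀ Q : Place k K, Q.1 x ≤ 1 → 1 < Q.1 z' → Q ∈ s ∧ ¬ SameImage φ P Q := by
        intro Q hQ hQz'
        have hw0Q' : Q.1 w0 ≤ 1 := hRU hw0R Q hQ
        have hQz : 1 < Q.1 z := by
          refine lt_of_lt_of_le hQz' ?_
          rw [hz', map_mul, map_pow]
          calc Q.1 z * Q.1 w0 ^ M ≤ Q.1 z * 1 := mul_le_mul' le_rfl (pow_le_one' hw0Q' M)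
            _ = Q.1 z := mul_one _
        have := hbad Q hQ hQz
        refine ⟨?_, this.2⟩
        have h1 := this.1
        rw [Finset.mem_insert] at h1
        rcases h1 with rfl | h
        · exact absurd hQz' (not_lt.mpr hQ0z')
        · exact h
      obtain ⟨w', hw'R, hw'P, hw'⟩ := ih z' hbad'
      refine ⟨w0 ^ M * w', mul_mem (pow_mem hw0R M) hw'R, ?_, ?_⟩
      · rw [map_mul, map_pow, hw0P, one_pow, one_mul, hw'P]
      · rwa [hz', mul_assoc] at hw'
    · apply ih z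
      intro Q hQ hQz
      have := hbad Q hQ hQz
      refine ⟨?_, this.2⟩
      have h1 := this.1
      rw [Finset.mem_insert] at h1
      rcases h1 with rfl | h
      · exact absurd ⟨hQ, hQz⟩ hb
      · exact h

theorem exists_bound_inLocRing [IsAlgClosed k] (hK : IsFunctionField k K) {n : ℕ}
    (φ : Fin (n + 1) → K) (hφ : LinearIndependent k φ)
    (hbir : IntermediateField.adjoin k (Set.range fun i => φ i / φ 0) = ⊤) (P : Place k K) :
    ∃ N : ℕ, ∀ z : K, (∀ Q : Place k K, SameImage φ P Q → Q.1 z ≤ exp (-(N : ℤ))) →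
      InLocRing φ P z := by
  classical
  have h0 : φ 0 ≠ 0 := hφ.ne_zero 0
  obtain ⟨j, hj, hmax⟩ := exists_maxIdx φ P ⟨0, h0⟩
  have hbirj : IntermediateField.adjoin k (Set.range fun i => φ i / φ j) = ⊤ := by
    rw [eq_top_iff, ← hbir, IntermediateField.adjoin_le_iff]
    rintro _ ⟨i, rfl⟩
    have h1 : φ i / φ 0 = (φ i / φ j) / (φ 0 / φ j) := by
      rw [div_div_div_cancel_right₀ hj]
    show φ i / φ 0 ∈ _
    rw [h1]
    exact div_mem (IntermediateField.subset_adjoin _ _ ⟨i, rfl⟩)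
      (IntermediateField.subset_adjoin _ _ ⟨0, rfl⟩)
  obtain ⟨x, c, hxR, hxk, hgen, hRU, hcR, hc0, hc⟩ := exists_chart_conductor hK φ j hj hbirj
  have hPx : P.1 x ≤ 1 := by
    have h0P : 0 < P.1 (φ j) := zero_lt_iff.mpr ((Valuation.ne_zero_iff _).mpr hj)
    have hr1 : ∀ i, P.1 (φ i / φ j) ≤ 1 := fun i => by
      rw [map_div₀, div_le_one₀ h0P]; exact hmax i
    have : ∀ u ∈ chart k φ j, P.1 u ≤ 1 := by
      intro u hu
      induction hu using Algebra.adjoin_induction with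
      | mem y hy => obtain ⟨i, rfl⟩ := hy; exact hr1 i
      | algebraMap c => exact P.2.1 c
      | add a b _ _ ha hb => exact (P.1.map_add _ _).trans (max_le ha hb)
      | mul a b _ _ ha hb => rw [map_mul]; exact mul_le_one' ha hb
    exact this x hxR
  obtain ⟨N, hN⟩ := zm0_finset_bound (zeros_finite' hK hc0).toFinset (fun Q => Q.1 c⁻¹)
  refine ⟨N, fun z hz => ?_⟩
  rw [inLocRing_iff φ P j hj hmax]
  have hφ0 : ∃ i, φ i ≠ 0 := ⟨j, hj⟩
  have hcQ : ∀ Q : Place k K, SameImage φ P Q → Q.1 x ≤ 1 ∧ exp (-(N : ℤ)) ≤ Q.1 c := by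
    intro Q hQ
    have h5 := (sameImage_iff hK φ hφ0 P Q).mp hQ
    have hQx : Q.1 x ≤ 1 := (h5 x ((inLocRing_iff φ P j hj hmax x).mpr (InLoc.of_mem hxR))).1
    refine ⟨hQx, ?_⟩
    by_cases hlt : Q.1 c < 1
    · have := hN Q (by rw [Set.Finite.mem_toFinset]; exact hlt)
      rw [map_inv₀] at this
      have hc0' : 0 < Q.1 c := zero_lt_iff.mpr ((Valuation.ne_zero_iff _).mpr hc0)
      rw [inv_le_comm₀ hc0' exp_pos] at this
      rwa [← exp_neg] at this
    · have h1 : Q.1 c = 1 := le_antisymm (hRU hcR Q hQx) (not_lt.mp hlt)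
      rw [h1, ← exp_zero, exp_le_exp]; omega
  obtain ⟨w, hwR, hwP, hzw⟩ := exists_clear_chart hK φ P j hj hmax hRU hPx
    (poles_finite' hK (z / c)).toFinset (z / c) (by
      intro Q hQx hQz
      refine ⟨by rw [Set.Finite.mem_toFinset]; exact hQz, fun hS => ?_⟩
      have h1 := hz Q hS
      have h2 := (hcQ Q hS).2
      have hc0' : 0 < Q.1 c := zero_lt_iff.mpr ((Valuation.ne_zero_iff _).mpr hc0)
      have : Q.1 (z / c) ≤ 1 := by
        rw [map_div₀, div_le_one₀ hc0']; exact h1.trans h2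
      exact absurd hQz (not_lt.mpr this))
  refine ⟨z * w, ?_, w, hwR, hwP, rfl⟩
  have := hc _ hzw
  have h3 : c * (z / c * w) = z * w := by field_simp
  rwa [h3] at this

end LocBound

end Groth.Agent.Lib.LeadFF
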