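import Groth.Agent.Lib.LeadFF46

/-! Vanishing sequences of linear series at two points. -/

namespace Groth.Agent.Lib.LeadFF

open FunFld WithZero

section TwoPts

variable {k K : Type*} [Field k] [Field K] [Algebra k K]

lemma inf_L_two_le {D : Divisor k K} {P Q : Place k K} (hPQ : P ≠ Q) (n m : ℤ) :
    L (D - Finsupp.single P n) ⊓ L (D - Finsupp.single Q m) ≤
      L (D - Finsupp.single P n - Finsupp.single Q m) := by
  classical
  rintro f ⟨h1, h2⟩ R
  have e1 := h1 R
  have e2 := h2 R
  simp only [Finsupp.sub_apply] at e1 e2 ⊢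
  by_cases hRP : R = P
  · subst hRP
    rw [single_apply_ne hPQ m, sub_zero]
    exact e1
  · rw [single_apply_ne hRP n, sub_zero] at e1 ⊢
    exact e2

theorem vanishing_two_points [IsAlgClosed k] (hK : IsFunctionField k K) (d r : ℕ)
    (D : Divisor k K) (hD : D.deg = d) (V : Submodule k K) (hV : V ≤ L D)
    (hVr : Module.finrank k ↥V = r + 1) (P Q : Place k K) (hPQ : P ≠ Q) (n m : ℤ)
    (hnm : n + m = d + 1) :
    Module.finrank k ↥(V ⊓ L (D - Finsupp.single P n)) +
      Module.finrank k ↥(V ⊓ L (D - Finsupp.single Q m)) ≤ r + 1 := by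
  haveI : FiniteDimensional k V := Module.finite_of_finrank_pos (by rw [hVr]; omega)
  set A := V ⊓ L (D - Finsupp.single P n) with hA
  set B := V ⊓ L (D - Finsupp.single Q m) with hB
  haveI : FiniteDimensional k A := Submodule.finiteDimensional_of_le (inf_le_left : A ≤ V)
  haveI : FiniteDimensional k B := Submodule.finiteDimensional_of_le (inf_le_left : B ≤ V)
  have hdeg : (D - Finsupp.single P n - Finsupp.single Q m).deg < 0 := by
    rw [deg_sub, deg_sub, deg_single, deg_single, deg_eq_one_of_algClosed hK P,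
      deg_eq_one_of_algClosed hK Q, hD]
    push_cast; omega
  have hbot : A ⊓ B = ⊥ := by
    rw [eq_bot_iff, ← L_eq_bot_of_deg_neg hK _ hdeg]
    refine le_trans ?_ (inf_L_two_le hPQ n m)
    exact inf_le_inf inf_le_right inf_le_right
  have h1 := Submodule.finrank_sup_add_finrank_inf_eq A B
  rw [hbot, finrank_bot, add_zero] at h1
  rw [← h1, ← hVr]
  exact Submodule.finrank_mono (sup_le inf_le_left inf_le_left)

theorem vanishing_two_points_sum [IsAlgClosed k] (hK : IsFunctionField k K) (d r : ℕ)
    (D : Divisor k K) (hD : D.deg = d) (V : Submodule k K) (hV : V ≤ L D)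
    (hVr : Module.finrank k ↥V = r + 1) (P Q : Place k K) (hPQ : P ≠ Q) :
    (∑ n ∈ Finset.range d, Module.finrank k ↥(V ⊓ L (D - Finsupp.single P ((n : ℤ) + 1)))) +
      (∑ n ∈ Finset.range d, Module.finrank k ↥(V ⊓ L (D - Finsupp.single Q ((n : ℤ) + 1)))) ≤
      (r + 1) * d := by
  rw [← Finset.sum_range_reflect (fun n => Module.finrank k
    ↥(V ⊓ L (D - Finsupp.single Q ((n : ℤ) + 1)))) d, ← Finset.sum_add_distrib]
  calc _ ≤ ∑ _n ∈ Finset.range d, (r + 1) := by
        apply Finset.sum_le_sum
        intro n hn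
        rw [Finset.mem_range] at hn
        apply vanishing_two_points hK d r D hD V hV hVr P Q hPQ
        have : ((d - 1 - n : ℕ) : ℤ) = (d : ℤ) - 1 - n := by omega
        rw [this]; ring
    _ = (r + 1) * d := by rw [Finset.sum_const, Finset.card_range, smul_eq_mul, mul_comm]

end TwoPts

end Groth.Agent.Lib.LeadFF
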