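import Groth.Agent.Lib.LeadFF47

/-! Genus zero: coordinates, simple zeros, and cuspidal linear series. -/

namespace Groth.Agent.Lib.LeadFF

open FunFld WithZero Polynomial

section G0

variable {k K : Type*} [Field k] [Field K] [Algebra k K]

lemma deg_eq_tot [IsAlgClosed k] (hK : IsFunctionField k K) (D : Divisor k K) : D.deg = tot D := by
  unfold Divisor.deg tot
  apply Finsupp.sum_congr
  intro P _
  rw [deg_eq_one_of_algClosed hK P]; simp

/-- a function with a single simple pole has only simple zeros. -/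
lemma simple_zero_of_simple_pole [IsAlgClosed k] (hK : IsFunctionField k K) {x : K}
    (hx : x ∉ Set.range (algebraMap k K)) {Ps : Place k K} (hPs : Ps.ord x = -1)
    (hR : ∀ R : Place k K, R ≠ Ps → 0 ≤ R.ord x) {Q : Place k K} (hQ : Q.1 x < 1) :
    Q.1 x = exp (-1 : ℤ) := by
  classical
  have hxt := transcendental_of_not_mem hK hx
  have hx0 : x ≠ 0 := fun h => hxt (h ▸ isAlgebraic_zero)
  have hpole : zdiv k x⁻¹ = Finsupp.single Ps 1 := by
    ext R
    rw [pdiv_apply hK]
    by_cases hRP : R = Ps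
    · subst hRP; rw [hPs, single_apply_self]; norm_num
    · rw [single_apply_ne hRP]
      have := hR R hRP
      omega
  have h1 := finrank_adjoin_eq_deg_pdiv hK hx
  rw [hpole, deg_single, deg_eq_one_of_algClosed hK Ps] at h1
  have h2 := deg_zdiv_eq hK hxt
  rw [← h1] at h2
  obtain ⟨Q', -, hQ'⟩ := effective_deg_one hK (zdiv_nonneg x) (by rw [h2]; norm_num)
  have h3 := zdiv_apply hK x Q
  rw [hQ'] at h3
  have hpos : 0 < Q.ord x := (ord_pos_iff Q hx0).mpr hQ
  have h4 : (Finsupp.single Q' (1 : ℤ) : Divisor k K) Q ≤ 1 := by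
    by_cases hQQ : Q = Q'
    · subst hQQ; rw [single_apply_self]
    · rw [single_apply_ne hQQ]; norm_num
  have h5 : Q.ord x = 1 := by
    rw [max_eq_left hpos.le] at h3
    omega
  rw [val_eq_exp_neg_ord Q hx0, h5]

/-- a coordinate with a simple zero at `P` and a simple pole at `P'` in genus zero. -/
lemma exists_coordinate [IsAlgClosed k] (hK : IsFunctionField k K) (hg0 : genus k K = 0)
    {P P' : Place k K} (hPP : P ≠ P') :
    ∃ t : K, t ≠ 0 ∧ P.ord t = 1 ∧ P'.ord t = -1 ∧ ∀ R : Place k K, R ≠ P → R ≠ P' → R.ord t = 0 := by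
  classical
  set E : Divisor k K := Finsupp.single P' 1 - Finsupp.single P 1 with hE
  have hEdeg : E.deg = 0 := by
    rw [hE, deg_sub, deg_single, deg_single, deg_eq_one_of_algClosed hK P,
      deg_eq_one_of_algClosed hK P']; norm_num
  have hell := ell_of_deg_ge hK E (by rw [hg0, hEdeg]; norm_num)
  rw [hEdeg, hg0] at hell
  have hell1 : ell E = 1 := by
    have : (ell E : ℤ) = 1 := by rw [hell]; norm_num
    exact_mod_cast this
  have hne : L E ≠ ⊥ := by
    intro hbot
    unfold ell at hell1
    rw [hbot, finrank_bot] at hell1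
    omega
  obtain ⟨t, htL, ht0⟩ := (Submodule.ne_bot_iff _).mp hne
  have hle := neg_le_div_of_mem_L hK htL ht0
  have hG : FunFld.div k t + E = 0 := by
    apply eq_zero_of_tot_eq_zero
    · intro R
      have := hle R
      rw [Finsupp.neg_apply] at this
      rw [Finsupp.add_apply]
      simp only [Finsupp.coe_zero, Pi.zero_apply]
      omega
    · rw [← deg_eq_tot hK, deg_add, deg_div hK, hEdeg]; norm_num
  have hdiv : ∀ R, R.ord t = -(E R) := by
    intro R
    have := congrArg (fun D : Divisor k K => D R) hG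
    simp only [Finsupp.add_apply, Finsupp.coe_zero, Pi.zero_apply, div_apply hK] at this
    omega
  refine ⟨t, ht0, ?_, ?_, ?_⟩
  · rw [hdiv, hE, Finsupp.sub_apply, single_apply_self, single_apply_ne hPP]; norm_num
  · rw [hdiv, hE, Finsupp.sub_apply, single_apply_self, single_apply_ne hPP.symm]; norm_num
  · intro R h1 h2
    rw [hdiv, hE, Finsupp.sub_apply, single_apply_ne h1, single_apply_ne h2]; norm_num

/-- polynomial congruence. -/
lemma val_aeval_sub_eval_lt {Γ₀ : Type*} [LinearOrderedCommGroupWithZero Γ₀]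
    {v : Valuation K Γ₀} (hk : TrivOn k v) {s : K} {s₀ : k} (hs : v (s - algebraMap k K s₀) < 1)
    (q : k[X]) : v (aeval s q - algebraMap k K (q.eval s₀)) < 1 := by
  have h1 := val_aeval_sub_coeff_zero_lt hk hs (q.comp (X + C s₀))
  have h2 : aeval (s - algebraMap k K s₀) (q.comp (X + C s₀)) = aeval s q := by
    rw [aeval_comp]; simp
  have h3 : (q.comp (X + C s₀)).coeff 0 = q.eval s₀ := by
    rw [coeff_zero_eq_eval_zero, eval_comp]; simp
  rwa [h2, h3] at h1

end G0

end Groth.Agent.Lib.LeadFF
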