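import Groth.Agent.Lib.LeadFF40

/-! Weak-hypothesis versions (base field only `LeadFG.IsFF`) of lying-over and conorm lemmas. -/

namespace Groth.Agent.Lib.LeadFH

open FunFld WithZero Groth.Agent.Lib.LeadFG

section Ext

variable {k K K' : Type*} [Field k] [Field K] [Field K'] [Algebra k K] [Algebra K K']
  [Algebra k K'] [IsScalarTower k K K']

lemma isFF_of_finite [FiniteDimensional K K'] (hK : IsFF k K) : IsFF k K' := by
  obtain ⟨x, hx, hfin⟩ := hK
  exact ⟨algebraMap K K' x, LeadFF.transcendental_algebraMap hx, LeadFF.finite_adjoin_map x hfin⟩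

variable [FiniteDimensional K K']

/-- the place below (weak base). -/
theorem exists_below (hK : IsFF k K) (Q : Place k K') :
    ∃ (P : Place k K) (e : ℕ), 0 < e ∧ IsOverWith Q P e := by
  let w : Valuation K (WithZero (Multiplicative ℤ)) := Q.1.comap (algebraMap K K')
  have hw : ∀ x, w x = Q.1 (algebraMap K K' x) := fun x => rfl
  have hk : TrivOn k w := by
    intro c hc
    rw [hw, ← IsScalarTower.algebraMap_apply]
    exact place_trivOn Q c hc
  have hnt : ∃ z : K, z ≠ 0 ∧ w z < 1 := by
    by_contra hno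
    push Not at hno
    have htriv : TrivOn K Q.1 := by
      intro z hz
      have h1 := hno z hz
      have h2 := hno z⁻¹ (inv_ne_zero hz)
      have h3 : w z * w z⁻¹ = 1 := by rw [← map_mul, mul_inv_cancel₀ hz, map_one]
      rw [← hw]
      apply le_antisymm _ h1
      by_contra hlt
      rw [not_le] at hlt
      have : 1 < w z * w z⁻¹ := by
        calc (1 : WithZero (Multiplicative ℤ)) < w z := hlt
          _ = w z * 1 := (mul_one _).symm
          _ ≤ w z * w z⁻¹ := mul_le_mul' le_rfl h2
      exact absurd h3 this.ne'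
    obtain ⟨u, hu⟩ := Q.2.2 (exp (1 : ℤ))
    have hint : IsIntegral K u := Algebra.IsIntegral.isIntegral u
    have := val_le_one_of_isIntegral htriv hint
    rw [hu, ← exp_zero, exp_le_exp] at this
    omega
  obtain ⟨z, hz0, hz⟩ := hnt
  obtain ⟨P, hP⟩ := exists_place_of_valuation hK hk hz0 hz
  obtain ⟨t, ht⟩ := exists_unif P
  have ht0 := unif_ne_zero ht
  have hwt0 : w t ≠ 0 := (Valuation.ne_zero_iff _).mpr ht0
  have hwt1 : w t < 1 := by
    by_contra hge
    rw [not_lt] at hge
    have : P.1 1 ≤ P.1 t := (hP 1 t).mpr (by rwa [map_one])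
    rw [map_one, ht, ← exp_zero, exp_le_exp] at this
    omega
  obtain ⟨a, ha⟩ : ∃ a : ℤ, w t = exp a := ⟨log (w t), (exp_log hwt0).symm⟩
  have ha0 : a < 0 := by rwa [ha, ← exp_zero, exp_lt_exp] at hwt1
  have hunit : ∀ u : K, P.1 u = 1 → w u = 1 := by
    intro u hu
    apply le_antisymm
    · have := (hP u 1).mp (by rw [hu, map_one])
      rwa [map_one] at this
    · have := (hP 1 u).mp (by rw [hu, map_one])
      rwa [map_one] at this
  have key : ∀ y : K, y ≠ 0 → w y = w t ^ (P.ord y) := by
    intro y hy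
    have hu : P.1 (y / t ^ (P.ord y)) = 1 := by
      rw [map_div₀, map_zpow₀, ht, val_eq_exp_neg_ord P hy, zm0_exp_zpow, mul_neg_one,
        div_self exp_ne_zero]
    have := hunit _ hu
    rw [map_div₀, map_zpow₀, div_eq_one_iff_eq] at this
    · exact this
    · exact zpow_ne_zero _ hwt0
  refine ⟨P, (-a).toNat, by omega, ?_⟩
  intro y
  rw [← hw]
  by_cases hy : y = 0
  · subst hy
    rw [map_zero, map_zero, zero_pow (by omega)]
  rw [key y hy, ha, zm0_exp_zpow, val_eq_exp_neg_ord P hy, zm0_exp_pow]
  congr 1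
  rw [Int.toNat_of_nonneg (by omega)]
  ring

theorem finite_over (hK : IsFF k K) (P : Place k K) :
    {Q : Place k K' | IsOver Q P}.Finite := by
  obtain ⟨t, ht⟩ := exists_unif P
  have ht0 := unif_ne_zero ht
  have hK' : IsFF k K' := isFF_of_finite hK
  apply Set.Finite.subset (support_ord_finite hK' (algebraMap K K' t))
  rintro Q ⟨e, he⟩
  have he0 := LeadFF.isOverWith_pos he
  have hlt : Q.1 (algebraMap K K' t) < 1 := by
    rw [he t]
    exact pow_lt_one' (by rw [ht, ← exp_zero, exp_lt_exp]; omega) he0.ne'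
  have hy0 : algebraMap K K' t ≠ 0 := by
    rw [Ne, map_eq_zero_iff _ (algebraMap K K').injective]; exact ht0
  rw [Function.mem_support]
  rw [val_eq_exp_neg_ord Q hy0, ← exp_zero, exp_lt_exp] at hlt
  omega

open scoped Classical in
/-- the divisor `∑_{Q|P} e(Q|P) Q`. -/
noncomputable def conormPlace (hK : IsFF k K) (P : Place k K) : Divisor k K' :=
  (finite_over (K' := K') hK P).toFinset.sum (fun Q => (ramIdx Q P : ℤ) • Finsupp.single Q 1)

lemma conorm_eq (hK : IsFF k K) (D : Divisor k K) :
    conorm K' D = D.sum fun P n => n • conormPlace (K' := K') hK P := by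
  classical
  unfold conorm
  apply Finsupp.sum_congr
  intro P _
  rw [dif_pos (finite_over hK P)]
  rfl

open scoped Classical in
lemma conormPlace_apply (hK : IsFF k K) {Q : Place k K'} {P : Place k K} {e : ℕ}
    (h : IsOverWith Q P e) (P' : Place k K) :
    conormPlace (K' := K') hK P' Q = if P' = P then (e : ℤ) else 0 := by
  unfold conormPlace
  rw [Finsupp.finsetSum_apply]
  simp only [Finsupp.smul_apply, smul_eq_mul, Finsupp.single_apply, mul_ite, mul_one, mul_zero]
  rw [Finset.sum_ite_eq']
  simp only [Set.Finite.mem_toFinset, Set.mem_ofPred_eq]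
  by_cases hP : P' = P
  · subst hP
    rw [if_pos ⟨e, h⟩, if_pos rfl, LeadFF.ramIdx_eq h]
  · rw [if_neg hP, if_neg]
    rintro ⟨e', he'⟩
    exact hP (LeadFF.isOverWith_unique he' h).1

lemma conorm_apply (hK : IsFF k K) (D : Divisor k K) {Q : Place k K'} {P : Place k K}
    {e : ℕ} (h : IsOverWith Q P e) : conorm K' D Q = e * D P := by
  classical
  rw [conorm_eq hK, Finsupp.sum_apply]
  simp only [Finsupp.smul_apply, smul_eq_mul, conormPlace_apply hK h, mul_ite, mul_zero]
  unfold Finsupp.sum
  rw [Finset.sum_ite_eq']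
  split_ifs with hP
  · ring
  · rw [Finsupp.notMem_support_iff.mp hP]; ring

end Ext

section Tower

variable {k K K' K'' : Type*} [Field k] [Field K] [Field K'] [Field K''] [Algebra k K]
  [Algebra k K'] [Algebra k K''] [Algebra K K'] [Algebra K' K''] [Algebra K K'']
  [IsScalarTower k K K'] [IsScalarTower k K' K''] [IsScalarTower k K K'']
  [IsScalarTower K K' K'']

lemma isOverWith_trans {Q'' : Place k K''} {Q' : Place k K'} {P : Place k K} {e e' : ℕ}
    (h'' : IsOverWith Q'' Q' e') (h' : IsOverWith Q' P e) : IsOverWith Q'' P (e * e') := by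
  intro x
  rw [IsScalarTower.algebraMap_apply K K' K'', h'' _, h' x, pow_mul]

theorem conorm_conorm [FiniteDimensional K K'] [FiniteDimensional K' K''] (hK : IsFF k K)
    (D : Divisor k K) : conorm K'' (conorm K' D) = conorm K'' D := by
  haveI : FiniteDimensional K K'' := Module.Finite.trans K' K''
  have hK' : IsFF k K' := isFF_of_finite hK
  ext Q''
  obtain ⟨Q', e', -, he'⟩ := exists_below hK' Q''
  obtain ⟨P, e, -, he⟩ := exists_below hK Q'
  rw [conorm_apply hK' _ he', conorm_apply hK _ he, conorm_apply hK _ (isOverWith_trans he' he)]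
  push_cast; ring

end Tower

end Groth.Agent.Lib.LeadFH
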