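import Mathlib
import Groth.Prelude.Def_W4c6puncthilbintroLift

/-!
# Flatness over the dual numbers

A module `M` over `A[ε]` is flat as soon as `M/εM` is `A`-flat and `Ann_M(ε) = εM`; conversely
for flat `M`, `Ann_M(ε) = εM`.
-/

universe u v w

namespace Groth.Agent.Lib.LeadFO

open DualNumber TrivSqZeroExt

section general

variable {A : Type u} [CommRing A]

theorem mul_eps (b : DualNumber A) : b * ε = ε * inl b.fst := by
  apply TrivSqZeroExt.ext <;> simp [DualNumber.snd_mul]

theorem eq_eps_mul_of_fst_eq_zero (b : DualNumber A) (h : b.fst = 0) : b = ε * inl b.snd := by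
  apply TrivSqZeroExt.ext <;> simp [DualNumber.snd_mul, h]

/-- For flat `M`, `ε • m = 0` implies `m ∈ εM`. -/
theorem exists_eps_smul_of_flat {M : Type v} [AddCommGroup M] [Module (DualNumber A) M]
    [Module.Flat (DualNumber A) M] (m : M) (hm : (ε : DualNumber A) • m = 0) :
    ∃ m' : M, m = (ε : DualNumber A) • m' := by
  have h : ∑ i : Fin 1, (fun _ => (ε : DualNumber A)) i • (fun _ => m) i = 0 := by simpa using hm
  obtain ⟨k, a, y, hy, ha⟩ := Module.Flat.isTrivialRelation_of_sum_smul_eq_zero h
  have ha' : ∀ j, a 0 j = ε * inl (a 0 j).snd := by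
    intro j
    apply eq_eps_mul_of_fst_eq_zero
    have := congrArg TrivSqZeroExt.snd (ha j)
    simpa [DualNumber.snd_mul] using this
  refine ⟨∑ j, (inl (a 0 j).snd : DualNumber A) • y j, ?_⟩
  have h0 : m = ∑ j, a 0 j • y j := hy 0
  conv_lhs => rw [h0]
  rw [Finset.smul_sum]
  refine Finset.sum_congr rfl fun j _ => ?_
  rw [smul_smul, ← ha' j]

/-- Flatness criterion over the dual numbers. -/
theorem flat_of_eps {M : Type v} [AddCommGroup M] [Module (DualNumber A) M]
    {N : Type w} [AddCommGroup N] [Module A N] [Module.Flat A N]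
    (π : M →+ N) (hπ : ∀ (b : DualNumber A) (m : M), π (b • m) = b.fst • π m)
    (hsurj : Function.Surjective π)
    (hker : ∀ m, π m = 0 → ∃ m', m = (ε : DualNumber A) • m')
    (hann : ∀ m, (ε : DualNumber A) • m = 0 → π m = 0) :
    Module.Flat (DualNumber A) M := by
  apply Module.Flat.of_forall_isTrivialRelation
  intro l f x hfx
  have hπeps : ∀ m, π ((ε : DualNumber A) • m) = 0 := by
    intro m; rw [hπ]; simp
  -- Step 1
  have h1 : ∑ i, (f i).fst • π (x i) = 0 := by
    have := congrArg π hfx
    simpa [map_sum, hπ] using this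
  obtain ⟨k, a, ybar, hy, ha⟩ := Module.Flat.isTrivialRelation_of_sum_smul_eq_zero h1
  choose y hy' using fun j => hsurj (ybar j)
  have hz : ∀ i, ∃ z, x i = ∑ j, (inl (a i j) : DualNumber A) • y j + (ε : DualNumber A) • z := by
    intro i
    obtain ⟨z, hz⟩ := hker (x i - ∑ j, (inl (a i j) : DualNumber A) • y j) (by
      simp [map_sub, map_sum, hπ, hy', hy i])
    exact ⟨z, by rw [← hz]; abel⟩
  choose z hz using hz
  -- Step 2
  set g : Fin k → A := fun j => ∑ i, (f i).snd * a i j with hg
  have hcol : ∀ j, ∑ i, f i * inl (a i j) = (ε : DualNumber A) * inl (g j) := by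
    intro j
    apply TrivSqZeroExt.ext
    · have := ha j
      simpa [TrivSqZeroExt.fst_sum] using this
    · simp [TrivSqZeroExt.snd_sum, DualNumber.snd_mul, hg]
  have hw : (ε : DualNumber A) • (∑ j, (inl (g j) : DualNumber A) • y j +
      ∑ i, (inl (f i).fst : DualNumber A) • z i) = 0 := by
    rw [← hfx]
    have e1 : ∀ i, f i • x i = ∑ j, (f i * inl (a i j)) • y j +
        ((ε : DualNumber A) * inl (f i).fst) • z i := by
      intro i
      conv_lhs => rw [hz i]
      rw [smul_add, Finset.smul_sum, smul_smul, mul_eps]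
      simp_rw [smul_smul]
    simp_rw [e1, Finset.sum_add_distrib, smul_add, Finset.smul_sum, smul_smul]
    congr 1
    rw [Finset.sum_comm]
    refine Finset.sum_congr rfl fun j _ => ?_
    rw [← Finset.sum_smul, hcol j]
  -- Step 3
  have h2 := hann _ hw
  have h3 : ∑ p : Fin k ⊕ Fin l, (Sum.elim g (fun i => (f i).fst) p) •
      (Sum.elim ybar (fun i => π (z i)) p) = 0 := by
    rw [Fintype.sum_sum_type]
    simpa [map_add, map_sum, hπ, hy'] using h2
  obtain ⟨k', c, ubar, hc1, hc2⟩ := Module.Flat.isTrivialRelation_of_sum_smul_eq_zero h3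
  choose u hu using fun m => hsurj (ubar m)
  have hy2 : ∀ j, ∃ y', y j = ∑ m, (inl (c (Sum.inl j) m) : DualNumber A) • u m +
      (ε : DualNumber A) • y' := by
    intro j
    obtain ⟨y', hy'2⟩ := hker (y j - ∑ m, (inl (c (Sum.inl j) m) : DualNumber A) • u m) (by
      have := hc1 (Sum.inl j)
      simp only [Sum.elim_inl] at this
      simp [map_sub, map_sum, hπ, hu, hy', this])
    exact ⟨y', by rw [← hy'2]; abel⟩
  choose y' hy2 using hy2
  have hz2 : ∀ i, ∃ z', z i = ∑ m, (inl (c (Sum.inr i) m) : DualNumber A) • u m +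
      (ε : DualNumber A) • z' := by
    intro i
    obtain ⟨z', hz'2⟩ := hker (z i - ∑ m, (inl (c (Sum.inr i) m) : DualNumber A) • u m) (by
      have := hc1 (Sum.inr i)
      simp only [Sum.elim_inr] at this
      simp [map_sub, map_sum, hπ, hu, this])
    exact ⟨z', by rw [← hz'2]; abel⟩
  choose z' hz2 using hz2
  -- Step 4
  rw [Module.isTrivialRelation_iff_vanishesTrivially]
  refine TensorProduct.VanishesTrivially.of_fintype (κ := Fin k' ⊕ Fin k)
    (fun i p => Sum.elim (fun m => (inl (∑ j, a i j * c (Sum.inl j) m) : DualNumber A) +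
      ε * inl (c (Sum.inr i) m)) (fun j => (ε : DualNumber A) * inl (a i j)) p)
    (Sum.elim u y') ?_ ?_
  · intro i
    rw [Fintype.sum_sum_type]
    simp only [Sum.elim_inl, Sum.elim_inr]
    rw [hz i, hz2 i]
    simp_rw [hy2]
    simp only [smul_add, Finset.smul_sum, smul_smul, add_smul, Finset.sum_add_distrib,
      DualNumber.eps_mul_eps, zero_smul, add_zero, TrivSqZeroExt.inl_sum, Finset.sum_smul,
      TrivSqZeroExt.inl_mul_inl]
    rw [Finset.sum_comm]
    have : ∀ (j : Fin k), (inl (a i j) : DualNumber A) * ε = ε * inl (a i j) := fun j =>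
      (DualNumber.commute_eps_right _).eq
    simp_rw [this]
    abel
  · rintro (m | j)
    · simp only [Sum.elim_inl, smul_eq_mul]
      have hc2m := hc2 m
      rw [Fintype.sum_sum_type] at hc2m
      simp only [Sum.elim_inl, Sum.elim_inr] at hc2m
      apply TrivSqZeroExt.ext
      · simp only [TrivSqZeroExt.fst_sum, TrivSqZeroExt.fst_mul, TrivSqZeroExt.fst_add,
          TrivSqZeroExt.fst_inl, DualNumber.fst_eps, zero_mul, add_zero, TrivSqZeroExt.fst_zero]
        have : ∀ j, ∑ i, (f i).fst * a i j = 0 := fun j => ha j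
        calc ∑ i, (∑ j, a i j * c (Sum.inl j) m) * (f i).fst
            = ∑ j, (∑ i, (f i).fst * a i j) * c (Sum.inl j) m := by
              simp_rw [Finset.sum_mul]
              rw [Finset.sum_comm]
              refine Finset.sum_congr rfl fun j _ => Finset.sum_congr rfl fun i _ => by ring
          _ = 0 := by simp [this]
      · simp only [TrivSqZeroExt.snd_sum, DualNumber.snd_mul, TrivSqZeroExt.fst_add,
          TrivSqZeroExt.snd_add, TrivSqZeroExt.fst_mul,
          TrivSqZeroExt.fst_inl, TrivSqZeroExt.snd_inl, DualNumber.fst_eps, DualNumber.snd_eps,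
          zero_mul, add_zero, TrivSqZeroExt.snd_zero, mul_zero, zero_add, one_mul]
        rw [← hc2m]
        simp only [hg, Finset.sum_mul, Finset.mul_sum, mul_add, Finset.sum_add_distrib]
        congr 1
        · rw [Finset.sum_comm]
          refine Finset.sum_congr rfl fun j _ => Finset.sum_congr rfl fun i _ => by ring
        · refine Finset.sum_congr rfl fun i _ => by ring
    · simp only [Sum.elim_inr, smul_eq_mul]
      have : ∀ i, ((ε : DualNumber A) * inl (a i j)) * f i = ε * (f i * inl (a i j)) := by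
        intro i; ring
      simp_rw [this]
      rw [← Finset.mul_sum, hcol j, ← mul_assoc, DualNumber.eps_mul_eps, zero_mul]

end general

end Groth.Agent.Lib.LeadFO
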