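import Groth.Agent.Lib.LeadFO1

/-!
# First-order liftings of an ideal with flat quotient
-/

universe u

namespace Groth.Agent.Lib.LeadFO

open DualNumber TrivSqZeroExt W4c6puncthilbintro

attribute [local instance] W4c6puncthilbintro.dualAlgebra

variable (A : Type u) [CommRing A] (R : Type u) [CommRing R] [Algebra A R]

theorem fst_dualMap (b : DualNumber A) : (dualMap A R b).fst = algebraMap A R b.fst := by
  have h : (TrivSqZeroExt.fstHom A R R).comp (dualMap A R) =
      (Algebra.ofId A R).comp (TrivSqZeroExt.fstHom A A A) := by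
    apply DualNumber.algHom_ext
    simp
  exact DFunLike.congr_fun h b

theorem dual_smul_def (b : DualNumber A) (s : DualNumber R) : b • s = dualMap A R b * s := rfl

variable {A R}

theorem mem_liftIdeal {I : Ideal R} {φ : I →ₗ[R] R ⧸ I} {x : DualNumber R} :
    x ∈ liftIdeal I φ ↔ ∃ h : x.fst ∈ I, Ideal.Quotient.mk I x.snd = φ ⟨x.fst, h⟩ := Iff.rfl

theorem exists_mem_liftIdeal (I : Ideal R) (φ : I →ₗ[R] R ⧸ I) (a : R) (ha : a ∈ I) :
    ∃ b : R, (inl a + inr b : DualNumber R) ∈ liftIdeal I φ := by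
  obtain ⟨b, hb⟩ := Ideal.Quotient.mk_surjective (φ ⟨a, ha⟩)
  refine ⟨b, ?_⟩
  rw [mem_liftIdeal]
  have h1 : (inl a + inr b : DualNumber R).fst = a := by simp
  have h2 : (inl a + inr b : DualNumber R).snd = b := by simp
  refine ⟨by rw [h1]; exact ha, ?_⟩
  rw [h2, hb]
  congr 1
  exact Subtype.ext h1.symm

theorem eps_mul_eq (x : DualNumber R) : (ε : DualNumber R) * x = inr x.fst := by
  apply TrivSqZeroExt.ext <;> simp [DualNumber.snd_mul]

theorem map_fst_liftIdeal (I : Ideal R) (φ : I →ₗ[R] R ⧸ I) :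
    Ideal.map (TrivSqZeroExt.fstHom A R R) (liftIdeal I φ) = I := by
  apply le_antisymm
  · rw [Ideal.map_le_iff_le_comap]
    rintro x ⟨h, -⟩
    exact h
  · intro a ha
    obtain ⟨b, hb⟩ := exists_mem_liftIdeal I φ a ha
    have := Ideal.mem_map_of_mem (TrivSqZeroExt.fstHom A R R) hb
    simpa using this

theorem liftIdeal_injective (I : Ideal R) : Function.Injective (liftIdeal I) := by
  intro φ ψ h
  apply LinearMap.ext
  rintro ⟨a, ha⟩
  obtain ⟨b, hb⟩ := Ideal.Quotient.mk_surjective (φ ⟨a, ha⟩)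
  have h1 : (inl a + inr b : DualNumber R).fst = a := by simp
  have h2 : (inl a + inr b : DualNumber R).snd = b := by simp
  have hmem : (inl a + inr b : DualNumber R) ∈ liftIdeal I φ := by
    rw [mem_liftIdeal]
    refine ⟨by rw [h1]; exact ha, ?_⟩
    rw [h2, hb]
    congr 1
    exact Subtype.ext h1.symm
  rw [h, mem_liftIdeal] at hmem
  obtain ⟨h3, h4⟩ := hmem
  rw [← hb, ← h2, h4]
  congr 1
  exact Subtype.ext h1

variable (A) in
theorem flat_liftIdeal (I : Ideal R) [Module.Flat A (R ⧸ I)] (φ : I →ₗ[R] R ⧸ I) :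
    Module.Flat (DualNumber A) (DualNumber R ⧸ liftIdeal I φ) := by
  let π : DualNumber R ⧸ liftIdeal I φ →+* R ⧸ I :=
    Ideal.Quotient.lift (liftIdeal I φ)
      ((Ideal.Quotient.mk I).comp (TrivSqZeroExt.fstHom A R R).toRingHom)
      (fun x hx => by
        obtain ⟨h, -⟩ := hx
        exact Ideal.Quotient.eq_zero_iff_mem.mpr h)
  have hπmk : ∀ s : DualNumber R, π (Ideal.Quotient.mk _ s) = Ideal.Quotient.mk I s.fst := by
    intro s; rfl
  have hsmul : ∀ (b : DualNumber A) (s : DualNumber R),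
      b • (Ideal.Quotient.mk (liftIdeal I φ) s) = Ideal.Quotient.mk _ (dualMap A R b * s) := by
    intro b s; rfl
  refine flat_of_eps (N := R ⧸ I) π.toAddMonoidHom ?_ ?_ ?_ ?_
  · intro b m
    obtain ⟨s, rfl⟩ := Ideal.Quotient.mk_surjective m
    rw [hsmul]
    simp only [RingHom.toAddMonoidHom_eq_coe, AddMonoidHom.coe_coe, hπmk]
    rw [TrivSqZeroExt.fst_mul, fst_dualMap, map_mul, Algebra.smul_def]
    rfl
  · intro r
    obtain ⟨r, rfl⟩ := Ideal.Quotient.mk_surjective r
    exact ⟨Ideal.Quotient.mk _ (inl r), by simp [hπmk]⟩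
  · intro m hm
    obtain ⟨s, rfl⟩ := Ideal.Quotient.mk_surjective m
    simp only [RingHom.toAddMonoidHom_eq_coe, AddMonoidHom.coe_coe, hπmk] at hm
    have ha : s.fst ∈ I := Ideal.Quotient.eq_zero_iff_mem.mp hm
    obtain ⟨b', hb'⟩ := exists_mem_liftIdeal I φ s.fst ha
    refine ⟨Ideal.Quotient.mk _ (inl (s.snd - b')), ?_⟩
    rw [hsmul, dualMap_eps, eps_mul_eq, Ideal.Quotient.eq]
    have : s - inr (inl (s.snd - b') : DualNumber R).fst = inl s.fst + inr b' := by
      apply TrivSqZeroExt.ext <;> simp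
    rw [this]
    exact hb'
  · intro m hm
    obtain ⟨s, rfl⟩ := Ideal.Quotient.mk_surjective m
    rw [hsmul, dualMap_eps, eps_mul_eq, Ideal.Quotient.eq_zero_iff_mem, mem_liftIdeal] at hm
    obtain ⟨h, hm⟩ := hm
    simp only [RingHom.toAddMonoidHom_eq_coe, AddMonoidHom.coe_coe, hπmk]
    have h0 : (⟨(inr s.fst : DualNumber R).fst, h⟩ : I) = 0 := by
      apply Subtype.ext; simp
    rw [h0, map_zero] at hm
    simpa using hm

variable (A) in
theorem exists_eq_liftIdeal (I : Ideal R) (J : Ideal (DualNumber R))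
    (hflat : Module.Flat (DualNumber A) (DualNumber R ⧸ J))
    (hJ : Ideal.map (TrivSqZeroExt.fstHom A R R) J = I) :
    ∃ φ : I →ₗ[R] R ⧸ I, J = liftIdeal I φ := by
  have hsurj : Function.Surjective (TrivSqZeroExt.fstHom A R R) := fun r => ⟨inl r, by simp⟩
  have hI : ∀ a, a ∈ I ↔ ∃ x ∈ J, x.fst = a := by
    intro a
    rw [← hJ, Ideal.mem_map_iff_of_surjective _ hsurj]
    rfl
  have hsmul : ∀ (b : DualNumber A) (s : DualNumber R),
      b • (Ideal.Quotient.mk J s) = Ideal.Quotient.mk _ (dualMap A R b * s) := by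
    intro b s; rfl
  have hinr : ∀ b : R, (inr b : DualNumber R) ∈ J ↔ b ∈ I := by
    intro b
    constructor
    · intro hb
      have h1 : (ε : DualNumber A) • (Ideal.Quotient.mk J (inl b)) = 0 := by
        rw [hsmul, dualMap_eps, eps_mul_eq, Ideal.Quotient.eq_zero_iff_mem]
        simpa using hb
      obtain ⟨m', hm'⟩ := exists_eps_smul_of_flat (A := A) (M := DualNumber R ⧸ J)
        (Ideal.Quotient.mk J (inl b)) h1
      obtain ⟨s, rfl⟩ := Ideal.Quotient.mk_surjective m'
      rw [hsmul, dualMap_eps, eps_mul_eq, Ideal.Quotient.eq] at hm'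
      rw [hI]
      exact ⟨_, hm', by simp⟩
    · intro hb
      obtain ⟨x, hx, rfl⟩ := (hI b).mp hb
      rw [← eps_mul_eq]
      exact J.mul_mem_left _ hx
  have huniq : ∀ x ∈ J, ∀ x' ∈ J, x.fst = x'.fst →
      Ideal.Quotient.mk I x.snd = Ideal.Quotient.mk I x'.snd := by
    intro x hx x' hx' h
    rw [Ideal.Quotient.eq, ← hinr]
    have : (inr (x.snd - x'.snd) : DualNumber R) = x - x' := by
      apply TrivSqZeroExt.ext <;> simp [h]
    rw [this]
    exact J.sub_mem hx hx'
  have hex : ∀ a : I, ∃ x ∈ J, x.fst = a.1 := fun a => (hI a.1).mp a.2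
  choose X hXJ hXfst using hex
  let φ : I →ₗ[R] R ⧸ I :=
    { toFun := fun a => Ideal.Quotient.mk I (X a).snd
      map_add' := by
        intro a a'
        rw [← map_add, ← TrivSqZeroExt.snd_add]
        apply huniq _ (hXJ _) _ (J.add_mem (hXJ a) (hXJ a'))
        simp [hXfst]
      map_smul' := by
        intro r a
        have h1 : Ideal.Quotient.mk I (X (r • a)).snd =
            Ideal.Quotient.mk I ((inl r : DualNumber R) * X a).snd := by
          apply huniq _ (hXJ _) _ (J.mul_mem_left _ (hXJ a))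
          simp [hXfst]
        rw [h1, DualNumber.snd_mul]
        simp only [TrivSqZeroExt.fst_inl, TrivSqZeroExt.snd_inl, zero_mul, add_zero,
          RingHom.id_apply, map_mul]
        rfl }
  have hφ : ∀ a : I, φ a = Ideal.Quotient.mk I (X a).snd := fun a => rfl
  refine ⟨φ, ?_⟩
  ext x
  rw [mem_liftIdeal]
  constructor
  · intro hx
    have hx1 : x.fst ∈ I := (hI _).mpr ⟨x, hx, rfl⟩
    refine ⟨hx1, ?_⟩
    rw [hφ]
    exact huniq x hx _ (hXJ _) (hXfst ⟨x.fst, hx1⟩).symm
  · rintro ⟨h, hx⟩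
    rw [hφ, Ideal.Quotient.eq, ← hinr] at hx
    have : x = X ⟨x.fst, h⟩ + inr (x.snd - (X ⟨x.fst, h⟩).snd) := by
      apply TrivSqZeroExt.ext <;> simp [hXfst]
    rw [this]
    exact J.add_mem (hXJ _) hx

end Groth.Agent.Lib.LeadFO
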