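import Mathlib
import Groth.Agent.Lib.Helper3FlatLocA
import Groth.Agent.Lib.Helper3FlatOpenFP

set_option autoImplicit false
set_option linter.style.haveILetI false

universe u

namespace Groth.Agent.Lib.LeadFPLoc

open TensorProduct

section Flat

/-- An element of a flat module which is killed locally at finitely many primes `p_j` with
`R ↪ ∏ R_{p_j}` injective is zero. -/
theorem eq_zero_of_flat_of_locally_zero {R F : Type*} [CommRing R] [AddCommGroup F] [Module R F]
    [Module.Flat R F] (s : Finset (PrimeSpectrum R))
    (hs : Function.Injective fun r : R => fun p : s =>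
      algebraMap R (Localization.AtPrime p.1.asIdeal) r)
    (y : F) (hy : ∀ p ∈ s, ∃ t : R, t ∉ p.asIdeal ∧ t • y = 0) : y = 0 := by
  classical
  let R' := (p : s) → Localization.AtPrime p.1.asIdeal
  let ι : R →ₗ[R] R' :=
    LinearMap.pi fun p => Algebra.linearMap R (Localization.AtPrime p.1.asIdeal)
  have hι : Function.Injective ι := by
    intro a b hab
    apply hs
    funext p
    exact congrFun hab p
  have hinj := Module.Flat.lTensor_preserves_injective_linearMap (M := F) ι hι
  have h1 : (y ⊗ₜ[R] (1 : R')) = 0 := by
    have hone : (1 : R') = ∑ p : s, Pi.single p (1 : Localization.AtPrime p.1.asIdeal) :=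
      (Finset.univ_sum_single (1 : (p : s) → Localization.AtPrime p.1.asIdeal)).symm
    rw [hone, TensorProduct.tmul_sum]
    refine Finset.sum_eq_zero fun p _ => ?_
    obtain ⟨t, ht, hty⟩ := hy p.1 p.2
    have ht' : t ∈ p.1.asIdeal.primeCompl := ht
    have hsingle : (Pi.single p (1 : Localization.AtPrime p.1.asIdeal) : R') =
        t • (Pi.single p (IsLocalization.mk' (Localization.AtPrime p.1.asIdeal) (1 : R)
          (⟨t, ht'⟩ : p.1.asIdeal.primeCompl)) : R') := by
      rw [← Pi.single_smul]
      congr 1
      rw [Algebra.smul_def]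
      have := IsLocalization.mk'_spec' (Localization.AtPrime p.1.asIdeal) (1 : R)
        (⟨t, ht'⟩ : p.1.asIdeal.primeCompl)
      rw [this, map_one]
    rw [hsingle, TensorProduct.tmul_smul, TensorProduct.smul_tmul', hty, TensorProduct.zero_tmul]
  have h2 : ι.lTensor F (y ⊗ₜ[R] (1 : R)) = 0 := by
    rw [LinearMap.lTensor_tmul]
    have : ι 1 = (1 : R') := by
      funext p
      change algebraMap R (Localization.AtPrime p.1.asIdeal) 1 = 1
      exact map_one _
    rw [this, h1]
  have h3 : y ⊗ₜ[R] (1 : R) = 0 := hinj (by rw [h2, map_zero])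
  have := congrArg (TensorProduct.rid R F) h3
  simpa using this

/-- Localized version. -/
theorem exists_smul_eq_zero_of_flat_localized {R S M : Type*} [CommRing R] [CommRing S]
    [Algebra R S] [AddCommGroup M] [Module R M] [Module S M] [IsScalarTower R S M]
    (s : Finset (PrimeSpectrum R))
    (hs : Function.Injective fun r : R => fun p : s =>
      algebraMap R (Localization.AtPrime p.1.asIdeal) r)
    (T : Submonoid S) (hflat : Module.Flat R (LocalizedModule T M))
    (x : M) (hx : ∀ p ∈ s, ∃ t : R, t ∉ p.asIdeal ∧ t • x = 0) : ∃ u ∈ T, u • x = 0 := by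
  have h0 : LocalizedModule.mkLinearMap T M x = 0 := by
    apply eq_zero_of_flat_of_locally_zero s hs
    intro p hp
    obtain ⟨t, ht, htx⟩ := hx p hp
    refine ⟨t, ht, ?_⟩
    rw [LocalizedModule.mkLinearMap_apply, LocalizedModule.smul'_mk, htx, LocalizedModule.zero_mk]
  obtain ⟨c, hc⟩ := (IsLocalizedModule.eq_zero_iff T (LocalizedModule.mkLinearMap T M)).mp h0
  exact ⟨c.1, c.2, hc⟩

end Flat

section Lemma1

/-- If the localization of a finite module is finitely presented, the kernel of a presentation
is finitely generated up to the multiplicative set. -/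
theorem exists_fg_le_ker_of_localized_fp {S M F : Type*} [CommRing S] [AddCommGroup M]
    [Module S M] [AddCommGroup F] [Module S F] [Module.Finite S F]
    (T : Submonoid S) (π : F →ₗ[S] M) (hπ : Function.Surjective π)
    [h : Module.FinitePresentation (Localization T) (LocalizedModule T M)] :
    ∃ K₁ : Submodule S F, K₁.FG ∧ K₁ ≤ LinearMap.ker π ∧
      ∀ k ∈ LinearMap.ker π, ∃ t ∈ T, t • k ∈ K₁ := by
  classical
  let f := LocalizedModule.mkLinearMap T F
  let f' := LocalizedModule.mkLinearMap T M
  let πT : LocalizedModule T F →ₗ[Localization T] LocalizedModule T M :=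
    (IsLocalizedModule.map T f f' π).extendScalarsOfIsLocalization T (Localization T)
  have hsurj : Function.Surjective πT := IsLocalizedModule.map_surjective T f f' π hπ
  have hfg : (LinearMap.ker πT).FG := Module.FinitePresentation.fg_ker πT hsurj
  have hker : Submodule.localized' (Localization T) T f (LinearMap.ker π) = LinearMap.ker πT :=
    LinearMap.localized'_ker_eq_ker_localizedMap (Localization T) T f f' π
  rw [← hker, Submodule.localized'_eq_span, Submodule.fg_span_iff_fg_span_finset_subset] at hfg
  obtain ⟨s', hs', hspan⟩ := hfg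
  obtain ⟨s'', hs'', rfl⟩ := Finset.subset_set_image_iff.mp hs'
  refine ⟨Submodule.span S (s'' : Set F), Submodule.fg_span s''.finite_toSet,
    Submodule.span_le.mpr hs'', ?_⟩
  intro k hk
  have h1 : f k ∈ Submodule.localized' (Localization T) T f (Submodule.span S (s'' : Set F)) := by
    rw [Submodule.localized'_span, ← Finset.coe_image, ← hspan]
    exact Submodule.subset_span ⟨k, hk, rfl⟩
  obtain ⟨k', hk', t, ht⟩ := (Submodule.mem_localized' _ _ _ _ _).mp h1
  rw [IsLocalizedModule.mk'_eq_iff, Submonoid.smul_def, ← map_smul] at ht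
  obtain ⟨u, hu⟩ := (IsLocalizedModule.eq_iff_exists T f).mp ht
  refine ⟨u * t, (u * t).2, ?_⟩
  rw [mul_smul]
  have : (u : S) • (t : S) • k = u • k' := hu.symm
  rw [this]
  exact Submodule.smul_mem _ _ hk'

end Lemma1

end Groth.Agent.Lib.LeadFPLoc
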