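import Mathlib
import Groth.Agent.Lib.LeadFPLoc1

set_option autoImplicit false
set_option linter.style.haveILetI false

universe u

namespace Groth.Agent.Lib.LeadFPLoc

open TensorProduct

section Main

variable {R S M F : Type u} [CommRing R] [CommRing S] [Algebra R S]
  [Algebra.FinitePresentation R S]
  [AddCommGroup M] [Module S M] [Module R M] [IsScalarTower R S M] [Module.Flat R M]
  [AddCommGroup F] [Module S F] [Module R F] [IsScalarTower R S F]
  [Module.FinitePresentation S F]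

theorem exists_pow_smul_mem (s : Finset (PrimeSpectrum R))
    (hs : Function.Injective fun r : R => fun p : s =>
      algebraMap R (Localization.AtPrime p.1.asIdeal) r)
    (π : F →ₗ[S] M) (hπ : Function.Surjective π)
    (K₁ : Submodule S F) (hfg : K₁.FG) (hle : K₁ ≤ LinearMap.ker π)
    (hs0 : ∀ k ∈ LinearMap.ker π, ∀ p ∈ s, ∃ t : R, t ∉ p.asIdeal ∧ t • k ∈ K₁)
    (p : Ideal R) [p.IsPrime] (hp : ∀ k ∈ LinearMap.ker π, ∃ t : R, t ∉ p ∧ t • k ∈ K₁) :
    ∃ g : R, g ∉ p ∧ ∀ k ∈ LinearMap.ker π, ∃ N : ℕ, g ^ N • k ∈ K₁ := by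
  classical
  haveI : Module.FinitePresentation S (F ⧸ K₁) :=
    Module.finitePresentation_of_surjective K₁.mkQ (Submodule.mkQ_surjective K₁)
      (by rw [Submodule.ker_mkQ]; exact hfg)
  have hopen := Groth.Agent.Lib.Helper3.FlatOpen.isOpen_flatLocus_of_finitePresentation
    (R := R) (S := S) (M := F ⧸ K₁)
  set U : Set (PrimeSpectrum S) :=
    {q | Module.Flat R (LocalizedModule q.asIdeal.primeCompl (F ⧸ K₁))} with hU
  -- (i)
  have hi : ∀ q ∈ U, ∀ k ∈ LinearMap.ker π, ∃ u : S, u ∉ q.asIdeal ∧ u • k ∈ K₁ := by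
    intro q hq k hk
    obtain ⟨u, hu, hux⟩ := exists_smul_eq_zero_of_flat_localized s hs q.asIdeal.primeCompl hq
      (K₁.mkQ k) (fun p hp => by
        obtain ⟨t, ht, htk⟩ := hs0 k hk p hp
        refine ⟨t, ht, ?_⟩
        rw [Submodule.mkQ_apply, ← Submodule.Quotient.mk_smul]
        exact (Submodule.Quotient.mk_eq_zero K₁).mpr htk)
    refine ⟨u, hu, ?_⟩
    rw [← map_smul, Submodule.mkQ_apply] at hux
    exact (Submodule.Quotient.mk_eq_zero K₁).mp hux
  -- (ii)
  have hii : ∀ q : PrimeSpectrum S, (∀ t : R, t ∉ p → algebraMap R S t ∉ q.asIdeal) → q ∈ U := by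
    intro q hq
    let T := q.asIdeal.primeCompl
    let ρ : (F ⧸ K₁) →ₗ[S] M := K₁.liftQ π hle
    have hρ : Function.Surjective ρ := by
      intro m
      obtain ⟨x, rfl⟩ := hπ m
      exact ⟨K₁.mkQ x, by simp [ρ]⟩
    let e₁ := IsLocalizedModule.map T (LocalizedModule.mkLinearMap T (F ⧸ K₁))
      (LocalizedModule.mkLinearMap T M) ρ
    have hinj : Function.Injective e₁ := by
      refine (Groth.Agent.Lib.Helper3.FlatLoc.isLocalizedModule_map_injective_iff T _ _ ρ).mpr ?_
      intro x hx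
      obtain ⟨k, rfl⟩ := Submodule.mkQ_surjective K₁ x
      have hk : k ∈ LinearMap.ker π := by
        simpa [ρ] using hx
      obtain ⟨t, ht, htk⟩ := hp k hk
      refine ⟨algebraMap R S t, hq t ht, ?_⟩
      rw [← map_smul, algebraMap_smul, Submodule.mkQ_apply]
      exact (Submodule.Quotient.mk_eq_zero K₁).mpr htk
    have hsurj : Function.Surjective e₁ := IsLocalizedModule.map_surjective T _ _ ρ hρ
    let e : LocalizedModule T (F ⧸ K₁) ≃ₗ[S] LocalizedModule T M :=
      LinearEquiv.ofBijective e₁ ⟨hinj, hsurj⟩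
    haveI : Module.Flat R (LocalizedModule T M) :=
      Groth.Agent.Lib.Helper3.FlatLoc.flat_localizedModule_of_flat T
    exact Module.Flat.of_linearEquiv (e.restrictScalars R)
  -- (iii)
  obtain ⟨g, hgp, hga⟩ : ∃ g : R, g ∉ p ∧ algebraMap R S g ∈ PrimeSpectrum.vanishingIdeal Uᶜ := by
    by_contra hcon
    push_neg at hcon
    have hdisj : Disjoint ((PrimeSpectrum.vanishingIdeal Uᶜ : Ideal S) : Set S)
        (Algebra.algebraMapSubmonoid S p.primeCompl : Set S) := by
      rw [Set.disjoint_left]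
      rintro x hx ⟨t, ht, rfl⟩
      exact hcon t ht hx
    obtain ⟨q, hqprime, hqle, hqdisj⟩ := Ideal.exists_le_prime_disjoint _ _ hdisj
    have hqU : (⟨q, hqprime⟩ : PrimeSpectrum S) ∈ U := by
      apply hii
      intro t ht hmem
      exact Set.disjoint_left.mp hqdisj hmem ⟨t, ht, rfl⟩
    have hqZ : (⟨q, hqprime⟩ : PrimeSpectrum S) ∈ closure Uᶜ := by
      rw [← PrimeSpectrum.zeroLocus_vanishingIdeal_eq_closure, PrimeSpectrum.mem_zeroLocus]
      exact hqle
    rw [hopen.isClosed_compl.closure_eq] at hqZ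
    exact hqZ hqU
  refine ⟨g, hgp, ?_⟩
  intro k hk
  -- (iv)
  have hrad : algebraMap R S g ∈ (K₁.colon ({k} : Set F)).radical := by
    rw [Ideal.radical_eq_sInf, Ideal.mem_sInf]
    rintro J ⟨hJle, hJprime⟩
    by_contra hgJ
    have hqU : (⟨J, hJprime⟩ : PrimeSpectrum S) ∈ U := by
      by_contra hnot
      apply hgJ
      exact (PrimeSpectrum.mem_vanishingIdeal _ _).mp hga ⟨J, hJprime⟩ hnot
    obtain ⟨u, hu, huk⟩ := hi _ hqU k hk
    exact hu (hJle (Submodule.mem_colon_singleton.mpr huk))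
  obtain ⟨N, hN⟩ := hrad
  refine ⟨N, ?_⟩
  have := Submodule.mem_colon_singleton.mp hN
  rwa [← map_pow, algebraMap_smul] at this

theorem fg_ker_of_locally (s : Finset (PrimeSpectrum R))
    (hs : Function.Injective fun r : R => fun p : s =>
      algebraMap R (Localization.AtPrime p.1.asIdeal) r)
    (π : F →ₗ[S] M) (hπ : Function.Surjective π)
    (hloc : ∀ (p : Ideal R) [p.IsPrime], ∃ K₁ : Submodule S F, K₁.FG ∧ K₁ ≤ LinearMap.ker π ∧
       ∀ k ∈ LinearMap.ker π, ∃ t : R, t ∉ p ∧ t • k ∈ K₁) :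
    (LinearMap.ker π).FG := by
  classical
  have hloc' := fun p : PrimeSpectrum R => hloc p.asIdeal
  choose Kp hKfg hKle hKt using hloc'
  set K₀ : Submodule S F := s.sup Kp with hK₀
  have hK₀fg : K₀.FG := Submodule.fg_finset_sup s Kp (fun i _ => hKfg i)
  have hK₀le : K₀ ≤ LinearMap.ker π := Finset.sup_le (fun i _ => hKle i)
  let G : Set R := {g | ∃ K₁ : Submodule S F, K₁.FG ∧ K₁ ≤ LinearMap.ker π ∧
    ∀ k ∈ LinearMap.ker π, ∃ N : ℕ, g ^ N • k ∈ K₁}
  have hG : Ideal.span G = ⊤ := by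
    by_contra hne
    obtain ⟨m, hm, hle⟩ := Ideal.exists_le_maximal _ hne
    haveI := hm.isPrime
    have hfg1 : (K₀ ⊔ Kp ⟨m, hm.isPrime⟩).FG := hK₀fg.sup (hKfg _)
    have hle1 : K₀ ⊔ Kp ⟨m, hm.isPrime⟩ ≤ LinearMap.ker π := sup_le hK₀le (hKle _)
    obtain ⟨g, hgm, hg⟩ := exists_pow_smul_mem s hs π hπ (K₀ ⊔ Kp ⟨m, hm.isPrime⟩) hfg1 hle1
      (fun k hk p hp => by
        obtain ⟨t, ht, htk⟩ := hKt p k hk
        exact ⟨t, ht, Submodule.mem_sup_left (Finset.le_sup (f := Kp) hp htk)⟩)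
      m (fun k hk => by
        obtain ⟨t, ht, htk⟩ := hKt ⟨m, hm.isPrime⟩ k hk
        exact ⟨t, ht, Submodule.mem_sup_right htk⟩)
    exact hgm (hle (Ideal.subset_span ⟨_, hfg1, hle1, hg⟩))
  obtain ⟨G', hG'sub, hG'top⟩ := (Ideal.span_eq_top_iff_finite G).mp hG
  have hex : ∀ g ∈ G', ∃ K₁ : Submodule S F, K₁.FG ∧ K₁ ≤ LinearMap.ker π ∧
      ∀ k ∈ LinearMap.ker π, ∃ N : ℕ, g ^ N • k ∈ K₁ := fun g hg => hG'sub hg
  choose! KK hKKfg hKKle hKK using hex
  set K' : Submodule S F := G'.sup KK with hK'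
  have hK'fg : K'.FG := Submodule.fg_finset_sup G' KK hKKfg
  have hK'le : K' ≤ LinearMap.ker π := Finset.sup_le hKKle
  have hge : LinearMap.ker π ≤ K' := by
    intro k hk
    have hexN : ∀ g ∈ G', ∃ N : ℕ, g ^ N • k ∈ K' := fun g hg => by
      obtain ⟨N, hN⟩ := hKK g hg k hk
      exact ⟨N, Finset.le_sup (f := KK) hg hN⟩
    choose! NN hNN using hexN
    let n := G'.sup NN
    have hn : ∀ g ∈ G', g ^ n • k ∈ K' := by
      intro g hg
      have hle : NN g ≤ n := Finset.le_sup (f := NN) hg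
      have : g ^ n = g ^ (n - NN g) * g ^ NN g := by
        rw [← pow_add, Nat.sub_add_cancel hle]
      rw [this, mul_smul]
      exact Submodule.smul_of_tower_mem K' _ (hNN g hg)
    let I : Ideal R :=
      { carrier := {a | a • k ∈ K'}
        add_mem' := by
          intro a b ha hb
          simp only [Set.mem_setOf_eq, add_smul]
          exact add_mem ha hb
        zero_mem' := by simp
        smul_mem' := by
          intro c a ha
          simp only [smul_eq_mul, Set.mem_setOf_eq, mul_smul]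
          exact Submodule.smul_of_tower_mem K' c ha }
    have hI : Ideal.span ((fun x => x ^ n) '' (G' : Set R)) ≤ I := by
      rw [Ideal.span_le]
      rintro _ ⟨g, hg, rfl⟩
      exact hn g hg
    rw [Ideal.span_pow_eq_top _ hG'top n] at hI
    have h1 : (1 : R) ∈ I := hI Submodule.mem_top
    have h1' : (1 : R) • k ∈ K' := h1
    rwa [one_smul] at h1'
  rw [le_antisymm hge hK'le]
  exact hK'fg

end Main

end Groth.Agent.Lib.LeadFPLoc
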