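import Mathlib
import Groth.Agent.Lib.LeadFPLoc2

set_option autoImplicit false
set_option linter.style.haveILetI false

universe u

namespace Groth.Agent.Lib.LeadFPLoc

open MvPolynomial

attribute [local instance] MvPolynomial.algebraMvPolynomial

theorem exists_fg_le_ker_of_localized_fp_algebra {R S : Type u} [CommRing R] [CommRing S]
    [Algebra R S] {n : ℕ} (f : MvPolynomial (Fin n) R →ₐ[R] S) (hf : Function.Surjective f)
    (p : Ideal R) [p.IsPrime]
    [h : Algebra.FinitePresentation (Localization.AtPrime p)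
      (Localization (Algebra.algebraMapSubmonoid S p.primeCompl))] :
    ∃ J₁ : Ideal (MvPolynomial (Fin n) R), J₁.FG ∧ J₁ ≤ RingHom.ker f ∧
      ∀ j ∈ RingHom.ker f, ∃ t : R, t ∉ p ∧ MvPolynomial.C t * j ∈ J₁ := by
  classical
  let Rp := Localization.AtPrime p
  let Sp := Localization (Algebra.algebraMapSubmonoid S p.primeCompl)
  let g : MvPolynomial (Fin n) Rp →ₐ[Rp] Sp :=
    MvPolynomial.aeval (fun i => algebraMap S Sp (f (MvPolynomial.X i)))
  have hgφ : ∀ a : MvPolynomial (Fin n) R,
      g (MvPolynomial.map (algebraMap R Rp) a) = algebraMap S Sp (f a) := by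
    intro a
    have h1 : g (MvPolynomial.map (algebraMap R Rp) a) =
        MvPolynomial.aeval (R := R) (fun i => algebraMap S Sp (f (MvPolynomial.X i))) a :=
      MvPolynomial.aeval_map_algebraMap Rp _ a
    have h2 : (MvPolynomial.aeval (R := R) fun i => algebraMap S Sp (f (MvPolynomial.X i))) =
        (IsScalarTower.toAlgHom R S Sp).comp f := by
      apply MvPolynomial.algHom_ext
      intro i
      simp
    rw [h1, h2]
    rfl
  have hgC : ∀ c : Rp, g (MvPolynomial.C c) = algebraMap Rp Sp c := fun c =>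
    MvPolynomial.aeval_C _ c
  have hg : Function.Surjective g := by
    intro x
    obtain ⟨⟨b, ⟨_, t, ht, rfl⟩⟩, rfl⟩ :=
      IsLocalization.mk'_surjective (Algebra.algebraMapSubmonoid S p.primeCompl) x
    obtain ⟨a, rfl⟩ := hf b
    refine ⟨MvPolynomial.C (IsLocalization.mk' Rp (1 : R) (⟨t, ht⟩ : p.primeCompl)) *
      MvPolynomial.map (algebraMap R Rp) a, ?_⟩
    rw [map_mul, hgφ, hgC, IsLocalization.algebraMap_mk' S Rp Sp, map_one, mul_comm,
      IsLocalization.mul_mk'_eq_mk'_of_mul, mul_one]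
  have hker : (RingHom.ker g.toRingHom).FG :=
    Algebra.FinitePresentation.ker_fG_of_surjective g hg
  haveI hloc : IsLocalization (p.primeCompl.map (MvPolynomial.C (σ := Fin n)))
      (MvPolynomial (Fin n) Rp) := MvPolynomial.isLocalization p.primeCompl Rp
  let φ := algebraMap (MvPolynomial (Fin n) R) (MvPolynomial (Fin n) Rp)
  have hφdef : ∀ a, φ a = MvPolynomial.map (algebraMap R Rp) a := fun a => rfl
  have hfC : ∀ t : R, f (MvPolynomial.C t) = algebraMap R S t := fun t => by
    rw [← MvPolynomial.algebraMap_eq, AlgHom.commutes]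
  let Jsat : Ideal (MvPolynomial (Fin n) R) := Ideal.comap φ (RingHom.ker g.toRingHom)
  have hJsat : ∀ a, a ∈ Jsat ↔ ∃ t : R, t ∉ p ∧ MvPolynomial.C t * a ∈ RingHom.ker f := by
    intro a
    rw [Ideal.mem_comap, RingHom.mem_ker]
    change g (φ a) = 0 ↔ _
    rw [hφdef, hgφ, IsLocalization.map_eq_zero_iff (Algebra.algebraMapSubmonoid S p.primeCompl)]
    constructor
    · rintro ⟨⟨_, t, ht, rfl⟩, hm⟩
      refine ⟨t, ht, ?_⟩
      rw [RingHom.mem_ker, map_mul, hfC]
      exact hm
    · rintro ⟨t, ht, hm⟩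
      refine ⟨⟨algebraMap R S t, t, ht, rfl⟩, ?_⟩
      rw [RingHom.mem_ker, map_mul, hfC] at hm
      exact hm
  have hmap : Ideal.map φ Jsat = RingHom.ker g.toRingHom :=
    IsLocalization.map_comap (p.primeCompl.map (MvPolynomial.C (σ := Fin n))) _ _
  have hker' : (Submodule.span (MvPolynomial (Fin n) Rp)
      (φ '' (Jsat : Set (MvPolynomial (Fin n) R)))).FG := by
    have h0 := hker
    rw [← hmap] at h0
    exact h0
  rw [Submodule.fg_span_iff_fg_span_finset_subset] at hker'
  obtain ⟨s', hs', hspan⟩ := hker'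
  obtain ⟨s'', hs'', rfl⟩ := Finset.subset_set_image_iff.mp hs'
  have hex : ∀ w ∈ s'', ∃ t : R, t ∉ p ∧ MvPolynomial.C t * w ∈ RingHom.ker f :=
    fun w hw => (hJsat w).mp (hs'' hw)
  choose! tt htt httk using hex
  let t₀ : R := ∏ w ∈ s'', tt w
  have ht₀ : t₀ ∉ p := by
    intro h
    obtain ⟨w, hw, hwp⟩ := (Ideal.IsPrime.prod_mem_iff).mp h
    exact htt w hw hwp
  refine ⟨Ideal.span ((fun w => MvPolynomial.C t₀ * w) '' (s'' : Set (MvPolynomial (Fin n) R))),
    Submodule.fg_span ((s''.finite_toSet).image _), ?_, ?_⟩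
  · rw [Ideal.span_le]
    rintro _ ⟨w, hw, rfl⟩
    have : t₀ = (∏ w' ∈ s''.erase w, tt w') * tt w := (Finset.prod_erase_mul _ _ hw).symm
    change MvPolynomial.C t₀ * w ∈ RingHom.ker f
    rw [this, map_mul, mul_assoc]
    exact Ideal.mul_mem_left _ _ (httk w hw)
  · intro j hj
    have hjsat : j ∈ Jsat := (hJsat j).mpr ⟨1, p.primeCompl.one_mem, by simpa using hj⟩
    have h1 : φ j ∈ Ideal.map φ (Ideal.span (s'' : Set (MvPolynomial (Fin n) R))) := by
      rw [Ideal.map_span, ← Finset.coe_image]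
      change φ j ∈ Submodule.span _ _
      rw [← hspan]
      exact Submodule.subset_span ⟨j, hjsat, rfl⟩
    obtain ⟨⟨⟨a, ha⟩, ⟨m, hm⟩⟩, hx⟩ :=
      (IsLocalization.mem_map_algebraMap_iff (p.primeCompl.map (MvPolynomial.C (σ := Fin n)))
        _).mp h1
    obtain ⟨t, ht, rfl⟩ := hm
    simp only at hx
    rw [← map_mul] at hx
    obtain ⟨⟨m', hm'⟩, hc⟩ :=
      (IsLocalization.eq_iff_exists (p.primeCompl.map (MvPolynomial.C (σ := Fin n))) _).mp hx
    obtain ⟨t', ht', rfl⟩ := hm'
    simp only at hc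
    refine ⟨t₀ * t' * t, ?_, ?_⟩
    · exact p.primeCompl.mul_mem (p.primeCompl.mul_mem ht₀ ht') ht
    · have hrew : MvPolynomial.C (t₀ * t' * t) * j =
          MvPolynomial.C t₀ * (MvPolynomial.C t' * a) := by
        rw [← hc]
        simp only [map_mul]
        ring
      rw [hrew]
      have hgen : ∀ x ∈ Ideal.span (s'' : Set (MvPolynomial (Fin n) R)),
          MvPolynomial.C t₀ * x ∈
            Ideal.span ((fun w => MvPolynomial.C t₀ * w) '' (s'' : Set (MvPolynomial (Fin n) R))) := by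
        intro x hx
        refine Submodule.span_induction ?_ ?_ ?_ ?_ hx
        · intro w hw
          exact Ideal.subset_span ⟨w, hw, rfl⟩
        · simp
        · intro x y _ _ hx hy
          rw [mul_add]
          exact add_mem hx hy
        · intro c x _ hx
          rw [smul_eq_mul, mul_left_comm]
          exact Ideal.mul_mem_left _ _ hx
      exact hgen _ (Ideal.mul_mem_left _ _ ha)

end Groth.Agent.Lib.LeadFPLoc
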