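import Mathlib
import Groth.Agent.Lib.Helper7PsFS2
import Groth.Agent.Lib.Helper5RLR
import Groth.Agent.Lib.Helper6SepBC

/-!
# Generic formal fibres of finite domains over regular local rings of characteristic zero (lead)
-/

set_option autoImplicit false
set_option linter.style.haveILetI false
set_option linter.unusedSectionVars false
universe u

namespace Groth.Agent.Lib.LeadFS1

open TensorProduct IsLocalRing

/-- S4602 -/
theorem isAdicFormallySmooth_fractionRing_of_finite {A B : Type u} [CommRing A]
    [IsRegularLocalRing A] [CharZero A] [CommRing B] [IsDomain B] [Algebra A B]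
    [Module.Finite A B] (hinj : Function.Injective (algebraMap A B)) (n : Ideal B) [n.IsPrime]
    (q : Ideal (AdicCompletion (maximalIdeal (Localization.AtPrime n)) (Localization.AtPrime n)))
    [q.IsPrime]
    [Algebra (FractionRing B) (Localization.AtPrime q)]
    [IsScalarTower B (FractionRing B) (Localization.AtPrime q)] :
    CAlgX.IsAdicFormallySmooth (FractionRing B) (Localization.AtPrime q)
      (maximalIdeal (Localization.AtPrime q)) := by
  classical
  haveI : IsNoetherianRing A := inferInstance
  haveI : IsDomain A := Groth.Agent.Lib.Helper5.isDomain_of_isRegularLocalRing A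
  haveI : IsRegularRing A := Groth.Agent.Lib.Helper6.SepBC.isRegularRing_of_isRegularLocalRing A
  haveI : IsNoetherianRing B := Algebra.FiniteType.isNoetherianRing A B
  haveI : IsNoetherianRing (Localization.AtPrime n) :=
    IsLocalization.isNoetherianRing n.primeCompl _ inferInstance
  haveI : IsNoetherianRing (AdicCompletion (maximalIdeal (Localization.AtPrime n))
      (Localization.AtPrime n)) :=
    Groth.Agent.Lib.Helper19.isNoetherianRing_adicCompletion _
  haveI : IsNoetherianRing (Localization.AtPrime q) :=
    IsLocalization.isNoetherianRing q.primeCompl _ inferInstance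
  apply Groth.Agent.Lib.Helper19.FSFlat.isAdicFormallySmooth_of_isGeometricallyRegular
  intro k' _ _ hfin
  letI : Algebra B k' :=
    ((algebraMap (FractionRing B) k').comp (algebraMap B (FractionRing B))).toAlgebra
  haveI : IsScalarTower B (FractionRing B) k' := IsScalarTower.of_algebraMap_eq (fun _ => rfl)
  have hgen := Groth.Agent.Lib.Helper7.PsGRing.generic_formalFibre_of_finite A B hinj
    (fun 𝔭 _ =>
      Groth.Agent.Lib.Helper7.PsCoreP.isGeometricallyRegular_generic_formalFibre_charZero A 𝔭) n
  have h1 := Groth.Agent.Lib.Helper7.PsFS2.isRegularRing_tensor_cpl_of_generic B n hgen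
    (FractionRing B) k'
  have h2 : IsRegularRing (k' ⊗[B] Localization.AtPrime q) :=
    Groth.Agent.Lib.Helper7.RegLoc.isRegularRing_tensor_of_isLocalization q.primeCompl k' h1
  exact IsRegularRing.of_ringEquiv
    (IsLocalization.algebraTensorEquiv (nonZeroDivisors B) (FractionRing B) k'
      (Localization.AtPrime q)).symm.toRingEquiv

end Groth.Agent.Lib.LeadFS1
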