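import Mathlib
import Groth.Prelude.Def_Algz
import Groth.Agent.Lib.Helper13QcqsBC
import Groth.Agent.Lib.Helper2PullbackSec
import Groth.Agent.Lib.LeadProIso2
import Groth.Agent.Lib.LeadCanExt
import Groth.Agent.Lib.LeadBaseRing

/-!
# Lead: flat base change of the system of sections `(H⁰(U, G_n))~`

* `bcMap_naturality`, `bcNat`: helper13's base change morphism `g^* f_* F ⟶ f'_* g'^* F` is natural in `F`;
* `sectSysBCIso`: for a flat ring map `A → A'`, a quasi-compact open `U ⊆ Spec A` with inverse image `U'`,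
  and a system `G` of quasi-coherent modules on `U`: the pullback of `(H⁰(U, G_n))~` to `Spec A'` is
  the system `(H⁰(U', G'_n))~` of the pulled back system `G'`;
* `canonicallyExtends_flat`: canonical extensions are compatible with flat base change.
-/

set_option autoImplicit false
set_option linter.style.haveILetI false
universe u
open CategoryTheory Limits AlgebraicGeometry TopologicalSpace Opposite

namespace Groth.Agent.Lib.LeadFlatExt

open Groth.Agent.Helper13AffBC Groth.Agent.Helper13QcqsBC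

section Nat

variable {X S X' S' : Scheme.{u}} (f : X ⟶ S) (g : S' ⟶ S) (g' : X' ⟶ X) (f' : X' ⟶ S')
  (h : IsPullback g' f' f g)

theorem bcMap_naturality {F F' : X.Modules} (φ : F ⟶ F') :
    (Scheme.Modules.pullback g).map ((Scheme.Modules.pushforward f).map φ) ≫ bcMap f g g' f' h F' =
      bcMap f g g' f' h F ≫
        (Scheme.Modules.pushforward f').map ((Scheme.Modules.pullback g').map φ) := by
  rw [← bcMap_eq, ← bcMap_eq]
  have h1 := (Scheme.Modules.pullbackPushforwardAdjunction g').unit.naturality φ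
  have h2 := (Scheme.Modules.pushforwardComp g' f ≪≫
      Scheme.Modules.pushforwardCongr h.w ≪≫ (Scheme.Modules.pushforwardComp f' g).symm).hom.naturality
    ((Scheme.Modules.pullback g').map φ)
  have h3 := (Scheme.Modules.pullbackPushforwardAdjunction g).counit.naturality
    ((Scheme.Modules.pushforward f').map ((Scheme.Modules.pullback g').map φ))
  simp only [Functor.id_obj, Functor.id_map, Functor.comp_obj, Functor.comp_map] at h1 h2 h3
  have e1 : (Scheme.Modules.pullback g).map ((Scheme.Modules.pushforward f).map φ) ≫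
      (Scheme.Modules.pullback g).map ((Scheme.Modules.pushforward f).map
        ((Scheme.Modules.pullbackPushforwardAdjunction g').unit.app F')) =
      (Scheme.Modules.pullback g).map ((Scheme.Modules.pushforward f).map
        ((Scheme.Modules.pullbackPushforwardAdjunction g').unit.app F)) ≫
      (Scheme.Modules.pullback g).map ((Scheme.Modules.pushforward f).map
        ((Scheme.Modules.pushforward g').map ((Scheme.Modules.pullback g').map φ))) := by
    rw [← Functor.map_comp, ← Functor.map_comp, ← Functor.map_comp, ← Functor.map_comp, h1]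
  have e2 := congrArg (Scheme.Modules.pullback g).map h2
  rw [Functor.map_comp, Functor.map_comp] at e2
  rw [reassoc_of% e1, reassoc_of% e2, Category.assoc, Category.assoc, h3]

/-- the base change morphism as a natural transformation. -/
noncomputable def bcNat :
    Scheme.Modules.pushforward f ⋙ Scheme.Modules.pullback g ⟶
      Scheme.Modules.pullback g' ⋙ Scheme.Modules.pushforward f' where
  app F := bcMap f g g' f' h F
  naturality _ _ φ := bcMap_naturality f g g' f' h φ

end Nat

theorem isIso_fromTildeΓ' {R : CommRingCat.{u}} (M : (Spec R).Modules) [M.IsQuasicoherent] :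
    IsIso (Scheme.Modules.fromTildeΓ M) := inferInstance

section BC

variable (A : Type u) [CommRing A] (A' : Type u) [CommRing A'] [Algebra A A']

/-- the morphism `Spec A' ⟶ Spec A`. -/
noncomputable abbrev fA : Spec (CommRingCat.of A') ⟶ Spec (CommRingCat.of A) :=
  Spec.map (CommRingCat.ofHom (algebraMap A A'))

instance [Module.Flat A A'] : Flat (fA A A') := by
  rw [Flat.SpecMap_iff]
  exact RingHom.flat_algebraMap_iff.mpr inferInstance

variable (U : (Spec (CommRingCat.of A)).Opens) (G : ℕᵒᵖ ⥤ (U : Scheme.{u}).Modules)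

/-- `f^* (H⁰(U, G_n))~ ⟶ f^* j_* G_n`. -/
noncomputable def homL :
    Algz.sectSys A U G ⋙ Scheme.Modules.pullback (fA A A') ⟶
      G ⋙ Scheme.Modules.pushforward U.ι ⋙ Scheme.Modules.pullback (fA A A') :=
  Functor.whiskerLeft (G ⋙ Scheme.Modules.pushforward U.ι)
    (Functor.whiskerRight (Scheme.Modules.fromTildeΓNatTrans (R := CommRingCat.of A))
      (Scheme.Modules.pullback (fA A A')))

/-- `f^* j_* G_n ⟶ j'_* f_U^* G_n`. -/
noncomputable def homM :
    G ⋙ Scheme.Modules.pushforward U.ι ⋙ Scheme.Modules.pullback (fA A A') ⟶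
      G ⋙ Scheme.Modules.pullback (fA A A' ∣_ U) ⋙
        Scheme.Modules.pushforward (fA A A' ⁻¹ᵁ U).ι :=
  Functor.whiskerLeft G (bcNat U.ι (fA A A') (fA A A' ∣_ U) (fA A A' ⁻¹ᵁ U).ι
    (isPullback_morphismRestrict (fA A A') U))

theorem homM_app (j : ℕᵒᵖ) : (homM A A' U G).app j =
    bcMap U.ι (fA A A') (fA A A' ∣_ U) (fA A A' ⁻¹ᵁ U).ι
      (isPullback_morphismRestrict (fA A A') U) (G.obj j) := rfl

/-- `(H⁰(U', G'_n))~ ⟶ j'_* G'_n`. -/
noncomputable def homR :
    Algz.sectSys A' (fA A A' ⁻¹ᵁ U) (G ⋙ Scheme.Modules.pullback (fA A A' ∣_ U)) ⟶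
      G ⋙ Scheme.Modules.pullback (fA A A' ∣_ U) ⋙
        Scheme.Modules.pushforward (fA A A' ⁻¹ᵁ U).ι :=
  Functor.whiskerLeft ((G ⋙ Scheme.Modules.pullback (fA A A' ∣_ U)) ⋙
      Scheme.Modules.pushforward (fA A A' ⁻¹ᵁ U).ι)
    (Scheme.Modules.fromTildeΓNatTrans (R := CommRingCat.of A'))

variable [Module.Flat A A'] [QuasiCompact U.ι] (hG : ∀ j, (G.obj j).IsQuasicoherent)

include hG

theorem isIso_homL : IsIso (homL A A' U G) := by
  haveI : ∀ j, IsIso ((homL A A' U G).app j) := fun j => by
    haveI := hG j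
    haveI : ((Scheme.Modules.pushforward U.ι).obj (G.obj j)).IsQuasicoherent :=
      Groth.Agent.Lib.Helper23.QCohLocal.isQuasicoherent_pushforward U.ι (G.obj j)
    haveI h1 := isIso_fromTildeΓ' (R := CommRingCat.of A)
      ((Scheme.Modules.pushforward U.ι).obj (G.obj j))
    exact Functor.map_isIso (Scheme.Modules.pullback (fA A A'))
      (Scheme.Modules.fromTildeΓ (R := CommRingCat.of A)
        ((Scheme.Modules.pushforward U.ι).obj (G.obj j)))
  exact NatIso.isIso_of_isIso_app _

theorem isIso_homM : IsIso (homM A A' U G) := by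
  haveI : ∀ j, IsIso ((homM A A' U G).app j) := fun j => by
    haveI := hG j
    rw [homM_app]
    exact isIso_bcMap_of_flat _ _ _ _ _ _
  exact NatIso.isIso_of_isIso_app _

theorem isIso_homR : IsIso (homR A A' U G) := by
  haveI : ∀ j, IsIso ((homR A A' U G).app j) := fun j => by
    haveI := hG j
    haveI : ((Scheme.Modules.pushforward U.ι).obj (G.obj j)).IsQuasicoherent :=
      Groth.Agent.Lib.Helper23.QCohLocal.isQuasicoherent_pushforward U.ι (G.obj j)
    haveI : ((Scheme.Modules.pullback (fA A A')).obj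
        ((Scheme.Modules.pushforward U.ι).obj (G.obj j))).IsQuasicoherent :=
      Groth.Agent.Lib.Helper2.PullbackSec.isQuasicoherent_pullback _ _
    have hbc := isIso_bcMap_of_flat U.ι (fA A A') (fA A A' ∣_ U) (fA A A' ⁻¹ᵁ U).ι
      (isPullback_morphismRestrict (fA A A') U) (G.obj j)
    haveI : ((Scheme.Modules.pushforward (fA A A' ⁻¹ᵁ U).ι).obj
        ((Scheme.Modules.pullback (fA A A' ∣_ U)).obj (G.obj j))).IsQuasicoherent :=
      (SheafOfModules.isQuasicoherent (Spec (CommRingCat.of A')).ringCatSheaf).prop_of_iso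
        (@asIso _ _ _ _ (bcMap U.ι (fA A A') (fA A A' ∣_ U) (fA A A' ⁻¹ᵁ U).ι
          (isPullback_morphismRestrict (fA A A') U) (G.obj j)) hbc) inferInstance
    exact isIso_fromTildeΓ' (R := CommRingCat.of A')
      ((Scheme.Modules.pushforward (fA A A' ⁻¹ᵁ U).ι).obj
        ((Scheme.Modules.pullback (fA A A' ∣_ U)).obj (G.obj j)))
  exact NatIso.isIso_of_isIso_app _

/-- flat base change of the system `(H⁰(U, G_n))~`. -/
noncomputable def sectSysBCIso :
    Algz.sectSys A U G ⋙ Scheme.Modules.pullback (fA A A') ≅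
      Algz.sectSys A' (fA A A' ⁻¹ᵁ U) (G ⋙ Scheme.Modules.pullback (fA A A' ∣_ U)) := by
  haveI := isIso_homL A A' U G hG
  haveI := isIso_homM A A' U G hG
  haveI := isIso_homR A A' U G hG
  exact asIso (homL A A' U G) ≪≫ asIso (homM A A' U G) ≪≫ (asIso (homR A A' U G)).symm

end BC

section Main

open Groth.Agent.Lib.LeadProIso Groth.Agent.Lib.LeadBaseRing Groth.Agent.Lib.Helper27FormalKer

theorem isCoh_pullback' {X' Y' : Scheme.{u}} (g : X' ⟶ Y') (M : Y'.Modules) (hM : Coh.IsCoh M) :
    Coh.IsCoh ((Scheme.Modules.pullback g).obj M) := by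
  haveI : M.IsQuasicoherent := hM.1
  haveI : SheafOfModules.IsFiniteType (R := Y'.ringCatSheaf) M := hM.2
  exact ⟨Groth.Agent.Lib.Helper2.PullbackSec.isQuasicoherent_pullback g M,
    Groth.Agent.Lib.Helper20.FormalPull.isFiniteType_pullback g M⟩

/-- the pullback to `Spec A'` of a coherent formal module on `Spec A` for `I` is one for `I A'`. -/
theorem isCohFormal_pullback_fA (A : Type u) [CommRing A] (A' : Type u) [CommRing A'] [Algebra A A']
    (I : Ideal A) (G' : ℕᵒᵖ ⥤ (Spec (CommRingCat.of A)).Modules)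
    (hG' : @Formal.IsCohFormal A _ (Spec (CommRingCat.of A)) ⟨𝟙 (Spec (CommRingCat.of A))⟩ I G') :
    @Formal.IsCohFormal A' _ (Spec (CommRingCat.of A')) ⟨𝟙 (Spec (CommRingCat.of A'))⟩
      (I.map (algebraMap A A')) (G' ⋙ Scheme.Modules.pullback (fA A A')) := by
  letI oA : (Spec (CommRingCat.of A)).Over (Spec (CommRingCat.of A)) := ⟨𝟙 _⟩
  letI oA' : (Spec (CommRingCat.of A')).Over (Spec (CommRingCat.of A)) :=
    ⟨toA (A := A) (𝟙 (Spec (CommRingCat.of A')))⟩
  have hf : fA A A' ≫ (Spec (CommRingCat.of A) ↘ Spec (CommRingCat.of A)) =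
      Spec (CommRingCat.of A') ↘ Spec (CommRingCat.of A) := by
    change fA A A' ≫ 𝟙 _ = 𝟙 _ ≫ fA A A'
    rw [Category.comp_id, Category.id_comp]
  have hyp := hyp_comp_pullback (fA A A') hf (hyp_of_isCohFormal hG')
  have h1 : @Formal.IsCohFormal A _ (Spec (CommRingCat.of A')) oA' I
      (G' ⋙ Scheme.Modules.pullback (fA A A')) :=
    ⟨fun n => isCoh_pullback' _ _ (hG'.1 n), hyp.killed, hyp.quot⟩
  exact isCohFormal_map (𝟙 (Spec (CommRingCat.of A'))) h1

/-- canonical extensions are compatible with flat base change. -/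
theorem canonicallyExtends_flat (A : Type u) [CommRing A] (A' : Type u) [CommRing A'] [Algebra A A']
    [Module.Flat A A'] (I : Ideal A) (U : (Spec (CommRingCat.of A)).Opens) [QuasiCompact U.ι]
    (G : ℕᵒᵖ ⥤ (U : Scheme.{u}).Modules) (hG : ∀ j, (G.obj j).IsQuasicoherent)
    (h : Algz.CanonicallyExtends A I U G) :
    Algz.CanonicallyExtends A' (I.map (algebraMap A A')) (fA A A' ⁻¹ᵁ U)
      (G ⋙ Scheme.Modules.pullback (fA A A' ∣_ U)) := by
  obtain ⟨G', hG', hpro⟩ := h
  refine ⟨G' ⋙ Scheme.Modules.pullback (fA A A'), isCohFormal_pullback_fA A A' I G' hG', ?_⟩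
  obtain ⟨m, hm, hm', hdata⟩ := exists_proData hpro
  exact Groth.Agent.Lib.LeadCanExt.isProIsomorphic_of_proData hm hm'
    ((hdata.comp (Scheme.Modules.pullback (fA A A'))).iso_left (sectSysBCIso A A' U G hG))

end Main

end Groth.Agent.Lib.LeadFlatExt
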