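import Mathlib
import Groth.Prelude.Def_CxOX
import Groth.Prelude.Def_FlatMod2
import Groth.Agent.Lib.LeadExtZero4
import Groth.Agent.Lib.Helper1Sky2

/-!
# Every `O_X`-module is a quotient of a coproduct of `j_! O_U`, and such a coproduct is flat

The stalk at `x` of `∐ j_! O_{U_i}` is a projective `O_{X,x}`-module: by the adjunction between the
stalk functor and the skyscraper functor (helper1) maps out of the stalk are maps to a skyscraper
module, i.e. families of sections of skyscraper modules, which lift along surjections.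
-/

universe u

open CategoryTheory Limits AlgebraicGeometry Opposite TopologicalSpace

namespace Groth.Agent.LeadFlatQuot

open Groth.Agent.LeadExtZero Groth.Agent.Lib.Helper20.FreeSec Groth.Agent.Lib.Helper1.Sky
  Groth.Agent.Lib.Helper1.StalkTensor

variable {X : Scheme.{u}}

/-- Every morphism `j_! O_W ⟶ M` comes from a section of `M` over `W`. -/
theorem secHom_surjective (W : X.Opens) (M : X.Modules) :
    Function.Surjective (secHom W (M := M)) := by
  intro ψ
  let σ := ((Scheme.Modules.restrictFunctor W.ι).obj M).unitHomEquiv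
    ((CxOX.extZeroAdj W.ι).homEquiv _ _ ψ)
  have : IsIso (M.presheaf.map (eqToHom (Scheme.Opens.ι_image_top W)).op) := inferInstance
  obtain ⟨s, hs⟩ := (ConcreteCategory.bijective_of_isIso
    (M.presheaf.map (eqToHom (Scheme.Opens.ι_image_top W)).op)).2 (σ.val (op ⊤))
  refine ⟨s, ?_⟩
  unfold secHom unitSec
  have h1 : topElem W M s = σ.val (op ⊤) := hs
  rw [h1, ← eq_secOf (op ⊤) (initialOpTop _) _ σ]
  simp [σ]

/-- The canonical epimorphism from a coproduct of modules `j_! O_U` onto `F`. -/
theorem epi_desc_secHom (F : X.Modules) :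
    Epi (Sigma.desc (fun i : (Σ V : X.Opens, Γ(F, V)) => secHom i.1 i.2) :
      (∐ fun i : (Σ V : X.Opens, Γ(F, V)) => CxOX.extZeroUnit (i.1).ι) ⟶ F) := by
  constructor
  intro N g h e
  apply Scheme.Modules.hom_ext
  intro V
  ext s
  have e1 := congrArg (fun t => Sigma.ι
    (fun i : (Σ V : X.Opens, Γ(F, V)) => CxOX.extZeroUnit (i.1).ι) ⟨V, s⟩ ≫ t) e
  simp only [Sigma.ι_desc_assoc] at e1
  rw [secHom_comp, secHom_comp] at e1
  exact secHom_injective V N e1

/-- Sections of skyscraper modules lift along surjections. -/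
theorem exists_lift_sky (x : X) {A B : ModuleCat.{u} (Ox x)} (e : A ⟶ B)
    (he : Function.Surjective e.hom) (V : X.Opens) (s : Γ((skyFun x).obj B, V)) :
    ∃ t : Γ((skyFun x).obj A, V), ((skyFun x).map e).app V t = s := by
  let s' : SkyT X.presheaf x B V := s
  let t' : SkyT X.presheaf x A V := fun h => (he (s' h)).choose
  refine ⟨t', ?_⟩
  apply SkyT.ext (R := X.presheaf) (U := V)
  intro hx
  exact (he (s' ⟨hx⟩)).choose_spec

/-- The stalk of a coproduct of modules `j_! O_U` is projective. -/
theorem projective_stalkFun_coprod {ι : Type u} (U : ι → X.Opens) (x : X) :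
    Projective ((stalkFun x).obj (∐ fun i => CxOX.extZeroUnit (U i).ι)) := by
  constructor
  intro A B f e he
  have he' : Function.Surjective e.hom := (ModuleCat.epi_iff_surjective e).1 he
  let adj := stalkSkyAdj x
  let f' := adj.homEquiv _ _ f
  have hl : ∀ i, ∃ t : Γ((skyFun x).obj A, U i), ((skyFun x).map e).app (U i) t =
      (secHom_surjective (U i) _ (Sigma.ι (fun i => CxOX.extZeroUnit (U i).ι) i ≫ f')).choose :=
    fun i => exists_lift_sky x e he' (U i) _
  let g' : (∐ fun i => CxOX.extZeroUnit (U i).ι) ⟶ (skyFun x).obj A :=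
    Sigma.desc (fun i => secHom (U i) (hl i).choose)
  refine ⟨(adj.homEquiv _ _).symm g', ?_⟩
  rw [← Adjunction.homEquiv_naturality_right_symm]
  have : g' ≫ (skyFun x).map e = f' := by
    apply Sigma.hom_ext
    intro i
    simp only [g', Sigma.ι_desc_assoc]
    rw [secHom_comp, (hl i).choose_spec]
    exact (secHom_surjective (U i) _ _).choose_spec
  rw [this]
  exact (adj.homEquiv _ _).symm_apply_apply f

/-- A coproduct of modules `j_! O_U` is flat. -/
theorem isFlat_coprod_extZeroUnit {ι : Type u} (U : ι → X.Opens) :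
    FlatMod.IsFlat (∐ fun i => CxOX.extZeroUnit (U i).ι) := by
  intro x
  change Module.Flat (Ox x) (St (toPM (∐ fun i => CxOX.extZeroUnit (U i).ι)) x)
  have h := projective_stalkFun_coprod U x
  have h2 : Module.Projective (Ox x) (St (toPM (∐ fun i => CxOX.extZeroUnit (U i).ι)) x) :=
    (IsProjective.iff_projective (R := Ox x)
      (P := St (toPM (∐ fun i => CxOX.extZeroUnit (U i).ι)) x)).2 h
  infer_instance

end Groth.Agent.LeadFlatQuot
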