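import Groth.Agent.Lib.LeadKP3

/-! Constant field extensions of plane models: `K ⊗ₖ k'` against `k'[X, Y] / (f)`. -/

namespace Groth.Agent.Lib.LeadGI

open MvPolynomial TensorProduct

universe u v
variable {k : Type u} {K : Type v} [Field k] [Field K] [Algebra k K]
variable (k' : Type u) [Field k'] [Algebra k k']

/-- evaluation `k'[X, Y] → K ⊗ₖ k'`. -/
noncomputable def Psi (x y : K) : MvPolynomial (Fin 2) k' →+* K ⊗[k] k' :=
  eval₂Hom (Algebra.TensorProduct.includeRight : k' →ₐ[k] K ⊗[k] k').toRingHom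
    ![x ⊗ₜ[k] (1 : k'), y ⊗ₜ[k] (1 : k')]

lemma Psi_C (x y : K) (c : k') : Psi k' x y (C c) = (1 : K) ⊗ₜ[k] c := by
  simp [Psi]

lemma Psi_X (x y : K) (i : Fin 2) : Psi k' x y (X i) = (![x, y] i) ⊗ₜ[k] (1 : k') := by
  fin_cases i <;> simp [Psi]

lemma Psi_map (x y : K) (q : MvPolynomial (Fin 2) k) :
    Psi k' x y (MvPolynomial.map (algebraMap k k') q) = (aeval ![x, y] q) ⊗ₜ[k] (1 : k') := by
  induction q using MvPolynomial.induction_on with
  | C a =>
    rw [map_C, Psi_C, aeval_C]
    rw [Algebra.algebraMap_eq_smul_one, Algebra.algebraMap_eq_smul_one, smul_tmul]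
  | add p q hp hq => rw [map_add, map_add, hp, hq, map_add, add_tmul]
  | mul_X p i hp =>
    rw [map_mul, map_mul, hp, map_X, Psi_X, map_mul, aeval_X,
      Algebra.TensorProduct.tmul_mul_tmul, mul_one]

variable [FiniteDimensional k k']

/-- the `i`-th coordinate polynomial of `p` with respect to a basis of `k'/k`. -/
noncomputable def comp {ι : Type*} (b : Module.Basis ι k k') (i : ι)
    (p : MvPolynomial (Fin 2) k') : MvPolynomial (Fin 2) k :=
  ∑ m ∈ p.support, monomial m (b.coord i (coeff m p))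

lemma coeff_comp {ι : Type*} (b : Module.Basis ι k k') (i : ι) (p : MvPolynomial (Fin 2) k')
    (m : Fin 2 →₀ ℕ) : coeff m (comp k' b i p) = b.coord i (coeff m p) := by
  classical
  rw [comp, coeff_sum]
  simp only [coeff_monomial]
  rw [Finset.sum_ite_eq' p.support m]
  split_ifs with h
  · rfl
  · rw [notMem_support_iff.mp h, map_zero]

lemma sum_comp {ι : Type*} [Fintype ι] (b : Module.Basis ι k k') (p : MvPolynomial (Fin 2) k') :
    p = ∑ i, C (b i) * MvPolynomial.map (algebraMap k k') (comp k' b i p) := by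
  ext m
  rw [coeff_sum]
  simp only [coeff_C_mul, coeff_map, coeff_comp]
  conv_lhs => rw [← b.sum_repr (coeff m p)]
  apply Finset.sum_congr rfl
  intro i _
  rw [Algebra.smul_def, mul_comm]
  rfl

lemma Psi_eq_sum {ι : Type*} [Fintype ι] (b : Module.Basis ι k k') (x y : K)
    (p : MvPolynomial (Fin 2) k') :
    Psi k' x y p = ∑ i, (aeval ![x, y] (comp k' b i p)) ⊗ₜ[k] (b i) := by
  conv_lhs => rw [sum_comp k' b p]
  rw [map_sum]
  apply Finset.sum_congr rfl
  intro i _
  rw [map_mul, Psi_C, Psi_map, Algebra.TensorProduct.tmul_mul_tmul, one_mul, mul_one]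

/-- Claim A: the kernel of `Psi` is generated by `f`. -/
theorem ker_Psi (x y : K) (f : MvPolynomial (Fin 2) k)
    (hker : RingHom.ker (aeval ![x, y] : MvPolynomial (Fin 2) k →ₐ[k] K) = Ideal.span {f}) :
    RingHom.ker (Psi (k := k) k' x y) = Ideal.span {MvPolynomial.map (algebraMap k k') f} := by
  classical
  have hf : aeval ![x, y] f = 0 := by
    have : f ∈ RingHom.ker (aeval ![x, y] : MvPolynomial (Fin 2) k →ₐ[k] K) := by
      rw [hker]; exact Ideal.mem_span_singleton_self f
    exact this
  apply le_antisymm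
  · intro p hp
    rw [RingHom.mem_ker] at hp
    set b := Module.finBasis k k' with hb
    rw [Psi_eq_sum k' b x y p] at hp
    set B := Algebra.TensorProduct.basis K b with hB
    have h1 : ∑ i, (aeval ![x, y] (comp k' b i p)) • B i = 0 := by
      rw [← hp]
      apply Finset.sum_congr rfl
      intro i _
      rw [hB, Algebra.TensorProduct.basis_apply, smul_tmul', smul_eq_mul, mul_one]
    have h2 := Fintype.linearIndependent_iff.mp B.linearIndependent _ h1
    have h3 : ∀ i, ∃ q, comp k' b i p = f * q := by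
      intro i
      have : comp k' b i p ∈ RingHom.ker (aeval ![x, y] : MvPolynomial (Fin 2) k →ₐ[k] K) :=
        h2 i
      rw [hker, Ideal.mem_span_singleton] at this
      exact this
    choose q hq using h3
    rw [Ideal.mem_span_singleton]
    refine ⟨∑ i, C (b i) * MvPolynomial.map (algebraMap k k') (q i), ?_⟩
    conv_lhs => rw [sum_comp k' b p]
    rw [Finset.mul_sum]
    apply Finset.sum_congr rfl
    intro i _
    rw [hq i, map_mul]
    ring
  · rw [Ideal.span_le, Set.singleton_subset_iff]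
    show Psi k' x y (MvPolynomial.map (algebraMap k k') f) = 0
    rw [Psi_map, hf, zero_tmul]

/-- If `K ⊗ₖ k'` is a domain, `f` stays irreducible over `k'`. -/
theorem irreducible_map_of_isDomain [IsDomain (K ⊗[k] k')] (x y : K)
    (f : MvPolynomial (Fin 2) k) (hf0 : f ≠ 0)
    (hker : RingHom.ker (aeval ![x, y] : MvPolynomial (Fin 2) k →ₐ[k] K) = Ideal.span {f}) :
    Irreducible (MvPolynomial.map (algebraMap k k') f) := by
  have h1 : (RingHom.ker (Psi (k := k) k' x y)).IsPrime := RingHom.ker_isPrime _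
  rw [ker_Psi k' x y f hker] at h1
  have h0 : MvPolynomial.map (algebraMap k k') f ≠ 0 := by
    intro h
    apply hf0
    apply map_injective _ (algebraMap k k').injective
    rw [h, map_zero]
  exact ((Ideal.span_singleton_prime h0).mp h1).irreducible

/-- Claim B: every element of `K ⊗ₖ k'` is a value of `Psi` up to a denominator from `k[x, y]`. -/
theorem exists_Psi (x y : K) (hxy : IntermediateField.adjoin k ({x, y} : Set K) = ⊤)
    (z : K ⊗[k] k') :
    ∃ (D : MvPolynomial (Fin 2) k) (p : MvPolynomial (Fin 2) k'), aeval ![x, y] D ≠ 0 ∧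
      z * ((aeval ![x, y] D) ⊗ₜ[k] (1 : k')) = Psi k' x y p := by
  have hrange : ∀ a ∈ Algebra.adjoin k ({x, y} : Set K),
      ∃ N : MvPolynomial (Fin 2) k, aeval ![x, y] N = a := by
    intro a ha
    have : ({x, y} : Set K) = Set.range ![x, y] := by
      ext w
      simp only [Set.mem_insert_iff, Set.mem_singleton_iff, Set.mem_range]
      constructor
      · rintro (rfl | rfl)
        · exact ⟨0, rfl⟩
        · exact ⟨1, rfl⟩
      · rintro ⟨i, rfl⟩
        fin_cases i
        · left; rfl
        · right; rfl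
    rw [this, Algebra.adjoin_range_eq_range_aeval] at ha
    exact ha
  induction z using TensorProduct.induction_on with
  | zero => exact ⟨1, 0, by simp, by simp⟩
  | tmul a c =>
    have ha : a ∈ IntermediateField.adjoin k ({x, y} : Set K) := by rw [hxy]; trivial
    obtain ⟨n, hn, d, hd, rfl⟩ := IntermediateField.mem_adjoin_iff_div.mp ha
    by_cases hd0 : d = 0
    · refine ⟨1, 0, by simp, ?_⟩
      rw [hd0, div_zero, zero_tmul, zero_mul, map_zero]
    obtain ⟨N, rfl⟩ := hrange n hn
    obtain ⟨D, rfl⟩ := hrange d hd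
    refine ⟨D, C c * MvPolynomial.map (algebraMap k k') N, hd0, ?_⟩
    rw [map_mul, Psi_C, Psi_map, Algebra.TensorProduct.tmul_mul_tmul,
      Algebra.TensorProduct.tmul_mul_tmul, mul_one, one_mul, div_mul_cancel₀ _ hd0]
  | add z1 z2 h1 h2 =>
    obtain ⟨D1, p1, hD1, e1⟩ := h1
    obtain ⟨D2, p2, hD2, e2⟩ := h2
    refine ⟨D1 * D2, p1 * MvPolynomial.map (algebraMap k k') D2 + p2 * MvPolynomial.map (algebraMap k k') D1,
      by rw [map_mul]; exact mul_ne_zero hD1 hD2, ?_⟩
    have hP : Psi k' x y (p1 * MvPolynomial.map (algebraMap k k') D2 +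
        p2 * MvPolynomial.map (algebraMap k k') D1) =
        Psi k' x y p1 * ((aeval ![x, y] D2) ⊗ₜ[k] (1 : k')) +
          Psi k' x y p2 * ((aeval ![x, y] D1) ⊗ₜ[k] (1 : k')) := by
      rw [map_add, map_mul, map_mul, Psi_map, Psi_map]
    have : (aeval ![x, y] (D1 * D2)) ⊗ₜ[k] (1 : k') =
        ((aeval ![x, y] D1) ⊗ₜ[k] (1 : k')) * ((aeval ![x, y] D2) ⊗ₜ[k] (1 : k')) := by
      rw [Algebra.TensorProduct.tmul_mul_tmul, mul_one, map_mul]
    rw [hP, ← e1, ← e2, this]
    ring

/-- If `f` stays irreducible over `k'`, then `K ⊗ₖ k'` is a domain. -/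
theorem isDomain_of_irreducible_map (x y : K)
    (hxy : IntermediateField.adjoin k ({x, y} : Set K) = ⊤)
    (f : MvPolynomial (Fin 2) k)
    (hker : RingHom.ker (aeval ![x, y] : MvPolynomial (Fin 2) k →ₐ[k] K) = Ideal.span {f})
    (hirr : Irreducible (MvPolynomial.map (algebraMap k k') f)) : IsDomain (K ⊗[k] k') := by
  haveI : Nontrivial (K ⊗[k] k') := by
    have hinj : Function.Injective (Algebra.TensorProduct.includeLeft :
        K →ₐ[k] K ⊗[k] k') := Algebra.TensorProduct.includeLeft_injective (algebraMap k k').injective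
    exact hinj.nontrivial
  haveI : NoZeroDivisors (K ⊗[k] k') := by
    constructor
    intro z z' hzz'
    obtain ⟨D, p, hD, e⟩ := exists_Psi k' x y hxy z
    obtain ⟨D', p', hD', e'⟩ := exists_Psi k' x y hxy z'
    have hunit : ∀ d : K, d ≠ 0 → ∀ w : K ⊗[k] k', w * (d ⊗ₜ[k] (1 : k')) = 0 → w = 0 := by
      intro d hd w hw
      have : w = w * (d ⊗ₜ[k] (1 : k')) * (d⁻¹ ⊗ₜ[k] (1 : k')) := by
        rw [mul_assoc, Algebra.TensorProduct.tmul_mul_tmul, mul_inv_cancel₀ hd, mul_one]
        rw [← Algebra.TensorProduct.one_def, mul_one]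
      rw [this, hw, zero_mul]
    have hpp' : Psi (k := k) k' x y (p * p') = 0 := by
      rw [map_mul, ← e, ← e']
      calc z * (aeval ![x, y] D ⊗ₜ[k] 1) * (z' * (aeval ![x, y] D' ⊗ₜ[k] 1))
          = (z * z') * ((aeval ![x, y] D ⊗ₜ[k] 1) * (aeval ![x, y] D' ⊗ₜ[k] 1)) := by ring
        _ = 0 := by rw [hzz', zero_mul]
    have hmem : p * p' ∈ Ideal.span {MvPolynomial.map (algebraMap k k') f} := by
      rw [← ker_Psi k' x y f hker]; exact hpp'
    rw [Ideal.mem_span_singleton] at hmem
    have hprime : Prime (MvPolynomial.map (algebraMap k k') f) := hirr.prime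
    rcases hprime.dvd_or_dvd hmem with h | h
    · left
      apply hunit _ hD
      rw [e]
      have : p ∈ RingHom.ker (Psi (k := k) k' x y) := by
        rw [ker_Psi k' x y f hker, Ideal.mem_span_singleton]; exact h
      exact this
    · right
      apply hunit _ hD'
      rw [e']
      have : p' ∈ RingHom.ker (Psi (k := k) k' x y) := by
        rw [ker_Psi k' x y f hker, Ideal.mem_span_singleton]; exact h
      exact this
  exact NoZeroDivisors.to_isDomain _

end Groth.Agent.Lib.LeadGI
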