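import Groth.Agent.Lib.LeadGI1
import Groth.Agent.Lib.LeadMS5

/-! Plane models: affine kernels, transcendence, and `IsGeometric` from absolute
irreducibility. -/

namespace Groth.Agent.Lib.LeadGI

open MvPolynomial TensorProduct FunFld Groth.Agent.Lib.LeadKP

universe u v
variable {k : Type u} {K : Type v} [Field k] [Field K] [Algebra k K]

/-- the subtype of indices of `Fin 2` different from `i₀`. -/
def uniqueNe (i₀ i' : Fin 2) (h : i' ≠ i₀) : Unique {j : Fin 2 // j ≠ i₀} where
  default := ⟨i', h⟩
  uniq := by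
    intro ⟨j, hj⟩
    apply Subtype.ext
    show j = i'
    fin_cases j <;> fin_cases i' <;> fin_cases i₀ <;> simp_all

lemma algInd_sub_iff {A : Type*} [CommRing A] [Algebra k A] (v : Fin 2 → A) (i₀ i' : Fin 2)
    (h : i' ≠ i₀) :
    AlgebraicIndependent k (fun j : {j : Fin 2 // j ≠ i₀} => v j) ↔ Transcendental k (v i') := by
  letI := uniqueNe i₀ i' h
  exact algebraicIndependent_unique_type_iff (ι := {j : Fin 2 // j ≠ i₀})
    (x := fun j : {j : Fin 2 // j ≠ i₀} => v j)

/-- The affine kernel is principal, generated by any irreducible relation. -/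
theorem ker_aeval_pair (x y : K) (i' : Fin 2) (htr : Transcendental k (![x, y] i'))
    {f : MvPolynomial (Fin 2) k} (hf : Irreducible f) (hfxy : aeval ![x, y] f = 0) :
    RingHom.ker (aeval ![x, y] : MvPolynomial (Fin 2) k →ₐ[k] K) = Ideal.span {f} := by
  obtain ⟨i₀, hi₀⟩ : ∃ i₀ : Fin 2, i' ≠ i₀ := by
    fin_cases i'
    · exact ⟨1, by decide⟩
    · exact ⟨0, by decide⟩
  apply ker_eq_span_mv i₀ (aeval ![x, y]) _ hf hfxy
  have := (algInd_sub_iff (k := k) (fun j => (aeval ![x, y] : MvPolynomial (Fin 2) k →ₐ[k] K)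
    (X j)) i₀ i' hi₀).mpr (by simpa using htr)
  exact this

/-- the univariate polynomial `m` in the variable `X i`. -/
lemma degreeOf_aeval_X (m : Polynomial k) (i j : Fin 2) (hij : j ≠ i) :
    degreeOf j (Polynomial.aeval (X i : MvPolynomial (Fin 2) k) m) = 0 := by
  classical
  rw [Polynomial.aeval_eq_sum_range]
  apply Nat.eq_zero_of_le_zero
  refine (degreeOf_sum_le j _ _).trans ?_
  apply Finset.sup_le
  intro n _
  rw [smul_eq_C_mul]
  refine (degreeOf_C_mul_le _ j _).trans ?_
  refine (degreeOf_pow_le j (X i) n).trans ?_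
  rw [degreeOf_X, if_neg hij, mul_zero]

lemma eq_C_of_degreeOf_eq_zero {p : MvPolynomial (Fin 2) k} (h : ∀ i, degreeOf i p = 0) :
    p = C (coeff 0 p) := by
  classical
  rw [← totalDegree_eq_zero_iff_eq_C]
  apply Nat.eq_zero_of_le_zero
  rw [totalDegree]
  apply Finset.sup_le
  intro m hm
  have hm0 : m = 0 := by
    ext i
    have := monomial_le_degreeOf i hm
    rw [h i] at this
    simpa using this
  rw [hm0]
  simp

/-- Not both coordinates are algebraic when the kernel is principal and generated by an
irreducible polynomial. -/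
theorem transcendental_of_ker (x y : K) {f : MvPolynomial (Fin 2) k} (hf : Irreducible f)
    (hker : RingHom.ker (aeval ![x, y] : MvPolynomial (Fin 2) k →ₐ[k] K) = Ideal.span {f}) :
    ∃ i' : Fin 2, Transcendental k (![x, y] i') := by
  classical
  by_contra hcon
  push Not at hcon
  have halg : ∀ i : Fin 2, IsAlgebraic k (![x, y] i) := by
    intro i
    have := hcon i
    simpa [Transcendental] using this
  have hdeg : ∀ j : Fin 2, degreeOf j f = 0 := by
    intro j
    obtain ⟨i, hij⟩ : ∃ i : Fin 2, j ≠ i := by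
      fin_cases j
      · exact ⟨1, by decide⟩
      · exact ⟨0, by decide⟩
    set m := minpoly k (![x, y] i) with hm
    have hm0 : m ≠ 0 := minpoly.ne_zero (halg i).isIntegral
    set g := Polynomial.aeval (X i : MvPolynomial (Fin 2) k) m with hg
    have hg0 : g ≠ 0 := by
      intro h0
      apply hm0
      have h1 : Polynomial.aeval (X i : MvPolynomial (Fin 2) k) m = 0 := h0
      have hinj : Function.Injective (Polynomial.aeval (X i : MvPolynomial (Fin 2) k) :
          Polynomial k →ₐ[k] MvPolynomial (Fin 2) k) := by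
        rw [← transcendental_iff_injective]
        exact MvPolynomial.transcendental_X k i
      exact hinj (by rw [h1, map_zero])
    have hgker : aeval ![x, y] g = 0 := by
      rw [hg, ← Polynomial.aeval_algHom_apply, aeval_X, hm, minpoly.aeval]
    have hmem : g ∈ Ideal.span {f} := by
      rw [← hker]; exact hgker
    obtain ⟨a, ha⟩ := Ideal.mem_span_singleton.mp hmem
    have ha0 : a ≠ 0 := by
      rintro rfl
      rw [mul_zero] at ha
      exact hg0 ha
    have h1 := degreeOf_mul_eq (n := j) hf.ne_zero ha0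
    rw [← ha, hg, degreeOf_aeval_X m i j hij] at h1
    omega
  have hfC := eq_C_of_degreeOf_eq_zero hdeg
  have hc0 : coeff 0 f ≠ 0 := by
    intro h0
    rw [h0, map_zero] at hfC
    exact hf.ne_zero hfC
  apply hf.not_isUnit
  rw [hfC]
  exact (IsUnit.mk0 _ hc0).map C

/-- finiteness over the rational subfield. -/
theorem finite_of_ker (x y : K) (hxy : IntermediateField.adjoin k ({x, y} : Set K) = ⊤)
    {f : MvPolynomial (Fin 2) k} (hf : Irreducible f)
    (hker : RingHom.ker (aeval ![x, y] : MvPolynomial (Fin 2) k →ₐ[k] K) = Ideal.span {f}) :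
    ∃ z : K, Transcendental k z ∧ FiniteDimensional (IntermediateField.adjoin k ({z} : Set K)) K := by
  classical
  obtain ⟨i', htr⟩ := transcendental_of_ker x y hf hker
  obtain ⟨i₀, hi₀⟩ : ∃ i₀ : Fin 2, i' ≠ i₀ := by
    fin_cases i'
    · exact ⟨1, by decide⟩
    · exact ⟨0, by decide⟩
  refine ⟨![x, y] i', htr, ?_⟩
  have hfxy : aeval ![x, y] f = 0 := by
    have : f ∈ RingHom.ker (aeval ![x, y] : MvPolynomial (Fin 2) k →ₐ[k] K) := by
      rw [hker]; exact Ideal.mem_span_singleton_self f
    exact this
  have hni : ¬ AlgebraicIndependent k ![x, y] := by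
    intro h
    rw [algebraicIndependent_iff] at h
    exact hf.ne_zero (h f hfxy)
  rw [AlgebraicIndependent.iff_transcendental_adjoin_image i₀] at hni
  have h1 : AlgebraicIndependent k (fun j : {j : Fin 2 // j ≠ i₀} => ![x, y] j) :=
    (algInd_sub_iff (k := k) ![x, y] i₀ i' hi₀).mpr htr
  have h2 : ¬ Transcendental (Algebra.adjoin k (![x, y] '' {i₀}ᶜ)) (![x, y] i₀) :=
    fun h => hni ⟨h1, h⟩
  have himg : (![x, y] '' ({i₀}ᶜ : Set (Fin 2))) = {![x, y] i'} := by
    ext z
    constructor
    · rintro ⟨j, hj, rfl⟩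
      have : j = i' := by
        have hj' : j ≠ i₀ := hj
        fin_cases j <;> fin_cases i' <;> fin_cases i₀ <;> simp_all
      rw [this]; rfl
    · rintro rfl
      exact ⟨i', hi₀, rfl⟩
  rw [himg] at h2
  have h3 : IsAlgebraic (Algebra.adjoin k ({![x, y] i'} : Set K)) (![x, y] i₀) := by
    simpa [Transcendental] using h2
  have h4 : IsAlgebraic (IntermediateField.adjoin k ({![x, y] i'} : Set K)) (![x, y] i₀) := by
    rw [IntermediateField.isAlgebraic_adjoin_iff]
    exact h3
  have htop : IntermediateField.adjoin (IntermediateField.adjoin k ({![x, y] i'} : Set K))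
      ({![x, y] i₀} : Set K) = ⊤ := by
    rw [← IntermediateField.restrictScalars_eq_top_iff (K := k),
      IntermediateField.adjoin_adjoin_left, ← hxy]
    congr 1
    ext z
    simp only [Set.mem_union, Set.mem_singleton_iff, Set.mem_insert_iff]
    fin_cases i' <;> fin_cases i₀ <;> simp_all [or_comm]
  have hfin := IntermediateField.adjoin.finiteDimensional h4.isIntegral
  rw [htop] at hfin
  exact (IntermediateField.topEquiv (F := IntermediateField.adjoin k ({![x, y] i'} : Set K))
    (E := K)).toLinearEquiv.finiteDimensional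

end Groth.Agent.Lib.LeadGI
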