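import Groth.Agent.Lib.LeadGI2

/-! S11008: geometric function fields are the fields with absolutely irreducible plane models. -/

namespace Groth.Agent.Lib.LeadGI

open MvPolynomial TensorProduct FunFld Groth.Agent.Lib.LeadKP

universe u v
variable {k : Type u} {K : Type v} [Field k] [Field K] [Algebra k K]

section Transfer

variable (k' : Type u) [Field k'] [Algebra k k'] [FiniteDimensional k k']

lemma isField_swap (h : IsField (K ⊗[k] k')) : IsField (k' ⊗[k] K) :=
  MulEquiv.isField h (Algebra.TensorProduct.comm k k' K).toMulEquiv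

lemma isField_swap' (h : IsField (k' ⊗[k] K)) : IsField (K ⊗[k] k') :=
  MulEquiv.isField h (Algebra.TensorProduct.comm k K k').toMulEquiv

lemma isField_of_isDomain [IsDomain (K ⊗[k] k')] : IsField (K ⊗[k] k') := by
  haveI : Algebra.IsIntegral K (K ⊗[k] k') := Algebra.IsIntegral.of_finite K (K ⊗[k] k')
  exact isField_of_isIntegral_of_isField' (R := K) (Field.toIsField K)

end Transfer

/-- If all finite constant extensions are fields, `k` is algebraically closed in `K`. -/
theorem algClosed_in_of_fields
    (hfield : ∀ (k' : Type u) [Field k'] [Algebra k k'], FiniteDimensional k k' →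
      IsField (K ⊗[k] k')) (c : K) (hc : IsAlgebraic k c) :
    c ∈ Set.range (algebraMap k K) := by
  classical
  set m := minpoly k c with hm
  have hint : IsIntegral k c := hc.isIntegral
  have hm0 : m ≠ 0 := minpoly.ne_zero hint
  haveI : Fact (Irreducible m) := ⟨minpoly.irreducible hint⟩
  let k' := AdjoinRoot m
  haveI hfin : FiniteDimensional k k' := (AdjoinRoot.powerBasis hm0).finite
  have hF := hfield k' hfin
  have hroot : Polynomial.eval₂ (↑(Algebra.ofId k K) : k →+* K) c m = 0 := by
    have h1 : ((Algebra.ofId k K : k →ₐ[k] K) : k →+* K) = algebraMap k K := rfl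
    rw [h1, ← Polynomial.aeval_def]
    exact minpoly.aeval k c
  let ι : k' →ₐ[k] K := AdjoinRoot.liftAlgHom m (Algebra.ofId k K) c hroot
  have hι : ι (AdjoinRoot.root m) = c := AdjoinRoot.liftAlgHom_root m _ c hroot
  let μ : K ⊗[k] k' →ₐ[k] K := Algebra.TensorProduct.productMap (AlgHom.id k K) ι
  have hμinj : ∀ w : K ⊗[k] k', μ w = 0 → w = 0 := by
    intro w hw
    by_contra hw0
    obtain ⟨w', hw'⟩ := hF.mul_inv_cancel hw0
    have := congrArg μ hw'
    rw [map_mul, hw, zero_mul, map_one] at this
    exact zero_ne_one this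
  have hw : c ⊗ₜ[k] (1 : k') = (1 : K) ⊗ₜ[k] (AdjoinRoot.root m) := by
    rw [← sub_eq_zero]
    apply hμinj
    rw [map_sub, Algebra.TensorProduct.productMap_apply_tmul,
      Algebra.TensorProduct.productMap_apply_tmul, hι]
    simp
  -- compare coordinates
  set pb := AdjoinRoot.powerBasis hm0 with hpb
  have hdim : pb.dim = m.natDegree := AdjoinRoot.powerBasis_dim hm0
  have hgen : pb.gen = AdjoinRoot.root m := AdjoinRoot.powerBasis_gen hm0
  have hdeg1 : m.natDegree = 1 := by
    by_contra hne
    have hpos : 0 < m.natDegree := minpoly.natDegree_pos hint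
    have h2 : 2 ≤ pb.dim := by omega
    set B := Algebra.TensorProduct.basis K pb.basis with hB
    have hB0 : B ⟨0, by omega⟩ = (1 : K) ⊗ₜ[k] (1 : k') := by
      rw [hB, Algebra.TensorProduct.basis_apply, pb.basis_eq_pow]
      simp
    have hB1 : B ⟨1, by omega⟩ = (1 : K) ⊗ₜ[k] (AdjoinRoot.root m) := by
      rw [hB, Algebra.TensorProduct.basis_apply, pb.basis_eq_pow, hgen]
      simp
    have h3 : c • B ⟨0, by omega⟩ = B ⟨1, by omega⟩ := by
      rw [hB0, hB1, ← hw, smul_tmul', smul_eq_mul, mul_one]
    have h4 := congrArg (fun z => B.repr z ⟨1, by omega⟩) h3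
    simp only [map_smul, Module.Basis.repr_self, Finsupp.smul_apply, smul_eq_mul] at h4
    rw [Finsupp.single_eq_same, Finsupp.single_eq_of_ne (by simp)] at h4
    simp at h4
  have := (minpoly.natDegree_eq_one_iff (A := k) (B := K) (x := c)).mp hdeg1
  obtain ⟨a, ha⟩ := this
  exact ⟨a, ha⟩

/-- S11008. -/
theorem geometric_iff_plane_model :
    (IsFunctionField k K ∧ IsGeometric k K) ↔
      ∃ (x y : K) (f : MvPolynomial (Fin 2) k),
        IntermediateField.adjoin k ({x, y} : Set K) = ⊤ ∧
        (∀ (k' : Type u) [Field k'] [Algebra k k'], FiniteDimensional k k' →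
          Irreducible (MvPolynomial.map (algebraMap k k') f)) ∧
        RingHom.ker (aeval ![x, y] : MvPolynomial (Fin 2) k →ₐ[k] K) = Ideal.span {f} := by
  classical
  constructor
  · rintro ⟨hK, hg⟩
    obtain ⟨x, hxt, hsep⟩ := Groth.Agent.Lib.LeadMS.exists_separating hK hg
    haveI := Groth.Agent.Lib.LeadFF.finite_over_adjoin hK hxt
    obtain ⟨y, hy⟩ := Field.exists_primitive_element (IntermediateField.adjoin k ({x} : Set K)) K
    have hxy : IntermediateField.adjoin k ({x, y} : Set K) = ⊤ := by
      have := IntermediateField.adjoin_adjoin_left k ({x} : Set K) ({y} : Set K)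
      rw [hy, IntermediateField.restrictScalars_top] at this
      rw [this, Set.singleton_union]
    obtain ⟨f, hf, hfxy⟩ := Groth.Agent.Lib.LeadPN.exists_irreducible_rel hK x y
    have hker := ker_aeval_pair x y 0 (by simpa using hxt) hf hfxy
    refine ⟨x, y, f, hxy, ?_, hker⟩
    intro k' _ _ hfin
    haveI : IsDomain (K ⊗[k] k') := (isField_swap' k' (hg k' hfin)).isDomain
    exact irreducible_map_of_isDomain k' x y f hf.ne_zero hker
  · rintro ⟨x, y, f, hxy, hirr, hker⟩
    have hfirr : Irreducible f := by
      have h1 := hirr k inferInstance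
      have : MvPolynomial.map (algebraMap k k) f = f := by
        rw [Algebra.algebraMap_self]; exact MvPolynomial.map_id f
      rwa [this] at h1
    have hfield : ∀ (k' : Type u) [Field k'] [Algebra k k'], FiniteDimensional k k' →
        IsField (K ⊗[k] k') := by
      intro k' _ _ hfin
      haveI := isDomain_of_irreducible_map k' x y hxy f hker (hirr k' hfin)
      exact isField_of_isDomain k'
    refine ⟨⟨finite_of_ker x y hxy hfirr hker, algClosed_in_of_fields hfield⟩, ?_⟩
    intro k' _ _ hfin
    exact isField_swap k' (hfield k' hfin)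

end Groth.Agent.Lib.LeadGI
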