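import Mathlib

/-!
# Graded projective modules over a connected graded algebra are graded-free (lead)

`R` is ℤ-graded with `R_{<0} = 0` and `R_0 = k` a field; `M` a finitely generated graded projective
`R`-module.  A homogeneous generating family of minimal cardinality is a basis.
-/

namespace Groth.Agent.Lib.LeadGN

open DirectSum

variable {R : Type*} [CommRing R] {σ : Type*} [SetLike σ R] [AddSubmonoidClass σ R] (𝒜 : ℤ → σ)
  [GradedRing 𝒜]
variable {M : Type*} [AddCommGroup M] [Module R M] {τ : Type*} [SetLike τ M]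
  [AddSubmonoidClass τ M] (ℳ : ℤ → τ) [DirectSum.Decomposition ℳ] [SetLike.GradedSMul 𝒜 ℳ]

/-- The degree `d` component of `b • m` for `m` homogeneous of degree `e`. -/
theorem decompose_smul_of_mem (b : R) {m : M} {e : ℤ} (hm : m ∈ ℳ e) (d : ℤ) :
    (decompose ℳ (b • m) d : M) = (decompose 𝒜 b (d - e) : R) • m := by
  classical
  have hb : b = ∑ i ∈ (decompose 𝒜 b).support, (decompose 𝒜 b i : R) :=
    (sum_support_decompose 𝒜 b).symm
  conv_lhs => rw [hb, Finset.sum_smul, decompose_sum]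
  rw [DFinsupp.finset_sum_apply, AddSubmonoidClass.coe_finset_sum]
  have key : ∀ i, (decompose ℳ ((decompose 𝒜 b i : R) • m) d : M) =
      if i = d - e then (decompose 𝒜 b i : R) • m else 0 := by
    intro i
    have hmem : (decompose 𝒜 b i : R) • m ∈ ℳ (i + e) :=
      SetLike.GradedSMul.smul_mem (decompose 𝒜 b i).2 hm
    split_ifs with h
    · have h2 : i + e = d := by omega
      rw [← h2]
      exact decompose_of_mem_same ℳ hmem
    · exact decompose_of_mem_ne ℳ hmem (by omega)
  simp only [key]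
  rw [Finset.sum_ite_eq']
  split_ifs with h
  · rfl
  · rw [DFinsupp.notMem_support_iff] at h
    rw [h]; simp

/-- Elements whose components of degree `< n` vanish. -/
def Fil (n : ℤ) : AddSubmonoid R where
  carrier := {x | ∀ j < n, (decompose 𝒜 x j : R) = 0}
  zero_mem' := fun j _ => by simp
  add_mem' := fun {x y} hx hy j hj => by
    rw [decompose_add, DirectSum.add_apply, AddMemClass.coe_add, hx j hj, hy j hj, add_zero]

theorem mem_fil {n : ℤ} {x : R} : x ∈ Fil 𝒜 n ↔ ∀ j < n, (decompose 𝒜 x j : R) = 0 := Iff.rfl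

theorem fil_mul {a b : ℤ} {x y : R} (hx : x ∈ Fil 𝒜 a) (hy : y ∈ Fil 𝒜 b) :
    x * y ∈ Fil 𝒜 (a + b) := by
  classical
  intro j hj
  rw [decompose_mul, coe_mul_apply]
  refine Finset.sum_eq_zero fun ij hij => ?_
  rw [Finset.mem_filter] at hij
  by_cases h1 : ij.1 < a
  · rw [hx _ h1, zero_mul]
  · rw [hy _ (by omega), mul_zero]

theorem eq_zero_of_forall_fil {x : R} (h : ∀ n : ℕ, x ∈ Fil 𝒜 n) : x = 0 := by
  classical
  rw [← sum_support_decompose 𝒜 x]
  refine Finset.sum_eq_zero fun j _ => ?_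
  exact h (j + 1).toNat j (by omega)

theorem fil_zero (hneg : ∀ i : ℤ, i < 0 → ∀ x ∈ 𝒜 i, x = 0) (x : R) : x ∈ Fil 𝒜 0 :=
  fun j hj => hneg j hj _ (decompose 𝒜 x j).2

variable {k : Type*} [Field k] [Algebra k R]

/-- In a minimal homogeneous generating family every relation has coefficients without
degree-zero part. -/
theorem rel_zero (h0 : ∀ x ∈ 𝒜 0, ∃ c : k, algebraMap k R c = x) (r' : ℕ)
    (m : Fin (r' + 1) → M) (dg : Fin (r' + 1) → ℤ) (hm : ∀ i, m i ∈ ℳ (dg i))
    (hspan : Submodule.span R (Set.range m) = ⊤)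
    (hmin : ¬ ∃ m' : Fin r' → M, (∀ i, SetLike.IsHomogeneousElem ℳ (m' i)) ∧
      Submodule.span R (Set.range m') = ⊤)
    (b : Fin (r' + 1) → R) (hb : ∑ i, b i • m i = 0) (l : Fin (r' + 1)) :
    (decompose 𝒜 (b l) 0 : R) = 0 := by
  by_contra hne
  apply hmin
  obtain ⟨c, hc⟩ := h0 _ (decompose 𝒜 (b l) 0).2
  have hc0 : c ≠ 0 := by
    rintro rfl
    rw [map_zero] at hc
    exact hne hc.symm
  -- the degree `dg l` component of the relation
  have hcomp : ∑ i, (decompose 𝒜 (b i) (dg l - dg i) : R) • m i = 0 := by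
    have h1 := congrArg (fun z => (decompose ℳ z (dg l) : M)) hb
    simp only [decompose_sum, decompose_zero, DirectSum.zero_apply, ZeroMemClass.coe_zero] at h1
    rw [DFinsupp.finset_sum_apply, AddSubmonoidClass.coe_finset_sum] at h1
    rw [← h1]
    refine Finset.sum_congr rfl fun i _ => ?_
    rw [decompose_smul_of_mem 𝒜 ℳ (b i) (hm i)]
  refine ⟨m ∘ l.succAbove, fun i => ⟨_, hm _⟩, ?_⟩
  set N := Submodule.span R (Set.range (m ∘ l.succAbove)) with hN
  have hothers : ∀ j, m (l.succAbove j) ∈ N := fun j => Submodule.subset_span ⟨j, rfl⟩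
  have hl : m l ∈ N := by
    rw [Fin.sum_univ_succAbove _ l, sub_self, ← hc] at hcomp
    have h2 : algebraMap k R c • m l = -∑ j, (decompose 𝒜 (b (l.succAbove j))
        (dg l - dg (l.succAbove j)) : R) • m (l.succAbove j) := eq_neg_of_add_eq_zero_left hcomp
    have h3 : m l = algebraMap k R c⁻¹ • (algebraMap k R c • m l) := by
      rw [smul_smul, ← map_mul, inv_mul_cancel₀ hc0, map_one, one_smul]
    rw [h3, h2]
    refine N.smul_mem _ (N.neg_mem (N.sum_mem fun j _ => N.smul_mem _ (hothers j)))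
  rw [eq_top_iff, ← hspan, Submodule.span_le]
  rintro _ ⟨i, rfl⟩
  rcases Fin.eq_self_or_eq_succAbove l i with h | ⟨j, h⟩
  · rw [h]; exact hl
  · rw [h]; exact hothers j

end Groth.Agent.Lib.LeadGN
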