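import Mathlib
import Groth.Agent.Lib.LeadGN1

/-!
# Graded projective modules over a connected graded algebra: homogeneous bases (lead)
-/

namespace Groth.Agent.Lib.LeadGN

open DirectSum

variable {R : Type*} [CommRing R] {σ : Type*} [SetLike σ R] [AddSubmonoidClass σ R] (𝒜 : ℤ → σ)
  [GradedRing 𝒜]
variable {M : Type*} [AddCommGroup M] [Module R M] {τ : Type*} [SetLike τ M]
  [AddSubmonoidClass τ M] (ℳ : ℤ → τ) [DirectSum.Decomposition ℳ] [SetLike.GradedSMul 𝒜 ℳ]
variable {k : Type*} [Field k] [Algebra k R]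

omit [SetLike.GradedSMul 𝒜 ℳ] in
theorem exists_homogeneous_span [Module.Finite R M] :
    ∃ (r : ℕ) (m : Fin r → M), (∀ i, SetLike.IsHomogeneousElem ℳ (m i)) ∧
      Submodule.span R (Set.range m) = ⊤ := by
  classical
  obtain ⟨S, hS⟩ := (Module.Finite.fg_top : (⊤ : Submodule R M).FG)
  let T : Finset M :=
    S.biUnion fun g => (decompose ℳ g).support.image fun i => (decompose ℳ g i : M)
  have hT : Submodule.span R (T : Set M) = ⊤ := by
    rw [eq_top_iff, ← hS, Submodule.span_le]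
    intro g hg
    rw [← sum_support_decompose ℳ g]
    refine Submodule.sum_mem _ fun i hi => Submodule.subset_span ?_
    exact Finset.mem_biUnion.mpr ⟨g, hg, Finset.mem_image.mpr ⟨i, hi, rfl⟩⟩
  have hThom : ∀ x ∈ T, SetLike.IsHomogeneousElem ℳ x := by
    intro x hx
    obtain ⟨g, -, hx⟩ := Finset.mem_biUnion.mp hx
    obtain ⟨i, -, rfl⟩ := Finset.mem_image.mp hx
    exact ⟨i, (decompose ℳ g i).2⟩
  refine ⟨T.card, fun i => (T.equivFin.symm i : M), fun i => hThom _ (T.equivFin.symm i).2, ?_⟩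
  rw [eq_top_iff, ← hT, Submodule.span_le]
  intro x hx
  exact Submodule.subset_span ⟨T.equivFin ⟨x, hx⟩, by simp⟩

theorem exists_homogeneous_basis (hneg : ∀ i : ℤ, i < 0 → ∀ x ∈ 𝒜 i, x = 0)
    (h0 : ∀ x ∈ 𝒜 0, ∃ c : k, algebraMap k R c = x) [Module.Finite R M]
    [Module.Projective R M] :
    ∃ (r : ℕ) (b : Module.Basis (Fin r) R M), ∀ i, SetLike.IsHomogeneousElem ℳ (b i) := by
  classical
  have hex := exists_homogeneous_span (R := R) ℳ
  obtain ⟨r, ⟨m, hmhom, hspan⟩, hmin⟩ : ∃ r, (∃ m : Fin r → M,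
      (∀ i, SetLike.IsHomogeneousElem ℳ (m i)) ∧ Submodule.span R (Set.range m) = ⊤) ∧
      ∀ r' < r, ¬ ∃ m' : Fin r' → M, (∀ i, SetLike.IsHomogeneousElem ℳ (m' i)) ∧
        Submodule.span R (Set.range m') = ⊤ :=
    ⟨Nat.find hex, Nat.find_spec hex, fun r' h => Nat.find_min hex h⟩
  choose dg hdg using hmhom
  have hrel : ∀ (b : Fin r → R), ∑ i, b i • m i = 0 → ∀ l, (decompose 𝒜 (b l) 0 : R) = 0 := by
    intro b hb l
    rcases r with _ | r'
    · exact l.elim0
    · exact rel_zero 𝒜 ℳ h0 r' m dg hdg hspan (hmin r' (Nat.lt_succ_self _)) b hb l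
  set φ := Fintype.linearCombination R m with hφ
  have hsurj : Function.Surjective φ := by
    rw [← LinearMap.range_eq_top, Fintype.range_linearCombination, hspan]
  obtain ⟨s, hs⟩ := Module.projective_lifting_property φ LinearMap.id hsurj
  let d : (Fin r → R) →ₗ[R] (Fin r → R) := LinearMap.id - s ∘ₗ φ
  have hd : ∀ x, d x = x - s (φ x) := fun x => rfl
  have hφs : ∀ y, φ (s y) = y := fun y => LinearMap.congr_fun hs y
  have hφd : ∀ x, φ (d x) = 0 := by
    intro x
    rw [hd, map_sub, hφs, sub_self]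
  have hdd : ∀ x, d (d x) = d x := by
    intro x
    rw [hd (d x), hφd, map_zero, sub_zero]
  have h1 : ∀ x i, d x i ∈ Fil 𝒜 1 := by
    intro x i j hj
    have hrel' := hrel (d x) (by rw [← Fintype.linearCombination_apply]; exact hφd x) i
    rcases lt_or_eq_of_le (show j ≤ 0 by omega) with h | h
    · exact hneg j h _ (decompose 𝒜 (d x i) j).2
    · rw [h]; exact hrel'
  have hn : ∀ n : ℕ, ∀ x i, d x i ∈ Fil 𝒜 n := by
    intro n
    induction n with
    | zero => intro x i; exact fil_zero 𝒜 hneg _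
    | succ n ih =>
      intro x i
      rw [← hdd x, LinearMap.pi_apply_eq_sum_univ d (d x)]
      simp only [Finset.sum_apply, Pi.smul_apply, smul_eq_mul]
      push_cast
      exact (Fil 𝒜 (n + 1)).sum_mem fun j _ => fil_mul 𝒜 (ih x j) (h1 _ i)
  have hd0 : ∀ x, d x = 0 := fun x => funext fun i =>
    eq_zero_of_forall_fil 𝒜 fun n => hn n x i
  have hinj : Function.Injective φ := by
    intro x y hxy
    have hx := hd0 x
    have hy := hd0 y
    rw [hd, sub_eq_zero] at hx hy
    rw [hx, hy, hxy]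
  have hli : LinearIndependent R m :=
    linearIndependent_iff_injective_fintypeLinearCombination.mpr hinj
  refine ⟨r, Module.Basis.mk hli (by rw [hspan]), fun i => ?_⟩
  rw [Module.Basis.mk_apply]
  exact ⟨dg i, hdg i⟩

end Groth.Agent.Lib.LeadGN
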