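import Mathlib
import Groth.Agent.Lib.LeadGS3

/-! Coefficient fields of expansions are finite; separating elements in a finite separable
extension with larger constants. -/

set_option autoImplicit false

namespace Groth.Agent.Lib.LeadGS
open FunFld HahnSeries WithZero Groth.Agent.Lib.LeadTR Groth.Agent.Lib.LeadWD
  Groth.Agent.Lib.LeadFF Groth.Agent.Lib.LeadMS Polynomial
open scoped IntermediateField

universe u v w

section Fin
variable {k : Type u} {K : Type v} [Field k] [Field K] [Algebra k K]
variable {F : Type w} [Field F] [Algebra k F]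

lemma coeff_zero_eq_zero_of_lt {x : LaurentSeries F} (hx : Valued.v x < 1) : x.coeff 0 = 0 := by
  have h1 : Valued.v x ≤ exp (-(1 : ℤ)) := by
    rcases eq_or_ne (Valued.v x) 0 with h0 | h0
    · rw [h0]; exact zero_le'
    · rw [← exp_log h0] at hx ⊢
      rw [← exp_zero, exp_lt_exp] at hx
      rw [exp_le_exp]; omega
  exact (mem_Afil_iff_val (k := F)).mpr h1 0 (by norm_num)

/-- the coefficient field of an expansion at a place is finite over the base field. -/
theorem finite_of_expansion (hK : LeadFG.IsFF k K) (P : Place k K)
    (φ : K →ₐ[k] LaurentSeries F) (hφ : LocRes.IsExpansionAt P.1 φ) : FiniteDimensional k F := by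
  classical
  haveI := LeadFG.residueField_finite hK P
  apply Module.rank_lt_aleph0_iff.mp
  refine lt_of_le_of_lt (rank_le (n := P.deg) ?_) (Cardinal.nat_lt_aleph0 _)
  intro s hs
  choose z hz1 hz2 using hφ.2.1
  let zz : F → P.O := fun a => ⟨z a, hz1 a⟩
  let y : s → IsLocalRing.ResidueField P.O := fun i => IsLocalRing.residue P.O (zz i)
  suffices hli : LinearIndependent k y by
    have := hli.fintype_card_le_finrank
    simpa [Place.deg] using this
  rw [Fintype.linearIndependent_iff]
  intro c hc
  have h1 : IsLocalRing.residue P.O (∑ i, c i • zz i) = 0 := by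
    rw [map_sum, ← hc]
    apply Finset.sum_congr rfl
    intro i _
    exact LeadFG.residue_smul P (c i) (zz i)
  rw [LeadFG.residue_eq_zero_iff] at h1
  have h2 : ((∑ i, c i • zz i : P.O) : K) = ∑ i, algebraMap k K (c i) * z i := by
    rw [AddSubmonoidClass.coe_finset_sum]
    apply Finset.sum_congr rfl
    intro i _
    exact LeadFG.coe_smul_O P (c i) (zz i)
  rw [h2, ← hφ.1] at h1
  have h3 := coeff_zero_eq_zero_of_lt h1
  rw [map_sum, HahnSeries.coeff_sum] at h3
  have h4 : ∑ i : s, c i • (i : F) = 0 := by
    rw [← h3]
    apply Finset.sum_congr rfl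
    intro i _
    rw [map_mul, LocRes.map_algebraMap, HahnSeries.C_mul_eq_smul, HahnSeries.coeff_smul, hz2,
      smul_eq_mul, Algebra.smul_def]
  exact Fintype.linearIndependent_iff.mp hs c h4

end Fin

section Ext
variable {k k' : Type u} {K K' : Type v} [Field k] [Field k'] [Field K] [Field K']
  [Algebra k k'] [Algebra k K] [Algebra K K'] [Algebra k' K'] [Algebra k K']
  [IsScalarTower k k' K'] [IsScalarTower k K K']

/-- a separating element stays separating in a finite separable extension, over a larger
(algebraic) constant field. -/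
theorem hasSep_ext [Algebra.IsAlgebraic k k'] [Algebra.IsSeparable K K'] {x : K}
    (hxt : Transcendental k x) (hsep : Algebra.IsSeparable k⟮x⟯ K) :
    Transcendental k' (algebraMap K K' x) ∧ Algebra.IsSeparable k'⟮algebraMap K K' x⟯ K' := by
  constructor
  · intro halg
    have h1 : IsAlgebraic k (algebraMap K K' x) := halg.restrictScalars k
    exact hxt ((isAlgebraic_algebraMap_iff (algebraMap K K').injective).mp h1)
  · set B := k'⟮algebraMap K K' x⟯ with hB
    have hle : k⟮x⟯ ≤ (B.restrictScalars k).comap (IsScalarTower.toAlgHom k K K') := by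
      rw [IntermediateField.adjoin_le_iff]
      intro a ha
      rw [Set.mem_singleton_iff] at ha
      rw [ha]
      show algebraMap K K' x ∈ B
      exact IntermediateField.mem_adjoin_simple_self k' _
    haveI : IsScalarTower k⟮x⟯ K K' := inferInstance
    haveI : Algebra.IsSeparable k⟮x⟯ K' := Algebra.IsSeparable.trans k⟮x⟯ K K'
    let ρ : k⟮x⟯ →+* B :=
      { toFun := fun a => ⟨algebraMap K K' (a : K), hle a.2⟩
        map_one' := by apply Subtype.ext; simp
        map_mul' := by intro a b; apply Subtype.ext; simp
        map_zero' := by apply Subtype.ext; simp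
        map_add' := by intro a b; apply Subtype.ext; simp }
    letI : Algebra k⟮x⟯ B := ρ.toAlgebra
    haveI : IsScalarTower k⟮x⟯ B K' := IsScalarTower.of_algebraMap_eq (fun _ => rfl)
    exact Algebra.isSeparable_tower_top_of_isSeparable k⟮x⟯ B K'

end Ext

end Groth.Agent.Lib.LeadGS
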