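import Mathlib
import Groth.Agent.Lib.LeadGS4
import Groth.Agent.Lib.LeadFF26

/-! Riemann–Hurwitz (S12576). -/

set_option autoImplicit false

namespace Groth.Agent.Lib.LeadGS
open FunFld HahnSeries WithZero Groth.Agent.Lib.LeadTR Groth.Agent.Lib.LeadWD
  Groth.Agent.Lib.LeadFF Groth.Agent.Lib.LeadMS Polynomial IsLocalRing
open scoped IntermediateField

universe u v w

section Bridge
variable {k k' : Type u} {K' : Type v} [Field k] [Field k'] [Field K'] [Algebra k k']
  [Algebra k' K'] [Algebra k K'] [IsScalarTower k k' K']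

/-- a place over `k'` as a place over `k`. -/
def downPlace (Q : Place k' K') : Place k K' :=
  ⟨Q.1, fun c => by rw [IsScalarTower.algebraMap_apply k k' K']; exact Q.2.1 _, Q.2.2⟩

lemma downPlace_val (Q : Place k' K') : (downPlace (k := k) Q).1 = Q.1 := rfl

lemma downPlace_injective :
    Function.Injective (downPlace (k := k) (k' := k') (K' := K')) := by
  intro Q Q' h
  apply Subtype.ext
  exact congrArg (fun R : Place k K' => R.1) h

lemma downPlace_surjective [Algebra.IsAlgebraic k k'] :
    Function.Surjective (downPlace (k := k) (k' := k') (K' := K')) := by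
  intro Q
  refine ⟨⟨Q.1, fun c' => ?_, Q.2.2⟩, Subtype.ext rfl⟩
  have hint : IsIntegral k (algebraMap k' K' c') :=
    (Algebra.IsIntegral.isIntegral (R := k) c').map (IsScalarTower.toAlgHom k k' K')
  exact LeadFG.val_le_one_of_isIntegral (LeadFG.place_trivOn Q) hint

lemma deg_downPlace (Q : Place k' K') :
    (downPlace (k := k) Q).deg = Module.finrank k k' * Q.deg := by
  unfold Place.deg
  letI : Algebra k (ResidueField Q.O) := Place.algRes (downPlace (k := k) Q)
  haveI : IsScalarTower k k' (ResidueField Q.O) := IsScalarTower.of_algebraMap_eq (fun c => by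
    change residue Q.O _ = residue Q.O _
    congr 1
    apply Subtype.ext
    exact IsScalarTower.algebraMap_apply k k' K' c)
  have := (@Module.finrank_mul_finrank k k' (ResidueField Q.O) _ _ _ _ _ _ this _ _)
  exact this.symm

end Bridge

section RH
variable {k k' : Type u} {K K' : Type v} [Field k] [Field k'] [Field K] [Field K']
  [Algebra k k'] [Algebra k K] [Algebra K K'] [Algebra k' K'] [Algebra k K']
  [IsScalarTower k k' K'] [IsScalarTower k K K'] [FiniteDimensional k k'] [FiniteDimensional K K']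
  [Algebra.IsSeparable K K']

theorem riemann_hurwitz
    (hK : IsFunctionField k K) (hg : IsGeometric k K) (hK' : IsFunctionField k' K')
    (F : Place k K → Type w) [∀ P, Field (F P)] [∀ P, Algebra k (F P)]
    (φ : ∀ P, K →ₐ[k] LaurentSeries (F P)) (hφ : ∀ P, LocRes.IsExpansionAt P.1 (φ P))
    (F' : Place k' K' → Type w) [∀ Q, Field (F' Q)] [∀ Q, Algebra k' (F' Q)]
    (ψ : ∀ Q, K' →ₐ[k'] LaurentSeries (F' Q)) (hψ : ∀ Q, LocRes.IsExpansionAt Q.1 (ψ Q))
    (below : Place k' K' → Place k K) (e : Place k' K' → ℕ)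
    (he : ∀ Q (z : K), Q.1 (algebraMap K K' z) = (below Q).1 z ^ e Q)
    (x : K) (hx : ∀ P, LocRes.vDiff (φ P) 1 x ≠ 0)
    (hx' : ∀ Q, LocRes.vDiff (ψ Q) 1 (algebraMap K K' x) ≠ 0) :
    (Function.support fun Q => LocRes.diffExp (φ (below Q)) (ψ Q) (e Q) x).Finite ∧
    (Module.finrank k k' : ℤ) * (2 * (genus k' K' : ℤ) - 2) =
      (Module.finrank K K' : ℤ) * (2 * (genus k K : ℤ) - 2) +
      (Module.finrank k k' : ℤ) *
        ∑ᶠ Q, LocRes.diffExp (φ (below Q)) (ψ Q) (e Q) x * (Q.deg : ℤ) := by
  classical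
  haveI : ∀ P, FiniteDimensional k (F P) := fun P =>
    finite_of_expansion (LeadFG.IsFF.of_isFunctionField hK) P (φ P) (hφ P)
  haveI : ∀ Q, FiniteDimensional k' (F' Q) := fun Q =>
    finite_of_expansion (LeadFG.IsFF.of_isFunctionField hK') Q (ψ Q) (hψ Q)
  obtain ⟨P₀⟩ := nonempty_place hK
  have hDx : KaehlerDifferential.D k K x ≠ 0 := by
    intro h0
    apply hx P₀
    have := D_expand (φ P₀) (x := x) (x' := x) (c := 0) (by rw [h0, smul_zero])
    unfold LocRes.vDiff
    rw [this, map_zero, zero_mul, mul_zero, map_zero]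
  have hs : HasSep k K := hasSep_of_geometric hK hg
  obtain ⟨hxt, hsep⟩ := sep_of_D_ne_zero hK hs hDx
  obtain ⟨hxt', hsep'⟩ := hasSep_ext (k' := k') (K' := K') hxt hsep
  have hs' : HasSep k' K' := ⟨_, hxt', hsep'⟩
  have hDx' : KaehlerDifferential.D k' K' (algebraMap K K' x) ≠ 0 :=
    (kaehler_of_separating hxt').1
  set W := divD hK hs hφ hDx with hW
  set W' := divD hK' hs' hψ hDx' with hW'
  have hWdeg : W.deg = 2 * (genus k K : ℤ) - 2 := deg_divD hK hs hφ hDx
  have hWdeg' : W'.deg = 2 * (genus k' K' : ℤ) - 2 := deg_divD hK' hs' hψ hDx'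
  set C : Divisor k K' := conorm K' W with hC
  have hCdeg : C.deg = Module.finrank K K' * W.deg := deg_conorm hK W
  have hCapply : ∀ Q : Place k' K', C (downPlace Q) = e Q * W (below Q) := by
    intro Q
    have h : IsOverWith (downPlace (k := k) Q) (below Q) (e Q) := he Q
    exact conorm_apply hK W h
  set C' : Divisor k' K' := C.comapDomain downPlace (downPlace_injective.injOn) with hC'
  have hbij : Set.BijOn (downPlace (k := k) (k' := k') (K' := K'))
      (downPlace ⁻¹' (C.support : Set (Place k K'))) (C.support : Set (Place k K')) := by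
    refine ⟨Set.mapsTo_preimage _ _, downPlace_injective.injOn, ?_⟩
    intro Q hQ
    obtain ⟨Q', rfl⟩ := downPlace_surjective (k := k) (k' := k') Q
    exact ⟨Q', hQ, rfl⟩
  have hC'deg : (Module.finrank k k' : ℤ) * C'.deg = C.deg := by
    have h1 := Finsupp.sum_comapDomain downPlace C (fun Q n => n * (Q.deg : ℤ)) hbij
    unfold Divisor.deg
    rw [← h1, Finsupp.mul_sum]
    apply Finsupp.sum_congr
    intro Q _
    simp only [Function.comp_apply]
    rw [deg_downPlace]
    push_cast
    ring
  have hd : ∀ Q, LocRes.diffExp (φ (below Q)) (ψ Q) (e Q) x = (W' - C') Q := by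
    intro Q
    rw [Finsupp.sub_apply, hC', Finsupp.comapDomain_apply, hCapply, hW, hW', divD_apply,
      divD_apply]
    rfl
  have hfun : (fun Q => LocRes.diffExp (φ (below Q)) (ψ Q) (e Q) x) = fun Q => (W' - C') Q :=
    funext hd
  refine ⟨?_, ?_⟩
  · rw [hfun]
    exact (W' - C').support.finite_toSet.subset (fun Q hQ => by
      simpa [Function.mem_support] using hQ)
  · have hsum : ∑ᶠ Q, LocRes.diffExp (φ (below Q)) (ψ Q) (e Q) x * (Q.deg : ℤ) =
        (W' - C').deg := by
      have : (fun Q => LocRes.diffExp (φ (below Q)) (ψ Q) (e Q) x * (Q.deg : ℤ)) =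
          fun Q => (W' - C') Q * (Q.deg : ℤ) := by
        funext Q; rw [hd Q]
      rw [this]
      unfold Divisor.deg Finsupp.sum
      apply finsum_eq_sum_of_support_subset
      intro Q hQ
      rw [Function.mem_support] at hQ
      rw [Finset.mem_coe, Finsupp.mem_support_iff]
      intro h0
      apply hQ
      rw [h0, zero_mul]
    rw [hsum, LeadFG.deg_sub]
    linear_combination (-(Module.finrank k k' : ℤ)) * hWdeg' + hC'deg + hCdeg +
      (Module.finrank K K' : ℤ) * hWdeg

end RH

end Groth.Agent.Lib.LeadGS
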