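import Mathlib
import Groth.Agent.Lib.Helper23QCohLocal

/-!
# Sections of a quasi-coherent module over an affine open vanishing on an open subset

Let `F` be quasi-coherent, `W` an affine open of a locally Noetherian scheme and `O ≤ W` an open.
The sections of `F` over `W` vanishing on `O` are the sections killed by a power of the ideal of
functions on `W` whose non-vanishing locus lies in `O`.
-/

universe u

open CategoryTheory Limits AlgebraicGeometry Opposite TopologicalSpace

namespace Groth.Agent.LeadGammaZInj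

variable {X : Scheme.{u}} {W : X.Opens} (O : X.Opens) (hO : O ≤ W)

/-- the ideal of functions on `W` whose non-vanishing locus lies in `O` -/
def idealOf : Ideal Γ(X, W) where
  carrier := {f | X.basicOpen f ≤ O}
  add_mem' := by
    intro a b ha hb
    exact (X.basicOpen_add_le a b).trans (sup_le ha hb)
  zero_mem' := by
    show X.basicOpen (0 : Γ(X, W)) ≤ O
    rw [Scheme.basicOpen_zero]
    exact bot_le
  smul_mem' := by
    intro c a ha
    show X.basicOpen (c * a) ≤ O
    rw [Scheme.basicOpen_mul]
    exact inf_le_right.trans ha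

theorem mem_idealOf (f : Γ(X, W)) : f ∈ idealOf (W := W) O ↔ X.basicOpen f ≤ O := Iff.rfl

variable (F : X.Modules)

/-- the sections of `F` over `W` vanishing on `O` -/
def vanishing : Submodule Γ(X, W) Γ(F, W) where
  carrier := {s | F.presheaf.map (homOfLE hO).op s = 0}
  add_mem' := by
    intro a b ha hb
    show F.presheaf.map (homOfLE hO).op (a + b) = 0
    have ha' : F.presheaf.map (homOfLE hO).op a = 0 := ha
    have hb' : F.presheaf.map (homOfLE hO).op b = 0 := hb
    rw [map_add, ha', hb', add_zero]
  zero_mem' := map_zero _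
  smul_mem' := by
    intro c a ha
    show F.presheaf.map (homOfLE hO).op (c • a) = 0
    have ha' : F.presheaf.map (homOfLE hO).op a = 0 := ha
    rw [Scheme.Modules.map_smul, ha', smul_zero]

theorem mem_vanishing (s : Γ(F, W)) :
    s ∈ vanishing O hO F ↔ F.presheaf.map (homOfLE hO).op s = 0 := Iff.rfl

/-- a section killed by a power of `f` vanishes on `D(f)` -/
theorem map_basicOpen_eq_zero (f : Γ(X, W)) (n : ℕ) (s : Γ(F, W)) (h : f ^ n • s = 0) :
    F.presheaf.map (homOfLE (X.basicOpen_le f)).op s = 0 := by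
  have h1 := congrArg (F.presheaf.map (homOfLE (X.basicOpen_le f)).op) h
  rw [Scheme.Modules.map_smul, map_zero, map_pow] at h1
  have hu : IsUnit (X.presheaf.map (homOfLE (X.basicOpen_le f)).op f) :=
    X.toRingedSpace.isUnit_res_basicOpen f
  have hu' := hu.pow n
  exact (hu'.smul_left_cancel (y := (0 : Γ(F, X.basicOpen f)))).1 (by rw [smul_zero]; exact h1)

include hO in
theorem vanishing_eq [IsLocallyNoetherian X] [F.IsQuasicoherent] (hW : IsAffineOpen W) :
    vanishing O hO F = ⨆ n : ℕ, Submodule.torsionBySet Γ(X, W) Γ(F, W)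
      ((idealOf (W := W) O ^ n : Ideal Γ(X, W)) : Set Γ(X, W)) := by
  haveI : IsNoetherianRing Γ(X, W) := IsLocallyNoetherian.component_noetherian ⟨W, hW⟩
  have hmono : Monotone (fun n : ℕ => Submodule.torsionBySet Γ(X, W) Γ(F, W)
      ((idealOf (W := W) O ^ n : Ideal Γ(X, W)) : Set Γ(X, W))) := by
    intro n m hnm
    apply Submodule.torsionBySet_le_torsionBySet_of_subset
    exact Ideal.pow_le_pow_right hnm
  apply le_antisymm
  · intro s hs
    rw [mem_vanishing] at hs
    -- the annihilator of `s`
    let J : Ideal Γ(X, W) := LinearMap.ker (LinearMap.toSpanSingleton Γ(X, W) Γ(F, W) s)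
    have hJ : ∀ a : Γ(X, W), a ∈ J ↔ a • s = 0 := fun a => by
      simp [J, LinearMap.mem_ker, LinearMap.toSpanSingleton_apply]
    have hrad : idealOf (W := W) O ≤ J.radical := by
      intro f hf
      have hfO : X.basicOpen f ≤ O := hf
      have h0 : F.presheaf.map (homOfLE (X.basicOpen_le f)).op s = 0 := by
        have e : (homOfLE (X.basicOpen_le f) : X.basicOpen f ⟶ W) =
            homOfLE hfO ≫ homOfLE hO := rfl
        rw [e, op_comp, Functor.map_comp, ConcreteCategory.comp_apply, hs, map_zero]
      obtain ⟨n, hn⟩ := Groth.Agent.Lib.Helper23.QCohLocal.exists_pow_smul_eq_zero_qc'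
        hW.isCompact F f (X.basicOpen f) rfl (X.basicOpen_le f) s h0
      exact ⟨n, (hJ _).2 hn⟩
    obtain ⟨k, hk⟩ := Ideal.exists_pow_le_of_le_radical_of_fg hrad
      (IsNoetherian.noetherian (idealOf (W := W) O))
    refine Submodule.mem_iSup_of_mem k ?_
    rw [Submodule.mem_torsionBySet_iff]
    rintro ⟨a, ha⟩
    exact (hJ a).1 (hk ha)
  · intro s hs
    obtain ⟨n, hn⟩ := (Submodule.mem_iSup_of_directed _ hmono.directed_le).1 hs
    rw [Submodule.mem_torsionBySet_iff] at hn
    rw [mem_vanishing]
    -- check vanishing locally on the basic opens contained in `O`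
    refine TopCat.Sheaf.eq_of_locally_eq' ⟨F.presheaf, F.isSheaf⟩
      (fun f : {f : Γ(X, W) // X.basicOpen f ≤ O} => X.basicOpen f.1) O
      (fun f => homOfLE f.2) ?_ _ _ (fun f => ?_)
    · intro x hx
      obtain ⟨f, hfO, hxf⟩ := hW.exists_basicOpen_le ⟨x, hx⟩ (hO hx)
      exact Opens.mem_iSup.mpr ⟨⟨f, hfO⟩, hxf⟩
    · obtain ⟨f, hfO⟩ := f
      have hfn : f ^ n • s = 0 :=
        hn ⟨f ^ n, Ideal.pow_mem_pow ((mem_idealOf O f).2 hfO) n⟩
      have h0 := map_basicOpen_eq_zero F f n s hfn
      have e : (homOfLE (X.basicOpen_le f) : X.basicOpen f ⟶ W) =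
          homOfLE hfO ≫ homOfLE hO := rfl
      rw [e, op_comp, Functor.map_comp, ConcreteCategory.comp_apply] at h0
      rw [map_zero]
      exact h0

end Groth.Agent.LeadGammaZInj
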