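import Mathlib
import Groth.Agent.S0304

/-!
# Indecomposable injective modules over a Noetherian ring

For an indecomposable injective module `E` over a Noetherian ring `R` there is a prime `𝔭` such that
the elements outside `𝔭` act bijectively on `E`, and every element of `E` is killed by a power of
each element of `𝔭`.
-/

universe u

namespace Groth.Agent.LeadMatlis

variable {R : Type u} [CommRing R] {E : Type u} [AddCommGroup E] [Module R E]

/-- multiplication by `s` as a linear endomorphism -/
abbrev mulBy (s : R) : E →ₗ[R] E := LinearMap.lsmul R E s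

theorem bijective_smul_of_injective_smul (hE : InjHull.IsIndecomposable R E)
    (hinj : Module.Injective R E) (s : R) (hs : Function.Injective (fun e : E => s • e)) :
    Function.Bijective (fun e : E => s • e) := by
  refine ⟨hs, ?_⟩
  have hφ : Function.Injective (mulBy (E := E) s) := hs
  let N : Submodule R E := LinearMap.range (mulBy (E := E) s)
  have hN : Module.Injective R N := by
    haveI := hinj
    have e : E ≃ₗ[R] N := LinearEquiv.ofInjective (mulBy (E := E) s) hφ
    exact Module.Baer.injective (Module.Baer.of_equiv e (Module.Baer.of_injective hinj))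
  obtain ⟨C, hC⟩ := Groth.Agent.S0304.exists_isCompl_of_injective N hN
  obtain ⟨hnt, hdec⟩ := hE
  rcases hdec N C hC with h | h
  · exfalso
    obtain ⟨e, he⟩ := exists_ne (0 : E)
    have h1 : s • e ∈ N := ⟨e, rfl⟩
    rw [h] at h1
    have h2 : s • e = 0 := (Submodule.mem_bot R).1 h1
    exact he (hs (by simpa using h2))
  · have hN' : N = ⊤ := by
      rw [h] at hC
      exact eq_top_of_isCompl_bot hC
    intro y
    have : y ∈ N := by rw [hN']; trivial
    obtain ⟨e, he⟩ := this
    exact ⟨e, he⟩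

theorem exists_pow_smul_eq_zero [IsNoetherianRing R]
    (huni : ∀ N N' : Submodule R E, N ≠ ⊥ → N' ≠ ⊥ → N ⊓ N' ≠ ⊥)
    (f : R) (hf : ∃ y : E, y ≠ 0 ∧ f • y = 0) (e : E) : ∃ n : ℕ, f ^ n • e = 0 := by
  by_cases he : e = 0
  · exact ⟨0, by simp [he]⟩
  let C : Submodule R E := Submodule.span R {e}
  have heC : e ∈ C := Submodule.subset_span rfl
  have hC : C ≠ ⊥ := fun h => he (by simpa [h] using heC)
  haveI : IsNoetherian R C := isNoetherian_span_of_finite R (Set.finite_singleton e)
  let K : ℕ →o Submodule R C :=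
    { toFun := fun n => LinearMap.ker (mulBy (E := C) (f ^ n))
      monotone' := by
        intro n m hnm c hc
        have hc' : f ^ n • c = 0 := hc
        show f ^ m • c = 0
        obtain ⟨k, rfl⟩ := Nat.exists_eq_add_of_le hnm
        rw [pow_add, mul_comm, mul_smul, hc', smul_zero] }
  obtain ⟨n₀, hn₀⟩ := monotone_stabilizes_iff_noetherian.2 (inferInstance : IsNoetherian R C) K
  let n := max n₀ 1
  have hn : ∀ m, n ≤ m → K n = K m := fun m hm =>
    (hn₀ n (le_max_left _ _)).symm.trans (hn₀ m ((le_max_left _ _).trans hm))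
  let D1 : Submodule R E := C.map (mulBy (E := E) (f ^ n))
  let D2 : Submodule R E := (K n).map C.subtype
  have hD : D1 ⊓ D2 = ⊥ := by
    rw [eq_bot_iff]
    rintro y ⟨⟨c, hc, rfl⟩, ⟨c', hc', hcc'⟩⟩
    have h1 : f ^ n • (c' : E) = 0 := by
      have : f ^ n • c' = 0 := hc'
      exact congrArg Subtype.val this
    have hcc'' : (c' : E) = f ^ n • c := hcc'
    have h2 : f ^ (n + n) • c = 0 := by
      rw [pow_add, mul_smul, ← hcc'', h1]
    have h3 : (⟨c, hc⟩ : C) ∈ K (n + n) := by
      show f ^ (n + n) • (⟨c, hc⟩ : C) = 0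
      exact Subtype.ext h2
    rw [← hn (n + n) (Nat.le_add_right n n)] at h3
    have h4 : f ^ n • (⟨c, hc⟩ : C) = 0 := h3
    have h5 : f ^ n • c = 0 := congrArg Subtype.val h4
    show mulBy (E := E) (f ^ n) c ∈ (⊥ : Submodule R E)
    rw [Submodule.mem_bot]
    exact h5
  have hcases : D1 = ⊥ ∨ D2 = ⊥ := by
    by_contra hcon
    rw [not_or] at hcon
    exact huni D1 D2 hcon.1 hcon.2 hD
  rcases hcases with h | h
  · refine ⟨n, ?_⟩
    have : f ^ n • e ∈ D1 := ⟨e, heC, rfl⟩
    rw [h] at this
    exact (Submodule.mem_bot R).1 this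
  · exfalso
    obtain ⟨y, hy, hfy⟩ := hf
    have hY : Submodule.span R {y} ≠ ⊥ := fun h' =>
      hy (by simpa [h'] using (Submodule.subset_span rfl : y ∈ Submodule.span R {y}))
    have hne := huni (Submodule.span R {y}) C hY hC
    obtain ⟨z, hz, hz0⟩ := (Submodule.ne_bot_iff _).1 hne
    obtain ⟨hz1, hz2⟩ := hz
    obtain ⟨r, rfl⟩ := Submodule.mem_span_singleton.1 hz1
    have hfz : f • (r • y) = 0 := by rw [smul_comm, hfy, smul_zero]
    have h1 : (⟨r • y, hz2⟩ : C) ∈ K 1 := by
      show f ^ 1 • (⟨r • y, hz2⟩ : C) = 0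
      rw [pow_one]
      exact Subtype.ext hfz
    have h2 : (⟨r • y, hz2⟩ : C) ∈ K n := K.monotone (le_max_right _ _) h1
    have h3 : r • y ∈ D2 := ⟨⟨r • y, hz2⟩, h2, rfl⟩
    rw [h] at h3
    exact hz0 ((Submodule.mem_bot R).1 h3)

/-- The structure of an indecomposable injective module over a Noetherian ring. -/
theorem exists_prime_of_indecomposable_injective [IsNoetherianRing R]
    (hE : InjHull.IsIndecomposable R E) (hinj : Module.Injective R E) :
    ∃ 𝔭 : Ideal R, 𝔭.IsPrime ∧ (∀ s : R, s ∉ 𝔭 → Function.Bijective (fun e : E => s • e)) ∧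
      (∀ f ∈ 𝔭, ∀ e : E, ∃ n : ℕ, f ^ n • e = 0) := by
  obtain ⟨huni, 𝔭, hp, hset⟩ := Groth.Agent.S0304.result R E hE hinj
  refine ⟨𝔭, hp, fun s hs => ?_, fun f hf e => ?_⟩
  · apply bijective_smul_of_injective_smul hE hinj
    intro a b hab
    by_contra hne
    apply hs
    have : s ∈ (𝔭 : Set R) := by
      rw [hset]
      refine ⟨a - b, sub_ne_zero.2 hne, ?_⟩
      have hab' : s • a = s • b := hab
      rw [smul_sub, hab', sub_self]
    exact this
  · have hf' : f ∈ (𝔭 : Set R) := hf
    rw [hset] at hf'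
    exact exists_pow_smul_eq_zero huni f hf' e

end Groth.Agent.LeadMatlis
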