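import Mathlib
import Groth.Agent.Lib.Helper1KBC5
import Groth.Agent.Lib.Helper1TQ8
import Groth.Agent.Lib.Helper1Sky4

/-!
# Skyscraper modules on `Spec A`: injectivity and quasi-coherence
-/

universe u

open CategoryTheory Limits AlgebraicGeometry Opposite TopologicalSpace TensorProduct

namespace Groth.Agent.LeadMatlis

open Groth.Agent.Lib.Helper1.Sky Groth.Agent.Lib.Helper1.StalkTensor Groth.Agent.Lib.Helper1.KBC
  Groth.Agent.Lib.Helper1.TQ

/-- The stalk functor preserves monomorphisms. -/
instance preservesMonomorphisms_stalkFun {X : Scheme.{u}} (x : X) :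
    (stalkFun x).PreservesMonomorphisms :=
  ⟨fun {M M'} f hf => by
    rw [ModuleCat.mono_iff_injective]
    exact sm_injective_of_mono f x⟩

/-- Skyscraper modules with injective value are injective. -/
theorem injective_sky {X : Scheme.{u}} (x : X) (N : ModuleCat.{u} (Groth.Agent.Lib.Helper1.Sky.Ox x)) [Injective N] :
    Injective ((skyFun x).obj N) :=
  Injective.injective_of_adjoint (stalkSkyAdj x) N

section Spec

variable (A : Type u) [CommRing A] (x : Spec (CommRingCat.of A)) (N : ModuleCat.{u} (Groth.Agent.Lib.Helper1.Sky.Ox x))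

local notation "RA" => CommRingCat.of A

/-- sections of the skyscraper over `U`, as a module over `A` -/
noncomputable abbrev SecA (U : (Spec RA).Opens) : ModuleCat.{u} RA :=
  ((modulesSpecToSheaf (R := RA)).obj ((skyFun x).obj N)).obj.obj (op U)

/-- view a section as an element of `SkyT` -/
noncomputable abbrev asT {U : (Spec RA).Opens} (s : SecA A x N U) : SkyT (Spec RA).presheaf x N U := s

lemma ev_smul (U : (Spec RA).Opens) (hx : x ∈ U) (r : A) (s : SecA A x N U) :
    SkyT.ev (Spec RA).presheaf U (asT A x N (r • s)) hx =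
      toOx RA x r • SkyT.ev (Spec RA).presheaf U (asT A x N s) hx := by
  have key : ∃ c : (Spec RA).presheaf.obj (op U),
      asT A x N (r • s) = c • asT A x N s ∧ gr (Spec RA).presheaf x U hx c = toOx RA x r := by
    refine ⟨_, rfl, ?_⟩
    exact gr_rr (R := (Spec RA).presheaf)
      ((initialOpOfTerminal (C := Opens (Spec RA)) isTerminalTop).to (op U)).unop hx _
  obtain ⟨c, h1, h2⟩ := key
  rw [h1, SkyT.smul_ev, h2]

lemma secA_ext {U : (Spec RA).Opens} {s t : SecA A x N U}
    (h : ∀ hx : x ∈ U, SkyT.ev (Spec RA).presheaf U (asT A x N s) hx =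
      SkyT.ev (Spec RA).presheaf U (asT A x N t) hx) : s = t :=
  SkyT.ext (R := (Spec RA).presheaf) (U := U) h

/-- a section with prescribed value -/
noncomputable def mkSec (U : (Spec RA).Opens) (n : N) : SecA A x N U :=
  (SkyT.mk (R := (Spec RA).presheaf) (U := U) fun _ => n : SkyT (Spec RA).presheaf x N U)

lemma ev_mkSec (U : (Spec RA).Opens) (n : N) (hx : x ∈ U) :
    SkyT.ev (Spec RA).presheaf U (asT A x N (mkSec A x N U n)) hx = n := rfl

attribute [local instance] stalkAlg

/-- If every element of `N` is killed by a power of each `f ∈ 𝔭_x`, the skyscraper module with value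
`N` at `x` is the module associated with its global sections. -/
theorem isIso_fromTildeΓ_sky
    (hN : ∀ f ∈ x.asIdeal, ∀ n : N, ∃ k : ℕ, toOx RA x (f ^ k) • n = 0) :
    IsIso (Scheme.Modules.fromTildeΓ (R := RA) ((skyFun x).obj N)) := by
  rw [isIso_fromTildeΓ_iff_isLocalizing]
  intro f
  by_cases hx : x ∈ PrimeSpectrum.basicOpen f
  · have hf : f ∉ x.asIdeal := (PrimeSpectrum.mem_basicOpen f x).1 hx
    have hu : IsUnit (toOx RA x f) :=
      IsLocalization.map_units (Groth.Agent.Lib.Helper1.Sky.Ox x) (⟨f, hf⟩ : x.asIdeal.primeCompl)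
    refine IsLocalizedModule.Away.mk_of_addCommGroup ?_ ?_ ?_
    · rw [Module.End.isUnit_iff]
      constructor
      · intro s t hst
        apply secA_ext
        intro hx'
        have h1 := congrArg (fun z => SkyT.ev (Spec RA).presheaf _ (asT A x N z) hx') hst
        simp only [Module.algebraMap_end_apply] at h1
        rw [ev_smul, ev_smul] at h1
        exact hu.smul_left_cancel.1 h1
      · intro t
        obtain ⟨v, hv⟩ := hu
        refine ⟨mkSec A x N _ ((↑v⁻¹ : Groth.Agent.Lib.Helper1.Sky.Ox x) •
          SkyT.ev (Spec RA).presheaf _ (asT A x N t) hx), ?_⟩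
        apply secA_ext
        intro hx'
        simp only [Module.algebraMap_end_apply]
        rw [ev_smul, ev_mkSec, ← hv, smul_smul, Units.mul_inv, one_smul]
    · intro t
      refine ⟨0, mkSec A x N ⊤ (SkyT.ev (Spec RA).presheaf _ (asT A x N t) hx), ?_⟩
      rw [pow_zero, one_smul]
      apply secA_ext
      intro hx'
      rfl
    · intro y hy
      refine ⟨0, ?_⟩
      rw [pow_zero, one_smul]
      apply secA_ext
      intro hx'
      have h1 := congrArg (fun z => SkyT.ev (Spec RA).presheaf _ (asT A x N z) hx) hy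
      exact h1
  · have hf : f ∈ x.asIdeal := by
      by_contra h
      exact hx ((PrimeSpectrum.mem_basicOpen f x).2 h)
    have hsub : ∀ s t : SecA A x N (PrimeSpectrum.basicOpen f), s = t := fun s t =>
      secA_ext A x N (fun hx' => absurd hx' hx)
    refine IsLocalizedModule.Away.mk_of_addCommGroup ?_ ?_ ?_
    · rw [Module.End.isUnit_iff]
      exact ⟨fun s t _ => hsub s t, fun t => ⟨t, hsub _ _⟩⟩
    · intro t
      exact ⟨0, 0, hsub _ _⟩
    · intro y _
      obtain ⟨k, hk⟩ := hN f hf (SkyT.ev (Spec RA).presheaf ⊤ (asT A x N y) trivial)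
      refine ⟨k, ?_⟩
      apply secA_ext
      intro hx'
      rw [ev_smul]
      exact hk

end Spec

end Groth.Agent.LeadMatlis
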