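import Mathlib
import Groth.Agent.Lib.LeadMatlis2

/-!
# `E~` is injective for an injective module `E` local at a prime
-/

universe u

open CategoryTheory Limits AlgebraicGeometry Opposite TopologicalSpace TensorProduct

namespace Groth.Agent.LeadMatlis

open Groth.Agent.Lib.Helper1.Sky Groth.Agent.Lib.Helper1.StalkTensor Groth.Agent.Lib.Helper1.KBC
  Groth.Agent.Lib.Helper1.TQ

variable (A : Type u) [CommRing A] [IsNoetherianRing A] (E : Type u) [AddCommGroup E] [Module A E]
  (𝔭 : Ideal A) [h𝔭 : 𝔭.IsPrime]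

local notation "RA" => CommRingCat.of A

attribute [local instance] stalkAlg

set_option maxHeartbeats 400000 in
/-- Let `E` be an injective module over a Noetherian ring `A` on which the elements outside a
prime `𝔭` act bijectively and such that every element is killed by a power of each element of `𝔭`.
Then `E~` is an injective `O`-module on `Spec A` (it is a skyscraper module at `𝔭`). -/
theorem injective_tilde_of_local
    (ha : ∀ s : A, s ∉ 𝔭 → Function.Bijective (fun e : E => s • e))
    (hb : ∀ f ∈ 𝔭, ∀ e : E, ∃ n : ℕ, f ^ n • e = 0)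
    (hinj : Module.Injective A E) :
    Injective ((tilde.functor RA).obj (ModuleCat.of A E)) := by
  let x : Spec RA := (⟨𝔭, h𝔭⟩ : PrimeSpectrum A)
  let T : Type u := Groth.Agent.Lib.Helper1.Sky.Ox x ⊗[A] E
  let h₀ : E →ₗ[A] T := TensorProduct.mk A (Groth.Agent.Lib.Helper1.Sky.Ox x) E 1
  haveI hloc : IsLocalization x.asIdeal.primeCompl (Groth.Agent.Lib.Helper1.Sky.Ox x) :=
    isLocalization_stalk A x
  haveI loc : IsLocalizedModule x.asIdeal.primeCompl h₀ :=
    (isLocalizedModule_iff_isBaseChange x.asIdeal.primeCompl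
      (Groth.Agent.Lib.Helper1.Sky.Ox x) _).2
      (TensorProduct.isBaseChange A E (Groth.Agent.Lib.Helper1.Sky.Ox x))
  have hTinj : Module.Injective (Groth.Agent.Lib.Helper1.Sky.Ox x) T :=
    Module.injective_of_isLocalizedModule x.asIdeal.primeCompl h₀
  let N : ModuleCat.{u} (Groth.Agent.Lib.Helper1.Sky.Ox x) :=
    ModuleCat.of (Groth.Agent.Lib.Helper1.Sky.Ox x) T
  haveI : Injective N := Module.injective_object_of_injective_module _ T
  -- torsion
  have hN0 : ∀ f ∈ x.asIdeal, ∀ n : T, ∃ k : ℕ, (f ^ k) • n = 0 := by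
    intro f hf n
    induction n using TensorProduct.induction_on with
    | zero => exact ⟨0, smul_zero _⟩
    | tmul u e =>
      obtain ⟨k, hk⟩ := hb f hf e
      refine ⟨k, ?_⟩
      rw [TensorProduct.smul_tmul', TensorProduct.smul_tmul, hk, TensorProduct.tmul_zero]
    | add a b iha ihb =>
      obtain ⟨k₁, h₁⟩ := iha
      obtain ⟨k₂, h₂⟩ := ihb
      refine ⟨k₁ + k₂, ?_⟩
      have ea : (f ^ k₁ * f ^ k₂) • a = 0 := by rw [mul_comm, mul_smul, h₁, smul_zero]
      have eb : (f ^ k₁ * f ^ k₂) • b = 0 := by rw [mul_smul, h₂, smul_zero]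
      rw [smul_add, pow_add, ea, eb, add_zero]
  have hN : ∀ f ∈ x.asIdeal, ∀ n : N, ∃ k : ℕ, toOx RA x (f ^ k) • n = 0 := by
    intro f hf n
    obtain ⟨k, hk⟩ := hN0 f hf n
    refine ⟨k, ?_⟩
    have : toOx RA x (f ^ k) • (n : T) = (f ^ k) • (n : T) :=
      algebraMap_smul (Groth.Agent.Lib.Helper1.Sky.Ox x) (f ^ k) (n : T)
    exact this.trans hk
  haveI hiso : IsIso (Scheme.Modules.fromTildeΓ (R := RA) ((skyFun x).obj N)) :=
    isIso_fromTildeΓ_sky A x N hN
  -- bijectivity of the localization map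
  have hbij : Function.Bijective h₀ := by
    constructor
    · rw [injective_iff_map_eq_zero]
      intro e he
      obtain ⟨s, hs⟩ := (IsLocalizedModule.eq_zero_iff x.asIdeal.primeCompl h₀).1 he
      have h1 : (s : A) • e = (s : A) • (0 : E) := by rw [smul_zero]; exact hs
      exact (ha s s.2).1 h1
    · intro y
      obtain ⟨⟨m, s⟩, hms⟩ := IsLocalizedModule.surj x.asIdeal.primeCompl h₀ y
      obtain ⟨m', hm'⟩ := (ha s s.2).2 m
      refine ⟨m', ?_⟩
      have hu := IsLocalizedModule.map_units h₀ s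
      have hinj' := ((Module.End.isUnit_iff _).1 hu).1
      apply hinj'
      simp only [Module.algebraMap_end_apply]
      have h2 : (s : A) • y = h₀ m := hms
      have hm'' : (s : A) • m' = m := hm'
      rw [h2, ← hm'', map_smul]
  let h₁ : E →ₗ[A] ↑((ModuleCat.restrictScalars (toOx RA x)).obj N) :=
    { toFun := h₀
      map_add' := fun a b => map_add h₀ a b
      map_smul' := fun r e => by
        show h₀ (r • e) = toOx RA x r • h₀ e
        rw [map_smul]
        exact (algebraMap_smul (Groth.Agent.Lib.Helper1.Sky.Ox x) r (h₀ e)).symm }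
  let e₁ : E ≃ₗ[A] ↑((ModuleCat.restrictScalars (toOx RA x)).obj N) :=
    LinearEquiv.ofBijective h₁ hbij
  let e₂ : E ≃ₗ[A] ↑((moduleSpecΓFunctor (R := RA)).obj ((skyFun x).obj N)) :=
    e₁.trans (skyΓLin RA x N).symm
  let i₁ : ModuleCat.of A E ≅ (moduleSpecΓFunctor (R := RA)).obj ((skyFun x).obj N) :=
    e₂.toModuleIso
  let i₂ : (tilde.functor RA).obj (ModuleCat.of A E) ≅ (skyFun x).obj N :=
    (tilde.functor RA).mapIso i₁ ≪≫
      @asIso _ _ _ _ (Scheme.Modules.fromTildeΓ (R := RA) ((skyFun x).obj N)) hiso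
  exact Injective.of_iso i₂.symm (injective_sky x N)

end Groth.Agent.LeadMatlis
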