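import Mathlib

/-!
# Ascending chains of (arbitrary) ideal subsheaves of the structure sheaf of a Noetherian affine
scheme stabilise

An "ideal system" is an increasing sequence of ideal sub-presheaves of `O_U` which are closed under
restriction and satisfy the (sub)sheaf condition.  On an affine locally Noetherian scheme such a
sequence is eventually constant.
-/

universe u

open CategoryTheory AlgebraicGeometry TopologicalSpace Opposite

namespace Groth.Agent.LeadIdealSys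

variable (U : Scheme.{u})

/-- An increasing sequence of subsheaves of ideals of `O_U`, given by their ideals of sections. -/
structure IdealSys where
  /-- the ideal of sections over `V` of the `m`-th subsheaf -/
  I : ℕ → ∀ V : U.Opens, Ideal Γ(U, V)
  mono : ∀ {m m' : ℕ} (_ : m ≤ m') (V : U.Opens), I m V ≤ I m' V
  res_mem : ∀ (m : ℕ) {V V' : U.Opens} (h : V' ≤ V) (s : Γ(U, V)), s ∈ I m V →
    U.presheaf.map (homOfLE h).op s ∈ I m V'
  loc : ∀ (m : ℕ) (V : U.Opens) (s : Γ(U, V)),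
    (∀ z ∈ V, ∃ (V' : U.Opens) (h : V' ≤ V), z ∈ V' ∧ U.presheaf.map (homOfLE h).op s ∈ I m V') →
    s ∈ I m V

variable {U} (𝓘 : IdealSys U)

namespace IdealSys

/-- The stalk of the `m`-th ideal subsheaf at `z`, as an ideal of the local ring. -/
def st (m : ℕ) (z : U) : Ideal (U.presheaf.stalk z) where
  carrier := {x | ∃ (V : U.Opens) (hz : z ∈ V) (s : Γ(U, V)), s ∈ 𝓘.I m V ∧
    U.presheaf.germ V z hz s = x}
  zero_mem' := ⟨⊤, trivial, 0, zero_mem _, map_zero _⟩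
  add_mem' := by
    rintro _ _ ⟨V, hz, s, hs, rfl⟩ ⟨V', hz', s', hs', rfl⟩
    refine ⟨V ⊓ V', ⟨hz, hz'⟩, U.presheaf.map (homOfLE inf_le_left).op s +
      U.presheaf.map (homOfLE inf_le_right).op s',
      add_mem (𝓘.res_mem m _ s hs) (𝓘.res_mem m _ s' hs'), ?_⟩
    rw [map_add, TopCat.Presheaf.germ_res_apply, TopCat.Presheaf.germ_res_apply]
  smul_mem' := by
    rintro c _ ⟨V, hz, s, hs, rfl⟩
    obtain ⟨V', hz', t, rfl⟩ := TopCat.Presheaf.exists_germ_eq U.presheaf c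
    refine ⟨V' ⊓ V, ⟨hz', hz⟩, U.presheaf.map (homOfLE inf_le_left).op t *
      U.presheaf.map (homOfLE inf_le_right).op s,
      Ideal.mul_mem_left _ _ (𝓘.res_mem m _ s hs), ?_⟩
    rw [map_mul, TopCat.Presheaf.germ_res_apply, TopCat.Presheaf.germ_res_apply]
    rfl

theorem mem_st_iff {m : ℕ} {z : U} {x : U.presheaf.stalk z} :
    x ∈ 𝓘.st m z ↔ ∃ (V : U.Opens) (hz : z ∈ V) (s : Γ(U, V)), s ∈ 𝓘.I m V ∧
      U.presheaf.germ V z hz s = x := Iff.rfl

theorem germ_mem_st {m : ℕ} {z : U} {V : U.Opens} (hz : z ∈ V) {s : Γ(U, V)}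
    (hs : s ∈ 𝓘.I m V) : U.presheaf.germ V z hz s ∈ 𝓘.st m z :=
  ⟨V, hz, s, hs, rfl⟩

theorem st_mono {m m' : ℕ} (h : m ≤ m') (z : U) : 𝓘.st m z ≤ 𝓘.st m' z := by
  rintro _ ⟨V, hz, s, hs, rfl⟩
  exact ⟨V, hz, s, 𝓘.mono h V hs, rfl⟩

/-- If a germ of a section lies in the stalk ideal, then the section lies in the ideal on a smaller
neighbourhood. -/
theorem exists_res_mem_of_germ_mem {m : ℕ} {z : U} {V : U.Opens} (hz : z ∈ V) (s : Γ(U, V))
    (h : U.presheaf.germ V z hz s ∈ 𝓘.st m z) :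
    ∃ (V' : U.Opens) (h : V' ≤ V), z ∈ V' ∧ U.presheaf.map (homOfLE h).op s ∈ 𝓘.I m V' := by
  obtain ⟨V₁, hz₁, s₁, hs₁, e⟩ := h
  obtain ⟨W, hzW, i₁, i, e'⟩ := TopCat.Presheaf.germ_eq U.presheaf z hz₁ hz s₁ s e
  refine ⟨W, i.le, hzW, ?_⟩
  have : U.presheaf.map (homOfLE i.le).op s = U.presheaf.map i₁.op s₁ := e'.symm
  rw [this]
  exact 𝓘.res_mem m i₁.le s₁ hs₁

theorem le_of_st_le {m N : ℕ} (V : U.Opens) (h : ∀ z ∈ V, 𝓘.st m z ≤ 𝓘.st N z) :
    𝓘.I m V ≤ 𝓘.I N V := by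
  intro s hs
  refine 𝓘.loc N V s fun z hz => ?_
  exact 𝓘.exists_res_mem_of_germ_mem hz s (h z hz (𝓘.germ_mem_st hz hs))

section Affine

variable [IsAffine U] [IsLocallyNoetherian U]

theorem memTop (z : U) : z ∈ (⊤ : U.Opens) := trivial

/-- The stalk as an algebra over the global sections. -/
noncomputable local instance stalkAlgebra (z : U) : Algebra Γ(U, ⊤) (U.presheaf.stalk z) :=
  U.presheaf.algebra_section_stalk ⟨z, memTop z⟩

theorem algebraMap_stalk_eq (z : U) (a : Γ(U, ⊤)) :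
    algebraMap Γ(U, ⊤) (U.presheaf.stalk z) a = U.presheaf.germ ⊤ z (memTop z) a := rfl

instance isNoetherianRing_top : IsNoetherianRing Γ(U, ⊤) :=
  IsLocallyNoetherian.component_noetherian ⟨⊤, isAffineOpen_top U⟩

/-- Local stabilisation along the specialisations of a point. -/
theorem exists_local_stab (ξ : U) :
    ∃ (W : U.Opens) (n₀ : ℕ), ξ ∈ W ∧ ∀ m, n₀ ≤ m → ∀ z ∈ W, ξ ⤳ z → 𝓘.st m z ≤ 𝓘.st n₀ z := by
  classical
  obtain ⟨n₀, hn₀⟩ := monotone_stabilizes_iff_noetherian.mpr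
    (inferInstance : IsNoetherian (U.presheaf.stalk ξ) (U.presheaf.stalk ξ))
    ⟨fun m => 𝓘.st m ξ, fun m m' h => 𝓘.st_mono h ξ⟩
  let J : Ideal Γ(U, ⊤) := Ideal.comap (algebraMap Γ(U, ⊤) (U.presheaf.stalk ξ)) (𝓘.st n₀ ξ)
  obtain ⟨S, hS⟩ : J.FG := (isNoetherianRing_iff_ideal_fg Γ(U, ⊤)).1 inferInstance J
  have key : ∀ (S' : Finset Γ(U, ⊤)), (∀ a ∈ S', a ∈ J) → ∃ W : U.Opens, ξ ∈ W ∧
      ∀ a ∈ S', U.presheaf.map (homOfLE (le_top : W ≤ ⊤)).op a ∈ 𝓘.I n₀ W := by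
    intro S'
    induction S' using Finset.induction_on with
    | empty => exact fun _ => ⟨⊤, memTop ξ, by simp⟩
    | insert a S' ha ih =>
      intro h
      obtain ⟨W, hξW, hW⟩ := ih fun b hb => h b (Finset.mem_insert_of_mem hb)
      have haJ : U.presheaf.germ ⊤ ξ (memTop ξ) a ∈ 𝓘.st n₀ ξ := h a (Finset.mem_insert_self _ _)
      obtain ⟨W', hW'le, hξW', hW'⟩ := 𝓘.exists_res_mem_of_germ_mem (memTop ξ) a haJ
      refine ⟨W ⊓ W', ⟨hξW, hξW'⟩, fun b hb => ?_⟩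
      rcases Finset.mem_insert.1 hb with rfl | hb
      · have := 𝓘.res_mem n₀ (inf_le_right : W ⊓ W' ≤ W') _ hW'
        rwa [← ConcreteCategory.comp_apply, ← Functor.map_comp] at this
      · have := 𝓘.res_mem n₀ (inf_le_left : W ⊓ W' ≤ W) _ (hW b hb)
        rwa [← ConcreteCategory.comp_apply, ← Functor.map_comp] at this
  obtain ⟨W, hξW, hW⟩ := key S fun a ha => hS ▸ Ideal.subset_span ha
  have hJW : J ≤ Ideal.comap (U.presheaf.map (homOfLE (le_top : W ≤ ⊤)).op).hom (𝓘.I n₀ W) := by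
    rw [← hS, Ideal.span_le]
    exact fun a ha => hW a ha
  refine ⟨W, n₀, hξW, ?_⟩
  rintro m hm z hzW hspec _ ⟨V, hzV, s, hs, rfl⟩
  haveI := (isAffineOpen_top U).isLocalization_stalk ⟨z, memTop z⟩
  obtain ⟨⟨b, h⟩, e⟩ := IsLocalization.surj
    ((isAffineOpen_top U).primeIdealOf ⟨z, memTop z⟩).asIdeal.primeCompl
    (U.presheaf.germ V z hzV s)
  have e1 : U.presheaf.germ V z hzV (s * U.presheaf.map (homOfLE (le_top : V ≤ ⊤)).op h.1) =
      U.presheaf.germ ⊤ z (memTop z) b := by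
    rw [map_mul, TopCat.Presheaf.germ_res_apply]
    exact e
  obtain ⟨V'', hzV'', i1, i2, e2⟩ := TopCat.Presheaf.germ_eq U.presheaf z hzV (memTop z) _ _ e1
  have hξV'' : ξ ∈ V'' := hspec.mem_open V''.isOpen hzV''
  have hbJ : U.presheaf.germ ⊤ ξ (memTop ξ) b ∈ 𝓘.st n₀ ξ := by
    rw [show 𝓘.st n₀ ξ = 𝓘.st m ξ from hn₀ m hm]
    have : U.presheaf.germ ⊤ ξ (memTop ξ) b = U.presheaf.germ V'' ξ hξV'' (U.presheaf.map i2.op b) :=
      (TopCat.Presheaf.germ_res_apply U.presheaf i2 ξ hξV'' b).symm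
    rw [this, ← e2]
    exact 𝓘.germ_mem_st hξV'' (𝓘.res_mem m i1.le _ (Ideal.mul_mem_right _ _ hs))
  have hbz : U.presheaf.germ ⊤ z (memTop z) b ∈ 𝓘.st n₀ z := by
    have := 𝓘.germ_mem_st hzW (hJW hbJ)
    rwa [TopCat.Presheaf.germ_res_apply] at this
  have hu : IsUnit (algebraMap Γ(U, ⊤) (U.presheaf.stalk z) h.1) := IsLocalization.map_units _ h
  have e' : U.presheaf.germ V z hzV s * algebraMap Γ(U, ⊤) (U.presheaf.stalk z) h.1 =
      U.presheaf.germ ⊤ z (memTop z) b := e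
  rw [← e'] at hbz
  exact (Ideal.mul_unit_mem_iff_mem _ hu).1 hbz

/-- The chain is stable (stalkwise) along the closed subset `Z`. -/
def StableOn (Z : Closeds U) : Prop :=
  ∃ N, ∀ m, N ≤ m → ∀ z ∈ Z, 𝓘.st m z ≤ 𝓘.st N z

omit [IsAffine U] [IsLocallyNoetherian U] in
theorem stableOn_bot : 𝓘.StableOn ⊥ := ⟨0, fun _ _ z hz => (Set.notMem_empty z hz).elim⟩

omit [IsAffine U] [IsLocallyNoetherian U] in
theorem stableOn_sup {Z Z' : Closeds U} (h : 𝓘.StableOn Z) (h' : 𝓘.StableOn Z') :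
    𝓘.StableOn (Z ⊔ Z') := by
  obtain ⟨N, hN⟩ := h
  obtain ⟨N', hN'⟩ := h'
  refine ⟨max N N', fun m hm z hz => ?_⟩
  rcases hz with hz | hz
  · exact (hN m (le_trans (le_max_left _ _) hm) z hz).trans (𝓘.st_mono (le_max_left _ _) z)
  · exact (hN' m (le_trans (le_max_right _ _) hm) z hz).trans (𝓘.st_mono (le_max_right _ _) z)

omit [IsAffine U] [IsLocallyNoetherian U] in
theorem stableOn_sSup {S : Set (Closeds U)} (hS : S.Finite) (h : ∀ t ∈ S, 𝓘.StableOn t) :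
    𝓘.StableOn (sSup S) := by
  induction S, hS using Set.Finite.induction_on with
  | empty => simpa using 𝓘.stableOn_bot
  | insert _ _ ih =>
    rw [sSup_insert]
    exact 𝓘.stableOn_sup (h _ (Set.mem_insert _ _))
      (ih fun t ht => h t (Set.mem_insert_of_mem _ ht))

theorem stableOn_of_irreducible (Z : Closeds U) (hZ : IsIrreducible (Z : Set U))
    (ih : ∀ Z' : Closeds U, Z' < Z → 𝓘.StableOn Z') : 𝓘.StableOn Z := by
  obtain ⟨ξ, hξ⟩ := QuasiSober.sober hZ Z.isClosed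
  obtain ⟨W, n₀, hξW, hW⟩ := 𝓘.exists_local_stab ξ
  let Z' : Closeds U := Z ⊓ ⟨(W : Set U)ᶜ, W.isOpen.isClosed_compl⟩
  have hξZ : ξ ∈ Z := hξ.mem
  have hlt : Z' < Z := by
    refine lt_of_le_of_ne inf_le_left fun e => ?_
    have : ξ ∈ Z' := e ▸ hξZ
    exact this.2 hξW
  obtain ⟨N', hN'⟩ := ih Z' hlt
  refine ⟨max N' n₀, fun m hm z hz => ?_⟩
  by_cases hzW : z ∈ W
  · exact (hW m (le_trans (le_max_right _ _) hm) z hzW (hξ.specializes hz)).trans
      (𝓘.st_mono (le_max_right _ _) z)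
  · exact (hN' m (le_trans (le_max_left _ _) hm) z ⟨hz, hzW⟩).trans
      (𝓘.st_mono (le_max_left _ _) z)

theorem stableOn (Z : Closeds U) : 𝓘.StableOn Z := by
  haveI : IsNoetherian U := {}
  induction Z using WellFoundedLT.induction with
  | ind Z ih =>
    obtain ⟨S, hSf, hS, hZ⟩ := NoetherianSpace.exists_finite_set_closeds_irreducible Z
    rw [hZ]
    refine 𝓘.stableOn_sSup hSf fun t ht => ?_
    have hle : t ≤ Z := hZ ▸ le_sSup ht
    rcases hle.lt_or_eq with hlt | rfl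
    · exact ih t hlt
    · exact 𝓘.stableOn_of_irreducible t (hS t ht) ih

/-- **Main theorem**: an increasing sequence of ideal subsheaves of the structure sheaf of an affine
locally Noetherian scheme is eventually constant. -/
theorem stabilizes : ∃ N, ∀ m, N ≤ m → ∀ V : U.Opens, 𝓘.I m V ≤ 𝓘.I N V := by
  obtain ⟨N, hN⟩ := 𝓘.stableOn ⊤
  exact ⟨N, fun m hm V => 𝓘.le_of_st_le V fun z _ => hN m hm z trivial⟩

end Affine

end IdealSys

end Groth.Agent.LeadIdealSys
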