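import Mathlib
import Groth.Prelude.Def_Coh
import Groth.Agent.Lib.LeadIdealSys
import Groth.Agent.Lib.Helper23GenLocus
import Groth.Agent.Lib.Helper23Serre
import Groth.Agent.Lib.Helper20StalkExact

/-!
# The structure sheaf of an affine locally Noetherian scheme is a Noetherian object of the category
of all `O`-modules
-/

universe u

open CategoryTheory Limits AlgebraicGeometry TopologicalSpace Opposite

namespace Groth.Agent.LeadNoethUnit

open Groth.Agent.LeadIdealSys Groth.Agent.Lib.Helper23.GenLocus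

variable {U : Scheme.{u}}

/-- local membership of a function in (the image of) a subobject of the structure module -/
def LocMem (S : Subobject (Coh.structureModule U)) (V : U.Opens) (s : Γ(U, V)) : Prop :=
  ∀ z ∈ V, ∃ (V' : U.Opens) (h : V' ≤ V), z ∈ V' ∧ ∃ t : Γ((S : U.Modules), V'),
    S.arrow.app V' t = toS V' (U.presheaf.map (homOfLE h).op s)

theorem arrow_res_eq (S : Subobject (Coh.structureModule U)) {V V₁ V₂ : U.Opens} (h₁ : V₁ ≤ V)
    (h₂ : V₂ ≤ V₁) (s : Γ(U, V)) (t : Γ((S : U.Modules), V₁))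
    (ht : S.arrow.app V₁ t = toS V₁ (U.presheaf.map (homOfLE h₁).op s)) :
    S.arrow.app V₂ ((S : U.Modules).presheaf.map (homOfLE h₂).op t) =
      toS V₂ (U.presheaf.map (homOfLE (h₂.trans h₁)).op s) := by
  have nat := ConcreteCategory.congr_hom
    (S.arrow.mapPresheaf.naturality (homOfLE h₂).op) t
  simp only [ConcreteCategory.comp_apply] at nat
  refine nat.trans ?_
  change (Coh.structureModule U).presheaf.map _ (S.arrow.app V₁ t) = _
  rw [ht, map_toS]
  congr 1
  rw [← ConcreteCategory.comp_apply, ← Functor.map_comp]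
  rfl

theorem toS_add (V : U.Opens) (a b : Γ(U, V)) : toS V (a + b) = toS V a + toS V b := rfl

theorem toS_injective (V : U.Opens) : Function.Injective (toS (Y := U) V) := fun _ _ h => h

theorem locMem_res (S : Subobject (Coh.structureModule U)) {V V' : U.Opens} (h : V' ≤ V)
    (s : Γ(U, V)) (hs : LocMem S V s) : LocMem S V' (U.presheaf.map (homOfLE h).op s) := by
  intro z hz
  obtain ⟨V₁, h₁, hz₁, t, ht⟩ := hs z (h hz)
  refine ⟨V₁ ⊓ V', inf_le_right, ⟨hz₁, hz⟩,
    (S : U.Modules).presheaf.map (homOfLE (inf_le_left : V₁ ⊓ V' ≤ V₁)).op t, ?_⟩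
  rw [arrow_res_eq S h₁ inf_le_left s t ht]
  congr 1
  rw [← ConcreteCategory.comp_apply, ← Functor.map_comp]
  rfl

/-- The ideal of functions locally in the subobject. -/
def ideal (S : Subobject (Coh.structureModule U)) (V : U.Opens) : Ideal Γ(U, V) where
  carrier := {s | LocMem S V s}
  zero_mem' := fun z hz => ⟨V, le_rfl, hz, 0, by simp [toS]; rfl⟩
  add_mem' := by
    intro s s' hs hs' z hz
    obtain ⟨V₁, h₁, hz₁, t, ht⟩ := hs z hz
    obtain ⟨V₂, h₂, hz₂, t', ht'⟩ := hs' z hz
    refine ⟨V₁ ⊓ V₂, inf_le_left.trans h₁, ⟨hz₁, hz₂⟩,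
      (S : U.Modules).presheaf.map (homOfLE (inf_le_left : V₁ ⊓ V₂ ≤ V₁)).op t +
      (S : U.Modules).presheaf.map (homOfLE (inf_le_right : V₁ ⊓ V₂ ≤ V₂)).op t', ?_⟩
    rw [map_add, arrow_res_eq S h₁ inf_le_left s t ht, arrow_res_eq S h₂ inf_le_right s' t' ht',
      map_add, toS_add]
  smul_mem' := by
    intro r s hs z hz
    obtain ⟨V₁, h₁, hz₁, t, ht⟩ := hs z hz
    refine ⟨V₁, h₁, hz₁, (U.presheaf.map (homOfLE h₁).op r) • t, ?_⟩
    rw [Scheme.Modules.Hom.app_smul, ht, smul_toS]
    congr 1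
    simp

theorem mem_ideal_iff (S : Subobject (Coh.structureModule U)) (V : U.Opens) (s : Γ(U, V)) :
    s ∈ ideal S V ↔ LocMem S V s := Iff.rfl

theorem ideal_mono {S S' : Subobject (Coh.structureModule U)} (h : S ≤ S') (V : U.Opens) :
    ideal S V ≤ ideal S' V := by
  intro s hs z hz
  obtain ⟨V₁, h₁, hz₁, t, ht⟩ := hs z hz
  refine ⟨V₁, h₁, hz₁, (Subobject.ofLE S S' h).app V₁ t, ?_⟩
  rw [← ht, ← ConcreteCategory.comp_apply, ← Scheme.Modules.Hom.comp_app, Subobject.ofLE_arrow]

/-- The ideal system of a chain of subobjects of the structure module. -/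
noncomputable def idealSys (c : ℕ →o Subobject (Coh.structureModule U)) : IdealSys U where
  I m V := ideal (c m) V
  mono h V := ideal_mono (c.monotone h) V
  res_mem m _ _ h s hs := locMem_res (c m) h s hs
  loc m V s hs := by
    intro z hz
    obtain ⟨V', h, hz', hs'⟩ := hs z hz
    obtain ⟨V₁, h₁, hz₁, t, ht⟩ := hs' z hz'
    refine ⟨V₁, h₁.trans h, hz₁, t, ?_⟩
    rw [ht]
    congr 1
    rw [← ConcreteCategory.comp_apply, ← Functor.map_comp]
    rfl

/-- The image of a section of a subobject lies in its ideal. -/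
theorem arrow_mem_ideal (S : Subobject (Coh.structureModule U)) (V : U.Opens)
    (t : Γ((S : U.Modules), V)) : ofS V (S.arrow.app V t) ∈ ideal S V := by
  intro z hz
  refine ⟨V, le_rfl, hz, t, ?_⟩
  have : U.presheaf.map (homOfLE (le_refl V)).op = 𝟙 _ := U.presheaf.map_id _
  rw [this]
  rfl

/-- **The structure module of an affine locally Noetherian scheme is a Noetherian object.** -/
theorem unit_acc [IsAffine U] [IsLocallyNoetherian U]
    (c : ℕ →o Subobject (Coh.structureModule U)) : ∃ N, ∀ m, N ≤ m → c N = c m := by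
  obtain ⟨N, hN⟩ := (idealSys c).stabilizes
  refine ⟨N, fun m hm => ?_⟩
  have hle : c N ≤ c m := c.monotone hm
  let i := Subobject.ofLE (c N) (c m) hle
  haveI : Mono i := inferInstance
  haveI : Epi i := by
    apply Groth.Agent.Lib.Helper23.Serre.epi_of_locally_surjective
    intro V t x hx
    have h1 : ofS V ((c m).arrow.app V t) ∈ ideal (c N) V := hN m hm V (arrow_mem_ideal (c m) V t)
    obtain ⟨V', h, hx', t', ht'⟩ := h1 x hx
    refine ⟨V', h, hx', t', ?_⟩
    apply Groth.Agent.Lib.Helper20.StalkExact.injective_app_of_mono (c m).arrow V'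
    rw [← ConcreteCategory.comp_apply, ← Scheme.Modules.Hom.comp_app, Subobject.ofLE_arrow, ht']
    have nat := ConcreteCategory.congr_hom
      ((c m).arrow.mapPresheaf.naturality (homOfLE h).op) t
    simp only [ConcreteCategory.comp_apply] at nat
    exact (nat.trans rfl).symm
  haveI : IsIso i := isIso_of_mono_of_epi i
  refine le_antisymm hle (Subobject.le_of_comm (inv i) ?_)
  rw [IsIso.inv_comp_eq, Subobject.ofLE_arrow]

end Groth.Agent.LeadNoethUnit
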