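import Mathlib
import Groth.Prelude.Def_CxOX
import Groth.Agent.Lib.LeadNoethUnit
import Groth.Agent.Lib.LeadExtZero3

/-!
# `j_! O_U` is a Noetherian object for `U` affine and `X` locally Noetherian
-/

universe u

open CategoryTheory Limits AlgebraicGeometry TopologicalSpace Opposite

namespace Groth.Agent.LeadNoethUnit

open Groth.Agent.LeadExtZero

variable {U X : Scheme.{u}} (j : U ⟶ X) [IsOpenImmersion j]

/-- The subobject of `O_U` obtained by restricting a subobject of `j_! O_U`. -/
noncomputable def restrictSub (S : Subobject (CxOX.extZeroUnit j)) :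
    Subobject (Coh.structureModule U) :=
  Subobject.mk ((Scheme.Modules.restrictFunctor j).map S.arrow ≫
    inv ((CxOX.extZeroAdj j).unit.app (Coh.structureModule U)))

theorem restrictSub_mono {S S' : Subobject (CxOX.extZeroUnit j)} (h : S ≤ S') :
    restrictSub j S ≤ restrictSub j S' := by
  refine Subobject.mk_le_mk_of_comm ((Scheme.Modules.restrictFunctor j).map (Subobject.ofLE S S' h)) ?_
  rw [← Category.assoc, ← Functor.map_comp, Subobject.ofLE_arrow]

theorem eq_of_restrictSub_eq {S S' : Subobject (CxOX.extZeroUnit j)} (h : S ≤ S')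
    (e : restrictSub j S = restrictSub j S') : S = S' := by
  let i := Subobject.ofLE S S' h
  have fac : (Scheme.Modules.restrictFunctor j).map i ≫
      ((Scheme.Modules.restrictFunctor j).map S'.arrow ≫
        inv ((CxOX.extZeroAdj j).unit.app (Coh.structureModule U))) =
      (Scheme.Modules.restrictFunctor j).map S.arrow ≫
        inv ((CxOX.extZeroAdj j).unit.app (Coh.structureModule U)) := by
    rw [← Category.assoc, ← Functor.map_comp, Subobject.ofLE_arrow]
  haveI : IsIso ((Scheme.Modules.restrictFunctor j).map i) := by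
    by_contra hni
    exact (Subobject.mk_lt_mk_of_comm _ fac hni).ne e
  haveI : IsIso i := isIso_of_isIso_restrict j S.arrow S'.arrow i
  refine le_antisymm h (Subobject.le_of_comm (inv i) ?_)
  rw [IsIso.inv_comp_eq, Subobject.ofLE_arrow]

/-- **`j_! O_U` is a Noetherian object** when `U` is affine and `X` is locally Noetherian. -/
theorem extZeroUnit_acc [IsLocallyNoetherian X] [IsAffine U]
    (c : ℕ →o Subobject (CxOX.extZeroUnit j)) : ∃ n : ℕ, ∀ m : ℕ, n ≤ m → c n = c m := by
  haveI : IsLocallyNoetherian U := isLocallyNoetherian_of_isOpenImmersion j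
  obtain ⟨N, hN⟩ := unit_acc (U := U)
    ⟨fun n => restrictSub j (c n), fun n m h => restrictSub_mono j (c.monotone h)⟩
  exact ⟨N, fun m hm => eq_of_restrictSub_eq j (c.monotone hm) (hN m hm)⟩

end Groth.Agent.LeadNoethUnit
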