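import Mathlib
import Groth.Prelude.Def_CxOX
import Groth.Agent.Lib.LeadNoethUnit2
import Groth.Agent.Lib.LeadExtZero5
import Groth.Agent.Lib.Helper21CoprodSec2
import Groth.Agent.Lib.Helper17GrSysCoh

/-!
# Direct sums of injective `O_X`-modules on a locally Noetherian scheme are injective
-/

universe u

open CategoryTheory Limits AlgebraicGeometry TopologicalSpace Opposite

namespace Groth.Agent.LeadSumInj

open Groth.Agent.Lib.Helper21.CoprodSec

variable {X : Scheme.{u}} {ι : Type u} (I : ι → X.Modules)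

/-- projection onto the summands indexed by `T` -/
noncomputable def pr (T : Finset ι) : (∐ I) ⟶ (∐ I) := prT (R := X.ringCatSheaf) I T

open Classical in
theorem pr_eq (T : Finset ι) : pr I T = ∑ i ∈ T, Sigma.π I i ≫ Sigma.ι I i := rfl

theorem ι_pr (T : Finset ι) (j : ι) (hj : j ∈ T) : Sigma.ι I j ≫ pr I T = Sigma.ι I j :=
  ι_prT (R := X.ringCatSheaf) I T j hj

theorem pr_pr {T T' : Finset ι} (h : T ⊆ T') : pr I T ≫ pr I T' = pr I T := by
  classical
  rw [pr_eq I T, Preadditive.sum_comp]
  refine Finset.sum_congr rfl fun i hi => ?_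
  rw [Category.assoc, ι_pr I T' i (h hi)]

/-- every section of `∐ I` is locally fixed by some `pr I T` -/
theorem locally_fixed (V : X.Opens) (s : Γ(∐ I, V)) (x : X) (hx : x ∈ V) :
    ∃ (V' : X.Opens) (h : V' ≤ V), x ∈ V' ∧ ∃ T : Finset ι, ∀ T' : Finset ι, T ⊆ T' →
      (pr I T').app V' ((∐ I).presheaf.map (homOfLE h).op s) =
        (∐ I).presheaf.map (homOfLE h).op s := by
  obtain ⟨S, hS, h⟩ := locally_finite_sum (R := X.ringCatSheaf) I V s
  obtain ⟨V', g, hg, hxV'⟩ := hS x hx
  obtain ⟨t, z, hz⟩ := h V' g hg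
  refine ⟨V', g.le, hxV', t, fun T' hT' => ?_⟩
  have hz' : (∐ I).presheaf.map (homOfLE g.le).op s =
      ∑ i ∈ t, (Sigma.ι I i).app V' (z i) := hz
  rw [hz', map_sum]
  refine Finset.sum_congr rfl fun i hi => ?_
  rw [← ConcreteCategory.comp_apply, ← Scheme.Modules.Hom.comp_app, ι_pr I T' i (hT' hi)]

/-- the part of `φ` outside of the summands indexed by `T` -/
noncomputable def out {A : X.Modules} (φ : A ⟶ ∐ I) (T : Finset ι) : A ⟶ ∐ I :=
  φ ≫ (𝟙 _ - pr I T)

theorem out_out {A : X.Modules} (φ : A ⟶ ∐ I) {T T' : Finset ι} (h : T ⊆ T') :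
    out I φ T ≫ (𝟙 _ - pr I T') = out I φ T' := by
  unfold out
  rw [Category.assoc]
  congr 1
  rw [Preadditive.sub_comp, Preadditive.comp_sub, Preadditive.comp_sub, Category.id_comp,
    Category.comp_id, pr_pr I h]
  abel

/-- the kernel of `out I φ T` as a subobject -/
noncomputable def K {A : X.Modules} (φ : A ⟶ ∐ I) (T : Finset ι) : Subobject A :=
  Subobject.mk (kernel.ι (out I φ T))

theorem K_mono {A : X.Modules} (φ : A ⟶ ∐ I) {T T' : Finset ι} (h : T ⊆ T') :
    K I φ T ≤ K I φ T' := by
  refine Subobject.mk_le_mk_of_comm (kernel.lift _ (kernel.ι (out I φ T)) ?_) (kernel.lift_ι _ _ _)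
  rw [← out_out I φ h, ← Category.assoc, kernel.condition, zero_comp]

theorem kernel_ι_comp_of_K_le {A : X.Modules} (φ : A ⟶ ∐ I) {T T' : Finset ι}
    (h : K I φ T' ≤ K I φ T) : kernel.ι (out I φ T') ≫ out I φ T = 0 := by
  have := Subobject.ofMkLEMk_comp (f := kernel.ι (out I φ T')) (g := kernel.ι (out I φ T)) h
  rw [← this, Category.assoc, kernel.condition, comp_zero]

/-- A morphism from a Noetherian object to a direct sum factors through a finite subsum. -/
theorem exists_finset_factor {A : X.Modules} [IsNoetherianObject A] (φ : A ⟶ ∐ I) :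
    ∃ T : Finset ι, φ ≫ pr I T = φ := by
  classical
  obtain ⟨_, ⟨T₀, rfl⟩, hmax⟩ := (wellFounded_gt (α := Subobject A)).has_min
    (Set.range (K I φ)) ⟨_, ⟨∅, rfl⟩⟩
  have hK : ∀ T, T₀ ⊆ T → K I φ T ≤ K I φ T₀ := fun T hT => by
    rcases (K_mono I φ hT).lt_or_eq with h' | h'
    · exact absurd h' (hmax _ ⟨T, rfl⟩)
    · exact h'.ge
  refine ⟨T₀, ?_⟩
  suffices hv : out I φ T₀ = 0 by
    unfold out at hv
    rw [Preadditive.comp_sub, Category.comp_id, sub_eq_zero] at hv
    exact hv.symm
  apply Scheme.Modules.hom_ext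
  intro V
  ext t
  refine TopCat.Sheaf.eq_of_locally_eq' ⟨(∐ I).presheaf, (∐ I).isSheaf⟩
    (fun x : V => (Classical.choose (locally_fixed I V (φ.app V t) x.1 x.2))) V
    (fun x => homOfLE (Classical.choose (Classical.choose_spec
      (locally_fixed I V (φ.app V t) x.1 x.2)))) ?_ _ _ (fun x => ?_)
  · intro y hy
    exact Opens.mem_iSup.mpr ⟨⟨y, hy⟩, (Classical.choose_spec (Classical.choose_spec
      (locally_fixed I V (φ.app V t) y hy))).1⟩
  · obtain ⟨hx', T₁, hT₁⟩ := Classical.choose_spec (Classical.choose_spec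
      (locally_fixed I V (φ.app V t) x.1 x.2))
    set V' := Classical.choose (locally_fixed I V (φ.app V t) x.1 x.2)
    set hle := Classical.choose (Classical.choose_spec (locally_fixed I V (φ.app V t) x.1 x.2))
    let T := T₀ ∪ T₁
    let t' := A.presheaf.map (homOfLE hle).op t
    have hφt' : φ.app V' t' = (∐ I).presheaf.map (homOfLE hle).op (φ.app V t) := by
      have nat := ConcreteCategory.congr_hom (φ.mapPresheaf.naturality (homOfLE hle).op) t
      simp only [ConcreteCategory.comp_apply] at nat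
      exact nat
    have h0 : (out I φ T).app V' t' = 0 := by
      unfold out
      rw [Scheme.Modules.Hom.comp_app, ConcreteCategory.comp_apply, Scheme.Modules.Hom.sub_app,
        hφt']
      change (𝟙 (∐ I) : _ ⟶ _).app V' _ - (pr I T).app V' _ = 0
      rw [hT₁ T Finset.subset_union_right]
      exact sub_self _
    obtain ⟨r, hr⟩ := Groth.Agent.Lib.Helper17.GrSysCoh.exists_app_kernel_ι (out I φ T) V' t' h0
    have h1 : (out I φ T₀).app V' t' = 0 := by
      rw [← hr, ← ConcreteCategory.comp_apply, ← Scheme.Modules.Hom.comp_app,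
        kernel_ι_comp_of_K_le I φ (hK T Finset.subset_union_left)]
      rfl
    have nat := ConcreteCategory.congr_hom
      ((out I φ T₀).mapPresheaf.naturality (homOfLE hle).op) t
    simp only [ConcreteCategory.comp_apply] at nat
    refine nat.symm.trans (h1.trans ?_)
    exact (map_zero _).symm

/-- `j_! O_W` is a Noetherian object for `W` an affine open of a locally Noetherian scheme. -/
theorem isNoetherianObject_extZeroUnit [IsLocallyNoetherian X] (W : X.Opens) (hW : IsAffineOpen W) :
    IsNoetherianObject (CxOX.extZeroUnit W.ι) := by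
  haveI : IsAffine (W : Scheme.{u}) := hW
  rw [isNoetherianObject_iff_monotone_chain_condition]
  exact fun c => Groth.Agent.LeadNoethUnit.extZeroUnit_acc W.ι c

/-- **Direct sums of injective `O_X`-modules on a locally Noetherian scheme are injective.** -/
theorem injective_coprod [IsLocallyNoetherian X] (hI : ∀ j, Injective (I j)) : Injective (∐ I) := by
  classical
  refine Groth.Agent.LeadExtZero.injective_of_lifting_extZeroUnit (X.affineOpens)
    X.isBasis_affineOpens (∐ I) ?_
  intro W hW A a _ φ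
  haveI := isNoetherianObject_extZeroUnit W hW
  haveI : IsNoetherianObject A := isNoetherianObject_of_mono a
  obtain ⟨T, hT⟩ := exists_finset_factor I φ
  haveI := hI
  refine ⟨∑ i ∈ T, Injective.factorThru (φ ≫ Sigma.π I i) a ≫ Sigma.ι I i, ?_⟩
  rw [Preadditive.comp_sum]
  conv_rhs => rw [← hT, pr_eq I T, Preadditive.comp_sum]
  refine Finset.sum_congr rfl fun i _ => ?_
  rw [← Category.assoc, Injective.comp_factorThru, Category.assoc]

end Groth.Agent.LeadSumInj
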