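import Mathlib
import Groth.Agent.Lib.LeadMatlis1
import Groth.Agent.Lib.LeadMatlis3
import Groth.Agent.Lib.LeadSumInj
import Groth.Agent.S0307

/-!
# `M~` is an injective `O`-module on `Spec A` for an injective module `M` over a Noetherian ring `A`
-/

universe u

open CategoryTheory Limits AlgebraicGeometry Opposite TopologicalSpace

namespace Groth.Agent.LeadMatlis

variable (A : Type u) [CommRing A] [IsNoetherianRing A]

local notation "RA" => CommRingCat.of A

/-- `E~` is injective for an indecomposable injective module `E`. -/
theorem injective_tilde_of_indecomposable (E : Type u) [AddCommGroup E] [Module A E]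
    (hE : InjHull.IsIndecomposable A E) (hinj : Module.Injective A E) :
    Injective ((tilde.functor RA).obj (ModuleCat.of A E)) := by
  obtain ⟨𝔭, hp, ha, hb⟩ := exists_prime_of_indecomposable_injective hE hinj
  exact injective_tilde_of_local A E 𝔭 ha hb hinj

instance : IsLocallyNoetherian (Spec RA) := by
  haveI : IsNoetherianRing ↑RA := ‹IsNoetherianRing A›
  infer_instance

/-- **`M~` is an injective `O`-module for an injective module `M` over a Noetherian ring.** -/
theorem injective_tilde (M : Type u) [AddCommGroup M] [Module A M] (hM : Module.Injective A M) :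
    Injective ((tilde.functor RA).obj (ModuleCat.of A M)) := by
  classical
  obtain ⟨ι, E, hint, hE⟩ := Groth.Agent.S0307.result A M hM
  let Z : ι → ModuleCat.{u} A := fun i => ModuleCat.of A (E i)
  let e : (DirectSum ι fun i => E i) ≃ₗ[A] M :=
    LinearEquiv.ofBijective (DirectSum.coeLinearMap E) hint
  let i₁ : (∐ Z) ≅ ModuleCat.of A M := ModuleCat.coprodIsoDirectSum Z ≪≫ e.toModuleIso
  haveI : PreservesColimitsOfSize.{u, u} (tilde.functor RA) :=
    (tilde.adjunction (R := RA)).leftAdjoint_preservesColimits
  let i₂ : (tilde.functor RA).obj (∐ Z) ≅ ∐ fun i => (tilde.functor RA).obj (Z i) :=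
    PreservesCoproduct.iso (tilde.functor RA) Z
  have h : Injective (∐ fun i => (tilde.functor RA).obj (Z i)) :=
    Groth.Agent.LeadSumInj.injective_coprod _
      (fun i => injective_tilde_of_indecomposable A (E i) (hE i).1 (hE i).2)
  exact Injective.of_iso (i₂.symm ≪≫ (tilde.functor RA).mapIso i₁) h

end Groth.Agent.LeadMatlis
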