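import Mathlib

/-!
# A Baer-type criterion for injectivity over a localization of a Noetherian ring
-/

universe u

namespace Groth.Agent.LeadStalkInj

open scoped BigOperators

variable {A R : Type u} [CommRing A] [CommRing R] [Algebra A R] (𝔭 : Ideal A) [𝔭.IsPrime]
  [IsLocalization.AtPrime R 𝔭] [IsNoetherianRing A] (Q : Type u) [AddCommGroup Q] [Module R Q]

include 𝔭 in

/-- Let `R = A_𝔭` with `A` Noetherian and let `Q` be an `R`-module.  Suppose that for every finite
family `α_k` of elements of `A` and every family `q_k` of elements of `Q` satisfying all the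
`A`-linear relations of the `α_k`, there is `m ∈ Q` with `α_k • m = q_k`.  Then `Q` is injective. -/
theorem injective_of_local_extension
    (H : ∀ (n : ℕ) (α : Fin n → A) (q : Fin n → Q),
      (∀ c : Fin n → A, ∑ k, c k * α k = 0 → ∑ k, algebraMap A R (c k) • q k = 0) →
      ∃ m : Q, ∀ k, algebraMap A R (α k) • m = q k) :
    Module.Injective R Q := by
  apply Module.Baer.injective
  intro 𝔞 g
  let 𝔟 : Ideal A := 𝔞.comap (algebraMap A R)
  obtain ⟨n, α, hα⟩ := Submodule.fg_iff_exists_fin_generating_family.1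
    (IsNoetherian.noetherian 𝔟)
  have hαmem : ∀ k, algebraMap A R (α k) ∈ 𝔞 := fun k => by
    have : α k ∈ 𝔟 := by rw [← hα]; exact Submodule.subset_span ⟨k, rfl⟩
    exact this
  have key : ∀ c : Fin n → A, ∀ (hmem : algebraMap A R (∑ k, c k * α k) ∈ 𝔞),
      g ⟨algebraMap A R (∑ k, c k * α k), hmem⟩ =
        ∑ k, algebraMap A R (c k) • g ⟨algebraMap A R (α k), hαmem k⟩ := by
    intro c hmem
    have : (⟨algebraMap A R (∑ k, c k * α k), hmem⟩ : 𝔞) =
        ∑ k, algebraMap A R (c k) • (⟨algebraMap A R (α k), hαmem k⟩ : 𝔞) := by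
      apply Subtype.ext
      simp [map_sum, map_mul, Algebra.smul_def]
    rw [this, map_sum]
    simp only [map_smul]
  obtain ⟨m, hm⟩ := H n α (fun k => g ⟨algebraMap A R (α k), hαmem k⟩) (by
    intro c hc
    have h0 : algebraMap A R (∑ k, c k * α k) ∈ 𝔞 := by rw [hc, map_zero]; exact 𝔞.zero_mem
    rw [← key c h0]
    have : (⟨algebraMap A R (∑ k, c k * α k), h0⟩ : 𝔞) = 0 := by
      apply Subtype.ext
      simp [hc]
    rw [this, map_zero])
  refine ⟨LinearMap.toSpanSingleton R Q m, ?_⟩
  intro a ha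
  obtain ⟨⟨b, s⟩, hbs⟩ := IsLocalization.surj 𝔭.primeCompl a
  have hbs' : a * algebraMap A R (s : A) = algebraMap A R b := hbs
  have hb : b ∈ 𝔟 := by
    show algebraMap A R b ∈ 𝔞
    rw [← hbs']
    exact 𝔞.mul_mem_right _ ha
  obtain ⟨c, hc⟩ : ∃ c : Fin n → A, ∑ k, c k * α k = b := by
    have : b ∈ Submodule.span A (Set.range α) := by rw [hα]; exact hb
    obtain ⟨c, hc⟩ := (Submodule.mem_span_range_iff_exists_fun A).1 this
    exact ⟨c, by simpa [smul_eq_mul] using hc⟩
  have hsu : IsUnit (algebraMap A R (s : A)) := IsLocalization.map_units R s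
  have hmem : algebraMap A R (∑ k, c k * α k) ∈ 𝔞 := by rw [hc]; exact hb
  have e1 := key c hmem
  have e2 : (⟨algebraMap A R (∑ k, c k * α k), hmem⟩ : 𝔞) =
      algebraMap A R (s : A) • (⟨a, ha⟩ : 𝔞) := by
    apply Subtype.ext
    show algebraMap A R (∑ k, c k * α k) = algebraMap A R (s : A) * a
    rw [hc, ← hbs', mul_comm]
  rw [e2, map_smul] at e1
  have e3 : ∑ k, algebraMap A R (c k) • g ⟨algebraMap A R (α k), hαmem k⟩ =
      algebraMap A R (s : A) • (a • m) := by
    have : ∀ k, algebraMap A R (c k) • g ⟨algebraMap A R (α k), hαmem k⟩ =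
        (algebraMap A R (c k * α k)) • m := by
      intro k
      rw [← hm k, map_mul, mul_smul]
    simp only [this]
    rw [← Finset.sum_smul, ← map_sum, hc, ← hbs', mul_comm, mul_smul]
  rw [e3] at e1
  have := hsu.smul_left_cancel.1 e1
  simpa [LinearMap.toSpanSingleton_apply] using this.symm
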