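import Mathlib
import Groth.Prelude.Def_CxOX
import Groth.Agent.Lib.LeadExtZero5
import Groth.Agent.Lib.Helper1KoszulPerf

/-!
# Sections of an injective `O_X`-module over an affine open form an injective module
-/

universe u

open CategoryTheory Limits AlgebraicGeometry Opposite TopologicalSpace

namespace Groth.Agent.LeadStalkInj

variable {X : Scheme.{u}}

/-- Global sections of an injective module on `Spec R` form an injective `R`-module. -/
theorem injective_Γ_spec (R : CommRingCat.{u}) (J : (Spec R).Modules) [Injective J] :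
    Injective ((moduleSpecΓFunctor (R := R)).obj J) := by
  haveI := Groth.Agent.Lib.Helper1.KoszulPerf.preservesMonomorphisms_tilde R
  exact Injective.injective_of_adjoint (tilde.adjunction (R := R)) J

theorem injective_congr_open (I : X.Modules) {U V : X.Opens} (h : U = V)
    (hU : Module.Injective ↑(X.presheaf.obj (op U)) ↑(I.val.obj (op U))) :
    Module.Injective ↑(X.presheaf.obj (op V)) ↑(I.val.obj (op V)) := by
  subst h
  exact hU

attribute [local instance] RingHomInvPair.of_ringEquiv in
/-- Sections of an injective `O_X`-module over an affine open `W` form an injective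
`Γ(X, W)`-module. -/
theorem injective_sections_of_isAffineOpen {W : X.Opens} (hW : IsAffineOpen W) (I : X.Modules)
    [Injective I] : Module.Injective ↑(X.presheaf.obj (op W)) ↑(I.val.obj (op W)) := by
  let j := hW.fromSpec
  haveI : Injective ((Scheme.Modules.restrictFunctor j).obj I) :=
    Groth.Agent.LeadExtZero.injective_restrict j I
  have h1 := injective_Γ_spec Γ(X, W) ((Scheme.Modules.restrictFunctor j).obj I)
  have h2 : Module.Injective ↑Γ(X, W)
      ↑((moduleSpecΓFunctor (R := Γ(X, W))).obj ((Scheme.Modules.restrictFunctor j).obj I)) :=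
    Module.injective_module_of_injective_object _ _
  let e₁ : ↑Γ(X, W) ≃+* ↑Γ(X, j ''ᵁ ⊤) :=
    ((Scheme.ΓSpecIso Γ(X, W)).symm ≪≫ (j.appIso ⊤).symm).commRingCatIsoToRingEquiv
  let e₂ : ↑((moduleSpecΓFunctor (R := Γ(X, W))).obj ((Scheme.Modules.restrictFunctor j).obj I))
      ≃ₛₗ[RingHomClass.toRingHom e₁] ↑(I.val.obj (op (j ''ᵁ ⊤))) :=
    { toFun := fun s => s
      invFun := fun s => s
      map_add' := fun _ _ => rfl
      map_smul' := fun _ _ => rfl
      left_inv := fun _ => rfl
      right_inv := fun _ => rfl }
  have h3 : Module.Injective ↑(X.presheaf.obj (op (j ''ᵁ ⊤))) ↑(I.val.obj (op (j ''ᵁ ⊤))) :=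
    Module.Injective.of_ringEquiv e₁ e₂
  exact injective_congr_open I ((Scheme.Hom.image_top_eq_opensRange _).trans hW.opensRange_fromSpec) h3

end Groth.Agent.LeadStalkInj
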