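import Mathlib
import Groth.Agent.Lib.LeadStalkInj1
import Groth.Agent.Lib.LeadStalkInj2
import Groth.Agent.Lib.Helper14FlatInjB
import Groth.Agent.Lib.Helper1StalkTensorB

/-!
# Stalks of injective `O_X`-modules on a locally Noetherian scheme are injective
-/

universe u

open CategoryTheory Limits AlgebraicGeometry Opposite TopologicalSpace

namespace Groth.Agent.LeadStalkInj

open Groth.Agent.Lib.Helper1.StalkTensor

section germs

variable {T : TopCat.{u}} {R : T.Presheaf CommRingCat.{u}} (P : PMod R) (x : T)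

lemma mem_finset_inf {ι : Type*} (s : Finset ι) (U : ι → Opens T) :
    x ∈ s.inf U ↔ ∀ k ∈ s, x ∈ U k := by
  classical
  induction s using Finset.induction_on with
  | empty => simp
  | insert a s ha ih =>
    rw [Finset.inf_insert]
    constructor
    · rintro ⟨h1, h2⟩ k hk
      rcases Finset.mem_insert.1 hk with rfl | hk
      · exact h1
      · exact ih.1 h2 k hk
    · intro h
      exact ⟨h a (Finset.mem_insert_self a s),
        ih.2 fun k hk => h k (Finset.mem_insert_of_mem hk)⟩

lemma exists_common_sections {n : ℕ} (q : Fin n → St P x) (W₀ : Opens T) (hx : x ∈ W₀) :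
    ∃ (W : Opens T) (hW : x ∈ W) (_ : W ⟶ W₀) (μ : Fin n → P.obj (op W)),
      ∀ k, gm P x W hW (μ k) = q k := by
  choose U hU p hp using fun k => exists_gm_eq (P := P) (x := x) (q k)
  have hW : x ∈ W₀ ⊓ Finset.univ.inf U :=
    ⟨hx, (mem_finset_inf x Finset.univ U).2 fun k _ => hU k⟩
  refine ⟨W₀ ⊓ Finset.univ.inf U, hW, homOfLE inf_le_left,
    fun k => rs P (homOfLE (inf_le_right.trans (Finset.inf_le (Finset.mem_univ k)))) (p k),
    fun k => ?_⟩
  rw [gm_rs, hp]

lemma exists_common_vanishing {p : ℕ} {W₁ : Opens T} (hx : x ∈ W₁) (t : Fin p → P.obj (op W₁))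
    (ht : ∀ l, gm P x W₁ hx (t l) = 0) :
    ∃ (V : Opens T) (_ : x ∈ V) (i : V ⟶ W₁), ∀ l, rs P i (t l) = 0 := by
  have : ∀ l, ∃ (V : Opens T) (_ : x ∈ V) (i : V ⟶ W₁), rs P i (t l) = 0 := by
    intro l
    obtain ⟨V, hV, iU, iV, e⟩ := gm_eq (P := P) (x := x) hx hx (t l) 0 (by rw [ht l, map_zero])
    exact ⟨V, hV, iU, by rw [e, map_zero]⟩
  choose V hV i hi using this
  have hW : x ∈ W₁ ⊓ Finset.univ.inf V :=
    ⟨hx, (mem_finset_inf x Finset.univ V).2 fun k _ => hV k⟩
  refine ⟨W₁ ⊓ Finset.univ.inf V, hW, homOfLE inf_le_left, fun l => ?_⟩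
  have e : (homOfLE inf_le_left : W₁ ⊓ Finset.univ.inf V ⟶ W₁) =
      (homOfLE (inf_le_right.trans (Finset.inf_le (Finset.mem_univ l))) :
        W₁ ⊓ Finset.univ.inf V ⟶ V l) ≫ i l := Subsingleton.elim _ _
  rw [e, ← rs_rs, hi l, map_zero]

lemma rr_rr {U V W : Opens T} (i : V ⟶ U) (j : W ⟶ V) (r : R.obj (op U)) :
    rr R j (rr R i r) = rr R (j ≫ i) r := by
  have : R.map (j ≫ i).op = R.map i.op ≫ R.map j.op := by
    rw [← Functor.map_comp]; rfl
  unfold rr
  rw [this]
  rfl

end germs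

variable {X : Scheme.{u}} (I : X.Modules) [Injective I] (x : X) {W₀ : X.Opens}
  (hW₀ : IsAffineOpen W₀) (hx : x ∈ W₀) [IsNoetherianRing Γ(X, W₀)]

include hW₀ in
/-- The local extension property for the stalk of an injective module. -/
theorem exists_extension (n : ℕ) (α : Fin n → Γ(X, W₀)) (q : Fin n → St (toPM I) x)
    (hq : ∀ c : Fin n → Γ(X, W₀), ∑ k, c k * α k = 0 →
      ∑ k, gr X.presheaf x W₀ hx (c k) • q k = 0) :
    ∃ m : St (toPM I) x, ∀ k, gr X.presheaf x W₀ hx (α k) • m = q k := by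
  classical
  let P := toPM I
  let A : Type u := Γ(X, W₀)
  let L : (Fin n → A) →ₗ[A] A := Fintype.linearCombination A α
  obtain ⟨p, ρ, hρ⟩ := Submodule.fg_iff_exists_fin_generating_family.1
    (IsNoetherian.noetherian (LinearMap.ker L))
  have hρker : ∀ l, ∑ k, ρ l k * α k = 0 := by
    intro l
    have : ρ l ∈ LinearMap.ker L := by rw [← hρ]; exact Submodule.subset_span ⟨l, rfl⟩
    have h2 : L (ρ l) = 0 := this
    simpa [L, Fintype.linearCombination_apply, smul_eq_mul] using h2
  -- step 1: common sections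
  obtain ⟨W₁, hW₁, i₁, μ₁, hμ₁⟩ := exists_common_sections P x q W₀ hx
  -- step 2: relations vanish near x
  let t : Fin p → P.obj (op W₁) := fun l => ∑ k, rr X.presheaf i₁ (ρ l k) • μ₁ k
  have ht : ∀ l, gm P x W₁ hW₁ (t l) = 0 := by
    intro l
    have := hq (ρ l) (hρker l)
    simp only [t, map_sum, gm_smul, gr_rr, hμ₁]
    exact this
  obtain ⟨V, hV, iV, hVt⟩ := exists_common_vanishing P x hW₁ t ht
  -- step 3: shrink to a basic open
  obtain ⟨f, hfV, hxf⟩ := hW₀.exists_basicOpen_le ⟨x, hV⟩ hx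
  let W : X.Opens := X.basicOpen f
  have hW : IsAffineOpen W := hW₀.basicOpen f
  let iW : W ⟶ W₀ := homOfLE (X.basicOpen_le f)
  let iW₁ : W ⟶ W₁ := homOfLE hfV ≫ iV
  let μ : Fin n → P.obj (op W) := fun k => rs P iW₁ (μ₁ k)
  have hμ : ∀ k, gm P x W hxf (μ k) = q k := fun k => by
    simp only [μ]
    rw [gm_rs, hμ₁]
  have hrel : ∀ l, ∑ k, rr X.presheaf iW (ρ l k) • μ k = 0 := by
    intro l
    have h1 : rs P iW₁ (t l) = 0 := by
      simp only [iW₁]
      rw [← rs_rs, hVt l, map_zero]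
    simp only [t, map_sum, rs_smul, rr_rr] at h1
    have e : iW₁ ≫ i₁ = iW := Subsingleton.elim _ _
    rw [e] at h1
    exact h1
  -- step 4: the sections over `W` form an injective `A`-module
  let B' : Type u := ↑(X.presheaf.obj (op W))
  let E : Type u := ↑(P.obj (op W))
  have hE : Module.Injective B' E := injective_sections_of_isAffineOpen hW I
  letI : Module A E := Module.compHom E (algebraMap A B')
  haveI : IsScalarTower A B' E := ⟨fun a b e => by
    show (a • b) • e = (algebraMap A B' a) • (b • e)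
    rw [Algebra.smul_def, mul_smul]⟩
  haveI : IsLocalization (Submonoid.powers f) B' := hW₀.isLocalization_basicOpen f
  have hEA : Module.Injective A E :=
    Groth.Agent.Lib.Helper14.FlatInj.injective_of_localization (Submonoid.powers f) B' E hE
  have hsmul : ∀ (a : A) (e : E), a • e = rr X.presheaf iW a • e := fun a e => rfl
  let M : (Fin n → A) →ₗ[A] E := Fintype.linearCombination A μ
  have hker : LinearMap.ker L ≤ LinearMap.ker M := by
    rw [← hρ, Submodule.span_le]
    rintro _ ⟨l, rfl⟩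
    show M (ρ l) = 0
    simp only [M, Fintype.linearCombination_apply, hsmul]
    exact hrel l
  have hinj : Function.Injective ((LinearMap.ker L).liftQ L le_rfl) :=
    LinearMap.ker_eq_bot.1 (Submodule.ker_liftQ_eq_bot _ _ _ le_rfl)
  obtain ⟨h, hh⟩ := Module.Injective.extension_property A E _ _
    ((LinearMap.ker L).liftQ L le_rfl) hinj ((LinearMap.ker L).liftQ M hker)
  refine ⟨gm P x W hxf (h 1), fun k => ?_⟩
  have h1 : h (α k) = μ k := by
    have e1 := LinearMap.congr_fun hh (Submodule.Quotient.mk (Pi.single k 1))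
    simp only [LinearMap.comp_apply, Submodule.liftQ_apply, L, M,
      Fintype.linearCombination_apply_single, one_smul] at e1
    exact e1
  have h2 : h (α k) = rr X.presheaf iW (α k) • h 1 := by
    rw [← hsmul, ← map_smul, smul_eq_mul, mul_one]
  rw [← hμ k, ← h1, h2, gm_smul, gr_rr]

/-- Stalks of injective `O_X`-modules on a locally Noetherian scheme are injective. -/
theorem injective_stalk [IsLocallyNoetherian X] (J : X.Modules) [Injective J] (y : X) :
    Module.Injective (X.presheaf.stalk y) (J.presheaf.stalk y) := by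
  obtain ⟨W₀, hW₀, hy⟩ : ∃ W₀ : X.Opens, IsAffineOpen W₀ ∧ y ∈ W₀ := by
    obtain ⟨_, ⟨W, hW, rfl⟩, hyW, -⟩ :=
      (X.isBasis_affineOpens).exists_subset_of_mem_open (Set.mem_univ y) isOpen_univ
    exact ⟨W, hW, hyW⟩
  haveI : IsNoetherianRing Γ(X, W₀) := IsLocallyNoetherian.component_noetherian ⟨W₀, hW₀⟩
  letI : Algebra Γ(X, W₀) (X.presheaf.stalk y) :=
    TopCat.Presheaf.algebra_section_stalk X.presheaf ⟨y, hy⟩
  haveI := hW₀.isLocalization_stalk ⟨y, hy⟩
  exact injective_of_local_extension (hW₀.primeIdealOf ⟨y, hy⟩).asIdeal (J.presheaf.stalk y)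
    (fun n α q hq => exists_extension J y hW₀ hy n α q hq)

end Groth.Agent.LeadStalkInj
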