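import Mathlib
import Groth.Agent.Lib.LeadMatlis4
import Groth.Agent.Lib.LeadStalkInj3
import Groth.Agent.Lib.Helper14FlatLocFreeA
import Groth.Agent.Lib.Helper26GlueC

/-!
# A quasi-coherent module with injective stalks on a locally Noetherian scheme is injective
-/

universe u

open CategoryTheory Limits AlgebraicGeometry Opposite TopologicalSpace

namespace Groth.Agent.LeadMatlis

open Groth.Agent.Lib.Helper2.FlatOver Groth.Agent.Lib.Helper2.QCoh

variable {X : Scheme.{u}}

/-- For a quasi-coherent module with injective stalks on a locally Noetherian scheme, the sections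
over an affine open form an injective module. -/
theorem injective_sections_of_stalks [IsLocallyNoetherian X] (F : X.Modules) [F.IsQuasicoherent]
    (h : ∀ x : X, Module.Injective (X.presheaf.stalk x) (F.presheaf.stalk x))
    {U : X.Opens} (hU : IsAffineOpen U) : Module.Injective Γ(X, U) Γ(F, U) := by
  haveI : IsNoetherianRing Γ(X, U) := IsLocallyNoetherian.component_noetherian ⟨U, hU⟩
  let pt : ∀ (P : Ideal Γ(X, U)) [P.IsMaximal], X := fun P hP => hU.fromSpec ⟨P, hP.isPrime⟩
  have hpt : ∀ (P : Ideal Γ(X, U)) [P.IsMaximal], pt P ∈ U := fun P _ => fromSpec_mem hU _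
  letI iA : ∀ (P : Ideal Γ(X, U)) [P.IsMaximal], Algebra Γ(X, U) (X.presheaf.stalk (pt P)) :=
    fun P _ => X.presheaf.algebra_section_stalk ⟨pt P, hpt P⟩
  haveI iL : ∀ (P : Ideal Γ(X, U)) [P.IsMaximal],
      IsLocalization.AtPrime (X.presheaf.stalk (pt P)) P := by
    intro P hP
    have h1 := hU.isLocalization_stalk ⟨pt P, hpt P⟩
    have h2 : hU.primeIdealOf ⟨pt P, hpt P⟩ = ⟨P, hP.isPrime⟩ := primeIdealOf_fromSpec hU _
    rw [h2] at h1
    exact h1
  letI i1 : ∀ (P : Ideal Γ(X, U)) [P.IsMaximal], Module Γ(X, U) (F.presheaf.stalk (pt P)) :=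
    fun P _ => moduleStalkSections F U (pt P) (hpt P)
  haveI i3 : ∀ (P : Ideal Γ(X, U)) [P.IsMaximal],
      IsScalarTower Γ(X, U) (X.presheaf.stalk (pt P)) (F.presheaf.stalk (pt P)) := by
    intro P _
    refine ⟨fun a b y => ?_⟩
    change (X.presheaf.germ U (pt P) (hpt P) a * b) • y =
      X.presheaf.germ U (pt P) (hpt P) a • (b • y)
    rw [mul_smul]
  haveI i4 : ∀ (P : Ideal Γ(X, U)) [P.IsMaximal],
      IsLocalizedModule P.primeCompl (germₗ F U (pt P) (hpt P)) := by
    intro P hP
    have h1 := isLocalizedModule_germ hU F (pt P) (hpt P)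
    have h2 : hU.primeIdealOf ⟨pt P, hpt P⟩ = ⟨P, hP.isPrime⟩ := primeIdealOf_fromSpec hU _
    rw [h2] at h1
    exact h1
  exact @Module.injective_of_localization_maximal' Γ(X, U) _ Γ(F, U) _ _
    (fun P _ => X.presheaf.stalk (pt P)) (fun P _ => inferInstance) (fun P _ => inferInstance)
    iA iL
    (fun P _ => F.presheaf.stalk (pt P)) (fun P _ => inferInstance) i1
    (fun P _ => inferInstance) i3
    (fun P _ => germₗ F U (pt P) (hpt P)) i4 inferInstance inferInstance
    (fun P hP => h (pt P))

attribute [local instance] RingHomInvPair.of_ringEquiv in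
/-- If the sections of a quasi-coherent module `F` over an affine open `W` of a locally Noetherian
scheme form an injective module then `F|_W` is an injective `O_W`-module. -/
theorem injective_restrict_of_injective_sections [IsLocallyNoetherian X] (F : X.Modules)
    [F.IsQuasicoherent] {W : X.Opens} (hW : IsAffineOpen W)
    (h : Module.Injective ↑(X.presheaf.obj (op W)) ↑(F.val.obj (op W))) :
    Injective ((Scheme.Modules.restrictFunctor W.ι).obj F) := by
  haveI : IsNoetherianRing Γ(X, W) := IsLocallyNoetherian.component_noetherian ⟨W, hW⟩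
  let j := hW.fromSpec
  let N : (Spec Γ(X, W)).Modules := (Scheme.Modules.restrictFunctor j).obj F
  haveI : N.IsQuasicoherent := Groth.Agent.Lib.Helper26.Glue.isQuasicoherent_restrict j F
  have hjW : j ''ᵁ ⊤ = W := (Scheme.Hom.image_top_eq_opensRange _).trans hW.opensRange_fromSpec
  have h3 : Module.Injective ↑(X.presheaf.obj (op (j ''ᵁ ⊤))) ↑(F.val.obj (op (j ''ᵁ ⊤))) :=
    Groth.Agent.LeadStalkInj.injective_congr_open F hjW.symm h
  let e₁ : ↑Γ(X, W) ≃+* ↑Γ(X, j ''ᵁ ⊤) :=
    ((Scheme.ΓSpecIso Γ(X, W)).symm ≪≫ (j.appIso ⊤).symm).commRingCatIsoToRingEquiv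
  let e₂ : ↑((moduleSpecΓFunctor (R := Γ(X, W))).obj N)
      ≃ₛₗ[RingHomClass.toRingHom e₁] ↑(F.val.obj (op (j ''ᵁ ⊤))) :=
    { toFun := fun s => s
      invFun := fun s => s
      map_add' := fun _ _ => rfl
      map_smul' := fun _ _ => rfl
      left_inv := fun _ => rfl
      right_inv := fun _ => rfl }
  have h4 : Module.Injective ↑Γ(X, W) ↑((moduleSpecΓFunctor (R := Γ(X, W))).obj N) :=
    Module.Injective.of_ringEquiv e₁.symm e₂.symm
  have h5 := injective_tilde ↑Γ(X, W) ↑((moduleSpecΓFunctor (R := Γ(X, W))).obj N) h4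
  haveI hiso : IsIso (Scheme.Modules.fromTildeΓ (R := Γ(X, W)) N) := inferInstance
  have h6 : Injective N :=
    Injective.of_iso (@asIso _ _ _ _ (Scheme.Modules.fromTildeΓ (R := Γ(X, W)) N) hiso) h5
  haveI := h6
  have h7 : Injective ((Scheme.Modules.restrictFunctor hW.isoSpec.hom).obj N) :=
    Groth.Agent.LeadExtZero.injective_restrict hW.isoSpec.hom N
  have hcomp : W.ι = hW.isoSpec.hom ≫ j := by
    show W.ι = hW.isoSpec.hom ≫ (hW.isoSpec.inv ≫ W.ι)
    rw [Iso.hom_inv_id_assoc]
  let i : (Scheme.Modules.restrictFunctor W.ι).obj F ≅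
      (Scheme.Modules.restrictFunctor hW.isoSpec.hom).obj N :=
    (Scheme.Modules.restrictFunctorCongr hcomp).app F ≪≫
      (Scheme.Modules.restrictFunctorComp hW.isoSpec.hom j).app F
  exact Injective.of_iso i.symm h7

/-- **A quasi-coherent module on a locally Noetherian scheme all of whose stalks are injective is
an injective `O_X`-module.** -/
theorem injective_of_injective_stalks [IsLocallyNoetherian X] (F : X.Modules) [F.IsQuasicoherent]
    (h : ∀ x : X, Module.Injective (X.presheaf.stalk x) (F.presheaf.stalk x)) : Injective F := by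
  apply Groth.Agent.LeadExtZero.injective_of_locally_injective
  intro x
  obtain ⟨_, ⟨W, hW, rfl⟩, hxW, -⟩ :=
    (X.isBasis_affineOpens).exists_subset_of_mem_open (Set.mem_univ x) isOpen_univ
  exact ⟨W, hxW, injective_restrict_of_injective_sections F hW
    (injective_sections_of_stalks F h hW)⟩

end Groth.Agent.LeadMatlis
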