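import Mathlib
import Groth.Agent.Lib.LeadGammaZInj1
import Groth.Agent.Lib.LeadMatlis5
import Groth.Agent.Lib.Helper17GammaZ1
import Groth.Agent.Lib.Helper17GrSysCoh
import Groth.Agent.Lib.Helper23QCohAbelian
import Groth.Agent.Lib.Helper20StalkExact
import Groth.Agent.S0301

/-!
# `Γ_Z(I)` is injective for a quasi-coherent injective module `I` on a Noetherian scheme
-/

universe u

open CategoryTheory Limits AlgebraicGeometry Opposite TopologicalSpace

namespace Groth.Agent.LeadGammaZInj

open Groth.Agent.Lib.Helper17.GrSysCoh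

variable {U X : Scheme.{u}} [IsNoetherian X] (j : U ⟶ X) [IsOpenImmersion j]

theorem injective_gammaZ (I : X.Modules) [I.IsQuasicoherent] [Injective I] :
    Injective ((DCoh.gammaZ j).obj I) := by
  haveI : QuasiCompact j := inferInstance
  haveI : ((Scheme.Modules.restrictFunctor j).obj I).IsQuasicoherent :=
    Groth.Agent.Lib.Helper26.Glue.isQuasicoherent_restrict j I
  haveI : ((Scheme.Modules.restrictFunctor j ⋙ Scheme.Modules.pushforward j).obj I).IsQuasicoherent :=
    Groth.Agent.Lib.Helper23.QCohLocal.isQuasicoherent_pushforward j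
      ((Scheme.Modules.restrictFunctor j).obj I)
  let η : I ⟶ (Scheme.Modules.restrictFunctor j ⋙ Scheme.Modules.pushforward j).obj I :=
    (Scheme.Modules.restrictAdjunction j).unit.app I
  haveI hG : (kernel η).IsQuasicoherent :=
    Groth.Agent.Lib.Helper23.QCohLocal.isQuasicoherent_kernel η
  show Injective (kernel η)
  apply Groth.Agent.LeadExtZero.injective_of_locally_injective
  intro x
  obtain ⟨_, ⟨W, hW, rfl⟩, hxW, -⟩ :=
    (X.isBasis_affineOpens).exists_subset_of_mem_open (Set.mem_univ x) isOpen_univ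
  refine ⟨W, hxW, Groth.Agent.LeadMatlis.injective_restrict_of_injective_sections (kernel η) hW ?_⟩
  haveI : IsNoetherianRing Γ(X, W) := IsLocallyNoetherian.component_noetherian ⟨W, hW⟩
  let O : X.Opens := j ''ᵁ (j ⁻¹ᵁ W)
  have hO : O ≤ W := j.image_preimage_le W
  have hM : Module.Injective Γ(X, W) Γ(I, W) :=
    Groth.Agent.LeadStalkInj.injective_sections_of_isAffineOpen hW I
  have hK : Module.Injective Γ(X, W) ↥(vanishing O hO I) := by
    rw [vanishing_eq O hO I hW]
    exact Groth.Agent.S0301.result Γ(X, W) Γ(I, W) hM (idealOf (W := W) O)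
  let Φ : Γ(kernel η, W) →ₗ[Γ(X, W)] Γ(I, W) := appL (kernel.ι η) W
  have hΦinj : Function.Injective Φ :=
    Groth.Agent.Lib.Helper20.StalkExact.injective_app_of_mono (kernel.ι η) W
  have hrange : LinearMap.range Φ = vanishing O hO I := by
    apply le_antisymm
    · rintro _ ⟨t, rfl⟩
      rw [mem_vanishing]
      have h1 : (kernel.ι η ≫ η).app W t = 0 := by
        rw [kernel.condition]
        rfl
      rw [Scheme.Modules.Hom.comp_app, ConcreteCategory.comp_apply] at h1
      exact h1
    · intro s hs
      rw [mem_vanishing] at hs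
      have h1 : η.app W s = 0 := hs
      obtain ⟨t, ht⟩ := exists_app_kernel_ι η W s h1
      exact ⟨t, ht⟩
  have e : Γ(kernel η, W) ≃ₗ[Γ(X, W)] ↥(vanishing O hO I) :=
    (LinearEquiv.ofInjective Φ hΦinj).trans (LinearEquiv.ofEq _ _ hrange)
  exact Module.Baer.injective (Module.Baer.of_equiv e.symm (Module.Baer.of_injective hK))

end Groth.Agent.LeadGammaZInj
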