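import Groth.Agent.Lib.LeadFF48
import Mathlib.FieldTheory.SeparablyGenerated
import Mathlib.RingTheory.Etale.Kaehler
import Mathlib.RingTheory.Etale.Field
import Mathlib.RingTheory.Kaehler.Polynomial
import Mathlib.FieldTheory.RatFunc.AsPolynomial

/-! MacLane separability for geometric function fields; Kähler differentials. -/

namespace Groth.Agent.Lib.LeadMS

open FunFld Polynomial TensorProduct

universe u v
variable {k : Type u} {K : Type v} [Field k] [Field K] [Algebra k K]

theorem pow_indep_aux (k' : Type*) [Field k'] [Algebra k k']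
    (hT : IsField (k' ⊗[k] K)) (p : ℕ) [hp : Fact p.Prime] [CharP k p]
    {ι : Type*} [Fintype ι] (u : ι → K) (hu : LinearIndependent k u) (a : ι → k)
    (r' : ι → k') (hr' : ∀ l, r' l ^ p = algebraMap k k' (a l))
    (h : ∑ l, a l • (u l) ^ p = 0) : ∀ l, r' l = 0 := by
  classical
  haveI : Nontrivial (k' ⊗[k] K) := hT.nontrivial
  haveI : IsDomain (k' ⊗[k] K) := hT.isDomain
  haveI : CharP (k' ⊗[k] K) p :=
    charP_of_injective_algebraMap (algebraMap k (k' ⊗[k] K)).injective p
  haveI : ExpChar (k' ⊗[k] K) p := ExpChar.prime hp.out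
  have e1 : (∑ l, r' l ⊗ₜ[k] u l) ^ p = ∑ l, (r' l ⊗ₜ[k] u l) ^ p :=
    sum_pow_char p Finset.univ _
  have hz : (∑ l, r' l ⊗ₜ[k] u l) ^ p = 0 := by
    rw [e1]
    have : ∀ l, (r' l ⊗ₜ[k] u l) ^ p = (1 : k') ⊗ₜ[k] (a l • (u l) ^ p) := by
      intro l
      rw [Algebra.TensorProduct.tmul_pow, hr', Algebra.algebraMap_eq_smul_one,
        TensorProduct.smul_tmul]
    simp only [this]
    rw [← TensorProduct.tmul_sum, h, TensorProduct.tmul_zero]
  have hz0 : (∑ l, r' l ⊗ₜ[k] u l) = 0 := (pow_eq_zero_iff hp.out.ne_zero).mp hz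
  obtain ⟨g, hg'⟩ := LinearMap.exists_leftInverse_of_injective (Finsupp.linearCombination k u)
    (LinearMap.ker_eq_bot.mpr hu)
  intro l
  let φ : K →ₗ[k] k := (Finsupp.lapply l).comp g
  have hφ : ∀ j, φ (u j) = if j = l then 1 else 0 := by
    intro j
    have := LinearMap.congr_fun hg' (Finsupp.single j 1)
    simp only [LinearMap.comp_apply, Finsupp.linearCombination_single, one_smul,
      LinearMap.id_apply] at this
    simp only [φ, LinearMap.comp_apply, this, Finsupp.lapply_apply, Finsupp.single_apply]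
  let Ψ : k' ⊗[k] K →ₗ[k] k' := (TensorProduct.rid k k').toLinearMap.comp (LinearMap.lTensor k' φ)
  have hΨ : Ψ (∑ l, r' l ⊗ₜ[k] u l) = r' l := by
    simp only [map_sum, Ψ, LinearMap.comp_apply, LinearMap.lTensor_tmul,
      LinearEquiv.coe_coe, TensorProduct.rid_tmul, hφ]
    simp
  rw [hz0, map_zero] at hΨ
  exact hΨ.symm

/-- geometric ⟹ `p`-th powers preserve `k`-linear independence. -/
theorem pow_indep (hg : IsGeometric k K) (p : ℕ) [hp : Fact p.Prime] [CharP K p]
    {ι : Type*} [Fintype ι] (u : ι → K) (hu : LinearIndependent k u) (a : ι → k)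
    (h : ∑ l, a l • (u l) ^ p = 0) : ∀ l, a l = 0 := by
  classical
  haveI : CharP k p := (RingHom.charP_iff _ (algebraMap k K).injective p).mpr inferInstance
  have hr : ∀ l, ∃ r : AlgebraicClosure k, r ^ p = algebraMap k _ (a l) := fun l =>
    IsAlgClosed.exists_pow_nat_eq _ hp.out.pos
  choose r hr using hr
  let k' : IntermediateField k (AlgebraicClosure k) := IntermediateField.adjoin k (Set.range r)
  haveI : FiniteDimensional k k' :=
    IntermediateField.finiteDimensional_adjoin (fun x _ => (Algebra.IsIntegral.isIntegral x))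
  let r' : ι → k' := fun l => ⟨r l, IntermediateField.subset_adjoin _ _ ⟨l, rfl⟩⟩
  have hr' : ∀ l, r' l ^ p = algebraMap k k' (a l) := fun l => Subtype.ext (by simpa [r'] using hr l)
  have key := pow_indep_aux (K := K) k' (hg k' inferInstance) p u hu a r' hr' h
  intro l
  have := hr' l
  rw [key l, zero_pow hp.out.ne_zero] at this
  exact (map_eq_zero_iff _ (algebraMap k k').injective).mp this.symm

theorem H_of_geometric (hg : IsGeometric k K) (p : ℕ) [hp : Fact p.Prime] [CharP K p] :
    ∀ s : Finset K, LinearIndepOn k _root_.id (s : Set K) →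
      LinearIndepOn k (· ^ p) (s : Set K) := by
  intro s hs
  unfold LinearIndepOn at hs ⊢
  rw [Fintype.linearIndependent_iff]
  intro a ha
  exact pow_indep hg p (fun x : (s : Set K) => (x : K)) hs a ha

theorem trdeg_eq_one (hK : IsFunctionField k K) : Algebra.trdeg k K = 1 := by
  obtain ⟨⟨x₀, hx₀, hfin⟩, -⟩ := id hK
  have hA := Lib.LeadFF.isAlgebraic_over_adjoin hK hx₀
  have h1 : Algebra.trdeg k K ≤ 1 := by
    obtain ⟨⟨x₀, hx₀, hfin⟩, -⟩ := id hK
    have hA : Algebra.IsAlgebraic (Algebra.adjoin k {x₀}) K := by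
      open scoped IntermediateField.algebraAdjoinAdjoin in
      exact Algebra.IsAlgebraic.trans (Algebra.adjoin k {x₀}) (IntermediateField.adjoin k {x₀}) K
    have h1 : Algebra.trdeg k K ≤ Cardinal.mk ({x₀} : Set K) :=
      Algebra.IsAlgebraic.trdeg_le_cardinalMk k {x₀}
    rwa [Cardinal.mk_singleton] at h1
  have hb : IsTranscendenceBasis k (fun _ : PUnit.{v+1} => x₀) :=
    AlgebraicIndependent.isTranscendenceBasis_of_trdeg_le_of_finite
      (algebraicIndependent_unique_type_iff.mpr hx₀) (by simpa using h1)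
  rw [← hb.cardinalMk_eq_trdeg]; simp

theorem exists_separating (hK : IsFunctionField k K) (hg : IsGeometric k K) :
    ∃ x : K, Transcendental k x ∧ Algebra.IsSeparable (IntermediateField.adjoin k {x}) K := by
  classical
  rcases CharP.exists' K with h0 | ⟨p, hp, hc⟩
  · obtain ⟨⟨x₀, hx₀, hfin⟩, -⟩ := id hK
    refine ⟨x₀, hx₀, ?_⟩
    haveI : CharZero (IntermediateField.adjoin k {x₀}) :=
      RingHom.charZero (algebraMap (IntermediateField.adjoin k {x₀}) K)
    haveI := Lib.LeadFF.isAlgebraic_over_adjoin hK hx₀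
    exact Algebra.IsAlgebraic.isSeparable_of_perfectField
  · obtain ⟨⟨x₀, hx₀, hfin⟩, -⟩ := id hK
    have e1 : Algebra.EssFiniteType k (IntermediateField.adjoin k {x₀}) :=
      IntermediateField.essFiniteType_iff.mpr
        (IntermediateField.fg_adjoin_of_finite (Set.finite_singleton _))
    haveI e3 : Algebra.EssFiniteType k K :=
      Algebra.EssFiniteType.comp k (IntermediateField.adjoin k {x₀}) K
    haveI : CharP k p := (RingHom.charP_iff _ (algebraMap k K).injective p).mpr inferInstance
    haveI : ExpChar k p := ExpChar.prime hp.out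
    obtain ⟨s, hs, hsep⟩ :=
      exists_isTranscendenceBasis_and_isSeparable_of_linearIndepOn_pow_of_essFiniteType
        (k := k) (K := K) p hp.out (H_of_geometric hg p)
    have hcard : s.card = 1 := by
      have h1 := hs.cardinalMk_eq_trdeg
      rw [trdeg_eq_one hK, Cardinal.mk_coe_finset] at h1
      exact_mod_cast h1
    obtain ⟨x, rfl⟩ := Finset.card_eq_one.mp hcard
    refine ⟨x, ?_, ?_⟩
    · have := hs.1.transcendental ⟨x, Finset.mem_singleton_self x⟩
      exact this
    · have e : IntermediateField.adjoin k ((({x} : Finset K)) : Set K)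
          = IntermediateField.adjoin k {x} := by simp
      exact e ▸ hsep

/-- For a separating element `x`: `dx ≠ 0` and `dx` spans `Ω_{K/k}`. -/
theorem kaehler_of_separating {x : K} (hx : Transcendental k x)
    [hsep : Algebra.IsSeparable (IntermediateField.adjoin k {x}) K] :
    KaehlerDifferential.D k K x ≠ 0 ∧
      ∀ ω : Ω[K⁄k], ∃ c : K, c • KaehlerDifferential.D k K x = ω := by
  classical
  let E := IntermediateField.adjoin k {x}
  let e : RatFunc k ≃ₐ[k] E := RatFunc.algEquivOfTranscendental x hx
  letI aRK : Algebra (RatFunc k) K := ((algebraMap E K).comp (e : RatFunc k →+* E)).toAlgebra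
  haveI : Algebra.IsSeparable (RatFunc k) K :=
    Algebra.IsSeparable.of_equiv_equiv (A₁ := E) (B₁ := K) e.symm.toRingEquiv (RingEquiv.refl K)
      (by ext y; simp [RingHom.algebraMap_toAlgebra])
  letI aPK : Algebra k[X] K :=
    ((algebraMap (RatFunc k) K).comp (algebraMap k[X] (RatFunc k))).toAlgebra
  haveI : IsScalarTower k[X] (RatFunc k) K := IsScalarTower.of_algebraMap_eq (fun _ => rfl)
  haveI : IsScalarTower k k[X] K := IsScalarTower.of_algebraMap_eq (fun c => by
    change algebraMap k K c = algebraMap E K (e (algebraMap k[X] (RatFunc k) (algebraMap k k[X] c)))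
    rw [← IsScalarTower.algebraMap_apply k k[X] (RatFunc k), e.commutes,
      ← IsScalarTower.algebraMap_apply k E K])
  haveI : Algebra.FormallyEtale (RatFunc k) K := Algebra.FormallyEtale.of_isSeparable _ _
  haveI : Algebra.FormallyEtale k[X] (RatFunc k) :=
    Algebra.FormallyEtale.of_isLocalization (nonZeroDivisors k[X])
  haveI : Algebra.FormallyEtale k[X] K := Algebra.FormallyEtale.comp k[X] (RatFunc k) K
  let iso := KaehlerDifferential.tensorKaehlerEquivOfFormallyEtale k k[X] K
  have hX : algebraMap k[X] K X = x := by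
    change algebraMap E K (e (algebraMap k[X] (RatFunc k) X)) = x
    rw [RatFunc.algebraMap_X]
    exact RatFunc.algEquivOfTranscendental_X x hx
  constructor
  · intro h0
    have h1 := KaehlerDifferential.tensorKaehlerEquivOfFormallyEtale_symm_D_algebraMap k k[X] K X
    rw [hX, h0, map_zero] at h1
    have h2 := congrArg (fun t => (TensorProduct.rid k[X] K)
      (LinearMap.lTensor K (KaehlerDifferential.polynomialEquiv k).toLinearMap t)) h1
    simp only [map_zero, LinearMap.lTensor_tmul, LinearEquiv.coe_coe,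
      KaehlerDifferential.polynomialEquiv_D, derivative_X, TensorProduct.rid_tmul, one_smul] at h2
    exact one_ne_zero h2.symm
  · intro ω
    obtain ⟨t, rfl⟩ := iso.surjective ω
    induction t using TensorProduct.induction_on with
    | zero => exact ⟨0, by simp⟩
    | tmul c ω' =>
      refine ⟨c * algebraMap k[X] K (KaehlerDifferential.polynomialEquiv k ω'), ?_⟩
      have hω : ω' = (KaehlerDifferential.polynomialEquiv k ω') • KaehlerDifferential.D k k[X] X := by
        rw [← KaehlerDifferential.polynomialEquiv_symm, LinearEquiv.symm_apply_apply]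
      conv_rhs => rw [hω]
      simp only [iso, KaehlerDifferential.tensorKaehlerEquivOfFormallyEtale_apply,
        KaehlerDifferential.mapBaseChange_tmul, map_smul, KaehlerDifferential.map_D, hX]
      rw [mul_smul, algebraMap_smul]
    | add t₁ t₂ h₁ h₂ =>
      obtain ⟨c₁, h₁⟩ := h₁
      obtain ⟨c₂, h₂⟩ := h₂
      exact ⟨c₁ + c₂, by rw [add_smul, h₁, h₂, map_add]⟩

theorem finrank_kaehler (hK : IsFunctionField k K) (hg : IsGeometric k K) :
    Module.finrank K (Ω[K⁄k]) = 1 := by
  obtain ⟨x, hx, hsep⟩ := exists_separating hK hg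
  obtain ⟨h1, h2⟩ := kaehler_of_separating hx
  exact (finrank_eq_one_iff_of_nonzero' _ h1).mpr h2

end Groth.Agent.Lib.LeadMS
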