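import Mathlib
import Groth.Agent.Lib.LeadMS1
import Groth.Prelude.Def_LocRes

/-! Existence of a total Hasse derivative with respect to a separating element. -/

set_option autoImplicit false

namespace Groth.Agent.Lib.LeadHF

open FunFld Polynomial

universe u v
variable {k : Type u} {K : Type v} [Field k] [Field K] [Algebra k K]

theorem exists_hasseFamily_of_separating {x : K} (hx : Transcendental k x)
    [hsep : Algebra.IsSeparable (IntermediateField.adjoin k {x}) K] :
    ∃ H : K →ₐ[k] PowerSeries K, LocRes.IsHasseFamily x H := by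
  classical
  let E := IntermediateField.adjoin k {x}
  let e : RatFunc k ≃ₐ[k] E := RatFunc.algEquivOfTranscendental x hx
  letI aRK : Algebra (RatFunc k) K := ((algebraMap E K).comp (e : RatFunc k →+* E)).toAlgebra
  haveI : Algebra.IsSeparable (RatFunc k) K :=
    Algebra.IsSeparable.of_equiv_equiv (A₁ := E) (B₁ := K) e.symm.toRingEquiv (RingEquiv.refl K)
      (by ext y; simp [RingHom.algebraMap_toAlgebra])
  letI aPK : Algebra k[X] K :=
    ((algebraMap (RatFunc k) K).comp (algebraMap k[X] (RatFunc k))).toAlgebra
  haveI : IsScalarTower k[X] (RatFunc k) K := IsScalarTower.of_algebraMap_eq (fun _ => rfl)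
  haveI : IsScalarTower k k[X] K := IsScalarTower.of_algebraMap_eq (fun c => by
    change algebraMap k K c = algebraMap E K (e (algebraMap k[X] (RatFunc k) (algebraMap k k[X] c)))
    rw [← IsScalarTower.algebraMap_apply k k[X] (RatFunc k), e.commutes,
      ← IsScalarTower.algebraMap_apply k E K])
  haveI : Algebra.FormallyEtale (RatFunc k) K := Algebra.FormallyEtale.of_isSeparable _ _
  haveI : Algebra.FormallyEtale k[X] (RatFunc k) :=
    Algebra.FormallyEtale.of_isLocalization (nonZeroDivisors k[X])
  haveI : Algebra.FormallyEtale k[X] K := Algebra.FormallyEtale.comp k[X] (RatFunc k) K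
  have hX : algebraMap k[X] K X = x := by
    change algebraMap E K (e (algebraMap k[X] (RatFunc k) X)) = x
    rw [RatFunc.algebraMap_X]
    exact RatFunc.algEquivOfTranscendental_X x hx
  have halg : ∀ p : k[X], algebraMap k[X] K p = Polynomial.aeval x p := by
    intro p
    have h1 : (IsScalarTower.toAlgHom k k[X] K) = Polynomial.aeval x := by
      apply Polynomial.algHom_ext
      rw [Polynomial.aeval_X]
      exact hX
    exact congrArg (fun f : k[X] →ₐ[k] K => f p) h1
  -- the target algebra structure
  let S := PowerSeries K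
  let θ : k[X] →ₐ[k] S := Polynomial.aeval (PowerSeries.C x + PowerSeries.X)
  letI aPS : Algebra k[X] S := θ.toRingHom.toAlgebra
  haveI : IsScalarTower k k[X] S := IsScalarTower.of_algebraMap_eq (fun c => by
    change algebraMap k S c = θ (algebraMap k k[X] c)
    rw [θ.commutes])
  let I : Ideal S := Ideal.span {(PowerSeries.X : S)}
  have hmemI : ∀ f : S, f ∈ I ↔ PowerSeries.constantCoeff f = 0 := by
    intro f
    rw [Ideal.mem_span_singleton, PowerSeries.X_dvd_iff]
  have hconst : ∀ p : k[X], PowerSeries.constantCoeff (θ p) = Polynomial.aeval x p := by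
    intro p
    have h1 : ((PowerSeries.constantCoeff (R := K)).comp θ.toRingHom) =
        (Polynomial.aeval x : k[X] →ₐ[k] K).toRingHom := by
      apply Polynomial.ringHom_ext
      · intro c
        simp only [RingHom.coe_comp, Function.comp_apply, AlgHom.toRingHom_eq_coe,
          RingHom.coe_coe, θ, Polynomial.aeval_C]
        rw [PowerSeries.algebraMap_apply, PowerSeries.constantCoeff_C]
      · simp only [RingHom.coe_comp, Function.comp_apply, AlgHom.toRingHom_eq_coe,
          RingHom.coe_coe, θ, Polynomial.aeval_X]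
        simp
    exact congrArg (fun f : k[X] →+* K => f p) h1
  -- the map `K → S ⧸ I`
  let f₀ : K →+* S ⧸ I := (Ideal.Quotient.mk I).comp (PowerSeries.C : K →+* S)
  let f : K →ₐ[k[X]] S ⧸ I :=
    { f₀ with
      commutes' := by
        intro p
        show Ideal.Quotient.mk I (PowerSeries.C (algebraMap k[X] K p)) =
          Ideal.Quotient.mk I (θ p)
        rw [Ideal.Quotient.eq, hmemI, map_sub, PowerSeries.constantCoeff_C, hconst, halg, sub_self] }
  obtain ⟨g, hg⟩ := Algebra.FormallySmooth.exists_mkₐ_comp_eq_of_isAdicComplete (R := k[X])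
    (A := K) (S := S) (I := I) f
  refine ⟨g.restrictScalars k, ?_, ?_⟩
  · show g x = PowerSeries.C x + PowerSeries.X
    have h1 : g x = g (algebraMap k[X] K X) := by rw [hX]
    rw [h1, g.commutes]
    show Polynomial.aeval (PowerSeries.C x + PowerSeries.X) X = _
    rw [Polynomial.aeval_X]
  · intro y
    show PowerSeries.constantCoeff (g y) = y
    have h1 := congrArg (fun φ : K →ₐ[k[X]] S ⧸ I => φ y) hg
    have h2 : Ideal.Quotient.mk I (g y) = Ideal.Quotient.mk I (PowerSeries.C y) := h1
    rw [Ideal.Quotient.eq, hmemI, map_sub, PowerSeries.constantCoeff_C, sub_eq_zero] at h2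
    exact h2

theorem exists_hasseFamily (hK : IsFunctionField k K) (hg : IsGeometric k K) :
    ∃ (s : K) (H : K →ₐ[k] PowerSeries K), LocRes.IsHasseFamily s H := by
  obtain ⟨x, hx, hsep⟩ := Groth.Agent.Lib.LeadMS.exists_separating hK hg
  obtain ⟨H, hH⟩ := exists_hasseFamily_of_separating hx
  exact ⟨x, H, hH⟩

end Groth.Agent.Lib.LeadHF
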