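import Mathlib

/-!
# Idempotents of `A[1/t]` versus a "completion-like" ring `C[1/t]` for a henselian pair `(A, tA)`
-/

namespace Groth.Agent.Lib.LeadHI1

open Polynomial

/-- Two idempotents whose difference `d` has `1 - d^2` invertible are equal. -/
theorem idem_eq_of_isUnit {S : Type*} [CommRing S] {e e' : S} (he : IsIdempotentElem e)
    (he' : IsIdempotentElem e') (hu : IsUnit (1 - (e - e') ^ 2)) : e = e' := by
  have h1 : e * e = e := he
  have h2 : e' * e' = e' := he'
  have e3 : e ^ 3 = e := by rw [pow_succ, pow_two, h1, h1]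
  have e'3 : e' ^ 3 = e' := by rw [pow_succ, pow_two, h2, h2]
  have hc : (e - e') ^ 3 = e - e' := by
    have : (e - e') ^ 3 = e ^ 3 - 3 * (e * e) * e' + 3 * e * (e' * e') - e' ^ 3 := by ring
    rw [this, h1, h2, e3, e'3]; ring
  have h3 : (e - e') * (1 - (e - e') ^ 2) = 0 := by
    calc (e - e') * (1 - (e - e') ^ 2) = (e - e') - (e - e') ^ 3 := by ring
      _ = 0 := by rw [hc]; ring
  exact sub_eq_zero.mp (hu.mul_left_eq_zero.mp h3)

/-- If `s` is in the Jacobson radical, `1 - (image of s b)^2` is a unit in any algebra. -/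
theorem isUnit_one_sub_sq {S : Type*} [CommRing S] {s : S}
    (hs : s ∈ Ideal.jacobson (⊥ : Ideal S))
    {T : Type*} [CommRing T] [Algebra S T] (b : S) :
    IsUnit (1 - (algebraMap S T (s * b)) ^ 2) := by
  have h1 : IsUnit (1 - (s * b) ^ 2) := by
    have := Ideal.mem_jacobson_bot.mp hs (-(b * (s * b)))
    convert this using 1; ring
  have := h1.map (algebraMap S T)
  simpa using this

/-- Newton step for the equation `x^2 = t^n x` in a henselian pair `(A, tA)`. -/
theorem exists_root_of_approx {A : Type*} [CommRing A] (t : A)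
    [HenselianRing A (Ideal.span {t})]
    (n : ℕ) (a₀ c₀ : A) (h : a₀ ^ 2 - t ^ n * a₀ = t ^ (3 * n + 1) * c₀) :
    ∃ a₁ z : A, a₁ ^ 2 = t ^ n * a₁ ∧ a₁ = a₀ + t ^ (n + 1) * z := by
  have hjac : t ∈ Ideal.jacobson (⊥ : Ideal A) :=
    HenselianRing.jac (I := Ideal.span {t}) (Ideal.subset_span rfl)
  have hu : IsUnit (1 + 4 * t ^ (n + 1) * c₀) := by
    have := Ideal.mem_jacobson_bot.mp hjac (4 * t ^ n * c₀)
    convert this using 1; ring
  obtain ⟨u, hu'⟩ := hu
  set d := 2 * a₀ - t ^ n with hd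
  have hd2 : d ^ 2 = t ^ (2 * n) * u := by
    rw [hd, hu']; linear_combination 4 * h
  set c := (↑u⁻¹ : A) * t ^ (n + 1) * c₀ with hc
  have hcI : c ∈ Ideal.span {t} := by
    rw [Ideal.mem_span_singleton']
    exact ⟨(↑u⁻¹ : A) * t ^ n * c₀, by rw [hc]; ring⟩
  have hmonic : (X ^ 2 + X + C c : A[X]).Monic := by
    nontriviality A
    have : (X ^ 2 + X + C c : A[X]) = X ^ 2 + (X + C c) := by ring
    rw [this]
    apply Polynomial.monic_X_pow_add
    exact lt_of_le_of_lt (Polynomial.degree_X_add_C c).le (by norm_num)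
  obtain ⟨y, hy, hyI⟩ := HenselianRing.is_henselian (I := Ideal.span {t})
    (X ^ 2 + X + C c : A[X]) hmonic 0 (by simpa using hcI) (by simp)
  rw [sub_zero] at hyI
  have hy' : y ^ 2 + y + c = 0 := by simpa [Polynomial.IsRoot] using hy
  -- `y ∈ t^(n+1) A`
  have hjy : IsUnit (1 + y) := by
    obtain ⟨y', rfl⟩ := Ideal.mem_span_singleton'.mp hyI
    have := Ideal.mem_jacobson_bot.mp hjac y'
    convert this using 1; ring
  obtain ⟨v, hv⟩ := hjy
  have hyz : y = t ^ (n + 1) * (-(↑v⁻¹ : A) * ↑u⁻¹ * c₀) := by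
    have h1 : y * (1 + y) = -c := by linear_combination hy'
    have h2 : y = -c * ↑v⁻¹ := by
      rw [← h1, ← hv, mul_assoc, Units.mul_inv, mul_one]
    rw [h2, hc]; ring
  refine ⟨a₀ + d * y, d * (-(↑v⁻¹ : A) * ↑u⁻¹ * c₀), ?_, ?_⟩
  · -- `f(a₀ + d y) = f(a₀) + d * d y + d² y² = d² (c + y + y²)`
    have hfa : a₀ ^ 2 - t ^ n * a₀ = d ^ 2 * c := by
      rw [hd2, hc, h]
      have : (↑u : A) * ↑u⁻¹ = 1 := Units.mul_inv u
      linear_combination (-(t ^ (3 * n + 1) * c₀)) * this
    have : (a₀ + d * y) ^ 2 - t ^ n * (a₀ + d * y) =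
        (a₀ ^ 2 - t ^ n * a₀) + d ^ 2 * y + d ^ 2 * y ^ 2 := by
      rw [hd]; ring
    have h0 : (a₀ + d * y) ^ 2 - t ^ n * (a₀ + d * y) = 0 := by
      rw [this, hfa]; linear_combination d ^ 2 * hy'
    exact sub_eq_zero.mp h0
  · conv_lhs => rw [hyz]
    ring

/-- Abstract form: idempotents of `C[1/t]` lift uniquely to `A[1/t]` when `(A, tA)` is henselian,
`t` lies in the Jacobson radical of `C`, `A` is `t`-adically dense in `C` and `t^N C ∩ A = t^N A`. -/
theorem existsUnique_idem_lift {A C : Type*} [CommRing A] [CommRing C] (ι : A →+* C) (t : A)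
    [HenselianRing A (Ideal.span {t})]
    (hjC : ι t ∈ Ideal.jacobson (⊥ : Ideal C))
    (H3 : ∀ (a : C) (N : ℕ), ∃ (a₀ : A) (b : C), a = ι a₀ + ι t ^ N * b)
    (H4 : ∀ (x : A) (N : ℕ) (b : C), ι x = ι t ^ N * b → ∃ c : A, x = t ^ N * c)
    (e : Localization.Away (ι t)) (he : IsIdempotentElem e) :
    ∃! e₀ : Localization.Away t,
      IsIdempotentElem e₀ ∧ Localization.awayMap ι t e₀ = e := by
  have hjac : t ∈ Ideal.jacobson (⊥ : Ideal A) :=
    HenselianRing.jac (I := Ideal.span {t}) (Ideal.subset_span rfl)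
  -- units
  obtain ⟨τ, hτ⟩ := IsLocalization.Away.algebraMap_isUnit (S := Localization.Away (ι t)) (ι t)
  obtain ⟨τ₀, hτ₀⟩ := IsLocalization.Away.algebraMap_isUnit (S := Localization.Away t) t
  have hmapalg : ∀ x : A, Localization.awayMap ι t (algebraMap A (Localization.Away t) x) =
      algebraMap C (Localization.Away (ι t)) (ι x) := by
    intro x
    simp [Localization.awayMap, IsLocalization.Away.map, IsLocalization.map_eq]
  have hmapτ : Localization.awayMap ι t (τ₀ : Localization.Away t) = τ := by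
    rw [hτ₀, hmapalg, hτ]
  -- uniqueness principle in `Localization.Away t`
  have huniq : ∀ e₁ e₂ : Localization.Away t, IsIdempotentElem e₁ → IsIdempotentElem e₂ →
      Localization.awayMap ι t e₁ = Localization.awayMap ι t e₂ → e₁ = e₂ := by
    intro e₁ e₂ h1 h2 h12
    obtain ⟨k, x, hx⟩ := IsLocalization.Away.surj t (e₁ - e₂) (S := Localization.Away t)
    rw [← hτ₀] at hx
    have hzero : algebraMap C (Localization.Away (ι t)) (ι x) = 0 := by
      rw [← hmapalg, ← hx, map_mul, map_sub, h12, sub_self, zero_mul]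
    obtain ⟨⟨_, m, rfl⟩, hm⟩ :=
      (IsLocalization.map_eq_zero_iff (Submonoid.powers (ι t)) _ _).mp hzero
    have hm' : ι (t ^ m * x) = ι t ^ (m + k + 1) * 0 := by
      rw [mul_zero, map_mul, map_pow]; exact hm
    obtain ⟨c, hc⟩ := H4 _ _ _ hm'
    have hd : e₁ - e₂ = algebraMap A (Localization.Away t) (t * c) := by
      have h5 : (e₁ - e₂) * (τ₀ : Localization.Away t) ^ (k + m) =
          algebraMap A (Localization.Away t) (t * c) * (τ₀ : Localization.Away t) ^ (k + m) := by
        have : (e₁ - e₂) * (τ₀ : Localization.Away t) ^ (k + m) =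
            algebraMap A (Localization.Away t) (t ^ m * x) := by
          rw [map_mul, ← hx, map_pow, ← hτ₀, pow_add]; ring
        rw [this, hc, map_mul, map_mul, map_pow, ← hτ₀]
        ring
      have hu : IsUnit ((τ₀ : Localization.Away t) ^ (k + m)) := (τ₀ ^ (k + m)).isUnit
      exact hu.mul_left_injective h5
    apply idem_eq_of_isUnit h1 h2
    rw [hd]
    exact isUnit_one_sub_sq hjac c
  -- existence
  have hex : ∃ (a : C) (n : ℕ), e * (τ : Localization.Away (ι t)) ^ n =
      algebraMap C _ a ∧ a ^ 2 = ι t ^ n * a := by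
    obtain ⟨n, a, ha⟩ := IsLocalization.Away.surj (ι t) e (S := Localization.Away (ι t))
    rw [← hτ] at ha
    have h1 : algebraMap C (Localization.Away (ι t)) (a ^ 2) =
        algebraMap C (Localization.Away (ι t)) (ι t ^ n * a) := by
      rw [map_pow, map_mul, map_pow, ← ha, ← hτ]
      have : e * e = e := he
      calc (e * (τ : Localization.Away (ι t)) ^ n) ^ 2
          = (e * e) * ((τ : Localization.Away (ι t)) ^ n) ^ 2 := by ring
        _ = _ := by rw [this]; ring
    obtain ⟨⟨_, m, rfl⟩, hm⟩ := IsLocalization.exists_of_eq (M := Submonoid.powers (ι t)) h1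
    simp only at hm
    refine ⟨ι t ^ m * a, n + m, ?_, ?_⟩
    · rw [map_mul, ← ha, map_pow, ← hτ, pow_add]; ring
    · calc (ι t ^ m * a) ^ 2 = ι t ^ m * (ι t ^ m * a ^ 2) := by ring
        _ = ι t ^ m * (ι t ^ m * (ι t ^ n * a)) := by rw [hm]
        _ = _ := by rw [pow_add]; ring
  obtain ⟨a, n, hae, ha2⟩ := hex
  obtain ⟨a₀, b, hab⟩ := H3 a (3 * n + 1)
  have hfa : ι (a₀ ^ 2 - t ^ n * a₀) =
      ι t ^ (3 * n + 1) * (-2 * a * b + ι t ^ (3 * n + 1) * b ^ 2 + ι t ^ n * b) := by
    have h1 : ι a₀ = a - ι t ^ (3 * n + 1) * b := by rw [hab]; ring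
    rw [map_sub, map_pow, map_mul, map_pow, h1]
    linear_combination ha2
  obtain ⟨c₀, hc₀⟩ := H4 _ _ _ hfa
  obtain ⟨a₁, z, ha₁, ha₁z⟩ := exists_root_of_approx t n a₀ c₀ hc₀
  set e₀ : Localization.Away t :=
    algebraMap A (Localization.Away t) a₁ * ((τ₀⁻¹ : (Localization.Away t)ˣ) : Localization.Away t) ^ n
    with he₀
  have he₀τ : e₀ * (τ₀ : Localization.Away t) ^ n = algebraMap A (Localization.Away t) a₁ := by
    rw [he₀, mul_assoc, ← mul_pow, Units.inv_mul, one_pow, mul_one]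
  have hidem : IsIdempotentElem e₀ := by
    have hu : IsUnit ((τ₀ : Localization.Away t) ^ n * (τ₀ : Localization.Away t) ^ n) :=
      ((τ₀ ^ n * τ₀ ^ n)).isUnit
    apply hu.mul_left_injective
    show e₀ * e₀ * _ = e₀ * _
    calc e₀ * e₀ * ((τ₀ : Localization.Away t) ^ n * (τ₀ : Localization.Away t) ^ n)
        = (e₀ * (τ₀ : Localization.Away t) ^ n) ^ 2 := by ring
      _ = algebraMap A (Localization.Away t) (a₁ ^ 2) := by rw [he₀τ, map_pow]
      _ = algebraMap A (Localization.Away t) (t ^ n * a₁) := by rw [ha₁]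
      _ = (τ₀ : Localization.Away t) ^ n * (e₀ * (τ₀ : Localization.Away t) ^ n) := by
          rw [map_mul, map_pow, ← hτ₀, he₀τ]
      _ = _ := by ring
  have hmap : Localization.awayMap ι t e₀ = e := by
    have hidem' : IsIdempotentElem (Localization.awayMap ι t e₀) := hidem.map _
    have hdiff : e - Localization.awayMap ι t e₀ =
        algebraMap C (Localization.Away (ι t)) (ι t * (ι t ^ (2 * n) * b - ι z)) := by
      have hu : IsUnit ((τ : Localization.Away (ι t)) ^ n) := (τ ^ n).isUnit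
      apply hu.mul_left_injective
      show (e - _) * _ = _ * _
      have h1 : Localization.awayMap ι t e₀ * (τ : Localization.Away (ι t)) ^ n =
          algebraMap C (Localization.Away (ι t)) (ι a₁) := by
        rw [← hmapτ, ← map_pow, ← map_mul, he₀τ, hmapalg]
      rw [sub_mul, hae, h1, ← map_sub, hτ]
      rw [show (algebraMap C (Localization.Away (ι t)) (ι t)) ^ n =
        algebraMap C (Localization.Away (ι t)) (ι t ^ n) from (map_pow _ _ _).symm, ← map_mul]
      congr 1
      rw [ha₁z, hab, map_add, map_mul, map_pow]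
      ring
    have := idem_eq_of_isUnit he hidem' (by rw [hdiff]; exact isUnit_one_sub_sq hjC _)
    exact this.symm
  refine ⟨e₀, ⟨hidem, hmap⟩, ?_⟩
  rintro y ⟨hy1, hy2⟩
  exact huniq y e₀ hy1 hidem (by rw [hy2, hmap])

end Groth.Agent.Lib.LeadHI1
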