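import Mathlib
import Groth.Agent.Lib.LeadHI1

/-!
# Idempotents of `Â[1/t]` come from unique idempotents of `A[1/t]` for a henselian pair `(A, tA)`
-/

namespace Groth.Agent.Lib.LeadHI2

open Groth.Agent.Lib.LeadHI1

theorem existsUnique_idem_adicCompletion (A : Type*) [CommRing A] (t : A)
    [HenselianRing A (Ideal.span {t})]
    (e : Localization.Away (algebraMap A (AdicCompletion (Ideal.span {t}) A) t))
    (he : IsIdempotentElem e) :
    ∃! e₀ : Localization.Away t, IsIdempotentElem e₀ ∧
      Localization.awayMap (algebraMap A (AdicCompletion (Ideal.span {t}) A)) t e₀ = e := by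
  set I : Ideal A := Ideal.span {t} with hI
  have hfg : I.FG := ⟨{t}, by simp [hI]⟩
  have htI : t ∈ I := Ideal.subset_span rfl
  apply existsUnique_idem_lift (algebraMap A (AdicCompletion I A)) t
  · haveI := AdicCompletion.isAdicComplete_self I hfg
    exact IsAdicComplete.le_jacobson_bot (I.map (algebraMap A (AdicCompletion I A)))
      (Ideal.mem_map_of_mem _ htI)
  · intro a N
    obtain ⟨a₀, ha₀⟩ := Ideal.Quotient.mk_surjective (AdicCompletion.evalₐ I N a)
    have h0 : AdicCompletion.evalₐ I N (a - algebraMap A _ a₀) = 0 := by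
      rw [map_sub, AlgHom.commutes, Ideal.Quotient.algebraMap_eq, ha₀, sub_self]
    have hker : a - algebraMap A _ a₀ ∈ LinearMap.ker (AdicCompletion.eval I A N) := by
      rw [LinearMap.mem_ker,
        ← AdicCompletion.factor_evalₐ_eq_eval (I := I) (a - algebraMap A _ a₀) (by simp), h0,
        map_zero]
    have hpow : I ^ N = Ideal.span {t ^ N} := by rw [hI, Ideal.span_singleton_pow]
    rw [← AdicCompletion.pow_smul_top_eq_ker_eval hfg, hpow,
      Submodule.ideal_span_singleton_smul] at hker
    obtain ⟨b, -, hb⟩ := hker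
    refine ⟨a₀, b, ?_⟩
    have hb' : t ^ N • b = a - algebraMap A _ a₀ := hb
    rw [← map_pow, ← Algebra.smul_def, hb']; ring
  · intro x N b hb
    have hz : Ideal.Quotient.mk (I ^ N) (t ^ N) = 0 :=
      Ideal.Quotient.eq_zero_iff_mem.mpr (Ideal.pow_mem_pow htI N)
    have h1 : AdicCompletion.evalₐ I N (algebraMap A _ x) = 0 := by
      rw [hb, map_mul, map_pow, AlgHom.commutes, ← map_pow, Ideal.Quotient.algebraMap_eq, hz,
        zero_mul]
    have hpow : I ^ N = Ideal.span {t ^ N} := by rw [hI, Ideal.span_singleton_pow]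
    rw [AlgHom.commutes, Ideal.Quotient.algebraMap_eq, Ideal.Quotient.eq_zero_iff_mem, hpow,
      Ideal.mem_span_singleton'] at h1
    obtain ⟨c, hc⟩ := h1
    exact ⟨c, by rw [← hc]; ring⟩
  · exact he

end Groth.Agent.Lib.LeadHI2
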