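import Mathlib

/-!
# Power series `a` with `a^2 = X^n a` are `r X^n` for an idempotent `r`
-/

namespace Groth.Agent.Lib.LeadHI3

open PowerSeries

/-- If `s` has nilpotent coefficients then `X^m - s` is a nonzerodivisor of `R⟦X⟧`. -/
theorem eq_zero_of_X_pow_sub_mul {R : Type*} [CommRing R] (m : ℕ) (s z : R⟦X⟧)
    (hs : ∀ i, IsNilpotent (coeff i s)) (h : (X ^ m - s) * z = 0) : z = 0 := by
  obtain ⟨p, ν, hdec, hν, hu⟩ :
      ∃ p ν : R⟦X⟧, s = p * X ^ m + ν ∧ IsNilpotent ν ∧ IsUnit (1 - p) := by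
    refine ⟨PowerSeries.mk fun i => coeff (i + m) s, ((trunc m s : Polynomial R) : R⟦X⟧),
      eq_shift_mul_X_pow_add_trunc m s, ?_, ?_⟩
    · have : IsNilpotent (trunc m s) := by
        rw [Polynomial.isNilpotent_iff]
        intro i
        rw [coeff_trunc]
        split_ifs
        · exact hs i
        · exact IsNilpotent.zero
      exact this.map (Polynomial.coeToPowerSeries.ringHom)
    · rw [isUnit_iff_constantCoeff]
      have : constantCoeff (1 - PowerSeries.mk fun i => coeff (i + m) s) = 1 - coeff m s := by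
        rw [map_sub, map_one, ← coeff_zero_eq_constantCoeff_apply, coeff_mk, zero_add]
      rw [this]
      exact (hs m).isUnit_one_sub
  obtain ⟨k, hk⟩ := hν
  have h1 : X ^ m * (1 - p) * z = ν * z := by
    have : (X ^ m - s) * z = X ^ m * (1 - p) * z - ν * z := by rw [hdec]; ring
    rw [this] at h
    exact sub_eq_zero.mp h
  have h2 : ∀ j : ℕ, (X ^ m * (1 - p)) ^ j * z = ν ^ j * z := by
    intro j
    induction j with
    | zero => simp
    | succ j ih =>
      calc (X ^ m * (1 - p)) ^ (j + 1) * z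
          = (X ^ m * (1 - p)) ^ j * (X ^ m * (1 - p) * z) := by ring
        _ = (X ^ m * (1 - p)) ^ j * (ν * z) := by rw [h1]
        _ = ν * ((X ^ m * (1 - p)) ^ j * z) := by ring
        _ = ν * (ν ^ j * z) := by rw [ih]
        _ = _ := by ring
  have h3 := h2 k
  rw [hk, zero_mul, mul_pow, ← pow_mul, mul_assoc] at h3
  have h4 : (1 - p) ^ k * z = 0 := by
    apply X_pow_mul_cancel (k := m * k)
    rw [h3, mul_zero]
  exact (hu.pow k).mul_right_eq_zero.mp h4

/-- A power series `a` with `a^2 = X^n a` equals `C r * X^n` for an idempotent `r`. -/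
theorem exists_idem_of_sq_eq {R : Type*} [CommRing R] (n : ℕ) (a : R⟦X⟧)
    (ha : a ^ 2 = X ^ n * a) :
    ∃ r : R, IsIdempotentElem r ∧ a = C r * X ^ n := by
  have hprime : ∀ (p : Ideal R) [p.IsPrime],
      (∀ i, i ≠ n → coeff i a ∈ p) ∧ (coeff n a) ^ 2 - coeff n a ∈ p := by
    intro p hp
    have h1 : PowerSeries.map (Ideal.Quotient.mk p) a *
        (PowerSeries.map (Ideal.Quotient.mk p) a - X ^ n) = 0 := by
      have := congrArg (PowerSeries.map (Ideal.Quotient.mk p)) ha
      rw [map_pow, map_mul, map_pow, PowerSeries.map_X] at this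
      linear_combination this
    rcases mul_eq_zero.mp h1 with h0 | h0
    · have hc : ∀ i, coeff i a ∈ p := by
        intro i
        have := congrArg (coeff i) h0
        rw [PowerSeries.coeff_map, map_zero] at this
        exact Ideal.Quotient.eq_zero_iff_mem.mp this
      exact ⟨fun i _ => hc i, p.sub_mem (Ideal.pow_mem_of_mem p (hc n) 2 (by norm_num)) (hc n)⟩
    · have hc : ∀ i, Ideal.Quotient.mk p (coeff i a) = if i = n then 1 else 0 := by
        intro i
        have := congrArg (coeff i) (sub_eq_zero.mp h0)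
        rwa [PowerSeries.coeff_map, coeff_X_pow] at this
      refine ⟨fun i hi => ?_, ?_⟩
      · have := hc i
        rw [if_neg hi] at this
        exact Ideal.Quotient.eq_zero_iff_mem.mp this
      · rw [← Ideal.Quotient.eq_zero_iff_mem, map_sub, map_pow, hc n, if_pos rfl]; ring
  have hnil : ∀ x : R, (∀ (p : Ideal R) [p.IsPrime], x ∈ p) → IsNilpotent x := by
    intro x hx
    rw [← mem_nilradical, nilradical_eq_sInf, Ideal.mem_sInf]
    intro p hp
    exact @hx p hp
  have hcn : ∀ i, i ≠ n → IsNilpotent (coeff i a) :=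
    fun i hi => hnil _ (fun p hp => ((hprime p).1 i hi))
  have hα : IsNilpotent ((coeff n a) ^ 2 - coeff n a) := hnil _ (fun p hp => (hprime p).2)
  obtain ⟨r, hr, hrα⟩ := exists_isIdempotentElem_eq_of_ker_isNilpotent
    (Ideal.Quotient.mk (nilradical R))
    (by
      intro x hx
      rw [RingHom.mem_ker, Ideal.Quotient.eq_zero_iff_mem] at hx
      exact mem_nilradical.mp hx)
    (Ideal.Quotient.mk _ (coeff n a)) ⟨_, rfl⟩ (by
      show _ * _ = _
      rw [← map_mul, ← sub_eq_zero, ← map_sub, Ideal.Quotient.eq_zero_iff_mem, mem_nilradical]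
      convert hα using 1; ring)
  have hrα' : IsNilpotent (coeff n a - r) := by
    rw [← mem_nilradical, ← Ideal.Quotient.eq_zero_iff_mem, map_sub, hrα, sub_self]
  refine ⟨r, hr, ?_⟩
  set y : R⟦X⟧ := C r * X ^ n with hy
  have hδc : ∀ i, IsNilpotent (coeff i (a - y)) := by
    intro i
    rw [hy, map_sub, coeff_C_mul, coeff_X_pow]
    by_cases hi : i = n
    · subst hi
      rw [if_pos rfl, mul_one]; exact hrα'
    · rw [if_neg hi, mul_zero, sub_zero]; exact hcn i hi
  have hy2 : y ^ 2 = X ^ n * y := by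
    have : (C r : R⟦X⟧) * C r = C r := by rw [← map_mul, hr.eq]
    rw [hy]
    calc (C r * X ^ n) ^ 2 = (C r * C r) * X ^ n * X ^ n := by ring
      _ = _ := by rw [this]; ring
  have h3 : (X ^ (2 * n) - (a - y) ^ 2) * (a - y) = 0 := by
    linear_combination (-(a + X ^ n - 3 * y)) * ha + (-(3 * a - y - X ^ n)) * hy2
  have hδ2 : ∀ i, IsNilpotent (coeff i ((a - y) ^ 2)) := by
    intro i
    rw [← mem_nilradical, pow_two, coeff_mul]
    exact Ideal.sum_mem _ (fun c _ => Ideal.mul_mem_left _ _ (mem_nilradical.mpr (hδc c.2)))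
  have := eq_zero_of_X_pow_sub_mul (2 * n) ((a - y) ^ 2) (a - y) hδ2 h3
  exact sub_eq_zero.mp this

end Groth.Agent.Lib.LeadHI3
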