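import Mathlib
import Groth.Agent.Lib.LeadHI1
import Groth.Agent.Lib.LeadHI3
import Groth.Agent.Lib.Helper26PairHzUnique

/-!
# Idempotents of `B[1/t]`, `B` a henselization of `R[t]` along `(t)`, come from `R`
-/

universe u

namespace Groth.Agent.Lib.LeadHI4

open Polynomial Groth.Agent.Lib.LeadHI1 Groth.Agent.Lib.LeadHI3

/-- An idempotent of `S[1/s]` is `a / s^n` with `a^2 = s^n a`. -/
theorem exists_repr {S : Type*} [CommRing S] (s : S) (e : Localization.Away s)
    (he : IsIdempotentElem e) :
    ∃ (a : S) (n : ℕ), e * (algebraMap S (Localization.Away s) s) ^ n =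
      algebraMap S _ a ∧ a ^ 2 = s ^ n * a := by
  obtain ⟨n, a, ha⟩ := IsLocalization.Away.surj s e (S := Localization.Away s)
  have h1 : algebraMap S (Localization.Away s) (a ^ 2) =
      algebraMap S (Localization.Away s) (s ^ n * a) := by
    rw [map_pow, map_mul, map_pow, ← ha]
    have : e * e = e := he
    calc (e * (algebraMap S (Localization.Away s) s) ^ n) ^ 2
        = (e * e) * ((algebraMap S (Localization.Away s) s) ^ n) ^ 2 := by ring
      _ = _ := by rw [this]; ring
  obtain ⟨⟨_, m, rfl⟩, hm⟩ := IsLocalization.exists_of_eq (M := Submonoid.powers s) h1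
  simp only at hm
  refine ⟨s ^ m * a, n + m, ?_, ?_⟩
  · rw [map_mul, ← ha, map_pow, pow_add]; ring
  · calc (s ^ m * a) ^ 2 = s ^ m * (s ^ m * a ^ 2) := by ring
      _ = s ^ m * (s ^ m * (s ^ n * a)) := by rw [hm]
      _ = _ := by rw [pow_add]; ring

theorem existsUnique_idem_henselization (R : Type u) [CommRing R] (B : Type u) [CommRing B]
    [Algebra R[X] B]
    (hB : Hens2.IsPairHenselization R[X] (Ideal.span {(X : R[X])}) B)
    (e : Localization.Away (algebraMap R[X] B X)) (he : IsIdempotentElem e) :
    ∃! r : R, IsIdempotentElem r ∧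
      algebraMap B (Localization.Away (algebraMap R[X] B X))
        (algebraMap R[X] B (Polynomial.C r)) = e := by
  have hmap : (Ideal.span {(X : R[X])}).map (algebraMap R[X] B) =
      Ideal.span {algebraMap R[X] B X} := by
    rw [Ideal.map_span, Set.image_singleton]
  have hhens : HenselianRing B (Ideal.span {algebraMap R[X] B X}) := hmap ▸ hB.1
  have hjac : algebraMap R[X] B X ∈ Ideal.jacobson (⊥ : Ideal B) :=
    hhens.jac (Ideal.subset_span rfl)
  -- the map to power series
  obtain ⟨ψ, hψ, -⟩ := hB.2 (PowerSeries R) (Ideal.span {PowerSeries.X})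
    (Polynomial.coeToPowerSeries.ringHom) inferInstance (by
      rw [Ideal.map_span, Set.image_singleton]
      simp)
  have hψalg : ∀ p : R[X], ψ (algebraMap R[X] B p) = (p : PowerSeries R) := fun p => by
    have := congrArg (fun f => f p) hψ
    simpa using this
  have hψt : ψ (algebraMap R[X] B X) = PowerSeries.X := by rw [hψalg, Polynomial.coe_X]
  -- kernel of ψ is infinitely `t`-divisible
  have hK : ∀ (b : B) (N : ℕ), ψ b = 0 → ∃ w : B, b = (algebraMap R[X] B X) ^ N * w := by
    intro b N hb
    obtain ⟨z, hz⟩ := (Groth.Agent.Lib.Helper26.PairHz.quotientMap_pow_bijective hB N).2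
      (Ideal.Quotient.mk _ b)
    obtain ⟨p, rfl⟩ := Ideal.Quotient.mk_surjective z
    rw [Ideal.quotientMap_mk, Ideal.Quotient.eq] at hz
    have hIN : ((Ideal.span {(X : R[X])}) ^ N).map (algebraMap R[X] B) =
        Ideal.span {(algebraMap R[X] B X) ^ N} := by
      rw [Ideal.span_singleton_pow, Ideal.map_span, Set.image_singleton, map_pow]
    rw [hIN, Ideal.mem_span_singleton'] at hz
    obtain ⟨b', hb'⟩ := hz
    have h1 : (p : PowerSeries R) = PowerSeries.X ^ N * ψ b' := by
      have := congrArg ψ hb'
      rw [map_mul, map_pow, hψt, map_sub, hψalg, hb, sub_zero] at this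
      rw [← this]; ring
    have hc : ∀ i, i < N → p.coeff i = 0 := by
      intro i hi
      have := congrArg (PowerSeries.coeff i) h1
      rw [Polynomial.coeff_coe, PowerSeries.coeff_X_pow_mul', if_neg (not_le.mpr hi)] at this
      exact this
    obtain ⟨q, rfl⟩ := Polynomial.X_pow_dvd_iff.mpr hc
    refine ⟨algebraMap R[X] B q - b', ?_⟩
    have : b = algebraMap R[X] B (X ^ N * q) - b' * (algebraMap R[X] B X) ^ N := by
      rw [hb']; ring
    rw [this, map_mul, map_pow]; ring
  -- existence
  obtain ⟨a, n, hae, ha2⟩ := exists_repr (algebraMap R[X] B X) e he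
  have hψa : (ψ a) ^ 2 = PowerSeries.X ^ n * ψ a := by
    rw [← map_pow, ha2, map_mul, map_pow, hψt]
  obtain ⟨r, hr, hra⟩ := exists_idem_of_sq_eq n (ψ a) hψa
  have hker : ψ (a - (algebraMap R[X] B X) ^ n * algebraMap R[X] B (C r)) = 0 := by
    rw [map_sub, map_mul, map_pow, hψt, hψalg, Polynomial.coe_C, hra]; ring
  obtain ⟨w, hw⟩ := hK _ (n + 1) hker
  have hidem : IsIdempotentElem (algebraMap B (Localization.Away (algebraMap R[X] B X))
      (algebraMap R[X] B (C r))) := by
    have h1 : IsIdempotentElem (C r : R[X]) := hr.map C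
    exact (h1.map (algebraMap R[X] B)).map _
  have hmain : algebraMap B (Localization.Away (algebraMap R[X] B X))
      (algebraMap R[X] B (C r)) = e := by
    obtain ⟨τ, hτ⟩ := IsLocalization.Away.algebraMap_isUnit
      (S := Localization.Away (algebraMap R[X] B X)) (algebraMap R[X] B X)
    have hdiff : e - algebraMap B (Localization.Away (algebraMap R[X] B X))
        (algebraMap R[X] B (C r)) =
        algebraMap B (Localization.Away (algebraMap R[X] B X)) (algebraMap R[X] B X * w) := by
      have hu : IsUnit ((τ : Localization.Away (algebraMap R[X] B X)) ^ n) := (τ ^ n).isUnit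
      apply hu.mul_left_injective
      show (e - _) * _ = _ * _
      rw [sub_mul, hτ, hae]
      rw [show (algebraMap B (Localization.Away (algebraMap R[X] B X)) (algebraMap R[X] B X)) ^ n =
        algebraMap B (Localization.Away (algebraMap R[X] B X)) ((algebraMap R[X] B X) ^ n) from
        (map_pow _ _ _).symm, ← map_mul, ← map_sub, ← map_mul]
      congr 1
      have : a = (algebraMap R[X] B X) ^ n * algebraMap R[X] B (C r) +
          (algebraMap R[X] B X) ^ (n + 1) * w := by rw [← hw]; ring
      rw [this]; ring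
    have := idem_eq_of_isUnit he hidem (by rw [hdiff]; exact isUnit_one_sub_sq hjac _)
    exact this.symm
  refine ⟨r, ⟨hr, hmain⟩, ?_⟩
  rintro r' ⟨-, hr'⟩
  have h1 : algebraMap B (Localization.Away (algebraMap R[X] B X)) (algebraMap R[X] B (C r')) =
      algebraMap B (Localization.Away (algebraMap R[X] B X)) (algebraMap R[X] B (C r)) := by
    rw [hr', hmain]
  obtain ⟨⟨_, m, rfl⟩, hm⟩ :=
    IsLocalization.exists_of_eq (M := Submonoid.powers (algebraMap R[X] B X)) h1
  simp only at hm
  have h2 := congrArg ψ hm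
  rw [map_mul, map_mul, map_pow, hψt, hψalg, hψalg, Polynomial.coe_C, Polynomial.coe_C] at h2
  exact PowerSeries.C_injective (PowerSeries.X_pow_mul_cancel h2)

end Groth.Agent.Lib.LeadHI4
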