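import Mathlib

/-! Taylor homomorphism (total Hasse derivative) on power series and Laurent series. -/

namespace Groth.Agent.Lib.LeadHS

open PowerSeries Finset

section PS
variable {F : Type*} [CommRing F]

/-- `j`-th Hasse derivative of a power series. -/
noncomputable def hd (j : ℕ) (f : F⟦X⟧) : F⟦X⟧ :=
  PowerSeries.mk fun m => ((m + j).choose j : F) * coeff (m + j) f

lemma coeff_hd (j m : ℕ) (f : F⟦X⟧) :
    coeff m (hd j f) = ((m + j).choose j : F) * coeff (m + j) f := by
  simp [hd, coeff_mk]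

lemma hd_zero (f : F⟦X⟧) : hd 0 f = f := by
  ext m; simp [coeff_hd]

lemma hd_add (j : ℕ) (f g : F⟦X⟧) : hd j (f + g) = hd j f + hd j g := by
  ext m; simp [coeff_hd, mul_add]

lemma hd_zero' (j : ℕ) : hd j (0 : F⟦X⟧) = 0 := by
  ext m; simp [coeff_hd]

theorem hd_mul (j : ℕ) (f g : F⟦X⟧) :
    hd j (f * g) = ∑ ij ∈ antidiagonal j, hd ij.1 f * hd ij.2 g := by
  ext m
  set N := m + j + 1 with hN
  set p := trunc N f with hp
  set q := trunc N g with hq
  have hpc : ∀ i, i < N → p.coeff i = coeff i f := fun i hi => by rw [hp, coeff_trunc, if_pos hi]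
  have hqc : ∀ i, i < N → q.coeff i = coeff i g := fun i hi => by rw [hq, coeff_trunc, if_pos hi]
  have h1 := congrArg (fun r => Polynomial.coeff r m) (Polynomial.hasseDeriv_mul (k := j) p q)
  simp only [Polynomial.hasseDeriv_coeff, Polynomial.finset_sum_coeff, Polynomial.coeff_mul] at h1
  rw [coeff_hd, coeff_mul, map_sum]
  simp only [coeff_mul, coeff_hd]
  have e1 : ∑ x ∈ antidiagonal (m + j), p.coeff x.1 * q.coeff x.2 =
      ∑ x ∈ antidiagonal (m + j), coeff x.1 f * coeff x.2 g := by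
    apply Finset.sum_congr rfl
    intro x hx
    rw [Finset.HasAntidiagonal.mem_antidiagonal] at hx
    rw [hpc _ (by omega), hqc _ (by omega)]
  rw [e1] at h1
  rw [h1]
  apply Finset.sum_congr rfl
  intro ij hij
  rw [Finset.HasAntidiagonal.mem_antidiagonal] at hij
  apply Finset.sum_congr rfl
  intro x hx
  rw [Finset.HasAntidiagonal.mem_antidiagonal] at hx
  rw [hpc _ (by omega), hqc _ (by omega)]

lemma hd_one (j : ℕ) : hd j (1 : F⟦X⟧) = if j = 0 then 1 else 0 := by
  ext m
  rw [coeff_hd, coeff_one]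
  split_ifs with h1 h2 h2
  · have : m = 0 := by omega
    subst this; subst h2; simp
  · omega
  · subst h2
    have : m ≠ 0 := by omega
    simp [coeff_one, this]
  · simp

lemma hd_X_one : hd 1 (X : F⟦X⟧) = 1 := by
  ext m
  rw [coeff_hd, coeff_X, coeff_one]
  by_cases hm : m = 0
  · subst hm; simp
  · rw [if_neg (by omega), if_neg hm, mul_zero]

lemma hd_X_of_two_le {j : ℕ} (hj : 2 ≤ j) : hd j (X : F⟦X⟧) = 0 := by
  ext m
  rw [coeff_hd, coeff_X, if_neg (by omega), mul_zero, map_zero]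

/-- the Taylor homomorphism `f(X) ↦ f(X + T)` on power series. -/
noncomputable def taylor₀ : F⟦X⟧ →+* (F⟦X⟧)⟦X⟧ where
  toFun f := PowerSeries.mk fun j => hd j f
  map_one' := PowerSeries.ext fun j => by
    rw [coeff_mk, hd_one, coeff_one]
  map_mul' f g := PowerSeries.ext fun j => by
    rw [coeff_mk, hd_mul, coeff_mul]
    simp only [coeff_mk]
  map_zero' := PowerSeries.ext fun j => by
    rw [coeff_mk, hd_zero', map_zero]
  map_add' f g := PowerSeries.ext fun j => by
    rw [coeff_mk, hd_add, map_add, coeff_mk, coeff_mk]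

@[simp] lemma coeff_taylor₀ (j : ℕ) (f : F⟦X⟧) : coeff j (taylor₀ f) = hd j f := by
  simp [taylor₀, coeff_mk]

lemma taylor₀_X : taylor₀ (X : F⟦X⟧) = PowerSeries.C (X : F⟦X⟧) + X := by
  refine PowerSeries.ext fun j => ?_
  rw [coeff_taylor₀, map_add, coeff_C, coeff_X]
  rcases (by omega : j = 0 ∨ j = 1 ∨ 2 ≤ j) with h | h | h
  · subst h; simp [hd_zero]
  · subst h; simp [hd_X_one]
  · rw [hd_X_of_two_le h, if_neg (by omega), if_neg (by omega), add_zero]

end PS

section LS
variable {F : Type*} [Field F]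

open LaurentSeries

/-- coefficientwise coercion composed with the power-series Taylor map. -/
noncomputable def taylorAux : F⟦X⟧ →+* PowerSeries (F⸨X⸩) :=
  (PowerSeries.map (HahnSeries.ofPowerSeries ℤ F)).comp taylor₀

lemma constantCoeff_taylorAux (f : F⟦X⟧) :
    constantCoeff (taylorAux f) = HahnSeries.ofPowerSeries ℤ F f := by
  rw [← coeff_zero_eq_constantCoeff_apply]
  simp [taylorAux, hd_zero]

lemma isUnit_taylorAux (y : Submonoid.powers (X : F⟦X⟧)) : IsUnit (taylorAux (y : F⟦X⟧)) := by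
  rw [PowerSeries.isUnit_iff_constantCoeff, constantCoeff_taylorAux]
  apply IsUnit.mk0
  obtain ⟨n, hn⟩ := y.2
  rw [← hn, map_pow]
  apply pow_ne_zero
  rw [HahnSeries.ofPowerSeries_X]
  exact HahnSeries.single_ne_zero one_ne_zero

/-- the Taylor homomorphism `f(X) ↦ f(X + T)` on Laurent series. -/
noncomputable def taylor : F⸨X⸩ →+* PowerSeries (F⸨X⸩) :=
  IsLocalization.lift (M := Submonoid.powers (X : F⟦X⟧)) (g := taylorAux) isUnit_taylorAux

lemma taylor_coe (f : F⟦X⟧) : taylor (HahnSeries.ofPowerSeries ℤ F f) = taylorAux f := by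
  have := IsLocalization.lift_eq (M := Submonoid.powers (X : F⟦X⟧)) (S := F⸨X⸩)
    (g := taylorAux) isUnit_taylorAux f
  rwa [LaurentSeries.coe_algebraMap] at this

lemma coeff_taylor_coe (j : ℕ) (f : F⟦X⟧) :
    coeff j (taylor (HahnSeries.ofPowerSeries ℤ F f)) = HahnSeries.ofPowerSeries ℤ F (hd j f) := by
  rw [taylor_coe]
  simp [taylorAux]

lemma constantCoeff_taylor (g : F⸨X⸩) : constantCoeff (taylor g) = g := by
  have h : (constantCoeff (R := F⸨X⸩)).comp taylor = RingHom.id _ := by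
    apply IsLocalization.ringHom_ext (Submonoid.powers (X : F⟦X⟧))
    ext f
    simp only [RingHom.comp_apply, RingHom.id_apply]
    rw [LaurentSeries.coe_algebraMap, taylor_coe, constantCoeff_taylorAux]
  exact congrFun (congrArg DFunLike.coe h) g

lemma taylor_single_one : taylor (HahnSeries.single (1 : ℤ) (1 : F)) =
    PowerSeries.C (HahnSeries.single (1 : ℤ) (1 : F)) + X := by
  rw [← HahnSeries.ofPowerSeries_X, taylor_coe]
  simp [taylorAux, taylor₀_X]

lemma hasseDeriv_coe (j : ℕ) (f : F⟦X⟧) :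
    LaurentSeries.hasseDeriv F j (HahnSeries.ofPowerSeries ℤ F f) =
      HahnSeries.ofPowerSeries ℤ F (hd j f) := by
  ext n
  rw [LaurentSeries.hasseDeriv_coeff, PowerSeries.coeff_coe, PowerSeries.coeff_coe]
  by_cases hn : n < 0
  · rw [if_pos hn]
    by_cases hnj : n + j < 0
    · rw [if_pos hnj, smul_zero]
    · rw [if_neg hnj]
      obtain ⟨r, hr⟩ := Int.eq_ofNat_of_zero_le (not_lt.mp hnj)
      rw [hr, Ring.choose_natCast, Nat.choose_eq_zero_of_lt (by omega)]
      simp
  · rw [if_neg hn, if_neg (by omega), coeff_hd]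
    obtain ⟨r, hr⟩ := Int.eq_ofNat_of_zero_le (not_lt.mp hn)
    subst hr
    have h1 : ((r : ℤ) + (j : ℤ)) = ((r + j : ℕ) : ℤ) := by push_cast; ring
    rw [h1, Ring.choose_natCast, Int.natAbs_natCast, Int.natAbs_natCast]
    simp

end LS

end Groth.Agent.Lib.LeadHS
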