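import Groth.Agent.Lib.LeadHS9

/-! Orders at a place = orders of vanishing of sections (S12607, S12617). -/

namespace Groth.Agent.Lib.LeadHS

open PowerSeries FunFld WithZero Groth.Agent.Lib.LeadFF LaurentSeries

universe u v
variable {k : Type u} {K : Type v} [Field k] [Field K] [Algebra k K]

lemma hcolAt_zero_eq_one {ι : Type*} (P : Place k K) {t : K} {Ht : K →ₐ[k] PowerSeries K}
    (hHt : LocRes.IsHasseFamily t Ht) (φ : ι → K) : hcolAt P Ht φ 0 = hcolAt P Ht φ 1 := by
  ext i
  show evalP P (φ i) = evalP P (LocRes.hasseD Ht 0 (φ i))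
  rw [hasseD_zero hHt]

/-- coefficient description of the columns at a place. -/
lemma hcolAt_setup [IsAlgClosed k] (hK : IsFunctionField k K) (P : Place k K) {ι : Type*}
    [Fintype ι] (φ : ι → K) (hnorm : ∀ i, P.1 (φ i) ≤ 1) {t : K} (ht : P.1 t = exp (-1 : ℤ))
    {Ht : K →ₐ[k] PowerSeries K} (hHt : LocRes.IsHasseFamily t Ht) :
    ∃ f : ι → k⟦X⟧, (∀ m i, hcolAt P Ht φ (m + 1) i =
        algebraMap k (IsLocalRing.ResidueField P.O) (coeff m (f i))) ∧
      ∀ b : ι → k, P.1 (∑ i, b i • φ i) =
        Valued.v (HahnSeries.ofPowerSeries ℤ k (∑ i, b i • f i)) := by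
  obtain ⟨ε, hv, hεc, hε⟩ := hasse_at_place hK P ht hHt
  choose f hf hfj using fun i => hε (φ i) (hnorm i)
  refine ⟨f, fun m i => (hfj i m).2, fun b => ?_⟩
  rw [← hv]
  congr 1
  rw [map_sum, map_sum]
  apply Finset.sum_congr rfl
  intro i _
  rw [Algebra.smul_def, map_mul, hεc, hf i, PowerSeries.smul_eq_C_mul, map_mul,
    HahnSeries.ofPowerSeries_C]

lemma val_coe_eq_exp_iff {F : k⟦X⟧} {j : ℕ} :
    Valued.v (HahnSeries.ofPowerSeries ℤ k F) = exp (-(j : ℤ)) ↔
      (∀ m < j, coeff m F = 0) ∧ coeff j F ≠ 0 := by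
  rw [Groth.Agent.Lib.LeadMS.val_eq_exp_iff]
  constructor
  · rintro ⟨h1, h2⟩
    constructor
    · intro m hm
      have := h1 (m : ℤ) (by exact_mod_cast hm)
      rwa [PowerSeries.coeff_coe, if_neg (by omega), Int.natAbs_natCast] at this
    · rwa [PowerSeries.coeff_coe, if_neg (by omega), Int.natAbs_natCast] at h2
  · rintro ⟨h1, h2⟩
    constructor
    · intro m hm
      rw [PowerSeries.coeff_coe]
      split_ifs with hneg
      · rfl
      · apply h1
        omega
    · rwa [PowerSeries.coeff_coe, if_neg (by omega), Int.natAbs_natCast]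

theorem isJump_at_iff [IsAlgClosed k] (hK : IsFunctionField k K) (P : Place k K) {ι : Type*}
    [Fintype ι] (φ : ι → K) (hnorm : ∀ i, P.1 (φ i) ≤ 1) {t : K} (ht : P.1 t = exp (-1 : ℤ))
    {Ht : K →ₐ[k] PowerSeries K} (hHt : LocRes.IsHasseFamily t Ht) {j : ℕ} (hj : 1 ≤ j) :
    IsJump (IsLocalRing.ResidueField P.O) (hcolAt P Ht φ) (j + 1) ↔
      ∃ g ∈ Submodule.span k (Set.range φ), P.1 g = exp (-(j : ℤ)) := by
  classical
  obtain ⟨f, hcol, hval⟩ := hcolAt_setup hK P φ hnorm ht hHt
  have hinj : Function.Injective (algebraMap k (IsLocalRing.ResidueField P.O)) :=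
    (algebraMap k (IsLocalRing.ResidueField P.O)).injective
  have hdot : ∀ (b : ι → k) (m : ℕ),
      ∑ i, algebraMap k (IsLocalRing.ResidueField P.O) (b i) * hcolAt P Ht φ (m + 1) i =
        algebraMap k (IsLocalRing.ResidueField P.O) (coeff m (∑ i, b i • f i)) := by
    intro b m
    rw [map_sum, map_sum]
    apply Finset.sum_congr rfl
    intro i _
    rw [hcol, PowerSeries.coeff_smul, smul_eq_mul, map_mul]
  constructor
  · intro hjump
    unfold IsJump at hjump
    obtain ⟨f', hf'1, hf'2⟩ := Submodule.exists_dual_map_eq_bot_of_notMem hjump inferInstance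
    have hfa : ∀ v : ι → IsLocalRing.ResidueField P.O,
        f' v = ∑ i, v i * f' (fun j => if i = j then 1 else 0) := by
      intro v
      rw [LinearMap.pi_apply_eq_sum_univ f' v]
      simp only [smul_eq_mul]
    have hsurj := residue_surjective_of_algClosed hK P
    choose b hb using fun i => hsurj (f' (fun j => if i = j then 1 else 0))
    have hf'c : ∀ m, f' (hcolAt P Ht φ (m + 1)) =
        algebraMap k (IsLocalRing.ResidueField P.O) (coeff m (∑ i, b i • f i)) := by
      intro m
      rw [hfa, ← hdot]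
      apply Finset.sum_congr rfl
      intro i _
      rw [hb, mul_comm]
    refine ⟨∑ i, b i • φ i, ?_, ?_⟩
    · apply Submodule.sum_mem
      intro i _
      exact Submodule.smul_mem _ _ (Submodule.subset_span ⟨i, rfl⟩)
    · rw [hval, val_coe_eq_exp_iff]
      constructor
      · intro m hm
        apply hinj
        rw [map_zero, ← hf'c]
        have h1 : f' (hcolAt P Ht φ (m + 1)) ∈ Submodule.map f'
            (Submodule.span _ (hcolAt P Ht φ '' Set.Iio (j + 1))) :=
          Submodule.mem_map_of_mem (Submodule.subset_span ⟨m + 1, by rw [Set.mem_Iio]; omega, rfl⟩)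
        rw [hf'2] at h1
        exact (Submodule.mem_bot _).mp h1
      · intro h0
        apply hf'1
        rw [hf'c, h0, map_zero]
  · rintro ⟨g, hg, hPg⟩
    obtain ⟨b, rfl⟩ := (Submodule.mem_span_range_iff_exists_fun k).mp hg
    rw [hval, val_coe_eq_exp_iff] at hPg
    obtain ⟨h1, h2⟩ := hPg
    let a : (ι → IsLocalRing.ResidueField P.O) →ₗ[IsLocalRing.ResidueField P.O]
        IsLocalRing.ResidueField P.O :=
      ∑ i, (algebraMap k (IsLocalRing.ResidueField P.O) (b i)) • LinearMap.proj i
    have ha : ∀ v, a v = ∑ i, algebraMap k (IsLocalRing.ResidueField P.O) (b i) * v i := by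
      intro v
      simp [a, LinearMap.sum_apply]
    have hac : ∀ m, a (hcolAt P Ht φ (m + 1)) =
        algebraMap k (IsLocalRing.ResidueField P.O) (coeff m (∑ i, b i • f i)) := by
      intro m
      rw [ha, hdot]
    unfold IsJump
    intro hmem
    have hle : Submodule.span (IsLocalRing.ResidueField P.O) (hcolAt P Ht φ '' Set.Iio (j + 1)) ≤
        LinearMap.ker a := by
      rw [Submodule.span_le]
      rintro _ ⟨m, hm, rfl⟩
      rw [Set.mem_Iio] at hm
      rw [SetLike.mem_coe, LinearMap.mem_ker]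
      rcases Nat.eq_zero_or_pos m with rfl | hpos
      · rw [hcolAt_zero_eq_one P hHt, hac, h1 0 (by omega), map_zero]
      · obtain ⟨m', rfl⟩ : ∃ m', m = m' + 1 := ⟨m - 1, by omega⟩
        rw [hac, h1 m' (by omega), map_zero]
    have h3 := hle hmem
    rw [LinearMap.mem_ker, hac] at h3
    exact h2 (hinj (by rw [map_zero]; exact h3))

end Groth.Agent.Lib.LeadHS
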