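import Groth.Agent.Lib.LeadHS10

/-! S12607 and S12617. -/

namespace Groth.Agent.Lib.LeadHS

open PowerSeries FunFld WithZero Groth.Agent.Lib.LeadFF

universe u v
variable {k : Type u} {K : Type v} [Field k] [Field K] [Algebra k K]

lemma linearIndependent_of_distinct_val {Γ₀ : Type*} [LinearOrderedCommGroupWithZero Γ₀]
    {w : Valuation K Γ₀} (hk : TrivOn k w) {ι : Type*} [Fintype ι] (g : ι → K)
    (hne : ∀ i, g i ≠ 0) (hinj : Function.Injective (fun i => w (g i))) :
    LinearIndependent k g := by
  classical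
  rw [Fintype.linearIndependent_iff]
  intro a ha
  by_contra hcon
  push Not at hcon
  obtain ⟨i1, hi1⟩ := hcon
  set S := Finset.univ.filter (fun i => a i ≠ 0) with hS
  have hi1S : i1 ∈ S := by rw [hS, Finset.mem_filter]; exact ⟨Finset.mem_univ _, hi1⟩
  obtain ⟨i0, hi0S, hi0⟩ := Finset.exists_max_image S (fun i => w (g i)) ⟨i1, hi1S⟩
  have hval : ∀ i ∈ S, w (a i • g i) = w (g i) := by
    intro i hi
    rw [hS, Finset.mem_filter] at hi
    rw [Algebra.smul_def, map_mul, hk _ hi.2, one_mul]
  have hsum : ∑ i ∈ S, a i • g i = 0 := by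
    rw [← ha]
    apply Finset.sum_subset (Finset.subset_univ _)
    intro i _ hi
    rw [hS, Finset.mem_filter, not_and, not_not] at hi
    rw [hi (Finset.mem_univ _), zero_smul]
  have h1 : w (∑ i ∈ S, a i • g i) = w (a i0 • g i0) := by
    apply Valuation.map_sum_eq_of_lt w hi0S
    intro i hi
    rw [Finset.mem_sdiff, Finset.mem_singleton] at hi
    rw [hval i hi.1, hval i0 hi0S]
    apply lt_of_le_of_ne (hi0 i hi.1)
    intro heq
    exact hi.2 (hinj heq)
  rw [hsum, map_zero, hval i0 hi0S] at h1
  exact (Valuation.ne_zero_iff w).mpr (hne i0) h1.symm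

section Main
variable [IsAlgClosed k] (hK : IsFunctionField k K) (P : Place k K) {n : ℕ}
  (φ : Fin (n + 1) → K) (hnorm : ∀ i, P.1 (φ i) ≤ 1) {t : K} (ht : P.1 t = exp (-1 : ℤ))
  {Ht : K →ₐ[k] PowerSeries K} (hHt : LocRes.IsHasseFamily t Ht)
  {J' : Fin n → ℕ} (hJ' : IsOrders (IsLocalRing.ResidueField P.O) (hcolAt P Ht φ) J')

include hHt hJ' in
lemma orders_at_pos (l : Fin n) : 1 ≤ J' l := by
  by_contra h
  have h0 : J' l = 0 := by omega
  have h1 : IsJump (IsLocalRing.ResidueField P.O) (hcolAt P Ht φ) (0 + 1) :=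
    (hJ'.2 0).mp ⟨l, h0⟩
  apply h1
  rw [zero_add, ← hcolAt_zero_eq_one P hHt]
  exact Submodule.subset_span ⟨0, by simp, rfl⟩

include hK hnorm ht hHt hJ' in
theorem orders_at_iff (heff : (1 : K) ∈ Submodule.span k (Set.range φ)) (j : ℕ) :
    (j = 0 ∨ j ∈ Set.range J') ↔
      ∃ f ∈ Submodule.span k (Set.range φ), P.1 f = exp (-(j : ℤ)) := by
  rcases Nat.eq_zero_or_pos j with rfl | hj
  · constructor
    · intro _
      exact ⟨1, heff, by simp⟩
    · intro _; exact Or.inl rfl
  · rw [← isJump_at_iff hK P φ hnorm ht hHt hj, ← hJ'.2 j]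
    constructor
    · rintro (h | h)
      · omega
      · exact h
    · intro h; exact Or.inr h

include hK hnorm ht hHt hJ' in
theorem exists_adapted_basis (hφ : LinearIndependent k φ)
    (heff : (1 : K) ∈ Submodule.span k (Set.range φ)) :
    ∃ φ' : Fin (n + 1) → K,
      Submodule.span k (Set.range φ') = Submodule.span k (Set.range φ) ∧
      P.1 (φ' 0) = 1 ∧ evalP P (φ' 0) = 1 ∧
      ∀ l : Fin n, P.1 (φ' l.succ) = exp (-(J' l : ℤ)) ∧
        evalP P (φ' l.succ / t ^ J' l) = 1 := by
  classical
  have ht0 : t ≠ 0 := unif_ne_zero ht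
  have hex : ∀ l : Fin n, ∃ g ∈ Submodule.span k (Set.range φ), P.1 g = exp (-(J' l : ℤ)) ∧
      evalP P (g / t ^ J' l) = 1 := by
    intro l
    obtain ⟨g, hg, hPg⟩ := (orders_at_iff hK P φ hnorm ht hHt hJ' heff (J' l)).mp (Or.inr ⟨l, rfl⟩)
    have hu : P.1 (g / t ^ J' l) = 1 := by
      rw [map_div₀, map_pow, ht, zm0_exp_pow, hPg]
      have : ((J' l : ℤ) * (-1 : ℤ)) = -(J' l : ℤ) := by ring
      rw [this]
      exact div_self exp_ne_zero
    obtain ⟨c, hc⟩ := exists_const_sub_lt_one hK P hu.le
    have hc0 : c ≠ 0 := by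
      rintro rfl
      rw [map_zero, sub_zero, hu] at hc
      exact lt_irrefl _ hc
    refine ⟨c⁻¹ • g, Submodule.smul_mem _ _ hg, ?_, ?_⟩
    · rw [Algebra.smul_def, map_mul, place_trivOn P _ (inv_ne_zero hc0), one_mul, hPg]
    · have e : c⁻¹ • g / t ^ J' l - algebraMap k K 1 =
          algebraMap k K c⁻¹ * (g / t ^ J' l - algebraMap k K c) := by
        rw [Algebra.smul_def, mul_sub, ← map_mul, inv_mul_cancel₀ hc0]
        ring
      have hlt : P.1 (c⁻¹ • g / t ^ J' l - algebraMap k K 1) < 1 := by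
        rw [e, map_mul, place_trivOn P _ (inv_ne_zero hc0), one_mul]
        exact hc
      rw [evalP_eq_of_sub_lt P hlt, map_one]
  choose g hg hPg hev using hex
  let φ' : Fin (n + 1) → K := Fin.cases 1 g
  have h1ev : evalP P (1 : K) = 1 := by
    have hlt : P.1 ((1 : K) - algebraMap k K 1) < 1 := by
      rw [map_one, sub_self, map_zero]; exact zero_lt_one
    rw [evalP_eq_of_sub_lt P hlt, map_one]
  refine ⟨φ', ?_, by simp [φ'], by simpa [φ'] using h1ev, fun l => ⟨?_, ?_⟩⟩
  · -- spans agree
    have hle : Submodule.span k (Set.range φ') ≤ Submodule.span k (Set.range φ) := by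
      rw [Submodule.span_le]
      rintro _ ⟨m, rfl⟩
      refine Fin.cases ?_ (fun l => ?_) m
      · exact heff
      · exact hg l
    have hval : ∀ m : Fin (n + 1), P.1 (φ' m) =
        exp (-((Fin.cases (motive := fun _ => ℕ) 0 J' m : ℕ) : ℤ)) := by
      intro m
      refine Fin.cases ?_ (fun l => ?_) m
      · simp [φ']
      · simp only [φ', Fin.cases_succ]
        exact hPg l
    have hli : LinearIndependent k φ' := by
      apply linearIndependent_of_distinct_val (place_trivOn P)
      · intro m h0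
        have := hval m
        rw [h0, map_zero] at this
        exact exp_ne_zero this.symm
      · intro a b hab
        simp only [hval, exp_inj, neg_inj, Nat.cast_inj] at hab
        revert hab
        refine Fin.cases ?_ (fun la => ?_) a <;> refine Fin.cases ?_ (fun lb => ?_) b
        · intro _; rfl
        · intro h
          simp only [Fin.cases_zero, Fin.cases_succ] at h
          have := orders_at_pos P φ hHt hJ' lb
          omega
        · intro h
          simp only [Fin.cases_zero, Fin.cases_succ] at h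
          have := orders_at_pos P φ hHt hJ' la
          omega
        · intro h
          simp only [Fin.cases_succ] at h
          rw [hJ'.1.injective h]
    haveI : FiniteDimensional k (Submodule.span k (Set.range φ)) :=
      FiniteDimensional.span_of_finite k (Set.finite_range φ)
    apply Submodule.eq_of_le_of_finrank_eq hle
    rw [finrank_span_eq_card hli, finrank_span_eq_card hφ]
  · simp only [φ', Fin.cases_succ]
    exact hPg l
  · simp only [φ', Fin.cases_succ]
    exact hev l

include hK hnorm ht hHt hJ' in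
theorem first_order_of_nonsingular (hn : 0 < n)
    (heff : (1 : K) ∈ Submodule.span k (Set.range φ)) (hns : IsNonsingularAt φ P) :
    J' ⟨0, hn⟩ = 1 := by
  have h1 : ∃ t' : K, InLocRing φ P t' ∧ P.1 t' = exp (-1 : ℤ) :=
    ⟨t, hns t (unif_lt_one ht).le, ht⟩
  obtain ⟨g, hg, hPg⟩ := (locParam_iff hK φ P heff hnorm).mp h1
  have h2 := (orders_at_iff hK P φ hnorm ht hHt hJ' heff 1).mpr ⟨g, hg, by simpa using hPg⟩
  rcases h2 with h2 | ⟨l, hl⟩
  · omega
  · by_contra hne
    have hl0 : (⟨0, hn⟩ : Fin n) < l := by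
      rw [Fin.lt_def]
      by_contra h
      apply hne
      have : l = ⟨0, hn⟩ := by
        apply Fin.ext
        simp only [not_lt, Nat.le_zero] at h
        exact h
      rw [← this, hl]
    have h3 := hJ'.1 hl0
    have h4 := orders_at_pos P φ hHt hJ' ⟨0, hn⟩
    omega

end Main

end Groth.Agent.Lib.LeadHS
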