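import Groth.Agent.Lib.LeadHS11

/-! Canonical orders and gap numbers (S12609). -/

namespace Groth.Agent.Lib.LeadHS

open PowerSeries FunFld WithZero Groth.Agent.Lib.LeadFF

universe u v
variable {k : Type u} {K : Type v} [Field k] [Field K] [Algebra k K]

lemma span_smul_iff {ι : Type*} [Fintype ι] (φ : ι → K) (y g : K) :
    g ∈ Submodule.span k (Set.range (y • φ)) ↔
      ∃ h ∈ Submodule.span k (Set.range φ), g = y * h := by
  constructor
  · intro hg
    obtain ⟨b, rfl⟩ := (Submodule.mem_span_range_iff_exists_fun k).mp hg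
    refine ⟨∑ i, b i • φ i, (Submodule.mem_span_range_iff_exists_fun k).mpr ⟨b, rfl⟩, ?_⟩
    rw [Finset.mul_sum]
    apply Finset.sum_congr rfl
    intro i _
    simp only [Pi.smul_apply, smul_eq_mul, Algebra.smul_def]
    ring
  · rintro ⟨h, hh, rfl⟩
    obtain ⟨b, rfl⟩ := (Submodule.mem_span_range_iff_exists_fun k).mp hh
    refine (Submodule.mem_span_range_iff_exists_fun k).mpr ⟨b, ?_⟩
    rw [Finset.mul_sum]
    apply Finset.sum_congr rfl
    intro i _
    simp only [Pi.smul_apply, smul_eq_mul, Algebra.smul_def]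
    ring

lemma mem_L_sub_single {C : Divisor k K} {P : Place k K} {r : ℤ} (hr : 0 ≤ r) (h : K) :
    h ∈ L (C - Finsupp.single P r) ↔ h ∈ L C ∧ P.1 h ≤ exp (C P - r) := by
  classical
  constructor
  · intro hh
    have hP : P.1 h ≤ exp (C P - r) := by
      have := hh P
      simpa only [Finsupp.coe_sub, Pi.sub_apply, single_apply_self] using this
    refine ⟨fun Q => ?_, hP⟩
    by_cases hQ : Q = P
    · subst hQ
      exact hP.trans (exp_le_exp.mpr (by omega))
    · have := hh Q
      simp only [Finsupp.coe_sub, Pi.sub_apply, single_apply_ne hQ, sub_zero] at this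
      exact this
  · rintro ⟨h1, h2⟩ Q
    by_cases hQ : Q = P
    · subst hQ
      simpa only [Finsupp.coe_sub, Pi.sub_apply, single_apply_self] using h2
    · simp only [Finsupp.coe_sub, Pi.sub_apply, single_apply_ne hQ, sub_zero]
      exact h1 Q

/-- exact order at `P` inside `L(C)` versus the dimension drop. -/
lemma exists_exact_iff (hK : IsFunctionField k K) (C : Divisor k K) (P : Place k K) {m : ℤ}
    (hm : 0 ≤ m) :
    (∃ h ∈ L C, P.1 h = exp (C P - m)) ↔
      ell (C - Finsupp.single P (m + 1)) < ell (C - Finsupp.single P m) := by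
  classical
  have hle : L (C - Finsupp.single P (m + 1)) ≤ L (C - Finsupp.single P m) := by
    intro h hh
    rw [mem_L_sub_single (by omega)] at hh
    rw [mem_L_sub_single hm]
    exact ⟨hh.1, hh.2.trans (exp_le_exp.mpr (by omega))⟩
  haveI := L_finite hK (C - Finsupp.single P m)
  constructor
  · rintro ⟨h, hh, hPh⟩
    have h1 : h ∈ L (C - Finsupp.single P m) := (mem_L_sub_single hm h).mpr ⟨hh, hPh.le⟩
    have h2 : h ∉ L (C - Finsupp.single P (m + 1)) := by
      intro hcon
      have := ((mem_L_sub_single (by omega) h).mp hcon).2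
      rw [hPh, exp_le_exp] at this
      omega
    have hlt : L (C - Finsupp.single P (m + 1)) < L (C - Finsupp.single P m) :=
      lt_of_le_of_ne hle (fun heq => h2 (heq ▸ h1))
    exact Submodule.finrank_lt_finrank_of_lt hlt
  · intro hlt
    have hne : L (C - Finsupp.single P (m + 1)) ≠ L (C - Finsupp.single P m) := by
      intro heq
      unfold ell at hlt
      rw [heq] at hlt
      exact lt_irrefl _ hlt
    obtain ⟨h, h1, h2⟩ := SetLike.exists_of_lt (lt_of_le_of_ne hle hne)
    obtain ⟨hh, hPh⟩ := (mem_L_sub_single hm h).mp h1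
    refine ⟨h, hh, le_antisymm hPh ?_⟩
    by_contra hcon
    rw [not_le, zm0_lt_exp_iff] at hcon
    apply h2
    rw [mem_L_sub_single (by omega)]
    refine ⟨hh, ?_⟩
    have e : C P - (m + 1) = C P - m - 1 := by ring
    rw [e]; exact hcon

theorem canonical_jump_iff [IsAlgClosed k] (hK : IsFunctionField k K) (C : Divisor k K)
    (hC : IsCanonical k K C) {n : ℕ} (φ : Fin (n + 1) → K) (hφ : LinearIndependent k φ)
    (hspan : Submodule.span k (Set.range φ) = L C) (P : Place k K) (y : K) (hy : y ≠ 0)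
    (heff : (1 : K) ∈ Submodule.span k (Set.range (y • φ))) (hnorm : ∀ i, P.1 (y * φ i) ≤ 1)
    {t : K} (ht : P.1 t = exp (-1 : ℤ)) {Ht : K →ₐ[k] PowerSeries K}
    (hHt : LocRes.IsHasseFamily t Ht) {j : ℕ} (hj : 1 ≤ j) :
    IsJump (IsLocalRing.ResidueField P.O) (hcolAt P Ht (y • φ)) (j + 1) ↔
      L (Finsupp.single P ((j : ℤ) + 1)) = L (Finsupp.single P (j : ℤ)) := by
  classical
  have hP : P.deg = 1 := deg_eq_one_of_algClosed hK P
  obtain ⟨hellC, -⟩ := canonical_ell_deg hK hC
  have hgpos : 0 < genus k K := by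
    have h1 : ell C = n + 1 := by
      unfold ell
      rw [← hspan, finrank_span_eq_card hφ, Fintype.card_fin]
    rw [h1] at hellC
    have : ((n + 1 : ℕ) : ℤ) = (genus k K : ℤ) := hellC
    omega
  -- all `y h`, `h ∈ L C`, are integral
  have hnorm' : ∀ h ∈ L C, P.1 (y * h) ≤ 1 := by
    intro h hh
    rw [← hspan] at hh
    obtain ⟨b, rfl⟩ := (Submodule.mem_span_range_iff_exists_fun k).mp hh
    rw [Finset.mul_sum]
    apply Valuation.map_sum_le
    intro i _
    rw [Algebra.smul_def, ← mul_assoc, mul_comm y, mul_assoc, map_mul]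
    calc P.1 (algebraMap k K (b i)) * P.1 (y * φ i) ≤ 1 * 1 :=
          mul_le_mul' (P.2.1 _) (hnorm i)
      _ = 1 := one_mul _
  -- the order of `y`
  have hPy : P.1 y = exp (-(C P)) := by
    rw [val_eq_exp_neg_ord P hy]
    congr 2
    obtain ⟨h₀, hh₀, h1⟩ := (span_smul_iff φ y 1).mp heff
    rw [hspan] at hh₀
    have hh₀0 : h₀ ≠ 0 := by
      rintro rfl
      rw [mul_zero] at h1
      exact one_ne_zero h1
    have ha : P.ord y ≤ C P := by
      have h2 := hh₀ P
      have h3 : P.1 y * P.1 h₀ = 1 := by rw [← map_mul, ← h1, map_one]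
      rw [val_eq_exp_neg_ord P hy, val_eq_exp_neg_ord P hh₀0, ← exp_add, ← exp_zero, exp_inj] at h3
      rw [val_eq_exp_neg_ord P hh₀0, exp_le_exp] at h2
      omega
    by_contra hne
    have hlt : P.ord y + 1 ≤ C P := by omega
    have hsub : L C ≤ L (C - Finsupp.single P 1) := by
      intro h hh
      rw [mem_L_sub_single (by norm_num)]
      refine ⟨hh, ?_⟩
      by_cases h0 : h = 0
      · rw [h0, map_zero]; exact zero_le
      · have h2 := hnorm' h hh
        rw [map_mul, val_eq_exp_neg_ord P hy, val_eq_exp_neg_ord P h0, ← exp_add, ← exp_zero,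
          exp_le_exp] at h2
        rw [val_eq_exp_neg_ord P h0, exp_le_exp]
        omega
    have h4 := ell_sub_single_lt hK hgpos C (Or.inr hC) P hP
    haveI := L_finite hK (C - Finsupp.single P 1)
    have h5 := Submodule.finrank_mono hsub
    unfold ell at h4
    omega
  rw [isJump_at_iff hK P (y • φ) (fun i => by simpa using hnorm i) ht hHt hj]
  -- translate to `L C`
  have hstep1 : (∃ g ∈ Submodule.span k (Set.range (y • φ)), P.1 g = exp (-(j : ℤ))) ↔
      ∃ h ∈ L C, P.1 h = exp (C P - j) := by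
    constructor
    · rintro ⟨g, hg, hPg⟩
      obtain ⟨h, hh, rfl⟩ := (span_smul_iff φ y g).mp hg
      rw [hspan] at hh
      refine ⟨h, hh, ?_⟩
      have h0 : h ≠ 0 := by
        rintro rfl
        rw [mul_zero, map_zero] at hPg
        exact exp_ne_zero hPg.symm
      rw [map_mul, hPy, val_eq_exp_neg_ord P h0, ← exp_add, exp_inj] at hPg
      rw [val_eq_exp_neg_ord P h0, exp_inj]
      omega
    · rintro ⟨h, hh, hPh⟩
      refine ⟨y * h, (span_smul_iff φ y _).mpr ⟨h, by rw [hspan]; exact hh, rfl⟩, ?_⟩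
      rw [map_mul, hPy, hPh, ← exp_add]
      congr 1
      ring
  rw [hstep1, exists_exact_iff hK C P (by omega : (0 : ℤ) ≤ (j : ℤ))]
  -- Riemann-Roch
  have r1 := riemann_roch hK C hC (Finsupp.single P (j : ℤ))
  have r2 := riemann_roch hK C hC (Finsupp.single P ((j : ℤ) + 1))
  rw [deg_single, hP] at r1 r2
  obtain ⟨s1, s2⟩ := ell_single_step hK P hP j
  have hgap : IsGap P (j + 1) ↔
      L (Finsupp.single P ((j : ℤ) + 1)) = L (Finsupp.single P (j : ℤ)) := by
    unfold IsGap
    have e1 : (((j + 1 : ℕ) : ℤ)) = (j : ℤ) + 1 := by push_cast; rfl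
    have e2 : (((j + 1 : ℕ) : ℤ)) - 1 = (j : ℤ) := by push_cast; ring
    rw [e2, e1]
  rw [← hgap]
  by_cases hg : IsGap P (j + 1)
  · have := s1 hg
    simp only [hg, iff_true]
    push_cast at r1 r2
    omega
  · have := s2 hg
    simp only [hg, iff_false, not_lt]
    push_cast at r1 r2
    omega

end Groth.Agent.Lib.LeadHS
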