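import Groth.Agent.Lib.LeadHS12

/-! Leading terms of Hasse derivatives at a place. -/

namespace Groth.Agent.Lib.LeadHS

open PowerSeries FunFld WithZero Groth.Agent.Lib.LeadFF LaurentSeries

universe u v
variable {k : Type u} {K : Type v} [Field k] [Field K] [Algebra k K]

theorem hasse_at_place' [IsAlgClosed k] (hK : IsFunctionField k K) (P : Place k K) {t : K}
    (ht : P.1 t = exp (-1 : ℤ)) {Ht : K →ₐ[k] PowerSeries K} (hHt : LocRes.IsHasseFamily t Ht) :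
    ∃ ε : K →ₐ[k] k⸨X⸩, (∀ y, Valued.v (ε y) = P.1 y) ∧ ε t = HahnSeries.single 1 1 ∧
      (∀ x, P.1 x ≤ 1 → ∃ f : k⟦X⟧, ε x = HahnSeries.ofPowerSeries ℤ k f ∧
        P.1 (x - algebraMap k K (coeff 0 f)) < 1) ∧
      ∀ (x : K) (f : k⟦X⟧), ε x = HahnSeries.ofPowerSeries ℤ k f → ∀ j,
        ε (LocRes.hasseD Ht j x) = HahnSeries.ofPowerSeries ℤ k (hd j f) := by
  have hg := Groth.Agent.Lib.LeadMS.isGeometric_of_isAlgClosed k K
  obtain ⟨ε, hv, hεt, hεc, hε⟩ := exists_expansion (place_trivOn P) ht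
    (fun x hx => exists_const_sub_lt_one hK P hx)
  exact ⟨ε, hv, hεt, hε, fun x f hf j => expansion_hasseD hK hg ε t hεt Ht hHt x f hf j⟩

lemma coeff_X_pow_mul_hd (I m : ℕ) (f : k⟦X⟧) :
    coeff m (X ^ I * hd I f) = (m.choose I : k) * coeff m f := by
  rw [PowerSeries.coeff_X_pow_mul']
  split_ifs with h
  · rw [coeff_hd, Nat.sub_add_cancel h]
  · rw [Nat.choose_eq_zero_of_lt (by omega)]
    simp

theorem scaled_entry [IsAlgClosed k] (hK : IsFunctionField k K) (P : Place k K) {t : K}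
    (ht : P.1 t = exp (-1 : ℤ)) {Ht : K →ₐ[k] PowerSeries K} (hHt : LocRes.IsHasseFamily t Ht)
    {x : K} {d : ℕ} (hx : P.1 x = exp (-(d : ℤ))) :
    ∃ a : k, a ≠ 0 ∧ ∀ I : ℕ,
      P.1 (t ^ I * LocRes.hasseD Ht I x / t ^ d - algebraMap k K ((d.choose I : k) * a)) < 1 := by
  obtain ⟨ε, hv, hεt, hε, hεD⟩ := hasse_at_place' hK P ht hHt
  have ht0 : t ≠ 0 := unif_ne_zero ht
  have hx1 : P.1 x ≤ 1 := by rw [hx]; exact exp_neg_le_one d
  obtain ⟨f, hf, -⟩ := hε x hx1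
  have hvf : Valued.v (HahnSeries.ofPowerSeries ℤ k f) = exp (-(d : ℤ)) := by
    rw [← hf, hv, hx]
  obtain ⟨hlow, ha⟩ := val_coe_eq_exp_iff.mp hvf
  refine ⟨coeff d f, ha, fun I => ?_⟩
  have hdvd : X ^ d ∣ X ^ I * hd I f := by
    rw [PowerSeries.X_pow_dvd_iff]
    intro m hm
    rw [coeff_X_pow_mul_hd, hlow m hm, mul_zero]
  obtain ⟨g', hg'⟩ := hdvd
  have hc0 : coeff 0 g' = (d.choose I : k) * coeff d f := by
    have h1 := congrArg (coeff d) hg'
    rw [coeff_X_pow_mul_hd, PowerSeries.coeff_X_pow_mul', if_pos le_rfl, Nat.sub_self] at h1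
    exact h1.symm
  have hεtd : ε (t ^ d) = HahnSeries.ofPowerSeries ℤ k (X ^ d) := by
    rw [map_pow, hεt, map_pow, HahnSeries.ofPowerSeries_X]
  have hεtI : ε (t ^ I) = HahnSeries.ofPowerSeries ℤ k (X ^ I) := by
    rw [map_pow, hεt, map_pow, HahnSeries.ofPowerSeries_X]
  have hεB : ε (t ^ I * LocRes.hasseD Ht I x / t ^ d) = HahnSeries.ofPowerSeries ℤ k g' := by
    have h0 : ε (t ^ d) ≠ 0 := by
      intro h
      exact pow_ne_zero d ht0 ((ε : K →+* k⸨X⸩).injective (by rw [map_zero]; exact h))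
    rw [map_div₀, div_eq_iff h0, map_mul, hεD x f hf I, hεtI, hεtd, ← map_mul, ← map_mul, hg',
      mul_comm]
  have hB1 : P.1 (t ^ I * LocRes.hasseD Ht I x / t ^ d) ≤ 1 := by
    rw [← hv, hεB]
    exact (LaurentSeries.val_le_one_iff_eq_coe k _).mpr ⟨g', rfl⟩
  obtain ⟨f'', hf'', hlt⟩ := hε _ hB1
  have hff : f'' = g' := HahnSeries.ofPowerSeries_injective (hf''.symm.trans hεB)
  rw [hff, hc0] at hlt
  exact hlt

end Groth.Agent.Lib.LeadHS
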