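import Groth.Agent.Lib.LeadHS13

/-! Determinants of matrices with prescribed leading terms at a place. -/

namespace Groth.Agent.Lib.LeadHS

open FunFld WithZero Groth.Agent.Lib.LeadFF

universe u v
variable {k : Type u} {K : Type v} [Field k] [Field K] [Algebra k K]

lemma prod_exp {ι : Type*} (s : Finset ι) (f : ι → ℤ) :
    ∏ i ∈ s, (exp (f i) : WithZero (Multiplicative ℤ)) = exp (∑ i ∈ s, f i) := by
  classical
  induction s using Finset.induction_on with
  | empty => simp
  | insert a s ha ih => rw [Finset.prod_insert ha, Finset.sum_insert ha, ih, exp_add]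

lemma val_le_one_of_sub_lt (P : Place k K) {z : K} {c : k} (h : P.1 (z - algebraMap k K c) < 1) :
    P.1 z ≤ 1 := by
  have e : z = (z - algebraMap k K c) + algebraMap k K c := by ring
  rw [e]
  exact le_trans (P.1.map_add _ _) (max_le h.le (P.2.1 c))

lemma residue_of_sub_lt (P : Place k K) {z : K} {c : k} (h : P.1 (z - algebraMap k K c) < 1) :
    IsLocalRing.residue P.O
      ⟨z, (Valuation.mem_valuationSubring_iff P.1 z).mpr (val_le_one_of_sub_lt P h)⟩ =
      algebraMap k (IsLocalRing.ResidueField P.O) c := by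
  have := evalP_eq_of_sub_lt P h
  rw [evalP_of_le P (val_le_one_of_sub_lt P h)] at this
  exact this

theorem det_scaled (P : Place k K) {m : ℕ} (M : Matrix (Fin m) (Fin m) K) {t : K}
    (ht : P.1 t = exp (-1 : ℤ)) (d I' : Fin m → ℕ) (Nbar : Matrix (Fin m) (Fin m) k)
    (hN : ∀ i c, P.1 (t ^ (I' c) * M i c / t ^ (d i) - algebraMap k K (Nbar i c)) < 1) :
    P.1 M.det ≤ exp (-((∑ i, (d i : ℤ)) - ∑ c, (I' c : ℤ))) ∧
      (P.1 M.det = exp (-((∑ i, (d i : ℤ)) - ∑ c, (I' c : ℤ))) ↔ Nbar.det ≠ 0) := by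
  classical
  have ht0 : t ≠ 0 := unif_ne_zero ht
  let N : Matrix (Fin m) (Fin m) K := Matrix.of fun i c => t ^ (I' c) * M i c / t ^ (d i)
  have hNle : ∀ i c, P.1 (N i c) ≤ 1 := fun i c => val_le_one_of_sub_lt P (hN i c)
  let NO : Matrix (Fin m) (Fin m) P.O := Matrix.of fun i c =>
    ⟨N i c, (Valuation.mem_valuationSubring_iff P.1 _).mpr (hNle i c)⟩
  have hNO : NO.map (P.O.subtype) = N := by
    ext i c; rfl
  have hdetN : N.det = ((NO.det : P.O) : K) := by
    rw [← hNO]
    exact (RingHom.map_det P.O.subtype NO).symm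
  have hres : IsLocalRing.residue P.O NO.det =
      algebraMap k (IsLocalRing.ResidueField P.O) Nbar.det := by
    rw [RingHom.map_det, RingHom.map_det]
    congr 1
    ext i c
    simp only [RingHom.mapMatrix_apply, Matrix.map_apply]
    exact residue_of_sub_lt P (hN i c)
  have hM : M = Matrix.of fun i c => t ^ (d i) * ((t ^ (I' c))⁻¹ * N i c) := by
    ext i c
    simp only [Matrix.of_apply, N]
    field_simp
  have hdetM : M.det = (∏ i, t ^ (d i)) * ((∏ c, (t ^ (I' c))⁻¹) * N.det) := by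
    conv_lhs => rw [hM]
    have h1 := Matrix.det_mul_column (fun i => t ^ (d i))
      (Matrix.of fun i c => (t ^ (I' c))⁻¹ * N i c)
    have h2 := Matrix.det_mul_row (fun c => (t ^ (I' c))⁻¹) N
    simp only [Matrix.of_apply] at h1 h2
    rw [h1, h2]
  have hval1 : P.1 (∏ i, t ^ (d i)) = exp (-(∑ i, (d i : ℤ))) := by
    rw [map_prod]
    simp only [map_pow, ht, zm0_exp_pow]
    rw [prod_exp]
    congr 1
    rw [← Finset.sum_neg_distrib]
    apply Finset.sum_congr rfl
    intro i _; ring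
  have hval2 : P.1 (∏ c, (t ^ (I' c))⁻¹) = exp (∑ c, (I' c : ℤ)) := by
    rw [map_prod]
    simp only [map_inv₀, map_pow, ht, zm0_exp_pow, ← exp_neg]
    rw [prod_exp]
    congr 1
    apply Finset.sum_congr rfl
    intro i _; ring
  have hPM : P.1 M.det = exp (-((∑ i, (d i : ℤ)) - ∑ c, (I' c : ℤ))) * P.1 N.det := by
    rw [hdetM, map_mul, map_mul, hval1, hval2, ← mul_assoc, ← exp_add]
    congr 2
    ring
  have hNdet_le : P.1 N.det ≤ 1 := by
    rw [hdetN]; exact NO.det.2
  have hunit : P.1 N.det = 1 ↔ Nbar.det ≠ 0 := by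
    rw [hdetN]
    have h1 : P.1 ((NO.det : P.O) : K) < 1 ↔ IsLocalRing.residue P.O NO.det = 0 :=
      (residue_eq_zero_iff P NO.det).symm
    rw [hres, map_eq_zero_iff _ (algebraMap k (IsLocalRing.ResidueField P.O)).injective] at h1
    constructor
    · intro h hd
      have := h1.mpr hd
      rw [h] at this
      exact lt_irrefl _ this
    · intro h
      apply le_antisymm NO.det.2
      by_contra hlt
      exact h (h1.mp (not_le.mp hlt))
  rw [hPM]
  constructor
  · calc exp (-((∑ i, (d i : ℤ)) - ∑ c, (I' c : ℤ))) * P.1 N.det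
        ≤ exp (-((∑ i, (d i : ℤ)) - ∑ c, (I' c : ℤ))) * 1 := mul_le_mul' le_rfl hNdet_le
      _ = _ := mul_one _
  · rw [← hunit]
    constructor
    · intro h
      have h2 : exp (-((∑ i, (d i : ℤ)) - ∑ c, (I' c : ℤ))) * P.1 N.det =
          exp (-((∑ i, (d i : ℤ)) - ∑ c, (I' c : ℤ))) * 1 := by rw [h, mul_one]
      exact mul_left_cancel₀ exp_ne_zero h2
    · intro h; rw [h, mul_one]

end Groth.Agent.Lib.LeadHS
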