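import Groth.Agent.Lib.LeadHS14

/-! Order of Wronskian-type determinants at a fixed point (S12605). -/

namespace Groth.Agent.Lib.LeadHS

open FunFld WithZero Groth.Agent.Lib.LeadFF Groth.Agent.Lib.LeadSV

universe u v
variable {k : Type u} {K : Type v} [Field k] [Field K] [Algebra k K]

section FixedPt
variable {τ : K →ₐ[k] K} {P : Place k K}

lemma fixed_sub_lt (hP : IsFixedPt τ P) {z : K} {c : k} (h : P.1 (z - algebraMap k K c) < 1) :
    P.1 (τ z - algebraMap k K c) < 1 := by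
  have := hP _ h
  rwa [map_sub, τ.commutes] at this

lemma fixed_le_one [IsAlgClosed k] (hK : IsFunctionField k K) (hP : IsFixedPt τ P) {z : K}
    (hz : P.1 z ≤ 1) : P.1 (τ z) ≤ 1 := by
  obtain ⟨c, hc⟩ := exists_const_sub_lt_one hK P hz
  exact val_le_one_of_sub_lt P (fixed_sub_lt hP hc)

lemma fixed_first_col [IsAlgClosed k] (hK : IsFunctionField k K) (hP : IsFixedPt τ P) {t : K}
    (ht : P.1 t = exp (-1 : ℤ)) {z : K} {d : ℕ} (hz : P.1 z = exp (-(d : ℤ))) :
    P.1 (τ z / t ^ d) ≤ 1 ∧ (IsStrongFixedPt τ P → 1 ≤ d → P.1 (τ z / t ^ d) < 1) := by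
  have ht0 : t ≠ 0 := unif_ne_zero ht
  set u := z / t ^ d with hu
  have hPu : P.1 u = 1 := by
    rw [hu, map_div₀, map_pow, ht, zm0_exp_pow, hz]
    have : ((d : ℤ) * (-1 : ℤ)) = -(d : ℤ) := by ring
    rw [this]
    exact div_self exp_ne_zero
  have hz' : z = t ^ d * u := by rw [hu]; field_simp
  have hτz : τ z = (τ t) ^ d * τ u := by rw [hz', map_mul, map_pow]
  have hτu : P.1 (τ u) ≤ 1 := fixed_le_one hK hP hPu.le
  have hτt : P.1 (τ t) < 1 := hP t (unif_lt_one ht)
  have hval : P.1 (τ z / t ^ d) = (P.1 (τ t) / exp (-1 : ℤ)) ^ d * P.1 (τ u) := by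
    rw [hτz, map_div₀, map_mul, map_pow, map_pow, ht, div_pow]
    rw [mul_div_right_comm]
  constructor
  · rw [hval]
    have h1 : P.1 (τ t) / exp (-1 : ℤ) ≤ 1 := by
      apply div_le_one_of_le₀ _ zero_le
      have := (zm0_lt_exp_iff (n := 0)).mp (by simpa using hτt)
      simpa using this
    calc (P.1 (τ t) / exp (-1 : ℤ)) ^ d * P.1 (τ u) ≤ 1 * 1 :=
          mul_le_mul' (pow_le_one' h1 d) hτu
      _ = 1 := one_mul _
  · intro hs hd
    rw [hval]
    have h2 : P.1 (τ t) ≤ exp (-2 : ℤ) := hs t (unif_lt_one ht)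
    have h1 : P.1 (τ t) / exp (-1 : ℤ) ≤ exp (-1 : ℤ) := by
      rw [div_le_iff₀ (by simp), ← exp_add]
      exact h2
    have h3 : (P.1 (τ t) / exp (-1 : ℤ)) ^ d ≤ exp (-1 : ℤ) := by
      calc (P.1 (τ t) / exp (-1 : ℤ)) ^ d ≤ (exp (-1 : ℤ)) ^ d := pow_le_pow_left' h1 d
        _ ≤ exp (-1 : ℤ) := by
          rw [zm0_exp_pow, exp_le_exp]
          have : (1 : ℤ) ≤ d := by exact_mod_cast hd
          nlinarith
    calc (P.1 (τ t) / exp (-1 : ℤ)) ^ d * P.1 (τ u) ≤ exp (-1 : ℤ) * 1 := mul_le_mul' h3 hτu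
      _ = exp (-1 : ℤ) := mul_one _
      _ < 1 := by rw [← exp_zero, exp_lt_exp]; norm_num

end FixedPt

theorem wronskian_order [IsAlgClosed k] (hK : IsFunctionField k K) (τ : K →ₐ[k] K)
    (P : Place k K) (hP : IsFixedPt τ P) {n : ℕ} (φ : Fin (n + 1) → K)
    (hφ : LinearIndependent k φ) (heff : (1 : K) ∈ Submodule.span k (Set.range φ))
    (hnorm : ∀ i, P.1 (φ i) ≤ 1) {t : K} (ht : P.1 t = exp (-1 : ℤ))
    {Ht : K →ₐ[k] PowerSeries K} (hHt : LocRes.IsHasseFamily t Ht) (J : Fin n → ℕ)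
    (hJ : IsOrders (IsLocalRing.ResidueField P.O) (hcolAt P Ht φ) J) (I : Fin n → ℕ) :
    P.1 (wrMat τ Ht φ I).det ≤ exp (-(∑ l, ((J l : ℤ) - I l))) ∧
      (((∀ l, 0 < I l) ∨ IsStrongFixedPt τ P) →
        (P.1 (wrMat τ Ht φ I).det = exp (-(∑ l, ((J l : ℤ) - I l))) ↔
          (binomMat k J I).det ≠ 0)) := by
  classical
  obtain ⟨φ', hspan', h00, -, hφ'l⟩ := exists_adapted_basis hK P φ hnorm ht hHt hJ hφ heff
  let d : Fin (n + 1) → ℕ := Fin.cases 0 J
  have hd : ∀ i, P.1 (φ' i) = exp (-(d i : ℤ)) := by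
    intro i
    refine Fin.cases ?_ (fun l => ?_) i
    · simp [d, h00]
    · simp only [d, Fin.cases_succ]
      exact (hφ'l l).1
  have hdpos : ∀ l : Fin n, 1 ≤ d l.succ := by
    intro l
    simp only [d, Fin.cases_succ]
    exact orders_at_pos P φ hHt hJ l
  have hli' : LinearIndependent k φ' := by
    rw [linearIndependent_iff_card_eq_finrank_span, Set.finrank, hspan', finrank_span_eq_card hφ]
  have hA : ∀ i, ∃ b : Fin (n + 1) → k, ∑ j, b j • φ j = φ' i := fun i =>
    (Submodule.mem_span_range_iff_exists_fun k).mp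
      (by rw [← hspan']; exact Submodule.subset_span ⟨i, rfl⟩)
  choose A hAφ using hA
  let Am : Matrix (Fin (n + 1)) (Fin (n + 1)) k := Matrix.of A
  have hφ'A : ∀ i, φ' i = ∑ j, Am i j • φ j := fun i => (hAφ i).symm
  have hdetA : Am.det ≠ 0 := by
    intro h0
    obtain ⟨v, hv0, hv⟩ := Matrix.exists_vecMul_eq_zero_iff.mpr h0
    have hsum : ∑ i, v i • φ' i = 0 := by
      have e1 : ∑ i, v i • φ' i = ∑ j, (∑ i, v i * Am i j) • φ j := by
        simp_rw [hφ'A, Finset.smul_sum, smul_smul]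
        rw [Finset.sum_comm]
        apply Finset.sum_congr rfl
        intro j _
        rw [Finset.sum_smul]
      rw [e1]
      apply Finset.sum_eq_zero
      intro j _
      have h1 := congrFun hv j
      simp only [Matrix.vecMul, dotProduct, Pi.zero_apply] at h1
      rw [h1, zero_smul]
    exact hv0 (funext ((Fintype.linearIndependent_iff.mp hli') v hsum))
  have hwr : wrMat τ Ht φ' I = Am.map (algebraMap k K) * wrMat τ Ht φ I :=
    wrMat_change Am φ φ' hφ'A τ Ht I
  have hPdet : P.1 (wrMat τ Ht φ' I).det = P.1 (wrMat τ Ht φ I).det := by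
    have h1 : (Am.map (algebraMap k K)).det = algebraMap k K Am.det := by
      rw [RingHom.map_det]; rfl
    rw [hwr, Matrix.det_mul, map_mul, h1, place_trivOn P _ hdetA, one_mul]
  -- leading coefficients
  have hex : ∀ i, ∃ a : k, a ≠ 0 ∧ ∀ I0 : ℕ,
      P.1 (t ^ I0 * LocRes.hasseD Ht I0 (φ' i) / t ^ (d i) -
        algebraMap k K (((d i).choose I0 : k) * a)) < 1 :=
    fun i => scaled_entry hK P ht hHt (hd i)
  choose a ha0 ha using hex
  have hcol : ∀ i, ∃ c : k, P.1 (τ (φ' i) / t ^ (d i) - algebraMap k K c) < 1 ∧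
      (i = 0 → c = a 0) ∧ (IsStrongFixedPt τ P → i ≠ 0 → c = 0) := by
    intro i
    refine Fin.cases ?_ (fun l => ?_) i
    · refine ⟨a 0, ?_, fun _ => rfl, fun _ h => absurd rfl h⟩
      have h1 := ha 0 0
      simp only [d, Fin.cases_zero, pow_zero, one_mul, div_one, Nat.choose_self, Nat.cast_one,
        hasseD_zero hHt] at h1
      simpa [d] using fixed_sub_lt hP h1
    · obtain ⟨h1, h2⟩ := fixed_first_col hK hP ht (hd l.succ)
      by_cases hs : IsStrongFixedPt τ P
      · refine ⟨0, ?_, fun h => absurd h (Fin.succ_ne_zero l), fun _ _ => rfl⟩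
        rw [map_zero, sub_zero]
        exact h2 hs (hdpos l)
      · obtain ⟨c, hc⟩ := exists_const_sub_lt_one hK P h1
        exact ⟨c, hc, fun h => absurd h (Fin.succ_ne_zero l), fun h _ => absurd h hs⟩
  choose c0 hc0 hc00 hc0s using hcol
  let I' : Fin (n + 1) → ℕ := Fin.cases 0 I
  let Nbar : Matrix (Fin (n + 1)) (Fin (n + 1)) k := Matrix.of fun i c =>
    Fin.cases (motive := fun _ => k) (c0 i) (fun l => ((d i).choose (I l) : k) * a i) c
  have hN : ∀ i c, P.1 (t ^ (I' c) * wrMat τ Ht φ' I i c / t ^ (d i) -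
      algebraMap k K (Nbar i c)) < 1 := by
    intro i c
    refine Fin.cases ?_ (fun l => ?_) c
    · simp only [I', Nbar, wrMat, Matrix.of_apply, Fin.cases_zero, pow_zero, one_mul]
      exact hc0 i
    · simp only [I', Nbar, wrMat, Matrix.of_apply, Fin.cases_succ]
      exact ha i (I l)
  obtain ⟨h1, h2⟩ := det_scaled P (wrMat τ Ht φ' I) ht d I' Nbar hN
  have hsum : (∑ i, (d i : ℤ)) - ∑ c, (I' c : ℤ) = ∑ l, ((J l : ℤ) - I l) := by
    rw [Fin.sum_univ_succ, Fin.sum_univ_succ (fun c => (I' c : ℤ)), Finset.sum_sub_distrib]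
    simp [d, I']
  rw [hsum, hPdet] at h1 h2
  refine ⟨h1, fun hcase => ?_⟩
  rw [h2]
  have hminor : (Nbar.submatrix Fin.succ Fin.succ).det =
      (∏ l : Fin n, a l.succ) * (binomMat k J I).det := by
    have e : Nbar.submatrix Fin.succ Fin.succ =
        Matrix.of fun r l => a r.succ * (binomMat k J I) r l := by
      ext r l
      simp only [Nbar, d, binomMat, Matrix.submatrix_apply, Matrix.of_apply, Fin.cases_succ]
      ring
    rw [e, Matrix.det_mul_column]
  have hdetN : Nbar.det = a 0 * (Nbar.submatrix Fin.succ Fin.succ).det := by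
    rcases hcase with hI | hs
    · rw [Matrix.det_succ_row_zero, Finset.sum_eq_single 0]
      · simp [Nbar, hc00 0 rfl]
      · intro j _ hj
        obtain ⟨l, rfl⟩ := Fin.exists_succ_eq.mpr hj
        have h0 : Nbar 0 l.succ = 0 := by
          simp only [Nbar, d, Matrix.of_apply, Fin.cases_succ, Fin.cases_zero]
          rw [Nat.choose_eq_zero_of_lt (hI l)]
          simp
        rw [h0]; ring
      · intro h; exact absurd (Finset.mem_univ _) h
    · rw [Matrix.det_succ_column_zero, Finset.sum_eq_single 0]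
      · simp [Nbar, hc00 0 rfl]
      · intro i _ hi
        have h0 : Nbar i 0 = 0 := by
          simp only [Nbar, Matrix.of_apply, Fin.cases_zero]
          exact hc0s i hs hi
        rw [h0]; ring
      · intro h; exact absurd (Finset.mem_univ _) h
  rw [hdetN, hminor]
  constructor
  · intro h hb
    apply h
    rw [hb]; ring
  · intro h
    exact mul_ne_zero (ha0 0) (mul_ne_zero (Finset.prod_ne_zero_iff.mpr fun l _ => ha0 _) h)

end Groth.Agent.Lib.LeadHS
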