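import Groth.Agent.Lib.LeadHS15

/-! The Weierstrass divisor at a fixed point (S12615, S12608). -/

namespace Groth.Agent.Lib.LeadHS

open FunFld WithZero Groth.Agent.Lib.LeadFF Groth.Agent.Lib.LeadSV

universe u v
variable {k : Type u} {K : Type v} [Field k] [Field K] [Algebra k K]

lemma isOrders_unique {R M : Type*} [Semiring R] [AddCommMonoid M] [Module R M] {c : ℕ → M}
    {n : ℕ} {J J₀ : Fin n → ℕ} (h : IsOrders R c J) (h0 : IsOrders R c J₀) : J = J₀ := by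
  apply (StrictMono.range_inj h.1 h0.1).mp
  ext j
  rw [h.2, h0.2]

theorem wronskian_ne_zero [IsAlgClosed k] (hK : IsFunctionField k K) {n : ℕ}
    (φ : Fin (n + 1) → K) (hφ : LinearIndependent k φ) (τ : K →ₐ[k] K) {s : K}
    {H : K →ₐ[k] PowerSeries K} (hH : LocRes.IsHasseFamily s H) {J : Fin n → ℕ}
    (hJ : IsOrders K (hcol τ H φ) J) : (wrMat τ H φ J).det ≠ 0 := by
  obtain ⟨J₀, hJ₀, hdet⟩ := exists_orders_hasse hK φ hφ τ hH
  rw [isOrders_unique hJ hJ₀]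
  exact hdet

lemma ord_nonneg_of_le_one (P : Place k K) {x : K} (hx : P.1 x ≤ 1) : 0 ≤ P.ord x := by
  by_cases h0 : x = 0
  · subst h0; simp [Place.ord]
  · rw [val_eq_exp_neg_ord P h0, ← exp_zero, exp_le_exp] at hx
    omega

lemma ord_eq_zero_of_eq_one (P : Place k K) {x : K} (hx : P.1 x = 1) : P.ord x = 0 := by
  unfold Place.ord
  rw [hx, log_one, neg_zero]

lemma mapDiv_at_zero (hK : IsFunctionField k K) {ι : Type*} [Fintype ι] [Nonempty ι] (ψ : ι → K)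
    (P : Place k K) (hle : ∀ i, P.1 (ψ i) ≤ 1) (hex : ∃ i, P.1 (ψ i) = 1) :
    mapDiv k ψ P = 0 := by
  rw [mapDiv_apply hK, neg_eq_zero]
  obtain ⟨i0, hi0⟩ := hex
  apply le_antisymm
  · have := Finset.inf'_le (fun i => P.ord (ψ i)) (Finset.mem_univ i0)
    rwa [ord_eq_zero_of_eq_one P hi0] at this
  · apply Finset.le_inf'
    intro i _
    exact ord_nonneg_of_le_one P (hle i)

lemma exists_unit_of_eff {ι : Type*} [Fintype ι] (φ : ι → K) (P : Place k K)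
    (heff : (1 : K) ∈ Submodule.span k (Set.range φ)) (hnorm : ∀ i, P.1 (φ i) ≤ 1) :
    ∃ i, P.1 (φ i) = 1 := by
  by_contra hcon
  push Not at hcon
  obtain ⟨b, hb⟩ := (Submodule.mem_span_range_iff_exists_fun k).mp heff
  have h1 : P.1 (∑ i, b i • φ i) < 1 := by
    apply Valuation.map_sum_lt P.1 one_ne_zero
    intro i _
    rw [Algebra.smul_def, map_mul]
    calc P.1 (algebraMap k K (b i)) * P.1 (φ i) ≤ 1 * P.1 (φ i) := mul_le_mul' (P.2.1 _) le_rfl
      _ = P.1 (φ i) := one_mul _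
      _ < 1 := lt_of_le_of_ne (hnorm i) (hcon i)
  rw [hb, map_one] at h1
  exact lt_irrefl _ h1

lemma fixed_unit [IsAlgClosed k] (hK : IsFunctionField k K) {τ : K →ₐ[k] K} {P : Place k K}
    (hP : IsFixedPt τ P) {z : K} (hz : P.1 z = 1) : P.1 (τ z) = 1 := by
  obtain ⟨c, hc⟩ := exists_const_sub_lt_one hK P hz.le
  have hc0 : c ≠ 0 := by
    rintro rfl
    rw [map_zero, sub_zero, hz] at hc
    exact lt_irrefl _ hc
  have h1 := fixed_sub_lt hP hc
  have e : τ z = (τ z - algebraMap k K c) + algebraMap k K c := by ring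
  have h2 : P.1 (algebraMap k K c) = 1 := place_trivOn P c hc0
  rw [e, Valuation.map_add_eq_of_lt_right _ (by rwa [h2]), h2]

theorem wDiv_at_fixed [IsAlgClosed k] (hK : IsFunctionField k K) (τ : K →ₐ[k] K) (P : Place k K)
    (hP : IsFixedPt τ P) {n : ℕ} (φ : Fin (n + 1) → K)
    (heff : (1 : K) ∈ Submodule.span k (Set.range φ)) (hnorm : ∀ i, P.1 (φ i) ≤ 1) {t : K}
    (ht : P.1 t = exp (-1 : ℤ)) (Ht : K →ₐ[k] PowerSeries K) (J : Fin n → ℕ)
    (Φ : Place k K → (K →ₐ[k] LaurentSeries k))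
    (hΦ : ∀ P : Place k K, LocRes.IsExpansionAt P.1 (Φ P)) :
    wDiv τ Ht Φ t φ J P = P.ord (wrMat τ Ht φ J).det := by
  classical
  obtain ⟨i0, hi0⟩ := exists_unit_of_eff φ P heff hnorm
  have h1 : mapDiv k φ P = 0 := mapDiv_at_zero hK φ P hnorm ⟨i0, hi0⟩
  have h2 : mapDiv k (τ ∘ φ) P = 0 :=
    mapDiv_at_zero hK (τ ∘ φ) P (fun i => fixed_le_one hK hP (hnorm i)) ⟨i0, fixed_unit hK hP hi0⟩
  have h3 : divDiff Φ 1 t P = 0 := by
    unfold divDiff
    split_ifs with hfin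
    · show LocRes.ordDiff (Φ P) 1 t = 0
      unfold LocRes.ordDiff LocRes.vDiff
      rw [map_one, one_mul]
      have hv : Valued.v (Φ P t) = exp (-(1 : ℤ)) := by rw [(hΦ P).1, ht]
      have := Groth.Agent.Lib.LeadMS.val_D_of_ne hv (by simp)
      rw [this]
      simp
    · rfl
  unfold wDiv
  simp only [Finsupp.coe_add, Finsupp.coe_smul, Pi.add_apply, Pi.smul_apply, smul_eq_mul]
  rw [h1, h2, h3, div_apply hK]
  ring

lemma orders_pos_of_id {n : ℕ} (φ : Fin (n + 1) → K) {s : K} {H : K →ₐ[k] PowerSeries K}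
    (hH : LocRes.IsHasseFamily s H) {J : Fin n → ℕ}
    (hJ : IsOrders K (hcol (AlgHom.id k K) H φ) J) (l : Fin n) : 0 < J l := by
  by_contra h
  have h0 : J l = 0 := by omega
  have h1 : IsJump K (hcol (AlgHom.id k K) H φ) (0 + 1) := (hJ.2 0).mp ⟨l, h0⟩
  apply h1
  rw [zero_add, hcol_one _ H hH]
  apply Submodule.subset_span
  exact ⟨0, by simp, by rw [hcol_zero]; rfl⟩

theorem wDiv_at_fixed_ge [IsAlgClosed k] (hK : IsFunctionField k K) (τ : K →ₐ[k] K)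
    (P : Place k K) (hP : IsFixedPt τ P) {n : ℕ} (φ : Fin (n + 1) → K)
    (hφ : LinearIndependent k φ) (heff : (1 : K) ∈ Submodule.span k (Set.range φ))
    (hnorm : ∀ i, P.1 (φ i) ≤ 1) {t : K} (ht : P.1 t = exp (-1 : ℤ))
    {Ht : K →ₐ[k] PowerSeries K} (hHt : LocRes.IsHasseFamily t Ht) (J : Fin n → ℕ)
    (hJ : IsOrders K (hcol τ Ht φ) J) (J' : Fin n → ℕ)
    (hJ' : IsOrders (IsLocalRing.ResidueField P.O) (hcolAt P Ht φ) J')
    (Φ : Place k K → (K →ₐ[k] LaurentSeries k))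
    (hΦ : ∀ P : Place k K, LocRes.IsExpansionAt P.1 (Φ P)) :
    (∑ l, ((J' l : ℤ) - J l)) ≤ wDiv τ Ht Φ t φ J P ∧
      ((τ = AlgHom.id k K ∨ IsStrongFixedPt τ P) →
        (wDiv τ Ht Φ t φ J P = ∑ l, ((J' l : ℤ) - J l) ↔ (binomMat k J' J).det ≠ 0)) := by
  have hW := wronskian_ne_zero hK φ hφ τ hHt hJ
  rw [wDiv_at_fixed hK τ P hP φ heff hnorm ht Ht J Φ hΦ]
  obtain ⟨h1, h2⟩ := wronskian_order hK τ P hP φ hφ heff hnorm ht hHt J' hJ' J
  rw [val_eq_exp_neg_ord P hW, exp_le_exp] at h1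
  refine ⟨by omega, fun hcase => ?_⟩
  have hcond : (∀ l, 0 < J l) ∨ IsStrongFixedPt τ P := by
    rcases hcase with h | h
    · subst h
      exact Or.inl (orders_pos_of_id φ hHt hJ)
    · exact Or.inr h
  rw [← h2 hcond, val_eq_exp_neg_ord P hW, exp_inj]
  constructor <;> intro h <;> omega

end Groth.Agent.Lib.LeadHS
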