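import Groth.Agent.Lib.LeadHS16

/-! Orders versus orders at a place (S12608). -/

namespace Groth.Agent.Lib.LeadHS

open FunFld WithZero Groth.Agent.Lib.LeadFF Groth.Agent.Lib.LeadSV

universe u v
variable {k : Type u} {K : Type v} [Field k] [Field K] [Algebra k K]

lemma binomMat_self_det {n : ℕ} (J' : Fin n → ℕ) (hJ' : StrictMono J') :
    (binomMat k J' J').det = 1 := by
  rw [Matrix.det_of_lowerTriangular]
  · simp [binomMat]
  · intro i j hij
    have hlt : i < j := hij
    simp only [binomMat, Matrix.of_apply]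
    rw [Nat.choose_eq_zero_of_lt (hJ' hlt)]
    simp

theorem orders_vs_at [IsAlgClosed k] (hK : IsFunctionField k K) (P : Place k K) {n : ℕ}
    (φ : Fin (n + 1) → K) (hφ : LinearIndependent k φ)
    (heff : (1 : K) ∈ Submodule.span k (Set.range φ)) (hnorm : ∀ i, P.1 (φ i) ≤ 1) {t : K}
    (ht : P.1 t = exp (-1 : ℤ)) {Ht : K →ₐ[k] PowerSeries K} (hHt : LocRes.IsHasseFamily t Ht)
    (J : Fin n → ℕ) (hJ : IsOrders K (hcol (AlgHom.id k K) Ht φ) J) (J' : Fin n → ℕ)
    (hJ' : IsOrders (IsLocalRing.ResidueField P.O) (hcolAt P Ht φ) J')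
    (Φ : Place k K → (K →ₐ[k] LaurentSeries k))
    (hΦ : ∀ P : Place k K, LocRes.IsExpansionAt P.1 (Φ P)) :
    (∀ l, J l ≤ J' l) ∧
      ((∀ l, J' l = J l) ↔ evalP P (wrMat (AlgHom.id k K) Ht φ J).det ≠ 0) ∧
      ((∀ l, J' l = J l) ↔ wDiv (AlgHom.id k K) Ht Φ t φ J P = 0) := by
  have hid : IsFixedPt (AlgHom.id k K) P := fun z hz => hz
  -- the Wronskian at the orders at `P` is a unit
  have hunit' : P.1 (wrMat (AlgHom.id k K) Ht φ J').det = 1 := by
    obtain ⟨-, h2⟩ := wronskian_order hK (AlgHom.id k K) P hid φ hφ heff hnorm ht hHt J' hJ' J'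
    have h3 := (h2 (Or.inl (orders_at_pos P φ hHt hJ'))).mpr
      (by rw [binomMat_self_det J' hJ'.1]; exact one_ne_zero)
    simpa using h3
  have hdet' : (wrMat (AlgHom.id k K) Ht φ J').det ≠ 0 := by
    intro h0
    rw [h0, map_zero] at hunit'
    exact zero_ne_one hunit'
  have hle : ∀ l, J l ≤ J' l :=
    orders_le_of_det_ne_zero φ (AlgHom.id k K) Ht J hJ J' hJ'.1 hdet'
  have hW := wronskian_ne_zero hK φ hφ (AlgHom.id k K) hHt hJ
  obtain ⟨h1, -⟩ := wronskian_order hK (AlgHom.id k K) P hid φ hφ heff hnorm ht hHt J' hJ' J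
  have hS : (∑ l, ((J' l : ℤ) - J l)) = 0 ↔ ∀ l, J' l = J l := by
    rw [Finset.sum_eq_zero_iff_of_nonneg (fun l _ => by have := hle l; omega)]
    constructor
    · intro h l
      have := h l (Finset.mem_univ l)
      omega
    · intro h l _
      rw [h l]; ring
  have hSnn : 0 ≤ ∑ l, ((J' l : ℤ) - J l) :=
    Finset.sum_nonneg (fun l _ => by have := hle l; omega)
  -- `P.1 W = 1` iff all equal
  have hkey : (∀ l, J' l = J l) ↔ P.1 (wrMat (AlgHom.id k K) Ht φ J).det = 1 := by
    constructor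
    · intro h
      have : J = J' := funext fun l => (h l).symm
      rw [this]; exact hunit'
    · intro h
      rw [h, ← exp_zero, exp_le_exp] at h1
      exact hS.mp (by omega)
  refine ⟨hle, ?_, ?_⟩
  · rw [hkey]
    constructor
    · intro h
      rw [evalP_of_le P h.le]
      intro h0
      rw [residue_eq_zero_iff] at h0
      rw [h] at h0
      exact lt_irrefl _ h0
    · intro h
      have hle1 : P.1 (wrMat (AlgHom.id k K) Ht φ J).det ≤ 1 := by
        by_contra hcon
        apply h
        unfold evalP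
        rw [dif_neg hcon]
      apply le_antisymm hle1
      by_contra hlt
      apply h
      rw [evalP_of_le P hle1, residue_eq_zero_iff]
      exact not_le.mp hlt
  · rw [hkey, wDiv_at_fixed hK (AlgHom.id k K) P hid φ heff hnorm ht Ht J Φ hΦ,
      val_eq_exp_neg_ord P hW, ← exp_zero, exp_inj]
    constructor <;> intro h <;> omega

end Groth.Agent.Lib.LeadHS
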