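import Groth.Agent.Lib.LeadHS17

/-! Linear independence of truncated binomial vectors. -/

namespace Groth.Agent.Lib.LeadHS

open Polynomial

variable {k : Type*} [Field k]

/-- The vectors `(C(e_r, m))_{m ≤ e_last - e_0}` are linearly independent for strictly increasing
exponents. -/
theorem binom_indep {l : ℕ} (e : Fin (l + 1) → ℕ) (he : StrictMono e) (γ : Fin (l + 1) → k)
    (h : ∀ m, m ≤ e (Fin.last l) - e 0 → ∑ r, γ r * ((e r).choose m : k) = 0) : γ = 0 := by
  classical
  set N := e (Fin.last l) - e 0 with hN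
  have hle : ∀ r, e 0 ≤ e r := fun r => he.monotone (Fin.zero_le r)
  have hleN : ∀ r, e r - e 0 ≤ N := by
    intro r
    have := he.monotone (Fin.le_last r)
    omega
  let Q : k[X] := ∑ r, C (γ r) * (1 + X) ^ (e r - e 0)
  have hR : (1 + X : k[X]) ^ (e 0) * Q = ∑ r, C (γ r) * (1 + X) ^ (e r) := by
    rw [Finset.mul_sum]
    apply Finset.sum_congr rfl
    intro r _
    rw [mul_left_comm, ← pow_add, Nat.add_sub_cancel' (hle r)]
  have hcoef : ∀ m, m ≤ N → ((1 + X : k[X]) ^ (e 0) * Q).coeff m = 0 := by
    intro m hm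
    rw [hR, finset_sum_coeff]
    simp only [coeff_C_mul, coeff_one_add_X_pow]
    exact h m hm
  have hdvd : (X : k[X]) ^ (N + 1) ∣ (1 + X) ^ (e 0) * Q := by
    rw [X_pow_dvd_iff]
    intro m hm
    exact hcoef m (by omega)
  have hcop : IsCoprime ((X : k[X]) ^ (N + 1)) ((1 + X) ^ (e 0)) := by
    apply IsCoprime.pow
    exact ⟨-1, 1, by ring⟩
  have hdvdQ : (X : k[X]) ^ (N + 1) ∣ Q := hcop.dvd_of_dvd_mul_left hdvd
  have hdeg : Q.natDegree < N + 1 := by
    have h1 : Q.natDegree ≤ N := by
      apply natDegree_sum_le_of_forall_le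
      intro r _
      calc (C (γ r) * (1 + X) ^ (e r - e 0)).natDegree
          ≤ ((1 + X : k[X]) ^ (e r - e 0)).natDegree := natDegree_C_mul_le _ _
        _ ≤ (e r - e 0) * (1 + X : k[X]).natDegree := natDegree_pow_le
        _ ≤ (e r - e 0) * 1 := by
            apply Nat.mul_le_mul_left
            rw [add_comm]
            exact (natDegree_X_add_C (1 : k)).le
        _ ≤ N := by rw [mul_one]; exact hleN r
    omega
  have hQ0 : Q = 0 := by
    by_contra hne
    have := natDegree_le_of_dvd hdvdQ hne
    rw [natDegree_X_pow] at this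
    omega
  -- substitute `X - 1`
  have hcomp : ∑ r, C (γ r) * (X : k[X]) ^ (e r - e 0) = 0 := by
    have h1 := congrArg (fun p : k[X] => p.comp (X - 1)) hQ0
    simp only [Q, zero_comp, sum_comp, mul_comp, C_comp, pow_comp, add_comp, one_comp, X_comp] at h1
    have h2 : (1 + (X - 1) : k[X]) = X := by ring
    rw [h2] at h1
    exact h1
  funext r0
  have h3 := congrArg (fun p : k[X] => p.coeff (e r0 - e 0)) hcomp
  simp only [finset_sum_coeff, coeff_C_mul, coeff_X_pow, coeff_zero] at h3
  rw [Finset.sum_eq_single r0] at h3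
  · simpa using h3
  · intro r _ hr
    rw [if_neg, mul_zero]
    intro heq
    apply hr
    have h4 : e r = e r0 := by
      have := hle r
      have := hle r0
      omega
    exact he.injective h4
  · intro h; exact absurd (Finset.mem_univ _) h

end Groth.Agent.Lib.LeadHS
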