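import Groth.Agent.Lib.LeadHS18

/-! τ-orders at a strong fixed point (S12606). -/

namespace Groth.Agent.Lib.LeadHS

open FunFld WithZero Groth.Agent.Lib.LeadFF Groth.Agent.Lib.LeadSV

universe u v
variable {k : Type u} {K : Type v} [Field k] [Field K] [Algebra k K]

lemma strong_fixed (τ : K →ₐ[k] K) (P : Place k K) (hP : IsStrongFixedPt τ P) : IsFixedPt τ P := by
  intro z hz
  refine lt_of_le_of_lt (hP z hz) ?_
  rw [← exp_zero, exp_lt_exp]; norm_num

/-- residue of a linear relation. -/
lemma relation_residue [IsAlgClosed k] (P : Place k K) {ι : Type*} [Fintype ι]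
    (γ B : ι → K) (g b : ι → k) (hγ : ∀ i, P.1 (γ i - algebraMap k K (g i)) < 1)
    (hB : ∀ i, P.1 (B i - algebraMap k K (b i)) < 1) (hrel : ∑ i, γ i * B i = 0) :
    ∑ i, g i * b i = 0 := by
  by_contra hne
  have h1 : P.1 (algebraMap k K (∑ i, g i * b i)) = 1 := place_trivOn P _ hne
  have h2 : algebraMap k K (∑ i, g i * b i) =
      - ∑ i, (γ i * B i - algebraMap k K (g i * b i)) := by
    rw [Finset.sum_sub_distrib, hrel, zero_sub, neg_neg, map_sum]
  have h3 : P.1 (∑ i, (γ i * B i - algebraMap k K (g i * b i))) < 1 := by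
    apply Valuation.map_sum_lt P.1 one_ne_zero
    intro i _
    have e : γ i * B i - algebraMap k K (g i * b i) =
        (γ i - algebraMap k K (g i)) * B i + algebraMap k K (g i) * (B i - algebraMap k K (b i)) := by
      rw [map_mul]; ring
    rw [e]
    refine lt_of_le_of_lt (P.1.map_add _ _) (max_lt ?_ ?_)
    · rw [map_mul]
      calc P.1 (γ i - algebraMap k K (g i)) * P.1 (B i)
          ≤ P.1 (γ i - algebraMap k K (g i)) * 1 :=
            mul_le_mul' le_rfl (val_le_one_of_sub_lt P (hB i))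
        _ = _ := mul_one _
        _ < 1 := hγ i
    · rw [map_mul]
      calc P.1 (algebraMap k K (g i)) * P.1 (B i - algebraMap k K (b i))
          ≤ 1 * P.1 (B i - algebraMap k K (b i)) := mul_le_mul' (P.2.1 _) le_rfl
        _ = _ := one_mul _
        _ < 1 := hB i
  rw [h2, Valuation.map_neg] at h1
  rw [h1] at h3
  exact lt_irrefl _ h3

theorem no_row_relation [IsAlgClosed k] (hK : IsFunctionField k K) (τ : K →ₐ[k] K)
    (P : Place k K) (hP : IsStrongFixedPt τ P) {t : K} (ht : P.1 t = exp (-1 : ℤ))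
    {Ht : K →ₐ[k] PowerSeries K} (hHt : LocRes.IsHasseFamily t Ht) {l : ℕ}
    (x : Fin (l + 2) → K) (e : Fin (l + 1) → ℕ) (he : StrictMono e) (he0 : 1 ≤ e 0)
    (hx0 : P.1 (x 0) = 1) (hx : ∀ r : Fin (l + 1), P.1 (x r.succ) = exp (-(e r : ℤ)))
    (α : Fin (l + 2) → K) (hα0 : ∑ i, α i * τ (x i) = 0)
    (hα : ∀ m, m ≤ e (Fin.last l) - e 0 → ∑ i, α i * LocRes.hasseD Ht m (x i) = 0) :
    α = 0 := by
  classical
  have hfix := strong_fixed τ P hP
  have ht0 : t ≠ 0 := unif_ne_zero ht
  by_contra hne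
  obtain ⟨i1, hi1⟩ : ∃ i, α i ≠ 0 := by
    by_contra h
    push Not at h
    exact hne (funext h)
  let d : Fin (l + 2) → ℕ := Fin.cases 0 e
  have hd : ∀ i, P.1 (x i) = exp (-(d i : ℤ)) := by
    intro i
    refine Fin.cases ?_ (fun r => ?_) i
    · simp [d, hx0]
    · simp only [d, Fin.cases_succ]; exact hx r
  have hdpos : ∀ r : Fin (l + 1), 1 ≤ d r.succ := by
    intro r
    simp only [d, Fin.cases_succ]
    exact le_trans he0 (he.monotone (Fin.zero_le r))
  have hex : ∀ i, ∃ a : k, a ≠ 0 ∧ ∀ I0 : ℕ,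
      P.1 (t ^ I0 * LocRes.hasseD Ht I0 (x i) / t ^ (d i) -
        algebraMap k K (((d i).choose I0 : k) * a)) < 1 :=
    fun i => scaled_entry hK P ht hHt (hd i)
  choose a ha0 ha using hex
  -- normalisation
  let β : Fin (l + 2) → K := fun i => α i * t ^ (d i)
  obtain ⟨i0, -, hi0⟩ := Finset.exists_max_image Finset.univ (fun i => P.1 (β i))
    ⟨i1, Finset.mem_univ _⟩
  have hβ0 : β i0 ≠ 0 := by
    intro h0
    have := hi0 i1 (Finset.mem_univ _)
    rw [h0, map_zero] at this
    have hβ1 : β i1 ≠ 0 := mul_ne_zero hi1 (pow_ne_zero _ ht0)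
    exact (Valuation.ne_zero_iff _).mpr hβ1 (le_antisymm this zero_le)
  let γ : Fin (l + 2) → K := fun i => β i / β i0
  have hγ1 : ∀ i, P.1 (γ i) ≤ 1 := by
    intro i
    simp only [γ]
    rw [map_div₀]
    exact div_le_one_of_le₀ (hi0 i (Finset.mem_univ _)) zero_le
  choose g hg using fun i => exists_const_sub_lt_one hK P (hγ1 i)
  have hg0 : g i0 ≠ 0 := by
    intro h0
    have := hg i0
    rw [h0, map_zero, sub_zero] at this
    simp only [γ] at this
    rw [div_self hβ0, map_one] at this
    exact lt_irrefl _ this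
  -- the relations, scaled
  have hrelτ : ∑ i, γ i * (τ (x i) / t ^ (d i)) = 0 := by
    have : ∑ i, γ i * (τ (x i) / t ^ (d i)) = (∑ i, α i * τ (x i)) / β i0 := by
      rw [Finset.sum_div]
      apply Finset.sum_congr rfl
      intro i _
      simp only [γ, β]
      field_simp
    rw [this, hα0, zero_div]
  have hrelm : ∀ m, m ≤ e (Fin.last l) - e 0 →
      ∑ i, γ i * (t ^ m * LocRes.hasseD Ht m (x i) / t ^ (d i)) = 0 := by
    intro m hm
    have : ∑ i, γ i * (t ^ m * LocRes.hasseD Ht m (x i) / t ^ (d i)) =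
        t ^ m * (∑ i, α i * LocRes.hasseD Ht m (x i)) / β i0 := by
      rw [Finset.mul_sum, Finset.sum_div]
      apply Finset.sum_congr rfl
      intro i _
      simp only [γ, β]
      field_simp
    rw [this, hα m hm, mul_zero, zero_div]
  -- first column residues
  let b0 : Fin (l + 2) → k := Fin.cases (a 0) (fun _ => 0)
  have hb0 : ∀ i, P.1 (τ (x i) / t ^ (d i) - algebraMap k K (b0 i)) < 1 := by
    intro i
    refine Fin.cases ?_ (fun r => ?_) i
    · have h1 := ha 0 0
      simp only [d, Fin.cases_zero, pow_zero, one_mul, div_one, Nat.choose_self, Nat.cast_one,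
        hasseD_zero hHt] at h1
      simpa [d, b0] using fixed_sub_lt hfix h1
    · simp only [b0, Fin.cases_succ, map_zero, sub_zero]
      exact (fixed_first_col hK hfix ht (hd r.succ)).2 hP (hdpos r)
  have hres0 := relation_residue P γ _ g b0 hg hb0 hrelτ
  have hg00 : g 0 = 0 := by
    rw [Fin.sum_univ_succ] at hres0
    simp only [b0, Fin.cases_zero, Fin.cases_succ, mul_zero, Finset.sum_const_zero, add_zero] at hres0
    rcases mul_eq_zero.mp hres0 with h | h
    · exact h
    · exact absurd h (ha0 0)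
  have hresm : ∀ m, m ≤ e (Fin.last l) - e 0 →
      ∑ r : Fin (l + 1), (g r.succ * a r.succ) * ((e r).choose m : k) = 0 := by
    intro m hm
    have h1 := relation_residue P γ _ g (fun i => ((d i).choose m : k) * a i) hg
      (fun i => ha i m) (hrelm m hm)
    rw [Fin.sum_univ_succ, hg00, zero_mul, zero_add] at h1
    rw [← h1]
    apply Finset.sum_congr rfl
    intro r _
    simp only [d, Fin.cases_succ]
    ring
  have hzero := binom_indep e he (fun r => g r.succ * a r.succ) hresm
  have hgall : ∀ i, g i = 0 := by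
    intro i
    refine Fin.cases hg00 (fun r => ?_) i
    have := congrFun hzero r
    simp only [Pi.zero_apply] at this
    rcases mul_eq_zero.mp this with h | h
    · exact h
    · exact absurd h (ha0 _)
  exact hg0 (hgall i0)

end Groth.Agent.Lib.LeadHS
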