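import Groth.Agent.Lib.LeadHS1

/-! Uniqueness of total Hasse derivatives. -/

namespace Groth.Agent.Lib.LeadHS

open PowerSeries Finset
open scoped KaehlerDifferential

section Aux
variable {L : Type*} [CommRing L]

lemma coeff_mul_of_low_zero {n : ℕ} (f g : L⟦X⟧) (hg : ∀ m < n, coeff m g = 0) :
    coeff n (f * g) = constantCoeff f * coeff n g := by
  obtain ⟨g', rfl⟩ := PowerSeries.X_pow_dvd_iff.mpr hg
  rw [← mul_assoc, mul_comm f, mul_assoc, PowerSeries.coeff_X_pow_mul', if_pos le_rfl,
    Nat.sub_self, PowerSeries.coeff_X_pow_mul', if_pos le_rfl, Nat.sub_self,
    coeff_zero_eq_constantCoeff_apply, coeff_zero_eq_constantCoeff_apply, map_mul]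

end Aux

variable {k K : Type*} [Field k] [Field K] [Algebra k K]

lemma deriv_eq_zero_of_span {M : Type*} [AddCommGroup M] [Module K M] [Module k M]
    [IsScalarTower k K M] (δ : Derivation k K M) (x : K)
    (hx : ∀ ω : Ω[K⁄k], ∃ c : K, ω = c • KaehlerDifferential.D k K x) (hδ : δ x = 0) (y : K) :
    δ y = 0 := by
  obtain ⟨c, hc⟩ := hx (KaehlerDifferential.D k K y)
  rw [← Derivation.liftKaehlerDifferential_comp_D δ y, hc, map_smul,
    Derivation.liftKaehlerDifferential_comp_D, hδ, smul_zero]

theorem hasse_unique {L : Type*} [CommRing L] [Algebra k L] (x : K)
    (hx : ∀ ω : Ω[K⁄k], ∃ c : K, ω = c • KaehlerDifferential.D k K x)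
    (α β : K →ₐ[k] PowerSeries L) (h0 : ∀ y, constantCoeff (α y) = constantCoeff (β y))
    (hαβ : α x = β x) : α = β := by
  have key : ∀ n : ℕ, ∀ y : K, coeff n (α y) = coeff n (β y) := by
    intro n
    induction n using Nat.strong_induction_on with
    | _ n ih =>
      rcases Nat.eq_zero_or_pos n with rfl | hn
      · intro y
        rw [coeff_zero_eq_constantCoeff_apply, coeff_zero_eq_constantCoeff_apply, h0]
      · let ι : K →+* L := (constantCoeff (R := L)).comp α.toRingHom
        have hι : ∀ y, ι y = constantCoeff (α y) := fun y => rfl
        have hιk : ∀ c : k, ι (algebraMap k K c) = algebraMap k L c := by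
          intro c
          rw [hι, α.commutes]
          rfl
        letI : Module K L := Module.compHom L ι
        have hsmul : ∀ (a : K) (l : L), a • l = ι a * l := fun a l => rfl
        haveI : IsScalarTower k K L := ⟨by
          intro c a l
          rw [hsmul, hsmul, Algebra.smul_def, map_mul, hιk, mul_assoc, ← Algebra.smul_def]⟩
        let δ : Derivation k K L :=
          { toFun := fun y => coeff n (α y) - coeff n (β y)
            map_add' := by
              intro a b
              simp only [map_add]; ring
            map_smul' := by
              intro c a
              simp only [map_smul, RingHom.id_apply, PowerSeries.coeff_smul, smul_sub]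
            map_one_eq_zero' := by
              show coeff n (α 1) - coeff n (β 1) = 0
              rw [_root_.map_one α, _root_.map_one β, sub_self]
            leibniz' := by
              intro a b
              show coeff n (α (a * b)) - coeff n (β (a * b)) =
                a • (coeff n (α b) - coeff n (β b)) + b • (coeff n (α a) - coeff n (β a))
              rw [hsmul, hsmul, _root_.map_mul α, _root_.map_mul β]
              have e : α a * α b - β a * β b = α a * (α b - β b) + β b * (α a - β a) := by ring
              have h1 : coeff n (α a * (α b - β b)) = constantCoeff (α a) * coeff n (α b - β b) := by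
                apply coeff_mul_of_low_zero
                intro m hm
                rw [map_sub, ih m hm b, sub_self]
              have h2 : coeff n (β b * (α a - β a)) = constantCoeff (β b) * coeff n (α a - β a) := by
                apply coeff_mul_of_low_zero
                intro m hm
                rw [map_sub, ih m hm a, sub_self]
              rw [← map_sub, e, map_add, h1, h2, map_sub, map_sub, hι, hι, h0 b] }
        have hδ : ∀ y, δ y = coeff n (α y) - coeff n (β y) := fun y => rfl
        have hδx : δ x = 0 := by rw [hδ, hαβ, sub_self]
        intro y
        have := deriv_eq_zero_of_span δ x hx hδx y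
        rw [hδ, sub_eq_zero] at this
        exact this
  apply AlgHom.ext
  intro y
  exact PowerSeries.ext fun n => key n y

end Groth.Agent.Lib.LeadHS
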