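import Groth.Agent.Lib.LeadHS19

/-! τ-orders at a strong fixed point (S12606), assembly. -/

namespace Groth.Agent.Lib.LeadHS

open FunFld WithZero Groth.Agent.Lib.LeadFF Groth.Agent.Lib.LeadSV

universe u v
variable {k : Type u} {K : Type v} [Field k] [Field K] [Algebra k K]

/-- adapted basis together with the change of basis matrix. -/
theorem exists_adapted_change [IsAlgClosed k] (hK : IsFunctionField k K) (P : Place k K) {n : ℕ}
    (φ : Fin (n + 1) → K) (hφ : LinearIndependent k φ)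
    (heff : (1 : K) ∈ Submodule.span k (Set.range φ)) (hnorm : ∀ i, P.1 (φ i) ≤ 1) {t : K}
    (ht : P.1 t = exp (-1 : ℤ)) {Ht : K →ₐ[k] PowerSeries K} (hHt : LocRes.IsHasseFamily t Ht)
    {J' : Fin n → ℕ} (hJ' : IsOrders (IsLocalRing.ResidueField P.O) (hcolAt P Ht φ) J') :
    ∃ (φ' : Fin (n + 1) → K) (A : Matrix (Fin (n + 1)) (Fin (n + 1)) k), A.det ≠ 0 ∧
      (∀ i, φ' i = ∑ j, A i j • φ j) ∧ P.1 (φ' 0) = 1 ∧
      ∀ l : Fin n, P.1 (φ' l.succ) = exp (-(J' l : ℤ)) := by
  classical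
  obtain ⟨φ', hspan', h00, -, hφ'l⟩ := exists_adapted_basis hK P φ hnorm ht hHt hJ' hφ heff
  have hli' : LinearIndependent k φ' := by
    rw [linearIndependent_iff_card_eq_finrank_span, Set.finrank, hspan', finrank_span_eq_card hφ]
  have hA : ∀ i, ∃ b : Fin (n + 1) → k, ∑ j, b j • φ j = φ' i := fun i =>
    (Submodule.mem_span_range_iff_exists_fun k).mp
      (by rw [← hspan']; exact Submodule.subset_span ⟨i, rfl⟩)
  choose A hAφ using hA
  let Am : Matrix (Fin (n + 1)) (Fin (n + 1)) k := Matrix.of A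
  have hφ'A : ∀ i, φ' i = ∑ j, Am i j • φ j := fun i => (hAφ i).symm
  have hdetA : Am.det ≠ 0 := by
    intro h0
    obtain ⟨v, hv0, hv⟩ := Matrix.exists_vecMul_eq_zero_iff.mpr h0
    have hsum : ∑ i, v i • φ' i = 0 := by
      have e1 : ∑ i, v i • φ' i = ∑ j, (∑ i, v i * Am i j) • φ j := by
        simp_rw [hφ'A, Finset.smul_sum, smul_smul]
        rw [Finset.sum_comm]
        apply Finset.sum_congr rfl
        intro j _
        rw [Finset.sum_smul]
      rw [e1]
      apply Finset.sum_eq_zero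
      intro j _
      have h1 := congrFun hv j
      simp only [Matrix.vecMul, dotProduct, Pi.zero_apply] at h1
      rw [h1, zero_smul]
    exact hv0 (funext ((Fintype.linearIndependent_iff.mp hli') v hsum))
  exact ⟨φ', Am, hdetA, hφ'A, h00, fun l => (hφ'l l).1⟩

theorem strong_orders_le [IsAlgClosed k] (hK : IsFunctionField k K) (τ : K →ₐ[k] K)
    (P : Place k K) (hP : IsStrongFixedPt τ P) {n : ℕ} (hn : 0 < n) (φ : Fin (n + 1) → K)
    (hφ : LinearIndependent k φ) (heff : (1 : K) ∈ Submodule.span k (Set.range φ))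
    (hnorm : ∀ i, P.1 (φ i) ≤ 1) {t : K} (ht : P.1 t = exp (-1 : ℤ))
    {Ht : K →ₐ[k] PowerSeries K} (hHt : LocRes.IsHasseFamily t Ht) (J : Fin n → ℕ)
    (hJ : IsOrders K (hcol τ Ht φ) J) (J' : Fin n → ℕ)
    (hJ' : IsOrders (IsLocalRing.ResidueField P.O) (hcolAt P Ht φ) J') :
    ∀ l, J l + J' ⟨0, hn⟩ ≤ J' l := by
  classical
  intro l
  by_contra hlt
  rw [not_le] at hlt
  have hmono : J' ⟨0, hn⟩ ≤ J' l := hJ'.1.monotone (by rw [Fin.le_def]; exact Nat.zero_le _)
  set Il := J' l - J' ⟨0, hn⟩ with hIl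
  have hIlt : Il < J l := by omega
  obtain ⟨φ', Am, hdetA, hφ'A, h00, hφ'l⟩ :=
    exists_adapted_change hK P φ hφ heff hnorm ht hHt hJ'
  obtain ⟨T, hT⟩ := hcol_change Am φ φ' hdetA hφ'A τ Ht
  have hJφ' : IsOrders K (hcol τ Ht φ') J := by
    have e1 : hcol τ Ht φ' = fun m => T (hcol τ Ht φ m) := funext hT
    rw [e1, isOrders_equiv]; exact hJ
  have hcard := card_jumps_le hJφ' l Il hIlt
  have hfr := finrank_span_Iio_eq (R := K) (hcol τ Ht φ') (Il + 2)
  set V := Submodule.span K (hcol τ Ht φ' '' Set.Iio (Il + 2)) with hV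
  have hl : (l : ℕ) + 2 ≤ n + 1 := by have := l.2; omega
  let ι : Fin ((l : ℕ) + 2) → Fin (n + 1) := fun i => ⟨i, by have := i.2; omega⟩
  let π : (Fin (n + 1) → K) →ₗ[K] (Fin ((l : ℕ) + 2) → K) := LinearMap.funLeft K K ι
  have hVπ : Module.finrank K (V.map π) < (l : ℕ) + 2 := by
    calc Module.finrank K (V.map π) ≤ Module.finrank K V := Submodule.finrank_map_le π V
      _ ≤ (l : ℕ) + 1 := by rw [hfr]; exact hcard
      _ < (l : ℕ) + 2 := by omega
  have hne_top : V.map π ≠ ⊤ := by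
    intro h
    rw [h, finrank_top, Module.finrank_fin_fun] at hVπ
    omega
  obtain ⟨f, hf0, hf⟩ := Submodule.exists_le_ker_of_lt_top _ (lt_top_iff_ne_top.mpr hne_top)
  let α : Fin ((l : ℕ) + 2) → K := fun i => f (fun j => if i = j then 1 else 0)
  have hfa : ∀ v : Fin ((l : ℕ) + 2) → K, f v = ∑ i, α i * v i := by
    intro v
    rw [LinearMap.pi_apply_eq_sum_univ f v]
    apply Finset.sum_congr rfl
    intro i _
    simp only [smul_eq_mul, α]
    ring
  have hαne : α ≠ 0 := by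
    intro h
    apply hf0
    apply LinearMap.ext
    intro v
    rw [hfa, h]
    simp
  have hrel : ∀ m, m < Il + 2 → ∑ i, α i * hcol τ Ht φ' m (ι i) = 0 := by
    intro m hm
    have h1 : π (hcol τ Ht φ' m) ∈ V.map π :=
      Submodule.mem_map_of_mem (Submodule.subset_span ⟨m, hm, rfl⟩)
    have h2 := hf h1
    rw [LinearMap.mem_ker, hfa] at h2
    exact h2
  let x : Fin ((l : ℕ) + 2) → K := fun i => φ' (ι i)
  let e : Fin ((l : ℕ) + 1) → ℕ := fun r => J' ⟨r, by have := r.2; have := l.2; omega⟩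
  have he : StrictMono e := by
    intro a b hab
    apply hJ'.1
    rw [Fin.lt_def]
    exact hab
  have he0 : 1 ≤ e 0 := orders_at_pos P φ hHt hJ' _
  have hx0 : P.1 (x 0) = 1 := h00
  have hx : ∀ r : Fin ((l : ℕ) + 1), P.1 (x r.succ) = exp (-(e r : ℤ)) := by
    intro r
    have := hφ'l ⟨r, by have := r.2; have := l.2; omega⟩
    exact this
  have hα0 : ∑ i, α i * τ (x i) = 0 := hrel 0 (by omega)
  have helast : e (Fin.last (l : ℕ)) - e 0 = Il := by
    simp only [e, Fin.val_last, Fin.val_zero]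
    rfl
  have hαm : ∀ m, m ≤ e (Fin.last (l : ℕ)) - e 0 →
      ∑ i, α i * LocRes.hasseD Ht m (x i) = 0 := by
    intro m hm
    rw [helast] at hm
    exact hrel (m + 1) (by omega)
  exact hαne (no_row_relation hK τ P hP ht hHt x e he he0 hx0 hx α hα0 hαm)

end Groth.Agent.Lib.LeadHS
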