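import Groth.Agent.Lib.LeadHS2
import Groth.Agent.Lib.LeadMS7

/-! Hasse derivatives through a Laurent expansion (S12583). -/

namespace Groth.Agent.Lib.LeadHS

open PowerSeries Finset FunFld LaurentSeries
open scoped KaehlerDifferential

universe u v w
variable {k : Type u} {K : Type v} [Field k] [Field K] [Algebra k K]

/-- the first Hasse derivative as a derivation. -/
noncomputable def hasseDer (H : K →ₐ[k] PowerSeries K)
    (h0 : ∀ y : K, constantCoeff (H y) = y) : Derivation k K K where
  toFun y := coeff 1 (H y)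
  map_add' a b := by simp only [map_add]
  map_smul' c a := by simp only [map_smul, RingHom.id_apply, PowerSeries.coeff_smul]
  map_one_eq_zero' := by
    show coeff 1 (H 1) = 0
    rw [_root_.map_one H, coeff_one]; simp
  leibniz' a b := by
    show coeff 1 (H (a * b)) = a • coeff 1 (H b) + b • coeff 1 (H a)
    rw [_root_.map_mul H, coeff_mul, Finset.Nat.antidiagonal_succ, Finset.sum_cons,
      Finset.Nat.antidiagonal_zero]
    simp only [Finset.map_singleton, Finset.sum_singleton, Function.Embedding.coeFn_mk,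
      Prod.map, coeff_zero_eq_constantCoeff_apply, h0, smul_eq_mul]
    simp [h0]
    ring

lemma hasseDer_apply (H : K →ₐ[k] PowerSeries K) (h0 : ∀ y : K, constantCoeff (H y) = y) (y : K) :
    hasseDer H h0 y = coeff 1 (H y) := rfl

theorem span_of_hasse (hK : IsFunctionField k K) (hg : IsGeometric k K) {t : K}
    {H : K →ₐ[k] PowerSeries K} (hH : LocRes.IsHasseFamily t H) :
    KaehlerDifferential.D k K t ≠ 0 ∧
      ∀ ω : Ω[K⁄k], ∃ c : K, ω = c • KaehlerDifferential.D k K t := by
  have hD : KaehlerDifferential.D k K t ≠ 0 := by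
    intro h
    have h1 := Derivation.liftKaehlerDifferential_comp_D (hasseDer H hH.2) t
    rw [h, map_zero, hasseDer_apply, hH.1] at h1
    simp at h1
  refine ⟨hD, fun ω => ?_⟩
  have h1 := Groth.Agent.Lib.LeadMS.finrank_kaehler hK hg
  obtain ⟨c, hc⟩ := (finrank_eq_one_iff_of_nonzero' _ hD).mp h1 ω
  exact ⟨c, hc.symm⟩

variable {F : Type w} [Field F] [Algebra k F]

lemma hd_C (j : ℕ) (a : F) : hd j (PowerSeries.C a) = if j = 0 then PowerSeries.C a else 0 := by
  ext m
  rw [coeff_hd, coeff_C]
  split_ifs with h1 h2 h2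
  · have : m = 0 := by omega
    subst this; subst h2; simp
  · omega
  · subst h2
    have : m ≠ 0 := by omega
    simp [coeff_C, this]
  · simp

lemma taylor_C (a : F) : taylor (HahnSeries.C a) = PowerSeries.C (HahnSeries.C a) := by
  rw [← HahnSeries.ofPowerSeries_C, taylor_coe]
  refine PowerSeries.ext fun j => ?_
  simp only [taylorAux, RingHom.comp_apply, coeff_map, coeff_taylor₀, hd_C, coeff_C]
  split_ifs <;> simp

/-- the Taylor map composed with an expansion, as an algebra hom. -/
noncomputable def taylorComp (φ : K →ₐ[k] F⸨X⸩) : K →ₐ[k] PowerSeries (F⸨X⸩) :=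
  { taylor.comp φ.toRingHom with
    commutes' := by
      intro c
      show taylor (φ (algebraMap k K c)) = _
      rw [LocRes.map_algebraMap, taylor_C, PowerSeries.algebraMap_apply]
      congr 1
      rw [HahnSeries.algebraMap_apply', PowerSeries.algebraMap_apply, HahnSeries.ofPowerSeries_C] }

lemma taylorComp_apply (φ : K →ₐ[k] F⸨X⸩) (y : K) : taylorComp φ y = taylor (φ y) := rfl

theorem map_hasse_eq_taylor (hK : IsFunctionField k K) (hg : IsGeometric k K)
    (φ : K →ₐ[k] F⸨X⸩) (t : K) (ht : φ t = HahnSeries.single 1 1)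
    (H : K →ₐ[k] PowerSeries K) (hH : LocRes.IsHasseFamily t H) (y : K) :
    PowerSeries.map (φ : K →+* F⸨X⸩) (H y) = taylor (φ y) := by
  have hspan := (span_of_hasse hK hg hH).2
  have h := hasse_unique (L := F⸨X⸩) t hspan ((PowerSeries.mapAlgHom φ).comp H) (taylorComp φ)
    (by
      intro y
      rw [AlgHom.comp_apply, PowerSeries.mapAlgHom_apply, taylorComp_apply, constantCoeff_taylor,
        ← coeff_zero_eq_constantCoeff_apply, coeff_map, coeff_zero_eq_constantCoeff_apply, hH.2]
      rfl)
    (by
      rw [AlgHom.comp_apply, PowerSeries.mapAlgHom_apply, taylorComp_apply, ht, taylor_single_one,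
        hH.1, map_add, map_C, map_X]
      congr 2)
  have h2 := congrArg (fun f => f y) h
  simpa [PowerSeries.mapAlgHom_apply, taylorComp_apply] using h2

theorem expansion_hasseD (hK : IsFunctionField k K) (hg : IsGeometric k K)
    (φ : K →ₐ[k] F⸨X⸩) (t : K) (ht : φ t = HahnSeries.single 1 1)
    (H : K →ₐ[k] PowerSeries K) (hH : LocRes.IsHasseFamily t H) (x : K) (f : F⟦X⟧)
    (hf : φ x = HahnSeries.ofPowerSeries ℤ F f) (n : ℕ) :
    φ (LocRes.hasseD H n x) = HahnSeries.ofPowerSeries ℤ F (hd n f) := by
  have h1 := congrArg (coeff n) (map_hasse_eq_taylor hK hg φ t ht H hH x)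
  rw [coeff_map, hf, coeff_taylor_coe] at h1
  exact h1

end Groth.Agent.Lib.LeadHS
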