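import Groth.Agent.Lib.LeadSV5

/-! Stöhr–Voloch: multiplying a projective map by a function. -/

namespace Groth.Agent.Lib.LeadSV

open FunFld

variable {k K : Type*} [Field k] [Field K] [Algebra k K]

lemma wrMat_eq_of {n : ℕ} (τ : K →ₐ[k] K) (H : K →ₐ[k] PowerSeries K) (φ : Fin (n + 1) → K)
    (J : Fin n → ℕ) :
    wrMat τ H φ J = Matrix.of fun i m => hcol τ H φ (idx J m) i := by
  ext i m
  exact congrFun (wrMat_col τ H φ J m) i

lemma hcol_smul_tri {ι : Type*} (τ : K →ₐ[k] K) {s : K} (H : K →ₐ[k] PowerSeries K)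
    (hH : LocRes.IsHasseFamily s H) (φ : ι → K) (y : K) (N : ℕ) :
    hcol τ H (y • φ) N - (if N = 0 then τ y else y) • hcol τ H φ N ∈
      Submodule.span K (hcol τ H φ '' Set.Iio N) := by
  classical
  cases N with
  | zero =>
    have : hcol τ H (y • φ) 0 - (if (0 : ℕ) = 0 then τ y else y) • hcol τ H φ 0 = 0 := by
      ext i
      simp [hcol_zero]
    rw [this]; exact Submodule.zero_mem _
  | succ j =>
    have hexp : hcol τ H (y • φ) (j + 1) =
        ∑ p ∈ Finset.HasAntidiagonal.antidiagonal j, (PowerSeries.coeff p.1 (H y)) • hcol τ H φ (p.2 + 1) := by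
      ext i
      change LocRes.hasseD H j ((y • φ) i) = _
      rw [Finset.sum_apply, LocRes.hasseD, Pi.smul_apply, smul_eq_mul, map_mul,
        PowerSeries.coeff_mul]
      rfl
    have hmem : ((0, j) : ℕ × ℕ) ∈ Finset.HasAntidiagonal.antidiagonal j := by simp
    rw [hexp, ← Finset.add_sum_erase _ _ hmem]
    have h0 : PowerSeries.coeff 0 (H y) = y := by
      rw [PowerSeries.coeff_zero_eq_constantCoeff_apply]; exact hH.2 y
    simp only [h0, Nat.succ_ne_zero, if_false, add_sub_cancel_left]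
    apply Submodule.sum_mem
    intro p hp
    rw [Finset.mem_erase, Finset.HasAntidiagonal.mem_antidiagonal] at hp
    apply Submodule.smul_mem
    apply Submodule.subset_span
    refine ⟨p.2 + 1, ?_, rfl⟩
    rw [Set.mem_Iio]
    have : p.1 ≠ 0 := by
      intro h1
      apply hp.1
      ext
      · exact h1
      · simp only; omega
    omega

theorem orders_smul {n : ℕ} (φ : Fin (n + 1) → K) (τ : K →ₐ[k] K) {s : K}
    (H : K →ₐ[k] PowerSeries K) (hH : LocRes.IsHasseFamily s H) (y : K) (hy : y ≠ 0) :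
    (∀ J : Fin n → ℕ, IsOrders K (hcol τ H (y • φ)) J ↔ IsOrders K (hcol τ H φ) J) ∧
    ∀ J : Fin n → ℕ, IsOrders K (hcol τ H φ) J →
      (wrMat τ H (y • φ) J).det = τ y * y ^ n * (wrMat τ H φ J).det := by
  have hu : ∀ N : ℕ, (if N = 0 then τ y else y) ≠ 0 := by
    intro N
    split_ifs
    · intro h; exact hy (τ.toRingHom.injective (by rw [map_zero]; exact h))
    · exact hy
  refine ⟨fun J => tri_orders hu (hcol_smul_tri τ H hH φ y) J, fun J hJ => ?_⟩
  rw [wrMat_eq_of, wrMat_eq_of, det_tri (hcol_smul_tri τ H hH φ y) hJ]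
  congr 1
  rw [Fin.prod_univ_succ]
  simp only [idx, Fin.cases_zero, Fin.cases_succ, if_true, Nat.succ_ne_zero, if_false,
    Finset.prod_const, Finset.card_univ, Fintype.card_fin]

end Groth.Agent.Lib.LeadSV
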