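import Groth.Agent.Lib.LeadHS3
import Groth.Agent.Lib.LeadSV6

/-! Change of separating variable for Hasse derivatives (S12598). -/

namespace Groth.Agent.Lib.LeadHS

open PowerSeries FunFld Groth.Agent.Lib.LeadSV
open scoped KaehlerDifferential

universe u v
variable {k : Type u} {K : Type v} [Field k] [Field K] [Algebra k K]

section PSaux
variable {R : Type*} [CommRing R]

lemma coeff_pow_of_lt {σ : R⟦X⟧} (hσ : constantCoeff σ = 0) {j d : ℕ} (h : j < d) :
    coeff j (σ ^ d) = 0 := by
  obtain ⟨σ', rfl⟩ := PowerSeries.X_dvd_iff.mpr hσ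
  rw [mul_pow, PowerSeries.coeff_X_pow_mul', if_neg (by omega)]

lemma coeff_pow_self {σ : R⟦X⟧} (hσ : constantCoeff σ = 0) (j : ℕ) :
    coeff j (σ ^ j) = (coeff 1 σ) ^ j := by
  obtain ⟨σ', rfl⟩ := PowerSeries.X_dvd_iff.mpr hσ
  rw [mul_pow, PowerSeries.coeff_X_pow_mul', if_pos le_rfl, Nat.sub_self,
    coeff_zero_eq_constantCoeff_apply, map_pow]
  congr 1
  have := PowerSeries.coeff_succ_X_mul 0 σ'
  rw [zero_add] at this
  rw [this, coeff_zero_eq_constantCoeff_apply]

lemma coeff_subst_tri {σ : R⟦X⟧} (hσ : constantCoeff σ = 0) (f : R⟦X⟧) (j : ℕ) :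
    coeff j (subst σ f) = ∑ m ∈ Finset.range (j + 1), coeff m f * coeff j (σ ^ m) := by
  rw [coeff_subst' (HasSubst.of_constantCoeff_zero' hσ)]
  have hsub : (Function.support fun d => coeff d f • coeff j (σ ^ d)) ⊆
      ((Finset.range (j + 1) : Finset ℕ) : Set ℕ) := by
    intro d hd
    rw [Function.mem_support] at hd
    simp only [Finset.coe_range, Set.mem_Iio]
    by_contra hlt
    apply hd
    rw [coeff_pow_of_lt hσ (by omega), smul_zero]
  rw [finsum_eq_sum_of_support_subset _ hsub]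
  simp only [smul_eq_mul]

end PSaux

/-- the shift series `H_t(s) - s`. -/
noncomputable def shift (Ht : K →ₐ[k] PowerSeries K) (s : K) : PowerSeries K := Ht s - C s

lemma constantCoeff_shift {t : K} {Ht : K →ₐ[k] PowerSeries K} (hHt : LocRes.IsHasseFamily t Ht)
    (s : K) : constantCoeff (shift Ht s) = 0 := by
  simp [shift, hHt.2]

lemma coeff_one_shift (Ht : K →ₐ[k] PowerSeries K) (s : K) :
    coeff 1 (shift Ht s) = LocRes.hasseD Ht 1 s := by
  simp [shift, coeff_C]

theorem hasse_change (hK : IsFunctionField k K) (hg : IsGeometric k K) {s t : K}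
    {Hs Ht : K →ₐ[k] PowerSeries K} (hHs : LocRes.IsHasseFamily s Hs)
    (hHt : LocRes.IsHasseFamily t Ht) (y : K) :
    Ht y = subst (shift Ht s) (Hs y) := by
  have hσ := constantCoeff_shift hHt s
  have ha : HasSubst (shift Ht s) := HasSubst.of_constantCoeff_zero' hσ
  let β : K →ₐ[k] PowerSeries K := ((substAlgHom (R := K) ha).restrictScalars k).comp Hs
  have hβ : ∀ y, β y = subst (shift Ht s) (Hs y) := by
    intro y
    show (substAlgHom (R := K) ha) (Hs y) = _
    rw [coe_substAlgHom]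
  have h := hasse_unique (L := K) s (span_of_hasse hK hg hHs).2 Ht β
    (by
      intro y
      rw [hβ, hHt.2]
      have e : Hs y = C y + (Hs y - C y) := by ring
      rw [e, subst_add ha, map_add]
      have h1 : constantCoeff (subst (shift Ht s) (Hs y - C y)) = 0 := by
        apply constantCoeff_subst_eq_zero hσ
        simp [hHs.2]
      have h2 : constantCoeff (subst (shift Ht s) (C y : PowerSeries K)) = y := by
        rw [subst_C]
        exact MvPowerSeries.constantCoeff_C y
      rw [h1, h2, add_zero])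
    (by
      rw [hβ, hHs.1, subst_add ha, subst_X ha, subst_C]
      show Ht s = C s + (Ht s - C s)
      ring)
  exact (DFunLike.congr_fun h y).trans (hβ y)

lemma hasseD_one_ne_zero (hK : IsFunctionField k K) (hg : IsGeometric k K) {s t : K}
    {Hs Ht : K →ₐ[k] PowerSeries K} (hHs : LocRes.IsHasseFamily s Hs)
    (hHt : LocRes.IsHasseFamily t Ht) : LocRes.hasseD Ht 1 s ≠ 0 := by
  intro h0
  obtain ⟨c, hc⟩ := (span_of_hasse hK hg hHs).2 (KaehlerDifferential.D k K t)
  have h1 := Derivation.liftKaehlerDifferential_comp_D (hasseDer Ht hHt.2) t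
  rw [hc, map_smul, Derivation.liftKaehlerDifferential_comp_D, hasseDer_apply, hasseDer_apply,
    hHt.1] at h1
  have h2 : coeff 1 (Ht s) = 0 := h0
  rw [h2, smul_zero] at h1
  simp at h1

theorem hcol_change_tri (hK : IsFunctionField k K) (hg : IsGeometric k K) {s t : K}
    {Hs Ht : K →ₐ[k] PowerSeries K} (hHs : LocRes.IsHasseFamily s Hs)
    (hHt : LocRes.IsHasseFamily t Ht) {ι : Type*} (τ : K →ₐ[k] K) (φ : ι → K) (N : ℕ) :
    hcol τ Ht φ N - (if N = 0 then 1 else (LocRes.hasseD Ht 1 s) ^ (N - 1)) • hcol τ Hs φ N ∈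
      Submodule.span K (hcol τ Hs φ '' Set.Iio N) := by
  classical
  cases N with
  | zero =>
    have : hcol τ Ht φ 0 - (if (0 : ℕ) = 0 then (1 : K) else (LocRes.hasseD Ht 1 s) ^ (0 - 1)) •
        hcol τ Hs φ 0 = 0 := by
      ext i
      simp [hcol_zero]
    rw [this]; exact Submodule.zero_mem _
  | succ j =>
    have hσ := constantCoeff_shift hHt s
    have hexp : hcol τ Ht φ (j + 1) =
        ∑ m ∈ Finset.range (j + 1), (coeff j ((shift Ht s) ^ m)) • hcol τ Hs φ (m + 1) := by
      ext i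
      change LocRes.hasseD Ht j (φ i) = _
      rw [Finset.sum_apply, LocRes.hasseD, hasse_change hK hg hHs hHt, coeff_subst_tri hσ]
      apply Finset.sum_congr rfl
      intro m _
      rw [Pi.smul_apply, smul_eq_mul, mul_comm]
      rfl
    rw [hexp, Finset.sum_range_succ, coeff_pow_self hσ, coeff_one_shift]
    simp only [Nat.succ_ne_zero, if_false, Nat.add_sub_cancel, add_sub_cancel_right]
    apply Submodule.sum_mem
    intro m hm
    rw [Finset.mem_range] at hm
    apply Submodule.smul_mem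
    apply Submodule.subset_span
    exact ⟨m + 1, by rw [Set.mem_Iio]; omega, rfl⟩

theorem orders_change (hK : IsFunctionField k K) (hg : IsGeometric k K) {s t : K}
    {Hs Ht : K →ₐ[k] PowerSeries K} (hHs : LocRes.IsHasseFamily s Hs)
    (hHt : LocRes.IsHasseFamily t Ht) {n : ℕ} (τ : K →ₐ[k] K) (φ : Fin (n + 1) → K) :
    (∀ J : Fin n → ℕ, IsOrders K (hcol τ Ht φ) J ↔ IsOrders K (hcol τ Hs φ) J) ∧
    ∀ J : Fin n → ℕ, IsOrders K (hcol τ Hs φ) J →
      (wrMat τ Ht φ J).det = LocRes.hasseD Ht 1 s ^ (∑ l, J l) * (wrMat τ Hs φ J).det := by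
  have hd := hasseD_one_ne_zero hK hg hHs hHt
  have hu : ∀ N : ℕ, (if N = 0 then (1 : K) else (LocRes.hasseD Ht 1 s) ^ (N - 1)) ≠ 0 := by
    intro N
    split_ifs
    · exact one_ne_zero
    · exact pow_ne_zero _ hd
  refine ⟨fun J => tri_orders hu (hcol_change_tri hK hg hHs hHt τ φ) J, fun J hJ => ?_⟩
  rw [wrMat_eq_of, wrMat_eq_of, det_tri (hcol_change_tri hK hg hHs hHt τ φ) hJ]
  congr 1
  rw [Fin.prod_univ_succ]
  simp only [idx, Fin.cases_zero, Fin.cases_succ, if_true, Nat.succ_ne_zero, if_false,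
    Nat.add_sub_cancel, one_mul]
  rw [Finset.prod_pow_eq_pow_sum]

end Groth.Agent.Lib.LeadHS
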