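import Groth.Agent.Lib.LeadHS4

/-! Construction of the Laurent expansion at a place of degree one. -/

namespace Groth.Agent.Lib.LeadHS

open PowerSeries FunFld WithZero Groth.Agent.Lib.LeadFF

universe u v
variable {k : Type u} {K : Type v} [Field k] [Field K] [Algebra k K]
  {w : Valuation K (WithZero (Multiplicative ℤ))}

/-- value of the `N`-th truncation of `f` at `t`. -/
noncomputable def tr (t : K) (N : ℕ) (f : k⟦X⟧) : K := Polynomial.aeval t (trunc N f)

lemma tr_zero (t : K) (f : k⟦X⟧) : tr t 0 f = 0 := by simp [tr]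

lemma tr_succ (t : K) (N : ℕ) (f : k⟦X⟧) :
    tr t (N + 1) f = tr t N f + algebraMap k K (coeff N f) * t ^ N := by
  unfold tr
  rw [trunc_succ, map_add, Polynomial.aeval_monomial]

lemma trunc_add' (N : ℕ) (f g : k⟦X⟧) : trunc N (f + g) = trunc N f + trunc N g := by
  ext d
  rw [Polynomial.coeff_add, coeff_trunc, coeff_trunc, coeff_trunc]
  split_ifs <;> simp

lemma tr_add (t : K) (N : ℕ) (f g : k⟦X⟧) : tr t N (f + g) = tr t N f + tr t N g := by
  unfold tr; rw [trunc_add', map_add]

/-- `f` is the `t`-adic expansion of `x`. -/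
def IsExp (w : Valuation K (WithZero (Multiplicative ℤ))) (t : K) (x : K) (f : k⟦X⟧) : Prop :=
  ∀ N : ℕ, w (x - tr t N f) ≤ exp (-(N : ℤ))

lemma IsExp.le_one {t x : K} {f : k⟦X⟧} (h : IsExp w t x f) : w x ≤ 1 := by
  have := h 0
  simpa [tr_zero] using this

lemma val_tr_le_one (hk : TrivOn k w) {t : K} (ht : w t ≤ 1) (N : ℕ) (f : k⟦X⟧) :
    w (tr t N f) ≤ 1 := val_aeval_le_one hk ht _

lemma IsExp.add {t x y : K} {f g : k⟦X⟧} (hx : IsExp w t x f) (hy : IsExp w t y g) :
    IsExp w t (x + y) (f + g) := by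
  intro N
  have e : x + y - tr t N (f + g) = (x - tr t N f) + (y - tr t N g) := by rw [tr_add]; ring
  rw [e]
  exact le_trans (w.map_add _ _) (max_le (hx N) (hy N))

lemma exp_neg_le_one (N : ℕ) : (exp (-(N : ℤ)) : WithZero (Multiplicative ℤ)) ≤ 1 := by
  rw [← exp_zero, exp_le_exp]; omega

lemma IsExp.mul (hk : TrivOn k w) {t x y : K} (ht : w t = exp (-1 : ℤ)) {f g : k⟦X⟧}
    (hx : IsExp w t x f) (hy : IsExp w t y g) : IsExp w t (x * y) (f * g) := by
  intro N
  have ht1 : w t ≤ 1 := by rw [ht, ← exp_zero, exp_le_exp]; omega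
  have hdvd : (Polynomial.X : Polynomial k) ^ N ∣ trunc N f * trunc N g - trunc N (f * g) := by
    rw [Polynomial.X_pow_dvd_iff]
    intro d hd
    rw [Polynomial.coeff_sub, sub_eq_zero]
    have h1 : (trunc N (((trunc N f : Polynomial k) : k⟦X⟧) * ((trunc N g : Polynomial k) : k⟦X⟧))).coeff d =
        (trunc N (f * g)).coeff d := by rw [trunc_trunc_mul_trunc]
    rw [coeff_trunc, if_pos hd, ← Polynomial.coe_mul, Polynomial.coeff_coe] at h1
    exact h1
  obtain ⟨q, hq⟩ := hdvd
  have e : x * y - tr t N (f * g) =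
      (x - tr t N f) * y + tr t N f * (y - tr t N g) + t ^ N * Polynomial.aeval t q := by
    have h2 : tr t N f * tr t N g - tr t N (f * g) = t ^ N * Polynomial.aeval t q := by
      unfold tr
      rw [← map_mul, ← map_sub, hq, map_mul, map_pow, Polynomial.aeval_X]
    linear_combination h2
  rw [e]
  have hN := exp_neg_le_one N
  refine le_trans (w.map_add _ _) (max_le (le_trans (w.map_add _ _) (max_le ?_ ?_)) ?_)
  · rw [map_mul]
    calc w (x - tr t N f) * w y ≤ exp (-(N : ℤ)) * 1 := mul_le_mul' (hx N) hy.le_one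
      _ = _ := mul_one _
  · rw [map_mul]
    calc w (tr t N f) * w (y - tr t N g) ≤ 1 * exp (-(N : ℤ)) :=
          mul_le_mul' (val_tr_le_one hk ht1 N f) (hy N)
      _ = _ := one_mul _
  · rw [map_mul, map_pow, ht, zm0_exp_pow]
    have : ((N : ℤ) * (-1 : ℤ)) = -(N : ℤ) := by ring
    rw [this]
    calc exp (-(N : ℤ)) * w (Polynomial.aeval t q) ≤ exp (-(N : ℤ)) * 1 :=
          mul_le_mul' le_rfl (val_aeval_le_one hk ht1 q)
      _ = _ := mul_one _

lemma isExp_C (hk : TrivOn k w) (t : K) (c : k) : IsExp w t (algebraMap k K c) (C c) := by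
  intro N
  cases N with
  | zero => simp only [tr_zero, sub_zero]; simpa using hk.le_one c
  | succ N =>
    unfold tr
    rw [trunc_C, Polynomial.aeval_C, sub_self, map_zero]
    exact zero_le

lemma isExp_X {t : K} (ht : w t = exp (-1 : ℤ)) : IsExp (k := k) w t t X := by
  intro N
  obtain _ | _ | M := N
  · simp only [tr_zero, sub_zero, ht]
    exact exp_le_exp.mpr (by simp)
  · have : tr (k := k) t 1 X = 0 := by
      rw [tr_succ, tr_zero]; simp
    rw [this, sub_zero, ht]
    simp
  · unfold tr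
    rw [trunc_X, Polynomial.aeval_X, sub_self, map_zero]
    exact zero_le

lemma isExp_unique (hk : TrivOn k w) {t x : K} (ht : w t = exp (-1 : ℤ)) {f g : k⟦X⟧}
    (hf : IsExp w t x f) (hg : IsExp w t x g) : f = g := by
  have key : ∀ n, (∀ m < n, coeff m f = coeff m g) → tr t n f = tr t n g := by
    intro n hn
    unfold tr
    congr 1
    ext d
    rw [coeff_trunc, coeff_trunc]
    split_ifs with h
    · exact hn d h
    · rfl
  ext n
  induction n using Nat.strong_induction_on with
  | _ n ih =>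
    by_contra hne
    have h1 := hf (n + 1)
    have h2 := hg (n + 1)
    rw [tr_succ] at h1 h2
    rw [key n ih] at h1
    have e : algebraMap k K (coeff n f - coeff n g) * t ^ n =
        (x - (tr t n g + algebraMap k K (coeff n g) * t ^ n)) -
          (x - (tr t n g + algebraMap k K (coeff n f) * t ^ n)) := by
      rw [map_sub]; ring
    have h3 : w (algebraMap k K (coeff n f - coeff n g) * t ^ n) ≤ exp (-((n + 1 : ℕ) : ℤ)) := by
      rw [e]
      exact le_trans (w.map_sub _ _) (max_le h2 h1)
    rw [map_mul, hk _ (sub_ne_zero.mpr hne), one_mul, map_pow, ht, zm0_exp_pow, exp_le_exp] at h3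
    push_cast at h3
    omega

section Exist
variable (hsurj : ∀ x : K, w x ≤ 1 → ∃ c : k, w (x - algebraMap k K c) < 1)

open scoped Classical in
/-- the constant part. -/
noncomputable def cst (hsurj : ∀ x : K, w x ≤ 1 → ∃ c : k, w (x - algebraMap k K c) < 1) (z : K) : k :=
  if h : w z ≤ 1 then Classical.choose (hsurj z h) else 0

lemma cst_spec {z : K} (h : w z ≤ 1) : w (z - algebraMap k K (cst hsurj z)) < 1 := by
  unfold cst
  rw [dif_pos h]
  exact Classical.choose_spec (hsurj z h)

/-- the remainder sequence. -/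
noncomputable def rem (hsurj : ∀ x : K, w x ≤ 1 → ∃ c : k, w (x - algebraMap k K c) < 1)
    (t x : K) : ℕ → K
  | 0 => x
  | n + 1 => (rem hsurj t x n - algebraMap k K (cst hsurj (rem hsurj t x n))) / t

lemma rem_le_one {t x : K} (ht : w t = exp (-1 : ℤ)) (hx : w x ≤ 1) (n : ℕ) :
    w (rem hsurj t x n) ≤ 1 := by
  induction n with
  | zero => exact hx
  | succ n ih =>
    show w ((rem hsurj t x n - algebraMap k K (cst hsurj (rem hsurj t x n))) / t) ≤ 1
    have h1 := cst_spec hsurj ih
    have h2 : w (rem hsurj t x n - algebraMap k K (cst hsurj (rem hsurj t x n))) ≤ exp (-1 : ℤ) := by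
      have := (zm0_lt_exp_iff (n := 0)).mp (by simpa using h1)
      simpa using this
    rw [map_div₀, ht]
    exact div_le_one_of_le₀ h2 (by simp)

include hsurj in
theorem exists_isExp {t x : K} (ht : w t = exp (-1 : ℤ)) (hx : w x ≤ 1) :
    ∃ f : k⟦X⟧, IsExp w t x f := by
  have ht0 : t ≠ 0 := by
    intro h; rw [h, map_zero] at ht; exact exp_ne_zero ht.symm
  refine ⟨PowerSeries.mk fun n => cst hsurj (rem hsurj t x n), ?_⟩
  set f : k⟦X⟧ := PowerSeries.mk fun n => cst hsurj (rem hsurj t x n) with hf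
  have key : ∀ N, x = tr t N f + t ^ N * rem hsurj t x N := by
    intro N
    induction N with
    | zero => simp [tr_zero, rem]
    | succ N ih =>
      rw [tr_succ, hf, coeff_mk, ← hf]
      show x = _ + t ^ (N + 1) * ((rem hsurj t x N - algebraMap k K (cst hsurj (rem hsurj t x N))) / t)
      have : t ^ (N + 1) * ((rem hsurj t x N - algebraMap k K (cst hsurj (rem hsurj t x N))) / t) =
          t ^ N * (rem hsurj t x N - algebraMap k K (cst hsurj (rem hsurj t x N))) := by
        field_simp
        ring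
      rw [this]
      linear_combination ih
  intro N
  have e : x - tr t N f = t ^ N * rem hsurj t x N := by
    have := key N
    linear_combination this
  rw [e, map_mul, map_pow, ht, zm0_exp_pow]
  have : ((N : ℤ) * (-1 : ℤ)) = -(N : ℤ) := by ring
  rw [this]
  calc exp (-(N : ℤ)) * w (rem hsurj t x N) ≤ exp (-(N : ℤ)) * 1 :=
        mul_le_mul' le_rfl (rem_le_one hsurj ht hx N)
    _ = _ := mul_one _

end Exist

end Groth.Agent.Lib.LeadHS
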