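import Groth.Agent.Lib.LeadHS5

/-! The Laurent expansion at a place of degree one as an algebra homomorphism. -/

namespace Groth.Agent.Lib.LeadHS

open PowerSeries FunFld WithZero Groth.Agent.Lib.LeadFF LaurentSeries

universe u v
variable {k : Type u} {K : Type v} [Field k] [Field K] [Algebra k K]
  {w : Valuation K (WithZero (Multiplicative ℤ))}

section Build
variable (hk : TrivOn k w) {t : K} (ht : w t = exp (-1 : ℤ))
  (hsurj : ∀ x : K, w x ≤ 1 → ∃ c : k, w (x - algebraMap k K c) < 1)

open scoped Classical in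
/-- the power series expansion of an integral element (`0` otherwise). -/
noncomputable def expPS (ht : w t = exp (-1 : ℤ))
    (hsurj : ∀ x : K, w x ≤ 1 → ∃ c : k, w (x - algebraMap k K c) < 1) (x : K) : k⟦X⟧ :=
  if h : w x ≤ 1 then Classical.choose (exists_isExp hsurj ht h) else 0

lemma isExp_expPS {x : K} (h : w x ≤ 1) : IsExp w t x (expPS ht hsurj x) := by
  unfold expPS
  rw [dif_pos h]
  exact Classical.choose_spec (exists_isExp hsurj ht h)

include hk in
lemma expPS_eq {x : K} {f : k⟦X⟧} (h : IsExp w t x f) : expPS ht hsurj x = f :=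
  isExp_unique hk ht (isExp_expPS ht hsurj h.le_one) h

lemma isExp_one (hk : TrivOn k w) (t : K) : IsExp (k := k) w t 1 1 := by
  have := isExp_C hk t (1 : k)
  simpa using this

lemma isExp_zero (hk : TrivOn k w) (t : K) : IsExp (k := k) w t 0 0 := by
  have := isExp_C hk t (0 : k)
  simpa using this

/-- the expansion ring hom on the valuation ring. -/
noncomputable def expHom (hk : TrivOn k w) (ht : w t = exp (-1 : ℤ))
    (hsurj : ∀ x : K, w x ≤ 1 → ∃ c : k, w (x - algebraMap k K c) < 1) :
    w.valuationSubring →+* k⟦X⟧ where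
  toFun x := expPS ht hsurj (x : K)
  map_one' := expPS_eq hk ht hsurj (isExp_one hk t)
  map_mul' x y := expPS_eq hk ht hsurj
    (IsExp.mul hk ht (isExp_expPS ht hsurj ((Valuation.mem_valuationSubring_iff w _).mp x.2))
      (isExp_expPS ht hsurj ((Valuation.mem_valuationSubring_iff w _).mp y.2)))
  map_zero' := expPS_eq hk ht hsurj (isExp_zero hk t)
  map_add' x y := expPS_eq hk ht hsurj
    (IsExp.add (isExp_expPS ht hsurj ((Valuation.mem_valuationSubring_iff w _).mp x.2))
      (isExp_expPS ht hsurj ((Valuation.mem_valuationSubring_iff w _).mp y.2)))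

lemma expHom_apply (x : w.valuationSubring) : expHom hk ht hsurj x = expPS ht hsurj (x : K) := rfl

include hk ht in
lemma isExp_pow (m : ℕ) : IsExp (k := k) w t (t ^ m) (X ^ m) := by
  induction m with
  | zero => simpa using isExp_one hk t
  | succ m ih =>
    rw [pow_succ, pow_succ]
    exact IsExp.mul hk ht ih (isExp_X ht)

include hk ht hsurj in
lemma val_of_isExp {x : K} {f : k⟦X⟧} (hx0 : x ≠ 0) (h : IsExp w t x f) :
    Valued.v (HahnSeries.ofPowerSeries ℤ k f) = w x := by
  have ht0 : t ≠ 0 := by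
    intro h'; rw [h', map_zero] at ht; exact exp_ne_zero ht.symm
  have hw0 : w x ≠ 0 := (Valuation.ne_zero_iff _).mpr hx0
  have hle := h.le_one
  have hlog : log (w x) ≤ 0 := by
    have hle' : exp (log (w x)) ≤ exp (0 : ℤ) := by rw [exp_log hw0, exp_zero]; exact hle
    exact exp_le_exp.mp hle'
  obtain ⟨m, hm⟩ : ∃ m : ℕ, w x = exp (-(m : ℤ)) := by
    refine ⟨(-(log (w x))).toNat, ?_⟩
    rw [Int.toNat_of_nonneg (by omega), neg_neg, exp_log hw0]
  set u := x / t ^ m with hu
  have hwu : w u = 1 := by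
    rw [hu, map_div₀, map_pow, ht, zm0_exp_pow, hm]
    have : ((m : ℤ) * (-1 : ℤ)) = -(m : ℤ) := by ring
    rw [this]
    exact div_self exp_ne_zero
  have hg := isExp_expPS ht hsurj hwu.le
  set g := expPS ht hsurj u with hgdef
  have hx : t ^ m * u = x := by
    rw [hu]; field_simp
  have hfx : IsExp w t x (X ^ m * g) := by
    rw [← hx]; exact IsExp.mul hk ht (isExp_pow hk ht m) hg
  have hfg : f = X ^ m * g := isExp_unique hk ht h hfx
  have hg0 : coeff 0 g ≠ 0 := by
    intro h0
    have h1 := hg 1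
    rw [tr_succ, tr_zero, h0, map_zero, zero_mul, add_zero, sub_zero, hwu, ← exp_zero,
      exp_le_exp] at h1
    omega
  rw [hm, Groth.Agent.Lib.LeadMS.val_eq_exp_iff]
  constructor
  · intro j hj
    rw [PowerSeries.coeff_coe]
    split_ifs with hneg
    · rfl
    · rw [hfg, PowerSeries.coeff_X_pow_mul', if_neg]
      omega
  · have : ((HahnSeries.ofPowerSeries ℤ k f).coeff (m : ℤ)) = coeff m f := by
      rw [PowerSeries.coeff_coe, if_neg (by omega), Int.natAbs_natCast]
    rw [this, hfg, PowerSeries.coeff_X_pow_mul', if_pos le_rfl, Nat.sub_self]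
    exact hg0

include hk hsurj ht in
lemma expHom_injective :
    Function.Injective ((HahnSeries.ofPowerSeries ℤ k).comp (expHom hk ht hsurj)) := by
  rw [injective_iff_map_eq_zero]
  intro x hx
  by_contra hx0
  have hx0' : (x : K) ≠ 0 := fun h => hx0 (Subtype.ext h)
  have h1 := val_of_isExp hk ht hsurj hx0'
    (isExp_expPS ht hsurj ((Valuation.mem_valuationSubring_iff w _).mp x.2))
  rw [RingHom.comp_apply, expHom_apply] at hx
  rw [hx, map_zero] at h1
  exact (Valuation.ne_zero_iff _).mpr hx0' h1.symm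

/-- the expansion on the whole field. -/
noncomputable def expLS (hk : TrivOn k w) (ht : w t = exp (-1 : ℤ))
    (hsurj : ∀ x : K, w x ≤ 1 → ∃ c : k, w (x - algebraMap k K c) < 1) : K →+* k⸨X⸩ :=
  IsFractionRing.lift (A := w.valuationSubring) (K := K) (expHom_injective hk ht hsurj)

lemma expLS_coe (x : w.valuationSubring) :
    expLS hk ht hsurj (x : K) = HahnSeries.ofPowerSeries ℤ k (expPS ht hsurj (x : K)) := by
  have := IsFractionRing.lift_algebraMap (A := w.valuationSubring) (K := K)
    (expHom_injective hk ht hsurj) x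
  exact this

lemma expLS_of_le {x : K} (hx : w x ≤ 1) :
    expLS hk ht hsurj x = HahnSeries.ofPowerSeries ℤ k (expPS ht hsurj x) :=
  expLS_coe hk ht hsurj ⟨x, (Valuation.mem_valuationSubring_iff w _).mpr hx⟩

lemma val_expLS (y : K) : Valued.v (expLS hk ht hsurj y) = w y := by
  obtain ⟨a, b, hb, rfl⟩ := IsFractionRing.div_surjective (A := w.valuationSubring) y
  have hb0 : (b : K) ≠ 0 := fun h => nonZeroDivisors.ne_zero hb (Subtype.ext h)
  have hval : ∀ c : w.valuationSubring, Valued.v (expLS hk ht hsurj (c : K)) = w (c : K) := by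
    intro c
    by_cases hc : (c : K) = 0
    · rw [hc, map_zero, map_zero, map_zero]
    · rw [expLS_coe]
      exact val_of_isExp hk ht hsurj hc
        (isExp_expPS ht hsurj ((Valuation.mem_valuationSubring_iff w _).mp c.2))
  rw [map_div₀, map_div₀, map_div₀]
  show Valued.v (expLS hk ht hsurj (a : K)) / Valued.v (expLS hk ht hsurj (b : K)) = w (a : K) / w (b : K)
  rw [hval, hval]

lemma expLS_algebraMap (c : k) : expLS hk ht hsurj (algebraMap k K c) = HahnSeries.C c := by
  rw [expLS_of_le hk ht hsurj (hk.le_one c), expPS_eq hk ht hsurj (isExp_C hk t c),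
    HahnSeries.ofPowerSeries_C]

/-- the expansion as an algebra hom. -/
noncomputable def expAlg (hk : TrivOn k w) (ht : w t = exp (-1 : ℤ))
    (hsurj : ∀ x : K, w x ≤ 1 → ∃ c : k, w (x - algebraMap k K c) < 1) : K →ₐ[k] k⸨X⸩ :=
  { expLS hk ht hsurj with
    commutes' := by
      intro c
      show expLS hk ht hsurj (algebraMap k K c) = _
      rw [expLS_algebraMap, HahnSeries.algebraMap_apply', PowerSeries.algebraMap_apply,
        HahnSeries.ofPowerSeries_C]
      rfl }

lemma expAlg_apply (y : K) : expAlg hk ht hsurj y = expLS hk ht hsurj y := rfl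

end Build

theorem exists_expansion (hk : TrivOn k w) {t : K} (ht : w t = exp (-1 : ℤ))
    (hsurj : ∀ x : K, w x ≤ 1 → ∃ c : k, w (x - algebraMap k K c) < 1) :
    ∃ ε : K →ₐ[k] k⸨X⸩, (∀ y, Valued.v (ε y) = w y) ∧ ε t = HahnSeries.single 1 1 ∧
      (∀ c : k, ε (algebraMap k K c) = HahnSeries.C c) ∧
      ∀ x, w x ≤ 1 → ∃ f : k⟦X⟧, ε x = HahnSeries.ofPowerSeries ℤ k f ∧
        w (x - algebraMap k K (coeff 0 f)) < 1 := by
  have ht1 : w t ≤ 1 := by rw [ht, ← exp_zero, exp_le_exp]; omega
  refine ⟨expAlg hk ht hsurj, val_expLS hk ht hsurj, ?_, expLS_algebraMap hk ht hsurj, ?_⟩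
  · rw [expAlg_apply, expLS_of_le hk ht hsurj ht1, expPS_eq hk ht hsurj (isExp_X ht),
      HahnSeries.ofPowerSeries_X]
  · intro x hx
    refine ⟨expPS ht hsurj x, expLS_of_le hk ht hsurj hx, ?_⟩
    have h1 := isExp_expPS ht hsurj hx 1
    rw [tr_succ, tr_zero, pow_zero, mul_one, zero_add] at h1
    refine lt_of_le_of_lt h1 ?_
    rw [← exp_zero, exp_lt_exp]; omega

end Groth.Agent.Lib.LeadHS
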