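import Groth.Agent.Lib.LeadHS6

/-! Hasse derivatives at a place of a function field over an algebraically closed field. -/

namespace Groth.Agent.Lib.LeadHS

open PowerSeries FunFld WithZero Groth.Agent.Lib.LeadFF LaurentSeries

universe u v
variable {k : Type u} {K : Type v} [Field k] [Field K] [Algebra k K]

lemma evalP_eq_of_sub_lt (P : Place k K) {z : K} {c : k} (h : P.1 (z - algebraMap k K c) < 1) :
    evalP P z = algebraMap k (IsLocalRing.ResidueField P.O) c := by
  have hc : P.1 (algebraMap k K c) ≤ 1 := P.2.1 c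
  have hz : P.1 z ≤ 1 := by
    have e : z = (z - algebraMap k K c) + algebraMap k K c := by ring
    rw [e]
    exact le_trans (P.1.map_add _ _) (max_le h.le hc)
  unfold evalP
  rw [dif_pos hz]
  have hcO : algebraMap k K c ∈ P.O := (Valuation.mem_valuationSubring_iff P.1 _).mpr hc
  have h1 : IsLocalRing.residue P.O (⟨z, (Valuation.mem_valuationSubring_iff P.1 z).mpr hz⟩ -
      ⟨algebraMap k K c, hcO⟩) = 0 := by
    rw [residue_eq_zero_iff]
    exact h
  rw [map_sub, sub_eq_zero] at h1
  rw [h1]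
  rfl

lemma evalP_of_le (P : Place k K) {z : K} (hz : P.1 z ≤ 1) :
    evalP P z = IsLocalRing.residue P.O ⟨z, (Valuation.mem_valuationSubring_iff P.1 z).mpr hz⟩ := by
  unfold evalP
  rw [dif_pos hz]

lemma hasseD_zero {t : K} {H : K →ₐ[k] PowerSeries K} (hH : LocRes.IsHasseFamily t H) (x : K) :
    LocRes.hasseD H 0 x = x := by
  rw [LocRes.hasseD, coeff_zero_eq_constantCoeff_apply, hH.2]

/-- local description of the Hasse derivatives with respect to a local parameter. -/
theorem hasse_at_place [IsAlgClosed k] (hK : IsFunctionField k K) (P : Place k K) {t : K}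
    (ht : P.1 t = exp (-1 : ℤ)) {Ht : K →ₐ[k] PowerSeries K} (hHt : LocRes.IsHasseFamily t Ht) :
    ∃ ε : K →ₐ[k] k⸨X⸩, (∀ y, Valued.v (ε y) = P.1 y) ∧
      (∀ c : k, ε (algebraMap k K c) = HahnSeries.C c) ∧
      ∀ x, P.1 x ≤ 1 → ∃ f : k⟦X⟧, ε x = HahnSeries.ofPowerSeries ℤ k f ∧
        ∀ j, P.1 (LocRes.hasseD Ht j x) ≤ 1 ∧
          evalP P (LocRes.hasseD Ht j x) =
            algebraMap k (IsLocalRing.ResidueField P.O) (coeff j f) := by
  have hg := Groth.Agent.Lib.LeadMS.isGeometric_of_isAlgClosed k K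
  obtain ⟨ε, hv, hεt, hεc, hε⟩ := exists_expansion (place_trivOn P) ht
    (fun x hx => exists_const_sub_lt_one hK P hx)
  refine ⟨ε, hv, hεc, fun x hx => ?_⟩
  obtain ⟨f, hf, -⟩ := hε x hx
  refine ⟨f, hf, fun j => ?_⟩
  have h1 := expansion_hasseD hK hg ε t hεt Ht hHt x f hf j
  have hle : P.1 (LocRes.hasseD Ht j x) ≤ 1 := by
    rw [← hv, h1]
    exact (LaurentSeries.val_le_one_iff_eq_coe k _).mpr ⟨hd j f, rfl⟩
  refine ⟨hle, ?_⟩
  obtain ⟨f', hf', hlt⟩ := hε _ hle
  have hff : f' = hd j f := by
    have := hf'.symm.trans h1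
    exact HahnSeries.ofPowerSeries_injective this
  rw [hff, coeff_hd] at hlt
  simp only [zero_add, Nat.choose_self, Nat.cast_one, one_mul] at hlt
  exact evalP_eq_of_sub_lt P hlt

/-- the rows of values of Hasse derivatives are linearly independent. -/
theorem rows_at_place_indep [IsAlgClosed k] (hK : IsFunctionField k K) {ι : Type*} [Fintype ι]
    (φ : ι → K) (hφ : LinearIndependent k φ) (P : Place k K) (hint : ∀ i, P.1 (φ i) ≤ 1) {t : K}
    (ht : P.1 t = exp (-1 : ℤ)) {Ht : K →ₐ[k] PowerSeries K} (hHt : LocRes.IsHasseFamily t Ht) :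
    LinearIndependent (IsLocalRing.ResidueField P.O)
      (fun i : ι => fun j : ℕ => evalP P (LocRes.hasseD Ht j (φ i))) := by
  classical
  obtain ⟨ε, hv, hεc, hε⟩ := hasse_at_place hK P ht hHt
  choose f hf hfj using fun i => hε (φ i) (hint i)
  rw [Fintype.linearIndependent_iff]
  intro a ha
  have hsurj := residue_surjective_of_algClosed hK P
  choose b hb using fun i => hsurj (a i)
  have hinj : Function.Injective (algebraMap k (IsLocalRing.ResidueField P.O)) :=
    (algebraMap k (IsLocalRing.ResidueField P.O)).injective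
  -- the combination vanishes coefficientwise
  have hcoef : ∀ j, ∑ i, b i * coeff j (f i) = 0 := by
    intro j
    apply hinj
    rw [map_zero, map_sum]
    have h1 := congrFun ha j
    rw [Finset.sum_apply] at h1
    simp only [Pi.smul_apply, smul_eq_mul, Pi.zero_apply] at h1
    rw [← h1]
    apply Finset.sum_congr rfl
    intro i _
    rw [map_mul, hb, (hfj i j).2]
  have hzero : ∑ i, b i • f i = 0 := by
    ext j
    rw [map_sum, map_zero]
    simp only [PowerSeries.coeff_smul, smul_eq_mul]
    exact hcoef j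
  have hε0 : ε (∑ i, b i • φ i) = 0 := by
    rw [map_sum]
    have h2 : ∀ i, ε (b i • φ i) = HahnSeries.ofPowerSeries ℤ k (b i • f i) := by
      intro i
      rw [Algebra.smul_def, map_mul, hεc, hf i, PowerSeries.smul_eq_C_mul, map_mul,
        HahnSeries.ofPowerSeries_C]
    simp only [h2]
    rw [← map_sum, hzero, map_zero]
  have h3 : ∑ i, b i • φ i = 0 := by
    have := (ε : K →+* k⸨X⸩).injective
    exact this (by rw [map_zero]; exact hε0)
  have h4 := (Fintype.linearIndependent_iff.mp hφ) b h3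
  intro i
  rw [← hb i, h4 i, map_zero]

end Groth.Agent.Lib.LeadHS
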