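import Groth.Agent.Lib.LeadHS7

/-! Existence of Hasse families for other separating variables; `K`-independence of the rows. -/

namespace Groth.Agent.Lib.LeadHS

open PowerSeries FunFld WithZero Groth.Agent.Lib.LeadFF
open scoped KaehlerDifferential

universe u v
variable {k : Type u} {K : Type v} [Field k] [Field K] [Algebra k K]

/-- a Hasse family for `s` yields one for any `t` with `D_s^{(1)} t ≠ 0`; moreover its coefficient
maps are triangular combinations of those of `Hs`. -/
theorem exists_hasse {s : K} {Hs : K →ₐ[k] PowerSeries K} (hHs : LocRes.IsHasseFamily s Hs)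
    (t : K) (hd : LocRes.hasseD Hs 1 t ≠ 0) :
    ∃ Ht : K →ₐ[k] PowerSeries K, LocRes.IsHasseFamily t Ht ∧
      ∃ u : ℕ → ℕ → K, ∀ (y : K) (j : ℕ),
        LocRes.hasseD Ht j y = ∑ m ∈ Finset.range (j + 1), LocRes.hasseD Hs m y * u j m := by
  set σ := shift Hs t with hσdef
  have hσ : constantCoeff σ = 0 := constantCoeff_shift hHs t
  have hσ1 : IsUnit (coeff 1 σ) := by
    rw [hσdef, coeff_one_shift]; exact IsUnit.mk0 _ hd
  set ρ := substInvOfIsUnit σ hσ1 with hρdef
  have hρ : constantCoeff ρ = 0 := constantCoeff_substInvOfIsUnit σ hσ1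
  have ha : HasSubst ρ := HasSubst.of_constantCoeff_zero' hρ
  let Ht : K →ₐ[k] PowerSeries K := ((substAlgHom (R := K) ha).restrictScalars k).comp Hs
  have hHt : ∀ y, Ht y = subst ρ (Hs y) := by
    intro y
    show (substAlgHom (R := K) ha) (Hs y) = _
    rw [coe_substAlgHom]
  refine ⟨Ht, ⟨?_, ?_⟩, fun j m => coeff j (ρ ^ m), ?_⟩
  · rw [hHt]
    have e : Hs t = C t + σ := by rw [hσdef, shift]; ring
    rw [e, subst_add ha, subst_C]
    have := subst_substInvOfIsUnit_right σ hσ hσ1
    rw [this]
    rfl
  · intro y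
    rw [hHt]
    have e : Hs y = C y + (Hs y - C y) := by ring
    rw [e, subst_add ha, map_add]
    have h1 : constantCoeff (subst ρ (Hs y - C y)) = 0 := by
      apply constantCoeff_subst_eq_zero hρ
      simp [hHs.2]
    have h2 : constantCoeff (subst ρ (C y : PowerSeries K)) = y := by
      rw [subst_C]
      exact MvPowerSeries.constantCoeff_C y
    rw [h1, h2, add_zero]
  · intro y j
    rw [LocRes.hasseD, hHt, coeff_subst_tri hρ]
    rfl

/-- over an algebraically closed field, residue fields are separable. -/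
lemma isSeparable_residue [IsAlgClosed k] (hK : IsFunctionField k K) (P : Place k K) :
    Algebra.IsSeparable k (IsLocalRing.ResidueField P.O) := by
  have h1 := residueField_finite hK P
  haveI : Algebra.IsIntegral k (IsLocalRing.ResidueField P.O) :=
    @Algebra.IsIntegral.of_finite k _ _ _ _ h1
  haveI : Algebra.IsAlgebraic k (IsLocalRing.ResidueField P.O) :=
    Algebra.IsIntegral.isAlgebraic
  exact Algebra.IsAlgebraic.isSeparable_of_perfectField

theorem rows_indep [IsAlgClosed k] (hK : IsFunctionField k K) {ι : Type*} [Fintype ι]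
    (φ : ι → K) (hφ : LinearIndependent k φ) {s : K} {H : K →ₐ[k] PowerSeries K}
    (hH : LocRes.IsHasseFamily s H) :
    LinearIndependent K (fun i : ι => fun j : ℕ => LocRes.hasseD H j (φ i)) := by
  classical
  have hg := Groth.Agent.Lib.LeadMS.isGeometric_of_isAlgClosed k K
  -- a place where all `φ i` are integral
  have hbad : (⋃ i : ι, {P : Place k K | 1 < P.1 (φ i)}).Finite :=
    Set.finite_iUnion (fun i => poles_finite' hK (φ i))
  haveI : Infinite (Place k K) := infinite_places hK
  obtain ⟨P, hP⟩ := hbad.exists_notMem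
  have hint : ∀ i, P.1 (φ i) ≤ 1 := by
    intro i
    by_contra h
    apply hP
    simp only [Set.mem_iUnion, Set.mem_setOf_eq]
    exact ⟨i, not_le.mp h⟩
  obtain ⟨t, ht⟩ := exists_unif P
  haveI := isSeparable_residue hK P
  have hDt : KaehlerDifferential.D k K t ≠ 0 := Groth.Agent.Lib.LeadMS.D_unif_ne_zero hK hg P ht
  have hd : LocRes.hasseD H 1 t ≠ 0 := by
    intro h0
    obtain ⟨c, hc⟩ := (span_of_hasse hK hg hH).2 (KaehlerDifferential.D k K t)
    have h1 := Derivation.liftKaehlerDifferential_comp_D (hasseDer H hH.2) t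
    rw [hc, map_smul, Derivation.liftKaehlerDifferential_comp_D, hasseDer_apply, hasseDer_apply,
      hH.1] at h1
    have h2 : coeff 1 (H t) = 0 := h0
    rw [h2] at h1
    have hc0 : c = 0 := by
      have : c • (coeff 1 (C s + X : PowerSeries K)) = 0 := h1
      simpa using this
    rw [hc0, zero_smul] at hc
    exact hDt hc
  obtain ⟨Ht, hHt, u, hu⟩ := exists_hasse hH t hd
  have hrows := rows_at_place_indep hK φ hφ P hint ht hHt
  obtain ⟨ε, hv, hεc, hε⟩ := hasse_at_place hK P ht hHt
  -- integrality of all entries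
  have hent : ∀ i j, P.1 (LocRes.hasseD Ht j (φ i)) ≤ 1 := by
    intro i j
    obtain ⟨f, -, hf⟩ := hε (φ i) (hint i)
    exact (hf j).1
  rw [Fintype.linearIndependent_iff]
  intro a ha
  by_contra hne
  push Not at hne
  obtain ⟨i1, hi1⟩ := hne
  -- relation for `Ht`
  have hat : ∀ j, ∑ i, a i * LocRes.hasseD Ht j (φ i) = 0 := by
    intro j
    have h1 : ∀ m, ∑ i, a i * LocRes.hasseD H m (φ i) = 0 := by
      intro m
      have := congrFun ha m
      simpa [Finset.sum_apply] using this
    calc ∑ i, a i * LocRes.hasseD Ht j (φ i)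
        = ∑ i, ∑ m ∈ Finset.range (j + 1), (a i * LocRes.hasseD H m (φ i)) * u j m := by
          apply Finset.sum_congr rfl
          intro i _
          rw [hu, Finset.mul_sum]
          apply Finset.sum_congr rfl
          intro m _
          ring
      _ = ∑ m ∈ Finset.range (j + 1), (∑ i, a i * LocRes.hasseD H m (φ i)) * u j m := by
          rw [Finset.sum_comm]
          apply Finset.sum_congr rfl
          intro m _
          rw [Finset.sum_mul]
      _ = 0 := by
          apply Finset.sum_eq_zero
          intro m _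
          rw [h1, zero_mul]
  -- normalise
  obtain ⟨i0, -, hi0⟩ := Finset.exists_max_image Finset.univ (fun i => P.1 (a i)) ⟨i1, Finset.mem_univ _⟩
  have ha0 : a i0 ≠ 0 := by
    intro h0
    have := hi0 i1 (Finset.mem_univ _)
    rw [h0, map_zero] at this
    exact (Valuation.ne_zero_iff _).mpr hi1 (le_antisymm this zero_le)
  have hb : ∀ i, P.1 (a i / a i0) ≤ 1 := by
    intro i
    rw [map_div₀]
    exact div_le_one_of_le₀ (hi0 i (Finset.mem_univ _)) zero_le
  let bO : ι → P.O := fun i => ⟨a i / a i0, (Valuation.mem_valuationSubring_iff P.1 _).mpr (hb i)⟩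
  let eO : ι → ℕ → P.O := fun i j =>
    ⟨LocRes.hasseD Ht j (φ i), (Valuation.mem_valuationSubring_iff P.1 _).mpr (hent i j)⟩
  have hrel : ∀ j, ∑ i, bO i * eO i j = 0 := by
    intro j
    apply Subtype.ext
    show ((∑ i, bO i * eO i j : P.O) : K) = 0
    have : ((∑ i, bO i * eO i j : P.O) : K) = ∑ i, (a i / a i0) * LocRes.hasseD Ht j (φ i) := by
      rw [← ValuationSubring.subtype_apply, map_sum]
      rfl
    rw [this]
    have h2 : ∑ i, (a i / a i0) * LocRes.hasseD Ht j (φ i) =
        (∑ i, a i * LocRes.hasseD Ht j (φ i)) / a i0 := by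
      rw [Finset.sum_div]
      apply Finset.sum_congr rfl
      intro i _
      ring
    rw [h2, hat, zero_div]
  have hres : ∑ i, (IsLocalRing.residue P.O (bO i)) •
      (fun j : ℕ => evalP P (LocRes.hasseD Ht j (φ i))) = 0 := by
    ext j
    rw [Finset.sum_apply]
    simp only [Pi.smul_apply, smul_eq_mul, Pi.zero_apply]
    have h3 := congrArg (IsLocalRing.residue P.O) (hrel j)
    rw [map_sum, map_zero] at h3
    rw [← h3]
    apply Finset.sum_congr rfl
    intro i _
    rw [map_mul, evalP_of_le P (hent i j)]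
  have h4 := (Fintype.linearIndependent_iff.mp hrows) _ hres i0
  have h5 : bO i0 = 1 := by
    apply Subtype.ext
    show a i0 / a i0 = 1
    exact div_self ha0
  rw [h5, map_one] at h4
  exact one_ne_zero h4

end Groth.Agent.Lib.LeadHS
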