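import Groth.Agent.Lib.LeadHS8

/-! Existence of the order sequence and non-vanishing of the Wronskian (S12600). -/

namespace Groth.Agent.Lib.LeadHS

open FunFld Groth.Agent.Lib.LeadSV

section LinAlg
variable {R : Type*} [Field R] {n : ℕ}

/-- if the rows of the tail of a column sequence in `R^(n+1)` are linearly independent, the tail
columns span everything. -/
lemma tail_span_top {c : ℕ → (Fin (n + 1) → R)}
    (hrows : LinearIndependent R (fun i : Fin (n + 1) => fun j : ℕ => c (j + 1) i)) :
    Submodule.span R (Set.range fun j : ℕ => c (j + 1)) = ⊤ := by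
  by_contra hne
  obtain ⟨f, hf0, hf⟩ := Submodule.exists_le_ker_of_lt_top _ (lt_top_iff_ne_top.mpr hne)
  apply hf0
  have hfa : ∀ v : Fin (n + 1) → R, f v = ∑ i, v i * f (fun j => if i = j then 1 else 0) := by
    intro v
    rw [LinearMap.pi_apply_eq_sum_univ f v]
    simp only [smul_eq_mul]
  have hrel : ∑ i, f (fun j => if i = j then 1 else 0) • (fun j : ℕ => c (j + 1) i) = 0 := by
    ext j
    rw [Finset.sum_apply]
    simp only [Pi.smul_apply, smul_eq_mul, Pi.zero_apply]
    have h1 : c (j + 1) ∈ LinearMap.ker f := hf (Submodule.subset_span ⟨j, rfl⟩)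
    rw [LinearMap.mem_ker, hfa] at h1
    refine Eq.trans ?_ h1
    apply Finset.sum_congr rfl
    intro i _
    ring
  have ha := (Fintype.linearIndependent_iff.mp hrows) _ hrel
  apply LinearMap.ext
  intro v
  rw [hfa, LinearMap.zero_apply]
  apply Finset.sum_eq_zero
  intro i _
  rw [ha i, mul_zero]

lemma exists_span_Iio_top {c : ℕ → (Fin (n + 1) → R)}
    (hspan : Submodule.span R (Set.range c) = ⊤) :
    ∃ N, Submodule.span R (c '' Set.Iio N) = ⊤ := by
  let f : ℕ →o Submodule R (Fin (n + 1) → R) :=
    ⟨fun N => Submodule.span R (c '' Set.Iio N), by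
      intro a b hab
      apply Submodule.span_mono
      apply Set.image_mono
      intro x hx
      exact lt_of_lt_of_le hx hab⟩
  obtain ⟨N, hN⟩ := monotone_stabilizes_iff_noetherian.mpr
    (inferInstance : IsNoetherian R (Fin (n + 1) → R)) f
  refine ⟨N, ?_⟩
  rw [eq_top_iff, ← hspan, Submodule.span_le]
  rintro _ ⟨j, rfl⟩
  have h1 : c j ∈ f (max N (j + 1)) := by
    apply Submodule.subset_span
    exact ⟨j, by rw [Set.mem_Iio]; exact lt_of_lt_of_le (Nat.lt_succ_self j) (le_max_right _ _), rfl⟩
  rw [← hN _ (le_max_left _ _)] at h1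
  exact h1

theorem exists_orders {c : ℕ → (Fin (n + 1) → R)} (h0 : c 0 ≠ 0)
    (hrows : LinearIndependent R (fun i : Fin (n + 1) => fun j : ℕ => c (j + 1) i)) :
    ∃ J : Fin n → ℕ, IsOrders R c J ∧
      (Matrix.of fun i m => c (idx J m) i : Matrix (Fin (n + 1)) (Fin (n + 1)) R).det ≠ 0 := by
  classical
  have hspan : Submodule.span R (Set.range c) = ⊤ := by
    rw [eq_top_iff, ← tail_span_top hrows]
    apply Submodule.span_mono
    rintro _ ⟨j, rfl⟩
    exact ⟨j + 1, rfl⟩
  obtain ⟨N, hN⟩ := exists_span_Iio_top hspan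
  have hcard : (jumps (R := R) c N).card = n + 1 := by
    rw [← finrank_span_Iio_eq, hN, finrank_top, Module.finrank_fin_fun]
  have hjump_lt : ∀ j, IsJump R c j → j < N := by
    intro j hj
    by_contra hge
    rw [not_lt] at hge
    apply hj
    have : Submodule.span R (c '' Set.Iio N) ≤ Submodule.span R (c '' Set.Iio j) := by
      apply Submodule.span_mono
      apply Set.image_mono
      intro x hx
      exact lt_of_lt_of_le hx hge
    apply this
    rw [hN]; trivial
  have hmem : ∀ j, j ∈ jumps (R := R) c N ↔ IsJump R c j := by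
    intro j
    simp only [jumps, Finset.mem_filter, Finset.mem_range]
    exact ⟨fun h => h.2, fun h => ⟨hjump_lt j h, h⟩⟩
  have hj0 : IsJump R c 0 := by
    unfold IsJump
    simp only [Set.Iio, Nat.not_lt_zero, Set.ofPred_false, Set.image_empty, Submodule.span_empty,
      Submodule.mem_bot]
    exact h0
  set S := (jumps (R := R) c N).erase 0 with hS
  have hScard : S.card = n := by
    rw [hS, Finset.card_erase_of_mem ((hmem 0).mpr hj0), hcard]; rfl
  have hSmem : ∀ j, j ∈ S ↔ j ≠ 0 ∧ IsJump R c j := by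
    intro j
    rw [hS, Finset.mem_erase, hmem]
  let e := S.orderEmbOfFin hScard
  have he_mem : ∀ l, e l ∈ S := fun l => Finset.orderEmbOfFin_mem S hScard l
  have he_pos : ∀ l, 1 ≤ e l := by
    intro l
    have := ((hSmem _).mp (he_mem l)).1
    omega
  let J : Fin n → ℕ := fun l => e l - 1
  have hJe : ∀ l, J l + 1 = e l := fun l => Nat.sub_add_cancel (he_pos l)
  have hJ : IsOrders R c J := by
    refine ⟨?_, ?_⟩
    · intro a b hab
      have := e.strictMono hab
      show e a - 1 < e b - 1
      have h1 := he_pos a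
      omega
    · intro j
      constructor
      · rintro ⟨l, rfl⟩
        rw [hJe]
        exact ((hSmem _).mp (he_mem l)).2
      · intro hj
        have h1 : j + 1 ∈ S := (hSmem _).mpr ⟨by omega, hj⟩
        have h2 : j + 1 ∈ Set.range e := by
          rw [Finset.range_orderEmbOfFin]; exact h1
        obtain ⟨l, hl⟩ := h2
        exact ⟨l, by show e l - 1 = j; omega⟩
  refine ⟨J, hJ, ?_⟩
  -- the jump columns span
  have hrange : Set.range (fun m : Fin (n + 1) => c (idx J m)) =
      c '' (jumps (R := R) c N : Set ℕ) := by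
    ext v
    constructor
    · rintro ⟨m, rfl⟩
      refine ⟨idx J m, ?_, rfl⟩
      rw [Finset.mem_coe, hmem]
      refine Fin.cases ?_ (fun l => ?_) m
      · simpa [idx] using hj0
      · simp only [idx, Fin.cases_succ]
        rw [hJe]
        exact ((hSmem _).mp (he_mem l)).2
    · rintro ⟨j, hj, rfl⟩
      rw [Finset.mem_coe, hmem] at hj
      rcases Nat.eq_zero_or_pos j with rfl | hpos
      · exact ⟨0, by simp [idx]⟩
      · have h1 : j ∈ S := (hSmem _).mpr ⟨by omega, hj⟩
        have h2 : j ∈ Set.range e := by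
          rw [Finset.range_orderEmbOfFin]; exact h1
        obtain ⟨l, hl⟩ := h2
        refine ⟨l.succ, ?_⟩
        simp only [idx, Fin.cases_succ]
        rw [hJe, hl]
  have hli : LinearIndependent R (fun m : Fin (n + 1) => c (idx J m)) := by
    apply linearIndependent_of_top_le_span_of_card_eq_finrank
    · rw [hrange, ← span_Iio_eq, hN]
    · rw [Fintype.card_fin, Module.finrank_fin_fun]
  have hunit : IsUnit (Matrix.of fun m i => c (idx J m) i : Matrix (Fin (n + 1)) (Fin (n + 1)) R) := by
    rw [← Matrix.linearIndependent_rows_iff_isUnit]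
    exact hli
  have hdet := (Matrix.isUnit_iff_isUnit_det _).mp hunit
  have htr : (Matrix.of fun i m => c (idx J m) i : Matrix (Fin (n + 1)) (Fin (n + 1)) R) =
      (Matrix.of fun m i => c (idx J m) i : Matrix (Fin (n + 1)) (Fin (n + 1)) R).transpose := by
    ext i m; rfl
  rw [htr, Matrix.det_transpose]
  exact hdet.ne_zero

end LinAlg

universe u v
variable {k : Type u} {K : Type v} [Field k] [Field K] [Algebra k K]

theorem exists_orders_hasse [IsAlgClosed k] (hK : IsFunctionField k K) {n : ℕ}
    (φ : Fin (n + 1) → K) (hφ : LinearIndependent k φ) (τ : K →ₐ[k] K) {s : K}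
    {H : K →ₐ[k] PowerSeries K} (hH : LocRes.IsHasseFamily s H) :
    ∃ J : Fin n → ℕ, IsOrders K (hcol τ H φ) J ∧ (wrMat τ H φ J).det ≠ 0 := by
  have hrows := rows_indep hK φ hφ hH
  have h0 : hcol τ H φ 0 ≠ 0 := by
    intro h
    have h1 := congrFun h 0
    have h2 : τ (φ 0) = 0 := h1
    have h3 : φ 0 = 0 := τ.toRingHom.injective (by rw [map_zero]; exact h2)
    exact hφ.ne_zero 0 h3
  obtain ⟨J, hJ, hdet⟩ := exists_orders (c := hcol τ H φ) h0 hrows
  refine ⟨J, hJ, ?_⟩
  rw [wrMat_eq_of]
  exact hdet

end Groth.Agent.Lib.LeadHS
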