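import Groth.Agent.Lib.LeadWD2

/-! Hyperelliptic function fields: rational functions in `x` inside `L(n (x)_∞)`. -/

namespace Groth.Agent.Lib.LeadHY

open Polynomial IntermediateField FunFld WithZero Groth.Agent.Lib.LeadFF Groth.Agent.Lib.LeadWD

universe u v
variable {k : Type u} {K : Type v} [Field k] [Field K] [Algebra k K]

lemma aeval_injective {x : K} (hx : Transcendental k x) :
    Function.Injective (aeval (R := k) x) := transcendental_iff_injective.mp hx

/-- reduced fraction representation of an element of `k(x)`. -/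
lemma exists_coprime_repr {x : K} (hx : Transcendental k x) {u : K} (hu : u ∈ k⟮x⟯) :
    ∃ p q : k[X], q ≠ 0 ∧ IsCoprime p q ∧ u * aeval x q = aeval x p := by
  classical
  obtain ⟨P, Q, hPQ⟩ := (mem_adjoin_simple_iff k u).mp hu
  by_cases hQ : Q = 0
  · refine ⟨0, 1, one_ne_zero, isCoprime_zero_left.mpr isUnit_one, ?_⟩
    have hu0 : u = 0 := by rw [hPQ, hQ, map_zero, div_zero]
    rw [hu0, zero_mul, map_zero]
  · have hQx : aeval x Q ≠ 0 := fun h => hQ (aeval_injective hx (by rw [h, map_zero]))
    have hg : GCDMonoid.gcd P Q ≠ 0 := gcd_ne_zero_of_right hQ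
    have hgx : aeval x (GCDMonoid.gcd P Q) ≠ 0 :=
      fun h => hg (aeval_injective hx (by rw [h, map_zero]))
    refine ⟨P / GCDMonoid.gcd P Q, Q / GCDMonoid.gcd P Q, ?_,
      isCoprime_div_gcd_div_gcd hQ, ?_⟩
    · intro h
      have := EuclideanDomain.mul_div_cancel' hg (gcd_dvd_right P Q)
      rw [h, mul_zero] at this
      exact hQ this.symm
    · have h1 := EuclideanDomain.mul_div_cancel' hg (gcd_dvd_left P Q)
      have h2 := EuclideanDomain.mul_div_cancel' hg (gcd_dvd_right P Q)
      have h3 : u * aeval x (GCDMonoid.gcd P Q * (Q / GCDMonoid.gcd P Q)) =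
          aeval x (GCDMonoid.gcd P Q * (P / GCDMonoid.gcd P Q)) := by
        rw [h1, h2, hPQ, div_mul_cancel₀ _ hQx]
      rw [map_mul, map_mul] at h3
      apply mul_left_cancel₀ hgx
      rw [← h3]; ring

/-- at a pole of `x` the leading term dominates. -/
lemma val_aeval_of_pole (P : Place k K) {x : K} (hx : 1 < P.1 x) (p : k[X]) (hp : p ≠ 0) :
    P.1 (aeval x p) = P.1 x ^ p.natDegree := by
  have hx0 : 0 < P.1 x := lt_trans zero_lt_one hx
  have hlead : P.1 (algebraMap k K p.leadingCoeff * x ^ p.natDegree) = P.1 x ^ p.natDegree := by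
    rw [map_mul, map_pow, place_trivOn P _ (leadingCoeff_ne_zero.mpr hp), one_mul]
  have hrest : P.1 (aeval x p.eraseLead) < P.1 x ^ p.natDegree := by
    rw [aeval_eq_sum_range]
    apply Valuation.map_sum_lt P.1 (pow_ne_zero _ hx0.ne')
    intro i hi
    rw [Algebra.smul_def, map_mul, map_pow]
    by_cases hc : p.eraseLead.coeff i = 0
    · rw [hc, map_zero, map_zero, zero_mul]; exact pow_pos hx0 _
    · have hi' : i < p.natDegree := by
        have h1 : i ≤ p.eraseLead.natDegree := le_natDegree_of_ne_zero hc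
        have h2 : p.natDegree ≠ 0 := by
          intro h0
          have : p.eraseLead = 0 := by
            rw [eq_C_of_natDegree_eq_zero h0]; simp
          rw [this] at hc; simp at hc
        have h3 := eraseLead_natDegree_lt_or_eraseLead_eq_zero p
        rcases h3 with h3 | h3
        · omega
        · rw [h3] at hc; simp at hc
      calc P.1 (algebraMap k K (p.eraseLead.coeff i)) * P.1 x ^ i ≤ 1 * P.1 x ^ i :=
            mul_le_mul' (P.2.1 _) le_rfl
        _ = P.1 x ^ i := one_mul _
        _ < P.1 x ^ p.natDegree := pow_lt_pow_right₀ hx hi'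
  have hsplit : aeval x p = aeval x p.eraseLead +
      algebraMap k K p.leadingCoeff * x ^ p.natDegree := by
    conv_lhs => rw [← eraseLead_add_C_mul_X_pow p]
    rw [map_add, map_mul, aeval_C, map_pow, aeval_X]
  rw [hsplit, Valuation.map_add_eq_of_lt_right _ (by rwa [hlead]), hlead]

/-- the value of the multiple of the pole divisor of `x` at a place. -/
lemma pole_apply (hK : IsFunctionField k K) (x : K) (n : ℕ) (P : Place k K) :
    ((n : ℤ) • zdiv k x⁻¹) P = n * max (-(P.ord x)) 0 := by
  rw [Finsupp.smul_apply, zdiv_apply hK, ord_inv, smul_eq_mul]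

lemma exp_pole_of_le_one (hK : IsFunctionField k K) {x : K} (n : ℕ) (P : Place k K)
    (hx : P.1 x ≤ 1) : ((n : ℤ) • zdiv k x⁻¹) P = 0 := by
  rw [pole_apply hK]
  have := Groth.Agent.Lib.LeadHS.ord_nonneg_of_le_one P hx
  rw [max_eq_right (by omega), mul_zero]

lemma exp_pole_of_pole (hK : IsFunctionField k K) {x : K} (n : ℕ) (P : Place k K)
    (hx : 1 < P.1 x) : exp (((n : ℤ) • zdiv k x⁻¹) P) = P.1 x ^ n := by
  have hx0 : x ≠ 0 := by
    rintro rfl; rw [map_zero] at hx; exact not_lt.mpr zero_le' hx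
  rw [pole_apply hK]
  have h1 := val_eq_exp_neg_ord P hx0
  have h2 : 0 < -(P.ord x) := by
    rw [h1, ← exp_zero, exp_lt_exp] at hx; exact hx
  rw [max_eq_left h2.le, h1, ← exp_nsmul, nsmul_eq_mul]

/-- polynomials of degree `≤ n` in `x` lie in `L(n (x)_∞)`. -/
lemma aeval_mem_L (hK : IsFunctionField k K) (x : K) (n : ℕ) (p : k[X]) (hp : p.natDegree ≤ n) :
    aeval x p ∈ L ((n : ℤ) • zdiv k x⁻¹) := by
  intro P
  by_cases hx : P.1 x ≤ 1
  · rw [exp_pole_of_le_one hK n P hx, exp_zero]
    exact val_aeval_le_one P hx p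
  · rw [not_le] at hx
    rw [exp_pole_of_pole hK n P hx]
    by_cases hp0 : p = 0
    · rw [hp0, map_zero, map_zero]; exact zero_le'
    · rw [val_aeval_of_pole P hx p hp0]
      exact pow_le_pow_right₀ hx.le hp

end Groth.Agent.Lib.LeadHY
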