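import Groth.Agent.Lib.LeadHY2
import Mathlib.FieldTheory.IntermediateField.Adjoin.Basic
import Mathlib.RingTheory.PowerBasis

/-! Hyperelliptic function fields: the involution and the decomposition `z = a + b y`. -/

namespace Groth.Agent.Lib.LeadHY

open Polynomial IntermediateField FunFld WithZero Groth.Agent.Lib.LeadFF Groth.Agent.Lib.LeadWD

universe u v
variable {k : Type u} {K : Type v} [Field k] [Field K] [Algebra k K]

lemma y_not_mem {x y : K} (hx : Transcendental k x) {f : k[X]} (hf : Squarefree f)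
    (hd : 1 ≤ f.natDegree) (heq : y ^ 2 = aeval x f) : y ∉ k⟮x⟯ := by
  intro hy
  obtain ⟨p, q, hq0, hcop, hpq⟩ := exists_coprime_repr hx hy
  have h1 : f * (q * q) = p * p := by
    apply aeval_injective hx
    rw [map_mul, map_mul, map_mul, ← heq, ← hpq]; ring
  have h2 : p * p ∣ f := by
    have hc1 : IsCoprime (p * p) q := hcop.mul_left hcop
    have hc : IsCoprime (p * p) (q * q) := hc1.mul_right hc1
    exact hc.dvd_of_dvd_mul_right ⟨1, by rw [h1]; ring⟩
  have hpu : IsUnit p := hf p h2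
  have hfu : IsUnit f := by
    have : IsUnit (f * (q * q)) := by rw [h1]; exact hpu.mul hpu
    exact isUnit_of_mul_isUnit_left this
  have := natDegree_eq_zero_of_isUnit hfu
  omega

lemma aeval_mem_adjoin (x : K) (p : k[X]) : aeval x p ∈ k⟮x⟯ :=
  algebra_adjoin_le_adjoin k _ (aeval_mem_adjoin_singleton k x)

/-- the hyperelliptic involution and the basis `1, y` over `k(x)`. -/
theorem exists_involution {x y : K} (hx : Transcendental k x)
    (hxy : adjoin k ({x, y} : Set K) = ⊤) {f : k[X]} (hf : Squarefree f)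
    (hd : 1 ≤ f.natDegree) (heq : y ^ 2 = aeval x f) :
    ∃ σ : K →+* K, (∀ c : k, σ (algebraMap k K c) = algebraMap k K c) ∧ σ y = -y ∧
      (∀ a ∈ k⟮x⟯, σ a = a) ∧ (∀ z : K, ∃ a ∈ k⟮x⟯, ∃ b ∈ k⟮x⟯, z = a + b * y) ∧
      Module.finrank k⟮x⟯ K = 2 := by
  classical
  have hyF : y ∉ k⟮x⟯ := y_not_mem hx hf hd heq
  let fx : k⟮x⟯ := ⟨aeval x f, aeval_mem_adjoin x f⟩
  let g : (k⟮x⟯)[X] := X ^ 2 - C fx
  have hgm : g.Monic := monic_X_pow_sub_C fx two_ne_zero
  have hgd : g.natDegree = 2 := natDegree_X_pow_sub_C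
  have hroot : ∀ w : K, w ^ 2 = aeval x f → aeval w g = 0 := by
    intro w hw
    simp only [g, map_sub, map_pow, aeval_X, aeval_C]
    rw [hw]; exact sub_self _
  have hyint : IsIntegral k⟮x⟯ y := ⟨g, hgm, hroot y heq⟩
  have hmin : minpoly k⟮x⟯ y = g := by
    have hdvd : minpoly k⟮x⟯ y ∣ g := minpoly.dvd _ y (hroot y heq)
    have hdeg : 2 ≤ (minpoly k⟮x⟯ y).natDegree := by
      rw [minpoly.two_le_natDegree_iff hyint]
      rintro ⟨a, ha⟩
      exact hyF (ha ▸ a.2)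
    exact (eq_of_monic_of_dvd_of_natDegree_le (minpoly.monic hyint) hgm hdvd
      (by rw [hgd]; exact hdeg)).symm
  have htop : (k⟮x⟯)⟮y⟯ = ⊤ := by
    rw [← restrictScalars_eq_top_iff (K := k), adjoin_adjoin_left, ← hxy]
    rfl
  let pb := adjoin.powerBasis hyint
  let e : (k⟮x⟯)⟮y⟯ ≃ₐ[k⟮x⟯] K := (equivOfEq htop).trans topEquiv
  let pb' : PowerBasis k⟮x⟯ K := pb.map e
  have hgen : pb'.gen = y := rfl
  have hdim : pb'.dim = 2 := by
    show (minpoly k⟮x⟯ y).natDegree = 2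
    rw [hmin, hgd]
  have hmin' : minpoly k⟮x⟯ pb'.gen = g := by rw [hgen, hmin]
  let σ₀ : K →ₐ[k⟮x⟯] K := pb'.lift (-y) (by
    rw [hmin']; exact hroot (-y) (by rw [neg_sq]; exact heq))
  have hσy : σ₀ y = -y := by
    exact pb'.lift_gen (-y) (by
      rw [hmin']; exact hroot (-y) (by rw [neg_sq]; exact heq))
  have hσF : ∀ a ∈ k⟮x⟯, σ₀ a = a := fun a ha => σ₀.commutes ⟨a, ha⟩
  refine ⟨σ₀.toRingHom, ?_, hσy, hσF, ?_, ?_⟩
  · intro c
    exact hσF _ (IntermediateField.algebraMap_mem _ c)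
  · intro z
    obtain ⟨p, hp, hz⟩ := pb'.exists_eq_aeval z
    rw [hdim] at hp
    rw [hgen] at hz
    have hp1 : p.natDegree ≤ 1 := by omega
    rw [eq_X_add_C_of_natDegree_le_one hp1] at hz
    refine ⟨(p.coeff 0 : K), (p.coeff 0).2, (p.coeff 1 : K), (p.coeff 1).2, ?_⟩
    rw [hz]
    simp only [map_add, map_mul, aeval_X, aeval_C]
    rw [add_comm]; rfl
  · rw [pb'.finrank, hdim]

end Groth.Agent.Lib.LeadHY
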