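import Groth.Agent.Lib.LeadHY3

/-! Hyperelliptic function fields: description of `L(n (x)_∞)`. -/

namespace Groth.Agent.Lib.LeadHY

open Polynomial IntermediateField FunFld WithZero Groth.Agent.Lib.LeadFF Groth.Agent.Lib.LeadWD

universe u v
variable {k : Type u} {K : Type v} [Field k] [Field K] [Algebra k K]

/-- an automorphism fixing `x` preserves `L(n (x)_∞)`. -/
lemma sigma_mem_L (hK : IsFunctionField k K) {x : K} (σ : K →+* K)
    (hσk : ∀ c : k, σ (algebraMap k K c) = algebraMap k K c) (hσx : σ x = x)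
    (hσs : Function.Surjective σ) (n : ℕ) {z : K} (hz : z ∈ L ((n : ℤ) • zdiv k x⁻¹)) :
    σ z ∈ L ((n : ℤ) • zdiv k x⁻¹) := by
  intro P
  let Q : Place k K := ⟨P.1.comap σ, fun c => by
      rw [Valuation.comap_apply, hσk c]; exact P.2.1 c, fun γ => by
      obtain ⟨w, hw⟩ := P.2.2 γ
      obtain ⟨w', rfl⟩ := hσs w
      exact ⟨w', hw⟩⟩
  have hQ := hz Q
  have hD : ((n : ℤ) • zdiv k x⁻¹) Q = ((n : ℤ) • zdiv k x⁻¹) P := by
    rw [pole_apply hK, pole_apply hK]
    have : Q.ord x = P.ord x := by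
      unfold Place.ord
      show -WithZero.log (P.1 (σ x)) = _
      rw [hσx]
    rw [this]
  rw [hD] at hQ
  exact hQ

lemma pole_two_mul (hK : IsFunctionField k K) (x : K) (n : ℕ) (P : Place k K) :
    exp ((((2 * n : ℕ) : ℤ) • zdiv k x⁻¹) P) = exp (((n : ℤ) • zdiv k x⁻¹) P) ^ 2 := by
  rw [pole_apply hK, pole_apply hK, ← exp_nsmul]
  congr 1
  push_cast
  simp only [nsmul_eq_mul]
  push_cast
  ring

lemma sq_mem_L (hK : IsFunctionField k K) {x : K} (n : ℕ) {w : K}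
    (hw : w ∈ L ((n : ℤ) • zdiv k x⁻¹)) : w ^ 2 ∈ L (((2 * n : ℕ) : ℤ) • zdiv k x⁻¹) := by
  intro P
  rw [pole_two_mul hK, map_pow]
  exact pow_le_pow_left₀ zero_le' (hw P) 2

lemma mem_L_of_sq (hK : IsFunctionField k K) {x : K} (n : ℕ) {w : K}
    (hw : w ^ 2 ∈ L (((2 * n : ℕ) : ℤ) • zdiv k x⁻¹)) : w ∈ L ((n : ℤ) • zdiv k x⁻¹) := by
  intro P
  have h := hw P
  rw [pole_two_mul hK, map_pow] at h
  by_contra hlt
  rw [not_le] at hlt
  exact not_lt.mpr h (pow_lt_pow_left₀ hlt zero_le' two_ne_zero)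

lemma unit_denominator {x : K} {u : K} {p q : k[X]} (hq : IsUnit q)
    (hpq : u * aeval x q = aeval x p) : ∃ p' : k[X], u = aeval x p' := by
  obtain ⟨c, hc, rfl⟩ := Polynomial.isUnit_iff.mp hq
  have hc0 : c ≠ 0 := hc.ne_zero
  refine ⟨C c⁻¹ * p, ?_⟩
  rw [map_mul, aeval_C, ← hpq, aeval_C]
  have : algebraMap k K c ≠ 0 := by
    rw [Ne, map_eq_zero_iff _ (algebraMap k K).injective]; exact hc0
  rw [map_inv₀]
  field_simp

/-- the description of `L(n (x)_∞)`: forward direction. -/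
theorem L_subset (hK : IsFunctionField k K) (h2 : ringChar k ≠ 2) {x y : K}
    (hx : Transcendental k x) (hxy : adjoin k ({x, y} : Set K) = ⊤) {f : k[X]}
    (hf : Squarefree f) (hd : 1 ≤ f.natDegree) (heq : y ^ 2 = aeval x f) (n : ℕ) {z : K}
    (hz : z ∈ L ((n : ℤ) • zdiv k x⁻¹)) :
    ∃ pa pb : k[X], pa.natDegree ≤ n ∧ (pb = 0 ∨ 2 * pb.natDegree + f.natDegree ≤ 2 * n) ∧
      z = aeval x pa + aeval x pb * y := by
  obtain ⟨σ, hσk, hσy, hσF, hdec, -⟩ := exists_involution hx hxy hf hd heq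
  have hσx : σ x = x := hσF x (mem_adjoin_simple_self k x)
  obtain ⟨a, ha, b, hb, rfl⟩ := hdec z
  have hσs : Function.Surjective σ := by
    intro w
    obtain ⟨a', ha', b', hb', rfl⟩ := hdec w
    refine ⟨a' - b' * y, ?_⟩
    rw [map_sub, map_mul, hσF a' ha', hσF b' hb', hσy]; ring
  have hσz := sigma_mem_L hK σ hσk hσx hσs n hz
  rw [map_add, map_mul, hσF a ha, hσF b hb, hσy] at hσz
  have h2k : (2 : k) ≠ 0 := Ring.two_ne_zero h2
  have h2K : (2 : K) ≠ 0 := by
    intro h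
    apply h2k
    apply (algebraMap k K).injective
    rw [map_ofNat, h, map_zero]
  have haL : a ∈ L ((n : ℤ) • zdiv k x⁻¹) := by
    have h := (L ((n : ℤ) • zdiv k x⁻¹)).smul_mem (2⁻¹ : k)
      ((L ((n : ℤ) • zdiv k x⁻¹)).add_mem hz hσz)
    have e : (2⁻¹ : k) • (a + b * y + (a + b * -y)) = a := by
      rw [Algebra.smul_def, map_inv₀, map_ofNat]
      field_simp
      ring
    rwa [e] at h
  have hbyL : b * y ∈ L ((n : ℤ) • zdiv k x⁻¹) := by
    have := (L ((n : ℤ) • zdiv k x⁻¹)).sub_mem hz haL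
    rwa [add_sub_cancel_left] at this
  obtain ⟨pa, hpa, rfl⟩ := mem_L_inter hK hx n ha haL
  -- the `y`-part
  have hsq := sq_mem_L hK n hbyL
  have hsqF : (b * y) ^ 2 ∈ k⟮x⟯ := by
    rw [mul_pow, heq]
    exact mul_mem (pow_mem hb 2) (aeval_mem_adjoin x f)
  obtain ⟨r, hr, hreq⟩ := mem_L_inter hK hx (2 * n) hsqF hsq
  obtain ⟨p, q, hq0, hcop, hpq⟩ := exists_coprime_repr hx hb
  have h1 : p * p * f = r * (q * q) := by
    apply aeval_injective hx
    rw [map_mul, map_mul, map_mul, map_mul, ← hreq, ← hpq, mul_pow, heq]; ring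
  have hqu : IsUnit q := by
    apply hf q
    have hc1 : IsCoprime (q * q) p := (hcop.symm).mul_left hcop.symm
    have hc : IsCoprime (q * q) (p * p) := hc1.mul_right hc1
    exact hc.dvd_of_dvd_mul_left ⟨r, by rw [h1]; ring⟩
  obtain ⟨pb, rfl⟩ := unit_denominator hqu hpq
  refine ⟨pa, pb, hpa, ?_, rfl⟩
  by_cases hpb : pb = 0
  · exact Or.inl hpb
  · right
    have hf0 : f ≠ 0 := by
      rintro rfl; simp at hd
    have h3 : pb ^ 2 * f = r := by
      apply aeval_injective hx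
      rw [map_mul, map_pow, ← hreq, mul_pow, heq]
    have h4 : r.natDegree = 2 * pb.natDegree + f.natDegree := by
      rw [← h3, natDegree_mul (pow_ne_zero 2 hpb) hf0, natDegree_pow]
    omega

/-- the description of `L(n (x)_∞)`: converse direction. -/
theorem subset_L (hK : IsFunctionField k K) {x y : K} {f : k[X]}
    (heq : y ^ 2 = aeval x f) (n : ℕ) (pa pb : k[X]) (hpa : pa.natDegree ≤ n)
    (hpb : pb = 0 ∨ 2 * pb.natDegree + f.natDegree ≤ 2 * n) :
    aeval x pa + aeval x pb * y ∈ L ((n : ℤ) • zdiv k x⁻¹) := by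
  refine (L ((n : ℤ) • zdiv k x⁻¹)).add_mem (aeval_mem_L hK x n pa hpa) ?_
  rcases hpb with rfl | hpb
  · rw [map_zero, zero_mul]; exact (L ((n : ℤ) • zdiv k x⁻¹)).zero_mem
  · apply mem_L_of_sq hK n
    have : (aeval x pb * y) ^ 2 = aeval x (pb ^ 2 * f) := by
      rw [mul_pow, heq, map_mul, map_pow]
    rw [this]
    apply aeval_mem_L hK x (2 * n)
    refine natDegree_mul_le.trans ?_
    have := natDegree_pow_le (p := pb) (n := 2)
    omega

end Groth.Agent.Lib.LeadHY
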