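import Groth.Agent.Lib.LeadHY4
import Groth.Agent.Lib.LeadFF12

/-! Hyperelliptic function fields: the dimension of `L(n (x)_∞)` and the genus. -/

namespace Groth.Agent.Lib.LeadHY

open Polynomial IntermediateField FunFld WithZero Groth.Agent.Lib.LeadFF Groth.Agent.Lib.LeadWD

universe u v
variable {k : Type u} {K : Type v} [Field k] [Field K] [Algebra k K]

lemma natDegree_le_of_mem {p : k[X]} {n : ℕ} (hp : p ∈ degreeLT k (n + 1)) : p.natDegree ≤ n := by
  rw [mem_degreeLT] at hp
  by_cases h0 : p = 0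
  · rw [h0]; simp
  · rw [degree_eq_natDegree h0] at hp
    exact Nat.lt_succ_iff.mp (by exact_mod_cast hp)

lemma mem_of_natDegree_le {p : k[X]} {n : ℕ} (hp : p.natDegree ≤ n) : p ∈ degreeLT k (n + 1) := by
  rw [mem_degreeLT]
  exact lt_of_le_of_lt degree_le_natDegree (by exact_mod_cast Nat.lt_succ_of_le hp)

lemma finrank_degreeLT (n : ℕ) : Module.finrank k (degreeLT k n) = n :=
  (degreeLTEquiv k n).finrank_eq.trans (Module.finrank_fin_fun k)

instance (n : ℕ) : Module.Finite k (degreeLT k n) :=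
  Module.Finite.equiv (degreeLTEquiv k n).symm

theorem ell_pole (hK : IsFunctionField k K) (h2 : ringChar k ≠ 2) {x y : K}
    (hx : Transcendental k x) (hxy : adjoin k ({x, y} : Set K) = ⊤) {f : k[X]}
    (hf : Squarefree f) (hd : 1 ≤ f.natDegree) (heq : y ^ 2 = aeval x f) (n : ℕ)
    (hn : f.natDegree ≤ 2 * n) :
    ell ((n : ℤ) • zdiv k x⁻¹) = (n + 1) + ((2 * n - f.natDegree) / 2 + 1) := by
  set m := (2 * n - f.natDegree) / 2 with hm
  have hyF := y_not_mem hx hf hd heq
  let Ψ : (degreeLT k (n + 1) × degreeLT k (m + 1)) →ₗ[k] K :=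
    ((aeval x).toLinearMap ∘ₗ (degreeLT k (n + 1)).subtype).coprod
      ((LinearMap.mulRight k y) ∘ₗ (aeval x).toLinearMap ∘ₗ (degreeLT k (m + 1)).subtype)
  have hΨ : ∀ pq, Ψ pq = aeval x (pq.1 : k[X]) + aeval x (pq.2 : k[X]) * y := fun pq => rfl
  have hinj : Function.Injective Ψ := by
    rw [← LinearMap.ker_eq_bot, LinearMap.ker_eq_bot']
    rintro ⟨⟨p, hp⟩, ⟨q, hq⟩⟩ h
    rw [hΨ] at h
    simp only at h
    have hq0 : q = 0 := by
      by_contra hq0
      have hqx : aeval x q ≠ 0 := fun h' => hq0 (aeval_injective hx (by rw [h', map_zero]))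
      apply hyF
      have : y = -(aeval x p) / aeval x q := by
        field_simp
        linear_combination h
      rw [this]
      exact div_mem (neg_mem (aeval_mem_adjoin x p)) (aeval_mem_adjoin x q)
    subst hq0
    rw [map_zero, zero_mul, add_zero] at h
    have hp0 : p = 0 := aeval_injective hx (by rw [h, map_zero])
    subst hp0
    rfl
  have hrange : LinearMap.range Ψ = L ((n : ℤ) • zdiv k x⁻¹) := by
    apply le_antisymm
    · rintro _ ⟨⟨⟨p, hp⟩, ⟨q, hq⟩⟩, rfl⟩
      rw [hΨ]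
      apply subset_L hK heq n p q (natDegree_le_of_mem hp)
      right
      have := natDegree_le_of_mem hq
      omega
    · intro z hz
      obtain ⟨pa, pb, hpa, hpb, rfl⟩ := L_subset hK h2 hx hxy hf hd heq n hz
      refine ⟨⟨⟨pa, mem_of_natDegree_le hpa⟩, ⟨pb, mem_of_natDegree_le ?_⟩⟩, rfl⟩
      rcases hpb with rfl | hpb
      · simp
      · omega
  unfold ell
  rw [← hrange, LinearMap.finrank_range_of_inj hinj, Module.finrank_prod, finrank_degreeLT,
    finrank_degreeLT]

theorem genus_hyperelliptic (hK : IsFunctionField k K) (h2 : ringChar k ≠ 2) {x y : K}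
    (hx : Transcendental k x) (hxy : adjoin k ({x, y} : Set K) = ⊤) {f : k[X]}
    (hf : Squarefree f) (hd : 1 ≤ f.natDegree) (heq : y ^ 2 = aeval x f) :
    genus k K = (f.natDegree - 1) / 2 := by
  obtain ⟨-, -, -, -, -, hfin⟩ := exists_involution hx hxy hf hd heq
  have hxk : x ∉ Set.range (algebraMap k K) := by
    rintro ⟨c, rfl⟩
    exact hx (isAlgebraic_algebraMap c)
  set g := genus k K with hg
  set n := f.natDegree + g + 1 with hn
  have hdeg : ((n : ℤ) • zdiv k x⁻¹).deg = 2 * n := by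
    rw [natCast_zsmul, deg_nsmul, finrank_adjoin_eq_deg_pdiv hK hxk, hfin]
    push_cast; ring
  have h1 := ell_of_deg_ge hK ((n : ℤ) • zdiv k x⁻¹) (by rw [hdeg, ← hg]; omega)
  rw [ell_pole hK h2 hx hxy hf hd heq n (by omega), hdeg, ← hg] at h1
  omega

end Groth.Agent.Lib.LeadHY
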