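import Groth.Agent.Lib.LeadAS19
import Groth.Agent.Lib.LeadHY5

/-! Hyperelliptic fields `y² = f(x)`, `char ≠ 2`: ramification at finite places and the order of
`dx` through Laurent expansions (for S12584). -/

namespace Groth.Agent.Lib.LeadHY

open FunFld WithZero Polynomial Groth.Agent.Lib.LeadFF Groth.Agent.Lib.LeadMS
  Groth.Agent.Lib.LeadAS

universe u v w

section Ram

variable {k : Type u} {K : Type v} [Field k] [Field K] [Algebra k K]
  [Algebra (RatFunc k) K] [IsScalarTower k (RatFunc k) K]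

lemma zm0_sq_eq_one {x : ZM0} (h : x ^ 2 = 1) : x = 1 :=
  (pow_left_inj₀ zero_le' zero_le' (two_ne_zero)).mp (by rw [one_pow]; exact h)

/-- ramification of `y² = f` at a finite place. -/
theorem hyp_finite_ram (h2 : ringChar k ≠ 2)
    (hdeg : Module.finrank (RatFunc k) K = 2) (y : K) (f : k[X]) (hf : Squarefree f)
    (hd : 1 ≤ f.natDegree)
    (heq : y ^ 2 = algebraMap (RatFunc k) K (algebraMap k[X] (RatFunc k) f))
    (p : Place k (RatFunc k)) {π : k[X]} (hπ : Irreducible π)
    (hlt : p.1 (algebraMap k[X] (RatFunc k) π) < 1)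
    (P : Place k K) (e : ℕ) (he : IsOverWith P p e) :
    (e = 1 ∧ P.1 y = 1) ∨ (e = 2 ∧ P.1 y = exp (-1 : ℤ)) := by
  haveI : FiniteDimensional (RatFunc k) K :=
    Module.finite_of_finrank_pos (by rw [hdeg]; norm_num)
  have hK₀ : IsFunctionField k (RatFunc k) := isFunctionField_ratFunc
  have hynm := hyperelliptic_y_not_mem y f hf hd heq
  have hπ1 := val_irreducible p hπ hlt
  have h2K : (2 : RatFunc k) ≠ 0 := by
    have h2k : (2 : k) ≠ 0 := Ring.two_ne_zero h2
    have : (2 : RatFunc k) = algebraMap k (RatFunc k) 2 := by rw [map_ofNat]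
    rw [this, Ne, map_eq_zero_iff _ (algebraMap k (RatFunc k)).injective]
    exact h2k
  by_cases hdvd : π ∣ f
  · right
    obtain ⟨c, hc⟩ := hdvd
    have hnc : ¬ π ∣ c := by
      rintro ⟨c', hc'⟩
      apply hπ.not_isUnit
      apply hf π
      exact ⟨c', by rw [hc, hc']; ring⟩
    have hpf : p.1 (algebraMap k[X] (RatFunc k) f) = exp (-1 : ℤ) := by
      rw [hc, map_mul, map_mul, hπ1, val_poly_eq_one_of_not_dvd p hπ hlt hnc, mul_one]
    have key : ∀ (Q : Place k K) (e' : ℕ), IsOverWith Q p e' →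
        2 ≤ e' ∧ (e' = 2 → Q.1 y = exp (-1 : ℤ)) := by
      intro Q e' he'
      have he0 := isOverWith_pos he'
      have h1 : Q.1 y ^ 2 = exp (-(e' : ℤ)) := by
        rw [← map_pow, heq, he', hpf, zm0_exp_pow]; congr 1; ring
      have hy0 : Q.1 y ≠ 0 := by
        intro h0
        rw [h0, zero_pow two_ne_zero] at h1
        exact exp_ne_zero h1.symm
      obtain ⟨m, hm⟩ : ∃ m : ℤ, Q.1 y = exp m := ⟨log (Q.1 y), (exp_log hy0).symm⟩
      rw [hm, zm0_exp_pow, exp_inj] at h1
      push_cast at h1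
      refine ⟨by omega, fun h => ?_⟩
      rw [hm]; congr 1; omega
    obtain ⟨-, hall⟩ := totally_ramified_of_two_le hK₀ hdeg p (fun Q e' he' => (key Q e' he').1)
    obtain ⟨he2, -⟩ := hall P ⟨e, he⟩
    have hee : e = 2 := (isOverWith_unique he he2).2
    exact ⟨hee, (key P e he).2 hee⟩
  · left
    have hpf : p.1 (algebraMap k[X] (RatFunc k) f) = 1 :=
      val_poly_eq_one_of_not_dvd p hπ hlt hdvd
    have hy1 : P.1 y = 1 := by
      apply zm0_sq_eq_one
      rw [← map_pow, heq, he, hpf, one_pow]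
    have hspan := span_of_finrank_two hdeg y hynm
    exact ⟨unramified_of_unit_sqrt h2K he y _ heq hy1 hspan, hy1⟩

end Ram

section Local

variable {k : Type u} {K : Type v} [Field k] [Field K] [Algebra k K]
  [Algebra (RatFunc k) K] [IsScalarTower k (RatFunc k) K]
  {F : Type w} [Field F] [Algebra k F]

open LaurentSeries

variable {P : Place k K} {ψ : K →ₐ[k] F⸨X⸩} (hψ : LocRes.IsExpansionAt P.1 ψ)
  {p : Place k (RatFunc k)}

lemma cast_ne_zero_of (h2 : ringChar k ≠ 2) {e : ℕ} (he12 : e = 1 ∨ e = 2) :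
    (((e : ℤ)) : F) ≠ 0 := by
  rcases he12 with rfl | rfl
  · simp
  · have h2k : (2 : k) ≠ 0 := Ring.two_ne_zero h2
    have : (((2 : ℕ) : ℤ) : F) = algebraMap k F 2 := by rw [map_ofNat]; norm_num
    rw [this, Ne, map_eq_zero_iff _ (algebraMap k F).injective]
    exact h2k

include hψ in
/-- `dx` has order `e - 1` at a place over a finite place (tame ramification). -/
lemma val_dx_finite_gen (h2 : ringChar k ≠ 2) {e : ℕ} (he12 : e = 1 ∨ e = 2)
    (he : IsOverWith P p e) (hX : p.1 (RatFunc.X : RatFunc k) ≤ 1) :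
    Valued.v (LocRes.D F (ψ (algebraMap (RatFunc k) K RatFunc.X))) = exp (1 - (e : ℤ)) := by
  obtain ⟨π, hπ, hlt⟩ := exists_irreducible_of_finite p hX
  have hπ1 := val_irreducible p hπ hlt
  have h1 : Valued.v (ψ (algebraMap (RatFunc k) K (algebraMap k[X] (RatFunc k) π))) =
      exp (-(e : ℤ)) := by
    rw [hψ.1, he, hπ1, zm0_exp_pow]; congr 1; ring
  have h3 := val_D_of_ne h1 (cast_ne_zero_of h2 he12)
  rw [D_ap, map_mul, hψ.1, he] at h3
  have hπ'0 : derivative π ≠ 0 := by
    intro h0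
    have he0 : e ≠ 0 := by rcases he12 with rfl | rfl <;> norm_num
    rw [h0, map_zero, map_zero, zero_pow he0, zero_mul] at h3
    exact exp_ne_zero h3.symm
  have hnd : ¬ π ∣ derivative π := by
    intro hdvd
    have h4 := natDegree_le_of_dvd hdvd hπ'0
    have h5 := natDegree_derivative_lt (hπ.natDegree_pos).ne'
    omega
  rw [val_poly_eq_one_of_not_dvd p hπ hlt hnd, one_pow, one_mul] at h3
  rw [h3]; congr 1; ring

include hψ in
/-- `dx` has order `-(e + 1)` at a place over the infinite place (tame ramification). -/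
lemma val_dx_inf_gen (h2 : ringChar k ≠ 2) {e : ℕ} (he12 : e = 1 ∨ e = 2)
    (he : IsOverWith P p e) (hp : 1 < p.1 (RatFunc.X : RatFunc k)) :
    Valued.v (LocRes.D F (ψ (algebraMap (RatFunc k) K RatFunc.X))) = exp ((e : ℤ) + 1) := by
  have hX0 : (RatFunc.X : RatFunc k) ≠ 0 := RatFunc.X_ne_zero
  have hpX := val_X_infty p hp
  have h1 : Valued.v (ψ (algebraMap (RatFunc k) K (RatFunc.X : RatFunc k)⁻¹)) =
      exp (-(e : ℤ)) := by
    rw [hψ.1, he, map_inv₀, hpX, ← exp_neg, zm0_exp_pow]; congr 1; ring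
  have h3 := val_D_of_ne h1 (cast_ne_zero_of h2 he12)
  have hmul : ψ (algebraMap (RatFunc k) K RatFunc.X) *
      ψ (algebraMap (RatFunc k) K (RatFunc.X : RatFunc k)⁻¹) = 1 := by
    rw [← map_mul, ← map_mul, mul_inv_cancel₀ hX0, map_one, map_one]
  have hD := congrArg (LocRes.D F) hmul
  rw [Derivation.leibniz, Derivation.map_one_eq_zero, smul_eq_mul, smul_eq_mul] at hD
  have hD' : ψ (algebraMap (RatFunc k) K (RatFunc.X : RatFunc k)⁻¹) *
      LocRes.D F (ψ (algebraMap (RatFunc k) K RatFunc.X)) =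
      -(ψ (algebraMap (RatFunc k) K RatFunc.X) *
        LocRes.D F (ψ (algebraMap (RatFunc k) K (RatFunc.X : RatFunc k)⁻¹))) := by
    linear_combination hD
  have hv := congrArg (Valued.v (R := F⸨X⸩)) hD'
  rw [map_mul, Valuation.map_neg, map_mul, h1, h3, hψ.1, he, hpX, zm0_exp_pow, ← exp_add] at hv
  have hb : (exp (-(e : ℤ)) : ZM0) ≠ 0 := exp_ne_zero
  apply mul_left_cancel₀ hb
  rw [hv, ← exp_add]; congr 1; ring

end Local

end Groth.Agent.Lib.LeadHY
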