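import Groth.Agent.Lib.LeadHY6

/-! Hyperelliptic fields `y² = f(x)`, `char ≠ 2`: the regular differentials `x^i dx / y`
(S12584). -/

namespace Groth.Agent.Lib.LeadHY

open FunFld WithZero Polynomial IntermediateField Groth.Agent.Lib.LeadFF Groth.Agent.Lib.LeadMS
  Groth.Agent.Lib.LeadAS

universe u v w

section Final

variable {k : Type u} {K : Type v} [Field k] [Field K] [Algebra k K]
  [Algebra (RatFunc k) K] [IsScalarTower k (RatFunc k) K]
  (hK : IsFunctionField k K) (hdeg : Module.finrank (RatFunc k) K = 2) (h2 : ringChar k ≠ 2)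
  {y : K} {f : k[X]} (hf : Squarefree f) (hd : 1 ≤ f.natDegree)
  (heq : y ^ 2 = algebraMap (RatFunc k) K (algebraMap k[X] (RatFunc k) f))

omit [IsScalarTower k (RatFunc k) K] in
lemma transcendental_aX [IsScalarTower k (RatFunc k) K] :
    Transcendental k (algebraMap (RatFunc k) K RatFunc.X) :=
  transcendental_algebraMap RatFunc.transcendental_X

include hdeg hf hd heq in
lemma adjoin_aX_y : adjoin k ({algebraMap (RatFunc k) K RatFunc.X, y} : Set K) = ⊤ := by
  have hynm := hyperelliptic_y_not_mem y f hf hd heq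
  have hspan := span_of_finrank_two hdeg y hynm
  rw [eq_top_iff]
  intro z _
  obtain ⟨α, β, rfl⟩ := hspan z
  have hle : k⟮algebraMap (RatFunc k) K RatFunc.X⟯ ≤
      adjoin k ({algebraMap (RatFunc k) K RatFunc.X, y} : Set K) :=
    adjoin.mono k _ _ (by simp)
  have hmem : ∀ α : RatFunc k, algebraMap (RatFunc k) K α ∈
      adjoin k ({algebraMap (RatFunc k) K RatFunc.X, y} : Set K) := by
    intro α
    apply hle
    rw [← RatFunc.num_div_denom α, map_div₀, ap_eq_aeval, ap_eq_aeval]
    exact div_mem (aeval_mem_adjoin _ _) (aeval_mem_adjoin _ _)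
  have hy : y ∈ adjoin k ({algebraMap (RatFunc k) K RatFunc.X, y} : Set K) :=
    subset_adjoin k _ (by simp)
  exact add_mem (hmem α) (mul_mem (hmem β) hy)

variable {F : Place k K → Type w} [∀ P, Field (F P)] [∀ P, Algebra k (F P)]
  (φ : ∀ P, K →ₐ[k] LaurentSeries (F P)) (hφ : ∀ P, LocRes.IsExpansionAt P.1 (φ P))

include hK hdeg h2 hf hd heq hφ in
/-- the divisor of `dx / y` is `(g - 1) (x)_∞`. -/
lemma val_dx_hyp (P : Place k K) :
    Valued.v (LocRes.D (F P) (φ P (algebraMap (RatFunc k) K RatFunc.X))) =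
      P.1 y * exp (-(((genus k K : ℤ) - 1) *
        zdiv k (algebraMap (RatFunc k) K RatFunc.X)⁻¹ P)) := by
  classical
  haveI : FiniteDimensional (RatFunc k) K :=
    Module.finite_of_finrank_pos (by rw [hdeg]; norm_num)
  have hK₀ : IsFunctionField k (RatFunc k) := isFunctionField_ratFunc
  have hx := transcendental_aX (k := k) (K := K)
  have hxy := adjoin_aX_y hdeg hf hd heq
  have heq' : y ^ 2 = aeval (algebraMap (RatFunc k) K RatFunc.X) f := by
    rw [heq, ap_eq_aeval]
  have hg := genus_hyperelliptic hK h2 hx hxy hf hd heq'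
  have hf0 : f ≠ 0 := by rintro rfl; simp at hd
  have hX0 : algebraMap (RatFunc k) K (RatFunc.X : RatFunc k) ≠ 0 := by
    rw [Ne, map_eq_zero]; exact RatFunc.X_ne_zero
  obtain ⟨p, e, -, he⟩ := exists_below hK₀ P
  rw [pdiv_apply hK]
  by_cases hX : p.1 (RatFunc.X : RatFunc k) ≤ 1
  · have hPX : P.1 (algebraMap (RatFunc k) K RatFunc.X) ≤ 1 := by
      rw [he]; exact pow_le_one₀ zero_le' hX
    have hord := Groth.Agent.Lib.LeadHS.ord_nonneg_of_le_one P hPX
    rw [max_eq_right (by omega), mul_zero, neg_zero, exp_zero, mul_one]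
    obtain ⟨π, hπ, hlt⟩ := exists_irreducible_of_finite p hX
    rcases hyp_finite_ram h2 hdeg y f hf hd heq p hπ hlt P e he with ⟨rfl, hy1⟩ | ⟨rfl, hy1⟩
    · rw [val_dx_finite_gen (hφ P) h2 (Or.inl rfl) he hX, hy1, ← exp_zero]; congr 1
    · rw [val_dx_finite_gen (hφ P) h2 (Or.inr rfl) he hX, hy1]; congr 1
  · rw [not_le] at hX
    have hinf : p.ord (RatFunc.X : RatFunc k) < 0 := (ord_neg_iff p RatFunc.X_ne_zero).mpr hX
    have hpf := val_poly_inf p hX hf0
    have hpX := val_X_infty p hX
    obtain ⟨hodd, heven⟩ := hyperelliptic_infinite h2 hdeg y f hf hd heq p hinf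
    rcases Nat.even_or_odd f.natDegree with hev | hod
    · obtain ⟨-, hall⟩ := heven hev
      have he1 := hall P ⟨e, he⟩
      obtain rfl : e = 1 := (isOverWith_unique he he1).2
      obtain ⟨m, hm⟩ := hev
      have hPy : P.1 y = exp (m : ℤ) := by
        apply (pow_left_inj₀ zero_le' zero_le' (two_ne_zero)).mp
        rw [← map_pow, heq, he, hpf, pow_one, zm0_exp_pow, hm]; congr 1; push_cast; ring
      have hPX : P.1 (algebraMap (RatFunc k) K RatFunc.X) = exp (1 : ℤ) := by
        rw [he, pow_one, hpX]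
      have hord : P.ord (algebraMap (RatFunc k) K RatFunc.X) = -1 := by
        have := val_eq_exp_neg_ord P hX0
        rw [hPX, exp_inj] at this
        omega
      rw [val_dx_inf_gen (hφ P) h2 (Or.inl rfl) he hX, hPy, hord, ← exp_add]
      congr 1
      rw [hg, hm]
      have : ((m + m - 1) / 2 : ℕ) = m - 1 := by omega
      rw [this]
      have hm1 : 1 ≤ m := by omega
      push_cast [Nat.cast_sub hm1]
      rw [max_eq_left (by norm_num)]
      ring
    · obtain ⟨-, hall⟩ := hodd hod
      obtain ⟨he2, -⟩ := hall P ⟨e, he⟩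
      obtain rfl : e = 2 := (isOverWith_unique he he2).2
      obtain ⟨m, hm⟩ := hod
      have hPy : P.1 y = exp (f.natDegree : ℤ) := by
        apply (pow_left_inj₀ zero_le' zero_le' (two_ne_zero)).mp
        rw [← map_pow, heq, he, hpf, zm0_exp_pow]
      have hPX : P.1 (algebraMap (RatFunc k) K RatFunc.X) = exp (2 : ℤ) := by
        rw [he, hpX, zm0_exp_pow]; congr 1
      have hord : P.ord (algebraMap (RatFunc k) K RatFunc.X) = -2 := by
        have := val_eq_exp_neg_ord P hX0
        rw [hPX, exp_inj] at this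
        omega
      rw [val_dx_inf_gen (hφ P) h2 (Or.inr rfl) he hX, hPy, hord, ← exp_add]
      congr 1
      rw [hg, hm]
      have : ((2 * m + 1 - 1) / 2 : ℕ) = m := by omega
      rw [this]
      rw [max_eq_left (by norm_num)]
      push_cast
      ring

include hK hdeg h2 hf hd heq hφ in
lemma regular_iff_hyp (z : K) :
    (∀ P, LocRes.vDiff (φ P) z (algebraMap (RatFunc k) K RatFunc.X) ≤ 1) ↔
      z * y ∈ L (((genus k K : ℤ) - 1) • zdiv k (algebraMap (RatFunc k) K RatFunc.X)⁻¹) := by
  rw [mem_L]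
  apply forall_congr'
  intro P
  unfold LocRes.vDiff
  rw [map_mul, (hφ P).1, val_dx_hyp hK hdeg h2 hf hd heq φ hφ P, Finsupp.smul_apply, smul_eq_mul,
    map_mul, exp_neg, ← mul_assoc, mul_inv_le_iff₀ exp_pos, one_mul]

include hK hdeg h2 hf hd heq hφ in
theorem regular_basis_hyp :
    (∀ i : ℕ, i < genus k K → ∀ P,
      LocRes.vDiff (φ P) (algebraMap (RatFunc k) K RatFunc.X ^ i / y)
        (algebraMap (RatFunc k) K RatFunc.X) ≤ 1) ∧
    ∀ z : K, (∀ P, LocRes.vDiff (φ P) z (algebraMap (RatFunc k) K RatFunc.X) ≤ 1) →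
      ∃ a : k[X], a.degree < (genus k K : WithBot ℕ) ∧
        z = algebraMap (RatFunc k) K (algebraMap k[X] (RatFunc k) a) / y := by
  have hx := transcendental_aX (k := k) (K := K)
  have hxy := adjoin_aX_y hdeg hf hd heq
  have heq' : y ^ 2 = aeval (algebraMap (RatFunc k) K RatFunc.X) f := by
    rw [heq, ap_eq_aeval]
  have hg := genus_hyperelliptic hK h2 hx hxy hf hd heq'
  have hynm := hyperelliptic_y_not_mem y f hf hd heq
  have hy0 : y ≠ 0 := by
    rintro rfl
    exact hynm ⟨0, map_zero _⟩
  have hxk : algebraMap (RatFunc k) K RatFunc.X ∉ Set.range (algebraMap k K) := by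
    rintro ⟨c, hc⟩
    exact hx (hc ▸ isAlgebraic_algebraMap c)
  constructor
  · intro i hi P
    revert P
    rw [regular_iff_hyp hK hdeg h2 hf hd heq φ hφ, div_mul_cancel₀ _ hy0]
    have h1 : 1 ≤ genus k K := by omega
    have h3 := aeval_mem_L hK (algebraMap (RatFunc k) K RatFunc.X) (genus k K - 1)
      ((X : k[X]) ^ i) (by rw [natDegree_X_pow]; omega)
    rw [map_pow, aeval_X, Nat.cast_sub h1, Nat.cast_one] at h3
    exact h3
  · intro z hz
    rw [regular_iff_hyp hK hdeg h2 hf hd heq φ hφ] at hz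
    rcases Nat.eq_zero_or_pos (genus k K) with h0 | h1
    · -- genus zero: no regular differentials
      have hbot : L (((genus k K : ℤ) - 1) •
          zdiv k (algebraMap (RatFunc k) K RatFunc.X)⁻¹) = ⊥ := by
        apply L_eq_bot_of_deg_neg hK
        rw [h0, ← degHom_apply, map_zsmul, degHom_apply, finrank_adjoin_eq_deg_pdiv hK hxk]
        have : 0 < Module.finrank (adjoin k {algebraMap (RatFunc k) K RatFunc.X}) K := by
          obtain ⟨-, -, -, -, -, hfin⟩ := exists_involution hx hxy hf hd heq'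
          rw [hfin]; norm_num
        simp only [Nat.cast_zero, zero_sub, smul_eq_mul]
        have h' : (0 : ℤ) < Module.finrank (adjoin k {algebraMap (RatFunc k) K RatFunc.X}) K := by
          exact_mod_cast this
        linarith
      rw [hbot, Submodule.mem_bot] at hz
      have hz0 : z = 0 := by
        rcases mul_eq_zero.mp hz with h | h
        · exact h
        · exact absurd h hy0
      refine ⟨0, ?_, ?_⟩
      · rw [degree_zero]; exact WithBot.bot_lt_coe _
      · rw [hz0, map_zero, map_zero, zero_div]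
    · have hcast : ((genus k K : ℤ) - 1) = ((genus k K - 1 : ℕ) : ℤ) := by
        rw [Nat.cast_sub h1, Nat.cast_one]
      rw [hcast] at hz
      obtain ⟨pa, pb, hpa, hpb, hzy⟩ := L_subset hK h2 hx hxy hf hd heq' (genus k K - 1) hz
      have hpb0 : pb = 0 := by
        rcases hpb with h | h
        · exact h
        · exfalso; omega
      subst hpb0
      rw [map_zero, zero_mul, add_zero] at hzy
      refine ⟨pa, ?_, ?_⟩
      · by_cases hpa0 : pa = 0
        · rw [hpa0, degree_zero]; exact WithBot.bot_lt_coe _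
        · rw [degree_eq_natDegree hpa0]
          have : pa.natDegree < genus k K := by omega
          exact_mod_cast this
      · rw [ap_eq_aeval, ← hzy, mul_div_cancel_right₀ _ hy0]

end Final

end Groth.Agent.Lib.LeadHY
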