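import Groth.Agent.Lib.Helper3HenselC

/-! # Lifting idempotents in finite algebras over henselian local rings (lead) -/

namespace Groth.Agent.Lib.LeadHZ

universe u

theorem exists_idempotent_map_eq {S : Type*} [CommRing S] {ι : Type*} [Fintype ι]
    {Ai : ι → Type*} [∀ i, CommRing (Ai i)] [∀ i, IsLocalRing (Ai i)] (φ : S ≃+* (∀ i, Ai i))
    {T : Type*} [Ring T] (f : S →+* T) (s₀ : S) (h : IsIdempotentElem (f s₀)) :
    ∃ ε : S, IsIdempotentElem ε ∧ f ε = f s₀ := by
  classical
  set u := φ s₀ with hu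
  let ε' : ∀ i, Ai i := fun i => if IsUnit (u i) then 1 else 0
  let v : ∀ i, Ai i := fun i => if hi : IsUnit (u i) then ((hi.unit⁻¹ : (Ai i)ˣ) : Ai i) else 0
  let w : ∀ i, Ai i := fun i => if hi : IsUnit (u i) then 0 else
    (((IsLocalRing.isUnit_one_sub_self_of_mem_nonunits (u i) hi).unit⁻¹ : (Ai i)ˣ) : Ai i)
  have h1 : u * v = ε' := by
    funext i
    simp only [Pi.mul_apply, ε', v]
    split_ifs with hi
    · exact hi.mul_val_inv
    · exact mul_zero _
  have h2 : (1 - u) * w = 1 - ε' := by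
    funext i
    simp only [Pi.mul_apply, Pi.sub_apply, Pi.one_apply, ε', w]
    split_ifs with hi
    · rw [mul_zero, sub_self]
    · rw [sub_zero]
      exact (IsLocalRing.isUnit_one_sub_self_of_mem_nonunits (u i) hi).mul_val_inv
  have h3 : ε' * ε' = ε' := by
    funext i
    simp only [Pi.mul_apply, ε']
    split_ifs <;> simp
  have e1 : s₀ * φ.symm v = φ.symm ε' := by
    apply φ.injective
    rw [map_mul, φ.apply_symm_apply, φ.apply_symm_apply]
    exact h1
  have e2 : (1 - s₀) * φ.symm w = 1 - φ.symm ε' := by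
    apply φ.injective
    rw [map_mul, map_sub, map_sub, map_one, φ.apply_symm_apply, φ.apply_symm_apply]
    exact h2
  have hidem : IsIdempotentElem (φ.symm ε') := by
    show φ.symm ε' * φ.symm ε' = φ.symm ε'
    rw [← map_mul, h3]
  refine ⟨φ.symm ε', hidem, ?_⟩
  set q := f s₀ with hq
  set ε := φ.symm ε' with hε
  have a1 : f ε = q * f (φ.symm v) := by rw [← e1, map_mul]
  have a2 : 1 - f ε = (1 - q) * f (φ.symm w) := by
    rw [← map_one f, ← map_sub, ← e2, map_mul, map_sub, map_one]
  have a3 : q * (1 - f ε) = 0 := by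
    rw [a2, ← mul_assoc, mul_sub, mul_one, h.eq, sub_self, zero_mul]
  have a4 : q * f ε = f ε := by rw [a1, ← mul_assoc, h.eq]
  calc f ε = q * f ε := a4.symm
    _ = q * f ε + q * (1 - f ε) := by rw [a3, add_zero]
    _ = q := by rw [← mul_add, add_sub_cancel, mul_one]

theorem exists_idempotent_of_henselian (R : Type u) [CommRing R] [HenselianLocalRing R]
    (S : Type u) [CommRing S] [Algebra R S] [Module.Finite R S] {T : Type*} [Ring T]
    (f : S →+* T) (s₀ : S) (h : IsIdempotentElem (f s₀)) :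
    ∃ ε : S, IsIdempotentElem ε ∧ f ε = f s₀ := by
  obtain ⟨ι, _, Ai, _, hloc, ⟨φ⟩⟩ :=
    Groth.Agent.Lib.Helper3.Hensel.exists_pi_isLocalRing_of_finite R S
  haveI := hloc
  exact exists_idempotent_map_eq φ f s₀ h

open scoped IsMulCommutative in
/-- idempotents lift along any ring map from a (possibly noncommutative) finite algebra over a
henselian local ring -/
theorem exists_idempotent_of_henselian_ring (R : Type u) [CommRing R] [HenselianLocalRing R]
    (C : Type u) [Ring C] [Algebra R C] [Module.Finite R C] {T : Type*} [Ring T]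
    (f : C →+* T) (c₀ : C) (h : IsIdempotentElem (f c₀)) :
    ∃ ε : C, IsIdempotentElem ε ∧ f ε = f c₀ := by
  have hcomm : ∀ a ∈ ({c₀} : Set C), ∀ b ∈ ({c₀} : Set C), a * b = b * a := by
    intro a ha b hb
    rw [Set.mem_singleton_iff] at ha hb
    rw [ha, hb]
  haveI := Algebra.isMulCommutative_adjoin R hcomm
  haveI : Algebra.IsIntegral R C := Algebra.IsIntegral.of_finite R C
  haveI : Module.Finite R (Algebra.adjoin R ({c₀} : Set C)) :=
    Module.Finite.iff_fg.mpr (Algebra.IsIntegral.isIntegral c₀).fg_adjoin_singleton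
  obtain ⟨ε, hε, hfε⟩ := exists_idempotent_of_henselian R (Algebra.adjoin R ({c₀} : Set C))
    (f.comp (Algebra.adjoin R ({c₀} : Set C)).val.toRingHom)
    ⟨c₀, Algebra.subset_adjoin (Set.mem_singleton c₀)⟩ h
  refine ⟨(ε : C), ?_, hfε⟩
  have := congrArg Subtype.val hε.eq
  exact this

end Groth.Agent.Lib.LeadHZ
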