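import Groth.Agent.Lib.LeadHZ1
import Groth.Agent.Lib.LeadRG11

/-! Lifting algebra maps between Azumaya algebras over a henselian local ring (abstract part). -/

universe u

namespace Groth.Agent.Lib.LeadHZ

open TensorProduct MulOpposite Groth.Agent.Lib.LeadAzumaya

theorem mem_smul_top_of_one_tmul_eq_zero {R : Type*} [CommRing R] [IsLocalRing R] {M : Type*}
    [AddCommGroup M] [Module R M] (x : M)
    (h : (1 : IsLocalRing.ResidueField R) ⊗ₜ[R] x = 0) :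
    x ∈ IsLocalRing.maximalIdeal R • (⊤ : Submodule R M) := by
  have h' : (Ideal.Quotient.mk (IsLocalRing.maximalIdeal R) 1) ⊗ₜ[R] x
      = (0 : (R ⧸ IsLocalRing.maximalIdeal R) ⊗[R] M) := h
  have := congrArg (TensorProduct.quotTensorEquivQuotSMul M (IsLocalRing.maximalIdeal R)) h'
  rw [TensorProduct.quotTensorEquivQuotSMul_mk_tmul, map_zero, one_smul,
    Submodule.Quotient.mk_eq_zero] at this
  exact this

section Psi

variable {R : Type*} [CommRing R] {A : Type*} [Ring A] [Algebra R A] {B : Type*} [Ring B]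
  [Algebra R B] {C : Type*} [Ring C] [Algebra R C]

/-- the `A ⊗ Bᵒᵖ`-module structure on `C` given by `F : A → C` and `G : B → C` -/
noncomputable def Psi (F : A →ₐ[R] C) (G : B →ₐ[R] C) : A ⊗[R] Bᵐᵒᵖ →ₐ[R] Module.End R C :=
  (AlgHom.mulLeftRight R C).comp (Algebra.TensorProduct.map F (AlgHom.op G))

theorem Psi_tmul (F : A →ₐ[R] C) (G : B →ₐ[R] C) (a : A) (b : B) (x : C) :
    Psi F G (a ⊗ₜ[R] op b) x = F a * x * G b := by
  simp [Psi, AlgHom.mulLeftRight_apply]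

end Psi

set_option maxHeartbeats 1600000 in
theorem exists_algHom_lift (R : Type u) [CommRing R] [HenselianLocalRing R]
    (A B : Type u) [Ring A] [Algebra R A] [Ring B] [Algebra R B] [Module.Finite R A]
    [Module.Finite R B] [Module.Projective R A] [Module.Projective R B]
    {C : Type*} [Ring C] [Algebra R C] (F : A →ₐ[R] C) (G : B →ₐ[R] C)
    (hGs : Function.Surjective G)
    (hGk : ∀ b, G b = 0 → b ∈ IsLocalRing.maximalIdeal R • (⊤ : Submodule R B))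
    (hPs : ∀ φ : Module.End R C, ∃ c, Psi F G c = φ)
    (hPk : ∀ d, Psi F G d = 0 →
      d ∈ IsLocalRing.maximalIdeal R • (⊤ : Submodule R (A ⊗[R] Bᵐᵒᵖ)))
    (π₁ : Module.End R C) (hπ1 : π₁ 1 = 1) (hπ : ∀ x, ∃ r : R, π₁ x = r • (1 : C)) :
    ∃ e : A →ₐ[R] B, ∀ a, F a = G (e a) := by
  classical
  haveI : Module.Projective R Bᵐᵒᵖ := Module.Projective.of_equiv (opLinearEquiv R : B ≃ₗ[R] Bᵐᵒᵖ)
  have hπidem : IsIdempotentElem π₁ := by
    refine LinearMap.ext fun x => ?_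
    obtain ⟨r, hr⟩ := hπ x
    rw [Module.End.mul_apply, hr, map_smul, hπ1]
  obtain ⟨c₀, hc₀⟩ := hPs π₁
  obtain ⟨ε, hε, hfε⟩ := exists_idempotent_of_henselian_ring R (A ⊗[R] Bᵐᵒᵖ)
    ((Psi F G : A ⊗[R] Bᵐᵒᵖ →ₐ[R] Module.End R C) : A ⊗[R] Bᵐᵒᵖ →+* Module.End R C) c₀
    (by
      have : ((Psi F G : A ⊗[R] Bᵐᵒᵖ →ₐ[R] Module.End R C) : A ⊗[R] Bᵐᵒᵖ →+* Module.End R C) c₀
          = π₁ := hc₀
      rw [this]
      exact hπidem)
  have hεP : Psi F G ε = π₁ := hfε.trans hc₀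
  -- the map ρ
  let ρ : B →ₗ[R] A ⊗[R] Bᵐᵒᵖ :=
    (LinearMap.mulRight R ε) ∘ₗ
      ((Algebra.TensorProduct.includeRight : Bᵐᵒᵖ →ₐ[R] A ⊗[R] Bᵐᵒᵖ).toLinearMap ∘ₗ
        (opLinearEquiv R : B ≃ₗ[R] Bᵐᵒᵖ).toLinearMap)
  have hρ : ∀ b, ρ b = ((1 : A) ⊗ₜ[R] op b) * ε := fun b => rfl
  have hΨ1 : ∀ c, Psi F G (c * ε) 1 = Psi F G c 1 := by
    intro c
    rw [map_mul, Module.End.mul_apply, hεP, hπ1]
  have hΨρ : ∀ b, Psi F G (ρ b) 1 = G b := by
    intro b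
    rw [hρ, hΨ1, Psi_tmul, map_one, one_mul, one_mul]
  have hzero : ∀ d, d * ε = d → Psi F G d 1 = 0 → Psi F G d = 0 := by
    intro d hd h1
    refine LinearMap.ext fun y => ?_
    have e1 : Psi F G d y = Psi F G (d * ε) y := by rw [hd]
    rw [e1, map_mul, Module.End.mul_apply, hεP]
    obtain ⟨r, hr⟩ := hπ y
    rw [hr, map_smul, h1, smul_zero]
    rfl
  -- the left ideal N = E ε
  set N : Submodule R (A ⊗[R] Bᵐᵒᵖ) := LinearMap.range (LinearMap.mulRight R ε) with hNdef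
  have hNfg : N.FG := Module.Finite.iff_fg.mp inferInstance
  have hmN : IsLocalRing.maximalIdeal R • N =
      (IsLocalRing.maximalIdeal R • (⊤ : Submodule R (A ⊗[R] Bᵐᵒᵖ))).map
        (LinearMap.mulRight R ε) := by
    rw [Submodule.map_smul'', Submodule.map_top]
  have hNle : N ≤ LinearMap.range ρ := by
    apply Submodule.le_of_le_smul_of_le_jacobson_bot hNfg
      (IsLocalRing.maximalIdeal_le_jacobson ⊥)
    rintro _ ⟨c, rfl⟩
    rw [LinearMap.mulRight_apply]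
    obtain ⟨b, hb⟩ := hGs (Psi F G (c * ε) 1)
    have hd : (c * ε - ρ b) * ε = c * ε - ρ b := by
      rw [sub_mul, hρ, mul_assoc, mul_assoc, hε.eq]
    have hd1 : Psi F G (c * ε - ρ b) 1 = 0 := by
      rw [map_sub, LinearMap.sub_apply, hΨρ, hb, sub_self]
    have hdm := hPk _ (hzero _ hd hd1)
    have e1 : c * ε = ρ b + (c * ε - ρ b) := by abel
    rw [e1]
    refine Submodule.add_mem_sup ⟨b, rfl⟩ ?_
    rw [hmN, ← hd]
    exact ⟨_, hdm, rfl⟩
  have hρmem : ∀ b, ρ b ∈ N := fun b => ⟨(1 : A) ⊗ₜ[R] op b, rfl⟩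
  let ρN : B →ₗ[R] N := ρ.codRestrict N hρmem
  have hρNsurj : Function.Surjective ρN := by
    rintro ⟨n, hn⟩
    obtain ⟨b, hb⟩ := hNle hn
    exact ⟨b, Subtype.ext hb⟩
  haveI : Module.Projective R N := by
    refine Module.Projective.of_split N.subtype (LinearMap.mulRight R ε).rangeRestrict ?_
    refine LinearMap.ext fun n => Subtype.ext ?_
    obtain ⟨n, c, rfl⟩ := n
    show c * ε * ε = c * ε
    rw [mul_assoc, hε.eq]
  obtain ⟨σ, hσ⟩ := Module.projective_lifting_property ρN (LinearMap.id : N →ₗ[R] N) hρNsurj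
  have hσ' : ∀ n, ρN (σ n) = n := fun n => by
    have := congrArg (fun f => f n) hσ
    exact this
  let pK : B →ₗ[R] B := LinearMap.id - σ ∘ₗ ρN
  have hpK : ∀ b, pK b = b - σ (ρN b) := fun b => rfl
  have hρpK : ∀ b, ρ (pK b) = 0 := by
    intro b
    have e1 : ρ (σ (ρN b)) = ((ρN (σ (ρN b)) : N) : A ⊗[R] Bᵐᵒᵖ) := rfl
    have e2 : ((ρN b : N) : A ⊗[R] Bᵐᵒᵖ) = ρ b := rfl
    rw [hpK, map_sub, e1, hσ', e2, sub_self]
  have hKeq : LinearMap.ker ρ = (⊤ : Submodule R B).map pK := by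
    apply le_antisymm
    · intro b hb
      rw [LinearMap.mem_ker] at hb
      have hb' : ρN b = 0 := Subtype.ext hb
      refine ⟨b, Submodule.mem_top, ?_⟩
      rw [hpK, hb', map_zero, sub_zero]
    · rintro _ ⟨b, -, rfl⟩
      exact hρpK b
  have hKfg : (LinearMap.ker ρ).FG := by
    rw [hKeq]
    exact (Module.Finite.fg_top).map pK
  have hKle : LinearMap.ker ρ ≤ IsLocalRing.maximalIdeal R • LinearMap.ker ρ := by
    intro b hb
    have hb0 : ρ b = 0 := hb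
    have hG0 : G b = 0 := by rw [← hΨρ, hb0, map_zero]; rfl
    have hbm := hGk b hG0
    have hb' : ρN b = 0 := Subtype.ext hb0
    have hpb : pK b = b := by rw [hpK, hb', map_zero, sub_zero]
    have e3 : IsLocalRing.maximalIdeal R • LinearMap.ker ρ =
        (IsLocalRing.maximalIdeal R • (⊤ : Submodule R B)).map pK := by
      rw [Submodule.map_smul'', ← hKeq]
    rw [e3]
    exact ⟨b, hbm, hpb⟩
  have hK : LinearMap.ker ρ = ⊥ :=
    Submodule.eq_bot_of_le_smul_of_le_jacobson_bot _ _ hKfg hKle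
      (IsLocalRing.maximalIdeal_le_jacobson ⊥)
  have hρinj : Function.Injective ρ := LinearMap.ker_eq_bot.mp hK
  -- the map A → B
  have hex : ∀ a : A, ∃ b : B, ρ b = (a ⊗ₜ[R] (1 : Bᵐᵒᵖ)) * ε := fun a =>
    hNle ⟨a ⊗ₜ[R] (1 : Bᵐᵒᵖ), rfl⟩
  choose ef hef using hex
  have hadd : ∀ a a', ef (a + a') = ef a + ef a' := by
    intro a a'
    apply hρinj
    rw [map_add, hef, hef, hef, TensorProduct.add_tmul, add_mul]
  have hsmul : ∀ (r : R) a, ef (r • a) = r • ef a := by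
    intro r a
    apply hρinj
    rw [map_smul, hef, hef, ← TensorProduct.smul_tmul', smul_mul_assoc]
  have hone : ef 1 = 1 := by
    apply hρinj
    rw [hef, hρ, op_one]
  have hcomm : ∀ (a : A) (b : B), (a ⊗ₜ[R] (1 : Bᵐᵒᵖ)) * ((1 : A) ⊗ₜ[R] op b)
      = ((1 : A) ⊗ₜ[R] op b) * (a ⊗ₜ[R] (1 : Bᵐᵒᵖ)) := by
    intro a b
    rw [Algebra.TensorProduct.tmul_mul_tmul, Algebra.TensorProduct.tmul_mul_tmul, mul_one,
      one_mul, mul_one, one_mul]
  have hmul : ∀ a a', ef (a * a') = ef a * ef a' := by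
    intro a a'
    apply hρinj
    calc ρ (ef (a * a')) = ((a * a') ⊗ₜ[R] (1 : Bᵐᵒᵖ)) * ε := hef _
      _ = (a ⊗ₜ[R] (1 : Bᵐᵒᵖ)) * ((a' ⊗ₜ[R] (1 : Bᵐᵒᵖ)) * ε) := by
          rw [← mul_assoc, Algebra.TensorProduct.tmul_mul_tmul, mul_one]
      _ = (a ⊗ₜ[R] (1 : Bᵐᵒᵖ)) * (((1 : A) ⊗ₜ[R] op (ef a')) * ε) := by rw [← hef a', hρ]
      _ = ((1 : A) ⊗ₜ[R] op (ef a')) * ((a ⊗ₜ[R] (1 : Bᵐᵒᵖ)) * ε) := by
          rw [← mul_assoc, hcomm, mul_assoc]
      _ = ((1 : A) ⊗ₜ[R] op (ef a')) * (((1 : A) ⊗ₜ[R] op (ef a)) * ε) := by rw [← hef a, hρ]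
      _ = ((1 : A) ⊗ₜ[R] op (ef a * ef a')) * ε := by
          rw [← mul_assoc, Algebra.TensorProduct.tmul_mul_tmul, mul_one, op_mul]
      _ = ρ (ef a * ef a') := (hρ _).symm
  let el : A →ₗ[R] B :=
    { toFun := ef
      map_add' := hadd
      map_smul' := hsmul }
  refine ⟨AlgHom.ofLinearMap el hone hmul, fun a => ?_⟩
  show F a = G (ef a)
  rw [← hΨρ, hef, hΨ1]
  have : ((1 : Bᵐᵒᵖ)) = op (1 : B) := rfl
  rw [this, Psi_tmul, map_one, mul_one, mul_one]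

end Groth.Agent.Lib.LeadHZ
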