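import Groth.Agent.Lib.LeadFF37
import Groth.Agent.Lib.LeadFF27
import Groth.Agent.Lib.LeadFG3
import Mathlib.RingTheory.Valuation.RamificationGroup
import Mathlib.RingTheory.Invariant.Basic
import Mathlib.FieldTheory.PrimitiveElement
import Mathlib.FieldTheory.Galois.Basic

/-! The inertia group of a place in a finite Galois extension has order `e(Q|P)` when the residue
field of `Q` is separable. -/

namespace Groth.Agent.Lib.LeadIG

attribute [-instance] IsLocalRing.instModuleResidueFieldOfAlgebra

open FunFld WithZero Polynomial Groth.Agent.Lib.LeadFF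

section

variable {k K K' : Type*} [Field k] [Field K] [Field K'] [Algebra k K] [Algebra K K']
  [Algebra k K'] [IsScalarTower k K K']

lemma cm_eq_iff_inv (Q : Place k K') (σ : K' ≃ₐ[K] K') : cm Q σ⁻¹ = Q ↔ cm Q σ = Q := by
  constructor
  · intro h
    have : cm (cm Q σ⁻¹) σ = Q := by rw [cm_cm, inv_mul_cancel, cm_one]
    rwa [h] at this
  · intro h
    have : cm (cm Q σ) σ⁻¹ = Q := by rw [cm_cm, mul_inv_cancel, cm_one]
    rwa [h] at this

open scoped Pointwise in
lemma mem_decomp_iff (Q : Place k K') (σ : K' ≃ₐ[K] K') :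
    σ ∈ Q.O.decompositionSubgroup K ↔ cm Q σ = Q := by
  rw [← cm_eq_iff_inv]
  change σ • Q.O = Q.O ↔ _
  rw [smul_O]
  constructor
  · intro h; exact place_eq_of_O_eq h
  · intro h; rw [h]

variable [FiniteDimensional K K']

lemma exists_approx_elt (hK : IsFunctionField k K) {Q : Place k K'} {P : Place k K}
    (hQP : IsOver Q P) (z0 : K') :
    ∃ α : K', Q.1 (α - z0) < 1 ∧ ∀ Q' : Place k K', IsOver Q' P → Q' ≠ Q → Q'.1 α < 1 := by
  classical
  let S : Finset (Place k K') := (finite_over hK P).toFinset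
  obtain ⟨y, hy⟩ := LeadFG.weak_approx S (fun Q' => if Q' = Q then z0 else 0) (fun _ => -1)
  have hlt : exp (-1 : ℤ) < (1 : ZM0) := by rw [← exp_zero, exp_lt_exp]; norm_num
  refine ⟨y, ?_, ?_⟩
  · have := hy Q ((Set.Finite.mem_toFinset _).mpr hQP)
    rw [if_pos rfl] at this
    rw [this]; exact hlt
  · intro Q' hQ' hne
    have := hy Q' ((Set.Finite.mem_toFinset _).mpr hQ')
    rw [if_neg hne, sub_zero] at this
    rw [this]; exact hlt

variable [IsGalois K K']

/-- the polynomial `∏ (X - σ α)` has coefficients coming from `O_P`. -/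
lemma exists_lift_charpoly {Q : Place k K'} {P : Place k K} {e : ℕ} (he : IsOverWith Q P e)
    (a : (K' ≃ₐ[K] K') → Q.O) (α : K') (ha : ∀ σ, (a σ : K') = σ α) :
    ∃ g0 : (P.O)[X], g0.map (overHom he) = ∏ σ : K' ≃ₐ[K] K', (X - C (a σ)) := by
  classical
  have he0 := isOverWith_pos he
  rw [← Polynomial.mem_lifts, Polynomial.lifts_iff_coeff_lifts]
  intro n
  set g' : (Q.O)[X] := ∏ σ : K' ≃ₐ[K] K', (X - C (a σ)) with hg'
  have hmap : g'.map (Q.O.subtype) = MulSemiringAction.charpoly (K' ≃ₐ[K] K') α := by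
    rw [hg', Polynomial.map_prod, MulSemiringAction.charpoly_eq]
    apply Finset.prod_congr rfl
    intro σ _
    rw [Polynomial.map_sub, Polynomial.map_X, Polynomial.map_C]
    congr 2
    exact ha σ
  have hcoe : ((g'.coeff n : Q.O) : K')
      = (MulSemiringAction.charpoly (K' ≃ₐ[K] K') α).coeff n := by
    rw [← hmap, Polynomial.coeff_map]; rfl
  have hfix : ∀ σ : K' ≃ₐ[K] K', σ ((g'.coeff n : Q.O) : K') = ((g'.coeff n : Q.O) : K') := by
    intro σ
    rw [hcoe]
    exact MulSemiringAction.smul_coeff_charpoly α n σ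
  have hbot := (IsGalois.mem_bot_iff_fixed (F := K) (E := K') _).mpr hfix
  obtain ⟨b, hb⟩ := IntermediateField.mem_bot.mp hbot
  have hb1 : P.1 b ≤ 1 := by
    have h1 : Q.1 (algebraMap K K' b) ≤ 1 := by rw [hb]; exact (g'.coeff n).2
    rw [he] at h1
    exact (pow_le_one_iff he0.ne').mp h1
  exact ⟨⟨b, hb1⟩, Subtype.ext hb⟩

theorem card_inertia (hK : IsFunctionField k K) {Q : Place k K'} {P : Place k K} {e : ℕ}
    (he : IsOverWith Q P e) [Algebra.IsSeparable k (IsLocalRing.ResidueField Q.O)] :
    Nat.card (Q.O.inertiaSubgroup K) = e := by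
  classical
  have he0 := isOverWith_pos he
  have hQP : IsOver Q P := ⟨e, he⟩
  -- residue field extension
  let ι : IsLocalRing.ResidueField P.O →+* IsLocalRing.ResidueField Q.O :=
    IsLocalRing.ResidueField.map (overHom he)
  letI : Algebra (IsLocalRing.ResidueField P.O) (IsLocalRing.ResidueField Q.O) := ι.toAlgebra
  have hι : ∀ w : P.O, algebraMap (IsLocalRing.ResidueField P.O) (IsLocalRing.ResidueField Q.O)
      (IsLocalRing.residue P.O w) = IsLocalRing.residue Q.O (overHom he w) :=
    fun w => IsLocalRing.ResidueField.map_residue _ _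
  haveI : IsScalarTower k (IsLocalRing.ResidueField P.O) (IsLocalRing.ResidueField Q.O) := by
    apply IsScalarTower.of_algebraMap_eq
    intro c
    change IsLocalRing.residue Q.O (algebraMap k Q.O c)
      = algebraMap _ _ (IsLocalRing.residue P.O (algebraMap k P.O c))
    rw [hι]
    congr 1
    apply Subtype.ext
    change algebraMap k K' c = algebraMap K K' (algebraMap k K c)
    rw [← IsScalarTower.algebraMap_apply]
  haveI : FiniteDimensional k (IsLocalRing.ResidueField Q.O) :=
    LeadFG.residueField_finite (isFF_of_finite hK) Q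
  haveI : FiniteDimensional k (IsLocalRing.ResidueField P.O) := residueField_finite hK P
  haveI : FiniteDimensional (IsLocalRing.ResidueField P.O) (IsLocalRing.ResidueField Q.O) :=
    FiniteDimensional.right k _ _
  haveI : Algebra.IsSeparable (IsLocalRing.ResidueField P.O) (IsLocalRing.ResidueField Q.O) :=
    Algebra.isSeparable_tower_top_of_isSeparable k _ _
  set f := Module.finrank (IsLocalRing.ResidueField P.O) (IsLocalRing.ResidueField Q.O) with hf
  have hf0 : 0 < f := Module.finrank_pos
  have hdeg : P.deg * f = Q.deg :=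
    Module.finrank_mul_finrank k (IsLocalRing.ResidueField P.O) (IsLocalRing.ResidueField Q.O)
  have hD : Nat.card (Q.O.decompositionSubgroup K) = e * f := by
    have h1 := card_decomp_mul_deg hK he
    rw [← hdeg] at h1
    have hP0 := deg_pos hK P
    have : Nat.card (Q.O.decompositionSubgroup K) * P.deg = (e * f) * P.deg := by
      rw [h1]; ring
    exact Nat.eq_of_mul_eq_mul_right hP0 this
  -- the action on the residue field
  let φ : (Q.O.decompositionSubgroup K) →* RingAut (IsLocalRing.ResidueField Q.O) :=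
    MulSemiringAction.toRingAut (Q.O.decompositionSubgroup K) (IsLocalRing.ResidueField Q.O)
  have hφ : ∀ (σ : Q.O.decompositionSubgroup K) (z : Q.O),
      φ σ (IsLocalRing.residue Q.O z) = IsLocalRing.residue Q.O (σ • z) := fun σ z => rfl
  have hsmul : ∀ (σ : Q.O.decompositionSubgroup K) (z : Q.O), ((σ • z : Q.O) : K') = σ.1 z :=
    fun σ z => rfl
  have hIdef : Q.O.inertiaSubgroup K = φ.ker := rfl
  have hcard : Nat.card φ.ker * Nat.card φ.range = e * f := by
    rw [← hD, ← Subgroup.index_ker, Subgroup.card_mul_index]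
  suffices hrange : Nat.card φ.range = f by
    rw [hIdef]
    rw [hrange] at hcard
    exact Nat.eq_of_mul_eq_mul_right hf0 hcard
  -- primitive element
  obtain ⟨ab, hab0, habtop⟩ : ∃ ab : IsLocalRing.ResidueField Q.O, ab ≠ 0 ∧
      IntermediateField.adjoin (IsLocalRing.ResidueField P.O) {ab} = ⊤ := by
    obtain ⟨ab, hab⟩ := Field.exists_primitive_element (IsLocalRing.ResidueField P.O)
      (IsLocalRing.ResidueField Q.O)
    by_cases h0 : ab = 0
    · refine ⟨1, one_ne_zero, ?_⟩
      rw [h0, IntermediateField.adjoin_zero] at hab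
      rw [IntermediateField.adjoin_one]; exact hab
    · exact ⟨ab, h0, hab⟩
  have habint : IsIntegral (IsLocalRing.ResidueField P.O) ab := Algebra.IsIntegral.isIntegral ab
  set m := minpoly (IsLocalRing.ResidueField P.O) ab with hm
  have hmdeg : m.natDegree = f := by
    rw [hm, ← IntermediateField.adjoin.finrank habint, habtop, IntermediateField.finrank_top']
  have hmsep : m.Separable := Algebra.IsSeparable.isSeparable _ ab
  have hadj : Algebra.adjoin (IsLocalRing.ResidueField P.O) {ab} = ⊤ := by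
    have := IntermediateField.adjoin_simple_toSubalgebra_of_isAlgebraic habint.isAlgebraic
    rw [habtop] at this
    rw [← this]; rfl
  -- lift and approximate
  obtain ⟨z0, hz0⟩ := IsLocalRing.residue_surjective ab
  obtain ⟨α, hα1, hα2⟩ := exists_approx_elt hK hQP (z0 : K')
  have hαQ : Q.1 α ≤ 1 := by
    have : α = (α - z0) + z0 := by ring
    rw [this]
    exact (Q.1.map_add _ _).trans (max_le hα1.le z0.2)
  have hres_α : IsLocalRing.residue Q.O ⟨α, hαQ⟩ = ab := by
    rw [← hz0, ← sub_eq_zero, ← map_sub, LeadFG.residue_eq_zero_iff]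
    exact hα1
  have hσα : ∀ σ : K' ≃ₐ[K] K', Q.1 (σ α) ≤ 1 ∧ (σ ∉ Q.O.decompositionSubgroup K → Q.1 (σ α) < 1) := by
    intro σ
    by_cases hσ : cm Q σ = Q
    · refine ⟨?_, fun h => absurd ((mem_decomp_iff Q σ).mpr hσ) h⟩
      have : Q.1 (σ α) = (cm Q σ).1 α := rfl
      rw [this, hσ]; exact hαQ
    · have h1 : (cm Q σ).1 α < 1 := hα2 _ ⟨e, isOverWith_cm he σ⟩ hσ
      exact ⟨h1.le, fun _ => h1⟩
  let a : (K' ≃ₐ[K] K') → Q.O := fun σ => ⟨σ α, (hσα σ).1⟩
  obtain ⟨g0, hg0⟩ := exists_lift_charpoly he a α (fun σ => rfl)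
  set gb : (IsLocalRing.ResidueField P.O)[X] := g0.map (IsLocalRing.residue P.O) with hgb
  have hgbmap : gb.map (algebraMap _ (IsLocalRing.ResidueField Q.O))
      = ∏ σ : K' ≃ₐ[K] K', (X - C (IsLocalRing.residue Q.O (a σ))) := by
    rw [hgb, Polynomial.map_map]
    have hcomp : (algebraMap (IsLocalRing.ResidueField P.O) (IsLocalRing.ResidueField Q.O)).comp
        (IsLocalRing.residue P.O) = (IsLocalRing.residue Q.O).comp (overHom he) := by
      ext w; exact hι w
    rw [hcomp, ← Polynomial.map_map, hg0, Polynomial.map_prod]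
    apply Finset.prod_congr rfl
    intro σ _
    rw [Polynomial.map_sub, Polynomial.map_X, Polynomial.map_C]
  have hgb0 : gb.map (algebraMap _ (IsLocalRing.ResidueField Q.O)) ≠ 0 := by
    rw [hgbmap]
    exact (monic_prod_of_monic _ _ (fun σ _ => monic_X_sub_C _)).ne_zero
  have hgbroot : aeval ab gb = 0 := by
    rw [aeval_def, eval₂_eq_eval_map, hgbmap, eval_prod]
    apply Finset.prod_eq_zero (Finset.mem_univ (1 : K' ≃ₐ[K] K'))
    rw [eval_sub, eval_X, eval_C, sub_eq_zero]
    exact hres_α.symm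
  have hmdvd : m ∣ gb := minpoly.dvd _ _ hgbroot
  have hmsplit : (m.map (algebraMap _ (IsLocalRing.ResidueField Q.O))).Splits := by
    refine Polynomial.Splits.of_dvd ?_ hgb0 (Polynomial.map_dvd _ hmdvd)
    rw [hgbmap]
    exact .prod fun σ _ => .X_sub_C _
  have hroots : Fintype.card (m.rootSet (IsLocalRing.ResidueField Q.O)) = f := by
    rw [card_rootSet_eq_natDegree hmsep hmsplit, hmdeg]
  -- elements of the range are `F_P`-algebra maps
  have hfix : ∀ ψ ∈ φ.range, ∀ y : IsLocalRing.ResidueField P.O,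
      ψ (algebraMap _ (IsLocalRing.ResidueField Q.O) y) = algebraMap _ _ y := by
    rintro _ ⟨σ, rfl⟩ y
    obtain ⟨w, rfl⟩ := IsLocalRing.residue_surjective y
    rw [hι, hφ]
    congr 1
    apply Subtype.ext
    rw [hsmul]
    exact σ.1.commutes _
  let toAlg : φ.range → (IsLocalRing.ResidueField Q.O →ₐ[IsLocalRing.ResidueField P.O]
      IsLocalRing.ResidueField Q.O) := fun ψ =>
    { (ψ.1 : IsLocalRing.ResidueField Q.O →+* IsLocalRing.ResidueField Q.O) with
      commutes' := hfix ψ.1 ψ.2 }
  have htoAlg : ∀ (ψ : φ.range) x, toAlg ψ x = ψ.1 x := fun ψ x => rfl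
  -- evaluation at the primitive element
  let ev : φ.range → m.rootSet (IsLocalRing.ResidueField Q.O) := fun ψ =>
    ⟨ψ.1 ab, by
      rw [Polynomial.mem_rootSet]
      refine ⟨minpoly.ne_zero habint, ?_⟩
      rw [← htoAlg, Polynomial.aeval_algHom_apply, minpoly.aeval, map_zero]⟩
  have hev_inj : Function.Injective ev := by
    intro ψ1 ψ2 h12
    have h12' : ψ1.1 ab = ψ2.1 ab := congrArg Subtype.val h12
    have : toAlg ψ1 = toAlg ψ2 := by
      apply AlgHom.ext_of_adjoin_eq_top hadj
      intro x hx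
      rw [Set.mem_singleton_iff] at hx
      rw [hx, htoAlg, htoAlg, h12']
    apply Subtype.ext
    ext x
    have := AlgHom.congr_fun this x
    rwa [htoAlg, htoAlg] at this
  have hev_surj : Function.Surjective ev := by
    rintro ⟨β, hβ⟩
    rw [Polynomial.mem_rootSet] at hβ
    have hβ1 : eval β (m.map (algebraMap _ (IsLocalRing.ResidueField Q.O))) = 0 := by
      rw [← eval₂_eq_eval_map, ← aeval_def]; exact hβ.2
    have hβ2 : eval β (gb.map (algebraMap _ (IsLocalRing.ResidueField Q.O))) = 0 := by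
      obtain ⟨q, hq⟩ := Polynomial.map_dvd (algebraMap _ (IsLocalRing.ResidueField Q.O)) hmdvd
      rw [hq, eval_mul, hβ1, zero_mul]
    rw [hgbmap, eval_prod, Finset.prod_eq_zero_iff] at hβ2
    obtain ⟨σ, -, hσ⟩ := hβ2
    rw [eval_sub, eval_X, eval_C, sub_eq_zero] at hσ
    by_cases hσD : σ ∈ Q.O.decompositionSubgroup K
    · refine ⟨⟨φ ⟨σ, hσD⟩, ⟨_, rfl⟩⟩, ?_⟩
      apply Subtype.ext
      change φ ⟨σ, hσD⟩ ab = β
      rw [hσ, ← hres_α, hφ]
      rfl
    · exfalso
      have h0 : β = 0 := by
        rw [hσ, LeadFG.residue_eq_zero_iff]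
        exact (hσα σ).2 hσD
      -- then `0` is a root of `m`, so `ab = 0`
      have hroot : (m.map (algebraMap _ (IsLocalRing.ResidueField Q.O))).IsRoot 0 := by
        rw [← h0]; exact hβ1
      have hroot' : m.IsRoot 0 := by
        have : eval 0 (m.map (algebraMap _ (IsLocalRing.ResidueField Q.O)))
            = algebraMap _ (IsLocalRing.ResidueField Q.O) (eval 0 m) := by
          rw [eval_map, ← map_zero (algebraMap (IsLocalRing.ResidueField P.O)
            (IsLocalRing.ResidueField Q.O)), eval₂_at_apply]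
        rw [IsRoot.def, this, map_eq_zero] at hroot
        exact hroot
      have hdeg1 := Polynomial.degree_eq_one_of_irreducible_of_root (minpoly.irreducible habint) hroot'
      obtain ⟨y, hy⟩ := minpoly.mem_range_of_degree_eq_one _ _ hdeg1
      have hmy : m = X - C y := by
        rw [hm, ← hy]; exact minpoly.eq_X_sub_C _ y
      rw [hmy, IsRoot.def, eval_sub, eval_X, eval_C, zero_sub, neg_eq_zero] at hroot'
      rw [hroot', map_zero] at hy
      exact hab0 hy.symm
  have hbij := Nat.card_congr (Equiv.ofBijective ev ⟨hev_inj, hev_surj⟩)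
  rw [hbij, Nat.card_eq_fintype_card, hroots]

end

end Groth.Agent.Lib.LeadIG
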