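import Groth.Agent.Lib.LeadIG1
import Mathlib.FieldTheory.AlgebraicClosure

/-! The inertia group over a base whose constant field may be larger than `k`: transfer to the
algebraic closure of `k` in the base. -/

namespace Groth.Agent.Lib.LeadIG

attribute [-instance] IsLocalRing.instModuleResidueFieldOfAlgebra

open FunFld WithZero Polynomial Groth.Agent.Lib.LeadFF

section A

variable {k E : Type*} [Field k] [Field E] [Algebra k E]

lemma finite_adjoin_kc {x : E}
    (hfin : FiniteDimensional (IntermediateField.adjoin k ({x} : Set E)) E) :
    FiniteDimensional (IntermediateField.adjoin (algebraicClosure k E) ({x} : Set E)) E := by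
  classical
  have hAB : ∀ a : E, a ∈ IntermediateField.adjoin k ({x} : Set E) →
      a ∈ IntermediateField.adjoin (algebraicClosure k E) ({x} : Set E) := by
    intro a ha
    have hle : IntermediateField.adjoin k ({x} : Set E)
        ≤ (IntermediateField.adjoin (algebraicClosure k E) ({x} : Set E)).restrictScalars k := by
      rw [IntermediateField.adjoin_le_iff]
      intro y hy
      show y ∈ IntermediateField.adjoin (algebraicClosure k E) ({x} : Set E)
      exact IntermediateField.subset_adjoin (algebraicClosure k E) ({x} : Set E) hy
    exact (IntermediateField.mem_restrictScalars k).mp (hle ha)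
  obtain ⟨s, hs⟩ := (Module.finite_def.mp hfin)
  refine Module.finite_def.mpr ⟨s, ?_⟩
  rw [Submodule.eq_top_iff']
  intro z
  have hz : z ∈ Submodule.span (IntermediateField.adjoin k ({x} : Set E)) (s : Set E) := by
    rw [hs]; trivial
  induction hz using Submodule.span_induction with
  | mem y hy => exact Submodule.subset_span hy
  | zero => exact Submodule.zero_mem _
  | add y z _ _ hy hz => exact Submodule.add_mem _ hy hz
  | smul a y _ hy =>
    have h1 := Submodule.smul_mem _ (⟨(a : E), hAB a a.2⟩ :
        IntermediateField.adjoin (algebraicClosure k E) ({x} : Set E)) hy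
    rw [Algebra.smul_def, IntermediateField.algebraMap_apply] at h1
    rw [Algebra.smul_def, IntermediateField.algebraMap_apply]
    exact h1

theorem isFunctionField_kc (hE : LeadFG.IsFF k E) : IsFunctionField (algebraicClosure k E) E := by
  obtain ⟨x, hx, hfin⟩ := hE
  refine ⟨⟨x, ?_, finite_adjoin_kc hfin⟩, ?_⟩
  · intro halg
    exact hx (halg.restrictScalars k)
  · intro y hy
    have : IsAlgebraic k y := hy.restrictScalars k
    exact ⟨⟨y, mem_algebraicClosure_iff.mpr this⟩, rfl⟩

/-- a place over `k` is a place over the algebraic closure of `k`. -/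
def placeUp (P : Place k E) : Place (algebraicClosure k E) E :=
  ⟨P.1, fun c => LeadFG.val_le_one_of_isIntegral (LeadFG.place_trivOn P)
    (mem_algebraicClosure_iff'.mp c.2), P.2.2⟩

/-- and conversely. -/
def placeDown (P : Place (algebraicClosure k E) E) : Place k E :=
  ⟨P.1, fun c => by
    rw [IsScalarTower.algebraMap_apply k (algebraicClosure k E) E]; exact P.2.1 _, P.2.2⟩

end A

section C

variable {k E K' : Type*} [Field k] [Field E] [Field K'] [Algebra k E] [Algebra E K']
  [Algebra k K'] [IsScalarTower k E K'] [FiniteDimensional E K'] [IsGalois E K']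

theorem card_inertia_ff (hE : LeadFG.IsFF k E) (Q : Place k K')
    [Algebra.IsSeparable k (IsLocalRing.ResidueField Q.O)] :
    ∃ (R : Place k E) (e : ℕ), IsOverWith Q R e ∧ Nat.card (Q.O.inertiaSubgroup E) = e := by
  classical
  have hKE := isFunctionField_kc hE
  let Q' : Place (algebraicClosure k E) K' :=
    ⟨Q.1, fun c => by
      show Q.1 (algebraMap E K' (c : E)) ≤ 1
      exact LeadFG.val_le_one_of_isIntegral (LeadFG.place_trivOn Q)
        ((mem_algebraicClosure_iff'.mp c.2).map (IsScalarTower.toAlgHom k E K')), Q.2.2⟩
  obtain ⟨R', e, he0, he⟩ := exists_below hKE Q'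
  haveI : IsScalarTower k (algebraicClosure k E) (IsLocalRing.ResidueField Q'.O) :=
    IsScalarTower.of_algebraMap_eq (fun c =>
      congrArg (IsLocalRing.residue Q'.O) (Subtype.ext (IsScalarTower.algebraMap_apply k E K' c)))
  haveI : Algebra.IsSeparable k (IsLocalRing.ResidueField Q'.O) :=
    (inferInstance : Algebra.IsSeparable k (IsLocalRing.ResidueField Q.O))
  haveI : Algebra.IsSeparable (algebraicClosure k E) (IsLocalRing.ResidueField Q'.O) :=
    Algebra.isSeparable_tower_top_of_isSeparable k _ _
  have hcard := card_inertia hKE he
  exact ⟨placeDown R', e, he, hcard⟩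

end C

end Groth.Agent.Lib.LeadIG
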