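import Groth.Agent.Lib.LeadIG2

/-! Inertia groups and intermediate fields of a finite Galois extension: the inertia field. -/

namespace Groth.Agent.Lib.LeadIG

attribute [-instance] IsLocalRing.instModuleResidueFieldOfAlgebra

open FunFld WithZero Polynomial Groth.Agent.Lib.LeadFF

section Gen

variable {k K K' : Type*} [Field k] [Field K] [Field K'] [Algebra k K] [Algebra K K']
  [Algebra k K'] [IsScalarTower k K K']

/-- elementwise description of the inertia group. -/
lemma mem_inertia_iff (Q : Place k K') (σ : Q.O.decompositionSubgroup K) :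
    σ ∈ Q.O.inertiaSubgroup K ↔ ∀ z : Q.O, Q.1 (σ.1 (z : K') - z) < 1 := by
  let φ : (Q.O.decompositionSubgroup K) →* RingAut (IsLocalRing.ResidueField Q.O) :=
    MulSemiringAction.toRingAut (Q.O.decompositionSubgroup K) (IsLocalRing.ResidueField Q.O)
  have hφ : ∀ (σ : Q.O.decompositionSubgroup K) (z : Q.O),
      φ σ (IsLocalRing.residue Q.O z) = IsLocalRing.residue Q.O (σ • z) := fun σ z => rfl
  have hsmul : ∀ (σ : Q.O.decompositionSubgroup K) (z : Q.O), ((σ • z : Q.O) : K') = σ.1 z :=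
    fun σ z => rfl
  have hIdef : Q.O.inertiaSubgroup K = φ.ker := rfl
  rw [hIdef, MonoidHom.mem_ker]
  constructor
  · intro h z
    have h1 : φ σ (IsLocalRing.residue Q.O z) = IsLocalRing.residue Q.O z := by rw [h]; rfl
    rw [hφ, ← sub_eq_zero, ← map_sub, LeadFG.residue_eq_zero_iff] at h1
    exact h1
  · intro h
    ext y
    obtain ⟨z, rfl⟩ := IsLocalRing.residue_surjective y
    show φ σ (IsLocalRing.residue Q.O z) = IsLocalRing.residue Q.O z
    rw [hφ, ← sub_eq_zero, ← map_sub, LeadFG.residue_eq_zero_iff]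
    exact h z

end Gen

section Tower

variable {k K K' : Type*} [Field k] [Field K] [Field K'] [Algebra k K] [Algebra K K']
  [Algebra k K'] [IsScalarTower k K K']

instance towerE (E : IntermediateField K K') : IsScalarTower k E K' :=
  IsScalarTower.of_algebraMap_eq (fun _ => rfl)

lemma mem_decomp_of_eq (E : IntermediateField K K') (Q : Place k K') (τ : K' ≃ₐ[E] K')
    (σ : K' ≃ₐ[K] K') (h : ∀ y, τ y = σ y) :
    τ ∈ Q.O.decompositionSubgroup E ↔ σ ∈ Q.O.decompositionSubgroup K := by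
  rw [mem_decomp_iff, mem_decomp_iff]
  have hv : (cm Q τ).1 = (cm Q σ).1 := by
    ext y
    rw [cm_apply, cm_apply, h]
  constructor
  · intro hh
    apply Subtype.ext
    rw [← hv, hh]
  · intro hh
    apply Subtype.ext
    rw [hv, hh]

lemma mem_inertia_of_eq (E : IntermediateField K K') (Q : Place k K')
    (τ : Q.O.decompositionSubgroup E) (σ : Q.O.decompositionSubgroup K)
    (h : ∀ y, τ.1 y = σ.1 y) :
    τ ∈ Q.O.inertiaSubgroup E ↔ σ ∈ Q.O.inertiaSubgroup K := by
  rw [mem_inertia_iff, mem_inertia_iff]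
  constructor
  · intro hh z; rw [← h]; exact hh z
  · intro hh z; rw [h]; exact hh z

variable [FiniteDimensional K K'] [IsGalois K K']

/-- the image of the inertia group in the Galois group. -/
noncomputable abbrev IG (Q : Place k K') : Subgroup (K' ≃ₐ[K] K') :=
  ((Q.O).inertiaSubgroup K).map ((Q.O).decompositionSubgroup K).subtype

lemma mem_IG_iff (Q : Place k K') (σ : K' ≃ₐ[K] K') :
    σ ∈ IG (K := K) Q ↔ ∃ hσ : σ ∈ Q.O.decompositionSubgroup K,
      (⟨σ, hσ⟩ : Q.O.decompositionSubgroup K) ∈ Q.O.inertiaSubgroup K := by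
  constructor
  · rintro ⟨ρ, hρ, rfl⟩
    exact ⟨ρ.2, hρ⟩
  · rintro ⟨hσ, h⟩
    exact ⟨⟨σ, hσ⟩, h, rfl⟩

/-- the inertia group over `E` is `I ∩ Gal(K'/E)`. -/
theorem card_inertia_inter (E : IntermediateField K K') (Q : Place k K') :
    Nat.card (Q.O.inertiaSubgroup E) = Nat.card (IG (K := K) Q ⊓ E.fixingSubgroup : Subgroup _) := by
  classical
  have key : ∀ τ : Q.O.inertiaSubgroup E,
      (τ.1.1.restrictScalars K : K' ≃ₐ[K] K') ∈ (IG (K := K) Q ⊓ E.fixingSubgroup : Subgroup _) := by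
    intro τ
    have hfun : ∀ y, τ.1.1 y = (τ.1.1.restrictScalars K : K' ≃ₐ[K] K') y := fun y => rfl
    have hD := (mem_decomp_of_eq E Q τ.1.1 _ hfun).mp τ.1.2
    refine Subgroup.mem_inf.mpr ⟨(mem_IG_iff Q _).mpr ⟨hD, ?_⟩, ?_⟩
    · exact (mem_inertia_of_eq E Q τ.1 ⟨_, hD⟩ hfun).mp τ.2
    · refine (IntermediateField.mem_fixingSubgroup_iff _ _).mpr ?_
      intro y hy
      exact τ.1.1.commutes ⟨y, hy⟩
  refine Nat.card_congr (Equiv.ofBijective (fun τ => ⟨_, key τ⟩) ⟨?_, ?_⟩)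
  · intro τ₁ τ₂ h12
    have h := congrArg Subtype.val h12
    apply Subtype.ext
    apply Subtype.ext
    ext y
    exact AlgEquiv.congr_fun h y
  · rintro ⟨σ, hσ⟩
    obtain ⟨hσI, hσH⟩ := Subgroup.mem_inf.mp hσ
    let τ : K' ≃ₐ[E] K' := IntermediateField.fixingSubgroupEquiv E ⟨σ, hσH⟩
    have hfun : ∀ y, τ y = σ y := fun y => rfl
    obtain ⟨hσD, hσI'⟩ := (mem_IG_iff Q σ).mp hσI
    have hτD := (mem_decomp_of_eq E Q τ σ hfun).mpr hσD
    have hτI := (mem_inertia_of_eq E Q ⟨τ, hτD⟩ ⟨σ, hσD⟩ hfun).mpr hσI'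
    refine ⟨⟨⟨τ, hτD⟩, hτI⟩, ?_⟩
    apply Subtype.ext
    ext y
    rfl

end Tower

end Groth.Agent.Lib.LeadIG
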