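import Groth.Agent.Lib.LeadIG3

/-! The inertia field: total ramification above it, and the characterization of the intermediate
fields unramified at `Q`. -/

namespace Groth.Agent.Lib.LeadIG

attribute [-instance] IsLocalRing.instModuleResidueFieldOfAlgebra

open FunFld WithZero Polynomial Groth.Agent.Lib.LeadFF

section Range

lemma dvd_of_exp_pow_eq {a b : ℕ} {δ : ZM0} (h : (exp (-1 : ℤ) : ZM0) ^ a = δ ^ b) : b ∣ a := by
  rcases Nat.eq_zero_or_pos b with rfl | hb
  · rw [pow_zero, zm0_exp_pow] at h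
    have := exp_injective (h.trans exp_zero.symm)
    have ha : a = 0 := by omega
    rw [ha]
  have hδ : δ ≠ 0 := by
    rintro rfl
    rw [zero_pow hb.ne', zm0_exp_pow] at h
    exact exp_ne_zero h
  obtain ⟨m, rfl⟩ : ∃ m : ℤ, δ = exp m := ⟨log δ, (exp_log hδ).symm⟩
  rw [zm0_exp_pow, zm0_exp_pow] at h
  have := exp_injective h
  have hdvd : (b : ℤ) ∣ (a : ℤ) := ⟨-m, by linarith⟩
  exact Int.natCast_dvd_natCast.mp hdvd

variable {k E K K' : Type*} [Field k] [Field E] [Field K] [Field K'] [Algebra k E] [Algebra k K]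
  [Algebra E K'] [Algebra K K'] [Algebra k K']

lemma range_comap_eq {Q : Place k K'} {R : Place k E} {eE : ℕ} (heE : IsOverWith Q R eE) :
    Set.range (Q.1.comap (algebraMap E K')) = {γ | ∃ δ : ZM0, γ = δ ^ eE} := by
  ext γ
  constructor
  · rintro ⟨x, rfl⟩
    exact ⟨R.1 x, heE x⟩
  · rintro ⟨δ, rfl⟩
    obtain ⟨x, hx⟩ := R.2.2 δ
    exact ⟨x, by rw [Valuation.comap_apply, heE x, hx]⟩

lemma range_comap_eq_iff {Q : Place k K'} {R : Place k E} {P : Place k K} {eE e : ℕ}
    (heE : IsOverWith Q R eE) (he : IsOverWith Q P e) :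
    Set.range (Q.1.comap (algebraMap E K')) = Set.range (Q.1.comap (algebraMap K K')) ↔ eE = e := by
  rw [range_comap_eq heE, range_comap_eq he]
  constructor
  · intro h
    have h1 : (exp (-1 : ℤ) : ZM0) ^ eE ∈ {γ | ∃ δ : ZM0, γ = δ ^ e} := by
      rw [← h]; exact ⟨_, rfl⟩
    have h2 : (exp (-1 : ℤ) : ZM0) ^ e ∈ {γ | ∃ δ : ZM0, γ = δ ^ eE} := by
      rw [h]; exact ⟨_, rfl⟩
    obtain ⟨δ1, hδ1⟩ := h1
    obtain ⟨δ2, hδ2⟩ := h2
    exact Nat.dvd_antisymm (dvd_of_exp_pow_eq hδ2) (dvd_of_exp_pow_eq hδ1)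
  · rintro rfl; rfl

end Range

variable {k K K' : Type*} [Field k] [Field K] [Field K'] [Algebra k K] [Algebra K K']
  [Algebra k K'] [IsScalarTower k K K'] [FiniteDimensional K K'] [IsGalois K K']

theorem totally_ramified (hK : IsFunctionField k K) (Q : Place k K')
    [Algebra.IsSeparable k (IsLocalRing.ResidueField Q.O)] :
    ∃ Q₁ : Place k (IntermediateField.fixedField (IG (K := K) Q)),
      IsOverWith Q Q₁ (Module.finrank (IntermediateField.fixedField (IG (K := K) Q)) K') := by
  classical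
  have hE : LeadFG.IsFF k (IntermediateField.fixedField (IG (K := K) Q)) := isFF_of_finite hK
  obtain ⟨R, e, he, hcard⟩ := card_inertia_ff hE Q
  rw [card_inertia_inter (IntermediateField.fixedField (IG (K := K) Q)) Q,
    IntermediateField.fixingSubgroup_fixedField, inf_idem] at hcard
  have h2 : Module.finrank (IntermediateField.fixedField (IG (K := K) Q)) K'
      = Nat.card (IG (K := K) Q) :=
    IntermediateField.finrank_fixedField_eq_card _
  rw [h2, hcard]
  exact ⟨R, he⟩

theorem unram_iff_le_inertia_field (hK : IsFunctionField k K) (Q : Place k K')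
    [Algebra.IsSeparable k (IsLocalRing.ResidueField Q.O)] (E : IntermediateField K K') :
    Set.range (Q.1.comap (algebraMap E K')) = Set.range (Q.1.comap (algebraMap K K')) ↔
      E ≤ IntermediateField.fixedField (IG (K := K) Q) := by
  classical
  obtain ⟨R, eE, heE, hcardE⟩ := card_inertia_ff (E := E) (isFF_of_finite hK) Q
  obtain ⟨P, e, he0, he⟩ := exists_below hK Q
  have hcard := card_inertia hK he
  rw [card_inertia_inter E Q] at hcardE
  have hIG : Nat.card (IG (K := K) Q) = e := by
    rw [← hcard]; exact Subgroup.card_subtype _ _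
  rw [IntermediateField.le_iff_le, range_comap_eq_iff heE he]
  constructor
  · intro h
    have : (IG (K := K) Q ⊓ E.fixingSubgroup) = IG (K := K) Q :=
      Subgroup.eq_of_le_of_card_ge inf_le_left (by rw [hcardE, hIG, h])
    rw [← this]; exact inf_le_right
  · intro h
    rw [← hcardE, ← hIG, inf_eq_left.mpr h]

end Groth.Agent.Lib.LeadIG
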