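import Mathlib

/-! Relative codimension of subspaces (image formalism), used for intersection multiplicities. -/

namespace Groth.Agent.Lib.LeadIM

open Submodule

section Codim

variable {k V : Type*} [Field k] [AddCommGroup V] [Module k V]

/-- the image of `B` in `V / A`. -/
abbrev img (A B : Submodule k V) : Submodule k (V ⧸ A) := B.map A.mkQ

/-- the dimension of `B / A` for `A ≤ B`, as a cardinal. -/
noncomputable def codimR (A B : Submodule k V) : Cardinal := Module.rank k (img A B)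

theorem codimR_chain {A B C : Submodule k V} (hAB : A ≤ B) (hBC : B ≤ C) :
    codimR A C = codimR A B + codimR B C := by
  have hπ : A ≤ LinearMap.ker B.mkQ := by rw [Submodule.ker_mkQ]; exact hAB
  let π : (V ⧸ A) →ₗ[k] (V ⧸ B) := A.liftQ B.mkQ hπ
  let ρ : ↥(img A C) →ₗ[k] (V ⧸ B) := π.comp (img A C).subtype
  have hrange : LinearMap.range ρ = img B C := by
    rw [LinearMap.range_comp, Submodule.range_subtype]
    show (C.map A.mkQ).map π = C.map B.mkQ
    rw [← Submodule.map_comp]
    congr 1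
  have hker : LinearMap.ker ρ = (img A B).comap (img A C).subtype := by
    rw [LinearMap.ker_comp, Submodule.ker_liftQ, Submodule.ker_mkQ]
  have hle : img A B ≤ img A C := Submodule.map_mono hBC
  have h := LinearMap.rank_range_add_rank_ker ρ
  rw [hrange, hker, (Submodule.comapSubtypeEquivOfLe hle).rank_eq] at h
  unfold codimR
  rw [← h, add_comm]

theorem codimR_map_equiv (e : V ≃ₗ[k] V) (A B : Submodule k V) :
    codimR (A.map (e : V →ₗ[k] V)) (B.map (e : V →ₗ[k] V)) = codimR A B := by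
  let ē : (V ⧸ A) ≃ₗ[k] (V ⧸ A.map (e : V →ₗ[k] V)) := Submodule.Quotient.equiv A _ e rfl
  have h : (img A B).map (ē : (V ⧸ A) →ₗ[k] _) =
      img (A.map (e : V →ₗ[k] V)) (B.map (e : V →ₗ[k] V)) := by
    show (B.map A.mkQ).map _ = (B.map _).map _
    rw [← Submodule.map_comp, ← Submodule.map_comp]
    congr 1
  unfold codimR
  rw [← h]
  exact (ē.submoduleMap (img A B)).rank_eq.symm

theorem codimR_self (A : Submodule k V) : codimR A A = 0 := by
  unfold codimR img
  rw [Submodule.mkQ_map_self]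
  exact rank_bot k _

theorem codimR_eq_one {A B : Submodule k V} (z0 : V) (hz0 : z0 ∈ B) (hz0' : z0 ∉ A)
    (h : ∀ z ∈ B, ∃ c : k, z - c • z0 ∈ A) : codimR A B = 1 := by
  unfold codimR
  rw [rank_eq_one_iff]
  refine ⟨⟨A.mkQ z0, Submodule.mem_map_of_mem hz0⟩, ?_, ?_⟩
  · intro h0
    have h1 : A.mkQ z0 = 0 := congrArg Subtype.val h0
    rw [Submodule.mkQ_apply, Submodule.Quotient.mk_eq_zero] at h1
    exact hz0' h1
  · rintro ⟨w, hw⟩
    obtain ⟨z, hz, rfl⟩ := hw
    obtain ⟨c, hc⟩ := h z hz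
    refine ⟨c, Subtype.ext ?_⟩
    show c • A.mkQ z0 = A.mkQ z
    rw [← map_smul, eq_comm, ← sub_eq_zero, ← map_sub, Submodule.mkQ_apply,
      Submodule.Quotient.mk_eq_zero]
    exact hc

theorem codimR_cancel (e : V ≃ₗ[k] V) {O Ot : Submodule k V} (hO : O ≤ Ot)
    (heO : O.map (e : V →ₗ[k] V) ≤ O) (heOt : Ot.map (e : V →ₗ[k] V) ≤ Ot)
    (hfin : codimR O Ot < Cardinal.aleph0) :
    codimR (O.map (e : V →ₗ[k] V)) O = codimR (Ot.map (e : V →ₗ[k] V)) Ot := by
  have h1 := codimR_chain heO hO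
  have h2 := codimR_chain (Submodule.map_mono hO : O.map (e : V →ₗ[k] V) ≤ Ot.map _) heOt
  rw [codimR_map_equiv] at h2
  rw [h1, add_comm] at h2
  exact Cardinal.eq_of_add_eq_add_left h2 hfin

theorem codimR_le_of_chain {A B C : Submodule k V} (hAB : A ≤ B) (hBC : B ≤ C) :
    codimR B C ≤ codimR A C := by
  rw [codimR_chain hAB hBC]
  exact le_add_self

end Codim

end Groth.Agent.Lib.LeadIM
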