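import Groth.Agent.Lib.LeadIM1
import Groth.Agent.Lib.LeadFF46

/-! Semilocal computation: `dim O / G O = ∑ ord_Q G` for a subspace `O` squeezed between
`I_S(N)` and `I_S(0)`. -/

namespace Groth.Agent.Lib.LeadIM

open FunFld WithZero Groth.Agent.Lib.LeadFF

variable {k K : Type*} [Field k] [Field K] [Algebra k K]

/-- `I_S(n)`: elements of order at least `n Q` at each `Q ∈ S`. -/
def Ifun (S : Finset (Place k K)) (n : Place k K → ℕ) : Submodule k K where
  carrier := {z | ∀ Q ∈ S, Q.1 z ≤ exp (-(n Q : ℤ))}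
  add_mem' {a b} ha hb Q hQ := (Q.1.map_add a b).trans (max_le (ha Q hQ) (hb Q hQ))
  zero_mem' Q hQ := by rw [map_zero]; exact zero_le'
  smul_mem' c z hz Q hQ := by
    rw [Algebra.smul_def, map_mul]
    calc Q.1 (algebraMap k K c) * Q.1 z ≤ 1 * Q.1 z := mul_le_mul' (Q.2.1 c) le_rfl
      _ = Q.1 z := one_mul _
      _ ≤ _ := hz Q hQ

lemma mem_Ifun {S : Finset (Place k K)} {n : Place k K → ℕ} {z : K} :
    z ∈ Ifun S n ↔ ∀ Q ∈ S, Q.1 z ≤ exp (-(n Q : ℤ)) := Iff.rfl

lemma Ifun_anti {S : Finset (Place k K)} {n n' : Place k K → ℕ} (h : ∀ Q ∈ S, n Q ≤ n' Q) :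
    Ifun S n' ≤ Ifun S n := by
  intro z hz Q hQ
  refine (hz Q hQ).trans ?_
  rw [exp_le_exp]
  have := h Q hQ
  omega

theorem codimR_Ifun_step [DecidableEq (Place k K)] [IsAlgClosed k] (hK : IsFunctionField k K)
    (S : Finset (Place k K))
    (n : Place k K → ℕ) (Q0 : Place k K) (hQ0 : Q0 ∈ S) (hn : n Q0 ≠ 0) :
    codimR (Ifun S n) (Ifun S (Function.update n Q0 (n Q0 - 1))) = 1 := by
  set n' := Function.update n Q0 (n Q0 - 1) with hn'
  have hn'0 : n' Q0 = n Q0 - 1 := Function.update_self _ _ _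
  have hn'Q : ∀ Q, Q ≠ Q0 → n' Q = n Q := fun Q hQ => Function.update_of_ne hQ _ _
  obtain ⟨y, hy⟩ := weak_approx S (fun _ => (0 : K)) (fun Q => -(n' Q : ℤ))
  simp only [sub_zero] at hy
  have hy0 : y ≠ 0 := by
    rintro rfl
    have := hy Q0 hQ0
    rw [map_zero] at this
    exact exp_ne_zero this.symm
  have hpos : 0 < Q0.1 y := by rw [hy Q0 hQ0]; exact exp_pos
  refine codimR_eq_one y (fun Q hQ => (hy Q hQ).le) ?_ ?_
  · intro h
    have h1 := h Q0 hQ0
    rw [hy Q0 hQ0, exp_le_exp, hn'0] at h1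
    omega
  · intro z hz
    have hzy : Q0.1 (z / y) ≤ 1 := by
      rw [map_div₀, div_le_one₀ hpos, hy Q0 hQ0]
      exact hz Q0 hQ0
    obtain ⟨c, hc⟩ := exists_const_sub_lt_one hK Q0 hzy
    refine ⟨c, fun Q hQ => ?_⟩
    by_cases hQ0' : Q = Q0
    · subst hQ0'
      have h1 : z - c • y = y * (z / y - algebraMap k K c) := by
        rw [Algebra.smul_def]; field_simp
      rw [h1, map_mul]
      have h2 : Q.1 y * Q.1 (z / y - algebraMap k K c) < exp (-(n' Q : ℤ)) := by
        calc Q.1 y * Q.1 (z / y - algebraMap k K c) < Q.1 y * 1 :=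
              mul_lt_mul_of_pos_left hc hpos
          _ = exp (-(n' Q : ℤ)) := by rw [mul_one, hy Q hQ]
      rw [zm0_lt_exp_iff] at h2
      refine h2.trans ?_
      rw [exp_le_exp, hn'0]
      omega
    · refine (Valuation.map_sub _ _ _).trans (max_le ?_ ?_)
      · have := hz Q hQ
        rwa [hn'Q Q hQ0'] at this
      · rw [Algebra.smul_def, map_mul]
        calc Q.1 (algebraMap k K c) * Q.1 y ≤ 1 * Q.1 y := mul_le_mul' (Q.2.1 c) le_rfl
          _ = exp (-(n Q : ℤ)) := by rw [one_mul, hy Q hQ, hn'Q Q hQ0']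

theorem Ifun_step_le [DecidableEq (Place k K)] (S : Finset (Place k K))
    (n : Place k K → ℕ) (Q0 : Place k K) :
    Ifun S n ≤ Ifun S (Function.update n Q0 (n Q0 - 1)) := by
  apply Ifun_anti
  intro Q _
  by_cases h : Q = Q0
  · subst h; rw [Function.update_self]; omega
  · rw [Function.update_of_ne h]

theorem codimR_Ifun [IsAlgClosed k] (hK : IsFunctionField k K) (S : Finset (Place k K)) :
    ∀ (m : ℕ) (n : Place k K → ℕ), ∑ Q ∈ S, n Q = m →
      codimR (Ifun S n) (Ifun S 0) = (m : Cardinal) := by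
  classical
  intro m
  induction m with
  | zero =>
    intro n hn
    rw [Finset.sum_eq_zero_iff] at hn
    have : Ifun S n = Ifun S 0 := by
      ext z
      simp only [mem_Ifun]
      constructor
      · intro h Q hQ
        have := h Q hQ
        rwa [hn Q hQ] at this
      · intro h Q hQ
        have := h Q hQ
        rwa [hn Q hQ]
    rw [this, codimR_self, Nat.cast_zero]
  | succ m ih =>
    intro n hn
    have hex : ∃ Q0 ∈ S, n Q0 ≠ 0 := by
      by_contra hcon
      push_neg at hcon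
      rw [Finset.sum_eq_zero hcon] at hn
      omega
    obtain ⟨Q0, hQ0, hnQ0⟩ := hex
    set n' := Function.update n Q0 (n Q0 - 1) with hn'
    have hsum : ∑ Q ∈ S, n' Q = m := by
      have h1 := Finset.add_sum_erase S n hQ0
      have h2 := Finset.add_sum_erase S n' hQ0
      have h3 : ∑ Q ∈ S.erase Q0, n' Q = ∑ Q ∈ S.erase Q0, n Q := by
        apply Finset.sum_congr rfl
        intro Q hQ
        exact Function.update_of_ne (Finset.ne_of_mem_erase hQ) _ _
      have h4 : n' Q0 = n Q0 - 1 := Function.update_self _ _ _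
      omega
    have hle : Ifun S n ≤ Ifun S n' := Ifun_step_le S n Q0
    have hle' : Ifun S n' ≤ Ifun S 0 := Ifun_anti (fun Q _ => Nat.zero_le _)
    rw [codimR_chain hle hle', codimR_Ifun_step hK S n Q0 hQ0 hnQ0, ih n' hsum]
    push_cast
    rw [add_comm]

/-- multiplication by a nonzero element as a `k`-linear automorphism of `K`. -/
noncomputable def mulEquiv (k : Type*) {K : Type*} [Field k] [Field K] [Algebra k K]
    (G : K) (hG0 : G ≠ 0) : K ≃ₗ[k] K :=
  LinearEquiv.ofLinear (LinearMap.mulLeft k G) (LinearMap.mulLeft k G⁻¹)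
    (LinearMap.ext fun z => by simp [mul_inv_cancel_left₀ hG0])
    (LinearMap.ext fun z => by simp [inv_mul_cancel_left₀ hG0])

@[simp] lemma mulEquiv_apply (G : K) (hG0 : G ≠ 0) (z : K) : mulEquiv k G hG0 z = G * z := rfl

theorem codimR_mul_local [IsAlgClosed k] (hK : IsFunctionField k K) (S : Finset (Place k K))
    (O : Submodule k K) (hO : O ≤ Ifun S 0) (N : ℕ) (hN : Ifun S (fun _ => N) ≤ O)
    (G : K) (hG0 : G ≠ 0) (hG : ∀ Q ∈ S, Q.1 G ≤ 1) (hGO : ∀ z ∈ O, G * z ∈ O) :
    codimR (O.map (mulEquiv k G hG0 : K →ₗ[k] K)) O =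
      ((∑ Q ∈ S, (Q.ord G).toNat : ℕ) : Cardinal) := by
  classical
  set e := mulEquiv k G hG0 with he
  have hval : ∀ Q ∈ S, Q.1 G = exp (-(((Q.ord G).toNat : ℕ) : ℤ)) := by
    intro Q hQ
    have h1 := val_eq_exp_neg_ord Q hG0
    have h2 := hG Q hQ
    rw [h1, ← exp_zero, exp_le_exp] at h2
    rw [h1, Int.toNat_of_nonneg (by omega)]
  have hOt : (Ifun S 0).map (e : K →ₗ[k] K) = Ifun S (fun Q => (Q.ord G).toNat) := by
    ext z
    simp only [Submodule.mem_map, mem_Ifun]
    constructor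
    · rintro ⟨w, hw, rfl⟩ Q hQ
      show Q.1 (G * w) ≤ _
      rw [map_mul, ← hval Q hQ]
      have := hw Q hQ
      simp only [Pi.zero_apply, Nat.cast_zero, neg_zero, exp_zero] at this
      calc Q.1 G * Q.1 w ≤ Q.1 G * 1 := mul_le_mul' le_rfl this
        _ = Q.1 G := mul_one _
    · intro h
      refine ⟨z / G, fun Q hQ => ?_, ?_⟩
      · simp only [Pi.zero_apply, Nat.cast_zero, neg_zero, exp_zero]
        have hpos : 0 < Q.1 G := zero_lt_iff.mpr ((Valuation.ne_zero_iff _).mpr hG0)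
        rw [map_div₀, div_le_one₀ hpos, hval Q hQ]
        exact h Q hQ
      · show G * (z / G) = z
        field_simp
  have heOt : (Ifun S 0).map (e : K →ₗ[k] K) ≤ Ifun S 0 := by
    rw [hOt]; exact Ifun_anti (fun Q _ => Nat.zero_le _)
  have heO : O.map (e : K →ₗ[k] K) ≤ O := by
    rintro _ ⟨z, hz, rfl⟩
    exact hGO z hz
  have hN0 : Ifun S (fun _ => N) ≤ Ifun S 0 := Ifun_anti (fun Q _ => Nat.zero_le _)
  have hfin : codimR O (Ifun S 0) < Cardinal.aleph0 := by
    refine lt_of_le_of_lt (codimR_le_of_chain hN hO) ?_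
    rw [codimR_Ifun hK S _ (fun _ => N) rfl]
    exact Cardinal.nat_lt_aleph0 _
  rw [codimR_cancel e hO heO heOt hfin, hOt]
  exact codimR_Ifun hK S _ _ rfl

end Groth.Agent.Lib.LeadIM
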