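import Groth.Agent.Lib.LeadKP4
import Groth.Agent.Lib.LeadFF21

/-! Jacobian criterion for plane curves, direction 1: a nonvanishing partial derivative gives a
nonsingular point. -/

namespace Groth.Agent.Lib.LeadKP

open MvPolynomial FunFld WithZero Groth.Agent.Lib.LeadFF Groth.Agent.Lib.LeadPC

variable {k K : Type*} [Field k] [Field K] [Algebra k K]

lemma exists_third {M : Type*} [AddCommMonoid M] (a b : Fin 3) (hab : a ≠ b) :
    ∃ c : Fin 3, c ≠ a ∧ c ≠ b ∧ ∀ F : Fin 3 → M, ∑ i, F i = F a + F b + F c := by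
  fin_cases a <;> fin_cases b
  all_goals first
    | exact absurd rfl hab
    | exact ⟨0, by decide, by decide, fun F => by
        simp only [Fin.sum_univ_three, Fin.isValue, Fin.zero_eta, Fin.mk_one, Fin.reduceFinMk]
        try abel⟩
    | exact ⟨1, by decide, by decide, fun F => by
        simp only [Fin.sum_univ_three, Fin.isValue, Fin.zero_eta, Fin.mk_one, Fin.reduceFinMk]
        try abel⟩
    | exact ⟨2, by decide, by decide, fun F => by
        simp only [Fin.sum_univ_three, Fin.isValue, Fin.zero_eta, Fin.mk_one, Fin.reduceFinMk]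
        try abel⟩

/-- the residue of a polynomial expression. -/
lemma val_aeval_sub_lt_one {σ : Type*} [Fintype σ] [DecidableEq σ] (P : Place k K) (ψ : σ → K)
    (α : σ → k) (hα : ∀ i, P.1 (ψ i - algebraMap k K (α i)) < 1) (g : MvPolynomial σ k) :
    P.1 (aeval ψ g - algebraMap k K (eval α g)) < 1 := by
  set h : σ → K := fun i => ψ i - algebraMap k K (α i) with hh
  have hψeq : (fun i => algebraMap k K (α i) + h i) = ψ := by
    funext i; simp [hh]
  have hT := taylor_two P α h hα g
  rw [hψeq] at hT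
  set L := ∑ i, algebraMap k K (eval α (pderiv i g)) * h i with hL
  have hL1 : P.1 L < 1 := by
    apply Valuation.map_sum_lt P.1 one_ne_zero
    intro i _
    rw [map_mul]
    calc P.1 (algebraMap k K _) * P.1 (h i) ≤ 1 * P.1 (h i) := mul_le_mul' (P.2.1 _) le_rfl
      _ = P.1 (h i) := one_mul _
      _ < 1 := hα i
  have hlt2 : (exp (-2 : ℤ) : WithZero (Multiplicative ℤ)) < 1 := by
    rw [← exp_zero, exp_lt_exp]; omega
  have : aeval ψ g - algebraMap k K (eval α g) =
      (aeval ψ g - algebraMap k K (eval α g) - L) + L := by ring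
  rw [this]
  exact lt_of_le_of_lt (P.1.map_add _ _) (max_lt (lt_of_le_of_lt hT hlt2) hL1)

/-- The common setup: residues of the affine coordinates. -/
lemma residue_max_eq_one (P : Place k K) {x : K} (hx : x = 1) {c : k}
    (h : P.1 (x - algebraMap k K c) < 1) : c = 1 := by
  by_contra hne
  have h1 : P.1 (algebraMap k K (1 - c)) = 1 := place_trivOn P _ (sub_ne_zero.mpr (Ne.symm hne))
  rw [map_sub, map_one, ← hx] at h1
  rw [h1] at h
  exact lt_irrefl _ h

theorem nonsingular_of_pderiv_ne_zero [IsAlgClosed k] (φ : Fin 3 → K)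
    (hφ : LinearIndependent k φ) (f : MvPolynomial (Fin 3) k)
    (hhom : f.IsHomogeneous f.totalDegree) (hfφ : aeval φ f = 0) (P : Place k K) (j : Fin 3)
    (hj : ∀ i, P.1 (φ i) ≤ P.1 (φ j))
    (hbir : IntermediateField.adjoin k (Set.range fun i => φ i / φ j) = ⊤)
    (α : Fin 3 → k) (hα : ∀ i, P.1 (φ i / φ j - algebraMap k K (α i)) < 1)
    (hne : ∃ l, eval α (pderiv l f) ≠ 0) : IsNonsingularAt φ P := by
  classical
  have hj0 : φ j ≠ 0 := hφ.ne_zero j
  set ψ : Fin 3 → K := fun i => φ i / φ j with hψ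
  have hψj : ψ j = 1 := div_self hj0
  have hαj : α j = 1 := residue_max_eq_one P hψj (hα j)
  set h : Fin 3 → K := fun i => ψ i - algebraMap k K (α i) with hh
  have hhj : h j = 0 := by
    show ψ j - algebraMap k K (α j) = 0
    rw [hψj, hαj, map_one, sub_self]
  have hψeq : (fun i => algebraMap k K (α i) + h i) = ψ := by
    funext i; simp [hh]
  set A : Subalgebra k K := chart k φ j with hAdef
  have hψA : ∀ i, ψ i ∈ A := fun i => ratio_mem_chart φ j i
  have hA : ∀ i, h i ∈ A := fun i => sub_mem (hψA i) (Subalgebra.algebraMap_mem _ _)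
  have hA1 : ∀ u ∈ A, P.1 u ≤ 1 := chart_le_one φ P j hj0 hj
  have hh1 : ∀ i, P.1 (h i) < 1 := hα
  have hfψ : aeval ψ f = 0 := by
    have := aeval_smul_of_homog f f.totalDegree hhom (φ j)⁻¹ φ
    rw [hfφ, mul_zero] at this
    have e : ψ = fun i => (φ j)⁻¹ * φ i := by
      funext i; rw [hψ]; ring
    rw [e, this]
  have hf0 : eval α f = 0 := by
    by_contra hne0
    have h1 := val_aeval_sub_lt_one P ψ α hα f
    rw [hfψ, zero_sub, Valuation.map_neg, place_trivOn P _ hne0] at h1
    exact lt_irrefl _ h1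
  obtain ⟨r, hr, hT⟩ := taylor_rem α h A hA f
  rw [hψeq, hfψ, hf0, map_zero, zero_add] at hT
  set c : Fin 3 → k := fun i => eval α (pderiv i f) with hc
  -- Euler
  have hE : ∑ i, α i * c i = 0 := by
    have := congrArg (eval α) hhom.sum_X_mul_pderiv
    rw [map_sum, map_nsmul, hf0, smul_zero] at this
    simpa using this
  obtain ⟨i2, hi2j, hci2⟩ : ∃ i2, i2 ≠ j ∧ c i2 ≠ 0 := by
    obtain ⟨l, hl⟩ := hne
    by_cases hlj : l = j
    · subst hlj
      by_contra hall
      push Not at hall
      rw [Finset.sum_eq_single l (fun i _ hi => by rw [hall i hi, mul_zero])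
        (fun hl' => absurd (Finset.mem_univ l) hl'), hαj, one_mul] at hE
      exact hl hE
    · exact ⟨l, hlj, hl⟩
  obtain ⟨i1, hi1j, hi1i2, hsum⟩ := exists_third (M := K) j i2 (Ne.symm hi2j)
  set g : Fin 3 → K := fun i => algebraMap k K (c i) + ∑ l, h l * r i l with hg
  have hgA : ∀ i, g i ∈ A := fun i =>
    add_mem (Subalgebra.algebraMap_mem _ _) (sum_mem fun l _ => mul_mem (hA l) (hr i l))
  have hident : ∑ i, algebraMap k K (c i) * h i + ∑ i, ∑ l, h i * h l * r i l =
      ∑ i, h i * g i := by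
    rw [← Finset.sum_add_distrib]
    apply Finset.sum_congr rfl
    intro i _
    rw [hg]
    simp only
    rw [mul_add, Finset.mul_sum]
    congr 1
    · ring
    · apply Finset.sum_congr rfl
      intro l _
      ring
  have hrel : h i2 * g i2 = -(h i1 * g i1) := by
    have h0 : ∑ i, h i * g i = 0 := by rw [← hident]; exact hT.symm
    rw [hsum, hhj, zero_mul, zero_add] at h0
    exact eq_neg_of_add_eq_zero_left h0
  have hS1 : ∀ i, P.1 (∑ l, h l * r i l) < 1 := by
    intro i
    apply Valuation.map_sum_lt P.1 one_ne_zero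
    intro l _
    rw [map_mul]
    calc P.1 (h l) * P.1 (r i l) ≤ P.1 (h l) * 1 := mul_le_mul' le_rfl (hA1 _ (hr i l))
      _ = P.1 (h l) := mul_one _
      _ < 1 := hh1 l
  have hw1 : P.1 (g i2) = 1 := by
    have h1 : P.1 (algebraMap k K (c i2)) = 1 := place_trivOn P _ hci2
    rw [hg]
    simp only
    rw [Valuation.map_add_eq_of_lt_left _ (by rw [h1]; exact hS1 i2), h1]
  have ht0 : h i1 ≠ 0 := by
    intro h0
    have h1 : φ i1 - algebraMap k K (α i1) * φ j = 0 := by
      have : h i1 * φ j = φ i1 - algebraMap k K (α i1) * φ j := by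
        show (φ i1 / φ j - algebraMap k K (α i1)) * φ j = _
        rw [sub_mul, div_mul_cancel₀ _ hj0]
      rw [← this, h0, zero_mul]
    have h2 := Fintype.linearIndependent_iff.mp hφ
      (fun i => (if i = i1 then 1 else 0) - (if i = j then α i1 else 0)) (by
        simp only [sub_smul, Finset.sum_sub_distrib, ite_smul, one_smul, zero_smul,
          Finset.sum_ite_eq', Finset.mem_univ, if_true]
        rw [Algebra.smul_def]
        exact h1) i1
    simp only [if_true, if_neg hi1j, sub_zero] at h2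
    exact one_ne_zero h2
  have hprin : ∀ u ∈ A, P.1 u < 1 → ∃ G ∈ A, u * g i2 = h i1 * G := by
    intro u hu hu1
    obtain ⟨c0, G, hG, hue⟩ := adjoin_decomp ψ α u hu
    have hsumlt : P.1 (∑ i, (ψ i - algebraMap k K (α i)) * G i) < 1 := by
      apply Valuation.map_sum_lt P.1 one_ne_zero
      intro l _
      rw [map_mul]
      calc P.1 (ψ l - algebraMap k K (α l)) * P.1 (G l) ≤ P.1 (ψ l - algebraMap k K (α l)) * 1 :=
            mul_le_mul' le_rfl (hA1 _ (hG l))
        _ = P.1 (h l) := mul_one _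
        _ < 1 := hh1 l
    have hc0 : c0 = 0 := by
      by_contra hne0
      have h1 : P.1 (algebraMap k K c0) = 1 := place_trivOn P _ hne0
      rw [hue, Valuation.map_add_eq_of_lt_left _ (by rw [h1]; exact hsumlt), h1] at hu1
      exact lt_irrefl _ hu1
    rw [hc0, map_zero, zero_add] at hue
    have hue' : u = h i2 * G i2 + h i1 * G i1 := by
      rw [hue]
      have := hsum (fun i => h i * G i)
      rw [hhj, zero_mul, zero_add] at this
      exact this
    refine ⟨G i1 * g i2 - G i2 * g i1, sub_mem (mul_mem (hG i1) (hgA i2))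
      (mul_mem (hG i2) (hgA i1)), ?_⟩
    rw [hue']
    linear_combination (G i2) * hrel
  have hfrac : ∀ z : K, ∃ p ∈ A, ∃ q ∈ A, q ≠ 0 ∧ z = p / q := by
    intro z
    have hz : z ∈ IntermediateField.adjoin k (Set.range fun i => φ i / φ j) := by
      rw [hbir]; trivial
    obtain ⟨p, hp, q, hq, hzpq⟩ := IntermediateField.mem_adjoin_iff_div.mp hz
    by_cases hq0 : q = 0
    · refine ⟨0, zero_mem _, 1, one_mem _, one_ne_zero, ?_⟩
      rw [hzpq, hq0, div_zero, zero_div]
    · exact ⟨p, hp, q, hq, hq0, hzpq⟩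
  have hloc := loc_of_principal P A hA1 hfrac (h i1) (g i2) (hA i1) ht0 (hgA i2) (hh1 i1) hw1 hprin
  intro z hz
  exact ⟨j, hj0, hj, hloc z hz⟩

end Groth.Agent.Lib.LeadKP
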