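import Groth.Agent.Lib.LeadIM2
import Groth.Agent.Lib.LeadGI2
import Groth.Agent.Lib.LeadKP5

/-! Intersection multiplicity of a plane curve with `V(g)` at a finite point: ring-theoretic
part and assembly. -/

namespace Groth.Agent.Lib.LeadIM

open FunFld WithZero MvPolynomial Groth.Agent.Lib.LeadFF

section Abstract

variable {k R R' K : Type*} [Field k] [CommRing R] [CommRing R'] [Field K] [Algebra k R]
  [Algebra k R'] [Algebra R R'] [IsScalarTower k R R'] [Algebra k K]

theorem finrank_quot_eq (Φ : R' →ₐ[k] K) (f g : R)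
    (hker : RingHom.ker (Φ : R' →+* K) = Ideal.map (algebraMap R R') (Ideal.span {f}))
    (hG0 : Φ (algebraMap R R' g) ≠ 0) (m : ℕ)
    (hm : codimR ((LinearMap.range Φ.toLinearMap).map
      (mulEquiv k (Φ (algebraMap R R' g)) hG0 : K →ₗ[k] K)) (LinearMap.range Φ.toLinearMap) = m) :
    Module.finrank k (R' ⧸ Ideal.map (algebraMap R R') (Ideal.span {f, g})) = m := by
  set O := LinearMap.range Φ.toLinearMap with hO
  set G := Φ (algebraMap R R' g) with hG
  set GO := O.map (mulEquiv k G hG0 : K →ₗ[k] K) with hGO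
  set I := Ideal.map (algebraMap R R') (Ideal.span {f, g}) with hI
  let Θ : R' →ₗ[k] K ⧸ GO := GO.mkQ ∘ₗ Φ.toLinearMap
  have hrange : LinearMap.range Θ = img GO O := by
    rw [LinearMap.range_comp]
  have hf0 : Φ (algebraMap R R' f) = 0 := by
    have : algebraMap R R' f ∈ RingHom.ker (Φ : R' →+* K) := by
      rw [hker]; exact Ideal.mem_map_of_mem _ (Ideal.subset_span rfl)
    exact this
  have hIspan : I = Ideal.span {algebraMap R R' f, algebraMap R R' g} := by
    rw [hI, Ideal.map_span, Set.image_pair]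
  have hkerΘ : LinearMap.ker Θ = I.restrictScalars k := by
    ext a
    rw [LinearMap.mem_ker, Submodule.restrictScalars_mem, hIspan, Ideal.mem_span_pair]
    show GO.mkQ (Φ a) = 0 ↔ _
    rw [Submodule.mkQ_apply, Submodule.Quotient.mk_eq_zero]
    constructor
    · rintro ⟨w, ⟨b, rfl⟩, hw⟩
      have hw' : G * Φ b = Φ a := hw
      have h1 : a - algebraMap R R' g * b ∈ RingHom.ker (Φ : R' →+* K) := by
        rw [RingHom.mem_ker]
        show Φ (a - algebraMap R R' g * b) = 0
        rw [map_sub, map_mul, sub_eq_zero]; exact hw'.symm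
      rw [hker, Ideal.map_span, Set.image_singleton, Ideal.mem_span_singleton'] at h1
      obtain ⟨c, hc⟩ := h1
      exact ⟨c, b, by rw [hc]; ring⟩
    · rintro ⟨c, d, rfl⟩
      refine ⟨Φ d, ⟨d, rfl⟩, ?_⟩
      show G * Φ d = Φ (c * _ + d * _)
      rw [map_add, map_mul, map_mul, hf0, mul_zero, zero_add, mul_comm]
  have e1 : (R' ⧸ LinearMap.ker Θ) ≃ₗ[k] LinearMap.range Θ := Θ.quotKerEquivRange
  have e2 : (R' ⧸ I.restrictScalars k) ≃ₗ[k] R' ⧸ I :=
    Submodule.Quotient.restrictScalarsEquiv k I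
  rw [← e2.finrank_eq, ← hkerΘ, e1.finrank_eq, hrange]
  exact Module.finrank_eq_of_rank_eq hm

end Abstract

section Local

variable {k K : Type*} [Field k] [Field K] [Algebra k K]

theorem M_eq_ker (c : Fin 2 → k) (M : Ideal (MvPolynomial (Fin 2) k)) [hMm : M.IsMaximal]
    (hM : M = Ideal.span {X 0 - C (c 0), X 1 - C (c 1)}) (s : MvPolynomial (Fin 2) k) :
    s ∈ M ↔ eval c s = 0 := by
  have hle : M ≤ RingHom.ker (eval c) := by
    rw [hM, Ideal.span_le]
    rintro _ (rfl | rfl) <;> simp [RingHom.mem_ker]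
  have hne : RingHom.ker (eval c) ≠ ⊤ := RingHom.ker_ne_top _
  have := Ideal.IsMaximal.eq_of_le hMm hne hle
  rw [this]; rfl

/-- elements of large order along a fibre lie in the local ring (no independence needed). -/
theorem exists_bound_inLocRing' [IsAlgClosed k] (hK : IsFunctionField k K) {n : ℕ}
    (φ : Fin (n + 1) → K) (h0 : φ 0 ≠ 0)
    (hbir : IntermediateField.adjoin k (Set.range fun i => φ i / φ 0) = ⊤) (P : Place k K) :
    ∃ N : ℕ, ∀ z : K, (∀ Q : Place k K, SameImage φ P Q → Q.1 z ≤ exp (-(N : ℤ))) →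
      InLocRing φ P z := by
  classical
  obtain ⟨j, hj, hmax⟩ := exists_maxIdx φ P ⟨0, h0⟩
  have hbirj : IntermediateField.adjoin k (Set.range fun i => φ i / φ j) = ⊤ := by
    rw [eq_top_iff, ← hbir, IntermediateField.adjoin_le_iff]
    rintro _ ⟨i, rfl⟩
    have h1 : φ i / φ 0 = (φ i / φ j) / (φ 0 / φ j) := by
      rw [div_div_div_cancel_right₀ hj]
    show φ i / φ 0 ∈ _
    rw [h1]
    exact div_mem (IntermediateField.subset_adjoin _ _ ⟨i, rfl⟩)
      (IntermediateField.subset_adjoin _ _ ⟨0, rfl⟩)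
  obtain ⟨x, c, hxR, hxk, hgen, hRU, hcR, hc0, hc⟩ := exists_chart_conductor hK φ j hj hbirj
  have hPx : P.1 x ≤ 1 := by
    have h0P : 0 < P.1 (φ j) := zero_lt_iff.mpr ((Valuation.ne_zero_iff _).mpr hj)
    have hr1 : ∀ i, P.1 (φ i / φ j) ≤ 1 := fun i => by
      rw [map_div₀, div_le_one₀ h0P]; exact hmax i
    have : ∀ u ∈ chart k φ j, P.1 u ≤ 1 := by
      intro u hu
      induction hu using Algebra.adjoin_induction with
      | mem y hy => obtain ⟨i, rfl⟩ := hy; exact hr1 i
      | algebraMap c => exact P.2.1 c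
      | add a b _ _ ha hb => exact (P.1.map_add _ _).trans (max_le ha hb)
      | mul a b _ _ ha hb => rw [map_mul]; exact mul_le_one' ha hb
    exact this x hxR
  obtain ⟨N, hN⟩ := zm0_finset_bound (zeros_finite' hK hc0).toFinset (fun Q => Q.1 c⁻¹)
  refine ⟨N, fun z hz => ?_⟩
  rw [inLocRing_iff φ P j hj hmax]
  have hφ0 : ∃ i, φ i ≠ 0 := ⟨j, hj⟩
  have hcQ : ∀ Q : Place k K, SameImage φ P Q → Q.1 x ≤ 1 ∧ exp (-(N : ℤ)) ≤ Q.1 c := by
    intro Q hQ
    have h5 := (sameImage_iff hK φ hφ0 P Q).mp hQ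
    have hQx : Q.1 x ≤ 1 := (h5 x ((inLocRing_iff φ P j hj hmax x).mpr (InLoc.of_mem hxR))).1
    refine ⟨hQx, ?_⟩
    by_cases hlt : Q.1 c < 1
    · have := hN Q (by rw [Set.Finite.mem_toFinset]; exact hlt)
      rw [map_inv₀] at this
      have hc0' : 0 < Q.1 c := zero_lt_iff.mpr ((Valuation.ne_zero_iff _).mpr hc0)
      rw [inv_le_comm₀ hc0' exp_pos] at this
      rwa [← exp_neg] at this
    · have h1 : Q.1 c = 1 := le_antisymm (hRU hcR Q hQx) (not_lt.mp hlt)
      rw [h1, ← exp_zero, exp_le_exp]; omega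
  obtain ⟨w, hwR, hwP, hzw⟩ := exists_clear_chart hK φ P j hj hmax hRU hPx
    (poles_finite' hK (z / c)).toFinset (z / c) (by
      intro Q hQx hQz
      refine ⟨by rw [Set.Finite.mem_toFinset]; exact hQz, fun hS => ?_⟩
      have h1 := hz Q hS
      have h2 := (hcQ Q hS).2
      have hc0' : 0 < Q.1 c := zero_lt_iff.mpr ((Valuation.ne_zero_iff _).mpr hc0)
      have : Q.1 (z / c) ≤ 1 := by
        rw [map_div₀, div_le_one₀ hc0']; exact h1.trans h2
      exact absurd hQz (not_lt.mpr this))
  refine ⟨z * w, ?_, w, hwR, hwP, rfl⟩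
  have := hc _ hzw
  have h3 : c * (z / c * w) = z * w := by field_simp
  rwa [h3] at this

theorem exists_Phi (x y : K) (P : Place k K) (c : Fin 2 → k)
    (hc : ∀ i, P.1 (![x, y] i - algebraMap k K (c i)) < 1)
    (M : Ideal (MvPolynomial (Fin 2) k)) [M.IsMaximal]
    (hM : M = Ideal.span {X 0 - C (c 0), X 1 - C (c 1)}) {f : MvPolynomial (Fin 2) k}
    (hker : RingHom.ker (aeval ![x, y] : MvPolynomial (Fin 2) k →ₐ[k] K) = Ideal.span {f}) :
    ∃ Φ : Localization.AtPrime M →ₐ[k] K,
      (∀ r : MvPolynomial (Fin 2) k,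
        Φ (algebraMap (MvPolynomial (Fin 2) k) (Localization.AtPrime M) r) = aeval ![x, y] r) ∧
      RingHom.ker (Φ : Localization.AtPrime M →+* K) =
        Ideal.map (algebraMap (MvPolynomial (Fin 2) k) (Localization.AtPrime M))
          (Ideal.span {f}) ∧
      ∀ z, z ∈ LinearMap.range Φ.toLinearMap ↔ InLocRing ![(1 : K), x, y] P z := by
  classical
  set ev : MvPolynomial (Fin 2) k →ₐ[k] K := aeval ![x, y] with hev
  have hMk := M_eq_ker c M hM
  have hres : ∀ s, P.1 (ev s - algebraMap k K (eval c s)) < 1 := fun s =>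
    Groth.Agent.Lib.LeadKP.val_aeval_sub_lt_one P ![x, y] c hc s
  have hone : ∀ s, P.1 (ev s) = 1 ↔ s ∉ M := by
    intro s
    rw [hMk]
    constructor
    · intro h1 h0
      have := (lt_one_iff_residue_zero P (hres s)).mpr h0
      rw [h1] at this; exact lt_irrefl _ this
    · intro h; exact eq_one_of_residue_ne_zero P (hres s) h
  have hunit : ∀ s : M.primeCompl, IsUnit (ev s) := by
    intro s
    rw [isUnit_iff_ne_zero]
    intro h0
    have := (hone s).mpr s.2
    rw [h0, map_zero] at this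
    exact zero_ne_one this
  let Φ : Localization.AtPrime M →ₐ[k] K :=
    IsLocalization.liftAlgHom (M := M.primeCompl) (f := ev) hunit
  have hΦ : ∀ r : MvPolynomial (Fin 2) k,
      Φ (algebraMap (MvPolynomial (Fin 2) k) (Localization.AtPrime M) r) = ev r :=
    fun r => IsLocalization.lift_eq _ r
  have hspec : ∀ r (s : M.primeCompl) v,
      Φ (IsLocalization.mk' (Localization.AtPrime M) r s) = v ↔ ev r = ev s * v :=
    fun r s v => IsLocalization.lift_mk'_spec _ _ _ _
  refine ⟨Φ, hΦ, ?_, ?_⟩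
  · apply le_antisymm
    · intro a ha
      obtain ⟨r, s, rfl⟩ := IsLocalization.exists_mk'_eq M.primeCompl a
      rw [RingHom.mem_ker] at ha
      have h1 : ev r = 0 := by
        have := (hspec r s 0).mp ha
        rwa [mul_zero] at this
      have h2 : r ∈ Ideal.span {f} := by rw [← hker]; exact h1
      rw [IsLocalization.mk'_mem_map_algebraMap_iff M.primeCompl]
      exact ⟨1, Submonoid.one_mem _, by rwa [one_mul]⟩
    · rw [Ideal.map_le_iff_le_comap, Ideal.span_le]
      intro a ha
      have ha' : a = f := ha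
      rw [ha']
      show Φ (algebraMap (MvPolynomial (Fin 2) k) (Localization.AtPrime M) f) = 0
      rw [hΦ]
      have : f ∈ RingHom.ker ev := by rw [hker]; exact Ideal.subset_span rfl
      exact this
  · intro z
    have hφ0 : (![(1 : K), x, y] : Fin 3 → K) 0 ≠ 0 := by simp
    have hPx : ∀ i, P.1 (![x, y] i) ≤ 1 := by
      intro i
      have h1 : ![x, y] i = (![x, y] i - algebraMap k K (c i)) + algebraMap k K (c i) := by ring
      rw [h1]
      exact (P.1.map_add _ _).trans (max_le (hc i).le (P.2.1 _))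
    have hmax : ∀ i, P.1 ((![(1 : K), x, y] : Fin 3 → K) i) ≤
        P.1 ((![(1 : K), x, y] : Fin 3 → K) 0) := by
      intro i
      fin_cases i
      · exact le_rfl
      · simpa using hPx 0
      · simpa using hPx 1
    rw [inLocRing_iff _ P 0 hφ0 hmax]
    have hchart : ∀ u, u ∈ chart k (![(1 : K), x, y] : Fin 3 → K) 0 ↔ ∃ r, ev r = u := by
      intro u
      constructor
      · intro hu
        have hle : chart k (![(1 : K), x, y] : Fin 3 → K) 0 ≤ ev.range := by
          apply Algebra.adjoin_le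
          rintro _ ⟨i, rfl⟩
          fin_cases i
          · exact ⟨1, by simp⟩
          · exact ⟨X 0, by simp [hev]⟩
          · exact ⟨X 1, by simp [hev]⟩
        exact hle hu
      · rintro ⟨r, rfl⟩
        induction r using MvPolynomial.induction_on with
        | C a =>
          rw [hev, aeval_C]
          exact Subalgebra.algebraMap_mem _ a
        | add p q hp hq => rw [map_add]; exact Subalgebra.add_mem _ hp hq
        | mul_X p i hp =>
          rw [map_mul]
          refine Subalgebra.mul_mem _ hp ?_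
          rw [hev, aeval_X]
          fin_cases i
          · exact Algebra.subset_adjoin ⟨1, by simp⟩
          · exact Algebra.subset_adjoin ⟨2, by simp⟩
    constructor
    · rintro ⟨a, rfl⟩
      obtain ⟨r, s, rfl⟩ := IsLocalization.exists_mk'_eq M.primeCompl a
      refine ⟨ev r, (hchart _).mpr ⟨r, rfl⟩, ev s, (hchart _).mpr ⟨s, rfl⟩, (hone s).mpr s.2, ?_⟩
      have := (hspec r s _).mp rfl
      rw [this, mul_comm]
      rfl
    · rintro ⟨u, hu, w, hw, hw1, hzw⟩
      obtain ⟨r, rfl⟩ := (hchart u).mp hu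
      obtain ⟨s, rfl⟩ := (hchart w).mp hw
      have hs : s ∈ M.primeCompl := (hone s).mp hw1
      refine ⟨IsLocalization.mk' _ r ⟨s, hs⟩, ?_⟩
      show Φ _ = z
      rw [hspec, ← hzw, mul_comm]

end Local

end Groth.Agent.Lib.LeadIM
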