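import Groth.Agent.Lib.LeadIM3

/-! Intersection multiplicity at a finite point of a plane curve: assembly. -/

namespace Groth.Agent.Lib.LeadIM

open FunFld WithZero MvPolynomial Groth.Agent.Lib.LeadFF

variable {k K : Type*} [Field k] [Field K] [Algebra k K]

theorem exists_transcendental_coord (hK : IsFunctionField k K) (x y : K)
    (hxy : IntermediateField.adjoin k ({x, y} : Set K) = ⊤) :
    ∃ i : Fin 2, Transcendental k (![x, y] i) := by
  by_contra hcon
  push_neg at hcon
  have hx : IsAlgebraic k x := by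
    have := hcon 0
    rwa [Transcendental, not_not] at this
  have hy : IsAlgebraic k y := by
    have := hcon 1
    rwa [Transcendental, not_not] at this
  obtain ⟨a, ha⟩ := hK.2 x hx
  obtain ⟨b, hb⟩ := hK.2 y hy
  obtain ⟨t, ht, -⟩ := hK.1
  have hle : IntermediateField.adjoin k ({x, y} : Set K) ≤ ⊥ := by
    rw [IntermediateField.adjoin_le_iff]
    rintro _ (rfl | rfl)
    · rw [← ha]; exact IntermediateField.algebraMap_mem _ a
    · rw [← hb]; exact IntermediateField.algebraMap_mem _ b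
  rw [hxy] at hle
  have : t ∈ (⊥ : IntermediateField k K) := hle IntermediateField.mem_top
  rw [IntermediateField.mem_bot] at this
  obtain ⟨d, rfl⟩ := this
  exact ht (isAlgebraic_algebraMap d)

theorem inter_mult [IsAlgClosed k] (hK : IsFunctionField k K) (x y : K)
    (hxy : IntermediateField.adjoin k ({x, y} : Set K) = ⊤) (f g : MvPolynomial (Fin 2) k)
    (hf : Irreducible f) (hfxy : aeval ![x, y] f = 0)
    (hgxy : aeval ![x, y] g ≠ 0) (P : Place k K) (c : Fin 2 → k)
    (hc : ∀ i, P.1 (![x, y] i - algebraMap k K (c i)) < 1)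
    (M : Ideal (MvPolynomial (Fin 2) k)) [M.IsMaximal]
    (hM : M = Ideal.span {X 0 - C (c 0), X 1 - C (c 1)}) :
    ∑ᶠ Q ∈ {Q : Place k K | SameImage ![(1 : K), x, y] P Q}, Q.ord (aeval ![x, y] g) =
      (Module.finrank k (Localization.AtPrime M ⧸
        Ideal.map (algebraMap (MvPolynomial (Fin 2) k) (Localization.AtPrime M))
          (Ideal.span {f, g})) : ℤ) := by
  classical
  obtain ⟨i', htr⟩ := exists_transcendental_coord hK x y hxy
  have hker := Groth.Agent.Lib.LeadGI.ker_aeval_pair x y i' htr hf hfxy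
  obtain ⟨Φ, hΦ, hkerΦ, hrange⟩ := exists_Phi x y P c hc M hM hker
  set φ : Fin 3 → K := ![(1 : K), x, y] with hφ
  have hφ0 : φ 0 ≠ 0 := by simp [hφ]
  have hφex : ∃ i, φ i ≠ 0 := ⟨0, hφ0⟩
  -- the coordinates minus their residues lie in the local ring
  have hcoord : ∀ i : Fin 2, InLocRing φ P (![x, y] i - algebraMap k K (c i)) := by
    intro i
    rw [← hrange]
    refine ⟨algebraMap (MvPolynomial (Fin 2) k) (Localization.AtPrime M) (X i - C (c i)), ?_⟩
    show Φ _ = _
    rw [hΦ, map_sub, aeval_X, aeval_C]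
  -- the fibre
  have hfib : ∀ Q : Place k K, SameImage φ P Q → ∀ i, Q.1 (![x, y] i - algebraMap k K (c i)) < 1 := by
    intro Q hQ i
    exact ((((sameImage_iff hK φ hφex P Q).mp hQ) _ (hcoord i)).2).mpr (hc i)
  have hfin : {Q : Place k K | SameImage φ P Q}.Finite := by
    have ht0 : ![x, y] i' - algebraMap k K (c i') ≠ 0 := by
      intro h0
      rw [sub_eq_zero] at h0
      rw [h0] at htr
      exact htr (isAlgebraic_algebraMap _)
    exact (zeros_finite' hK ht0).subset (fun Q hQ => hfib Q hQ i')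
  set S := hfin.toFinset with hS
  have hSmem : ∀ Q, Q ∈ S ↔ SameImage φ P Q := fun Q => by rw [hS, Set.Finite.mem_toFinset]; rfl
  set O := LinearMap.range Φ.toLinearMap with hO
  have hOle : O ≤ Ifun S 0 := by
    intro z hz Q hQ
    simp only [Pi.zero_apply, Nat.cast_zero, neg_zero, exp_zero]
    exact (((sameImage_iff hK φ hφex P Q).mp ((hSmem Q).mp hQ)) z ((hrange z).mp hz)).1
  have hbir : IntermediateField.adjoin k (Set.range fun i => φ i / φ 0) = ⊤ := by
    rw [eq_top_iff, ← hxy, IntermediateField.adjoin_le_iff]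
    rintro _ (rfl | rfl)
    · exact IntermediateField.subset_adjoin _ _ ⟨1, by simp [hφ]⟩
    · exact IntermediateField.subset_adjoin _ _ ⟨2, by simp [hφ]⟩
  obtain ⟨N, hN⟩ := exists_bound_inLocRing' hK φ hφ0 hbir P
  have hNle : Ifun S (fun _ => N) ≤ O := by
    intro z hz
    rw [hO, hrange]
    exact hN z (fun Q hQ => hz Q ((hSmem Q).mpr hQ))
  set G := Φ (algebraMap (MvPolynomial (Fin 2) k) (Localization.AtPrime M) g) with hG
  have hGev : G = aeval ![x, y] g := hΦ g
  have hG0 : G ≠ 0 := by rw [hGev]; exact hgxy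
  have hGO : G ∈ O := ⟨_, rfl⟩
  have hGle : ∀ Q ∈ S, Q.1 G ≤ 1 := by
    intro Q hQ
    have := hOle hGO Q hQ
    simpa using this
  have hGmul : ∀ z ∈ O, G * z ∈ O := by
    rintro _ ⟨a, rfl⟩
    refine ⟨algebraMap (MvPolynomial (Fin 2) k) (Localization.AtPrime M) g * a, ?_⟩
    show Φ _ = G * Φ a
    rw [map_mul]
  have hcod := codimR_mul_local hK S O hOle N hNle G hG0 hGle hGmul
  have hfr := finrank_quot_eq Φ f g hkerΦ hG0 _ hcod
  rw [hfr, finsum_mem_eq_finite_toFinset_sum _ hfin, ← hGev]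
  push_cast
  apply Finset.sum_congr rfl
  intro Q hQ
  have h1 := val_eq_exp_neg_ord Q hG0
  have h2 := hGle Q hQ
  rw [h1, ← exp_zero, exp_le_exp] at h2
  rw [Int.toNat_of_nonneg (by omega)]

end Groth.Agent.Lib.LeadIM
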