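import Groth.Agent.Lib.LeadHY3
import Groth.Agent.Lib.LeadFF40
import Mathlib.FieldTheory.Minpoly.IsIntegrallyClosed
import Mathlib.FieldTheory.IntermediateField.Adjoin.Algebra
import Mathlib.RingTheory.Polynomial.Subring

/-! `k[x, y] = ⋂_P O_P[y]` over the finite places `P` of `k(x)`, for `y` integral over `k[x]`. -/

namespace Groth.Agent.Lib.LeadIO

open Polynomial IntermediateField FunFld WithZero Groth.Agent.Lib.LeadFF Groth.Agent.Lib.LeadWD
  Groth.Agent.Lib.LeadHY
open scoped IntermediateField.algebraAdjoinAdjoin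

universe u v
variable {k : Type u} {K : Type v} [Field k] [Field K] [Algebra k K]

/-- the generator of `k(x)`. -/
abbrev xF (x : K) : k⟮x⟯ := ⟨x, mem_adjoin_simple_self k x⟩

lemma coe_aeval_xF (x : K) (q : k[X]) : ((aeval (xF (k := k) x) q : k⟮x⟯) : K) = aeval x q :=
  (IntermediateField.aeval_coe k⟮x⟯ (xF x) q).symm

lemma transcendental_xF {x : K} (hx : Transcendental k x) : Transcendental k (xF (k := k) x) := by
  rintro ⟨p, hp0, hp⟩
  refine hx ⟨p, hp0, ?_⟩
  rw [← coe_aeval_xF, hp]; rfl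

lemma mem_adjoin_xF (x : K) (u : k⟮x⟯) : u ∈ k⟮xF (k := k) x⟯ := by
  obtain ⟨r, s, hrs⟩ := (mem_adjoin_simple_iff k (u : K)).mp u.2
  refine (mem_adjoin_simple_iff k u).mpr ⟨r, s, ?_⟩
  apply Subtype.ext
  rw [hrs]
  push_cast
  rw [coe_aeval_xF, coe_aeval_xF]

/-- elements of `k(x)` integral at all finite places are polynomials. -/
lemma exists_poly_of_finite (hK : IsFunctionField k K) {x : K} (hx : Transcendental k x)
    (u : k⟮x⟯) (hfin : ∀ P : Place k k⟮x⟯, P.1 (xF x) ≤ 1 → P.1 u ≤ 1) :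
    ∃ q : k[X], (u : K) = aeval x q := by
  have hF : IsFunctionField k k⟮x⟯ :=
    (isFunctionField_intermediate hK k⟮x⟯ ⟨x, mem_adjoin_simple_self k x, hx⟩).2
  obtain ⟨q, hq⟩ := polynomial_of_no_finite_poles hF (transcendental_xF hx) (mem_adjoin_xF x u) hfin
  exact ⟨q, by rw [hq, coe_aeval_xF]⟩

lemma isIntegrallyClosed_adjoin {x : K} (hx : Transcendental k x) :
    IsIntegrallyClosed (Algebra.adjoin k ({x} : Set K)) := by
  have hinj : Function.Injective (aeval (R := k) x) := aeval_injective hx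
  let e1 : k[X] ≃ₐ[k] (aeval (R := k) x).range := AlgEquiv.ofInjective _ hinj
  have heq : Algebra.adjoin k ({x} : Set K) = (aeval (R := k) x).range :=
    Algebra.adjoin_singleton_eq_range_aeval k x
  let e2 : (aeval (R := k) x).range ≃ₐ[k] Algebra.adjoin k ({x} : Set K) :=
    Subalgebra.equivOfEq _ _ heq.symm
  exact IsIntegrallyClosed.of_equiv (e1.trans e2).toRingEquiv

/-- polynomials over `k(x)` with `P`-integral coefficients. -/
def PInt {x : K} (P : Place k k⟮x⟯) (q : (k⟮x⟯)[X]) : Prop := ∀ i, P.1 (q.coeff i) ≤ 1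

lemma pint_iff {x : K} (P : Place k k⟮x⟯) (q : (k⟮x⟯)[X]) :
    PInt P q ↔ ((q.coeffs : Set k⟮x⟯) ⊆ P.O.toSubring) := by
  constructor
  · intro h c hc
    obtain ⟨i, -, rfl⟩ := Polynomial.mem_coeffs_iff.mp hc
    exact h i
  · intro h i
    by_cases h0 : q.coeff i = 0
    · rw [h0, map_zero]; exact zero_le'
    · exact h (Polynomial.coeff_mem_coeffs h0)

lemma PInt.modByMonic {x : K} {P : Place k k⟮x⟯} {q p : (k⟮x⟯)[X]} (hq : PInt P q) (hp : PInt P p)
    (hm : p.Monic) : PInt P (q %ₘ p) := by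
  rw [pint_iff] at hq hp
  have h1 : (q.toSubring _ hq).map P.O.toSubring.subtype = q := map_toSubring q _ hq
  have h2 : (p.toSubring _ hp).map P.O.toSubring.subtype = p := map_toSubring p _ hp
  have hm' : (p.toSubring _ hp).Monic := (monic_toSubring p _ hp).mpr hm
  have h3 := Polynomial.map_modByMonic (p := q.toSubring _ hq) P.O.toSubring.subtype hm'
  rw [h1, h2] at h3
  intro i
  rw [← h3, coeff_map]
  exact ((q.toSubring _ hq %ₘ p.toSubring _ hp).coeff i).2

lemma PInt.add {x : K} {P : Place k k⟮x⟯} {q p : (k⟮x⟯)[X]} (hq : PInt P q) (hp : PInt P p) :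
    PInt P (q + p) := by
  intro i
  rw [coeff_add]
  exact (P.1.map_add _ _).trans (max_le (hq i) (hp i))

lemma PInt.neg {x : K} {P : Place k k⟮x⟯} {q : (k⟮x⟯)[X]} (hq : PInt P q) : PInt P (-q) := by
  intro i
  rw [coeff_neg, Valuation.map_neg]
  exact hq i

lemma PInt.mul {x : K} {P : Place k k⟮x⟯} {q p : (k⟮x⟯)[X]} (hq : PInt P q) (hp : PInt P p) :
    PInt P (q * p) := by
  intro i
  rw [coeff_mul]
  apply Valuation.map_sum_le
  intro ab _
  rw [map_mul]
  exact mul_le_one' (hq _) (hp _)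

/-- the ring `O_P[y]` consists of values of `P`-integral polynomials. -/
lemma closure_le_pint {x : K} (P : Place k k⟮x⟯) (y : K) {w : K}
    (hw : w ∈ Subring.closure ((algebraMap k⟮x⟯ K '' (P.O : Set k⟮x⟯)) ∪ {y})) :
    ∃ q : (k⟮x⟯)[X], PInt P q ∧ w = aeval y q := by
  let R : Subring K :=
    { carrier := {w | ∃ q : (k⟮x⟯)[X], PInt P q ∧ w = aeval y q}
      mul_mem' := by
        rintro _ _ ⟨q, hq, rfl⟩ ⟨p, hp, rfl⟩
        exact ⟨q * p, hq.mul hp, (map_mul _ _ _).symm⟩
      one_mem' := ⟨1, fun i => by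
        rw [coeff_one]; split_ifs
        · rw [map_one]
        · rw [map_zero]; exact zero_le', (map_one _).symm⟩
      add_mem' := by
        rintro _ _ ⟨q, hq, rfl⟩ ⟨p, hp, rfl⟩
        exact ⟨q + p, hq.add hp, (map_add _ _ _).symm⟩
      zero_mem' := ⟨0, fun i => by rw [coeff_zero, map_zero]; exact zero_le', (map_zero _).symm⟩
      neg_mem' := by
        rintro _ ⟨q, hq, rfl⟩
        exact ⟨-q, hq.neg, (map_neg _ _).symm⟩ }
  have hle : Subring.closure ((algebraMap k⟮x⟯ K '' (P.O : Set k⟮x⟯)) ∪ {y}) ≤ R := by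
    rw [Subring.closure_le]
    rintro w (⟨b, hb, rfl⟩ | hw)
    · refine ⟨C b, fun i => ?_, (aeval_C _ _).symm⟩
      rw [coeff_C]; split_ifs
      · exact hb
      · rw [map_zero]; exact zero_le'
    · rw [Set.mem_singleton_iff] at hw
      subst hw
      refine ⟨X, fun i => ?_, (aeval_X _).symm⟩
      rw [coeff_X]; split_ifs
      · rw [map_one]
      · rw [map_zero]; exact zero_le'
  exact hle hw

/-- the minimal polynomial of `y` over `k(x)` is integral at all finite places. -/
lemma pint_minpoly {x y : K} (hx : Transcendental k x)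
    (hy : IsIntegral (Algebra.adjoin k ({x} : Set K)) y) (P : Place k k⟮x⟯)
    (hP : P.1 (xF x) ≤ 1) : PInt P (minpoly k⟮x⟯ y) := by
  haveI := isIntegrallyClosed_adjoin hx
  have h1 := minpoly.isIntegrallyClosed_eq_field_fractions' (R := Algebra.adjoin k ({x} : Set K))
    k⟮x⟯ hy
  intro i
  rw [h1, coeff_map]
  set c := (minpoly (Algebra.adjoin k ({x} : Set K)) y).coeff i with hc
  have hc2 : (c : K) ∈ (aeval (R := k) x).range := by
    rw [← Algebra.adjoin_singleton_eq_range_aeval]; exact c.2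
  obtain ⟨q, hq⟩ := hc2
  have : algebraMap (Algebra.adjoin k ({x} : Set K)) k⟮x⟯ c = aeval (xF (k := k) x) q := by
    apply Subtype.ext
    rw [coe_aeval_xF]
    exact hq.symm
  rw [this]
  exact val_aeval_le_one P hP q

theorem adjoin_eq_iInter (hK : IsFunctionField k K) (x y : K) (hx : Transcendental k x)
    (hy : IsIntegral (Algebra.adjoin k ({x} : Set K)) y) :
    (Algebra.adjoin k ({x, y} : Set K) : Set K) =
      ⋂ (P : Place k k⟮x⟯) (_ : P.1 ⟨x, mem_adjoin_simple_self k x⟩ ≤ 1),
        (Subring.closure ((algebraMap k⟮x⟯ K '' (P.O : Set _)) ∪ {y}) : Set K) := by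
  have hF : IsFunctionField k k⟮x⟯ :=
    (isFunctionField_intermediate hK k⟮x⟯ ⟨x, mem_adjoin_simple_self k x, hx⟩).2
  apply Set.Subset.antisymm
  · intro z hz
    simp only [Set.mem_iInter]
    intro P hP
    set B := Subring.closure ((algebraMap k⟮x⟯ K '' (P.O : Set k⟮x⟯)) ∪ {y}) with hB
    let SB : Subalgebra k K :=
      { B.toSubsemiring with
        algebraMap_mem' := fun c => by
          apply Subring.subset_closure
          left
          refine ⟨algebraMap k k⟮x⟯ c, P.2.1 c, ?_⟩
          rw [← IsScalarTower.algebraMap_apply] }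
    have hle : Algebra.adjoin k ({x, y} : Set K) ≤ SB := by
      apply Algebra.adjoin_le
      rintro w (rfl | hw)
      · apply Subring.subset_closure
        left
        exact ⟨xF w, hP, rfl⟩
      · rw [Set.mem_singleton_iff] at hw
        subst hw
        exact Subring.subset_closure (Or.inr rfl)
    exact hle hz
  · intro z hz
    simp only [Set.mem_iInter] at hz
    set p := minpoly k⟮x⟯ y with hp
    have hyF : IsIntegral k⟮x⟯ y := by
      haveI := isIntegrallyClosed_adjoin hx
      exact hy.tower_top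
    have hpm : p.Monic := minpoly.monic hyF
    have hp1 : p ≠ 1 := by
      intro h
      have := minpoly.natDegree_pos hyF
      rw [← hp, h, natDegree_one] at this
      exact lt_irrefl _ this
    -- for every finite place, a reduced representation
    have hrep : ∀ P : Place k k⟮x⟯, P.1 (xF x) ≤ 1 →
        ∃ r : (k⟮x⟯)[X], PInt P r ∧ r.natDegree < p.natDegree ∧ z = aeval y r := by
      intro P hP
      obtain ⟨q, hq, hzq⟩ := closure_le_pint P y (hz P hP)
      refine ⟨q %ₘ p, hq.modByMonic (pint_minpoly hx hy P hP) hpm,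
        natDegree_modByMonic_lt q hpm hp1, ?_⟩
      rw [hzq]
      conv_lhs => rw [← modByMonic_add_div q p]
      rw [map_add, map_mul, hp, minpoly.aeval, zero_mul, add_zero]
    -- a finite place exists
    obtain ⟨P₀, hP₀⟩ := exists_place_lt_one hF (transcendental_xF hx)
    obtain ⟨r, -, hrdeg, hzr⟩ := hrep P₀ hP₀.le
    have hcoef : ∀ i, ∀ P : Place k k⟮x⟯, P.1 (xF x) ≤ 1 → P.1 (r.coeff i) ≤ 1 := by
      intro i P hP
      obtain ⟨r', hr', hr'deg, hzr'⟩ := hrep P hP
      have heq : r = r' := by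
        by_contra hne
        have h0 : r - r' ≠ 0 := sub_ne_zero.mpr hne
        have h1 : aeval y (r - r') = 0 := by rw [map_sub, ← hzr, ← hzr', sub_self]
        have h2 := natDegree_le_natDegree (minpoly.degree_le_of_ne_zero k⟮x⟯ y h0 h1)
        have h3 : (r - r').natDegree ≤ max r.natDegree r'.natDegree := natDegree_sub_le r r'
        have h4 : max r.natDegree r'.natDegree < p.natDegree := max_lt hrdeg hr'deg
        rw [← hp] at h2
        omega
      rw [heq]
      exact hr' i
    have hq : ∀ i, ∃ q : k[X], ((r.coeff i : k⟮x⟯) : K) = aeval x q :=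
      fun i => exists_poly_of_finite hK hx (r.coeff i) (hcoef i)
    choose q hq using hq
    rw [hzr, aeval_eq_sum_range]
    apply Subalgebra.sum_mem
    intro i _
    rw [Algebra.smul_def]
    apply Subalgebra.mul_mem
    · show ((r.coeff i : k⟮x⟯) : K) ∈ _
      rw [hq i]
      have h1 : aeval x (q i) ∈ Algebra.adjoin k ({x} : Set K) := aeval_mem_adjoin_singleton k x
      exact Algebra.adjoin_mono (by simp) h1
    · exact Subalgebra.pow_mem _ (Algebra.subset_adjoin (by simp)) i

end Groth.Agent.Lib.LeadIO
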