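import Mathlib

/-! Kernels of evaluation maps on polynomial rings are principal (Gauss lemma argument). -/

namespace Groth.Agent.Lib.LeadKP

open Polynomial nonZeroDivisors

/-- If `Ψ : R[X] → B` into a domain is injective on constants and kills the irreducible `f`,
its kernel is `(f)`. -/
theorem ker_eq_span_of_irreducible {R B : Type*} [CommRing R] [IsDomain R] [IsGCDMonoid R]
    [CommRing B] [IsDomain B] (Ψ : R[X] →+* B) (hinj : Function.Injective (Ψ.comp C))
    {f : R[X]} (hf : Irreducible f) (hΨf : Ψ f = 0) : RingHom.ker Ψ = Ideal.span {f} := by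
  classical
  have hdeg : f.natDegree ≠ 0 := by
    intro h0
    obtain ⟨a, rfl⟩ := natDegree_eq_zero.mp h0
    have : a = 0 := hinj (by simpa using hΨf)
    exact hf.ne_zero (by simp [this])
  have hprim := hf.isPrimitive hdeg
  have hirrF : Irreducible (f.map (algebraMap R (FractionRing R))) :=
    (hprim.irreducible_iff_irreducible_map_fraction_map).mp hf
  apply le_antisymm
  · intro g hg
    rw [RingHom.mem_ker] at hg
    rw [Ideal.mem_span_singleton]
    by_contra hndvd
    have hndvdF : ¬ f.map (algebraMap R (FractionRing R)) ∣ g.map (algebraMap R (FractionRing R)) :=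
      fun h => hndvd (hprim.dvd_of_fraction_map_dvd_fraction_map h)
    obtain ⟨a, b, hab⟩ := (hirrF.coprime_iff_not_dvd).mpr hndvdF
    obtain ⟨c, hc0, hc⟩ := IsLocalization.integerNormalization_spec R⁰ a
    obtain ⟨d, hd0, hd⟩ := IsLocalization.integerNormalization_spec R⁰ b
    rw [Algebra.smul_def, Polynomial.algebraMap_apply] at hc hd
    have key : C d * IsLocalization.integerNormalization R⁰ a * f +
        C c * IsLocalization.integerNormalization R⁰ b * g = C (c * d) := by
      apply map_injective (algebraMap R (FractionRing R)) (IsFractionRing.injective _ _)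
      simp only [Polynomial.map_add, Polynomial.map_mul, hc, hd, map_C, _root_.map_mul]
      linear_combination (C (algebraMap R (FractionRing R) c) *
        C (algebraMap R (FractionRing R) d)) * hab
    have h0 : Ψ (C (c * d)) = 0 := by
      rw [← key, map_add, map_mul, map_mul (f := Ψ) _ g, hΨf, hg, mul_zero, mul_zero, add_zero]
    have : c * d = 0 := hinj (by simpa using h0)
    exact mul_ne_zero (nonZeroDivisors.ne_zero hc0) (nonZeroDivisors.ne_zero hd0) this
  · rw [Ideal.span_le, Set.singleton_subset_iff]
    exact hΨf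

open MvPolynomial in
/-- The equivalence singling out the variable `i₀`. -/
noncomputable def splitEquiv (k : Type*) [Field k] {σ : Type*} [DecidableEq σ] (i₀ : σ) :
    MvPolynomial σ k ≃ₐ[k] Polynomial (MvPolynomial {i // i ≠ i₀} k) :=
  (renameEquiv k (Equiv.optionSubtypeNe i₀).symm).trans (optionEquivLeft k _)

open MvPolynomial in
lemma splitEquiv_rename (k : Type*) [Field k] {σ : Type*} [DecidableEq σ] (i₀ : σ)
    (p : MvPolynomial {i // i ≠ i₀} k) :
    splitEquiv k i₀ (rename Subtype.val p) = Polynomial.C p := by
  induction p using MvPolynomial.induction_on with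
  | C a => simp [splitEquiv]
  | add p q hp hq => rw [map_add, map_add, hp, hq, map_add]
  | mul_X p i hp =>
    rw [map_mul, map_mul, hp, map_mul]
    congr 1
    simp [splitEquiv, Equiv.optionSubtypeNe_symm_of_ne i.2]

open MvPolynomial in
/-- The kernel of an evaluation map `ψ` on a polynomial ring in finitely or infinitely many
variables, killing an irreducible `f`, and algebraically independent on the variables other
than `i₀`, is `(f)`. -/
theorem ker_eq_span_mv {k B : Type*} [Field k] [CommRing B] [IsDomain B] [Algebra k B]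
    {σ : Type*} [DecidableEq σ] (i₀ : σ) (ψ : MvPolynomial σ k →ₐ[k] B)
    (hind : AlgebraicIndependent k (fun i : {i // i ≠ i₀} => ψ (X i.1)))
    {f : MvPolynomial σ k} (hf : Irreducible f) (hψf : ψ f = 0) :
    RingHom.ker ψ = Ideal.span {f} := by
  classical
  set E := splitEquiv k i₀ with hE
  let Ψ : Polynomial (MvPolynomial {i // i ≠ i₀} k) →+* B :=
    (ψ : MvPolynomial σ k →+* B).comp (E.symm : _ →+* MvPolynomial σ k)
  have hΨ : ∀ g, Ψ (E g) = ψ g := by
    intro g
    show ψ (E.symm (E g)) = ψ g
    rw [AlgEquiv.symm_apply_apply]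
  have hinj : Function.Injective (Ψ.comp Polynomial.C) := by
    have : ∀ p, (Ψ.comp Polynomial.C) p = aeval (fun i : {i // i ≠ i₀} => ψ (X i.1)) p := by
      intro p
      rw [RingHom.comp_apply, ← splitEquiv_rename k i₀ p, hΨ]
      rw [← AlgHom.comp_apply]
      congr 1
      apply MvPolynomial.algHom_ext
      intro i
      simp
    intro p q hpq
    rw [this, this] at hpq
    exact hind hpq
  have hirr : Irreducible (E f) := (MulEquiv.irreducible_iff E.toMulEquiv).mpr hf
  have hker := ker_eq_span_of_irreducible Ψ hinj hirr (by rw [hΨ, hψf])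
  ext g
  rw [RingHom.mem_ker, ← hΨ g, ← RingHom.mem_ker, hker, Ideal.mem_span_singleton,
    Ideal.mem_span_singleton]
  constructor
  · rintro ⟨h, hh⟩
    refine ⟨E.symm h, ?_⟩
    apply E.injective
    rw [hh, map_mul, AlgEquiv.apply_symm_apply]
  · rintro ⟨h, rfl⟩
    exact ⟨E h, map_mul _ _ _⟩

end Groth.Agent.Lib.LeadKP
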