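import Groth.Agent.Lib.LeadKP9

/-! General Jacobian criterion, part 2: nonsingular implies rank at least `n - 1`. -/

namespace Groth.Agent.Lib.LeadKP

open MvPolynomial FunFld WithZero Groth.Agent.Lib.LeadFF Groth.Agent.Lib.LeadPC Matrix

variable {k K : Type*} [Field k] [Field K] [Algebra k K]

lemma eval_pderiv_mul_X {σ : Type*} [DecidableEq σ] (α : σ → k) (p : MvPolynomial σ k)
    (i j : σ) : eval α (pderiv i (p * X j)) =
      eval α (pderiv i p) * α j + (if i = j then eval α p else 0) := by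
  rw [Derivation.leibniz, pderiv_X]
  by_cases hij : i = j
  · subst hij
    simp only [Pi.single_eq_same, smul_eq_mul, mul_one, map_add, map_mul, eval_X, if_true]
    ring
  · have : Pi.single (M := fun _ => MvPolynomial σ k) i 1 j = 0 :=
      Pi.single_eq_of_ne (Ne.symm hij) _
    simp only [this, smul_eq_mul, if_neg hij, add_zero]
    rw [mul_zero, zero_add, map_mul, eval_X]
    ring

/-- evaluation at `α + ε v` in the dual numbers. -/
noncomputable def dualEvV {σ : Type*} (α v : σ → k) : MvPolynomial σ k →ₐ[k] DualNumber k :=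
  aeval fun i => TrivSqZeroExt.inl (α i) + TrivSqZeroExt.inr (v i)

lemma dualEvV_X {σ : Type*} (α v : σ → k) (l : σ) :
    dualEvV α v (X l) = TrivSqZeroExt.inl (α l) + TrivSqZeroExt.inr (v l) := by
  simp [dualEvV]

lemma dualEvV_apply {σ : Type*} [Fintype σ] [DecidableEq σ] (α v : σ → k)
    (g : MvPolynomial σ k) :
    dualEvV α v g = TrivSqZeroExt.inl (eval α g) +
      TrivSqZeroExt.inr (∑ i, v i * eval α (pderiv i g)) := by
  induction g using MvPolynomial.induction_on with
  | C a =>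
    simp [dualEvV, TrivSqZeroExt.algebraMap_eq_inl]
  | add p q hp hq =>
    rw [map_add, hp, hq]
    simp only [map_add, mul_add, Finset.sum_add_distrib, TrivSqZeroExt.inl_add,
      TrivSqZeroExt.inr_add]
    abel
  | mul_X p l hp =>
    rw [map_mul, hp, dualEvV_X]
    have hsum : ∑ i, v i * eval α (pderiv i (p * X l)) =
        (∑ i, v i * eval α (pderiv i p)) * α l + v l * eval α p := by
      simp only [eval_pderiv_mul_X, mul_add, Finset.sum_add_distrib, mul_ite, mul_zero,
        Finset.sum_ite_eq', Finset.mem_univ, if_true]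
      congr 1
      rw [Finset.sum_mul]
      apply Finset.sum_congr rfl
      intro i _
      ring
    rw [hsum]
    ext
    · simp only [TrivSqZeroExt.fst_mul, TrivSqZeroExt.fst_add, TrivSqZeroExt.fst_inl,
        TrivSqZeroExt.fst_inr, add_zero, map_mul, eval_X]
    · simp only [TrivSqZeroExt.snd_mul, TrivSqZeroExt.fst_add, TrivSqZeroExt.fst_inl,
        TrivSqZeroExt.fst_inr, TrivSqZeroExt.snd_add, TrivSqZeroExt.snd_inl,
        TrivSqZeroExt.snd_inr, add_zero, zero_add,
        smul_eq_mul, MulOpposite.smul_eq_mul_unop, MulOpposite.unop_op]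
      ring

section

variable [IsAlgClosed k] {n : ℕ} (φ : Fin (n + 1) → K) (hφ : LinearIndependent k φ)
  (P : Place k K) (hP : ∀ i, P.1 (φ i) ≤ P.1 (φ 0))
  {r : ℕ} (f : Fin r → MvPolynomial (Fin (n + 1)) k)
  (hhom : ∀ i, (f i).IsHomogeneous (f i).totalDegree) (hfφ : ∀ i, aeval φ (f i) = 0)
  (α : Fin (n + 1) → k) (hα : ∀ i, P.1 (φ i / φ 0 - algebraMap k K (α i)) < 1)

include hφ hP hhom hfφ hα

theorem jac_rank_ge_of_nonsingular (hK : IsFunctionField k K)
    (hgen : Ideal.span (Set.range f) = RingHom.ker (gev (k := k) φ))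
    (hns : IsNonsingularAt φ P) : n ≤ (jac f α).rank + 1 := by
  classical
  have hj0 : φ 0 ≠ 0 := hφ.ne_zero 0
  set ψ : Fin (n + 1) → K := fun i => φ i / φ 0 with hψ
  have hψj : ψ 0 = 1 := div_self hj0
  have hαj : α 0 = 1 := residue_max_eq_one P hψj (hα 0)
  set h : Fin (n + 1) → K := fun i => ψ i - algebraMap k K (α i) with hh
  have hhj : h 0 = 0 := by
    show ψ 0 - algebraMap k K (α 0) = 0
    rw [hψj, hαj, map_one, sub_self]
  set A : Subalgebra k K := chart k φ 0 with hAdef
  have hψA : ∀ i, ψ i ∈ A := fun i => ratio_mem_chart φ 0 i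
  have hA : ∀ i, h i ∈ A := fun i => sub_mem (hψA i) (Subalgebra.algebraMap_mem _ _)
  have hA1 : ∀ u ∈ A, P.1 u ≤ 1 := chart_le_one φ P 0 hj0 hP
  have hh1 : ∀ i, P.1 (h i) < 1 := hα
  have hfψ : ∀ i, aeval ψ (f i) = 0 := by
    intro i
    have := aeval_smul_of_homog (f i) (f i).totalDegree (hhom i) (φ 0)⁻¹ φ
    rw [hfφ i, mul_zero] at this
    have e : ψ = fun i => (φ 0)⁻¹ * φ i := by
      funext i; rw [hψ]; ring
    rw [e, this]
  have hf0 : ∀ i, eval α (f i) = 0 := by
    intro i
    by_contra hne0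
    have h1 := val_aeval_sub_lt_one P ψ α hα (f i)
    rw [hfψ i, zero_sub, Valuation.map_neg, place_trivOn P _ hne0] at h1
    exact lt_irrefl _ h1
  have hloc : ∀ z, P.1 z ≤ 1 → InLoc φ P 0 z :=
    fun z hz => (inLocRing_iff φ P 0 hj0 hP z).mp (hns z hz)
  -- a uniformizer
  obtain ⟨t, ht⟩ := exists_unif P
  obtain ⟨u0, hu0, w0, hw0, hw01, htw⟩ := hloc t (unif_lt_one ht).le
  have hu0v : P.1 u0 = exp (-1 : ℤ) := by rw [← htw, map_mul, hw01, mul_one, ht]
  obtain ⟨c0, G, hG, hue⟩ := adjoin_decomp ψ α u0 hu0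
  have hsumlt : P.1 (∑ i, (ψ i - algebraMap k K (α i)) * G i) < 1 := by
    apply Valuation.map_sum_lt P.1 one_ne_zero
    intro l _
    rw [map_mul]
    calc P.1 (ψ l - algebraMap k K (α l)) * P.1 (G l) ≤ P.1 (ψ l - algebraMap k K (α l)) * 1 :=
          mul_le_mul' le_rfl (hA1 _ (hG l))
      _ = P.1 (h l) := mul_one _
      _ < 1 := hh1 l
  have hlt1 : (exp (-1 : ℤ) : WithZero (Multiplicative ℤ)) < 1 := by
    rw [← exp_zero, exp_lt_exp]; omega
  have hc0 : c0 = 0 := by
    by_contra hne0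
    have h1 : P.1 (algebraMap k K c0) = 1 := place_trivOn P _ hne0
    rw [hue, Valuation.map_add_eq_of_lt_left _ (by rw [h1]; exact hsumlt), h1] at hu0v
    rw [hu0v] at hlt1
    exact lt_irrefl _ hlt1
  rw [hc0, map_zero, zero_add] at hue
  have hex : ∃ i1, P.1 (h i1) = exp (-1 : ℤ) := by
    by_contra hno
    push Not at hno
    have hle2 : ∀ i, P.1 (h i) ≤ exp (-2 : ℤ) := by
      intro i
      have h1 := zm0_lt_one_iff.mp (hh1 i)
      have h2 := lt_of_le_of_ne h1 (hno i)
      have h3 := zm0_lt_exp_iff.mp h2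
      have : ((-1 : ℤ) - 1) = -2 := by norm_num
      rwa [this] at h3
    have : P.1 u0 ≤ exp (-2 : ℤ) := by
      rw [hue]
      apply Valuation.map_sum_le
      intro i _
      rw [map_mul]
      calc P.1 (ψ i - algebraMap k K (α i)) * P.1 (G i) ≤ exp (-2 : ℤ) * 1 :=
            mul_le_mul' (hle2 i) (hA1 _ (hG i))
        _ = exp (-2 : ℤ) := mul_one _
    rw [hu0v, exp_le_exp] at this
    omega
  obtain ⟨i1, hi1v⟩ := hex
  have hi1j : i1 ≠ 0 := by
    rintro rfl
    rw [hhj, map_zero] at hi1v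
    exact (exp_ne_zero).symm hi1v
  have hi10 : h i1 ≠ 0 := by
    intro h0
    rw [h0, map_zero] at hi1v
    exact (exp_ne_zero).symm hi1v
  have hrange : ∀ x ∈ A, ∃ p : MvPolynomial (Fin (n + 1)) k, aeval ψ p = x := by
    intro x hx
    rw [hAdef, chart, Algebra.adjoin_range_eq_range_aeval] at hx
    exact hx
  -- the data for each coordinate
  have hdata : ∀ i, ∃ (lam : k) (U0 W0 : MvPolynomial (Fin (n + 1)) k), eval α W0 ≠ 0 ∧
      (h i - algebraMap k K lam * h i1) * aeval ψ W0 = h i1 ^ 2 * aeval ψ U0 := by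
    intro i
    have hz1 : P.1 (h i / h i1) ≤ 1 := by
      rw [map_div₀, hi1v, div_le_one₀ (by exact exp_pos)]
      exact zm0_lt_one_iff.mp (hh1 i)
    obtain ⟨lam, hlam⟩ := exists_const_sub_lt_one hK P hz1
    have hz' : P.1 ((h i / h i1 - algebraMap k K lam) / h i1) ≤ 1 := by
      rw [map_div₀, hi1v, div_le_one₀ (by exact exp_pos)]
      exact zm0_lt_one_iff.mp hlam
    obtain ⟨u, hu, w, hw, hw1, hzw⟩ := hloc _ hz'
    have hrel : (h i - algebraMap k K lam * h i1) * w = h i1 ^ 2 * u := by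
      rw [← hzw]
      field_simp
    obtain ⟨U0, hU0⟩ := hrange u hu
    obtain ⟨W0, hW0⟩ := hrange w hw
    refine ⟨lam, U0, W0, ?_, by rw [hU0, hW0]; exact hrel⟩
    intro h0
    have h1 := val_aeval_sub_lt_one P ψ α hα W0
    rw [hW0, h0, map_zero, sub_zero, hw1] at h1
    exact lt_irrefl _ h1
  choose lam U0 W0 hW0α hrel using hdata
  set ℓ : Fin (n + 1) → MvPolynomial (Fin (n + 1)) k := fun i => X i - C (α i) * X 0 with hℓ
  have hℓψ : ∀ i, aeval ψ (ℓ i) = h i := by
    intro i
    simp only [hℓ, map_sub, map_mul, aeval_X, aeval_C, hψj, mul_one]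
    rfl
  -- the key property of kernel vectors
  have hkerv : ∀ v : Fin (n + 1) → k, v 0 = 0 →
      (∀ s, ∑ i, v i * eval α (pderiv i (f s)) = 0) → ∀ i, v i = lam i * v i1 := by
    intro v hv0 hvJ i
    set H0 : MvPolynomial (Fin (n + 1)) k :=
      (ℓ i - C (lam i) * ℓ i1) * W0 i - ℓ i1 ^ 2 * U0 i with hH0def
    have hH0 : aeval ψ H0 = 0 := by
      rw [hH0def]
      simp only [map_sub, map_mul, map_pow, hℓψ, aeval_C]
      rw [hrel i, sub_self]
    set Hh := hom 0 H0 H0.totalDegree with hHh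
    have hHhhom : Hh.IsHomogeneous H0.totalDegree := hom_isHomogeneous 0 H0 _
    have hHhψ : aeval ψ Hh = 0 := by
      rw [hHh, map_hom 0 H0 le_rfl (aeval ψ) (by rw [aeval_X, hψj]), hH0]
    have hHhφ : aeval φ Hh = 0 := by
      have := aeval_smul_of_homog Hh H0.totalDegree hHhhom (φ 0) ψ
      rw [hHhψ, mul_zero] at this
      have e : φ = fun i => φ 0 * ψ i := by
        funext i; rw [hψ]; field_simp
      rw [e, this]
    have hgev : gev φ Hh = 0 := (gev_eq_zero_iff_of_homog φ hHhhom).mpr hHhφ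
    have hmem : Hh ∈ Ideal.span (Set.range f) := by
      rw [hgen, RingHom.mem_ker]; exact hgev
    obtain ⟨c, hc⟩ := (Ideal.mem_span_range_iff_exists_fun).mp hmem
    set θ := dualEvV α v with hθ
    have hθ0 : θ (X 0) = 1 := by
      rw [hθ, dualEvV_X, hv0, hαj]
      simp
    have hθHh : θ Hh = θ H0 := map_hom 0 H0 le_rfl θ hθ0
    have hθf : ∀ s, θ (f s) = 0 := by
      intro s
      rw [hθ, dualEvV_apply, hf0 s, hvJ s]
      simp
    have hθℓ : ∀ i, θ (ℓ i) = TrivSqZeroExt.inr (v i) := by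
      intro i
      simp only [hℓ, map_sub, map_mul, hθ0, mul_one]
      rw [hθ, dualEvV_X, dualEvV_apply]
      simp
    have h1 : θ H0 = 0 := by
      rw [← hθHh, ← hc, map_sum]
      apply Finset.sum_eq_zero
      intro s _
      rw [map_mul, hθf s, mul_zero]
    rw [hH0def] at h1
    simp only [map_sub, map_mul, map_pow, hθℓ] at h1
    rw [pow_two, TrivSqZeroExt.inr_mul_inr, zero_mul, sub_zero] at h1
    have h2 := congrArg TrivSqZeroExt.snd h1
    rw [hθ, dualEvV_apply (g := W0 i), dualEvV_apply (g := C (lam i))] at h2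
    simp only [TrivSqZeroExt.snd_mul, TrivSqZeroExt.fst_add, TrivSqZeroExt.fst_inl,
      TrivSqZeroExt.fst_inr, TrivSqZeroExt.snd_add, TrivSqZeroExt.snd_inl,
      TrivSqZeroExt.snd_inr, add_zero, zero_add, TrivSqZeroExt.snd_sub, TrivSqZeroExt.fst_sub,
      TrivSqZeroExt.fst_mul,
      smul_eq_mul, MulOpposite.smul_eq_mul_unop, MulOpposite.unop_op, TrivSqZeroExt.snd_zero,
      zero_mul, one_mul, mul_one, mul_zero, sub_zero, eval_C, Derivation.map_algebraMap,
      pderiv_C, map_zero, Finset.sum_const_zero, sub_self,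
      smul_zero] at h2
    have h3 : (v i - lam i * v i1) * eval α (W0 i) = 0 := by
      linear_combination h2
    have h4 := (mul_eq_zero.mp h3).resolve_right (hW0α i)
    linear_combination h4
  -- conclusion
  obtain ⟨j1, hj1⟩ : ∃ j1 : Fin n, i1 = j1.succ := by
    obtain ⟨j1, hj1⟩ := Fin.exists_succ_eq_of_ne_zero hi1j
    exact ⟨j1, hj1.symm⟩
  set L := (jac f α).mulVecLin with hL
  have hkerle : LinearMap.ker L ≤ Submodule.span k {fun j : Fin n => lam j.succ} := by
    intro v hv
    rw [LinearMap.mem_ker] at hv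
    rw [Submodule.mem_span_singleton]
    have hv' := hkerv (Fin.cons 0 v) (by simp) (by
      intro s
      rw [Fin.sum_univ_succ]
      simp only [Fin.cons_zero, zero_mul, zero_add, Fin.cons_succ]
      have := congrFun hv s
      simp only [hL, Matrix.mulVecLin_apply, Matrix.mulVec, dotProduct, jac, Pi.zero_apply] at this
      rw [← this]
      apply Finset.sum_congr rfl
      intro j _
      ring)
    refine ⟨v j1, ?_⟩
    funext j
    have := hv' j.succ
    rw [hj1] at this
    simp only [Fin.cons_succ] at this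
    rw [Pi.smul_apply, smul_eq_mul, this]
    ring
  have hfin : Module.finrank k (LinearMap.ker L) ≤ 1 := by
    refine (Submodule.finrank_mono hkerle).trans ?_
    exact (finrank_span_le_card ({fun j : Fin n => lam j.succ} : Set (Fin n → k))).trans
      (by simp)
  have h1 := L.finrank_range_add_finrank_ker
  rw [Module.finrank_fin_fun] at h1
  have h2 : Module.finrank k (LinearMap.range L) = (jac f α).rank := rfl
  omega

end

end Groth.Agent.Lib.LeadKP
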