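import Groth.Agent.Lib.LeadKP10

/-! S11071: the general Jacobian criterion. -/

namespace Groth.Agent.Lib.LeadKP

open MvPolynomial FunFld WithZero Groth.Agent.Lib.LeadFF Groth.Agent.Lib.LeadPC Matrix
  Groth.Agent.Lib.LeadHS

universe u v
variable {k : Type u} {K : Type v} [Field k] [Field K] [Algebra k K]

theorem jacobian_criterion [IsAlgClosed k] (hK : IsFunctionField k K) {n : ℕ} (hn : 1 ≤ n)
    (φ : Fin (n + 1) → K) (hφ : LinearIndependent k φ)
    (hbir : IntermediateField.adjoin k (Set.range fun i => φ i / φ 0) = ⊤)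
    (P : Place k K) (hP : ∀ i, P.1 (φ i) ≤ P.1 (φ 0)) {r : ℕ}
    (f : Fin r → MvPolynomial (Fin (n + 1)) k)
    (hhom : ∀ i, (f i).IsHomogeneous (f i).totalDegree)
    (hgen : Ideal.span (Set.range f) = RingHom.ker (gev (k := k) φ))
    (M : Matrix (Fin r) (Fin n) P.O)
    (hM : ∀ i j, ((M i j : P.O) : K) =
      aeval (fun l => φ l / φ 0) (pderiv j.succ (f i))) :
    IsNonsingularAt φ P ↔ (M.map (IsLocalRing.residue P.O)).rank = n - 1 := by
  classical
  have hj0 : φ 0 ≠ 0 := hφ.ne_zero 0
  have hfφ : ∀ i, aeval φ (f i) = 0 := by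
    intro i
    have h1 : f i ∈ RingHom.ker (gev (k := k) φ) := by
      rw [← hgen]; exact Ideal.subset_span ⟨i, rfl⟩
    exact (gev_eq_zero_iff_of_homog φ (hhom i)).mp (RingHom.mem_ker.mp h1)
  have hψle : ∀ i, P.1 (φ i / φ 0) ≤ 1 := by
    intro i
    have h0 : 0 < P.1 (φ 0) := zero_lt_iff.mpr ((Valuation.ne_zero_iff _).mpr hj0)
    rw [map_div₀, div_le_one₀ h0]
    exact hP i
  choose α hα using fun i => exists_const_sub_lt_one hK P (hψle i)
  have hbij : Function.Bijective (algebraMap k (IsLocalRing.ResidueField P.O)) :=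
    ⟨(algebraMap k (IsLocalRing.ResidueField P.O)).injective,
      residue_surjective_of_algClosed hK P⟩
  have hMres : M.map (IsLocalRing.residue P.O) =
      (jac f α).map (algebraMap k (IsLocalRing.ResidueField P.O)) := by
    ext i j
    simp only [Matrix.map_apply, jac]
    have h1 := val_aeval_sub_lt_one P (fun l => φ l / φ 0) α hα (pderiv j.succ (f i))
    rw [← hM i j] at h1
    have h2 := evalP_eq_of_sub_lt P h1
    rw [← h2]
    have hle : P.1 ((M i j : P.O) : K) ≤ 1 :=
      (Valuation.mem_valuationSubring_iff P.1 _).mp (M i j).2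
    rw [evalP_of_le P hle]
  rw [hMres, rank_map_bijective _ hbij]
  have hlt := jac_rank_lt φ hφ P hP f hhom hfφ α hα hn
  constructor
  · intro hns
    have hge := jac_rank_ge_of_nonsingular φ hφ P hP f hhom hfφ α hα hK hgen hns
    omega
  · intro hrank
    exact nonsingular_of_jac_rank φ hφ P hP f hhom hfφ α hα hn hbir (by omega)

end Groth.Agent.Lib.LeadKP
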