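import Mathlib

/-! Plane-curve coordinate change: algebraic lemmas. -/

set_option autoImplicit false

namespace Groth.Agent.Lib.LeadPC

open MvPolynomial

/-- Chain rule for a derivation applied to `aeval v f`. -/
theorem deriv_aeval {k B M σ : Type*} [CommRing k] [CommRing B] [Algebra k B] [AddCommGroup M]
    [Module k M] [Module B M] [IsScalarTower k B M] [Fintype σ] [DecidableEq σ]
    (δ : Derivation k B M) (v : σ → B) (f : MvPolynomial σ k) :
    δ (aeval v f) = ∑ i, aeval v (pderiv i f) • δ (v i) := by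
  induction f using MvPolynomial.induction_on with
  | C a => simp
  | add p q hp hq => simp [hp, hq, add_smul, Finset.sum_add_distrib]
  | mul_X p j hp =>
    have : ∀ i, (aeval v) (pderiv i (p * X j)) • δ (v i)
        = (if i = j then aeval v p • δ (v j) else 0) + v j • (aeval v (pderiv i p) • δ (v i)) := by
      intro i
      rw [Derivation.leibniz, pderiv_X]
      by_cases hij : i = j
      · subst hij; simp [add_smul, mul_smul]
      · simp [hij, Pi.single_apply, Ne.symm hij, mul_smul]
    rw [Finset.sum_congr rfl fun i _ => this i, Finset.sum_add_distrib, ← Finset.smul_sum, ← hp]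
    simp [Derivation.leibniz]

/-- Scaling the argument of a homogeneous polynomial. -/
theorem aeval_smul_of_homog {k B σ : Type*} [CommRing k] [CommRing B] [Algebra k B] [Fintype σ]
    (g : MvPolynomial σ k) (d : ℕ) (hg : g.IsHomogeneous d) (c : B) (v : σ → B) :
    aeval (fun i => c * v i) g = c ^ d * aeval v g := by
  rw [aeval_def, eval₂_eq', aeval_def, eval₂_eq', Finset.mul_sum]
  refine Finset.sum_congr rfl fun m hm => ?_
  have h1 : ∑ i, m i = d := by
    have := hg (mem_support_iff.mp hm)
    rw [← this]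
    simp [Finsupp.weight_apply, Finsupp.sum_fintype]
  simp_rw [mul_pow, Finset.prod_mul_distrib, Finset.prod_pow_eq_pow_sum, h1]
  ring

/-- The final scalar identity. -/
theorem key_identity {R : Type*} [CommRing R]
    (a00 a01 a02 a10 a11 a12 a20 a21 a22 u0 u1 u2 du0 du1 du2 x y dx dy F0 F1 F2 : R)
    (E : F0 + x * F1 + y * F2 = 0) (C : F1 * dx + F2 * dy = 0)
    (h0 : a00 * u0 + a01 * u1 + a02 * u2 = 1) (h1 : a10 * u0 + a11 * u1 + a12 * u2 = x)
    (h2 : a20 * u0 + a21 * u1 + a22 * u2 = y)
    (d0 : a00 * du0 + a01 * du1 + a02 * du2 = 0) (d1 : a10 * du0 + a11 * du1 + a12 * du2 = dx)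
    (d2 : a20 * du0 + a21 * du1 + a22 * du2 = dy) :
    dx * (F0 * a02 + F1 * a12 + F2 * a22) =
      (a00 * a11 * a22 - a00 * a12 * a21 - a01 * a10 * a22 + a01 * a12 * a20 + a02 * a10 * a21
        - a02 * a11 * a20) * F2 * (u0 * du1 - u1 * du0) := by
  subst h1 h2 d1 d2
  linear_combination (a02 * (a10 * du0 + a11 * du1 + a12 * du2)) * E
    + (a12 - a02 * (a10 * u0 + a11 * u1 + a12 * u2)) * C
    + F2 * (a12 * (a20 * du0 + a21 * du1 + a22 * du2) - a22 * (a10 * du0 + a11 * du1 + a12 * du2)) * h0
    + F2 * (a22 * (a10 * u0 + a11 * u1 + a12 * u2) - a12 * (a20 * u0 + a21 * u1 + a22 * u2)) * d0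

end Groth.Agent.Lib.LeadPC
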