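import Groth.Agent.Lib.LeadKP1
import Groth.Agent.Lib.LeadPC1

/-! The graded evaluation map `Xᵢ ↦ vᵢ T` and its kernel. -/

namespace Groth.Agent.Lib.LeadKP

open MvPolynomial

variable {k K : Type*} [Field k] [Field K] [Algebra k K]

theorem algInd_pair {u u' : K} (hu : u ≠ 0) (ht : Transcendental k (u' / u)) :
    AlgebraicIndependent k
      ![Polynomial.C u * Polynomial.X, Polynomial.C u' * (Polynomial.X : Polynomial K)] := by
  classical
  rw [algebraicIndependent_iff]
  intro p hp
  by_contra hne
  obtain ⟨d, hd⟩ := MvPolynomial.ne_zero_iff.mp hne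
  have hexp : aeval ![Polynomial.C u * Polynomial.X,
      Polynomial.C u' * (Polynomial.X : Polynomial K)] p =
      ∑ m ∈ p.support, Polynomial.monomial (m 0 + m 1)
        (algebraMap k K (coeff m p) * u ^ (m 0 + m 1) * (u' / u) ^ (m 1)) := by
    rw [aeval_def, eval₂_eq']
    apply Finset.sum_congr rfl
    intro m _
    rw [Fin.prod_univ_two]
    simp only [Matrix.cons_val_zero, Matrix.cons_val_one, mul_pow, ← Polynomial.C_pow,
      Polynomial.algebraMap_apply, Polynomial.C_mul_X_pow_eq_monomial]
    rw [← Polynomial.C_mul_monomial, ← mul_assoc, Polynomial.C_mul_monomial,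
      Polynomial.monomial_mul_monomial, Polynomial.C_mul_monomial]
    congr 1
    rw [div_pow, pow_add]
    field_simp
  rw [hexp] at hp
  set n := d 0 + d 1 with hn
  let q : Polynomial k := ∑ m ∈ p.support.filter (fun m => m 0 + m 1 = n),
    Polynomial.monomial (m 1) (coeff m p)
  have hq : Polynomial.aeval (u' / u) q = 0 := by
    have h1 := congrArg (fun P => Polynomial.coeff P n) hp
    simp only [Polynomial.finset_sum_coeff, Polynomial.coeff_monomial, Polynomial.coeff_zero] at h1
    rw [← Finset.sum_filter] at h1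
    simp only [q, map_sum, Polynomial.aeval_monomial]
    have h2 : ∑ m ∈ p.support.filter (fun m => m 0 + m 1 = n),
        algebraMap k K (coeff m p) * u ^ (m 0 + m 1) * (u' / u) ^ (m 1) =
        u ^ n * ∑ m ∈ p.support.filter (fun m => m 0 + m 1 = n),
          algebraMap k K (coeff m p) * (u' / u) ^ (m 1) := by
      rw [Finset.mul_sum]
      apply Finset.sum_congr rfl
      intro m hm
      rw [(Finset.mem_filter.mp hm).2]
      ring
    rw [h2] at h1
    exact (mul_eq_zero.mp h1).resolve_left (pow_ne_zero _ hu)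
  have hq0 : q = 0 := by
    by_contra hq0
    exact ht ⟨q, hq0, hq⟩
  have h3 := congrArg (fun P => Polynomial.coeff P (d 1)) hq0
  simp only [q, Polynomial.finset_sum_coeff, Polynomial.coeff_monomial, Polynomial.coeff_zero] at h3
  rw [← Finset.sum_filter, Finset.filter_filter] at h3
  have hsing : p.support.filter (fun m => m 0 + m 1 = n ∧ m 1 = d 1) = {d} := by
    ext m
    simp only [Finset.mem_filter, Finset.mem_singleton]
    constructor
    · rintro ⟨_, h1, h2⟩
      ext i
      fin_cases i
      · simp only [Fin.zero_eta]; omega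
      · exact h2
    · rintro rfl
      exact ⟨MvPolynomial.mem_support_iff.mpr hd, rfl, rfl⟩
  rw [hsing, Finset.sum_singleton] at h3
  exact hd h3

/-- the graded evaluation map `Xᵢ ↦ vᵢ T`. -/
noncomputable def gev {σ : Type*} (v : σ → K) : MvPolynomial σ k →ₐ[k] Polynomial K :=
  aeval fun i => Polynomial.C (v i) * Polynomial.X

lemma gev_X {σ : Type*} (v : σ → K) (i : σ) :
    gev (k := k) v (X i) = Polynomial.C (v i) * Polynomial.X := by
  simp [gev]

lemma gev_homog {σ : Type*} [Fintype σ] (v : σ → K) {g : MvPolynomial σ k} {d : ℕ}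
    (hg : g.IsHomogeneous d) : gev v g = Polynomial.C (aeval v g) * Polynomial.X ^ d := by
  have h1 : (fun i => Polynomial.C (v i) * (Polynomial.X : Polynomial K)) =
      fun i => Polynomial.X * (algebraMap K (Polynomial K) ∘ v) i := by
    funext i
    show Polynomial.C (v i) * Polynomial.X = Polynomial.X * Polynomial.C (v i)
    rw [mul_comm]
  rw [gev, h1, Groth.Agent.Lib.LeadPC.aeval_smul_of_homog g d hg, aeval_algebraMap_apply,
    Polynomial.algebraMap_apply, mul_comm]
  rfl

lemma coeff_gev {σ : Type*} [Fintype σ] (v : σ → K) (g : MvPolynomial σ k) (n : ℕ) :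
    (gev v g).coeff n = aeval v (homogeneousComponent n g) := by
  conv_lhs => rw [← sum_homogeneousComponent g]
  rw [map_sum, Polynomial.finset_sum_coeff]
  simp_rw [gev_homog v (homogeneousComponent_isHomogeneous _ g), Polynomial.coeff_C_mul_X_pow]
  rw [Finset.sum_ite_eq]
  split_ifs with h
  · rfl
  · rw [Finset.mem_range, not_lt] at h
    rw [homogeneousComponent_eq_zero _ _ (by omega), map_zero]

lemma gev_component_eq_zero {σ : Type*} [Fintype σ] (v : σ → K) {g : MvPolynomial σ k}
    (hg : gev v g = 0) (n : ℕ) : gev v (homogeneousComponent n g) = 0 := by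
  rw [gev_homog v (homogeneousComponent_isHomogeneous n g), ← coeff_gev, hg,
    Polynomial.coeff_zero, map_zero, zero_mul]

lemma gev_eq_zero_iff_of_homog {σ : Type*} [Fintype σ] (v : σ → K) {g : MvPolynomial σ k}
    {d : ℕ} (hg : g.IsHomogeneous d) : gev v g = 0 ↔ aeval v g = 0 := by
  rw [gev_homog v hg]
  constructor
  · intro h
    rcases mul_eq_zero.mp h with h | h
    · exact Polynomial.C_eq_zero.mp h
    · exact absurd h (pow_ne_zero _ Polynomial.X_ne_zero)
  · intro h
    rw [h, map_zero, zero_mul]

lemma homogeneousComponent_totalDegree_ne_zero {σ : Type*} {p : MvPolynomial σ k} (hp : p ≠ 0) :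
    homogeneousComponent p.totalDegree p ≠ 0 := by
  classical
  have hne : p.support.Nonempty := by
    rw [Finset.nonempty_iff_ne_empty, Ne, support_eq_empty]
    exact hp
  obtain ⟨m, hm, hmax⟩ := Finset.exists_mem_eq_sup p.support hne (fun s => s.sum fun _ e => e)
  intro h0
  have := congrArg (coeff m) h0
  rw [coeff_homogeneousComponent, coeff_zero] at this
  have hdeg : Finsupp.degree m = p.totalDegree := by
    rw [totalDegree, hmax]
    rfl
  rw [if_pos hdeg] at this
  exact (mem_support_iff.mp hm) this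

/-- A nonzero kernel of the graded evaluation contains an irreducible homogeneous element. -/
theorem exists_irreducible_homog {σ : Type*} [Fintype σ] (v : σ → K)
    (h : ∃ g : MvPolynomial σ k, g ≠ 0 ∧ gev v g = 0) :
    ∃ f : MvPolynomial σ k, Irreducible f ∧ f.IsHomogeneous f.totalDegree ∧ gev v f = 0 := by
  classical
  obtain ⟨g, hg0, hg⟩ := h
  have hex : ∃ d : ℕ, ∃ h : MvPolynomial σ k, h ≠ 0 ∧ h.IsHomogeneous d ∧ gev v h = 0 :=
    ⟨g.totalDegree, _, homogeneousComponent_totalDegree_ne_zero hg0,
      homogeneousComponent_isHomogeneous _ g, gev_component_eq_zero v hg _⟩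
  obtain ⟨f, hf0, hfh, hf⟩ := Nat.find_spec hex
  have hmin : ∀ d (h : MvPolynomial σ k), h ≠ 0 → h.IsHomogeneous d → gev v h = 0 →
      Nat.find hex ≤ d := fun d h h0 hh hv => Nat.find_min' hex ⟨h, h0, hh, hv⟩
  have hftd : f.totalDegree = Nat.find hex := hfh.totalDegree hf0
  refine ⟨f, ?_, by rw [hftd]; exact hfh, hf⟩
  have key : ∀ p q : MvPolynomial σ k, f = p * q → gev v p = 0 → IsUnit q := by
    intro p q hpq hp
    have hp0 : p ≠ 0 := by rintro rfl; exact hf0 (by rw [hpq, zero_mul])
    have hq0 : q ≠ 0 := by rintro rfl; exact hf0 (by rw [hpq, mul_zero])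
    have h1 : Nat.find hex ≤ p.totalDegree :=
      hmin _ _ (homogeneousComponent_totalDegree_ne_zero hp0)
        (homogeneousComponent_isHomogeneous _ p) (gev_component_eq_zero v hp _)
    have h2 : p.totalDegree + q.totalDegree = Nat.find hex := by
      rw [← totalDegree_mul_of_isDomain hp0 hq0, ← hpq, hftd]
    have h3 : q.totalDegree = 0 := by omega
    rw [totalDegree_eq_zero_iff_eq_C] at h3
    rw [h3]
    apply IsUnit.map
    rw [isUnit_iff_ne_zero]
    intro hc
    rw [hc, map_zero] at h3
    exact hq0 h3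
  refine ⟨?_, ?_⟩
  · intro hu
    have := hu.map (gev v)
    rw [hf] at this
    exact not_isUnit_zero this
  · intro p q hpq
    have : gev v p * gev v q = 0 := by rw [← map_mul, ← hpq, hf]
    rcases mul_eq_zero.mp this with hp | hq
    · right; exact key p q hpq hp
    · left; exact key q p (by rw [hpq, mul_comm]) hq

/-- Homogenization of `G` to degree `D` with respect to the variable `i₀`. -/
noncomputable def hom {σ : Type*} (i₀ : σ) (G : MvPolynomial σ k) (D : ℕ) : MvPolynomial σ k :=
  ∑ n ∈ Finset.range (D + 1), X i₀ ^ (D - n) * homogeneousComponent n G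

lemma hom_isHomogeneous {σ : Type*} (i₀ : σ) (G : MvPolynomial σ k) (D : ℕ) :
    (hom i₀ G D).IsHomogeneous D := by
  apply IsHomogeneous.sum
  intro n hn
  rw [Finset.mem_range] at hn
  have : D = (D - n) + n := by omega
  conv_rhs => rw [this]
  exact (isHomogeneous_X_pow i₀ (D - n)).mul (homogeneousComponent_isHomogeneous n G)

lemma map_hom {σ : Type*} {B : Type*} [CommRing B] [Algebra k B] (i₀ : σ) (G : MvPolynomial σ k)
    {D : ℕ} (hD : G.totalDegree ≤ D) (θ : MvPolynomial σ k →ₐ[k] B) (hθ : θ (X i₀) = 1) :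
    θ (hom i₀ G D) = θ G := by
  rw [hom, map_sum]
  simp_rw [map_mul, map_pow, hθ, one_pow, one_mul]
  rw [← map_sum]
  congr 1
  conv_rhs => rw [← sum_homogeneousComponent G]
  symm
  apply Finset.sum_subset
  · intro n hn
    rw [Finset.mem_range] at hn ⊢
    omega
  · intro n _ hn
    rw [Finset.mem_range, not_lt] at hn
    exact homogeneousComponent_eq_zero _ _ (by omega)

/-- Principal kernel for three homogeneous coordinates. -/
theorem ker_gev_eq_span (v : Fin 3 → K) (i₀ : Fin 3) (hu : v (i₀.succAbove 0) ≠ 0)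
    (ht : Transcendental k (v (i₀.succAbove 1) / v (i₀.succAbove 0)))
    {f : MvPolynomial (Fin 3) k} (hf : Irreducible f) (hvf : gev v f = 0) :
    RingHom.ker (gev (k := k) v) = Ideal.span {f} := by
  apply ker_eq_span_mv i₀ (gev v) _ hf hvf
  rw [← algebraicIndependent_equiv (finSuccAboveEquiv i₀)]
  have : ((fun i : {i // i ≠ i₀} => gev (k := k) v (X i.1)) ∘ (finSuccAboveEquiv i₀)) =
      ![Polynomial.C (v (i₀.succAbove 0)) * Polynomial.X,
        Polynomial.C (v (i₀.succAbove 1)) * (Polynomial.X : Polynomial K)] := by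
    funext l
    fin_cases l
    · simp [gev_X, finSuccAboveEquiv]
    · simp [gev_X, finSuccAboveEquiv]
  rw [this]
  exact algInd_pair hu ht

end Groth.Agent.Lib.LeadKP
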