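import Groth.Agent.Lib.LeadPD3

/-! Plane curves: `deg [1 : x : y] = totalDegree f`. -/

namespace Groth.Agent.Lib.LeadPD

open MvPolynomial FunFld WithZero IntermediateField Groth.Agent.Lib.LeadFF Groth.Agent.Lib.LeadWD
  Groth.Agent.Lib.LeadIO

variable {k : Type*} {K : Type*} [Field k] [Field K] [Algebra k K]

theorem deg_mapDiv_eq_totalDegree [IsAlgClosed k] (hK : IsFunctionField k K) (x y : K)
    (hxy : IntermediateField.adjoin k ({x, y} : Set K) = ⊤) (f : MvPolynomial (Fin 2) k)
    (hf : Irreducible f) (hfxy : aeval ![x, y] f = 0) :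
    (mapDiv k ![(1 : K), x, y]).deg = f.totalDegree := by
  haveI : Infinite k := IsAlgClosed.instInfinite
  obtain ⟨l, hl⟩ := exists_shear hf.ne_zero
  set d := f.totalDegree with hd
  set g := shear l f with hgdef
  have hdeg : g.totalDegree ≤ d := totalDegree_shear_le l f
  have hirr : Irreducible g := irreducible_shear l hf
  set y' := y - algebraMap k K l * x with hy'def
  have hyy : y = y' + algebraMap k K l * x := by rw [hy'def]; ring
  have hg : aeval ![x, y'] g = 0 := by
    have : (aeval ![x, y']).comp (shear l) = aeval ![x, y] := by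
      apply MvPolynomial.algHom_ext
      intro i
      fin_cases i
      · simp [shear]
      · simp [shear, hy'def]
    rw [← hfxy]
    exact DFunLike.congr_fun this f
  have hy't : Transcendental k y' := by
    intro halg
    obtain ⟨b, hb⟩ := hK.2 y' halg
    have hx1 : ∀ P : Place k K, P.1 x ≤ 1 := fun P => by
      have := val_le_of_rel P hdeg hl hg
      rwa [max_eq_left (by rw [← hb]; exact P.2.1 b)] at this
    have hxL : x ∈ L (0 : Divisor k K) := fun P => by simpa using hx1 P
    rw [L_zero hK, Submodule.mem_one] at hxL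
    obtain ⟨a, ha⟩ := hxL
    obtain ⟨⟨t, ht, -⟩, -⟩ := hK
    apply ht
    have htmem : t ∈ IntermediateField.adjoin k ({x, y} : Set K) := by rw [hxy]; trivial
    have hle : IntermediateField.adjoin k ({x, y} : Set K) ≤ ⊥ := by
      rw [adjoin_le_iff]
      rintro z (rfl | hz)
      · exact IntermediateField.mem_bot.mpr ⟨a, ha⟩
      · rw [Set.mem_singleton_iff] at hz
        subst hz
        refine IntermediateField.mem_bot.mpr ⟨b + l * a, ?_⟩
        rw [map_add, map_mul, hb, ha, ← hyy]
    obtain ⟨c, hc⟩ := IntermediateField.mem_bot.mp (hle htmem)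
    rw [← hc]
    exact isAlgebraic_algebraMap c
  have hy'0 : y' ≠ 0 := fun h => hy't (h ▸ isAlgebraic_zero)
  have hy'k : y' ∉ Set.range (algebraMap k K) := by
    rintro ⟨c, hc⟩
    exact hy't (hc ▸ isAlgebraic_algebraMap c)
  have hgen : IntermediateField.adjoin k ({x, y'} : Set K) = ⊤ := by
    rw [eq_top_iff, ← hxy, adjoin_le_iff]
    rintro z (rfl | hz)
    · exact subset_adjoin k _ (by simp)
    · rw [Set.mem_singleton_iff] at hz
      subst hz
      rw [hyy]
      have hx' : x ∈ IntermediateField.adjoin k ({x, y'} : Set K) := subset_adjoin k _ (by simp)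
      have hy'' : y' ∈ IntermediateField.adjoin k ({x, y'} : Set K) := subset_adjoin k _ (by simp)
      exact add_mem hy'' (mul_mem (IntermediateField.algebraMap_mem _ l) hx')
  rw [mapDiv_eq_zdiv hK l hdeg hl hg hy'0, finrank_adjoin_eq_deg_pdiv hK hy'k,
    finrank_of_rel hy't hgen hirr hdeg hl hg]

end Groth.Agent.Lib.LeadPD
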