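import Groth.Agent.Lib.LeadPN6
import Groth.Agent.Lib.LeadPD4
import Groth.Agent.Lib.LeadFF24
import Mathlib.RingTheory.AlgebraicIndependent.AlgebraicClosure

/-! Nonsingular plane models: `2g = (d-1)(d-2)`. -/

namespace Groth.Agent.Lib.LeadPN

open MvPolynomial FunFld WithZero IntermediateField Groth.Agent.Lib.LeadFF Groth.Agent.Lib.LeadWD
  Groth.Agent.Lib.LeadPD Groth.Agent.Lib.LeadIO

variable {k K : Type*} [Field k] [Field K] [Algebra k K]

lemma not_algebraicIndependent (hK : IsFunctionField k K) (x y : K) :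
    ¬ AlgebraicIndependent k ![x, y] := by
  intro h
  have hx : Transcendental k x := by
    have := h.transcendental 0
    simpa using this
  haveI := finite_over_adjoin hK hx
  have hy : IsAlgebraic k⟮x⟯ y := Algebra.IsAlgebraic.isAlgebraic y
  rw [IntermediateField.isAlgebraic_adjoin_iff] at hy
  have h2 := ((AlgebraicIndependent.iff_transcendental_adjoin_image (1 : Fin 2)).mp h).2
  have himg : (![x, y] '' ({1}ᶜ : Set (Fin 2))) = {x} := by
    ext z
    constructor
    · rintro ⟨i, hi, rfl⟩
      fin_cases i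
      · simp
      · exfalso; simp at hi
    · rintro rfl
      exact ⟨0, by simp, rfl⟩
  rw [himg] at h2
  exact h2 (by simpa using hy)

lemma exists_irreducible_rel (hK : IsFunctionField k K) (x y : K) :
    ∃ f : MvPolynomial (Fin 2) k, Irreducible f ∧ aeval ![x, y] f = 0 := by
  have hni := not_algebraicIndependent hK x y
  rw [algebraicIndependent_iff_injective_aeval] at hni
  have hker : RingHom.ker (aeval ![x, y] : MvPolynomial (Fin 2) k →ₐ[k] K).toRingHom ≠ ⊥ := by
    intro h
    exact hni ((RingHom.injective_iff_ker_eq_bot _).mpr h)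
  have hprime : (RingHom.ker (aeval ![x, y] : MvPolynomial (Fin 2) k →ₐ[k] K).toRingHom).IsPrime :=
    RingHom.ker_isPrime _
  obtain ⟨f, hf, hfp⟩ := hprime.exists_mem_prime_of_ne_bot hker
  exact ⟨f, hfp.irreducible, hf⟩

theorem exists_shear_data [IsAlgClosed k] (hK : IsFunctionField k K) (x y : K)
    (hxy : IntermediateField.adjoin k ({x, y} : Set K) = ⊤) :
    ∃ (l : k) (g : MvPolynomial (Fin 2) k) (d : ℕ), g.totalDegree ≤ d ∧
      g.coeff (Finsupp.single 0 d) ≠ 0 ∧ aeval ![x, y - algebraMap k K l * x] g = 0 ∧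
      IntermediateField.adjoin k ({x, y - algebraMap k K l * x} : Set K) = ⊤ ∧
      mapDiv k ![(1 : K), x, y] = zdiv k (y - algebraMap k K l * x)⁻¹ ∧
      (mapDiv k ![(1 : K), x, y]).deg = d := by
  haveI : Infinite k := IsAlgClosed.instInfinite
  obtain ⟨f, hf, hfxy⟩ := exists_irreducible_rel hK x y
  obtain ⟨l, hl⟩ := exists_shear hf.ne_zero
  set d := f.totalDegree with hd
  set g := shear l f with hgdef
  have hdeg : g.totalDegree ≤ d := totalDegree_shear_le l f
  set y' := y - algebraMap k K l * x with hy'def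
  have hyy : y = y' + algebraMap k K l * x := by rw [hy'def]; ring
  have hg : aeval ![x, y'] g = 0 := by
    have : (aeval ![x, y']).comp (shear l) = aeval ![x, y] := by
      apply MvPolynomial.algHom_ext
      intro i
      fin_cases i
      · simp [shear]
      · simp [shear, hy'def]
    rw [← hfxy]
    exact DFunLike.congr_fun this f
  have hy't : Transcendental k y' := by
    intro halg
    obtain ⟨b, hb⟩ := hK.2 y' halg
    have hx1 : ∀ P : Place k K, P.1 x ≤ 1 := fun P => by
      have := val_le_of_rel P hdeg hl hg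
      rwa [max_eq_left (by rw [← hb]; exact P.2.1 b)] at this
    have hxL : x ∈ L (0 : Divisor k K) := fun P => by simpa using hx1 P
    rw [L_zero hK, Submodule.mem_one] at hxL
    obtain ⟨a, ha⟩ := hxL
    obtain ⟨⟨t, ht, -⟩, -⟩ := hK
    apply ht
    have htmem : t ∈ IntermediateField.adjoin k ({x, y} : Set K) := by rw [hxy]; trivial
    have hle : IntermediateField.adjoin k ({x, y} : Set K) ≤ ⊥ := by
      rw [adjoin_le_iff]
      rintro z (rfl | hz)
      · exact IntermediateField.mem_bot.mpr ⟨a, ha⟩
      · rw [Set.mem_singleton_iff] at hz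
        subst hz
        refine IntermediateField.mem_bot.mpr ⟨b + l * a, ?_⟩
        rw [map_add, map_mul, hb, ha, ← hyy]
    obtain ⟨c, hc⟩ := IntermediateField.mem_bot.mp (hle htmem)
    rw [← hc]
    exact isAlgebraic_algebraMap c
  have hy'0 : y' ≠ 0 := fun h => hy't (h ▸ isAlgebraic_zero)
  have hgen : IntermediateField.adjoin k ({x, y'} : Set K) = ⊤ := by
    rw [eq_top_iff, ← hxy, adjoin_le_iff]
    rintro z (rfl | hz)
    · exact subset_adjoin k _ (by simp)
    · rw [Set.mem_singleton_iff] at hz
      subst hz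
      rw [hyy]
      have hx' : x ∈ IntermediateField.adjoin k ({x, y'} : Set K) := subset_adjoin k _ (by simp)
      have hy'' : y' ∈ IntermediateField.adjoin k ({x, y'} : Set K) := subset_adjoin k _ (by simp)
      exact add_mem hy'' (mul_mem (IntermediateField.algebraMap_mem _ l) hx')
  exact ⟨l, g, d, hdeg, hl, hg, hgen, mapDiv_eq_zdiv hK l hdeg hl hg hy'0,
    deg_mapDiv_eq_totalDegree hK x y hxy f hf hfxy⟩

/-- a nonsingular plane model of degree `d` has genus `(d-1)(d-2)/2`. -/
theorem two_genus_eq_of_nonsingular [IsAlgClosed k] (hK : IsFunctionField k K) (x y : K)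
    (hxy : IntermediateField.adjoin k ({x, y} : Set K) = ⊤)
    (hns : ∀ P : Place k K, IsNonsingularAt ![(1 : K), x, y] P) :
    2 * (genus k K : ℤ) =
      ((mapDiv k ![(1 : K), x, y]).deg - 1) * ((mapDiv k ![(1 : K), x, y]).deg - 2) := by
  apply le_antisymm (plane_genus_bound hK x y hxy)
  obtain ⟨l, g, d, hdeg, hl, hg, hgen, hmap, hd⟩ := exists_shear_data hK x y hxy
  set t := y - algebraMap k K l * x with htdef
  have hyy : y = t + algebraMap k K l * x := by rw [htdef]; ring
  have hspan : Submodule.span k (Set.range ![(1 : K), x, y]) =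
      Submodule.span k (Set.range ![(1 : K), x, t]) := by
    apply le_antisymm
    · rw [Submodule.span_le]
      rintro _ ⟨i, rfl⟩
      fin_cases i
      · exact Submodule.subset_span ⟨0, rfl⟩
      · exact Submodule.subset_span ⟨1, rfl⟩
      · show y ∈ _
        rw [hyy, ← Algebra.smul_def]
        exact add_mem (Submodule.subset_span ⟨2, rfl⟩)
          (Submodule.smul_mem _ _ (Submodule.subset_span ⟨1, rfl⟩))
    · rw [Submodule.span_le]
      rintro _ ⟨i, rfl⟩
      fin_cases i
      · exact Submodule.subset_span ⟨0, rfl⟩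
      · exact Submodule.subset_span ⟨1, rfl⟩
      · show t ∈ _
        rw [htdef, ← Algebra.smul_def]
        exact sub_mem (Submodule.subset_span ⟨2, rfl⟩)
          (Submodule.smul_mem _ _ (Submodule.subset_span ⟨1, rfl⟩))
  have hns' : ∀ P : Place k K, IsNonsingularAt ![(1 : K), x, t] P :=
    fun P => isNonsingularAt_of_span_eq _ _ hspan P (hns P)
  have hd' : (zdiv k t⁻¹).deg = d := by rw [← hmap, hd]
  have := genus_ge hK hgen hdeg hl hg hns' hd'
  rw [hd]
  exact this

end Groth.Agent.Lib.LeadPN
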