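import Groth.Agent.Lib.LeadKP2
import Groth.Agent.Lib.LeadPN7

/-! S11073: the ideal of a projective plane curve is principal. -/

namespace Groth.Agent.Lib.LeadKP

open MvPolynomial FunFld Groth.Agent.Lib.LeadFF Groth.Agent.Lib.LeadPN

variable {k K : Type*} [Field k] [Field K] [Algebra k K]

lemma transcendental_or (hK : IsFunctionField k K) (x y : K)
    (hxy : IntermediateField.adjoin k ({x, y} : Set K) = ⊤) :
    Transcendental k x ∨ Transcendental k y := by
  by_contra hcon
  push Not at hcon
  obtain ⟨hx, hy⟩ := hcon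
  simp only [Transcendental, not_not] at hx hy
  obtain ⟨z, hz, _⟩ := hK.1
  have hzmem : z ∈ IntermediateField.adjoin k ({x, y} : Set K) := by rw [hxy]; trivial
  have halg : Algebra.IsAlgebraic k (IntermediateField.adjoin k ({x, y} : Set K)) := by
    apply IntermediateField.isAlgebraic_adjoin
    intro w hw
    rcases hw with rfl | rfl
    · exact hx.isIntegral
    · exact hy.isIntegral
  have := halg.isAlgebraic ⟨z, hzmem⟩
  apply hz
  have h2 := this.algHom (IntermediateField.val (IntermediateField.adjoin k ({x, y} : Set K)))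
  simpa using h2

/-- A nonzero element of the kernel of the graded evaluation for `(1 : x : y)`. -/
lemma exists_ne_zero_gev (hK : IsFunctionField k K) (x y : K) :
    ∃ g : MvPolynomial (Fin 3) k, g ≠ 0 ∧ gev ![(1 : K), x, y] g = 0 := by
  classical
  obtain ⟨F, hF, hFxy⟩ := exists_irreducible_rel hK x y
  set G : MvPolynomial (Fin 3) k := rename Fin.succ F with hG
  have hG0 : G ≠ 0 := by
    intro h
    apply hF.ne_zero
    apply rename_injective Fin.succ (Fin.succ_injective 2)
    rw [← hG, h, map_zero]
  refine ⟨hom 0 G G.totalDegree, ?_, ?_⟩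
  · intro h0
    apply hG0
    let θ : MvPolynomial (Fin 3) k →ₐ[k] MvPolynomial (Fin 3) k :=
      aeval (fun i => if i = 0 then 1 else X i)
    have h1 : θ (hom 0 G G.totalDegree) = θ G := map_hom 0 G le_rfl θ (by simp [θ])
    rw [h0, map_zero] at h1
    have h2 : θ G = G := by
      rw [hG, aeval_rename]
      have : ((fun i : Fin 3 => if i = 0 then (1 : MvPolynomial (Fin 3) k) else X i) ∘ Fin.succ) =
          fun i => X (Fin.succ i) := by
        funext i
        simp [Fin.succ_ne_zero]
      rw [this]
      rw [← aeval_X_left_apply (rename Fin.succ F), aeval_rename]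
      rfl
    rw [← h2, ← h1]
  · rw [gev_eq_zero_iff_of_homog _ (hom_isHomogeneous 0 G G.totalDegree)]
    rw [map_hom 0 G le_rfl (aeval ![(1 : K), x, y]) (by simp)]
    rw [hG, aeval_rename]
    have : (![(1 : K), x, y] ∘ Fin.succ) = ![x, y] := by
      funext i
      fin_cases i <;> rfl
    rw [this, hFxy]

/-- S11073. -/
theorem plane_ker_principal (hK : IsFunctionField k K) (x y : K)
    (hxy : IntermediateField.adjoin k ({x, y} : Set K) = ⊤) :
    ∃ f : MvPolynomial (Fin 3) k, Irreducible f ∧ f.IsHomogeneous f.totalDegree ∧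
      RingHom.ker (gev (k := k) ![(1 : K), x, y]) = Ideal.span {f} := by
  obtain ⟨f, hf, hfh, hfv⟩ := exists_irreducible_homog _ (exists_ne_zero_gev hK x y)
  refine ⟨f, hf, hfh, ?_⟩
  rcases transcendental_or hK x y hxy with hx | hy
  · apply ker_gev_eq_span _ 2 _ _ hf hfv
    · show (1 : K) ≠ 0
      exact one_ne_zero
    · show Transcendental k (x / 1)
      rwa [div_one]
  · apply ker_gev_eq_span _ 1 _ _ hf hfv
    · show (1 : K) ≠ 0
      exact one_ne_zero
    · show Transcendental k (y / 1)
      rwa [div_one]

end Groth.Agent.Lib.LeadKP
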