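import Groth.Agent.Lib.LeadPC2
import Groth.Agent.Lib.LeadHS16

/-! Second-order Taylor expansion of polynomials at a place; tangent lines of plane curves. -/

namespace Groth.Agent.Lib.LeadPC

open MvPolynomial FunFld WithZero Groth.Agent.Lib.LeadFF Groth.Agent.Lib.LeadHS

universe u v
variable {k : Type u} {K : Type v} [Field k] [Field K] [Algebra k K]

lemma lt_one_iff_le (x : WithZero (Multiplicative ℤ)) : x < 1 ↔ x ≤ exp (-1 : ℤ) := by
  rw [← exp_zero, zm0_lt_exp_iff]; rfl

lemma mul_le_exp_neg_two {x y : WithZero (Multiplicative ℤ)} (hx : x < 1) (hy : y < 1) :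
    x * y ≤ exp (-2 : ℤ) := by
  rw [lt_one_iff_le] at hx hy
  calc x * y ≤ exp (-1 : ℤ) * exp (-1 : ℤ) := mul_le_mul' hx hy
    _ = exp (-2 : ℤ) := by rw [← exp_add]; rfl

/-- second order Taylor expansion at a place. -/
theorem taylor_two {σ : Type*} [Fintype σ] [DecidableEq σ] (P : Place k K) (α : σ → k)
    (h : σ → K) (hh : ∀ i, P.1 (h i) < 1) (f : MvPolynomial σ k) :
    P.1 (aeval (fun i => algebraMap k K (α i) + h i) f - algebraMap k K (eval α f)
      - ∑ i, algebraMap k K (eval α (pderiv i f)) * h i) ≤ exp (-2 : ℤ) := by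
  induction f using MvPolynomial.induction_on with
  | C a => simp
  | add p q hp hq =>
    have e : aeval (fun i => algebraMap k K (α i) + h i) (p + q) - algebraMap k K (eval α (p + q))
        - ∑ i, algebraMap k K (eval α (pderiv i (p + q))) * h i =
        (aeval (fun i => algebraMap k K (α i) + h i) p - algebraMap k K (eval α p)
          - ∑ i, algebraMap k K (eval α (pderiv i p)) * h i) +
        (aeval (fun i => algebraMap k K (α i) + h i) q - algebraMap k K (eval α q)
          - ∑ i, algebraMap k K (eval α (pderiv i q)) * h i) := by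
      simp only [map_add, add_mul, Finset.sum_add_distrib]
      ring
    rw [e]
    exact le_trans (P.1.map_add _ _) (max_le hp hq)
  | mul_X p j hp =>
    set Lp := ∑ i, algebraMap k K (eval α (pderiv i p)) * h i with hLp
    set Rp := aeval (fun i => algebraMap k K (α i) + h i) p - algebraMap k K (eval α p) - Lp
      with hRp
    have hLp1 : P.1 Lp < 1 := by
      apply Valuation.map_sum_lt P.1 one_ne_zero
      intro i _
      rw [map_mul]
      calc P.1 (algebraMap k K _) * P.1 (h i) ≤ 1 * P.1 (h i) := mul_le_mul' (P.2.1 _) le_rfl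
        _ = P.1 (h i) := one_mul _
        _ < 1 := hh i
    have hsum : ∑ i, algebraMap k K (eval α (pderiv i (p * X j))) * h i =
        algebraMap k K (α j) * Lp + algebraMap k K (eval α p) * h j := by
      have : ∀ i, algebraMap k K (eval α (pderiv i (p * X j))) * h i =
          algebraMap k K (α j) * (algebraMap k K (eval α (pderiv i p)) * h i) +
            (if i = j then algebraMap k K (eval α p) * h j else 0) := by
        intro i
        rw [Derivation.leibniz, pderiv_X]
        by_cases hij : i = j
        · subst hij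
          simp only [Pi.single_eq_same, smul_eq_mul, mul_one, map_add, map_mul, eval_X, if_true]
          ring
        · simp only [Pi.single_apply, Ne.symm hij, hij, if_false, smul_eq_mul, mul_zero,
            zero_add, map_mul, eval_X, add_zero]
          ring
      rw [Finset.sum_congr rfl fun i _ => this i, Finset.sum_add_distrib, ← Finset.mul_sum,
        Finset.sum_ite_eq' Finset.univ j, if_pos (Finset.mem_univ j)]
    have e : aeval (fun i => algebraMap k K (α i) + h i) (p * X j)
        - algebraMap k K (eval α (p * X j))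
        - ∑ i, algebraMap k K (eval α (pderiv i (p * X j))) * h i =
        Lp * h j + Rp * (algebraMap k K (α j) + h j) := by
      rw [hsum, hRp]
      simp only [map_mul, aeval_X, eval_X]
      ring
    rw [e]
    refine le_trans (P.1.map_add _ _) (max_le ?_ ?_)
    · rw [map_mul]; exact mul_le_exp_neg_two hLp1 (hh j)
    · rw [map_mul]
      have h1 : P.1 (algebraMap k K (α j) + h j) ≤ 1 :=
        le_trans (P.1.map_add _ _) (max_le (P.2.1 _) (hh j).le)
      calc P.1 Rp * P.1 (algebraMap k K (α j) + h j) ≤ exp (-2 : ℤ) * 1 := mul_le_mul' hp h1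
        _ = exp (-2 : ℤ) := mul_one _

end Groth.Agent.Lib.LeadPC

namespace Groth.Agent.Lib.LeadPC

open MvPolynomial FunFld WithZero Groth.Agent.Lib.LeadFF Groth.Agent.Lib.LeadHS

universe u v
variable {k : Type u} {K : Type v} [Field k] [Field K] [Algebra k K]

theorem tangent_line [IsAlgClosed k] (hK : IsFunctionField k K) (φ : Fin 3 → K)
    (hφ : LinearIndependent k φ) (f : MvPolynomial (Fin 3) k)
    (hhom : f.IsHomogeneous f.totalDegree) (hfφ : aeval φ f = 0) (P : Place k K) (j : Fin 3)
    (a : Fin 3 → P.O) (ha : ∀ i, ((a i : P.O) : K) = φ i / φ j) (c : Fin 3 → k)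
    (hc : ∀ i, algebraMap k (IsLocalRing.ResidueField P.O) (c i) =
      aeval (fun l => IsLocalRing.residue P.O (a l)) (pderiv i f)) :
    P.1 (∑ i, c i • (φ i / φ j)) ≤ exp (-2 : ℤ) := by
  classical
  set ψ : Fin 3 → K := fun i => φ i / φ j with hψ
  have hψle : ∀ i, P.1 (ψ i) ≤ 1 := by
    intro i
    have := (a i).2
    rw [ha i] at this
    exact (Valuation.mem_valuationSubring_iff P.1 _).mp this
  choose α hα using fun i => exists_const_sub_lt_one hK P (hψle i)
  set h : Fin 3 → K := fun i => ψ i - algebraMap k K (α i) with hh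
  have hψeq : (fun i => algebraMap k K (α i) + h i) = ψ := by
    funext i; simp [hh]
  have hfψ : aeval ψ f = 0 := by
    have := aeval_smul_of_homog f f.totalDegree hhom (φ j)⁻¹ φ
    rw [hfφ, mul_zero] at this
    have e : ψ = fun i => (φ j)⁻¹ * φ i := by
      funext i; rw [hψ]; ring
    rw [e, this]
  -- residues
  have hres : ∀ i, IsLocalRing.residue P.O (a i) =
      algebraMap k (IsLocalRing.ResidueField P.O) (α i) := by
    intro i
    have h1 := evalP_eq_of_sub_lt P (hα i)
    rw [evalP_of_le P (hψle i)] at h1
    rw [← h1]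
    congr 1
    exact Subtype.ext (ha i)
  have hinj : Function.Injective (algebraMap k (IsLocalRing.ResidueField P.O)) :=
    (algebraMap k (IsLocalRing.ResidueField P.O)).injective
  have hci : ∀ i, c i = eval α (pderiv i f) := by
    intro i
    apply hinj
    rw [hc i]
    have : (fun l => IsLocalRing.residue P.O (a l)) =
        (algebraMap k (IsLocalRing.ResidueField P.O)) ∘ α := by
      funext l; exact hres l
    rw [this, aeval_def]
    have h2 := eval₂_comp_right (algebraMap k (IsLocalRing.ResidueField P.O)) (RingHom.id k) α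
      (pderiv i f)
    rw [MvPolynomial.map_id] at h2
    exact h2.symm
  have hT := taylor_two P α h hα f
  rw [hψeq, hfψ, zero_sub] at hT
  set L := ∑ i, algebraMap k K (eval α (pderiv i f)) * h i with hL
  have hL1 : P.1 L < 1 := by
    apply Valuation.map_sum_lt P.1 one_ne_zero
    intro i _
    rw [map_mul]
    calc P.1 (algebraMap k K _) * P.1 (h i) ≤ 1 * P.1 (h i) := mul_le_mul' (P.2.1 _) le_rfl
      _ = P.1 (h i) := one_mul _
      _ < 1 := hα i
  have hlt2 : (exp (-2 : ℤ) : WithZero (Multiplicative ℤ)) < 1 := by
    rw [← exp_zero, exp_lt_exp]; omega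
  have hf0 : eval α f = 0 := by
    by_contra hne
    have h1 : P.1 (algebraMap k K (eval α f)) = 1 := place_trivOn P _ hne
    have h2 : algebraMap k K (eval α f) = -(-algebraMap k K (eval α f) - L) - L := by ring
    have h3 : P.1 (algebraMap k K (eval α f)) < 1 := by
      rw [h2]
      refine lt_of_le_of_lt (P.1.map_sub _ _) (max_lt ?_ hL1)
      rw [Valuation.map_neg]
      exact lt_of_le_of_lt hT hlt2
    rw [h1] at h3
    exact lt_irrefl _ h3
  rw [hf0, map_zero, neg_zero, zero_sub, Valuation.map_neg] at hT
  -- Euler
  have hE : ∑ i, α i * eval α (pderiv i f) = 0 := by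
    have := congrArg (eval α) hhom.sum_X_mul_pderiv
    rw [map_sum, map_nsmul, hf0, smul_zero] at this
    simpa using this
  have hfinal : ∑ i, c i • (φ i / φ j) = L := by
    have h1 : ∀ i, c i • (φ i / φ j) =
        algebraMap k K (α i * eval α (pderiv i f)) + algebraMap k K (eval α (pderiv i f)) * h i := by
      intro i
      rw [hci i, Algebra.smul_def, map_mul]
      show _ * ψ i = _
      rw [hh]
      ring
    rw [Finset.sum_congr rfl fun i _ => h1 i, Finset.sum_add_distrib, ← map_sum, hE, map_zero,
      zero_add]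
  rw [hfinal]
  exact hT

end Groth.Agent.Lib.LeadPC
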