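import Groth.Agent.Lib.LeadKP3
import Groth.Agent.Lib.LeadPC3

/-! Local algebra at a point of a curve: Taylor expansions with remainders in the chart algebra,
and the principal-maximal-ideal criterion. -/

namespace Groth.Agent.Lib.LeadKP

open MvPolynomial FunFld WithZero Groth.Agent.Lib.LeadFF

variable {k K : Type*} [Field k] [Field K] [Algebra k K]

/-- first-order decomposition in the algebra generated by the `ψ i`. -/
lemma adjoin_decomp {σ : Type*} [Fintype σ] [DecidableEq σ] (ψ : σ → K) (α : σ → k) :
    ∀ u ∈ Algebra.adjoin k (Set.range ψ), ∃ (c : k) (g : σ → K),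
      (∀ i, g i ∈ Algebra.adjoin k (Set.range ψ)) ∧
        u = algebraMap k K c + ∑ i, (ψ i - algebraMap k K (α i)) * g i := by
  intro u hu
  induction hu using Algebra.adjoin_induction with
  | mem x hx =>
    obtain ⟨i, rfl⟩ := hx
    refine ⟨α i, fun l => if l = i then 1 else 0, ?_, ?_⟩
    · intro l
      dsimp only
      split_ifs
      · exact one_mem _
      · exact zero_mem _
    · simp
  | algebraMap a =>
    exact ⟨a, fun _ => 0, fun _ => zero_mem _, by simp⟩
  | add x y _ _ hx hy =>
    obtain ⟨c, g, hg, rfl⟩ := hx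
    obtain ⟨c', g', hg', rfl⟩ := hy
    refine ⟨c + c', fun i => g i + g' i, fun i => add_mem (hg i) (hg' i), ?_⟩
    simp only [mul_add, Finset.sum_add_distrib, map_add]
    ring
  | mul x y hxm _ hx hy =>
    obtain ⟨c, g, hg, hxe⟩ := hx
    obtain ⟨c', g', hg', hye⟩ := hy
    refine ⟨c * c', fun i => g i * algebraMap k K c' + x * g' i,
      fun i => add_mem (mul_mem (hg i) (Subalgebra.algebraMap_mem _ _)) (mul_mem hxm (hg' i)), ?_⟩
    have e1 : ∑ i, (ψ i - algebraMap k K (α i)) * (g i * algebraMap k K c' + x * g' i) =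
        (∑ i, (ψ i - algebraMap k K (α i)) * g i) * algebraMap k K c' +
          x * ∑ i, (ψ i - algebraMap k K (α i)) * g' i := by
      rw [Finset.sum_mul, Finset.mul_sum, ← Finset.sum_add_distrib]
      apply Finset.sum_congr rfl
      intro i _
      ring
    rw [e1, map_mul]
    conv_lhs => rw [hye]
    conv_lhs => rw [mul_add]
    conv_lhs => enter [1]; rw [hxe]
    ring

/-- second-order Taylor expansion with remainder in a subalgebra. -/
lemma taylor_rem {σ : Type*} [Fintype σ] [DecidableEq σ] (α : σ → k) (h : σ → K)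
    (A : Subalgebra k K) (hA : ∀ i, h i ∈ A) (f : MvPolynomial σ k) :
    ∃ r : σ → σ → K, (∀ i l, r i l ∈ A) ∧
      aeval (fun i => algebraMap k K (α i) + h i) f = algebraMap k K (eval α f) +
        ∑ i, algebraMap k K (eval α (pderiv i f)) * h i + ∑ i, ∑ l, h i * h l * r i l := by
  induction f using MvPolynomial.induction_on with
  | C a => exact ⟨fun _ _ => 0, fun _ _ => zero_mem _, by simp⟩
  | add p q hp hq =>
    obtain ⟨r, hr, hrp⟩ := hp
    obtain ⟨r', hr', hrq⟩ := hq
    refine ⟨fun i l => r i l + r' i l, fun i l => add_mem (hr i l) (hr' i l), ?_⟩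
    rw [map_add, hrp, hrq]
    simp only [map_add, add_mul, mul_add, Finset.sum_add_distrib]
    ring
  | mul_X p j hp =>
    obtain ⟨r, hr, hrp⟩ := hp
    refine ⟨fun i l => r i l * (algebraMap k K (α j) + h j) +
      (if l = j then algebraMap k K (eval α (pderiv i p)) else 0), ?_, ?_⟩
    · intro i l
      refine add_mem (mul_mem (hr i l) (add_mem (Subalgebra.algebraMap_mem _ _) (hA j))) ?_
      split_ifs
      · exact Subalgebra.algebraMap_mem _ _
      · exact zero_mem _
    · have hd : ∀ i, eval α (pderiv i (p * X j)) =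
          eval α (pderiv i p) * α j + (if i = j then eval α p else 0) := by
        intro i
        rw [Derivation.leibniz, pderiv_X]
        by_cases hij : i = j
        · subst hij
          simp only [Pi.single_eq_same, smul_eq_mul, mul_one, map_add, map_mul, eval_X, if_true]
          ring
        · have : Pi.single (M := fun _ => MvPolynomial σ k) i 1 j = 0 :=
            Pi.single_eq_of_ne (Ne.symm hij) _
          simp only [this, smul_eq_mul, if_neg hij, add_zero]
          rw [mul_zero, zero_add, map_mul, eval_X]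
          ring
      set L := ∑ i, algebraMap k K (eval α (pderiv i p)) * h i with hL
      set Q := ∑ i, ∑ l, h i * h l * r i l with hQ
      have e1 : ∑ i, algebraMap k K (eval α (pderiv i (p * X j))) * h i =
          algebraMap k K (α j) * L + algebraMap k K (eval α p) * h j := by
        simp only [hd, map_add, map_mul, add_mul]
        rw [Finset.sum_add_distrib, hL, Finset.mul_sum]
        congr 1
        · apply Finset.sum_congr rfl
          intro i _
          ring
        · have : ∀ i, algebraMap k K (if i = j then eval α p else 0) * h i =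
              if i = j then algebraMap k K (eval α p) * h j else 0 := by
            intro i
            split_ifs with hij
            · rw [hij]
            · rw [map_zero, zero_mul]
          rw [Finset.sum_congr rfl fun i _ => this i, Finset.sum_ite_eq' Finset.univ j]
          simp
      have e2 : ∑ i, ∑ l, h i * h l * (r i l * (algebraMap k K (α j) + h j) +
          (if l = j then algebraMap k K (eval α (pderiv i p)) else 0)) =
          (algebraMap k K (α j) + h j) * Q + h j * L := by
        rw [hQ, hL, Finset.mul_sum, Finset.mul_sum, ← Finset.sum_add_distrib]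
        apply Finset.sum_congr rfl
        intro i _
        have : ∀ l, h i * h l * (r i l * (algebraMap k K (α j) + h j) +
            (if l = j then algebraMap k K (eval α (pderiv i p)) else 0)) =
            (algebraMap k K (α j) + h j) * (h i * h l * r i l) +
              (if l = j then h i * h j * algebraMap k K (eval α (pderiv i p)) else 0) := by
          intro l
          split_ifs with hlj
          · rw [hlj]; ring
          · ring
        rw [Finset.sum_congr rfl fun l _ => this l, Finset.sum_add_distrib,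
          Finset.sum_ite_eq' Finset.univ j, ← Finset.mul_sum]
        simp only [Finset.mem_univ, if_true]
        ring
      rw [map_mul, aeval_X, hrp, e1, e2, map_mul, eval_X, map_mul]
      ring

/-- cancel a power: helper inequality. -/
lemma exp_le_of_mul {x y : WithZero (Multiplicative ℤ)} {n : ℕ} (hx : x < 1)
    (h : exp (-((n : ℤ) + 1)) ≤ x * y) : exp (-(n : ℤ)) ≤ y := by
  have hx' : x ≤ exp (-1 : ℤ) := zm0_lt_one_iff.mp hx
  have h1 : exp (-1 : ℤ) * exp (-(n : ℤ)) ≤ exp (-1 : ℤ) * y := by
    calc exp (-1 : ℤ) * exp (-(n : ℤ)) = exp (-((n : ℤ) + 1)) := by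
          rw [← exp_add]; congr 1; ring
      _ ≤ x * y := h
      _ ≤ exp (-1 : ℤ) * y := mul_le_mul' hx' le_rfl
  exact le_of_mul_le_mul_left h1 (by exact exp_pos)

/-- If the maximal ideal of the local ring of a chart algebra `A` at `P` is generated by one
element `t`, then the local ring is the whole valuation ring. -/
theorem loc_of_principal (P : Place k K) (A : Subalgebra k K) (hA1 : ∀ u ∈ A, P.1 u ≤ 1)
    (hfrac : ∀ z : K, ∃ p ∈ A, ∃ q ∈ A, q ≠ 0 ∧ z = p / q)
    (t w : K) (ht : t ∈ A) (ht0 : t ≠ 0) (hw : w ∈ A) (ht1 : P.1 t < 1) (hw1 : P.1 w = 1)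
    (hprin : ∀ u ∈ A, P.1 u < 1 → ∃ G ∈ A, u * w = t * G) :
    ∀ z : K, P.1 z ≤ 1 → ∃ u ∈ A, ∃ w' ∈ A, P.1 w' = 1 ∧ z * w' = u := by
  have hw0 : w ≠ 0 := by
    intro h; rw [h, map_zero] at hw1; exact zero_ne_one hw1
  -- Step A
  have stepA : ∀ n : ℕ, ∀ u ∈ A, u ≠ 0 → exp (-(n : ℤ)) ≤ P.1 u →
      ∃ m : ℕ, ∃ u' ∈ A, P.1 u' = 1 ∧ u * w ^ m = t ^ m * u' := by
    intro n
    induction n with
    | zero =>
      intro u hu _ hle
      refine ⟨0, u, hu, ?_, by simp⟩
      apply le_antisymm (hA1 u hu)
      simpa using hle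
    | succ n ih =>
      intro u hu hu0 hle
      by_cases h1 : P.1 u = 1
      · exact ⟨0, u, hu, h1, by simp⟩
      · have hlt : P.1 u < 1 := lt_of_le_of_ne (hA1 u hu) h1
        obtain ⟨G, hG, hGe⟩ := hprin u hu hlt
        have hG0 : G ≠ 0 := by
          rintro rfl
          rw [mul_zero] at hGe
          exact (mul_ne_zero hu0 hw0) hGe
        have hval : P.1 u = P.1 t * P.1 G := by
          have := congrArg P.1 hGe
          rwa [map_mul, map_mul, hw1, mul_one] at this
        have hGle : exp (-(n : ℤ)) ≤ P.1 G := by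
          apply exp_le_of_mul ht1
          rw [← hval]
          push_cast at hle
          exact hle
        obtain ⟨m, u', hu', hu'1, he⟩ := ih G hG hG0 hGle
        refine ⟨m + 1, u', hu', hu'1, ?_⟩
        calc u * w ^ (m + 1) = (u * w) * w ^ m := by ring
          _ = t * (G * w ^ m) := by rw [hGe]; ring
          _ = t ^ (m + 1) * u' := by rw [he]; ring
  have stepA' : ∀ u ∈ A, u ≠ 0 →
      ∃ m : ℕ, ∃ u' ∈ A, P.1 u' = 1 ∧ u * w ^ m = t ^ m * u' := by
    intro u hu hu0
    have hv0 : P.1 u ≠ 0 := (map_ne_zero _).mpr hu0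
    apply stepA (log (P.1 u)).natAbs u hu hu0
    conv_rhs => rw [← exp_log hv0]
    rw [exp_le_exp]
    have := Int.le_natAbs (a := -log (P.1 u))
    rw [Int.natAbs_neg] at this
    omega
  intro z hz
  by_cases hz0 : z = 0
  · exact ⟨0, zero_mem _, 1, one_mem _, by simp, by simp [hz0]⟩
  obtain ⟨p, hp, q, hq, hq0, hzpq⟩ := hfrac z
  have hp0 : p ≠ 0 := by
    rintro rfl
    rw [zero_div] at hzpq
    exact hz0 hzpq
  obtain ⟨m, p', hp', hp'1, hpe⟩ := stepA' p hp hp0
  obtain ⟨m', q', hq', hq'1, hqe⟩ := stepA' q hq hq0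
  -- compare valuations
  have hvp : P.1 p = P.1 t ^ m := by
    have := congrArg P.1 hpe
    rwa [map_mul, map_mul, map_pow, map_pow, hw1, one_pow, mul_one, hp'1, mul_one] at this
  have hvq : P.1 q = P.1 t ^ m' := by
    have := congrArg P.1 hqe
    rwa [map_mul, map_mul, map_pow, map_pow, hw1, one_pow, mul_one, hq'1, mul_one] at this
  have hvt0 : P.1 t ≠ 0 := (map_ne_zero _).mpr ht0
  have hmm : m' ≤ m := by
    by_contra hlt
    rw [not_le] at hlt
    have h1 : P.1 p ≤ P.1 q := by
      have : P.1 z * P.1 q = P.1 p := by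
        rw [← map_mul, hzpq, div_mul_cancel₀ _ hq0]
      rw [← this]
      calc P.1 z * P.1 q ≤ 1 * P.1 q := mul_le_mul' hz le_rfl
        _ = P.1 q := one_mul _
    rw [hvp, hvq] at h1
    have h2 : P.1 t ^ m' < P.1 t ^ m := by
      obtain ⟨d, rfl⟩ := Nat.exists_eq_add_of_lt hlt
      have : P.1 t ^ (m + d + 1) = P.1 t ^ m * P.1 t ^ (d + 1) := by rw [← pow_add]; ring_nf
      rw [this]
      calc P.1 t ^ m * P.1 t ^ (d + 1) < P.1 t ^ m * 1 := by
            apply mul_lt_mul_of_pos_left
            · exact pow_lt_one₀ zero_le' ht1 (by omega)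
            · exact pow_pos (zero_lt_iff.mpr hvt0) _
        _ = P.1 t ^ m := mul_one _
    exact absurd h1 (not_le.mpr h2)
  refine ⟨t ^ (m - m') * p' * w ^ m', ?_, q' * w ^ m, mul_mem hq' (pow_mem hw _), ?_, ?_⟩
  · refine mul_mem (mul_mem ?_ hp') (pow_mem hw _)
    exact pow_mem ht _
  · rw [map_mul, map_pow, hw1, one_pow, mul_one, hq'1]
  · have hz' : z * q = p := by rw [hzpq, div_mul_cancel₀ _ hq0]
    have h1 : t ^ m' * (z * (q' * w ^ m)) = t ^ m' * (t ^ (m - m') * p' * w ^ m') := by
      calc t ^ m' * (z * (q' * w ^ m)) = z * (t ^ m' * q') * w ^ m := by ring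
        _ = z * (q * w ^ m') * w ^ m := by rw [hqe]
        _ = (z * q) * w ^ m * w ^ m' := by ring
        _ = (p * w ^ m) * w ^ m' := by rw [hz']
        _ = t ^ m * p' * w ^ m' := by rw [hpe]
        _ = t ^ m' * (t ^ (m - m') * p' * w ^ m') := by
            have : t ^ m = t ^ m' * t ^ (m - m') := by rw [← pow_add]; congr 1; omega
            rw [this]; ring
    exact mul_left_cancel₀ (pow_ne_zero _ ht0) h1

end Groth.Agent.Lib.LeadKP
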