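import Groth.Agent.Lib.LeadKP5

/-! Jacobian criterion for plane curves, direction 2: if all partial derivatives vanish at the
point, the point is singular. -/

namespace Groth.Agent.Lib.LeadKP

open MvPolynomial FunFld WithZero Groth.Agent.Lib.LeadFF Groth.Agent.Lib.LeadPC

variable {k K : Type*} [Field k] [Field K] [Algebra k K]

/-- evaluation at a point of the dual numbers. -/
noncomputable def dualEv {σ : Type*} [DecidableEq σ] (α : σ → k) (i₂ : σ) :
    MvPolynomial σ k →ₐ[k] DualNumber k :=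
  aeval fun i => TrivSqZeroExt.inl (α i) + if i = i₂ then DualNumber.eps else 0

lemma dualEv_X {σ : Type*} [DecidableEq σ] (α : σ → k) (i₂ l : σ) :
    dualEv α i₂ (X l) = TrivSqZeroExt.inl (α l) + if l = i₂ then DualNumber.eps else 0 := by
  simp [dualEv]

lemma dualEv_apply {σ : Type*} [DecidableEq σ] (α : σ → k) (i₂ : σ)
    (g : MvPolynomial σ k) :
    dualEv α i₂ g = TrivSqZeroExt.inl (eval α g) + TrivSqZeroExt.inr (eval α (pderiv i₂ g)) := by
  induction g using MvPolynomial.induction_on with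
  | C a =>
    simp [dualEv, TrivSqZeroExt.algebraMap_eq_inl]
  | add p q hp hq =>
    rw [map_add, hp, hq]
    simp only [map_add, TrivSqZeroExt.inl_add, TrivSqZeroExt.inr_add]
    abel
  | mul_X p l hp =>
    rw [map_mul, hp, Derivation.leibniz, pderiv_X, dualEv_X]
    by_cases hl : l = i₂
    · subst hl
      simp only [if_true, Pi.single_eq_same, smul_eq_mul, mul_one, map_add, map_mul, eval_X]
      ext
      · simp only [TrivSqZeroExt.fst_mul, TrivSqZeroExt.fst_add, TrivSqZeroExt.fst_inl,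
          TrivSqZeroExt.fst_inr, DualNumber.fst_eps, add_zero]
      · simp only [TrivSqZeroExt.snd_mul, TrivSqZeroExt.fst_add, TrivSqZeroExt.fst_inl,
          TrivSqZeroExt.fst_inr, TrivSqZeroExt.snd_add, TrivSqZeroExt.snd_inl,
          TrivSqZeroExt.snd_inr, DualNumber.fst_eps, DualNumber.snd_eps, add_zero, zero_add,
          smul_eq_mul, MulOpposite.smul_eq_mul_unop, MulOpposite.unop_op]
        ring
    · have : Pi.single (M := fun _ => MvPolynomial σ k) i₂ 1 l = 0 := Pi.single_eq_of_ne hl _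
      simp only [if_neg hl, this, smul_eq_mul, mul_zero, zero_add, map_mul, eval_X, add_zero]
      ext
      · simp only [TrivSqZeroExt.fst_mul, TrivSqZeroExt.fst_add, TrivSqZeroExt.fst_inl,
          TrivSqZeroExt.fst_inr, add_zero]
      · simp only [TrivSqZeroExt.snd_mul, TrivSqZeroExt.fst_add, TrivSqZeroExt.fst_inl,
          TrivSqZeroExt.fst_inr, TrivSqZeroExt.snd_add, TrivSqZeroExt.snd_inl,
          TrivSqZeroExt.snd_inr, add_zero, zero_add,
          smul_eq_mul, MulOpposite.smul_eq_mul_unop, MulOpposite.unop_op]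
        ring

theorem singular_of_pderiv_eq_zero [IsAlgClosed k] (hK : IsFunctionField k K) (φ : Fin 3 → K)
    (hφ : LinearIndependent k φ) (f : MvPolynomial (Fin 3) k) (hf : Irreducible f)
    (hhom : f.IsHomogeneous f.totalDegree) (hfφ : aeval φ f = 0) (P : Place k K) (j : Fin 3)
    (hj : ∀ i, P.1 (φ i) ≤ P.1 (φ j))
    (α : Fin 3 → k) (hα : ∀ i, P.1 (φ i / φ j - algebraMap k K (α i)) < 1)
    (hall : ∀ l, eval α (pderiv l f) = 0) : ¬ IsNonsingularAt φ P := by
  classical
  intro hns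
  have hj0 : φ j ≠ 0 := hφ.ne_zero j
  set ψ : Fin 3 → K := fun i => φ i / φ j with hψ
  have hψj : ψ j = 1 := div_self hj0
  have hαj : α j = 1 := residue_max_eq_one P hψj (hα j)
  set h : Fin 3 → K := fun i => ψ i - algebraMap k K (α i) with hh
  have hhj : h j = 0 := by
    show ψ j - algebraMap k K (α j) = 0
    rw [hψj, hαj, map_one, sub_self]
  set A : Subalgebra k K := chart k φ j with hAdef
  have hψA : ∀ i, ψ i ∈ A := fun i => ratio_mem_chart φ j i
  have hA : ∀ i, h i ∈ A := fun i => sub_mem (hψA i) (Subalgebra.algebraMap_mem _ _)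
  have hA1 : ∀ u ∈ A, P.1 u ≤ 1 := chart_le_one φ P j hj0 hj
  have hh1 : ∀ i, P.1 (h i) < 1 := hα
  have hfψ : aeval ψ f = 0 := by
    have := aeval_smul_of_homog f f.totalDegree hhom (φ j)⁻¹ φ
    rw [hfφ, mul_zero] at this
    have e : ψ = fun i => (φ j)⁻¹ * φ i := by
      funext i; rw [hψ]; ring
    rw [e, this]
  have hf0 : eval α f = 0 := by
    by_contra hne0
    have h1 := val_aeval_sub_lt_one P ψ α hα f
    rw [hfψ, zero_sub, Valuation.map_neg, place_trivOn P _ hne0] at h1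
    exact lt_irrefl _ h1
  have hloc : ∀ z, P.1 z ≤ 1 → InLoc φ P j z :=
    fun z hz => (inLocRing_iff φ P j hj0 hj z).mp (hns z hz)
  -- a uniformizer
  obtain ⟨t, ht⟩ := exists_unif P
  obtain ⟨u0, hu0, w0, hw0, hw01, htw⟩ := hloc t (unif_lt_one ht).le
  have hu0v : P.1 u0 = exp (-1 : ℤ) := by rw [← htw, map_mul, hw01, mul_one, ht]
  obtain ⟨c0, G, hG, hue⟩ := adjoin_decomp ψ α u0 hu0
  have hsumlt : P.1 (∑ i, (ψ i - algebraMap k K (α i)) * G i) < 1 := by
    apply Valuation.map_sum_lt P.1 one_ne_zero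
    intro l _
    rw [map_mul]
    calc P.1 (ψ l - algebraMap k K (α l)) * P.1 (G l) ≤ P.1 (ψ l - algebraMap k K (α l)) * 1 :=
          mul_le_mul' le_rfl (hA1 _ (hG l))
      _ = P.1 (h l) := mul_one _
      _ < 1 := hh1 l
  have hlt1 : (exp (-1 : ℤ) : WithZero (Multiplicative ℤ)) < 1 := by
    rw [← exp_zero, exp_lt_exp]; omega
  have hc0 : c0 = 0 := by
    by_contra hne0
    have h1 : P.1 (algebraMap k K c0) = 1 := place_trivOn P _ hne0
    rw [hue, Valuation.map_add_eq_of_lt_left _ (by rw [h1]; exact hsumlt), h1] at hu0v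
    rw [hu0v] at hlt1
    exact lt_irrefl _ hlt1
  rw [hc0, map_zero, zero_add] at hue
  have hex : ∃ i1, P.1 (h i1) = exp (-1 : ℤ) := by
    by_contra hno
    push Not at hno
    have hle2 : ∀ i, P.1 (h i) ≤ exp (-2 : ℤ) := by
      intro i
      have h1 := zm0_lt_one_iff.mp (hh1 i)
      have h2 := lt_of_le_of_ne h1 (hno i)
      have h3 := zm0_lt_exp_iff.mp h2
      have : ((-1 : ℤ) - 1) = -2 := by norm_num
      rwa [this] at h3
    have : P.1 u0 ≤ exp (-2 : ℤ) := by
      rw [hue]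
      apply Valuation.map_sum_le
      intro i _
      rw [map_mul]
      calc P.1 (ψ i - algebraMap k K (α i)) * P.1 (G i) ≤ exp (-2 : ℤ) * 1 :=
            mul_le_mul' (hle2 i) (hA1 _ (hG i))
        _ = exp (-2 : ℤ) := mul_one _
    rw [hu0v, exp_le_exp] at this
    omega
  obtain ⟨i1, hi1v⟩ := hex
  have hi1j : i1 ≠ j := by
    rintro rfl
    rw [hhj, map_zero] at hi1v
    exact (exp_ne_zero).symm hi1v
  have hi10 : h i1 ≠ 0 := by
    intro h0
    rw [h0, map_zero] at hi1v
    exact (exp_ne_zero).symm hi1v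
  obtain ⟨i2, hi2j, hi2i1, -⟩ := exists_third (M := K) j i1 (Ne.symm hi1j)
  -- the quotient h i2 / h i1
  have hz1 : P.1 (h i2 / h i1) ≤ 1 := by
    rw [map_div₀, hi1v, div_le_one₀ (by exact exp_pos)]
    exact zm0_lt_one_iff.mp (hh1 i2)
  obtain ⟨lam, hlam⟩ := exists_const_sub_lt_one hK P hz1
  have hz' : P.1 ((h i2 / h i1 - algebraMap k K lam) / h i1) ≤ 1 := by
    rw [map_div₀, hi1v, div_le_one₀ (by exact exp_pos)]
    exact zm0_lt_one_iff.mp hlam
  obtain ⟨u, hu, w, hw, hw1, hzw⟩ := hloc _ hz'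
  have hrel : (h i2 - algebraMap k K lam * h i1) * w = h i1 ^ 2 * u := by
    rw [← hzw]
    field_simp
  -- lift to polynomials
  have hrange : ∀ x ∈ A, ∃ p : MvPolynomial (Fin 3) k, aeval ψ p = x := by
    intro x hx
    rw [hAdef, chart, Algebra.adjoin_range_eq_range_aeval] at hx
    exact hx
  obtain ⟨U0, hU0⟩ := hrange u hu
  obtain ⟨W0, hW0⟩ := hrange w hw
  have hW0α : eval α W0 ≠ 0 := by
    intro h0
    have h1 := val_aeval_sub_lt_one P ψ α hα W0
    rw [hW0, h0, map_zero, sub_zero, hw1] at h1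
    exact lt_irrefl _ h1
  set ℓ : Fin 3 → MvPolynomial (Fin 3) k := fun i => X i - C (α i) * X j with hℓ
  have hℓψ : ∀ i, aeval ψ (ℓ i) = h i := by
    intro i
    simp only [hℓ, map_sub, map_mul, aeval_X, aeval_C, hψj, mul_one]
    rfl
  set H0 : MvPolynomial (Fin 3) k := (ℓ i2 - C lam * ℓ i1) * W0 - ℓ i1 ^ 2 * U0 with hH0def
  have hH0 : aeval ψ H0 = 0 := by
    rw [hH0def]
    simp only [map_sub, map_mul, map_pow, hℓψ, aeval_C, hU0, hW0]
    rw [hrel, sub_self]
  set Hh := hom j H0 H0.totalDegree with hHh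
  have hHhhom : Hh.IsHomogeneous H0.totalDegree := hom_isHomogeneous j H0 _
  have hHhψ : aeval ψ Hh = 0 := by
    rw [hHh, map_hom j H0 le_rfl (aeval ψ) (by rw [aeval_X, hψj]), hH0]
  have hHhφ : aeval φ Hh = 0 := by
    have := aeval_smul_of_homog Hh H0.totalDegree hHhhom (φ j) ψ
    rw [hHhψ, mul_zero] at this
    have e : φ = fun i => φ j * ψ i := by
      funext i; rw [hψ]; field_simp
    rw [e, this]
  have hgev : gev φ Hh = 0 := (gev_eq_zero_iff_of_homog φ hHhhom).mpr hHhφ
  have hfgev : gev φ f = 0 := (gev_eq_zero_iff_of_homog φ hhom).mpr hfφ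
  have e0 : (0 : Fin 3).succAbove 0 = 1 := rfl
  have e1 : (0 : Fin 3).succAbove 1 = 2 := rfl
  have hφ1 : φ 1 ≠ 0 := hφ.ne_zero 1
  have htr : Transcendental k (φ 2 / φ 1) := by
    apply transcendental_of_not_mem hK
    rintro ⟨c, hc⟩
    have h1 : φ 2 - algebraMap k K c * φ 1 = 0 := by
      rw [hc, div_mul_cancel₀ _ hφ1, sub_self]
    have h2 := Fintype.linearIndependent_iff.mp hφ
      (fun i => (if i = 2 then 1 else 0) - (if i = 1 then c else 0)) (by
        simp only [sub_smul, Finset.sum_sub_distrib, ite_smul, one_smul, zero_smul,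
          Finset.sum_ite_eq', Finset.mem_univ, if_true]
        rw [Algebra.smul_def]
        exact h1) 2
    simp at h2
  have hker := ker_gev_eq_span φ 0 (by rw [e0]; exact hφ1) (by rw [e0, e1]; exact htr) hf hfgev
  obtain ⟨G0, hG0⟩ : f ∣ Hh := by
    rw [← Ideal.mem_span_singleton, ← hker, RingHom.mem_ker]
    exact hgev
  -- evaluate in the dual numbers
  set θ := dualEv α i2 with hθ
  have hθj : θ (X j) = 1 := by
    rw [hθ, dualEv_X, if_neg (Ne.symm hi2j), add_zero, hαj]
    rfl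
  have hθHh : θ Hh = θ H0 := map_hom j H0 le_rfl θ hθj
  have hθf : θ f = 0 := by
    rw [hθ, dualEv_apply, hf0, hall i2]
    simp
  have hθℓ : ∀ i, θ (ℓ i) = if i = i2 then DualNumber.eps else 0 := by
    intro i
    simp only [hℓ, map_sub, map_mul, hθj, mul_one]
    rw [hθ, dualEv_X, dualEv_apply]
    simp
  have h1 : θ H0 = 0 := by
    rw [← hθHh, hG0, map_mul, hθf, zero_mul]
  rw [hH0def] at h1
  simp only [map_sub, map_mul, map_pow, hθℓ, if_true, if_neg hi2i1.symm, mul_zero, sub_zero] at h1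
  rw [zero_pow (by norm_num), zero_mul, sub_zero, hθ, dualEv_apply] at h1
  have h2 := congrArg TrivSqZeroExt.snd h1
  simp only [TrivSqZeroExt.snd_mul, TrivSqZeroExt.fst_add, TrivSqZeroExt.fst_inl,
    TrivSqZeroExt.fst_inr, TrivSqZeroExt.snd_add, TrivSqZeroExt.snd_inl,
    TrivSqZeroExt.snd_inr, DualNumber.fst_eps, DualNumber.snd_eps, add_zero, zero_add,
    smul_eq_mul, MulOpposite.smul_eq_mul_unop, MulOpposite.unop_op, TrivSqZeroExt.snd_zero,
    zero_mul, one_mul, mul_one] at h2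
  exact hW0α h2

end Groth.Agent.Lib.LeadKP
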