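import Groth.Agent.Lib.LeadKP6

/-! S11072: Jacobian criterion for plane curves. -/

namespace Groth.Agent.Lib.LeadKP

open MvPolynomial FunFld WithZero Groth.Agent.Lib.LeadFF Groth.Agent.Lib.LeadPC
  Groth.Agent.Lib.LeadHS

universe u v
variable {k : Type u} {K : Type v} [Field k] [Field K] [Algebra k K]

theorem plane_jacobian [IsAlgClosed k] (hK : IsFunctionField k K) (φ : Fin 3 → K)
    (hφ : LinearIndependent k φ)
    (hbir : IntermediateField.adjoin k (Set.range fun i => φ i / φ 0) = ⊤)
    (f : MvPolynomial (Fin 3) k) (hf : Irreducible f) (hhom : f.IsHomogeneous f.totalDegree)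
    (hfφ : aeval φ f = 0) (P : Place k K) (j : Fin 3) (hj : ∀ i, P.1 (φ i) ≤ P.1 (φ j))
    (a : Fin 3 → P.O) (ha : ∀ i, ((a i : P.O) : K) = φ i / φ j) :
    ¬ IsNonsingularAt φ P ↔
      ∀ l : Fin 3, aeval (fun i => IsLocalRing.residue P.O (a i)) (pderiv l f) = 0 := by
  classical
  have hj0 : φ j ≠ 0 := hφ.ne_zero j
  have hψle : ∀ i, P.1 (φ i / φ j) ≤ 1 := by
    intro i
    have := (a i).2
    rw [ha i] at this
    exact (Valuation.mem_valuationSubring_iff P.1 _).mp this
  choose α hα using fun i => exists_const_sub_lt_one hK P (hψle i)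
  have hres : ∀ i, IsLocalRing.residue P.O (a i) =
      algebraMap k (IsLocalRing.ResidueField P.O) (α i) := by
    intro i
    have h1 := evalP_eq_of_sub_lt P (hα i)
    rw [evalP_of_le P (hψle i)] at h1
    rw [← h1]
    congr 1
    exact Subtype.ext (ha i)
  have hinj : Function.Injective (algebraMap k (IsLocalRing.ResidueField P.O)) :=
    (algebraMap k (IsLocalRing.ResidueField P.O)).injective
  have hkey : ∀ g : MvPolynomial (Fin 3) k,
      aeval (fun i => IsLocalRing.residue P.O (a i)) g =
        algebraMap k (IsLocalRing.ResidueField P.O) (eval α g) := by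
    intro g
    have : (fun l => IsLocalRing.residue P.O (a l)) =
        (algebraMap k (IsLocalRing.ResidueField P.O)) ∘ α := by
      funext l; exact hres l
    rw [this, aeval_def]
    have h2 := eval₂_comp_right (algebraMap k (IsLocalRing.ResidueField P.O)) (RingHom.id k) α g
    rw [MvPolynomial.map_id] at h2
    exact h2.symm
  constructor
  · intro hns l
    by_contra hne
    apply hns
    apply nonsingular_of_pderiv_ne_zero φ hφ f hhom hfφ P j hj (hbir_change φ 0 j hj0 hbir) α hα
    refine ⟨l, fun h0 => hne ?_⟩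
    rw [hkey, h0, map_zero]
  · intro hall
    apply singular_of_pderiv_eq_zero hK φ hφ f hf hhom hfφ P j hj α hα
    intro l
    apply hinj
    rw [← hkey, hall l, map_zero]

end Groth.Agent.Lib.LeadKP
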