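import Groth.Agent.Lib.LeadKP7

/-! Linear algebra for the general Jacobian criterion: ranks under field isomorphisms, left
inverses, and a Cramer/Nakayama lemma. -/

namespace Groth.Agent.Lib.LeadKP

open Matrix FunFld WithZero

variable {k : Type*} [Field k]

theorem rank_map_bijective {k κ : Type*} [Field k] [Field κ] (σ : k →+* κ)
    (hσ : Function.Bijective σ) {r n : ℕ} (J : Matrix (Fin r) (Fin n) k) :
    (J.map σ).rank = J.rank := by
  classical
  let σe : k ≃+* κ := RingEquiv.ofBijective σ hσ
  letI : RingHomInvPair (σe : k →+* κ) (σe.symm : κ →+* k) := RingHomInvPair.of_ringEquiv σe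
  letI : RingHomInvPair (σe.symm : κ →+* k) (σe : k →+* κ) := RingHomInvPair.symm _ _
  let e : (Fin r → k) ≃ₛₗ[(σe : k →+* κ)] (Fin r → κ) :=
    { toFun := fun x i => σe (x i)
      map_add' := fun x y => by funext i; simp
      map_smul' := fun c x => by funext i; simp
      invFun := fun y i => σe.symm (y i)
      left_inv := fun x => by funext i; simp
      right_inv := fun y => by funext i; simp }
  rw [rank_eq_finrank_span_cols, rank_eq_finrank_span_cols]
  have hspan : Submodule.span κ (Set.range (J.map σ).col) =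
      (Submodule.span k (Set.range J.col)).map (e : (Fin r → k) →ₛₗ[(σe : k →+* κ)] (Fin r → κ)) := by
    rw [Submodule.map_span, ← Set.range_comp]
    congr 1
  rw [hspan]
  have := lift_rank_eq_of_equiv_equiv (σe : k → κ)
    ((e.submoduleMap (Submodule.span k (Set.range J.col))).toAddEquiv) σe.bijective
    (fun c m => by
      apply Subtype.ext
      simp only [LinearEquiv.coe_toAddEquiv, LinearEquiv.submoduleMap_apply, Submodule.coe_smul]
      exact e.map_smulₛₗ c m.1)
  unfold Module.finrank
  rw [← Cardinal.toNat_lift, ← this, Cardinal.toNat_lift]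

/-- left-inverse data when the rank is one less than the number of columns. -/
theorem exists_leftInv_of_rank {r n : ℕ} (J : Matrix (Fin r) (Fin n) k) (hJ : J.rank + 1 = n) :
    ∃ (μ τ : Fin n → k) (T1 : Matrix (Fin n) (Fin r) k), T1 * J = 1 - vecMulVec τ μ := by
  classical
  set L := J.mulVecLin with hL
  have hker : Module.finrank k (LinearMap.ker L) = 1 := by
    have h1 := L.finrank_range_add_finrank_ker
    rw [Module.finrank_fin_fun] at h1
    have h2 : Module.finrank k (LinearMap.range L) = J.rank := rfl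
    omega
  obtain ⟨⟨v, hvker⟩, hv0, hvspan⟩ := finrank_eq_one_iff'.mp hker
  have hv0' : v ≠ 0 := fun h => hv0 (Subtype.ext h)
  obtain ⟨j0, hj0⟩ : ∃ j0, v j0 ≠ 0 := by
    by_contra hall
    push Not at hall
    exact hv0' (funext hall)
  set ℓ : (Fin n → k) →ₗ[k] k := (v j0)⁻¹ • (LinearMap.proj j0 : (Fin n → k) →ₗ[k] k) with hℓ
  have hℓv : ℓ v = 1 := by simp [hℓ, hj0]
  set Lp : (Fin n → k) →ₗ[k] (Fin r → k) × k := L.prod ℓ with hLp
  have hinj : LinearMap.ker Lp = ⊥ := by
    rw [LinearMap.ker_eq_bot']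
    intro x hx
    have hx1 : L x = 0 := congrArg Prod.fst hx
    have hx2 : ℓ x = 0 := congrArg Prod.snd hx
    obtain ⟨c, hc⟩ := hvspan ⟨x, hx1⟩
    have hc' : c • v = x := congrArg Subtype.val hc
    rw [← hc', map_smul, hℓv, smul_eq_mul, mul_one] at hx2
    rw [← hc', hx2, zero_smul]
  obtain ⟨T, hT⟩ := Lp.exists_leftInverse_of_injective hinj
  refine ⟨fun l => if l = j0 then (v j0)⁻¹ else 0, T (0, 1),
    LinearMap.toMatrix' (T.comp (LinearMap.inl k (Fin r → k) k)), ?_⟩
  ext j l
  have h1 : T (Lp (Pi.single l 1)) = Pi.single l 1 := LinearMap.congr_fun hT _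
  have h2 : Lp (Pi.single l 1) = LinearMap.inl k (Fin r → k) k (J *ᵥ Pi.single l 1) +
      (ℓ (Pi.single l 1)) • ((0 : Fin r → k), (1 : k)) := by
    ext <;> simp [hLp, hL]
  rw [h2, map_add, map_smul] at h1
  have h3 : T (LinearMap.inl k (Fin r → k) k (J *ᵥ Pi.single l 1)) =
      (LinearMap.toMatrix' (T.comp (LinearMap.inl k (Fin r → k) k)) * J) *ᵥ Pi.single l 1 := by
    rw [← Matrix.mulVec_mulVec, LinearMap.toMatrix'_mulVec]
    rfl
  rw [h3] at h1
  have h4 := congrFun h1 j
  rw [Pi.add_apply, Matrix.mulVec_single_one, Pi.smul_apply] at h4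
  rw [Matrix.sub_apply, Matrix.one_apply, vecMulVec_apply]
  have h5 : ℓ (Pi.single l 1) = if l = j0 then (v j0)⁻¹ else 0 := by
    simp [hℓ, Pi.single_apply, eq_comm]
  rw [h5] at h4
  simp only [Pi.single_apply, smul_eq_mul] at h4
  rw [eq_sub_iff_add_eq]
  rw [Matrix.col_apply] at h4
  convert h4 using 2
  exact mul_comm _ _

theorem exists_leftInv_of_rank_eq {r n : ℕ} (J : Matrix (Fin r) (Fin n) k) (hJ : J.rank = n) :
    ∃ T1 : Matrix (Fin n) (Fin r) k, T1 * J = 1 := by
  classical
  set L := J.mulVecLin with hL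
  have hker : LinearMap.ker L = ⊥ := by
    have h1 := L.finrank_range_add_finrank_ker
    rw [Module.finrank_fin_fun] at h1
    have h2 : Module.finrank k (LinearMap.range L) = J.rank := rfl
    have h3 : Module.finrank k (LinearMap.ker L) = 0 := by omega
    exact Submodule.finrank_eq_zero.mp h3
  obtain ⟨T, hT⟩ := L.exists_leftInverse_of_injective hker
  refine ⟨LinearMap.toMatrix' T, ?_⟩
  have : J = LinearMap.toMatrix' L := (LinearMap.toMatrix'_toLin' J).symm
  rw [this, ← LinearMap.toMatrix'_comp, hT, LinearMap.toMatrix'_id]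


variable {K : Type*} [Field K] [Algebra k K]

/-- Cramer/Nakayama: a linear system `(J + E) h = 0` with `E ≡ 0` modulo the maximal ideal
and `J` of corank one expresses all `h j` through one linear combination of them. -/
theorem cramer_nakayama (P : Place k K) (A : Subalgebra k K) (hA1 : ∀ u ∈ A, P.1 u ≤ 1)
    {r n : ℕ} (hv : Fin n → K) (J : Matrix (Fin r) (Fin n) k) (E : Matrix (Fin r) (Fin n) K)
    (hE : ∀ i j, E i j ∈ A ∧ P.1 (E i j) < 1)
    (hrel : ∀ i, ∑ j, (algebraMap k K (J i j) + E i j) * hv j = 0)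
    (μ τ : Fin n → k) (T1 : Matrix (Fin n) (Fin r) k) (hT : T1 * J = 1 - vecMulVec τ μ) :
    ∃ w ∈ A, P.1 w = 1 ∧ ∃ g : Fin n → K, (∀ j, g j ∈ A) ∧
      ∀ j, hv j * w = (∑ l, algebraMap k K (μ l) * hv l) * g j := by
  classical
  set σ := algebraMap k K with hσ
  set N : Matrix (Fin n) (Fin n) K := (T1.map σ) * E with hN
  set t := ∑ l, σ (μ l) * hv l with ht
  have hNmem : ∀ j l, N j l ∈ A ∧ P.1 (N j l) < 1 := by
    intro j l
    rw [hN, Matrix.mul_apply]
    refine ⟨sum_mem fun i _ => mul_mem (Subalgebra.algebraMap_mem _ _) (hE i l).1, ?_⟩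
    apply Valuation.map_sum_lt P.1 one_ne_zero
    intro i _
    rw [map_mul]
    calc P.1 (T1.map σ j i) * P.1 (E i l) ≤ 1 * P.1 (E i l) := mul_le_mul' (P.2.1 _) le_rfl
      _ = P.1 (E i l) := one_mul _
      _ < 1 := (hE i l).2
  -- the key vector identity
  have hTK : ∀ j l, ∑ i, σ (T1 j i) * σ (J i l) = (if j = l then 1 else 0) - σ (τ j) * σ (μ l) := by
    intro j l
    have := congrArg σ (congrFun (congrFun hT j) l)
    rw [Matrix.mul_apply, map_sum, Matrix.sub_apply, Matrix.one_apply, vecMulVec_apply, map_sub,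
      map_mul] at this
    simp only [map_mul] at this
    rw [this]
    split_ifs <;> simp
  have hkey : ∀ j, hv j + ∑ l, N j l * hv l = t * σ (τ j) := by
    intro j
    have h0 : ∑ i, σ (T1 j i) * ∑ l, (σ (J i l) + E i l) * hv l = 0 := by
      apply Finset.sum_eq_zero
      intro i _
      rw [hrel i, mul_zero]
    have h1 : ∑ i, σ (T1 j i) * ∑ l, (σ (J i l) + E i l) * hv l =
        ∑ l, (∑ i, σ (T1 j i) * σ (J i l)) * hv l + ∑ l, N j l * hv l := by
      simp only [Finset.mul_sum, add_mul, Finset.sum_add_distrib, mul_add]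
      congr 1
      · rw [Finset.sum_comm]
        apply Finset.sum_congr rfl
        intro l _
        rw [Finset.sum_mul]
        apply Finset.sum_congr rfl
        intro i _
        ring
      · rw [Finset.sum_comm]
        apply Finset.sum_congr rfl
        intro l _
        rw [hN, Matrix.mul_apply, Finset.sum_mul]
        apply Finset.sum_congr rfl
        intro i _
        simp only [Matrix.map_apply]
        ring
    rw [h1] at h0
    simp only [hTK, sub_mul, Finset.sum_sub_distrib, ite_mul, one_mul, zero_mul,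
      Finset.sum_ite_eq, Finset.mem_univ, if_true] at h0
    have h2 : ∑ l, σ (τ j) * σ (μ l) * hv l = t * σ (τ j) := by
      rw [ht, Finset.sum_mul]
      apply Finset.sum_congr rfl
      intro l _
      ring
    rw [h2] at h0
    linear_combination h0
  -- lift `N` to `A`
  set N' : Matrix (Fin n) (Fin n) A := fun j l => ⟨N j l, (hNmem j l).1⟩ with hN'
  set M' : Matrix (Fin n) (Fin n) A := 1 + N' with hM'
  set M : Matrix (Fin n) (Fin n) K := 1 + N with hM
  have hMM' : M = (A.val : A →+* K).mapMatrix M' := by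
    ext j l
    simp only [hM, hM', RingHom.mapMatrix_apply, Matrix.map_apply, Matrix.add_apply,
      Matrix.one_apply, hN']
    split_ifs <;> simp
  have hdet : M.det = ((M'.det : A) : K) := by
    rw [hMM', ← RingHom.map_det]
    rfl
  have hadj : ∀ j l, M.adjugate j l = ((M'.adjugate j l : A) : K) := by
    intro j l
    rw [hMM', ← RingHom.map_adjugate]
    rfl
  -- the determinant is a unit at `P`
  let m' : Ideal A :=
    { carrier := {a | P.1 (a : K) < 1}
      zero_mem' := by simp
      add_mem' := fun {a b} ha hb => by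
        show P.1 ((a + b : A) : K) < 1
        push_cast
        exact lt_of_le_of_lt (P.1.map_add _ _) (max_lt ha hb)
      smul_mem' := fun c a ha => by
        show P.1 ((c • a : A) : K) < 1
        rw [smul_eq_mul]
        push_cast
        rw [map_mul]
        calc P.1 (c : K) * P.1 (a : K) ≤ 1 * P.1 (a : K) := mul_le_mul' (hA1 _ c.2) le_rfl
          _ = P.1 (a : K) := one_mul _
          _ < 1 := ha }
  have hdet1 : P.1 M.det = 1 := by
    have h1 : (Ideal.Quotient.mk m').mapMatrix M' = 1 := by
      ext j l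
      simp only [hM', RingHom.mapMatrix_apply, Matrix.map_apply, Matrix.add_apply,
        Matrix.one_apply, map_add]
      have : Ideal.Quotient.mk m' (N' j l) = 0 :=
        Ideal.Quotient.eq_zero_iff_mem.mpr (hNmem j l).2
      rw [this, add_zero]
      split_ifs <;> simp
    have h2 : Ideal.Quotient.mk m' M'.det = 1 := by
      rw [RingHom.map_det, h1, Matrix.det_one]
    have h3 : M'.det - 1 ∈ m' := by
      rw [← Ideal.Quotient.eq_zero_iff_mem, map_sub, h2, map_one, sub_self]
    have h4 : P.1 (M.det - 1) < 1 := by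
      rw [hdet]
      exact h3
    have h5 : M.det = 1 + (M.det - 1) := by ring
    rw [h5, Valuation.map_add_eq_of_lt_left _ (by rw [map_one]; exact h4), map_one]
  refine ⟨M.det, by rw [hdet]; exact (M'.det).2, hdet1,
    fun j => ∑ l, M.adjugate j l * σ (τ l), ?_, ?_⟩
  · intro j
    refine sum_mem fun l _ => mul_mem ?_ (Subalgebra.algebraMap_mem _ _)
    rw [hadj]
    exact (M'.adjugate j l).2
  · intro j
    have hvec : M *ᵥ hv = fun j => t * σ (τ j) := by
      funext j
      rw [hM, Matrix.add_mulVec, Matrix.one_mulVec, Pi.add_apply]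
      exact hkey j
    have h1 : M.adjugate *ᵥ (M *ᵥ hv) = M.det • hv := by
      rw [Matrix.mulVec_mulVec, Matrix.adjugate_mul, Matrix.smul_mulVec, Matrix.one_mulVec]
    rw [hvec] at h1
    have h2 := congrFun h1 j
    rw [Pi.smul_apply, smul_eq_mul] at h2
    rw [mul_comm, ← h2]
    simp only [Matrix.mulVec, dotProduct, Finset.mul_sum]
    apply Finset.sum_congr rfl
    intro l _
    ring

end Groth.Agent.Lib.LeadKP
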