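import Groth.Agent.Lib.LeadKP8

/-! General Jacobian criterion, part 1: the linear system, and rank `n - 1` implies nonsingular. -/

namespace Groth.Agent.Lib.LeadKP

open MvPolynomial FunFld WithZero Groth.Agent.Lib.LeadFF Groth.Agent.Lib.LeadPC Matrix

variable {k K : Type*} [Field k] [Field K] [Algebra k K]

/-- The Jacobian matrix at the point `α` (derivatives with respect to `X₁, …, Xₙ`). -/
noncomputable def jac {n r : ℕ} (f : Fin r → MvPolynomial (Fin (n + 1)) k)
    (α : Fin (n + 1) → k) : Matrix (Fin r) (Fin n) k :=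
  fun i j => eval α (pderiv j.succ (f i))

section

variable [IsAlgClosed k] {n : ℕ} (φ : Fin (n + 1) → K) (hφ : LinearIndependent k φ)
  (P : Place k K) (hP : ∀ i, P.1 (φ i) ≤ P.1 (φ 0))
  {r : ℕ} (f : Fin r → MvPolynomial (Fin (n + 1)) k)
  (hhom : ∀ i, (f i).IsHomogeneous (f i).totalDegree) (hfφ : ∀ i, aeval φ (f i) = 0)
  (α : Fin (n + 1) → k) (hα : ∀ i, P.1 (φ i / φ 0 - algebraMap k K (α i)) < 1)

include hφ hP hhom hfφ hα

/-- the linear system satisfied by the local coordinates `h j = φ j / φ 0 - α j`. -/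
theorem jac_system :
    ∃ E : Matrix (Fin r) (Fin n) K, (∀ i j, E i j ∈ chart k φ 0 ∧ P.1 (E i j) < 1) ∧
      ∀ i, ∑ j : Fin n, (algebraMap k K (jac f α i j) + E i j) *
        (φ j.succ / φ 0 - algebraMap k K (α j.succ)) = 0 := by
  classical
  have hj0 : φ 0 ≠ 0 := hφ.ne_zero 0
  set ψ : Fin (n + 1) → K := fun i => φ i / φ 0 with hψ
  have hψj : ψ 0 = 1 := div_self hj0
  have hαj : α 0 = 1 := residue_max_eq_one P hψj (hα 0)
  set h : Fin (n + 1) → K := fun i => ψ i - algebraMap k K (α i) with hh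
  have hhj : h 0 = 0 := by
    show ψ 0 - algebraMap k K (α 0) = 0
    rw [hψj, hαj, map_one, sub_self]
  have hψeq : (fun i => algebraMap k K (α i) + h i) = ψ := by
    funext i; simp [hh]
  set A : Subalgebra k K := chart k φ 0 with hAdef
  have hψA : ∀ i, ψ i ∈ A := fun i => ratio_mem_chart φ 0 i
  have hA : ∀ i, h i ∈ A := fun i => sub_mem (hψA i) (Subalgebra.algebraMap_mem _ _)
  have hA1 : ∀ u ∈ A, P.1 u ≤ 1 := chart_le_one φ P 0 hj0 hP
  have hh1 : ∀ i, P.1 (h i) < 1 := hα
  have hfψ : ∀ i, aeval ψ (f i) = 0 := by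
    intro i
    have := aeval_smul_of_homog (f i) (f i).totalDegree (hhom i) (φ 0)⁻¹ φ
    rw [hfφ i, mul_zero] at this
    have e : ψ = fun i => (φ 0)⁻¹ * φ i := by
      funext i; rw [hψ]; ring
    rw [e, this]
  have hf0 : ∀ i, eval α (f i) = 0 := by
    intro i
    by_contra hne0
    have h1 := val_aeval_sub_lt_one P ψ α hα (f i)
    rw [hfψ i, zero_sub, Valuation.map_neg, place_trivOn P _ hne0] at h1
    exact lt_irrefl _ h1
  choose R hR hT using fun i => taylor_rem α h A hA (f i)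
  refine ⟨fun i j => ∑ m, h m * R i j.succ m, fun i j => ⟨?_, ?_⟩, fun i => ?_⟩
  · exact sum_mem fun m _ => mul_mem (hA m) (hR i _ m)
  · apply Valuation.map_sum_lt P.1 one_ne_zero
    intro m _
    rw [map_mul]
    calc P.1 (h m) * P.1 (R i j.succ m) ≤ P.1 (h m) * 1 := mul_le_mul' le_rfl (hA1 _ (hR i _ m))
      _ = P.1 (h m) := mul_one _
      _ < 1 := hh1 m
  · have h1 := hT i
    rw [hψeq, hfψ i, hf0 i, map_zero, zero_add] at h1
    have h2 : ∑ l, algebraMap k K (eval α (pderiv l (f i))) * h l + ∑ l, ∑ m, h l * h m * R i l m =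
        ∑ l, (algebraMap k K (eval α (pderiv l (f i))) + ∑ m, h m * R i l m) * h l := by
      rw [← Finset.sum_add_distrib]
      apply Finset.sum_congr rfl
      intro l _
      rw [add_mul, Finset.sum_mul]
      congr 1
      apply Finset.sum_congr rfl
      intro m _
      ring
    rw [h2, Fin.sum_univ_succ, hhj, mul_zero, zero_add] at h1
    exact h1.symm

/-- the coordinates `h j` cannot all vanish. -/
theorem coords_ne_zero (hn : 1 ≤ n) :
    ¬ ∀ j : Fin n, φ j.succ / φ 0 - algebraMap k K (α j.succ) = 0 := by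
  intro hall
  have hj0 : φ 0 ≠ 0 := hφ.ne_zero 0
  obtain ⟨m, rfl⟩ : ∃ m, n = m + 1 := ⟨n - 1, by omega⟩
  have h0 := hall 0
  have h1 : φ (Fin.succ 0) - algebraMap k K (α (Fin.succ 0)) * φ 0 = 0 := by
    have : (φ (Fin.succ 0) / φ 0 - algebraMap k K (α (Fin.succ 0))) * φ 0 =
        φ (Fin.succ 0) - algebraMap k K (α (Fin.succ 0)) * φ 0 := by
      rw [sub_mul, div_mul_cancel₀ _ hj0]
    rw [← this, h0, zero_mul]
  have h2 := Fintype.linearIndependent_iff.mp hφ
    (fun i => (if i = Fin.succ 0 then 1 else 0) - (if i = 0 then α (Fin.succ 0) else 0)) (by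
      simp only [sub_smul, Finset.sum_sub_distrib, ite_smul, one_smul, zero_smul,
        Finset.sum_ite_eq', Finset.mem_univ, if_true]
      rw [Algebra.smul_def]
      exact h1) (Fin.succ 0)
  simp only [if_true, if_neg (Fin.succ_ne_zero (0 : Fin (m + 1))), sub_zero] at h2
  exact one_ne_zero h2

/-- The rank of the Jacobian is at most `n - 1`. -/
theorem jac_rank_lt (hn : 1 ≤ n) : (jac f α).rank < n := by
  classical
  have hle : (jac f α).rank ≤ n := by
    have := Matrix.rank_le_width (jac f α)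
    exact this
  rcases lt_or_eq_of_le hle with h | h
  · exact h
  exfalso
  obtain ⟨T1, hT1⟩ := exists_leftInv_of_rank_eq (jac f α) h
  obtain ⟨E, hE, hrel⟩ := jac_system φ hφ P hP f hhom hfφ α hα
  have hj0 : φ 0 ≠ 0 := hφ.ne_zero 0
  have hA1 : ∀ u ∈ chart k φ 0, P.1 u ≤ 1 := chart_le_one φ P 0 hj0 hP
  obtain ⟨w, _, hw1, g, _, hg⟩ := cramer_nakayama P (chart k φ 0) hA1
    (fun j : Fin n => φ j.succ / φ 0 - algebraMap k K (α j.succ)) (jac f α) E hE hrel
    (fun _ => 0) (fun _ => 0) T1 (by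
      rw [hT1]
      ext i j
      simp [vecMulVec_apply])
  apply coords_ne_zero φ hφ P hP f hhom hfφ α hα hn
  intro j
  have h1 := hg j
  simp only [map_zero, zero_mul, Finset.sum_const_zero] at h1
  have hw0 : w ≠ 0 := by
    intro h0; rw [h0, map_zero] at hw1; exact zero_ne_one hw1
  exact (mul_eq_zero.mp h1).resolve_right hw0

/-- If the Jacobian has rank `n - 1`, the point is nonsingular. -/
theorem nonsingular_of_jac_rank (hn : 1 ≤ n)
    (hbir : IntermediateField.adjoin k (Set.range fun i => φ i / φ 0) = ⊤)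
    (hrank : (jac f α).rank + 1 = n) : IsNonsingularAt φ P := by
  classical
  have hj0 : φ 0 ≠ 0 := hφ.ne_zero 0
  set A : Subalgebra k K := chart k φ 0 with hAdef
  have hA1 : ∀ u ∈ A, P.1 u ≤ 1 := chart_le_one φ P 0 hj0 hP
  obtain ⟨μ, τ, T1, hT1⟩ := exists_leftInv_of_rank (jac f α) hrank
  obtain ⟨E, hE, hrel⟩ := jac_system φ hφ P hP f hhom hfφ α hα
  set hv : Fin n → K := fun j => φ j.succ / φ 0 - algebraMap k K (α j.succ) with hhv
  have hvA : ∀ j, hv j ∈ A := fun j =>
    sub_mem (ratio_mem_chart φ 0 j.succ) (Subalgebra.algebraMap_mem _ _)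
  obtain ⟨w, hwA, hw1, g, hgA, hg⟩ := cramer_nakayama P A hA1 hv (jac f α) E hE hrel μ τ T1 hT1
  set t := ∑ l, algebraMap k K (μ l) * hv l with ht
  have htA : t ∈ A := sum_mem fun l _ => mul_mem (Subalgebra.algebraMap_mem _ _) (hvA l)
  have hw0 : w ≠ 0 := by
    intro h0; rw [h0, map_zero] at hw1; exact zero_ne_one hw1
  have ht0 : t ≠ 0 := by
    intro h0
    apply coords_ne_zero φ hφ P hP f hhom hfφ α hα hn
    intro j
    have h1 := hg j
    rw [h0, zero_mul] at h1
    exact (mul_eq_zero.mp h1).resolve_right hw0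
  have ht1 : P.1 t < 1 := by
    apply Valuation.map_sum_lt P.1 one_ne_zero
    intro l _
    rw [map_mul]
    calc P.1 (algebraMap k K (μ l)) * P.1 (hv l) ≤ 1 * P.1 (hv l) := mul_le_mul' (P.2.1 _) le_rfl
      _ = P.1 (hv l) := one_mul _
      _ < 1 := hα l.succ
  have hψj : φ 0 / φ 0 = 1 := div_self hj0
  have hαj : α 0 = 1 := residue_max_eq_one P hψj (hα 0)
  have hprin : ∀ u ∈ A, P.1 u < 1 → ∃ G ∈ A, u * w = t * G := by
    intro u hu hu1
    obtain ⟨c0, G, hG, hue⟩ := adjoin_decomp (fun i => φ i / φ 0) α u hu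
    have hsumlt : P.1 (∑ i, (φ i / φ 0 - algebraMap k K (α i)) * G i) < 1 := by
      apply Valuation.map_sum_lt P.1 one_ne_zero
      intro l _
      rw [map_mul]
      calc P.1 (φ l / φ 0 - algebraMap k K (α l)) * P.1 (G l)
          ≤ P.1 (φ l / φ 0 - algebraMap k K (α l)) * 1 := mul_le_mul' le_rfl (hA1 _ (hG l))
        _ = P.1 (φ l / φ 0 - algebraMap k K (α l)) := mul_one _
        _ < 1 := hα l
    have hc0 : c0 = 0 := by
      by_contra hne0
      have h1 : P.1 (algebraMap k K c0) = 1 := place_trivOn P _ hne0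
      rw [hue, Valuation.map_add_eq_of_lt_left _ (by rw [h1]; exact hsumlt), h1] at hu1
      exact lt_irrefl _ hu1
    rw [hc0, map_zero, zero_add, Fin.sum_univ_succ, hψj, hαj, map_one, sub_self, zero_mul,
      zero_add] at hue
    refine ⟨∑ j : Fin n, G j.succ * g j, sum_mem fun j _ => mul_mem (hG _) (hgA j), ?_⟩
    rw [hue, Finset.sum_mul, Finset.mul_sum]
    apply Finset.sum_congr rfl
    intro j _
    have := hg j
    calc (φ j.succ / φ 0 - algebraMap k K (α j.succ)) * G j.succ * w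
        = G j.succ * (hv j * w) := by rw [hhv]; ring
      _ = t * (G j.succ * g j) := by rw [this]; ring
  have hfrac : ∀ z : K, ∃ p ∈ A, ∃ q ∈ A, q ≠ 0 ∧ z = p / q := by
    intro z
    have hz : z ∈ IntermediateField.adjoin k (Set.range fun i => φ i / φ 0) := by
      rw [hbir]; trivial
    obtain ⟨p, hp, q, hq, hzpq⟩ := IntermediateField.mem_adjoin_iff_div.mp hz
    by_cases hq0 : q = 0
    · refine ⟨0, zero_mem _, 1, one_mem _, one_ne_zero, ?_⟩
      rw [hzpq, hq0, div_zero, zero_div]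
    · exact ⟨p, hp, q, hq, hq0, hzpq⟩
  have hloc := loc_of_principal P A hA1 hfrac t w htA ht0 hwA ht1 hw1 hprin
  intro z hz
  exact ⟨0, hj0, hP, hloc z hz⟩

end

end Groth.Agent.Lib.LeadKP
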