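import Mathlib
import Groth.Agent.Lib.LeadLGA7
import Groth.Agent.S19587
import Groth.Agent.S19589
import Groth.Agent.S16598

set_option autoImplicit false
set_option linter.style.haveILetI false

universe u v w

namespace Groth.Agent.Lib.LeadLGA

open TensorProduct

section Std

variable {R : Type*} [CommRing R] (A : Type*) [Ring A] [Algebra R A] {P : Type*} [AddCommGroup P]
  [Module R P] (p₀ : P) (f₀ : Module.Dual R P)

/-- the rank one idempotent endomorphism `x ↦ f₀ x • p₀` -/
def epsE : Module.End R P := f₀.smulRight p₀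

theorem epsE_apply (x : P) : epsE p₀ f₀ x = f₀ x • p₀ := rfl

theorem epsE_mul_self (h₀ : f₀ p₀ = 1) : epsE p₀ f₀ * epsE p₀ f₀ = epsE p₀ f₀ := by
  ext x
  simp [Module.End.mul_apply, epsE_apply, h₀]

theorem epsE_mul_mul (φ : Module.End R P) :
    epsE p₀ f₀ * φ * epsE p₀ f₀ = f₀ (φ p₀) • epsE p₀ f₀ := by
  ext x
  simp only [Module.End.mul_apply, epsE_apply, map_smul, LinearMap.smul_apply, smul_eq_mul]
  rw [smul_smul, smul_smul, mul_comm]

/-- the corner functional `a ⊗ φ ↦ f₀ (φ p₀) • a` -/
noncomputable def kappa : A ⊗[R] Module.End R P →ₗ[R] A :=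
  (TensorProduct.rid R A).toLinearMap ∘ₗ LinearMap.lTensor A (f₀ ∘ₗ LinearMap.applyₗ p₀)

theorem kappa_tmul (a : A) (φ : Module.End R P) : kappa A p₀ f₀ (a ⊗ₜ φ) = f₀ (φ p₀) • a := by
  simp [kappa]

/-- the standard corner data of `A ⊗ End P` attached to a unimodular element of `P` -/
noncomputable def stdCorner (h₀ : f₀ p₀ = 1) :
    CornerData R (A ⊗[R] Module.End R P) A (A ⊗[R] P) where
  ε := (1 : A) ⊗ₜ[R] epsE p₀ f₀
  hε := by
    show ((1 : A) ⊗ₜ[R] epsE p₀ f₀) * ((1 : A) ⊗ₜ[R] epsE p₀ f₀) = _
    rw [Algebra.TensorProduct.tmul_mul_tmul, one_mul, epsE_mul_self p₀ f₀ h₀]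
  ρ := (TensorProduct.mk R A (Module.End R P)).flip (epsE p₀ f₀)
  ρ_one := rfl
  ρ_mul a b := by
    simp only [LinearMap.flip_apply, TensorProduct.mk_apply]
    rw [Algebra.TensorProduct.tmul_mul_tmul, epsE_mul_self p₀ f₀ h₀]
  ρ_inj := by
    intro a b h
    have h1 := congrArg (kappa A p₀ f₀) h
    simp only [LinearMap.flip_apply, TensorProduct.mk_apply, kappa_tmul, epsE_apply, h₀, one_smul,
      map_smul, smul_eq_mul, mul_one] at h1
    exact h1
  ρ_surj l := by
    refine ⟨kappa A p₀ f₀ l, ?_⟩
    induction l using TensorProduct.induction_on with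
    | zero => simp
    | add x y hx hy => rw [mul_add, add_mul, hx, hy, map_add, map_add]
    | tmul a φ =>
      simp only [LinearMap.flip_apply, TensorProduct.mk_apply, kappa_tmul]
      rw [Algebra.TensorProduct.tmul_mul_tmul, Algebra.TensorProduct.tmul_mul_tmul, one_mul,
        mul_one, epsE_mul_mul, TensorProduct.smul_tmul]
  i := LinearMap.lTensor A (LinearMap.smulRightₗ f₀)
  π := LinearMap.lTensor A (LinearMap.applyₗ p₀)
  πi x := by
    induction x using TensorProduct.induction_on with
    | zero => simp
    | add x y hx hy => rw [map_add, map_add, hx, hy]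
    | tmul a p => simp [h₀]
  iπ l := by
    induction l using TensorProduct.induction_on with
    | zero => simp
    | add x y hx hy => rw [map_add, map_add, hx, hy, add_mul]
    | tmul a φ =>
      simp only [LinearMap.lTensor_tmul, LinearMap.applyₗ_apply_apply]
      rw [Algebra.TensorProduct.tmul_mul_tmul, mul_one]
      congr 1
      ext x
      simp [Module.End.mul_apply, epsE_apply]

end Std

section Ranks

variable {R : Type u} [CommRing R]

theorem rankAtStalk_linearMap (M : Type v) [AddCommGroup M] [Module R M] [Module.Finite R M]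
    [Module.Projective R M] (N : Type w) [AddCommGroup N] [Module R N] [Module.Finite R N]
    [Module.Projective R N] (p : PrimeSpectrum R) :
    Module.rankAtStalk (M →ₗ[R] N) p = Module.rankAtStalk M p * Module.rankAtStalk N p := by
  haveI : Module.FinitePresentation R M := Module.finitePresentation_of_projective R M
  let S := p.asIdeal.primeCompl
  let e : LocalizedModule S (M →ₗ[R] N) ≃ₗ[Localization.AtPrime p.asIdeal]
      (LocalizedModule S M →ₗ[Localization.AtPrime p.asIdeal] LocalizedModule S N) :=
    (IsLocalizedModule.linearEquiv S (LocalizedModule.mkLinearMap S (M →ₗ[R] N))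
      (LocalizedModule.map S (M := M) (N := N))).extendScalarsOfIsLocalization S
        (Localization.AtPrime p.asIdeal)
  haveI : Module.Free (Localization.AtPrime p.asIdeal) (LocalizedModule S N) :=
    Module.free_of_flat_of_isLocalRing
  haveI : Module.Free (Localization.AtPrime p.asIdeal) (LocalizedModule S M) :=
    Module.free_of_flat_of_isLocalRing
  rw [Module.rankAtStalk, e.finrank_eq, Module.finrank_linearMap]
  rfl

theorem rankAtStalk_pos_of_faithful (M : Type v) [AddCommGroup M] [Module R M] [Module.Finite R M]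
    [Module.Projective R M] [FaithfulSMul R M] (p : PrimeSpectrum R) :
    0 < Module.rankAtStalk M p := by
  rw [Module.rankAtStalk_pos_iff_mem_support, Module.support_eq_zeroLocus,
    Module.annihilator_eq_bot.mpr inferInstance]
  simp

end Ranks

section Main

variable {R : Type u} [CommRing R]

/-- Brauer-equivalent Azumaya algebras of the same degree over an LG ring are isomorphic. -/
theorem algEquiv_of_brauerEquivalent (hR : LGRing.IsLGRing R) (A B : Type v) [Ring A]
    [Algebra R A] [IsAzumaya R A] [Ring B] [Algebra R B] [IsAzumaya R B]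
    (hdeg : ∀ p : PrimeSpectrum R, Module.rankAtStalk A p = Module.rankAtStalk B p)
    (P Q : Type w) [AddCommGroup P] [Module R P] [Module.Finite R P] [Module.Projective R P]
    [FaithfulSMul R P] [AddCommGroup Q] [Module R Q] [Module.Finite R Q] [Module.Projective R Q]
    [FaithfulSMul R Q] (e : A ⊗[R] Module.End R P ≃ₐ[R] B ⊗[R] Module.End R Q) :
    Nonempty (A ≃ₐ[R] B) := by
  obtain ⟨p₀, f₀, h₀⟩ := Groth.Agent.S16598.result hR P
  obtain ⟨q₀, g₀, k₀⟩ := Groth.Agent.S16598.result hR Q
  haveI : IsAzumaya R (Module.End R P) := Groth.Agent.S19589.result R P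
  haveI : IsAzumaya R (Module.End R Q) := Groth.Agent.S19589.result R Q
  haveI : IsAzumaya R (A ⊗[R] Module.End R P) := Groth.Agent.S19587.result R A (Module.End R P)
  let D₁ := stdCorner A p₀ f₀ h₀
  let D₂ := (stdCorner B q₀ g₀ k₀).transport e
  refine algEquiv_of_cornerData hR D₁ D₂ (fun p => ?_)
  have h1 := congrFun (Module.rankAtStalk_eq_of_equiv e.toLinearEquiv) p
  rw [Module.rankAtStalk_tensorProduct, Module.rankAtStalk_tensorProduct, Pi.mul_apply,
    Pi.mul_apply, hdeg p] at h1
  have h2 : Module.rankAtStalk (Module.End R P) p = Module.rankAtStalk (Module.End R Q) p :=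
    Nat.eq_of_mul_eq_mul_left (rankAtStalk_pos_of_faithful B p) h1
  have h3 : Module.rankAtStalk P p = Module.rankAtStalk Q p := by
    have h4 := rankAtStalk_linearMap P P p
    have h5 := rankAtStalk_linearMap Q Q p
    have h6 : Module.rankAtStalk P p * Module.rankAtStalk P p =
        Module.rankAtStalk Q p * Module.rankAtStalk Q p := by
      rw [← h4, ← h5]
      exact h2
    exact Nat.mul_self_inj.mp h6
  rw [Module.rankAtStalk_tensorProduct, Module.rankAtStalk_tensorProduct, Pi.mul_apply,
    Pi.mul_apply, hdeg p, h3]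

end Main

end Groth.Agent.Lib.LeadLGA
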