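import Mathlib

/-!
# Lead: sections of `tilde` modules over basic opens, elementwise

`app_eq_zero_of_ker_le`: for `ℓ : N ⟶ Y`, `t : N ⟶ P` with `ker ℓ ≤ ker t`, a section of `N~` over `D(f)`
killed by `ℓ~` is killed by `t~`.
-/

set_option autoImplicit false
universe u
open CategoryTheory Limits AlgebraicGeometry TopologicalSpace Opposite

namespace Groth.Agent.Lib.LeadTildeLoc

variable {R : CommRingCat.{u}}

/-- the map on sections over `U` induced by `tilde.map φ`, as an `R`-linear map. -/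
noncomputable abbrev secMap {N P : ModuleCat.{u} R} (φ : N ⟶ P) (U : (Spec R).Opens) :
    ((modulesSpecToSheaf.obj (tilde N)).presheaf.obj (op U)) →ₗ[R]
      ((modulesSpecToSheaf.obj (tilde P)).presheaf.obj (op U)) :=
  ((modulesSpecToSheaf.map (tilde.map φ)).1.app (op U)).hom

theorem secMap_toOpen {N P : ModuleCat.{u} R} (φ : N ⟶ P) (U : (Spec R).Opens) (z : N) :
    secMap φ U ((tilde.toOpen N U).hom z) = (tilde.toOpen P U).hom (φ.hom z) := by
  have := congrArg (fun g => g.hom z) (tilde.toOpen_map_app φ U)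
  exact this

theorem secMap_eq_zero_of_ker_le {N P Y : ModuleCat.{u} R} (ℓ : N ⟶ Y) (t : N ⟶ P)
    (ht : LinearMap.ker ℓ.hom ≤ LinearMap.ker t.hom) (f : R) (U : (Spec R).Opens)
    [hN : IsLocalizedModule (Submonoid.powers f) (tilde.toOpen N U).hom]
    [hY : IsLocalizedModule (Submonoid.powers f) (tilde.toOpen Y U).hom]
    [hP : IsLocalizedModule (Submonoid.powers f) (tilde.toOpen P U).hom]
    (x : (modulesSpecToSheaf.obj (tilde N)).presheaf.obj (op U))
    (hx : secMap ℓ U x = 0) : secMap t U x = 0 := by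
  obtain ⟨⟨z, ⟨s, hsf⟩⟩, hs⟩ := IsLocalizedModule.surj (Submonoid.powers f) (tilde.toOpen N U).hom x
  have hs' : s • x = (tilde.toOpen N U).hom z := hs
  -- `s • x = toOpen z`
  have h1 : (tilde.toOpen Y U).hom (ℓ.hom z) = 0 := by
    have e := secMap_toOpen ℓ U z
    rw [← hs', map_smul, hx, smul_zero] at e
    exact e.symm
  obtain ⟨⟨c, hcf⟩, hc⟩ := (IsLocalizedModule.eq_zero_iff (Submonoid.powers f)
    (tilde.toOpen Y U).hom).mp h1
  have hc' : c • ℓ.hom z = 0 := hc
  have h2 : t.hom (c • z) = 0 := by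
    apply ht
    rw [LinearMap.mem_ker, map_smul]
    exact hc'
  have h3 : (tilde.toOpen P U).hom (t.hom z) = 0 := by
    rw [IsLocalizedModule.eq_zero_iff (Submonoid.powers f)]
    refine ⟨⟨c, hcf⟩, ?_⟩
    change c • t.hom z = 0
    rw [← map_smul]
    exact h2
  have h4 : s • secMap t U x = 0 := by
    rw [← map_smul, hs', secMap_toOpen, h3]
  have hu := IsLocalizedModule.map_units (tilde.toOpen P U).hom (⟨s, hsf⟩ : Submonoid.powers f)
  have hinj := ((Module.End.isUnit_iff _).mp hu).injective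
  apply hinj
  rw [map_zero]
  exact h4

end Groth.Agent.Lib.LeadTildeLoc
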