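import Mathlib
import Groth.Prelude.Def_Algz
import Groth.Prelude.Def_Formal2
import Groth.Agent.Lib.LeadTildeLoc
import Groth.Agent.Lib.LeadAdicLim
import Groth.Agent.Lib.Helper23QCohLocal
import Groth.Prelude.Def_CxOX
import Groth.Agent.Lib.Helper1KoszulPerf
import Groth.Agent.Lib.Helper23FinType
import Groth.Agent.Lib.Helper20Nakayama
import Groth.Agent.Lib.Helper4DevD
import Groth.Agent.Lib.LeadProIso2

/-!
# Lead: if the limit topology on `M = lim H⁰(U, G_n)` is `I`-adic, then `((M/I^(n+1)M)~|_U) → (G_n)` is injective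
on compatible families of sections over basic opens.
-/

set_option autoImplicit false
set_option linter.style.haveILetI false
universe u
open CategoryTheory Limits AlgebraicGeometry TopologicalSpace Opposite

namespace Groth.Agent.Lib.LeadLimTop

open Groth.Agent.Lib.LeadTildeLoc Groth.Agent.Lib.LeadAdicLim

section Alg

variable (A : Type u) [CommRing A] (I : Ideal A) (M : Type u) [AddCommGroup M] [Module A M]

/-- the transition map `M/I^(k+1)M → M/I^(n+1)M` for `n ≤ k`. -/
noncomputable def τ {n k : ℕ} (h : n ≤ k) : Formal2.quotPow A I M k →ₗ[A] Formal2.quotPow A I M n :=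
  Submodule.mapQ _ _ LinearMap.id (by
    rw [Submodule.comap_id]
    exact Submodule.smul_mono_left (Ideal.pow_le_pow_right (Nat.succ_le_succ h)))

theorem τ_mk {n k : ℕ} (h : n ≤ k) (m : M) :
    τ A I M h (Submodule.Quotient.mk m) = Submodule.Quotient.mk m := rfl

theorem τ_refl (n : ℕ) : τ A I M (le_refl n) = LinearMap.id := by
  apply Submodule.linearMap_qext
  ext m
  rfl

theorem τ_succ {n k : ℕ} (h : n ≤ k) :
    τ A I M (h.trans (Nat.le_succ k)) = (τ A I M h).comp (Formal2.quotPowTrans A I M k) := by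
  apply Submodule.linearMap_qext
  ext m
  simp only [τ, Formal2.quotPowTrans, LinearMap.comp_apply, Submodule.mkQ_apply,
    Submodule.mapQ_apply, LinearMap.id_apply]

end Alg

section Sections

theorem tmodMap_id (A : Type u) [CommRing A] (M : Type u) [AddCommGroup M] [Module A M] :
    Formal2.tmodMap A (LinearMap.id : M →ₗ[A] M) = 𝟙 _ :=
  (tilde.functor (CommRingCat.of A)).map_id (ModuleCat.of A M)

theorem tmodMap_comp (A : Type u) [CommRing A] {M N P : Type u} [AddCommGroup M] [Module A M]
    [AddCommGroup N] [Module A N] [AddCommGroup P] [Module A P] (g : N →ₗ[A] P) (h : M →ₗ[A] N) :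
    Formal2.tmodMap A (g.comp h) = Formal2.tmodMap A h ≫ Formal2.tmodMap A g :=
  (tilde.functor (CommRingCat.of A)).map_comp (ModuleCat.ofHom h) (ModuleCat.ofHom g)

variable (A : Type u) [CommRing A] (I : Ideal A) (M : Type u) [AddCommGroup M] [Module A M]

/-- compatible families of sections: the `k`-th member maps to the `n`-th one under `τ`. -/
theorem app_τ_eq (V : (Spec (CommRingCat.of A)).Opens)
    (x : ∀ n : ℕ, (Scheme.Modules.presheaf (Formal2.tmod A (Formal2.quotPow A I M n))).obj (op V))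
    (hx : ∀ n : ℕ, Scheme.Modules.Hom.app (Formal2.tmodMap A (Formal2.quotPowTrans A I M n)) V
      (x (n + 1)) = x n) {n k : ℕ} (h : n ≤ k) :
    Scheme.Modules.Hom.app (Formal2.tmodMap A (τ A I M h)) V (x k) = x n := by
  induction k, h using Nat.le_induction with
  | base =>
    have e : Formal2.tmodMap A (τ A I M (le_refl n)) = 𝟙 _ :=
      (congrArg (Formal2.tmodMap A) (τ_refl A I M n)).trans (tmodMap_id A _)
    have e2 := congrArg (fun φ => Scheme.Modules.Hom.app φ V (x n)) e
    exact e2
  | succ k hk ih =>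
    have e : Formal2.tmodMap A (τ A I M (hk.trans (Nat.le_succ k))) =
        Formal2.tmodMap A (Formal2.quotPowTrans A I M k) ≫ Formal2.tmodMap A (τ A I M hk) :=
      (congrArg (Formal2.tmodMap A) (τ_succ A I M hk)).trans (tmodMap_comp A _ _)
    have e2 := congrArg (fun φ => Scheme.Modules.Hom.app φ V (x (k + 1))) e
    refine e2.trans ?_
    change Scheme.Modules.Hom.app (Formal2.tmodMap A (τ A I M hk)) V
      (Scheme.Modules.Hom.app (Formal2.tmodMap A (Formal2.quotPowTrans A I M k)) V
        (x (k + 1))) = x n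
    rw [hx k, ih]

end Sections

section Main

theorem isLocalizedModule_toOpen {R : CommRingCat.{u}} (N : ModuleCat.{u} R) (f : R) :
    IsLocalizedModule (Submonoid.powers f)
      (tilde.toOpen N (PrimeSpectrum.basicOpen f : (Spec R).Opens)).hom :=
  inferInstanceAs (IsLocalizedModule.Away f (tilde.toOpen N (PrimeSpectrum.basicOpen f)).hom)

variable (A : Type u) [CommRing A] (I : Ideal A)

theorem sections_eq_zero (U : (Spec (CommRingCat.of A)).Opens) [QuasiCompact U.ι]
    (G : ℕᵒᵖ ⥤ (U : Scheme.{u}).Modules) (hq : ∀ j, (G.obj j).IsQuasicoherent)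
    (hb : ∀ k : ℕ, ∃ n : ℕ, LinearMap.ker (limit.π (Algz.sectMod A U G) (op n)).hom ≤
      I ^ k • (⊤ : Submodule A ↑(limit (Algz.sectMod A U G))))
    (ℓ : ∀ n : ℕ, ModuleCat.of A (Formal2.quotPow A I ↑(limit (Algz.sectMod A U G)) n) ⟶
      (Algz.sectMod A U G).obj (op n))
    (hℓ : ∀ n : ℕ, ModuleCat.ofHom (Formal2.quotPowπ A I ↑(limit (Algz.sectMod A U G)) n) ≫ ℓ n =
      limit.π (Algz.sectMod A U G) (op n))
    (f : A)
    (x : ∀ n : ℕ, (Scheme.Modules.presheaf (Formal2.tmod A
      (Formal2.quotPow A I ↑(limit (Algz.sectMod A U G)) n))).obj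
        (op (PrimeSpectrum.basicOpen f : (Spec (CommRingCat.of A)).Opens)))
    (hx : ∀ n : ℕ, Scheme.Modules.Hom.app (Formal2.tmodMap A
      (Formal2.quotPowTrans A I ↑(limit (Algz.sectMod A U G)) n))
        (PrimeSpectrum.basicOpen f : (Spec (CommRingCat.of A)).Opens) (x (n + 1)) = x n)
    (hx0 : ∀ n : ℕ, Scheme.Modules.Hom.app
      (((tilde.adjunction (R := CommRingCat.of A)).homEquiv
        (ModuleCat.of A (Formal2.quotPow A I ↑(limit (Algz.sectMod A U G)) n))
        ((Scheme.Modules.pushforward U.ι).obj (G.obj (op n)))).symm (ℓ n))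
      (PrimeSpectrum.basicOpen f : (Spec (CommRingCat.of A)).Opens) (x n) = 0) :
    ∀ n : ℕ, x n = 0 := by
  intro n
  obtain ⟨n'', hn''⟩ := hb (n + 1)
  have hnk : n ≤ max n n'' := le_max_left _ _
  have hK : LinearMap.ker (limit.π (Algz.sectMod A U G) (op (max n n''))).hom ≤
      I ^ (n + 1) • (⊤ : Submodule A ↑(limit (Algz.sectMod A U G))) := by
    refine le_trans ?_ hn''
    intro y hy
    rw [LinearMap.mem_ker] at hy ⊢
    rw [← π_map_apply (Algz.sectMod A U G) (le_max_right n n'') y, hy, map_zero]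
  set k := max n n'' with hk
  -- kernels
  have hker : LinearMap.ker (ℓ k).hom ≤ LinearMap.ker (ModuleCat.ofHom
      (τ A I ↑(limit (Algz.sectMod A U G)) hnk)).hom := by
    intro y hy
    obtain ⟨m, rfl⟩ := Submodule.Quotient.mk_surjective _ y
    rw [LinearMap.mem_ker] at hy ⊢
    have e : (ℓ k).hom (Submodule.Quotient.mk m) = (limit.π (Algz.sectMod A U G) (op k)).hom m :=
      congrArg (fun g => g.hom m) (hℓ k)
    rw [e] at hy
    have hm := hK (LinearMap.mem_ker.mpr hy)
    change τ A I _ hnk (Submodule.Quotient.mk m) = 0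
    rw [τ_mk]
    exact (Submodule.Quotient.mk_eq_zero _).mpr hm
  -- the adjoint map
  haveI := hq (op k)
  haveI : ((Scheme.Modules.pushforward U.ι).obj (G.obj (op k))).IsQuasicoherent :=
    Groth.Agent.Lib.Helper23.QCohLocal.isQuasicoherent_pushforward U.ι (G.obj (op k))
  let ε := (tilde.adjunction (R := CommRingCat.of A)).counit.app
    ((Scheme.Modules.pushforward U.ι).obj (G.obj (op k)))
  haveI : IsIso ε := Scheme.Modules.isIso_fromTildeΓ_of_isQuasicoherent
    ((Scheme.Modules.pushforward U.ι).obj (G.obj (op k)))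
  have hadj := Adjunction.homEquiv_counit (tilde.adjunction (R := CommRingCat.of A))
    (ModuleCat.of A (Formal2.quotPow A I ↑(limit (Algz.sectMod A U G)) k))
    ((Scheme.Modules.pushforward U.ι).obj (G.obj (op k))) (ℓ k)
  have h0 := hx0 k
  rw [hadj] at h0
  have h1 : Scheme.Modules.Hom.app ((tilde.functor (CommRingCat.of A)).map (ℓ k))
      (PrimeSpectrum.basicOpen f : (Spec (CommRingCat.of A)).Opens) (x k) = 0 := by
    have e1 := congrArg (fun φ => Scheme.Modules.Hom.app φ
      (PrimeSpectrum.basicOpen f : (Spec (CommRingCat.of A)).Opens)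
      (Scheme.Modules.Hom.app ((tilde.functor (CommRingCat.of A)).map (ℓ k))
      (PrimeSpectrum.basicOpen f : (Spec (CommRingCat.of A)).Opens) (x k))) (IsIso.hom_inv_id ε)
    have e2 : Scheme.Modules.Hom.app (ε ≫ inv ε)
        (PrimeSpectrum.basicOpen f : (Spec (CommRingCat.of A)).Opens)
        (Scheme.Modules.Hom.app ((tilde.functor (CommRingCat.of A)).map (ℓ k))
          (PrimeSpectrum.basicOpen f : (Spec (CommRingCat.of A)).Opens) (x k)) =
        Scheme.Modules.Hom.app (inv ε)
          (PrimeSpectrum.basicOpen f : (Spec (CommRingCat.of A)).Opens)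
          (Scheme.Modules.Hom.app ((tilde.functor (CommRingCat.of A)).map (ℓ k) ≫ ε)
          (PrimeSpectrum.basicOpen f : (Spec (CommRingCat.of A)).Opens) (x k)) := rfl
    have h0' : Scheme.Modules.Hom.app ((tilde.functor (CommRingCat.of A)).map (ℓ k) ≫ ε)
        (PrimeSpectrum.basicOpen f : (Spec (CommRingCat.of A)).Opens) (x k) = 0 := h0
    rw [e2, h0', map_zero] at e1
    exact e1.symm
  haveI i1 := isLocalizedModule_toOpen (R := CommRingCat.of A)
    (ModuleCat.of A (Formal2.quotPow A I ↑(limit (Algz.sectMod A U G)) k)) f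
  haveI i2 := isLocalizedModule_toOpen (R := CommRingCat.of A)
    ((Algz.sectMod A U G).obj (op k)) f
  haveI i3 := isLocalizedModule_toOpen (R := CommRingCat.of A)
    (ModuleCat.of A (Formal2.quotPow A I ↑(limit (Algz.sectMod A U G)) n)) f
  have h2 := secMap_eq_zero_of_ker_le (R := CommRingCat.of A) (ℓ k)
    (ModuleCat.ofHom (τ A I ↑(limit (Algz.sectMod A U G)) hnk)) hker f
    (PrimeSpectrum.basicOpen f : (Spec (CommRingCat.of A)).Opens) (x k) h1
  have h3 := app_τ_eq A I ↑(limit (Algz.sectMod A U G))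
    (PrimeSpectrum.basicOpen f : (Spec (CommRingCat.of A)).Opens) x hx hnk
  rw [← h3]
  exact h2

/-- if some kernel of `M → H⁰(U, G_k)` lies in `I^(n+1) M`, then `(M/I^(n+1)M)~|_U` is coherent. -/
theorem isCoh_restrict_tmod_quotPow [IsNoetherianRing A]
    (U : (Spec (CommRingCat.of A)).Opens) [QuasiCompact U.ι]
    (G : ℕᵒᵖ ⥤ (U : Scheme.{u}).Modules) (hG : ∀ j, Coh.IsCoh (G.obj j))
    (hb : ∀ k : ℕ, ∃ n : ℕ, LinearMap.ker (limit.π (Algz.sectMod A U G) (op n)).hom ≤
      I ^ k • (⊤ : Submodule A ↑(limit (Algz.sectMod A U G)))) (n : ℕ) :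
    Coh.IsCoh ((Scheme.Modules.restrictFunctor U.ι).obj
      (Formal2.tmod A (Formal2.quotPow A I ↑(limit (Algz.sectMod A U G)) n))) := by
  obtain ⟨k, hk⟩ := hb (n + 1)
  let Φ : ModuleCat.{u} A ⥤ (U : Scheme.{u}).Modules :=
    tilde.functor (CommRingCat.of A) ⋙ Scheme.Modules.restrictFunctor U.ι
  haveI : (tilde.functor (CommRingCat.of A)).PreservesEpimorphisms :=
    Functor.preservesEpimorphisms_of_adjunction (tilde.adjunction (R := CommRingCat.of A))
  haveI : (Scheme.Modules.restrictFunctor U.ι).PreservesEpimorphisms :=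
    Functor.preservesEpimorphisms_of_adjunction (Scheme.Modules.restrictAdjunction U.ι)
  haveI : (tilde.functor (CommRingCat.of A)).PreservesMonomorphisms :=
    Groth.Agent.Lib.Helper1.KoszulPerf.preservesMonomorphisms_tilde (CommRingCat.of A)
  haveI : (Scheme.Modules.restrictFunctor U.ι).PreservesMonomorphisms := inferInstance
  haveI : Φ.PreservesEpimorphisms := by dsimp only [Φ]; infer_instance
  haveI : Φ.PreservesMonomorphisms := by dsimp only [Φ]; infer_instance
  let π := (limit.π (Algz.sectMod A U G) (op k)).hom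
  let R' : ModuleCat.{u} A := ModuleCat.of A (LinearMap.range π)
  let i : R' ⟶ (Algz.sectMod A U G).obj (op k) :=
    ModuleCat.ofHom (X := LinearMap.range π) (Y := (Algz.sectMod A U G).obj (op k))
      (LinearMap.range π).subtype
  have hle : LinearMap.ker π ≤ LinearMap.ker
      (Formal2.quotPowπ A I ↑(limit (Algz.sectMod A U G)) n) := by
    rw [Submodule.ker_mkQ]; exact hk
  let q : R' ⟶ ModuleCat.of A (Formal2.quotPow A I ↑(limit (Algz.sectMod A U G)) n) :=
    ModuleCat.ofHom (((LinearMap.ker π).liftQ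
      (Formal2.quotPowπ A I ↑(limit (Algz.sectMod A U G)) n) hle).comp
        (LinearMap.quotKerEquivRange π).symm.toLinearMap)
  haveI : Mono i := (ModuleCat.mono_iff_injective i).mpr
    (show Function.Injective (LinearMap.range π).subtype from Submodule.injective_subtype _)
  haveI : Epi q := by
    rw [ModuleCat.epi_iff_surjective]
    intro y
    obtain ⟨m, rfl⟩ := Submodule.Quotient.mk_surjective _ y
    refine ⟨⟨π m, LinearMap.mem_range_self π m⟩, ?_⟩
    have e := LinearMap.quotKerEquivRange_symm_apply_image π m (LinearMap.mem_range_self π m)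
    change ((LinearMap.ker π).liftQ _ hle)
      ((LinearMap.quotKerEquivRange π).symm ⟨π m, LinearMap.mem_range_self π m⟩) = _
    rw [e]
    rfl
  -- `Φ(X_k) ≅ G_k` is coherent
  haveI hqk : (G.obj (op k)).IsQuasicoherent := (hG (op k)).1
  haveI : IsIso ((Groth.Agent.Lib.LeadProIso.sectRestrictNat U).app (G.obj (op k))) :=
    Groth.Agent.Lib.LeadProIso.isIso_sectRestrictNat_app U _
  have hΦX : Coh.IsCoh (Φ.obj ((Algz.sectMod A U G).obj (op k))) :=
    Groth.Agent.Lib.Helper4.Dev.isCoh_of_iso
      (asIso ((Groth.Agent.Lib.LeadProIso.sectRestrictNat U).app (G.obj (op k)))).symm (hG (op k))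
  haveI : (Φ.obj ((Algz.sectMod A U G).obj (op k))).IsQuasicoherent := hΦX.1
  haveI : SheafOfModules.IsFiniteType (R := (U : Scheme.{u}).ringCatSheaf)
      (Φ.obj ((Algz.sectMod A U G).obj (op k))) := hΦX.2
  haveI : ((tilde.functor (CommRingCat.of A)).obj R').IsQuasicoherent :=
    inferInstanceAs (tilde (R := CommRingCat.of A) R').IsQuasicoherent
  haveI hQR : (Φ.obj R').IsQuasicoherent := by dsimp only [Φ, Functor.comp_obj]; infer_instance
  haveI : IsLocallyNoetherian (U : Scheme.{u}) := inferInstance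
  haveI hFR : SheafOfModules.IsFiniteType (R := (U : Scheme.{u}).ringCatSheaf) (Φ.obj R') :=
    Groth.Agent.Lib.Helper23.FinType.isFiniteType_of_mono (Φ.map i)
  haveI : Epi (Φ.map q) := Functor.map_epi Φ q
  haveI : ((tilde.functor (CommRingCat.of A)).obj
      (ModuleCat.of A (Formal2.quotPow A I ↑(limit (Algz.sectMod A U G)) n))).IsQuasicoherent :=
    inferInstanceAs (tilde (R := CommRingCat.of A)
      (ModuleCat.of A (Formal2.quotPow A I ↑(limit (Algz.sectMod A U G)) n))).IsQuasicoherent
  refine ⟨?_, ?_⟩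
  · change (Φ.obj (ModuleCat.of A (Formal2.quotPow A I ↑(limit (Algz.sectMod A U G)) n))).IsQuasicoherent
    dsimp only [Φ, Functor.comp_obj]; infer_instance
  · exact @Groth.Agent.Lib.Helper20.Nakayama.isFiniteType_of_epi _ _ _ (Φ.map q)
      (Functor.map_epi Φ q) hFR

end Main

end Groth.Agent.Lib.LeadLimTop
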