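import Mathlib
import Groth.Prelude.Def_Algz
import Groth.Agent.Lib.LeadProIso2
import Groth.Agent.Lib.LeadMLLim

/-!
# Lead: for a Mittag-Leffler system of sections, `M~|_U ⟶ F_n` is an epimorphism
-/

set_option autoImplicit false
set_option linter.style.haveILetI false
universe u
open CategoryTheory CategoryTheory.Limits AlgebraicGeometry Opposite

namespace Groth.Agent.Lib.LeadMLEpi

open Groth.Agent.Lib.LeadProIso Groth.Agent.Lib.LeadMLLim

section Abstract

variable {A : Type u} [CommRing A] {D : Type*} [Category D]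

/-- a functor preserving epimorphisms sends maps with the same image to simultaneously epi maps. -/
theorem epi_map_of_range_le (Φ : ModuleCat.{u} A ⥤ D) [Φ.PreservesEpimorphisms]
    {X Y Z : ModuleCat.{u} A} (f : X ⟶ Z) (g : Y ⟶ Z)
    (h : LinearMap.range g.hom ≤ LinearMap.range f.hom) (hg : Epi (Φ.map g)) : Epi (Φ.map f) := by
  let Rg : ModuleCat.{u} A := ModuleCat.of A (LinearMap.range f.hom)
  let i : Rg ⟶ Z := ModuleCat.ofHom (LinearMap.range f.hom).subtype
  let ef : X ⟶ Rg := ModuleCat.ofHom f.hom.rangeRestrict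
  let eg : Y ⟶ Rg := ModuleCat.ofHom
    (LinearMap.codRestrict (LinearMap.range f.hom) g.hom (fun y => h ⟨y, rfl⟩))
  have hf : ef ≫ i = f := by ext x; rfl
  have hgfac : eg ≫ i = g := by ext x; rfl
  haveI : Epi ef := by
    rw [ModuleCat.epi_iff_surjective]
    exact LinearMap.surjective_rangeRestrict f.hom
  haveI : Epi (Φ.map i) := by
    haveI : Epi (Φ.map eg ≫ Φ.map i) := by rw [← Φ.map_comp, hgfac]; exact hg
    exact epi_of_epi (Φ.map eg) (Φ.map i)
  rw [← hf, Φ.map_comp]
  exact epi_comp _ _

end Abstract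

section Main

variable (A : Type u) [CommRing A]

theorem epi_adjoint_π (U : (Spec (CommRingCat.of A)).Opens) [QuasiCompact U.ι]
    (G : ℕᵒᵖ ⥤ (U : Scheme.{u}).Modules) (hq : ∀ j, (G.obj j).IsQuasicoherent)
    (hepi : ∀ {n k : ℕ} (h : n ≤ k), Epi (G.map (homOfLE h).op))
    (ha : ARSys.IsML (Algz.sectMod A U G)) (n : ℕ) :
    Epi (((Scheme.Modules.restrictAdjunction U.ι).homEquiv _ (G.obj (op n))).symm
      (((tilde.adjunction (R := CommRingCat.of A)).homEquiv (limit (Algz.sectMod A U G))
        ((Scheme.Modules.pushforward U.ι).obj (G.obj (op n)))).symm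
          (limit.π (Algz.sectMod A U G) (op n)))) := by
  let Φ : ModuleCat.{u} A ⥤ (U : Scheme.{u}).Modules :=
    tilde.functor (CommRingCat.of A) ⋙ Scheme.Modules.restrictFunctor U.ι
  haveI : (tilde.functor (CommRingCat.of A)).PreservesEpimorphisms :=
    Functor.preservesEpimorphisms_of_adjunction (tilde.adjunction (R := CommRingCat.of A))
  haveI : (Scheme.Modules.restrictFunctor U.ι).PreservesEpimorphisms :=
    Functor.preservesEpimorphisms_of_adjunction (Scheme.Modules.restrictAdjunction U.ι)
  haveI : Φ.PreservesEpimorphisms := by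
    dsimp only [Φ]; infer_instance
  -- the map is `Φ(π_n)` followed by the isomorphism `(H⁰(U, G_n))~|_U ≅ G_n`
  have hmap : ((Scheme.Modules.restrictAdjunction U.ι).homEquiv _ (G.obj (op n))).symm
      (((tilde.adjunction (R := CommRingCat.of A)).homEquiv (limit (Algz.sectMod A U G))
        ((Scheme.Modules.pushforward U.ι).obj (G.obj (op n)))).symm
          (limit.π (Algz.sectMod A U G) (op n))) =
      Φ.map (limit.π (Algz.sectMod A U G) (op n)) ≫ (sectRestrictNat U).app (G.obj (op n)) := by
    have e1 := Adjunction.homEquiv_counit (tilde.adjunction (R := CommRingCat.of A))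
      (limit (Algz.sectMod A U G)) ((Scheme.Modules.pushforward U.ι).obj (G.obj (op n)))
      (limit.π (Algz.sectMod A U G) (op n))
    rw [Adjunction.homEquiv_counit, e1, Functor.map_comp, Category.assoc]
    rfl
  rw [hmap]
  haveI := hq (op n)
  haveI : IsIso ((sectRestrictNat U).app (G.obj (op n))) := isIso_sectRestrictNat_app U _
  -- the stable image
  obtain ⟨r, hr⟩ := range_π_eq_of_isML (Algz.sectMod A U G) ha n
  have hnat := (sectRestrictNat U).naturality (G.map (homOfLE (Nat.le_add_right n r)).op)
  haveI := hq (op (n + r))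
  haveI : IsIso ((sectRestrictNat U).app (G.obj (op (n + r)))) := isIso_sectRestrictNat_app U _
  have hT : Epi ((Scheme.Modules.pushforward U.ι ⋙ moduleSpecΓFunctor (R := CommRingCat.of A) ⋙
      tilde.functor (CommRingCat.of A) ⋙ Scheme.Modules.restrictFunctor U.ι).map
        (G.map (homOfLE (Nat.le_add_right n r)).op)) := by
    have e : (Scheme.Modules.pushforward U.ι ⋙ moduleSpecΓFunctor (R := CommRingCat.of A) ⋙
        tilde.functor (CommRingCat.of A) ⋙ Scheme.Modules.restrictFunctor U.ι).map
          (G.map (homOfLE (Nat.le_add_right n r)).op) =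
        ((sectRestrictNat U).app (G.obj (op (n + r))) ≫
          (𝟭 _).map (G.map (homOfLE (Nat.le_add_right n r)).op)) ≫
          inv ((sectRestrictNat U).app (G.obj (op n))) := by
      rw [IsIso.eq_comp_inv]
      exact hnat
    rw [e]
    haveI : Epi ((𝟭 (U : Scheme.{u}).Modules).map (G.map (homOfLE (Nat.le_add_right n r)).op)) :=
      hepi (Nat.le_add_right n r)
    infer_instance
  have hΦt : Epi (Φ.map ((Algz.sectMod A U G).map (homOfLE (Nat.le_add_right n r)).op)) := hT
  have h1 : Epi (Φ.map (limit.π (Algz.sectMod A U G) (op n))) :=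
    epi_map_of_range_le Φ _ _ hr.ge hΦt
  have h2 : Epi ((sectRestrictNat U).app (G.obj (op n))) := IsIso.epi_of_iso _
  exact @epi_comp _ _ _ _ _ _ h1 _ h2

end Main

end Groth.Agent.Lib.LeadMLEpi
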