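import Groth.Agent.Lib.LeadMS1
import Mathlib.FieldTheory.KummerPolynomial
import Mathlib.FieldTheory.PurelyInseparable.Exponent

/-! `[K : kK^p] = p`, separating elements. -/

namespace Groth.Agent.Lib.LeadMS

open FunFld Polynomial IntermediateField

universe u v
variable {k : Type u} {K : Type v} [Field k] [Field K] [Algebra k K]

/-- `kK^p`. -/
noncomputable abbrev Fp (k : Type u) (K : Type v) [Field k] [Field K] [Algebra k K] (p : ℕ) :
    IntermediateField k K :=
  IntermediateField.adjoin k (Set.range fun y : K => y ^ p)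

lemma pow_mem_Fp (p : ℕ) (y : K) : y ^ p ∈ Fp k K p :=
  IntermediateField.subset_adjoin _ _ ⟨y, rfl⟩

/-- zero set of a derivation as an intermediate field -/
noncomputable def kerD {M : Type*} [AddCommGroup M] [Module K M] [Module k M]
    [IsScalarTower k K M] (D : Derivation k K M) : IntermediateField k K where
  carrier := {z | D z = 0}
  mul_mem' := by
    intro a b ha hb
    simp only [Set.mem_setOf_eq] at *
    rw [D.leibniz, ha, hb]; simp
  one_mem' := D.map_one_eq_zero
  add_mem' := by
    intro a b ha hb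
    simp only [Set.mem_setOf_eq] at *
    rw [map_add, ha, hb, add_zero]
  zero_mem' := map_zero D
  algebraMap_mem' := fun c => D.map_algebraMap c
  inv_mem' := by
    intro a ha
    simp only [Set.mem_setOf_eq] at *
    rw [D.leibniz_inv, ha, smul_zero]

lemma D_eq_zero_of_mem (p : ℕ) [CharP K p] {M : Type*} [AddCommGroup M] [Module K M] [Module k M]
    [IsScalarTower k K M] (D : Derivation k K M) {x : K} (hx : x ∈ Fp k K p) : D x = 0 := by
  have : Fp k K p ≤ kerD D := by
    rw [IntermediateField.adjoin_le_iff]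
    rintro _ ⟨y, rfl⟩
    show D (y ^ p) = 0
    rw [D.leibniz_pow, ← Nat.cast_smul_eq_nsmul K, CharP.cast_eq_zero, zero_smul]
  exact this hx

theorem separable_of_sup_eq_top (p : ℕ) [hp : Fact p.Prime] [CharP K p]
    (E : IntermediateField k K) [FiniteDimensional E K]
    (h : E ⊔ Fp k K p = ⊤) : Algebra.IsSeparable E K := by
  classical
  haveI : CharP E p := (RingHom.charP_iff _ (algebraMap E K).injective p).mpr inferInstance
  haveI : ExpChar E p := ExpChar.prime hp.out
  let S := separableClosure E K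
  haveI : CharP S p := (RingHom.charP_iff _ (algebraMap S K).injective p).mpr inferInstance
  haveI : ExpChar S p := ExpChar.prime hp.out
  haveI : ExpChar K p := ExpChar.prime hp.out
  haveI : Algebra.IsAlgebraic E K := Algebra.IsAlgebraic.of_finite E K
  haveI : IsPurelyInseparable S K := separableClosure.isPurelyInseparable E K
  rw [← separableClosure.eq_top_iff]
  by_contra hne
  set e := IsPurelyInseparable.exponent S K with he
  have he0 : e ≠ 0 := by
    intro h0
    apply hne
    rw [eq_top_iff]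
    intro a _
    have := IsPurelyInseparable.exponent_def' S p a
    rw [← he, h0, pow_zero, pow_one] at this
    obtain ⟨s, hs⟩ := this
    rw [← hs]; exact s.2
  obtain ⟨a, ha⟩ := IsPurelyInseparable.exponent_min' (K := S) (L := K) p
    (show e - 1 < IsPurelyInseparable.exponent S K by rw [← he]; omega)
  let M₀ : Subfield K := S.toSubfield.comap (iterateFrobenius K p (e - 1))
  let M : IntermediateField k K := M₀.toIntermediateField (fun c => by
    show iterateFrobenius K p (e-1) (algebraMap k K c) ∈ S.toSubfield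
    rw [iterateFrobenius_def, ← map_pow]
    exact (S.algebraMap_mem (algebraMap k E (c ^ p ^ (e-1)))))
  have hEM : E ≤ M := by
    intro y hy
    show iterateFrobenius K p (e-1) y ∈ S.toSubfield
    rw [iterateFrobenius_def]
    simpa using S.algebraMap_mem ((⟨y, hy⟩ : E) ^ p ^ (e-1))
  have hFM : Fp k K p ≤ M := by
    rw [IntermediateField.adjoin_le_iff]
    rintro _ ⟨y, rfl⟩
    show iterateFrobenius K p (e-1) (y^p) ∈ S.toSubfield
    rw [iterateFrobenius_def, ← pow_mul, ← pow_succ',
      Nat.sub_add_cancel (Nat.one_le_iff_ne_zero.mpr he0)]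
    obtain ⟨s, hs⟩ := IsPurelyInseparable.exponent_def' S p y
    rw [← he] at hs
    rw [← hs]; exact s.2
  have haM : a ∈ M := by
    have : (⊤ : IntermediateField k K) ≤ M := h ▸ sup_le hEM hFM
    exact this IntermediateField.mem_top
  apply ha
  have h2 : a ^ p ^ (e-1) ∈ S := by
    have : iterateFrobenius K p (e-1) a ∈ S.toSubfield := haM
    rwa [iterateFrobenius_def] at this
  exact ⟨⟨_, h2⟩, rfl⟩

theorem sup_eq_top_of_separable (p : ℕ) [hp : Fact p.Prime] [CharP K p] (x : K)
    [Algebra.IsSeparable k⟮x⟯ K] : k⟮x⟯ ⊔ Fp k K p = ⊤ := by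
  haveI : CharP k⟮x⟯ p := (RingHom.charP_iff _ (algebraMap k⟮x⟯ K).injective p).mpr inferInstance
  haveI : ExpChar k⟮x⟯ p := ExpChar.prime hp.out
  have hEL : k⟮x⟯ ≤ k⟮x⟯ ⊔ Fp k K p := le_sup_left
  have h1 := IntermediateField.adjoin_eq_adjoin_pow_expChar_of_isSeparable' k⟮x⟯ K
    (Set.univ : Set K) p
  rw [IntermediateField.adjoin_univ] at h1
  have h2 : IntermediateField.adjoin k⟮x⟯ ((· ^ p) '' (Set.univ : Set K)) ≤
      IntermediateField.extendScalars hEL := by
    rw [IntermediateField.adjoin_le_iff]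
    rintro _ ⟨y, -, rfl⟩
    show y ^ p ∈ k⟮x⟯ ⊔ Fp k K p
    exact (le_sup_right : Fp k K p ≤ k⟮x⟯ ⊔ Fp k K p) (pow_mem_Fp p y)
  rw [eq_top_iff]
  intro y _
  have : y ∈ IntermediateField.extendScalars hEL := h2 (h1 ▸ IntermediateField.mem_top)
  exact this

theorem finrank_adjoin_of_not_mem (p : ℕ) [hp : Fact p.Prime] [CharP K p] {x : K}
    (hx : x ∉ Fp k K p) :
    IsIntegral (Fp k K p) x ∧ Module.finrank (Fp k K p) (Fp k K p)⟮x⟯ = p := by
  let c : Fp k K p := ⟨x ^ p, pow_mem_Fp p x⟩
  let q : (Fp k K p)[X] := X ^ p - C c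
  have hq0 : aeval x q = 0 := by
    simp only [q, map_sub, map_pow, aeval_X, aeval_C]
    exact sub_self _
  have hmonic : q.Monic := monic_X_pow_sub_C c hp.out.ne_zero
  have hirr : Irreducible q := by
    apply X_pow_sub_C_irreducible_of_prime hp.out
    intro b hb
    apply hx
    have h1 : ((b : K) - x) ^ p = 0 := by
      rw [sub_pow_char]
      have := congrArg (Subtype.val) hb
      simp only [c, SubmonoidClass.coe_pow] at this
      rw [this, sub_self]
    have h2 : (b : K) = x := sub_eq_zero.mp ((pow_eq_zero_iff hp.out.ne_zero).mp h1)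
    rw [← h2]; exact b.2
  have hint : IsIntegral (Fp k K p) x := ⟨q, hmonic, by rwa [← aeval_def]⟩
  refine ⟨hint, ?_⟩
  rw [IntermediateField.adjoin.finrank hint, ← minpoly.eq_of_irreducible_of_monic hirr hq0 hmonic]
  exact natDegree_X_pow_sub_C

theorem finrank_Fp (hK : IsFunctionField k K) (hg : IsGeometric k K) (p : ℕ) [hp : Fact p.Prime]
    [CharP K p] : Module.finrank (Fp k K p) K = p := by
  obtain ⟨x, hx, hsep⟩ := exists_separating hK hg
  have hD := (kaehler_of_separating hx).1
  have hxF : x ∉ Fp k K p := fun h => hD (D_eq_zero_of_mem p _ h)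
  obtain ⟨hint, hfin⟩ := finrank_adjoin_of_not_mem p hxF
  have htop : (Fp k K p)⟮x⟯ = ⊤ := by
    rw [← IntermediateField.restrictScalars_eq_top_iff (K := k),
      IntermediateField.restrictScalars_adjoin_eq_sup, sup_comm]
    exact sup_eq_top_of_separable p x
  rw [← IntermediateField.finrank_top', ← htop, hfin]

theorem separable_of_not_mem (hK : IsFunctionField k K) (hg : IsGeometric k K) (p : ℕ)
    [hp : Fact p.Prime] [CharP K p] {x : K} (hx : x ∉ Fp k K p) :
    Transcendental k x ∧ Algebra.IsSeparable k⟮x⟯ K := by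
  have hxk : x ∉ Set.range (algebraMap k K) := by
    rintro ⟨c, rfl⟩; exact hx ((Fp k K p).algebraMap_mem c)
  have hxt := Lib.LeadFF.transcendental_of_not_mem hK hxk
  haveI := Lib.LeadFF.finite_over_adjoin hK hxt
  refine ⟨hxt, separable_of_sup_eq_top p k⟮x⟯ ?_⟩
  obtain ⟨hint, hfin⟩ := finrank_adjoin_of_not_mem p hx
  have h1 := Module.finrank_mul_finrank (Fp k K p) (Fp k K p)⟮x⟯ K
  rw [hfin, finrank_Fp hK hg p] at h1
  have h2 : Module.finrank (Fp k K p)⟮x⟯ K = 1 :=
    Nat.eq_of_mul_eq_mul_left hp.out.pos (by rw [h1, mul_one])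
  have h3 := IntermediateField.finrank_eq_one_iff_eq_top.mp h2
  rw [← IntermediateField.restrictScalars_eq_top_iff (K := k),
    IntermediateField.restrictScalars_adjoin_eq_sup, sup_comm] at h3
  exact h3

theorem not_separable_of_mem (hK : IsFunctionField k K) (p : ℕ)
    [hp : Fact p.Prime] [CharP K p] {x : K} (hxF : x ∈ Fp k K p) :
    ¬ Algebra.IsSeparable k⟮x⟯ K := by
  intro hsep
  have hD := D_eq_zero_of_mem p (KaehlerDifferential.D k K) hxF
  by_cases hxk : x ∈ Set.range (algebraMap k K)
  · obtain ⟨⟨x₀, hx₀, -⟩, -⟩ := id hK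
    apply hx₀
    have h1 : IsAlgebraic k⟮x⟯ x₀ := (Algebra.IsSeparable.isSeparable k⟮x⟯ x₀).isIntegral.isAlgebraic
    obtain ⟨c, rfl⟩ := hxk
    haveI : Algebra.IsAlgebraic k k⟮algebraMap k K c⟯ :=
      IntermediateField.isAlgebraic_adjoin_simple isIntegral_algebraMap
    exact IsAlgebraic.restrictScalars k h1
  · exact (kaehler_of_separating (Lib.LeadFF.transcendental_of_not_mem hK hxk)).1 hD

end Groth.Agent.Lib.LeadMS
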