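import Groth.Agent.Lib.LeadMS2
import Groth.Prelude.Def_LocRes
import Groth.Prelude.Def_W4bk4goldsch23Ext

/-! Different exponents through Laurent expansions. -/

namespace Groth.Agent.Lib.LeadMS

open FunFld WithZero

section LS
variable {F : Type*} [Field F]
open LaurentSeries

lemma val_eq_exp_iff {f : F⸨X⸩} {n : ℤ} :
    Valued.v f = exp (-n) ↔ (∀ m < n, f.coeff m = 0) ∧ f.coeff n ≠ 0 := by
  constructor
  · intro h
    refine ⟨(LaurentSeries.valuation_le_iff_coeff_lt_eq_zero F).mp h.le, fun h0 => ?_⟩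
    have : Valued.v f ≤ exp (-(n+1)) := by
      rw [LaurentSeries.valuation_le_iff_coeff_lt_eq_zero]
      intro m hm
      rcases (by omega : m < n ∨ m = n) with h1 | rfl
      · exact (LaurentSeries.valuation_le_iff_coeff_lt_eq_zero F).mp h.le m h1
      · exact h0
    rw [h, exp_le_exp] at this; omega
  · rintro ⟨h1, h2⟩
    apply le_antisymm
    · exact (LaurentSeries.valuation_le_iff_coeff_lt_eq_zero F).mpr h1
    · by_contra hlt
      push Not at hlt
      rw [Lib.LeadFF.zm0_lt_exp_iff] at hlt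
      have h3 : Valued.v f ≤ exp (-(n+1)) := by
        rwa [show -(n+1) = -n - 1 by ring]
      exact h2 ((LaurentSeries.valuation_le_iff_coeff_lt_eq_zero F).mp h3 n (by omega))

lemma val_D_of_ne {f : F⸨X⸩} {n : ℤ} (hf : Valued.v f = exp (-n)) (hn : (n : F) ≠ 0) :
    Valued.v (LocRes.D F f) = exp (-(n-1)) := by
  rw [val_eq_exp_iff] at hf ⊢
  obtain ⟨h1, h2⟩ := hf
  refine ⟨fun m hm => ?_, ?_⟩
  · rw [LocRes.D_coeff, h1 (m+1) (by omega), smul_zero]
  · rw [LocRes.D_coeff, show n - 1 + 1 = n by ring, zsmul_eq_mul]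
    exact mul_ne_zero hn h2

lemma val_D_of_eq {f : F⸨X⸩} {n : ℤ} (hf : Valued.v f = exp (-n)) (hn : (n : F) = 0) :
    Valued.v (LocRes.D F f) ≤ exp (-n) := by
  rw [LaurentSeries.valuation_le_iff_coeff_lt_eq_zero]
  obtain ⟨h1, h2⟩ := val_eq_exp_iff.mp hf
  intro m hm
  rw [LocRes.D_coeff]
  rcases (by omega : m + 1 < n ∨ m + 1 = n) with h | h
  · rw [h1 _ h, smul_zero]
  · rw [h, zsmul_eq_mul, hn, zero_mul]

end LS

section Diff

universe u v
variable {k : Type u} {K : Type v} [Field k] [Field K] [Algebra k K]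
  {F : Type*} [Field F] [Algebra k F]

open LaurentSeries

theorem D_expand (φ : K →ₐ[k] F⸨X⸩) {x x' c : K}
    (h : KaehlerDifferential.D k K x' = c • KaehlerDifferential.D k K x) :
    LocRes.D F (φ x') = φ c * LocRes.D F (φ x) := by
  letI := φ.toRingHom.toAlgebra
  haveI : IsScalarTower k K F⸨X⸩ := LocRes.isScalarTower_exp φ
  have := congrArg (LocRes.dExp φ).liftKaehlerDifferential h
  rw [map_smul, Derivation.liftKaehlerDifferential_comp_D,
    Derivation.liftKaehlerDifferential_comp_D] at this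
  exact this

lemma vDiff_one (φ : K →ₐ[k] F⸨X⸩) (x : K) :
    LocRes.vDiff φ 1 x = Valued.v (LocRes.D F (φ x)) := by
  unfold LocRes.vDiff
  rw [map_one, one_mul]

theorem exists_ratio (hK : IsFunctionField k K) (hg : IsGeometric k K) (φ : K →ₐ[k] F⸨X⸩)
    {x x' : K} (hx : LocRes.D F (φ x) ≠ 0) (hx' : LocRes.D F (φ x') ≠ 0) :
    ∃ c : K, c ≠ 0 ∧ KaehlerDifferential.D k K x' = c • KaehlerDifferential.D k K x := by
  have hDx : KaehlerDifferential.D k K x ≠ 0 := by
    intro h0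
    apply hx
    have := D_expand φ (x := x) (x' := x) (c := 0) (by rw [h0, smul_zero])
    rw [this, map_zero, zero_mul]
  obtain ⟨c, hc⟩ := (finrank_eq_one_iff_of_nonzero' _ hDx).mp (finrank_kaehler hK hg)
    (KaehlerDifferential.D k K x')
  refine ⟨c, ?_, hc.symm⟩
  rintro rfl
  apply hx'
  rw [D_expand φ hc.symm, map_zero, zero_mul]

variable {K' : Type*} [Field K'] [Algebra K K'] [Algebra k K'] [IsScalarTower k K K']
  {F' : Type*} [Field F'] [Algebra k F']

theorem D_expand' (ψ : K' →ₐ[k] F'⸨X⸩) {x x' c : K}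
    (h : KaehlerDifferential.D k K x' = c • KaehlerDifferential.D k K x) :
    LocRes.D F' (ψ (algebraMap K K' x')) =
      ψ (algebraMap K K' c) * LocRes.D F' (ψ (algebraMap K K' x)) :=
  D_expand (ψ.comp (IsScalarTower.toAlgHom k K K')) h

theorem diffExp_eq (hK : IsFunctionField k K) (hg : IsGeometric k K)
    (P : Place k K) (Q : Place k K') (e : ℕ) (he : IsOverWith Q P e)
    (φ : K →ₐ[k] F⸨X⸩) (hφ : LocRes.IsExpansionAt P.1 φ)
    (ψ : K' →ₐ[k] F'⸨X⸩) (hψ : LocRes.IsExpansionAt Q.1 ψ)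
    (x x' : K) (hx : LocRes.vDiff φ 1 x ≠ 0) (hx' : LocRes.vDiff ψ 1 (algebraMap K K' x) ≠ 0)
    (hx2 : LocRes.vDiff φ 1 x' ≠ 0) :
    LocRes.diffExp φ ψ e x = LocRes.diffExp φ ψ e x' := by
  rw [vDiff_one] at hx hx' hx2
  have hx0 : LocRes.D F (φ x) ≠ 0 := fun h => hx (by rw [h, map_zero])
  have hx20 : LocRes.D F (φ x') ≠ 0 := fun h => hx2 (by rw [h, map_zero])
  obtain ⟨c, hc0, hc⟩ := exists_ratio hK hg φ hx0 hx20
  have h1 := D_expand φ hc
  have h2 := D_expand' ψ hc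
  have hPc : P.1 c ≠ 0 := (Valuation.ne_zero_iff _).mpr hc0
  have v1 : Valued.v (LocRes.D F (φ x')) = P.1 c * Valued.v (LocRes.D F (φ x)) := by
    rw [h1, map_mul, hφ.1]
  have v2 : Valued.v (LocRes.D F' (ψ (algebraMap K K' x'))) =
      (P.1 c) ^ e * Valued.v (LocRes.D F' (ψ (algebraMap K K' x))) := by
    rw [h2, map_mul, hψ.1, he]
  unfold LocRes.diffExp LocRes.ordDiff
  rw [vDiff_one, vDiff_one, vDiff_one, vDiff_one, v1, v2, log_mul hPc hx,
    log_mul (pow_ne_zero _ hPc) hx', log_pow]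
  simp only [nsmul_eq_mul]
  ring

theorem diffExp_tame_wild (hK : IsFunctionField k K) (hg : IsGeometric k K)
    (P : Place k K) (Q : Place k K') (e : ℕ) (he : IsOverWith Q P e)
    (φ : K →ₐ[k] F⸨X⸩) (hφ : LocRes.IsExpansionAt P.1 φ)
    (ψ : K' →ₐ[k] F'⸨X⸩) (hψ : LocRes.IsExpansionAt Q.1 ψ)
    (x : K) (hx : LocRes.vDiff φ 1 x ≠ 0) (hx' : LocRes.vDiff ψ 1 (algebraMap K K' x) ≠ 0) :
    (¬ (ringChar K ∣ e) → LocRes.diffExp φ ψ e x = (e : ℤ) - 1) ∧
      (ringChar K ∣ e → (e : ℤ) ≤ LocRes.diffExp φ ψ e x) := by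
  obtain ⟨t, ht⟩ := hφ.2.2
  have hφt : Valued.v (φ t) = exp (-(1 : ℤ)) := by rw [hφ.1, ht]
  have hDφt : Valued.v (LocRes.D F (φ t)) = 1 := by
    have := val_D_of_ne hφt (by simp)
    simpa using this
  have hψt : Valued.v (ψ (algebraMap K K' t)) = exp (-(e : ℤ)) := by
    rw [hψ.1, he, ht, ← exp_nsmul]; simp
  have hxv := hx
  have hxv' := hx'
  rw [vDiff_one] at hxv hxv'
  have hx0 : LocRes.D F (φ x) ≠ 0 := fun h => hxv (by rw [h, map_zero])
  have ht0 : LocRes.D F (φ t) ≠ 0 := fun h => by rw [h, map_zero] at hDφt; exact zero_ne_one hDφt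
  obtain ⟨c, hc0, hc⟩ := exists_ratio hK hg φ hx0 ht0
  have hψt0 : Valued.v (LocRes.D F' (ψ (algebraMap K K' t))) ≠ 0 := by
    rw [D_expand' ψ hc, map_mul]
    refine mul_ne_zero ?_ hxv'
    rw [hψ.1, he]
    exact pow_ne_zero _ ((Valuation.ne_zero_iff _).mpr hc0)
  have heq := diffExp_eq hK hg P Q e he φ hφ ψ hψ x t hx hx' (by rw [vDiff_one, hDφt]; exact one_ne_zero)
  have hdt : LocRes.diffExp φ ψ e t =
      - log (Valued.v (LocRes.D F' (ψ (algebraMap K K' t)))) := by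
    unfold LocRes.diffExp LocRes.ordDiff
    rw [vDiff_one, vDiff_one, hDφt, log_one]; ring
  haveI : CharP K (ringChar K) := ringChar.charP K
  haveI : CharP k (ringChar K) :=
    (RingHom.charP_iff _ (algebraMap k K).injective (ringChar K)).mpr inferInstance
  haveI : CharP F' (ringChar K) :=
    charP_of_injective_algebraMap (algebraMap k F').injective (ringChar K)
  have hcast : (((e : ℤ)) : F') = 0 ↔ ringChar K ∣ e := by
    rw [Int.cast_natCast]; exact CharP.cast_eq_zero_iff F' (ringChar K) e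
  rw [heq, hdt]
  constructor
  · intro hnd
    have := val_D_of_ne hψt (fun h => hnd (hcast.mp h))
    rw [this, log_exp]; ring
  · intro hd
    have := val_D_of_eq hψt (hcast.mpr hd)
    rw [← exp_log hψt0, exp_le_exp] at this
    omega

end Diff

end Groth.Agent.Lib.LeadMS
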