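import Groth.Agent.Lib.LeadMS5

/-! Local parameters at separable places are separating. -/

namespace Groth.Agent.Lib.LeadMS

open FunFld IntermediateField WithZero

section ResMap

variable {k K K' : Type*} [Field k] [Field K] [Field K'] [Algebra k K] [Algebra K K']
  [Algebra k K'] [IsScalarTower k K K'] [FiniteDimensional K K']

/-- the `k`-linear residue field map for `Q` over `P`. -/
noncomputable def resMap {Q : Place k K'} {P : Place k K} {e : ℕ} (h : IsOverWith Q P e) :
    IsLocalRing.ResidueField P.O →ₗ[k] IsLocalRing.ResidueField Q.O :=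
  { toFun := IsLocalRing.ResidueField.map (Lib.LeadFF.overHom h)
    map_add' := map_add _
    map_smul' := by
      intro c z
      obtain ⟨w, rfl⟩ := IsLocalRing.residue_surjective z
      change IsLocalRing.ResidueField.map (Lib.LeadFF.overHom h) (IsLocalRing.residue _ (c • w)) =
        c • IsLocalRing.ResidueField.map (Lib.LeadFF.overHom h) (IsLocalRing.residue _ w)
      rw [IsLocalRing.ResidueField.map_residue, IsLocalRing.ResidueField.map_residue]
      change _ = IsLocalRing.residue _ (c • Lib.LeadFF.overHom h w)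
      congr 1
      rw [Algebra.smul_def, Algebra.smul_def, map_mul]
      congr 1
      apply Subtype.ext
      change algebraMap K K' (algebraMap k K c) = algebraMap k K' c
      rw [← IsScalarTower.algebraMap_apply] }

lemma resMap_residue {Q : Place k K'} {P : Place k K} {e : ℕ} (h : IsOverWith Q P e) (w : P.O) :
    resMap h (IsLocalRing.residue _ w) = IsLocalRing.residue _ (Lib.LeadFF.overHom h w) :=
  IsLocalRing.ResidueField.map_residue _ _

end ResMap

universe u v
variable {k : Type u} {K : Type v} [Field k] [Field K] [Algebra k K]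

theorem unif_not_mem_Fp (hK : IsFunctionField k K) (hg : IsGeometric k K) (p : ℕ)
    [hp : Fact p.Prime] [CharP K p] (P : Place k K)
    [Algebra.IsSeparable k (IsLocalRing.ResidueField P.O)] {t : K}
    (ht : P.1 t = exp (-1 : ℤ)) : t ∉ Fp k K p := by
  classical
  intro htF
  obtain ⟨⟨x₀, hx₀, -⟩, -⟩ := id hK
  obtain ⟨hfinFK, hKF⟩ := Lib.LeadFF.isFunctionField_intermediate hK (Fp k K p)
    ⟨x₀ ^ p, pow_mem_Fp p x₀, hx₀.pow hp.out.pos⟩
  haveI := hfinFK
  obtain ⟨P₀, e, he0, he⟩ := Lib.LeadFF.exists_below (K := Fp k K p) (K' := K) hKF P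
  have ht0 : t ≠ 0 := Lib.LeadFF.unif_ne_zero ht
  have he1 : e = 1 := by
    have h1 := he ⟨t, htF⟩
    change P.1 t = _ at h1
    rw [ht] at h1
    have ht0' : (⟨t, htF⟩ : Fp k K p) ≠ 0 := by
      intro h; exact ht0 (congrArg Subtype.val h)
    rw [Lib.LeadFF.val_eq_exp_neg_ord P₀ ht0', Lib.LeadFF.zm0_exp_pow, exp_inj] at h1
    have hd : (e : ℤ) ∣ 1 := ⟨P₀.ord ⟨t, htF⟩, by linarith⟩
    have := Int.eq_one_of_dvd_one (by positivity) hd
    exact_mod_cast this
  subst he1
  have huniq : ∀ Q : Place k K, IsOver Q P₀ → Q = P := by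
    rintro Q ⟨eQ, hQ⟩
    apply Lib.LeadFF.place_eq_of_le
    intro y hy
    have h1 : Q.1 (y ^ p) ≤ 1 := by rw [map_pow]; exact pow_le_one₀ zero_le' hy
    have h2 := hQ ⟨y ^ p, pow_mem_Fp p y⟩
    change Q.1 (y ^ p) = _ at h2
    rw [h2] at h1
    have h3 : P₀.1 ⟨y ^ p, pow_mem_Fp p y⟩ ≤ 1 := by
      by_contra hlt
      push Not at hlt
      exact absurd h1 (not_le.mpr (one_lt_pow₀ hlt (Lib.LeadFF.isOverWith_pos hQ).ne'))
    have h4 := he ⟨y ^ p, pow_mem_Fp p y⟩
    change P.1 (y ^ p) = _ at h4
    rw [pow_one] at h4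
    rw [← h4, map_pow] at h3
    by_contra hlt
    push Not at hlt
    exact absurd h3 (not_le.mpr (one_lt_pow₀ hlt hp.out.ne_zero))
  have hsum := Lib.LeadFF.sum_ramIdx_deg (K := Fp k K p) (K' := K) hKF P₀ {P} (by
    intro Q; rw [Finset.mem_singleton]; exact ⟨fun h => h ▸ ⟨1, he⟩, huniq Q⟩)
  rw [Finset.sum_singleton, Lib.LeadFF.ramIdx_eq he, finrank_Fp hK hg p, one_mul] at hsum
  have hdeg : P.deg ≤ P₀.deg := by
    haveI := Lib.LeadFF.residueField_finite hK P
    haveI := Lib.LeadFF.residueField_finite hKF P₀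
    haveI : CharP k p := (RingHom.charP_iff _ (algebraMap k K).injective p).mpr inferInstance
    haveI : ExpChar k p := ExpChar.prime hp.out
    let b := Module.finBasis k (IsLocalRing.ResidueField P.O)
    have hb : LinearIndependent k (fun i => b i ^ p ^ 1) :=
      LinearIndependent.map_pow_expChar_pow_of_isSeparable p 1 b.linearIndependent
    choose u hu using fun i => IsLocalRing.residue_surjective (b i)
    have hw : ∀ i, P₀.1 ⟨(u i : K) ^ p, pow_mem_Fp p _⟩ ≤ 1 := by
      intro i
      have h4 := he ⟨(u i : K) ^ p, pow_mem_Fp p _⟩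
      change P.1 ((u i : K) ^ p) = _ at h4
      rw [pow_one] at h4
      rw [← h4, map_pow]
      exact pow_le_one₀ zero_le' ((Valuation.mem_valuationSubring_iff _ _).mp (u i).2)
    let w : Fin (Module.finrank k (IsLocalRing.ResidueField P.O)) → P₀.O := fun i =>
      ⟨⟨(u i : K) ^ p, pow_mem_Fp p _⟩, (Valuation.mem_valuationSubring_iff _ _).mpr (hw i)⟩
    have hφ : ∀ i, resMap he (IsLocalRing.residue _ (w i)) = b i ^ p ^ 1 := by
      intro i
      rw [resMap_residue, pow_one, ← hu i, ← map_pow]
      congr 1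
    have hli : LinearIndependent k (fun i => IsLocalRing.residue P₀.O (w i)) := by
      apply LinearIndependent.of_comp (resMap he)
      convert hb using 1
      funext i
      exact hφ i
    have := hli.fintype_card_le_finrank
    simpa [Place.deg] using this
  have hpos := Lib.LeadFF.deg_pos hKF P₀
  have h2 := hp.out.two_le
  nlinarith

theorem D_unif_ne_zero (hK : IsFunctionField k K) (hg : IsGeometric k K) (P : Place k K)
    [Algebra.IsSeparable k (IsLocalRing.ResidueField P.O)] {t : K}
    (ht : P.1 t = exp (-1 : ℤ)) : KaehlerDifferential.D k K t ≠ 0 := by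
  classical
  have ht0 : t ≠ 0 := Lib.LeadFF.unif_ne_zero ht
  have htt : Transcendental k t := by
    apply Lib.LeadFF.transcendental_of_val_ne_one hK P ht0
    rw [ht, ← exp_zero]; intro h; rw [exp_inj] at h; omega
  rcases CharP.exists' K with h0 | ⟨p, hp, hc⟩
  · haveI : CharZero k⟮t⟯ := RingHom.charZero (algebraMap k⟮t⟯ K)
    haveI := Lib.LeadFF.isAlgebraic_over_adjoin hK htt
    haveI : Algebra.IsSeparable k⟮t⟯ K := Algebra.IsAlgebraic.isSeparable_of_perfectField
    exact (kaehler_of_separating htt).1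
  · have hnot := unif_not_mem_Fp hK hg p P ht
    obtain ⟨hxt, hsep⟩ := separable_of_not_mem hK hg p hnot
    exact (kaehler_of_separating hxt).1

end Groth.Agent.Lib.LeadMS
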