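import Groth.Agent.Lib.LeadFF10
import Groth.Agent.Lib.LeadCE8

/-! Towards the norm formula: `O_P` is a PID; adele-space dimension counts without the
function-field hypothesis; a counting bound for families independent modulo a valuation condition. -/

namespace Groth.Agent.Lib.LeadNM

open FunFld WithZero Groth.Agent.Lib.LeadFF

section PID

variable {k K : Type*} [Field k] [Field K] [Algebra k K]

lemma exists_val_eq_exp_neg (P : Place k K) {a : K} (ha : P.1 a ≤ 1) (ha0 : a ≠ 0) :
    ∃ n : ℕ, P.1 a = exp (-(n : ℤ)) := by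
  have h := val_eq_exp_neg_ord P ha0
  have h0 : 0 ≤ P.ord a := by
    rw [h, ← exp_zero, exp_le_exp] at ha
    omega
  refine ⟨(P.ord a).toNat, ?_⟩
  rw [h, Int.toNat_of_nonneg h0]

instance isPrincipalIdealRing_O (P : Place k K) : IsPrincipalIdealRing P.O := by
  classical
  constructor
  intro I
  by_cases hI : I = ⊥
  · rw [hI]; exact bot_isPrincipal
  obtain ⟨b, hbI, hb0⟩ := Submodule.exists_mem_ne_zero_of_ne_bot hI
  have hex : ∃ n : ℕ, ∃ a ∈ I, a ≠ 0 ∧ P.1 (a : K) = exp (-(n : ℤ)) := by
    obtain ⟨n, hn⟩ := exists_val_eq_exp_neg P b.2 (fun h => hb0 (Subtype.ext h))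
    exact ⟨n, b, hbI, hb0, hn⟩
  obtain ⟨a, haI, ha0, hna⟩ := Nat.find_spec hex
  have hmin := fun m (hm : m < Nat.find hex) => Nat.find_min hex hm
  have ha0' : (a : K) ≠ 0 := fun h => ha0 (Subtype.ext h)
  refine ⟨⟨a, le_antisymm ?_ ?_⟩⟩
  · intro c hc
    by_cases hc0 : c = 0
    · rw [hc0]; exact Submodule.zero_mem _
    obtain ⟨m, hm⟩ := exists_val_eq_exp_neg P c.2 (fun h => hc0 (Subtype.ext h))
    have hle : Nat.find hex ≤ m := by
      by_contra hlt
      exact hmin m (not_le.mp hlt) ⟨c, hc, hc0, hm⟩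
    have hq : P.1 ((c : K) / a) ≤ 1 := by
      rw [map_div₀, hm, hna, ← exp_sub]
      have h' : exp (-(m : ℤ) - -(Nat.find hex : ℤ)) ≤ exp (0 : ℤ) := exp_le_exp.mpr (by omega)
      rwa [exp_zero] at h'
    rw [Submodule.mem_span_singleton]
    refine ⟨⟨(c : K) / a, hq⟩, ?_⟩
    apply Subtype.ext
    show (c : K) / a * a = c
    field_simp
  · rw [Submodule.span_le, Set.singleton_subset_iff]
    exact haI

end PID

section ADdim

variable {k K : Type*} [Field k] [Field K] [Algebra k K]

lemma AD_step' (hfin : ∀ P : Place k K, Module.Finite k (IsLocalRing.ResidueField P.O))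
    (D : Divisor k K) (P : Place k K) :
    Module.Finite k (RQ (AD D) (AD (D + Finsupp.single P 1))) ∧
    Module.finrank k (RQ (AD D) (AD (D + Finsupp.single P 1))) = P.deg := by
  obtain ⟨t, ht⟩ := exists_unif P
  haveI := hfin P
  let e := rqEquivOfSurjective (adResMap D P t ht) (adResMap_surjective D P t ht)
    (ker_adResMap D P t ht)
  exact ⟨Module.Finite.equiv e.symm, e.finrank_eq⟩

lemma AD_induction' (hfin : ∀ P : Place k K, Module.Finite k (IsLocalRing.ResidueField P.O)) :
    ∀ (n : ℕ) (D E : Divisor k K), D ≤ E →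
    tot (E - D) = n →
    Module.Finite k (RQ (AD D) (AD E)) ∧
      (Module.finrank k (RQ (AD D) (AD E)) : ℤ) = E.deg - D.deg := by
  intro n
  induction n with
  | zero =>
    intro D E hDE htot
    have : E - D = 0 := eq_zero_of_tot_eq_zero (sub_nonneg.mpr hDE) (by simpa using htot)
    have hE : E = D := sub_eq_zero.mp this
    subst hE
    haveI := rq_self_subsingleton (AD E)
    refine ⟨inferInstance, ?_⟩
    rw [Module.finrank_zero_of_subsingleton]; simp
  | succ n ih =>
    intro D E hDE htot
    have hpos : 0 < tot (E - D) := by rw [htot]; positivity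
    obtain ⟨P, hP⟩ := exists_pos_of_tot_pos (sub_nonneg.mpr hDE) hpos
    let E' : Divisor k K := E - Finsupp.single P 1
    have hDE' : D ≤ E' := by
      classical
      intro Q
      simp only [E', Finsupp.coe_sub, Pi.sub_apply]
      by_cases hQ : Q = P
      · subst hQ
        simp only [Finsupp.single_eq_same]
        simp only [Finsupp.coe_sub, Pi.sub_apply] at hP
        omega
      · simp only [Finsupp.single_eq_of_ne hQ, sub_zero]; exact hDE Q
    have htot' : tot (E' - D) = n := by
      have : E' - D = (E - D) - Finsupp.single P 1 := by simp only [E']; abel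
      rw [this, tot_sub, tot_single, htot]; push_cast; ring
    obtain ⟨hfin', heq'⟩ := ih D E' hDE' htot'
    have hEE' : E' + Finsupp.single P 1 = E := by simp only [E']; abel
    obtain ⟨h1, h2⟩ := AD_step' hfin E' P
    rw [hEE'] at h1 h2
    have hE'E : E' ≤ E := by
      rw [← hEE']
      intro Q
      simp only [Finsupp.coe_add, Pi.add_apply]
      have : (0 : ℤ) ≤ (Finsupp.single P (1 : ℤ)) Q := by
        classical
        by_cases hQ : Q = P
        · subst hQ; simp
        · simp [Finsupp.single_eq_of_ne hQ]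
      linarith
    haveI := hfin'
    haveI := h1
    obtain ⟨h3, h4⟩ := rq_chain (AD_mono hDE') (AD_mono hE'E)
    refine ⟨h3, ?_⟩
    have hdeg : E.deg = E'.deg + P.deg := by
      rw [← hEE', deg_add, deg_single]; ring
    rw [h4, h2]
    push_cast
    rw [heq', hdeg]; ring

theorem AD_quot' (hfin : ∀ P : Place k K, Module.Finite k (IsLocalRing.ResidueField P.O))
    (D₁ D₂ : Divisor k K) (h : D₁ ≤ D₂) :
    Module.Finite k (RQ (AD D₁) (AD D₂)) ∧
    (Module.finrank k (RQ (AD D₁) (AD D₂)) : ℤ) = D₂.deg - D₁.deg :=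
  AD_induction' hfin (tot (D₂ - D₁)).toNat D₁ D₂ h
    (by rw [Int.toNat_of_nonneg (tot_nonneg (sub_nonneg.mpr h))])

end ADdim

section Count

variable {k K' : Type*} [Field k] [Field K'] [Algebra k K']

/-- a family in `R` that is `k`-independent modulo the conditions `v_Q ≥ m_Q` has at most
`∑ m_Q deg Q` members. -/
theorem card_le_of_indep_mod
    (hfin : ∀ Q : Place k K', Module.Finite k (IsLocalRing.ResidueField Q.O))
    (Qs : Finset (Place k K')) (m : Place k K' → ℕ)
    {ι : Type*} [Fintype ι] (r : ι → K') (hr : ∀ i, ∀ Q ∈ Qs, Q.1 (r i) ≤ 1)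
    (hind : ∀ c : ι → k, (∀ Q ∈ Qs, Q.1 (∑ i, algebraMap k K' (c i) * r i) ≤ exp (-(m Q : ℤ))) →
      ∀ i, c i = 0) :
    (Fintype.card ι : ℤ) ≤ ∑ Q ∈ Qs, (m Q : ℤ) * Q.deg := by
  classical
  let D : Divisor k K' := ∑ Q ∈ Qs, Finsupp.single Q (m Q : ℤ)
  have hDapp : ∀ Q ∈ Qs, D Q = m Q := by
    intro Q hQ
    simp only [D, Finsupp.coe_finset_sum, Finset.sum_apply, Finsupp.single_apply]
    rw [Finset.sum_ite_eq' Qs Q, if_pos hQ]
  have hD0 : 0 ≤ D := by
    intro Q
    simp only [D, Finsupp.coe_finset_sum, Finset.sum_apply, Finsupp.single_apply,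
      Finsupp.coe_zero, Pi.zero_apply]
    apply Finset.sum_nonneg
    intro Q' _
    split_ifs
    · positivity
    · exact le_rfl
  have hle : -D ≤ 0 := neg_nonpos.mpr hD0
  obtain ⟨hf, hdim⟩ := AD_quot' hfin (-D) 0 hle
  have hdegD : D.deg = ∑ Q ∈ Qs, (m Q : ℤ) * Q.deg := by
    simp only [D]
    rw [← degHom_apply, map_sum]
    simp only [degHom_apply, deg_single]
  rw [deg_zero, deg_neg, zero_sub, neg_neg, hdegD] at hdim
  -- the linear map
  have hck : ∀ (Q : Place k K') (x : k), Q.1 (algebraMap k K' x) ≤ 1 := fun Q => Q.2.1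
  let Ψ : (ι → k) →ₗ[k] (Place k K' → K') :=
    { toFun := fun c Q => if Q ∈ Qs then ∑ i, algebraMap k K' (c i) * r i else 0
      map_add' := by
        intro c c'
        ext Q
        simp only [Pi.add_apply]
        split_ifs
        · rw [← Finset.sum_add_distrib]
          apply Finset.sum_congr rfl
          intro i _
          rw [map_add, add_mul]
        · rw [add_zero]
      map_smul' := by
        intro a c
        ext Q
        simp only [Pi.smul_apply, RingHom.id_apply, smul_eq_mul]
        split_ifs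
        · rw [Algebra.smul_def, Finset.mul_sum]
          apply Finset.sum_congr rfl
          intro i _
          rw [map_mul, mul_assoc]
        · rw [smul_zero] }
  have hΨ0 : ∀ c, Ψ c ∈ AD (0 : Divisor k K') := by
    intro c Q
    show Q.1 (if Q ∈ Qs then ∑ i, algebraMap k K' (c i) * r i else 0) ≤ _
    rw [Finsupp.coe_zero, Pi.zero_apply, exp_zero]
    split_ifs with hQ
    · apply Valuation.map_sum_le
      intro i _
      rw [map_mul]
      exact mul_le_one' (hck Q _) (hr i Q hQ)
    · rw [map_zero]; exact zero_le'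
  let Φ : (ι → k) →ₗ[k] RQ (AD (-D)) (AD (0 : Divisor k K')) :=
    (Submodule.comap (AD (0 : Divisor k K')).subtype (AD (-D))).mkQ.comp
      (Ψ.codRestrict (AD (0 : Divisor k K')) hΨ0)
  have hΦ : Function.Injective Φ := by
    rw [← LinearMap.ker_eq_bot, LinearMap.ker_eq_bot']
    intro c hc
    have hc' : (Submodule.comap (AD (0 : Divisor k K')).subtype (AD (-D))).mkQ
        (Ψ.codRestrict (AD (0 : Divisor k K')) hΨ0 c) = 0 := hc
    rw [rq_mk_eq_zero] at hc'
    have hmem : Ψ c ∈ AD (-D) := hc'
    ext i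
    refine hind c (fun Q hQ => ?_) i
    have := hmem Q
    rw [Finsupp.coe_neg, Pi.neg_apply, hDapp Q hQ] at this
    have e : Ψ c Q = ∑ i, algebraMap k K' (c i) * r i := if_pos hQ
    rw [e] at this
    exact this
  haveI := hf
  have h1 := LinearMap.finrank_le_finrank_of_injective hΦ
  rw [Module.finrank_fintype_fun_eq_card] at h1
  calc (Fintype.card ι : ℤ) ≤ (Module.finrank k (RQ (AD (-D)) (AD (0 : Divisor k K'))) : ℤ) := by
        exact_mod_cast h1
    _ = _ := hdim

end Count

end Groth.Agent.Lib.LeadNM
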