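import Groth.Agent.Lib.LeadNM1
import Groth.Agent.Lib.LeadCE6
import Mathlib.LinearAlgebra.FreeModule.Norm
import Mathlib.LinearAlgebra.FreeModule.IdealQuotient
import Mathlib.RingTheory.Localization.NormTrace
import Mathlib.RingTheory.DedekindDomain.IntegralClosure

/-! The norm formula, one inequality: for `x` integral over `O_P`,
`deg P · v_P(N x) ≤ ∑_{Q | P} deg Q · v_Q(x)`. -/

namespace Groth.Agent.Lib.LeadNM

open FunFld WithZero Groth.Agent.Lib.LeadFF Groth.Agent.Lib.LeadCE

lemma prod_exp {ι : Type*} (s : Finset ι) (f : ι → ℤ) :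
    ∏ i ∈ s, (exp (f i) : ZM0) = exp (∑ i ∈ s, f i) := by
  classical
  induction s using Finset.induction_on with
  | empty => simp
  | insert a s ha ih => rw [Finset.prod_insert ha, Finset.sum_insert ha, ih, exp_add]

section

variable {k K : Type*} [Field k] [Field K] [Algebra k K]

lemma val_unit (P : Place k K) (u : (P.O)ˣ) : P.1 ((u : P.O) : K) = 1 := by
  have h1 : P.1 ((u : P.O) : K) ≤ 1 := (u : P.O).2
  have h2 : P.1 (((u⁻¹ : (P.O)ˣ) : P.O) : K) ≤ 1 := ((u⁻¹ : (P.O)ˣ) : P.O).2
  have h3 : ((u : P.O) : K) * (((u⁻¹ : (P.O)ˣ) : P.O) : K) = 1 := by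
    exact congrArg (Subtype.val) (u.mul_inv)
  have h4 : P.1 ((u : P.O) : K) * P.1 (((u⁻¹ : (P.O)ˣ) : P.O) : K) = 1 := by
    rw [← map_mul, h3, map_one]
  by_contra hne
  have hlt : P.1 ((u : P.O) : K) < 1 := lt_of_le_of_ne h1 hne
  have : P.1 ((u : P.O) : K) * P.1 (((u⁻¹ : (P.O)ˣ) : P.O) : K) < 1 :=
    mul_lt_one_of_nonneg_of_lt_one_left zero_le' hlt h2
  rw [h4] at this
  exact lt_irrefl _ this

end

variable {k K K' : Type*} [Field k] [Field K] [Field K'] [Algebra k K] [Algebra K K']
  [Algebra k K'] [IsScalarTower k K K'] [FiniteDimensional K K']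

theorem norm_le (hK : IsFunctionField k K) (P : Place k K) (Qs : Finset (Place k K'))
    (hQs : ∀ Q, Q ∈ Qs ↔ IsOver Q P) {x : K'} (hx0 : x ≠ 0) (hx : InR P x) :
    (P.deg : ℤ) * P.ord (Algebra.norm K x) ≤ ∑ Q ∈ Qs, (Q.deg : ℤ) * Q.ord x := by
  classical
  letI : Algebra P.O K' := ((algebraMap K K').comp (algebraMap P.O K)).toAlgebra
  haveI : IsScalarTower P.O K K' := IsScalarTower.of_algebraMap_eq (fun _ => rfl)
  obtain ⟨t, ht⟩ := exists_unif P
  have hK' : LeadFG.IsFF k K' := isFF_of_finite hK
  haveI : Module.Finite P.O (integralClosure P.O K') := integralClosure_finite hK P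
  haveI : Module.IsTorsionFree P.O K' := .trans_faithfulSMul P.O K K'
  haveI : Module.IsTorsionFree P.O (integralClosure P.O K') :=
    IsIntegralClosure.isTorsionFree P.O K'
  haveI : Module.Free P.O (integralClosure P.O K') := inferInstance
  haveI : IsLocalization (Algebra.algebraMapSubmonoid (integralClosure P.O K')
      (nonZeroDivisors P.O)) K' :=
    IsIntegralClosure.isLocalization P.O K K' (integralClosure P.O K')
  have hxint : IsIntegral P.O x := isIntegral_of_forall_over hK P hx
  let xs : integralClosure P.O K' := ⟨x, hxint⟩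
  have hxs0 : xs ≠ 0 := fun h => hx0 (congrArg Subtype.val h)
  let b := Module.Free.chooseBasis P.O (integralClosure P.O K')
  have hI : Ideal.span {xs} ≠ ⊥ := Ideal.span_singleton_eq_bot.not.2 hxs0
  set a := Ideal.smithCoeffs b (Ideal.span {xs}) hI with ha
  set b' := Ideal.ringBasis b (Ideal.span {xs}) hI with hb'
  have ha0 : ∀ i, a i ≠ 0 := Ideal.smithCoeffs_ne_zero b _ hI
  -- divisibility of coordinates of elements of the ideal
  have L1 : ∀ z ∈ Ideal.span {xs}, ∀ i, a i ∣ b'.repr z i := by
    intro z hz i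
    obtain ⟨d, hd⟩ : ∃ d : _ → P.O, z = ∑ j, (d j * a j) • b' j := by
      set dd := (Ideal.selfBasis b _ hI).repr ⟨z, hz⟩ with hdd
      refine ⟨fun j => dd j, ?_⟩
      have h0 := congrArg (fun y : (Ideal.span {xs} : Ideal (integralClosure P.O K')) =>
        (y : integralClosure P.O K')) ((Ideal.selfBasis b _ hI).sum_repr ⟨z, hz⟩)
      simp only at h0
      refine h0.symm.trans ?_
      rw [Submodule.coe_sum]
      apply Finset.sum_congr rfl
      intro j _
      show dd j • ((Ideal.selfBasis b (Ideal.span {xs}) hI j :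
          (Ideal.span {xs} : Ideal (integralClosure P.O K'))) : integralClosure P.O K')
        = (dd j * a j) • b' j
      rw [Ideal.selfBasis_def, smul_smul]
    rw [hd, Module.Basis.repr_sum_self]
    exact Dvd.intro_left _ rfl
  -- the norm
  have hnorm : Algebra.norm K x = algebraMap P.O K (Algebra.norm P.O xs) :=
    Algebra.norm_localization P.O (nonZeroDivisors P.O) xs (Rₘ := K) (Sₘ := K')
  obtain ⟨u, hu⟩ := associated_norm_prod_smith b hxs0
  have ha0' : ∀ i, ((a i : P.O) : K) ≠ 0 := fun i h => ha0 i (Subtype.ext h)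
  choose m hm using fun i => exists_val_eq_exp_neg P (a i).2 (ha0' i)
  have hvalN : P.1 (Algebra.norm K x) = exp (-(∑ i, (m i : ℤ))) := by
    have h1 : ((Algebra.norm P.O xs : P.O) : K) * ((u : P.O) : K) = ∏ i, ((a i : P.O) : K) := by
      have := congrArg (fun y : P.O => (y : K)) hu
      simpa using this
    have h2 : P.1 ((Algebra.norm P.O xs : P.O) : K) = ∏ i, P.1 ((a i : P.O) : K) := by
      have := congrArg P.1 h1
      rwa [map_mul, val_unit, mul_one, map_prod] at this
    rw [hnorm]
    show P.1 ((Algebra.norm P.O xs : P.O) : K) = _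
    rw [h2, Finset.prod_congr rfl (fun i _ => hm i), prod_exp, Finset.sum_neg_distrib]
  have hordN : P.ord (Algebra.norm K x) = ∑ i, (m i : ℤ) := by
    unfold Place.ord
    rw [hvalN, log_exp, neg_neg]
  -- residue basis lifts
  haveI := residueField_finite hK P
  let bF : Module.Basis (Fin P.deg) k (IsLocalRing.ResidueField P.O) := Module.finBasis k _
  let β : Fin P.deg → P.O := fun l => Function.surjInv IsLocalRing.residue_surjective (bF l)
  have hβ : LinearIndependent k (fun l => IsLocalRing.residue P.O (β l)) := by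
    have : (fun l => IsLocalRing.residue P.O (β l)) = bF := by
      funext l; exact Function.surjInv_eq _ _
    rw [this]; exact bF.linearIndependent
  -- the family
  let idx := Σ i : Module.Free.ChooseBasisIndex P.O (integralClosure P.O K'), Fin (m i) × Fin P.deg
  let coef : idx → P.O := fun p => ⟨t ^ (p.2.1 : ℕ) * (β p.2.2 : K), by
    rw [Valuation.mem_valuationSubring_iff, map_mul, map_pow]
    exact mul_le_one' (pow_le_one' (unif_lt_one ht).le _) (β p.2.2).2⟩
  let r : idx → K' := fun p => algebraMap K K' (coef p : K) * ((b' p.1 : integralClosure P.O K') : K')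
  have hmQ : ∀ Q ∈ Qs, Q.1 x = exp (-(((Q.ord x).toNat : ℕ) : ℤ)) := by
    intro Q hQ
    have h := LeadFG.val_eq_exp_neg_ord Q hx0
    have h0 : 0 ≤ Q.ord x := by
      have hle := hx Q ((hQs Q).mp hQ)
      rw [h, ← exp_zero, exp_le_exp] at hle
      omega
    rw [h, Int.toNat_of_nonneg h0]
  have hfin' : ∀ Q : Place k K', Module.Finite k (IsLocalRing.ResidueField Q.O) :=
    fun Q => LeadFG.residueField_finite hK' Q
  have hcount := card_le_of_indep_mod hfin' Qs (fun Q => (Q.ord x).toNat) r ?_ ?_
  · -- conclude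
    have hcard : (Fintype.card idx : ℤ) = (P.deg : ℤ) * ∑ i, (m i : ℤ) := by
      simp only [idx, Fintype.card_sigma, Fintype.card_prod, Fintype.card_fin]
      push_cast
      rw [Finset.mul_sum]
      apply Finset.sum_congr rfl
      intro i _; ring
    rw [hordN, ← hcard]
    refine hcount.trans (le_of_eq ?_)
    apply Finset.sum_congr rfl
    intro Q hQ
    have h0 : 0 ≤ Q.ord x := by
      have hle := hx Q ((hQs Q).mp hQ)
      rw [LeadFG.val_eq_exp_neg_ord Q hx0, ← exp_zero, exp_le_exp] at hle
      omega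
    rw [Int.toNat_of_nonneg h0]; ring
  · -- members are integral
    intro p Q hQ
    have hQP := (hQs Q).mp hQ
    show Q.1 (algebraMap K K' (coef p : K) * ((b' p.1 : integralClosure P.O K') : K')) ≤ 1
    rw [map_mul]
    exact mul_le_one' (val_algebraMap_le_one hQP (coef p))
      (InR_of_isIntegral P (b' p.1).2 Q hQP)
  · -- independence
    intro c hc
    set z : K' := ∑ p, algebraMap k K' (c p) * r p with hz
    -- z / x is integral
    have hwR : InR P (z / x) := by
      intro Q hQ
      have hQ' := (hQs Q).mpr hQ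
      rw [map_div₀, hmQ Q hQ']
      exact div_le_one_of_le₀ (hc Q hQ') zero_le'
    have hwint : IsIntegral P.O (z / x) := isIntegral_of_forall_over hK P hwR
    let ws : integralClosure P.O K' := ⟨z / x, hwint⟩
    -- z as an element of S, in coordinates
    let uco : Module.Free.ChooseBasisIndex P.O (integralClosure P.O K') → P.O :=
      fun i => ∑ q : Fin (m i) × Fin P.deg, constHom P (c ⟨i, q⟩) * coef ⟨i, q⟩
    let zs : integralClosure P.O K' := ∑ i, uco i • b' i
    have hzs : (zs : K') = z := by
      rw [hz]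
      show ((∑ i, uco i • b' i : integralClosure P.O K') : K') = _
      rw [show ((∑ i, uco i • b' i : integralClosure P.O K') : K')
          = ∑ i, ((uco i • b' i : integralClosure P.O K') : K') from
        map_sum (integralClosure P.O K').val _ _]
      rw [Fintype.sum_sigma]
      apply Finset.sum_congr rfl
      intro i _
      show ((uco i • b' i : integralClosure P.O K') : K') = _
      rw [show ((uco i • b' i : integralClosure P.O K') : K')
          = algebraMap P.O K' (uco i) * ((b' i : integralClosure P.O K') : K') from by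
        rw [Algebra.smul_def]; rfl]
      simp only [uco]
      rw [map_sum, Finset.sum_mul]
      apply Finset.sum_congr rfl
      intro q _
      simp only [r]
      rw [map_mul, IsScalarTower.algebraMap_apply P.O K K', IsScalarTower.algebraMap_apply P.O K K',
        IsScalarTower.algebraMap_apply k K K']
      rw [show algebraMap P.O K (constHom P (c ⟨i, q⟩)) = algebraMap k K (c ⟨i, q⟩) from rfl,
        show algebraMap P.O K (coef ⟨i, q⟩) = ((coef ⟨i, q⟩ : P.O) : K) from rfl]
      ring
    have hzsI : zs ∈ Ideal.span {xs} := by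
      rw [Ideal.mem_span_singleton']
      refine ⟨ws, ?_⟩
      apply Subtype.ext
      show (z / x) * x = (zs : K')
      rw [hzs]
      field_simp
    intro p
    obtain ⟨i, j, l⟩ := p
    have hdiv := L1 zs hzsI i
    have hrepr : b'.repr zs i = uco i := by
      show b'.repr (∑ i, uco i • b' i) i = uco i
      rw [Module.Basis.repr_sum_self]
    rw [hrepr] at hdiv
    obtain ⟨d, hd⟩ := hdiv
    have hval : P.1 ((uco i : P.O) : K) ≤ exp (-(m i : ℤ)) := by
      rw [hd]
      show P.1 (((a i : P.O) : K) * ((d : P.O) : K)) ≤ _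
      rw [map_mul, hm i]
      exact mul_le_of_le_one_right' d.2
    have hcoe : ((uco i : P.O) : K) = ∑ j : Fin (m i), ∑ l : Fin P.deg,
        algebraMap k K (c ⟨i, (j, l)⟩) * t ^ (j : ℕ) * (β l : K) := by
      simp only [uco]
      rw [show ((∑ q : Fin (m i) × Fin P.deg, constHom P (c ⟨i, q⟩) * coef ⟨i, q⟩ : P.O) : K)
          = ∑ q : Fin (m i) × Fin P.deg, ((constHom P (c ⟨i, q⟩) * coef ⟨i, q⟩ : P.O) : K) from
        map_sum (P.O.subtype) _ _]
      rw [Fintype.sum_prod_type]
      apply Finset.sum_congr rfl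
      intro j _
      apply Finset.sum_congr rfl
      intro l _
      show algebraMap k K (c ⟨i, (j, l)⟩) * (t ^ (j : ℕ) * (β l : K)) = _
      ring
    rw [hcoe] at hval
    exact local_indep P ht β hβ (m i) (fun j l => c ⟨i, (j, l)⟩) hval j l

end Groth.Agent.Lib.LeadNM
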