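import Groth.Agent.Lib.LeadPC1

/-! Plane-curve coordinate change: the differential identity (scalar form and Kähler form). -/

set_option autoImplicit false

namespace Groth.Agent.Lib.LeadPC

open MvPolynomial

section
variable {k K : Type*} [Field k] [Field K] [Algebra k K]

/-- degree ≥ 1 when some partial derivative is nonzero at some point -/
theorem one_le_deg (f : MvPolynomial (Fin 3) k) (e : ℕ) (hf : f.IsHomogeneous e) (v : Fin 3 → K)
    (i : Fin 3) (h : aeval v (pderiv i f) ≠ 0) : 1 ≤ e := by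
  by_contra hlt
  have he : e = 0 := by omega
  subst he
  have h0 : f.totalDegree = 0 := Nat.le_zero.mp hf.totalDegree_le
  rw [totalDegree_eq_zero_iff_eq_C.mp h0] at h
  simp at h

/-- The linear forms `L i = ∑ j, A i j X j`. -/
noncomputable def lin (A : Matrix (Fin 3) (Fin 3) k) (i : Fin 3) : MvPolynomial (Fin 3) k :=
  ∑ j, C (A i j) * X j

theorem pderiv_lin (A : Matrix (Fin 3) (Fin 3) k) (i j : Fin 3) :
    pderiv j (lin A i) = C (A i j) := by
  classical
  simp only [lin, map_sum, Derivation.leibniz, pderiv_C, pderiv_X, smul_zero, add_zero,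
    Pi.single_apply, smul_eq_mul]
  simp [Finset.sum_ite_eq']

theorem aeval_lin (A : Matrix (Fin 3) (Fin 3) k) (i : Fin 3) (w : Fin 3 → K) :
    aeval w (lin A i) = ∑ j, algebraMap k K (A i j) * w j := by
  simp [lin]

/-- the transformed partial derivative -/
theorem pderiv_comp (A : Matrix (Fin 3) (Fin 3) k) (f : MvPolynomial (Fin 3) k) (j : Fin 3) :
    pderiv j (aeval (lin A) f) = ∑ i, aeval (lin A) (pderiv i f) * C (A i j) := by
  classical
  rw [deriv_aeval (pderiv j) (lin A) f]
  simp [pderiv_lin]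

theorem aeval_pderiv_comp (A : Matrix (Fin 3) (Fin 3) k) (f : MvPolynomial (Fin 3) k) (e : ℕ)
    (hf : f.IsHomogeneous e) (j : Fin 3) (v w : Fin 3 → K) (c : K)
    (hvw : ∀ i, ∑ j, algebraMap k K (A i j) * w j = c * v i) :
    aeval w (pderiv j (aeval (lin A) f)) =
      c ^ (e - 1) * ∑ i, aeval v (pderiv i f) * algebraMap k K (A i j) := by
  rw [pderiv_comp, map_sum, Finset.mul_sum]
  refine Finset.sum_congr rfl fun i _ => ?_
  rw [map_mul, comp_aeval_apply, aeval_C]
  have : (fun i => aeval w (lin A i)) = fun i => c * v i := by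
    funext i; rw [aeval_lin, hvw]
  rw [this, aeval_smul_of_homog _ (e - 1) hf.pderiv]
  ring

end

end Groth.Agent.Lib.LeadPC

namespace Groth.Agent.Lib.LeadPC

open MvPolynomial

section
variable {k K : Type*} [Field k] [Field K] [Algebra k K]

theorem scalar_identity (f : MvPolynomial (Fin 3) k) (e : ℕ) (hf : f.IsHomogeneous e)
    (x y : K) (hfxy : aeval ![(1 : K), x, y] f = 0)
    (A : Matrix (Fin 3) (Fin 3) k)
    (u : Fin 3 → K) (hu : ∀ i, ∑ j, algebraMap k K (A i j) * u j = ![(1 : K), x, y] i)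
    (hu0 : u 0 ≠ 0)
    (hfy : aeval ![(1 : K), x, y] (pderiv 2 f) ≠ 0)
    (hfy' : aeval ![(1 : K), u 1 / u 0, u 2 / u 0] (pderiv 2 (aeval (lin A) f)) ≠ 0)
    (δ : Derivation k K K) :
    (aeval ![(1 : K), x, y] (pderiv 2 f))⁻¹ * δ x =
      (algebraMap k K A.det * (u 0)⁻¹ ^ ((e : ℤ) - 3) *
        (aeval ![(1 : K), u 1 / u 0, u 2 / u 0] (pderiv 2 (aeval (lin A) f)))⁻¹) *
        δ (u 1 / u 0) := by
  classical
  have he : 1 ≤ e := one_le_deg f e hf _ 2 hfy
  set v : Fin 3 → K := ![(1 : K), x, y] with hv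
  set w : Fin 3 → K := ![(1 : K), u 1 / u 0, u 2 / u 0] with hw
  have hwj : ∀ j, w j = (u 0)⁻¹ * u j := by
    intro j
    fin_cases j
    · simp [hw, hu0]
    · simp [hw, div_eq_inv_mul]
    · simp [hw, div_eq_inv_mul]
  have hvw : ∀ i, ∑ j, algebraMap k K (A i j) * w j = (u 0)⁻¹ * v i := by
    intro i
    rw [← hu i, Finset.mul_sum]
    refine Finset.sum_congr rfl fun j _ => ?_
    rw [hwj]; ring
  have hF' := aeval_pderiv_comp A f e hf 2 v w (u 0)⁻¹ hvw
  set F : Fin 3 → K := fun i => aeval v (pderiv i f) with hF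
  -- Euler
  have hE : F 0 + x * F 1 + y * F 2 = 0 := by
    have := congrArg (aeval v) hf.sum_X_mul_pderiv
    rw [map_sum, map_nsmul, hfxy, smul_zero, Fin.sum_univ_three] at this
    simpa [hv, hF] using this
  -- chain rule
  have hC : F 1 * δ x + F 2 * δ y = 0 := by
    have := deriv_aeval δ v f
    rw [hfxy, map_zero, Fin.sum_univ_three] at this
    simpa [hv, hF] using this.symm
  have h0 : algebraMap k K (A 0 0) * u 0 + algebraMap k K (A 0 1) * u 1
      + algebraMap k K (A 0 2) * u 2 = 1 := by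
    have := hu 0
    rw [Fin.sum_univ_three] at this
    rw [this]; simp [hv]
  have h1 : algebraMap k K (A 1 0) * u 0 + algebraMap k K (A 1 1) * u 1
      + algebraMap k K (A 1 2) * u 2 = x := by
    have := hu 1
    rw [Fin.sum_univ_three] at this
    rw [this]; simp [hv]
  have h2 : algebraMap k K (A 2 0) * u 0 + algebraMap k K (A 2 1) * u 1
      + algebraMap k K (A 2 2) * u 2 = y := by
    have := hu 2
    rw [Fin.sum_univ_three] at this
    rw [this]; simp [hv]
  have hd : ∀ (c : k) (z : K), δ (algebraMap k K c * z) = algebraMap k K c * δ z := by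
    intro c z
    rw [← Algebra.smul_def, δ.map_smul, Algebra.smul_def]
  have d0 := congrArg δ h0
  have d1 := congrArg δ h1
  have d2 := congrArg δ h2
  simp only [map_add, hd, Derivation.map_one_eq_zero] at d0 d1 d2
  have hdet : algebraMap k K A.det =
      algebraMap k K (A 0 0) * algebraMap k K (A 1 1) * algebraMap k K (A 2 2)
      - algebraMap k K (A 0 0) * algebraMap k K (A 1 2) * algebraMap k K (A 2 1)
      - algebraMap k K (A 0 1) * algebraMap k K (A 1 0) * algebraMap k K (A 2 2)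
      + algebraMap k K (A 0 1) * algebraMap k K (A 1 2) * algebraMap k K (A 2 0)
      + algebraMap k K (A 0 2) * algebraMap k K (A 1 0) * algebraMap k K (A 2 1)
      - algebraMap k K (A 0 2) * algebraMap k K (A 1 1) * algebraMap k K (A 2 0) := by
    rw [Matrix.det_fin_three]; simp only [map_add, map_sub, map_mul]
  have key := key_identity (algebraMap k K (A 0 0)) (algebraMap k K (A 0 1)) (algebraMap k K (A 0 2))
    (algebraMap k K (A 1 0)) (algebraMap k K (A 1 1)) (algebraMap k K (A 1 2))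
    (algebraMap k K (A 2 0)) (algebraMap k K (A 2 1)) (algebraMap k K (A 2 2))
    (u 0) (u 1) (u 2) (δ (u 0)) (δ (u 1)) (δ (u 2)) x y (δ x) (δ y) (F 0) (F 1) (F 2)
    hE hC h0 h1 h2 d0 d1 d2
  rw [← hdet] at key
  rw [Fin.sum_univ_three] at hF'
  set S : K := F 0 * algebraMap k K (A 0 2) + F 1 * algebraMap k K (A 1 2)
    + F 2 * algebraMap k K (A 2 2) with hS
  set q : K := (u 0)⁻¹ ^ (e - 1) with hq
  have hq0 : q ≠ 0 := pow_ne_zero _ (inv_ne_zero hu0)
  have hS0 : S ≠ 0 := by
    intro h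
    apply hfy'
    rw [hF', h, mul_zero]
  have hz : (u 0)⁻¹ ^ ((e : ℤ) - 3) = q * (u 0) ^ 2 := by
    have : ((e : ℤ) - 3) = ((e - 1 : ℕ) : ℤ) - 2 := by omega
    rw [this, zpow_sub₀ (inv_ne_zero hu0), zpow_natCast, hq]
    rw [div_eq_mul_inv]
    congr 1
    rw [← zpow_neg, inv_zpow', neg_neg]
    norm_cast
  rw [hF', hz, Derivation.leibniz_div]
  have hF2 : F 2 ≠ 0 := hfy
  change (F 2)⁻¹ * δ x = _
  simp only [smul_eq_mul]
  field_simp
  linear_combination key

end

end Groth.Agent.Lib.LeadPC
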