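import Mathlib

/-! Plane curves: a shear making a bivariate polynomial monic in `X 0` of degree `totalDegree`. -/

namespace Groth.Agent.Lib.LeadPD

open MvPolynomial

variable {k : Type*} [Field k]

/-- the shear `X 0 ↦ X 0`, `X 1 ↦ X 1 + l X 0`. -/
noncomputable def shear (l : k) : MvPolynomial (Fin 2) k →ₐ[k] MvPolynomial (Fin 2) k :=
  aeval ![X 0, X 1 + C l * X 0]

lemma shear_comp (l : k) : (shear (-l)).comp (shear l) = AlgHom.id k _ := by
  apply MvPolynomial.algHom_ext
  intro i
  fin_cases i
  · simp [shear]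
  · simp [shear]

lemma shear_shear (l : k) (p : MvPolynomial (Fin 2) k) : shear (-l) (shear l p) = p :=
  DFunLike.congr_fun (shear_comp l) p

noncomputable def shearEquiv (l : k) : MvPolynomial (Fin 2) k ≃ₐ[k] MvPolynomial (Fin 2) k :=
  AlgEquiv.ofAlgHom (shear l) (shear (-l))
    (by have := shear_comp (-l); rwa [neg_neg] at this) (shear_comp l)

lemma irreducible_shear (l : k) {f : MvPolynomial (Fin 2) k} (hf : Irreducible f) :
    Irreducible (shear l f) :=
  (MulEquiv.irreducible_iff (shearEquiv l).toMulEquiv).mpr hf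

lemma sum_fin_two (s : Fin 2 →₀ ℕ) : (s.sum fun _ e => e) = s 0 + s 1 := by
  rw [Finsupp.sum_fintype _ _ (fun _ => rfl), Fin.sum_univ_two]

lemma aeval_eq_sum_two {A : Type*} [CommRing A] [Algebra k A] (v : Fin 2 → A)
    (f : MvPolynomial (Fin 2) k) :
    aeval v f = ∑ s ∈ f.support, algebraMap k A (f.coeff s) * (v 0 ^ s 0 * v 1 ^ s 1) := by
  rw [aeval_def, eval₂_eq']
  simp only [Fin.prod_univ_two]

lemma totalDegree_shear_le (l : k) (f : MvPolynomial (Fin 2) k) :
    (shear l f).totalDegree ≤ f.totalDegree := by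
  unfold shear
  rw [aeval_eq_sum_two]
  apply totalDegree_finsetSum_le
  intro s hs
  have hs' := le_totalDegree hs
  rw [sum_fin_two] at hs'
  simp only [Matrix.cons_val_zero, Matrix.cons_val_one]
  have h1 : (algebraMap k (MvPolynomial (Fin 2) k) (f.coeff s)).totalDegree = 0 := by
    rw [MvPolynomial.algebraMap_eq, totalDegree_C]
  have h2 : ((X 0 : MvPolynomial (Fin 2) k) ^ s 0).totalDegree ≤ s 0 := by
    refine (totalDegree_pow _ _).trans ?_
    rw [totalDegree_X, mul_one]
  have h3 : ((X 1 + C l * X 0 : MvPolynomial (Fin 2) k) ^ s 1).totalDegree ≤ s 1 := by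
    refine (totalDegree_pow _ _).trans ?_
    have : (X 1 + C l * X 0 : MvPolynomial (Fin 2) k).totalDegree ≤ 1 := by
      refine (totalDegree_add _ _).trans (max_le ?_ ?_)
      · rw [totalDegree_X]
      · refine (totalDegree_mul _ _).trans ?_
        rw [totalDegree_C, totalDegree_X]
    calc s 1 * _ ≤ s 1 * 1 := Nat.mul_le_mul_left _ this
      _ = s 1 := mul_one _
  refine (totalDegree_mul _ _).trans ?_
  have h4 := totalDegree_mul ((X 0 : MvPolynomial (Fin 2) k) ^ s 0)
    ((X 1 + C l * X 0 : MvPolynomial (Fin 2) k) ^ s 1)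
  omega

lemma eq_single_iff (s : Fin 2 →₀ ℕ) (d : ℕ) : s = Finsupp.single 0 d ↔ s 0 = d ∧ s 1 = 0 := by
  constructor
  · rintro rfl; simp
  · rintro ⟨h0, h1⟩
    ext i
    fin_cases i
    · simp [h0]
    · simp [h1]

/-- the coefficient of `X 0 ^ d` read off from the specialization `X 1 ↦ 0`. -/
lemma coeff_single_eq (g : MvPolynomial (Fin 2) k) (d : ℕ) :
    g.coeff (Finsupp.single 0 d) =
      (aeval ![(Polynomial.X : Polynomial k), 0] g).coeff d := by
  classical
  rw [aeval_eq_sum_two, Polynomial.finsetSum_coeff]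
  simp only [Matrix.cons_val_zero, Matrix.cons_val_one]
  by_cases hmem : Finsupp.single 0 d ∈ g.support
  · rw [Finset.sum_eq_single (Finsupp.single 0 d)]
    · simp [Polynomial.algebraMap_eq, Polynomial.coeff_C_mul]
    · intro s _ hne
      by_cases h1 : s 1 = 0
      · have h0 : s 0 ≠ d := fun h0 => hne ((eq_single_iff s d).mpr ⟨h0, h1⟩)
        rw [h1, pow_zero, mul_one, Polynomial.algebraMap_eq, Polynomial.coeff_C_mul,
          Polynomial.coeff_X_pow, if_neg (Ne.symm h0), mul_zero]
      · rw [zero_pow h1, mul_zero, mul_zero, Polynomial.coeff_zero]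
    · intro h; exact absurd hmem h
  · rw [notMem_support_iff.mp hmem]
    symm
    apply Finset.sum_eq_zero
    intro s hs
    by_cases h1 : s 1 = 0
    · have h0 : s 0 ≠ d := by
        intro h0
        apply hmem
        rwa [← (eq_single_iff s d).mpr ⟨h0, h1⟩]
      rw [h1, pow_zero, mul_one, Polynomial.algebraMap_eq, Polynomial.coeff_C_mul,
        Polynomial.coeff_X_pow, if_neg (Ne.symm h0), mul_zero]
    · rw [zero_pow h1, mul_zero, mul_zero, Polynomial.coeff_zero]

lemma spec_shear (l : k) (f : MvPolynomial (Fin 2) k) :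
    aeval ![(Polynomial.X : Polynomial k), 0] (shear l f) =
      aeval ![(Polynomial.X : Polynomial k), Polynomial.C l * Polynomial.X] f := by
  have : (aeval ![(Polynomial.X : Polynomial k), 0]).comp (shear l) =
      aeval ![(Polynomial.X : Polynomial k), Polynomial.C l * Polynomial.X] := by
    apply MvPolynomial.algHom_ext
    intro i
    fin_cases i
    · simp [shear]
    · simp [shear, Polynomial.algebraMap_eq]
  exact DFunLike.congr_fun this f

/-- the leading coefficient after the shear, as a polynomial function of `l`. -/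
lemma coeff_shear (l : k) (f : MvPolynomial (Fin 2) k) (d : ℕ) :
    (shear l f).coeff (Finsupp.single 0 d) =
      ∑ s ∈ f.support.filter (fun s => s 0 + s 1 = d), f.coeff s * l ^ s 1 := by
  classical
  rw [coeff_single_eq, spec_shear, aeval_eq_sum_two, Polynomial.finsetSum_coeff,
    Finset.sum_filter]
  apply Finset.sum_congr rfl
  intro s _
  simp only [Matrix.cons_val_zero, Matrix.cons_val_one]
  have : algebraMap k (Polynomial k) (f.coeff s) *
      (Polynomial.X ^ s 0 * (Polynomial.C l * Polynomial.X) ^ s 1) =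
      Polynomial.C (f.coeff s * l ^ s 1) * Polynomial.X ^ (s 0 + s 1) := by
    rw [Polynomial.algebraMap_eq, mul_pow, ← Polynomial.C_pow, Polynomial.C_mul, pow_add]
    ring
  rw [this, Polynomial.coeff_C_mul, Polynomial.coeff_X_pow]
  split_ifs with h1 h2 h2
  · rw [mul_one]
  · exact absurd h1.symm h2
  · exact absurd h2.symm h1
  · rw [mul_zero]

theorem exists_shear [Infinite k] {f : MvPolynomial (Fin 2) k} (hf : f ≠ 0) :
    ∃ l : k, (shear l f).coeff (Finsupp.single 0 f.totalDegree) ≠ 0 := by
  classical
  set d := f.totalDegree with hd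
  -- a monomial of top degree
  have hsupp : f.support.Nonempty := by
    rw [Finset.nonempty_iff_ne_empty, Ne, support_eq_empty]; exact hf
  obtain ⟨s0, hs0, hs0d⟩ := Finset.exists_mem_eq_sup f.support hsupp
    (fun s => s.sum fun _ e => e)
  have hs0d' : s0 0 + s0 1 = d := by
    rw [← sum_fin_two]; exact hs0d.symm
  let S := f.support.filter (fun s => s 0 + s 1 = d)
  let q : Polynomial k := ∑ s ∈ S, Polynomial.monomial (s 1) (f.coeff s)
  have hq : q ≠ 0 := by
    intro h
    have h1 : q.coeff (s0 1) = f.coeff s0 := by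
      simp only [q, Polynomial.finsetSum_coeff, Polynomial.coeff_monomial]
      rw [Finset.sum_eq_single s0]
      · simp
      · intro s hs hne
        rw [Finset.mem_filter] at hs
        rw [if_neg]
        intro h1
        apply hne
        ext i
        fin_cases i
        · show s 0 = s0 0
          omega
        · exact h1
      · intro h'
        exact absurd (Finset.mem_filter.mpr ⟨hs0, hs0d'⟩) h'
    rw [h, Polynomial.coeff_zero] at h1
    exact (mem_support_iff.mp hs0) h1.symm
  by_contra hall
  push Not at hall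
  apply hq
  apply Polynomial.eq_zero_of_infinite_isRoot
  convert Set.infinite_univ (α := k)
  rw [Set.eq_univ_iff_forall]
  intro l
  show Polynomial.eval l q = 0
  have := hall l
  rw [coeff_shear] at this
  simp only [q, Polynomial.eval_finset_sum, Polynomial.eval_monomial]
  exact this

end Groth.Agent.Lib.LeadPD
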