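import Groth.Agent.Lib.LeadPD1
import Groth.Agent.Lib.LeadWD6
import Groth.Agent.Lib.LeadFF12

/-! Plane curves: if `g(x, y') = 0` with `g` of total degree `≤ d` and nonzero `X 0 ^ d` coefficient,
then the poles of `x` are dominated by those of `y'`, and `[1 : x : y]` has the pole divisor of `y'`. -/

namespace Groth.Agent.Lib.LeadPD

open MvPolynomial FunFld WithZero Groth.Agent.Lib.LeadFF Groth.Agent.Lib.LeadWD

variable {k : Type*} {K : Type*} [Field k] [Field K] [Algebra k K]

/-- domination: `|x| ≤ max 1 |y'|` at every place. -/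
theorem val_le_of_rel (P : Place k K) {x y' : K} {g : MvPolynomial (Fin 2) k} {d : ℕ}
    (hdeg : g.totalDegree ≤ d) (hc : g.coeff (Finsupp.single 0 d) ≠ 0)
    (hg : aeval ![x, y'] g = 0) : P.1 x ≤ max 1 (P.1 y') := by
  classical
  by_contra hlt
  rw [not_le] at hlt
  set M := max 1 (P.1 y') with hM
  set N := P.1 x with hN
  have hM1 : 1 ≤ M := le_max_left _ _
  have hyM : P.1 y' ≤ M := le_max_right _ _
  have hN1 : 1 < N := lt_of_le_of_lt hM1 hlt
  have hN0 : N ≠ 0 := (lt_trans zero_lt_one hN1).ne'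
  have hmem : Finsupp.single 0 d ∈ g.support := mem_support_iff.mpr hc
  rw [aeval_eq_sum_two, ← Finset.add_sum_erase _ _ hmem] at hg
  simp only [Matrix.cons_val_zero, Matrix.cons_val_one] at hg
  have htop : P.1 (algebraMap k K (g.coeff (Finsupp.single 0 d)) *
      (x ^ (Finsupp.single (0 : Fin 2) d) 0 * y' ^ (Finsupp.single (0 : Fin 2) d) 1)) = N ^ d := by
    have h1 : (Finsupp.single (0 : Fin 2) d) 0 = d := by simp
    have h2 : (Finsupp.single (0 : Fin 2) d) 1 = 0 := by simp
    rw [h1, h2, pow_zero, mul_one, map_mul, place_trivOn P _ hc, one_mul, map_pow]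
  have hrest : P.1 (∑ s ∈ g.support.erase (Finsupp.single 0 d),
      algebraMap k K (g.coeff s) * (x ^ s 0 * y' ^ s 1)) < N ^ d := by
    apply Valuation.map_sum_lt P.1 (pow_ne_zero _ hN0)
    intro s hs
    rw [Finset.mem_erase] at hs
    have hsd := le_totalDegree hs.2
    rw [sum_fin_two] at hsd
    have hsd' : s 0 + s 1 ≤ d := hsd.trans hdeg
    rw [map_mul, map_mul, map_pow, map_pow]
    have h1 : P.1 (algebraMap k K (g.coeff s)) ≤ 1 := P.2.1 _
    have h2 : P.1 y' ^ s 1 ≤ M ^ s 1 := pow_le_pow_left₀ zero_le' hyM _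
    have hN0' : 0 < N := lt_trans zero_lt_one hN1
    by_cases hs1 : s 1 = 0
    · have hs0 : s 0 ≠ d := fun h0 => hs.1 ((eq_single_iff s d).mpr ⟨h0, hs1⟩)
      have hlt' : s 0 < d := by omega
      calc P.1 (algebraMap k K (g.coeff s)) * (N ^ s 0 * P.1 y' ^ s 1)
          ≤ 1 * (N ^ s 0 * 1) := by
            rw [hs1, pow_zero]
            exact mul_le_mul' h1 le_rfl
        _ = N ^ s 0 := by rw [one_mul, mul_one]
        _ < N ^ d := pow_lt_pow_right₀ hN1 hlt'
    · have h3 : M ^ s 1 < N ^ s 1 := pow_lt_pow_left₀ hlt zero_le' hs1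
      calc P.1 (algebraMap k K (g.coeff s)) * (N ^ s 0 * P.1 y' ^ s 1)
          ≤ 1 * (N ^ s 0 * M ^ s 1) := mul_le_mul' h1 (mul_le_mul' le_rfl h2)
        _ = N ^ s 0 * M ^ s 1 := one_mul _
        _ < N ^ s 0 * N ^ s 1 := by
            exact (mul_lt_mul_iff_right₀ (pow_pos hN0' _)).mpr h3
        _ = N ^ (s 0 + s 1) := (pow_add _ _ _).symm
        _ ≤ N ^ d := pow_le_pow_right₀ hN1.le hsd'
  have := Valuation.map_add_eq_of_lt_left P.1 (x := algebraMap k K (g.coeff (Finsupp.single 0 d)) *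
      (x ^ (Finsupp.single (0 : Fin 2) d) 0 * y' ^ (Finsupp.single (0 : Fin 2) d) 1))
      (y := ∑ s ∈ g.support.erase (Finsupp.single 0 d),
      algebraMap k K (g.coeff s) * (x ^ s 0 * y' ^ s 1)) (by rw [htop]; exact hrest)
  rw [hg, map_zero, htop] at this
  exact pow_ne_zero _ hN0 this.symm

lemma exp_zdiv_inv (hK : IsFunctionField k K) (P : Place k K) {z : K} (hz : z ≠ 0) :
    exp (zdiv k z⁻¹ P) = max 1 (P.1 z) := by
  rw [zdiv_apply hK, ord_inv, val_eq_exp_neg_ord P hz]
  rcases le_total (-(P.ord z)) 0 with h | h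
  · rw [max_eq_right h, exp_zero, max_eq_left]
    rw [← exp_zero, exp_le_exp]; exact h
  · rw [max_eq_left h, max_eq_right]
    rw [← exp_zero, exp_le_exp]; exact h

/-- the divisor of `[1 : x : y]` is the pole divisor of `y' = y - l x`. -/
theorem mapDiv_eq_zdiv (hK : IsFunctionField k K) {x y : K} (l : k)
    {g : MvPolynomial (Fin 2) k} {d : ℕ} (hdeg : g.totalDegree ≤ d)
    (hc : g.coeff (Finsupp.single 0 d) ≠ 0)
    (hg : aeval ![x, y - algebraMap k K l * x] g = 0)
    (hy' : y - algebraMap k K l * x ≠ 0) :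
    mapDiv k ![(1 : K), x, y] = zdiv k (y - algebraMap k K l * x)⁻¹ := by
  ext P
  set y' := y - algebraMap k K l * x with hy'def
  have hyy : y = y' + algebraMap k K l * x := by rw [hy'def]; ring
  have hdom := val_le_of_rel P hdeg hc hg
  have hexp := exp_zdiv_inv hK P hy'
  have hlx : P.1 (algebraMap k K l * x) ≤ P.1 x := by
    rw [map_mul]
    calc P.1 (algebraMap k K l) * P.1 x ≤ 1 * P.1 x := mul_le_mul' (P.2.1 l) le_rfl
      _ = P.1 x := one_mul _
  apply mapDiv_eq_of' hK _ P _ (by rw [zdiv_apply hK]; exact le_max_right _ _)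
  · intro i
    rw [hexp]
    fin_cases i
    · simp only [Fin.zero_eta, Matrix.cons_val_zero, map_one]
      exact le_max_left _ _
    · simpa using hdom
    · show P.1 y ≤ _
      rw [hyy]
      exact (P.1.map_add _ _).trans (max_le (le_max_right _ _) (hlx.trans hdom))
  · rw [hexp]
    rcases le_or_gt (P.1 y') 1 with h1 | h1
    · exact ⟨0, by simp [max_eq_left h1]⟩
    · rw [max_eq_right h1.le]
      rw [max_eq_right h1.le] at hdom
      rcases hdom.eq_or_lt with heq | hlt
      · exact ⟨1, by simpa using heq⟩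
      · refine ⟨2, ?_⟩
        show P.1 y = _
        rw [hyy]
        exact Valuation.map_add_eq_of_lt_left P.1 (lt_of_le_of_lt hlx hlt)

end Groth.Agent.Lib.LeadPD
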