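import Groth.Agent.Lib.LeadPD2
import Groth.Agent.Lib.LeadIO1

/-! Plane curves: the degree of `[1 : x : y]` is the total degree of the irreducible relation. -/

namespace Groth.Agent.Lib.LeadPD

open MvPolynomial FunFld WithZero IntermediateField Groth.Agent.Lib.LeadFF Groth.Agent.Lib.LeadWD
  Groth.Agent.Lib.LeadIO

variable {k : Type*} {K : Type*} [Field k] [Field K] [Algebra k K]

/-- evaluation through `finSuccEquiv`. -/
lemma eval₂_finSuccEquiv (x y' : K) (g : MvPolynomial (Fin 2) k) :
    Polynomial.eval₂ ((aeval (fun _ : Fin 1 => y') : MvPolynomial (Fin 1) k →ₐ[k] K) :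
      MvPolynomial (Fin 1) k →+* K) x (finSuccEquiv k 1 g) = aeval ![x, y'] g := by
  induction g using MvPolynomial.induction_on with
  | C a => simp [finSuccEquiv_apply]
  | add p q hp hq => rw [map_add, Polynomial.eval₂_add, hp, hq, map_add]
  | mul_X p i hp =>
    rw [map_mul, Polynomial.eval₂_mul, hp, map_mul]
    congr 1
    fin_cases i
    · simp [finSuccEquiv_apply]
    · have : (⟨1, by omega⟩ : Fin 2) = Fin.succ 0 := rfl
      simp only [this]
      rw [finSuccEquiv_X_succ]
      simp

lemma cons_eq_single (d : ℕ) : (Finsupp.cons d (0 : Fin 1 →₀ ℕ)) = Finsupp.single 0 d := by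
  ext i
  fin_cases i
  · simp
  · have : (⟨1, by omega⟩ : Fin 2) = Fin.succ 0 := rfl
    simp only [this, Finsupp.cons_succ]
    simp

theorem finrank_of_rel {x y' : K} (hy't : Transcendental k y')
    (hgen : IntermediateField.adjoin k ({x, y'} : Set K) = ⊤)
    {g : MvPolynomial (Fin 2) k} {d : ℕ} (hirr : Irreducible g) (hdeg : g.totalDegree ≤ d)
    (hc : g.coeff (Finsupp.single 0 d) ≠ 0) (hg : aeval ![x, y'] g = 0) :
    Module.finrank k⟮y'⟯ K = d := by
  classical
  let yF : k⟮y'⟯ := xF (k := k) y'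
  let φF : MvPolynomial (Fin 1) k →ₐ[k] k⟮y'⟯ := aeval (fun _ : Fin 1 => yF)
  let φK : MvPolynomial (Fin 1) k →ₐ[k] K := aeval (fun _ : Fin 1 => y')
  letI algRF : Algebra (MvPolynomial (Fin 1) k) k⟮y'⟯ := φF.toRingHom.toAlgebra
  letI algRK : Algebra (MvPolynomial (Fin 1) k) K := φK.toRingHom.toAlgebra
  have hcomp : (IntermediateField.val k⟮y'⟯).comp φF = φK := by
    apply MvPolynomial.algHom_ext
    intro i
    simp [φF, φK, yF]
  haveI htower : IsScalarTower (MvPolynomial (Fin 1) k) k⟮y'⟯ K :=
    IsScalarTower.of_algebraMap_eq (fun r => (DFunLike.congr_fun hcomp r).symm)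
  have hinj : Function.Injective (algebraMap (MvPolynomial (Fin 1) k) k⟮y'⟯) := by
    show Function.Injective φF
    exact (algebraicIndependent_unique_type_iff (ι := Fin 1) (x := fun _ => yF)).mpr
      (transcendental_xF hy't)
  haveI : FaithfulSMul (MvPolynomial (Fin 1) k) k⟮y'⟯ :=
    (faithfulSMul_iff_algebraMap_injective _ _).mpr hinj
  have h1 : ∀ p : Polynomial k, algebraMap (MvPolynomial (Fin 1) k) k⟮y'⟯
      (Polynomial.aeval (X 0 : MvPolynomial (Fin 1) k) p) = Polynomial.aeval yF p := by
    intro p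
    show φF (Polynomial.aeval (X 0) p) = _
    rw [← Polynomial.aeval_algHom_apply]
    simp [φF]
  haveI : IsFractionRing (MvPolynomial (Fin 1) k) k⟮y'⟯ := IsFractionRing.of_field _ _ (fun z => by
    obtain ⟨p, q, hpq⟩ := (IntermediateField.mem_adjoin_simple_iff k (z : K)).mp z.2
    refine ⟨Polynomial.aeval (X 0 : MvPolynomial (Fin 1) k) p,
      Polynomial.aeval (X 0 : MvPolynomial (Fin 1) k) q, ?_⟩
    rw [h1, h1]
    apply Subtype.ext
    push_cast
    rw [coe_aeval_xF, coe_aeval_xF, hpq])
  -- the polynomial in `X 0` over `k[X 1]`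
  set G := finSuccEquiv k 1 g with hG
  have hGirr : Irreducible G := (MulEquiv.irreducible_iff (finSuccEquiv k 1).toMulEquiv).mpr hirr
  have hGdeg : G.natDegree ≤ d := by
    rw [hG, natDegree_finSuccEquiv]
    exact (degreeOf_le_totalDegree g 0).trans hdeg
  set c := g.coeff (Finsupp.single 0 d) with hcdef
  have hGd : G.coeff d = C c := by
    apply MvPolynomial.ext
    intro m
    rw [hG, finSuccEquiv_coeff_coeff]
    by_cases hm : m = 0
    · subst hm
      rw [coeff_C, if_pos rfl, cons_eq_single]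
    · rw [coeff_C, if_neg (Ne.symm hm)]
      apply coeff_eq_zero_of_totalDegree_lt
      have hm0 : m 0 ≠ 0 := by
        intro h0
        apply hm
        refine Finsupp.ext (fun i => ?_)
        fin_cases i
        exact h0
      have hsum : (∑ i ∈ (m.cons d).support, (m.cons d) i) = d + m 0 := by
        have := sum_fin_two (m.cons d)
        rw [Finsupp.sum] at this
        rw [this, Finsupp.cons_zero]
        have h1' : (1 : Fin 2) = Fin.succ 0 := rfl
        rw [h1', Finsupp.cons_succ]
      rw [hsum]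
      omega
  have hCc : (C c : MvPolynomial (Fin 1) k) ≠ 0 := by
    rw [Ne, C_eq_zero]; exact hc
  have hGnat : G.natDegree = d :=
    le_antisymm hGdeg (Polynomial.le_natDegree_of_ne_zero (by rw [hGd]; exact hCc))
  have hGlead : G.leadingCoeff = C c := by
    rw [Polynomial.leadingCoeff, hGnat, hGd]
  set G' := Polynomial.C (C c⁻¹ : MvPolynomial (Fin 1) k) * G with hG'
  have hCinv : (C c⁻¹ : MvPolynomial (Fin 1) k) ≠ 0 := by
    rw [Ne, C_eq_zero]; exact inv_ne_zero hc
  have hmonic : G'.Monic := by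
    rw [Polynomial.Monic, hG', Polynomial.leadingCoeff_mul, Polynomial.leadingCoeff_C, hGlead,
      ← C_mul, inv_mul_cancel₀ hc, C_1]
  have hG'irr : Irreducible G' := by
    rw [hG']
    refine (irreducible_isUnit_mul ?_).mpr hGirr
    exact (IsUnit.mk0 c⁻¹ (inv_ne_zero hc)).map
      ((Polynomial.C : MvPolynomial (Fin 1) k →+* _).comp (C : k →+* MvPolynomial (Fin 1) k))
  have hG'nat : G'.natDegree = d := by
    rw [hG', Polynomial.natDegree_C_mul hCinv, hGnat]
  have hmapirr : Irreducible (G'.map (algebraMap (MvPolynomial (Fin 1) k) k⟮y'⟯)) :=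
    (Polynomial.Monic.irreducible_iff_irreducible_map_fraction_map hmonic).mp hG'irr
  have hroot : Polynomial.aeval x (G'.map (algebraMap (MvPolynomial (Fin 1) k) k⟮y'⟯)) = 0 := by
    rw [Polynomial.aeval_map_algebraMap, Polynomial.aeval_def, hG', Polynomial.eval₂_mul,
      Polynomial.eval₂_C]
    have : Polynomial.eval₂ (algebraMap (MvPolynomial (Fin 1) k) K) x G = 0 := by
      have := eval₂_finSuccEquiv x y' g
      rw [hg] at this
      exact this
    rw [this, mul_zero]
  have hmin := minpoly.eq_of_irreducible_of_monic hmapirr hroot (hmonic.map _)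
  have hint : IsIntegral k⟮y'⟯ x := ⟨_, hmonic.map _, hroot⟩
  have htop : (k⟮y'⟯)⟮x⟯ = ⊤ := by
    rw [← restrictScalars_eq_top_iff (K := k), adjoin_adjoin_left, ← hgen]
    congr 1
    ext z
    simp [or_comm]
  rw [← IntermediateField.finrank_top', ← htop, IntermediateField.adjoin.finrank hint, ← hmin,
    hmonic.natDegree_map, hG'nat]

end Groth.Agent.Lib.LeadPD
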