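import Groth.Agent.Lib.LeadRM1

/-! Ramification in finite separable extensions: almost all places are unramified (global part). -/

namespace Groth.Agent.Lib.LeadRM

open FunFld WithZero Polynomial Groth.Agent.Lib.LeadFF

variable {k : Type*} {K : Type*} [Field k] [Field K] [Algebra k K]
  {K' : Type*} [Field K'] [Algebra K K'] [Algebra k K'] [IsScalarTower k K K']

/-- a root of a monic polynomial with coefficients in `O_P` is integral at `Q`. -/
lemma val_le_one_of_monic_root {P : Place k K} {Q : Place k K'} {e : ℕ} (he : IsOverWith Q P e)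
    {y : K'} {hO : (P.O)[X]} (hmon : hO.Monic) (hev : ev P y hO = 0) : Q.1 y ≤ 1 := by
  have hmap : ∀ x ∈ P.O.toSubring, algebraMap K K' x ∈ Q.O.toSubring := by
    intro x hx
    show Q.1 (algebraMap K K' x) ≤ 1
    rw [he]
    exact pow_le_one' hx e
  let φ : P.O →+* Q.O := (algebraMap K K').restrict P.O.toSubring Q.O.toSubring hmap
  have hint : IsIntegral Q.O y := by
    refine ⟨hO.map φ, hmon.map φ, ?_⟩
    rw [eval₂_map]
    exact hev
  obtain ⟨z, hz⟩ := IsIntegrallyClosed.isIntegral_iff.mp hint
  rw [← hz]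
  exact z.2

theorem ramIdx_eq_one_of_good {P : Place k K} {Q : Place k K'} {e : ℕ} (he : IsOverWith Q P e)
    {y : K'} (hyalg : IsAlgebraic K y) (hytop : IntermediateField.adjoin K {y} = ⊤)
    (hO aO bO : (P.O)[X]) (hmon : hO.Monic) (hev : ev P y hO = 0)
    (hsep : aO * hO + bO * derivative hO = 1) : e = 1 := by
  have hy := val_le_one_of_monic_root he hmon hev
  have hdvd := values_dvd he hy hO aO bO hev hsep
  obtain ⟨s, hs⟩ := Q.2.2 (exp (-1 : ℤ))
  have hs_mem : s ∈ (IntermediateField.adjoin K {y}).toSubalgebra := by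
    rw [hytop]; trivial
  rw [IntermediateField.adjoin_simple_toSubalgebra_of_isAlgebraic hyalg,
    Algebra.adjoin_singleton_eq_range_aeval] at hs_mem
  obtain ⟨pK, hpK⟩ := hs_mem
  obtain ⟨b, hb⟩ := IsLocalization.integerNormalization_map_to_map (nonZeroDivisors P.O) pK
  set q := IsLocalization.integerNormalization (nonZeroDivisors P.O) pK with hq
  have hb0 : ((b : P.O) : K) ≠ 0 := by
    intro h0
    have : (b : P.O) = 0 := Subtype.ext h0
    exact nonZeroDivisors.coe_ne_zero b this
  have hevq : ev P y q = algebraMap K K' ((b : P.O) : K) * s := by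
    rw [ev_eq_aeval, hb, ← IsScalarTower.algebraMap_smul K (b : P.O) pK, Polynomial.smul_eq_C_mul,
      map_mul, aeval_C]
    congr 1
  have hPb : P.1 ((b : P.O) : K) ≤ 1 := (b : P.O).2
  have hord : 0 ≤ P.ord ((b : P.O) : K) := by
    rw [val_eq_exp_neg_ord P hb0, ← exp_zero, exp_le_exp] at hPb
    omega
  have hQ : Q.1 (ev P y q) = exp (-(((e * (P.ord ((b : P.O) : K)).toNat + 1 : ℕ)) : ℤ)) := by
    rw [hevq, map_mul, he, hs, val_eq_exp_neg_ord P hb0, zm0_exp_pow, ← exp_add]
    congr 1
    push_cast
    rw [Int.toNat_of_nonneg hord]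
    ring
  have h1 := hdvd _ q hQ
  have h2 : (e : ℤ) ∣ 1 := by
    push_cast at h1
    exact (dvd_add_right (dvd_mul_right _ _)).mp h1
  have h3 : e ∣ 1 := by exact_mod_cast h2
  exact Nat.dvd_one.mp h3

theorem ramified_finite [FiniteDimensional K K'] [Algebra.IsSeparable K K']
    (hK : IsFunctionField k K) :
    {Q : Place k K' | ¬ Function.Surjective (Q.1.comap (algebraMap K K'))}.Finite := by
  classical
  obtain ⟨y, hytop⟩ := Field.exists_primitive_element K K'
  have hyint : IsIntegral K y := Algebra.IsIntegral.isIntegral y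
  have hyalg : IsAlgebraic K y := hyint.isAlgebraic
  set h := minpoly K y with hh
  have hmon : h.Monic := minpoly.monic hyint
  have hsepK : h.Separable := Algebra.IsSeparable.isSeparable K y
  obtain ⟨a, b, hab⟩ := hsepK
  let S : Finset K := h.coeffs ∪ a.coeffs ∪ b.coeffs
  let Bad : Set (Place k K) := ⋃ c ∈ S, {P : Place k K | 1 < P.1 c}
  have hBad : Bad.Finite := Set.Finite.biUnion S.finite_toSet (fun c _ => poles_finite' hK c)
  have hsub : {Q : Place k K' | ¬ Function.Surjective (Q.1.comap (algebraMap K K'))} ⊆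
      ⋃ P ∈ Bad, {Q : Place k K' | IsOver Q P} := by
    intro Q hQ
    obtain ⟨P, e, he0, he⟩ := exists_below (K' := K') hK Q
    simp only [Set.mem_iUnion, Set.mem_setOf_eq]
    refine ⟨P, ?_, e, he⟩
    by_contra hPbad
    apply hQ
    -- all coefficients integral at P
    have hcoef : ∀ p : K[X], p.coeffs ⊆ S → p ∈ lifts (algebraMap P.O K) := by
      intro p hp
      rw [lifts_iff_coeff_lifts]
      intro n
      by_cases hn : p.coeff n = 0
      · exact ⟨0, by rw [hn, map_zero]⟩
      · have hmem : p.coeff n ∈ S := hp (coeff_mem_coeffs hn)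
        have hle : P.1 (p.coeff n) ≤ 1 := by
          by_contra hlt
          apply hPbad
          simp only [Bad, Set.mem_iUnion, Set.mem_setOf_eq]
          exact ⟨_, hmem, not_le.mp hlt⟩
        exact ⟨⟨p.coeff n, hle⟩, rfl⟩
    have hS1 : h.coeffs ⊆ S := fun x hx => by
      simp only [S, Finset.mem_union]; exact Or.inl (Or.inl hx)
    have hS2 : a.coeffs ⊆ S := fun x hx => by
      simp only [S, Finset.mem_union]; exact Or.inl (Or.inr hx)
    have hS3 : b.coeffs ⊆ S := fun x hx => by
      simp only [S, Finset.mem_union]; exact Or.inr hx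
    obtain ⟨hO, hhO, -, hOmon⟩ := lifts_and_degree_eq_and_monic (hcoef h hS1) hmon
    obtain ⟨aO, haO⟩ := (mem_lifts _).mp (hcoef a hS2)
    obtain ⟨bO, hbO⟩ := (mem_lifts _).mp (hcoef b hS3)
    have hinj : Function.Injective (Polynomial.map (algebraMap P.O K)) :=
      Polynomial.map_injective _ (IsFractionRing.injective P.O K)
    have hsepO : aO * hO + bO * derivative hO = 1 := by
      apply hinj
      rw [Polynomial.map_add, Polynomial.map_mul, Polynomial.map_mul, ← derivative_map, haO, hbO,
        hhO, Polynomial.map_one]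
      exact hab
    have hev : ev P y hO = 0 := by
      rw [ev_eq_aeval, hhO]; exact minpoly.aeval K y
    have he1 : e = 1 := ramIdx_eq_one_of_good he hyalg hytop hO aO bO hOmon hev hsepO
    subst he1
    have hcomap : Q.1.comap (algebraMap K K') = P.1 := by
      ext x
      rw [Valuation.comap_apply, he x, pow_one]
    rw [hcomap]
    exact P.2.2
  exact (Set.Finite.biUnion hBad (fun P _ => finite_over hK P)).subset hsub

end Groth.Agent.Lib.LeadRM
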