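import Groth.Agent.Lib.LeadWD3
import Groth.Agent.Lib.LeadRM2
import Groth.Agent.Lib.LeadFF40
import Groth.Agent.Lib.LeadFF16
import Groth.Agent.Lib.LeadFF3
import Groth.Agent.Lib.LeadHY2
import Mathlib.FieldTheory.PrimitiveElement

/-! A primitive element `y` of `K/k(x)` such that `1, x, y` span local parameters everywhere. -/

namespace Groth.Agent.Lib.LeadPE

open Polynomial IntermediateField FunFld WithZero Groth.Agent.Lib.LeadFF Groth.Agent.Lib.LeadWD
  Groth.Agent.Lib.LeadRM Groth.Agent.Lib.LeadHY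

theorem exists_primitive_with_params {k K : Type*} [Field k] [IsAlgClosed k] [Field K]
    [Algebra k K] (hK : IsFunctionField k K) (x : K)
    (hsep : Algebra.IsSeparable (IntermediateField.adjoin k ({x} : Set K)) K) :
    ∃ y : K, IntermediateField.adjoin k ({x, y} : Set K) = ⊤ ∧
      ∀ P : Place k K, ∃ f ∈ Submodule.span k ({1, x, y} : Set K), P.1 f = exp (-1 : ℤ) := by
  classical
  have hxt : Transcendental k x := by
    intro halg
    obtain ⟨⟨t, ht, -⟩, -⟩ := hK
    apply ht
    have h1 : IsAlgebraic k⟮x⟯ t := (Algebra.IsSeparable.isIntegral k⟮x⟯ t).isAlgebraic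
    haveI h2 : Algebra.IsAlgebraic k k⟮x⟯ :=
      IntermediateField.isAlgebraic_adjoin_simple halg.isIntegral
    exact h1.restrictScalars k
  haveI : FiniteDimensional k⟮x⟯ K := finite_over_adjoin hK hxt
  have hF : IsFunctionField k k⟮x⟯ :=
    (isFunctionField_intermediate hK k⟮x⟯ ⟨x, mem_adjoin_simple_self k x, hxt⟩).2
  have hram := ramified_finite (k := k) (K := k⟮x⟯) (K' := K) hF
  have hx0 : x ≠ 0 := by
    rintro rfl; exact hxt isAlgebraic_zero
  let S : Set (Place k K) :=
    ({Q : Place k K | ¬ Function.Surjective (Q.1.comap (algebraMap k⟮x⟯ K))} ∪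
      {P : Place k K | 1 < P.1 x}) ∪ {P : Place k K | P.1 x < 1}
  have hS : S.Finite := (hram.union (poles_finite' hK x)).union (zeros_finite' hK hx0)
  let s := hS.toFinset
  obtain ⟨u, hu⟩ := weak_approx s (fun _ => (0 : K)) (fun _ => (-1 : ℤ))
  simp only [sub_zero] at hu
  obtain ⟨y0, hy0⟩ := Field.exists_primitive_element k⟮x⟯ K
  obtain ⟨Pinf, hPinf⟩ := exists_pole hK hxt
  have hPs : Pinf ∈ s := by
    rw [Set.Finite.mem_toFinset]
    exact Or.inl (Or.inr hPinf)
  have hu0 : u ≠ 0 := by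
    rintro rfl
    have := hu Pinf hPs
    rw [map_zero] at this
    exact exp_ne_zero this.symm
  obtain ⟨M, hM⟩ := zm0_finset_bound s (fun Q => Q.1 y0)
  set v := y0 * u ^ (M + 2) with hv
  have hvs : ∀ Q ∈ s, Q.1 v ≤ exp (-2 : ℤ) := by
    intro Q hQ
    rw [hv, map_mul, map_pow, hu Q hQ, ← exp_nsmul]
    calc Q.1 y0 * exp ((M + 2) • (-1 : ℤ)) ≤ exp (M : ℤ) * exp ((M + 2) • (-1 : ℤ)) :=
          mul_le_mul' (hM Q hQ) le_rfl
      _ = exp (-2 : ℤ) := by
          rw [← exp_add]; congr 1; simp only [nsmul_eq_mul]; push_cast; ring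
  haveI : Finite (IntermediateField k⟮x⟯ K) :=
    Field.finite_intermediateField_of_exists_primitive_element _ _ ⟨y0, hy0⟩
  haveI : Infinite k := IsAlgClosed.instInfinite
  obtain ⟨c, c', hne, heq⟩ := Finite.exists_ne_map_eq_of_infinite
    (fun c : k => (k⟮x⟯)⟮u + algebraMap k K c * v⟯)
  replace heq : (k⟮x⟯)⟮u + algebraMap k K c * v⟯ = (k⟮x⟯)⟮u + algebraMap k K c' * v⟯ := heq
  have hkE : ∀ (E : IntermediateField k⟮x⟯ K) (d : k), algebraMap k K d ∈ E := by
    intro E d
    rw [IsScalarTower.algebraMap_apply k k⟮x⟯ K]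
    exact E.algebraMap_mem _
  have htop : (k⟮x⟯)⟮u + algebraMap k K c * v⟯ = ⊤ := by
    set E := (k⟮x⟯)⟮u + algebraMap k K c * v⟯ with hE
    have h1 : u + algebraMap k K c * v ∈ E := mem_adjoin_simple_self _ _
    have h2 : u + algebraMap k K c' * v ∈ E := by
      rw [heq]; exact mem_adjoin_simple_self _ _
    have hcc : algebraMap k K (c - c') ≠ 0 := by
      rw [Ne, map_eq_zero_iff _ (algebraMap k K).injective, sub_eq_zero]; exact hne
    have h3 : v ∈ E := by
      have h4 : algebraMap k K (c - c') * v ∈ E := by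
        have := E.sub_mem h1 h2
        have e : u + algebraMap k K c * v - (u + algebraMap k K c' * v) =
            algebraMap k K (c - c') * v := by rw [map_sub]; ring
        rwa [e] at this
      have h5 := E.mul_mem (E.inv_mem (hkE E (c - c'))) h4
      rwa [← mul_assoc, inv_mul_cancel₀ hcc, one_mul] at h5
    have h6 : u ∈ E := by
      have := E.sub_mem h1 (E.mul_mem (hkE E c) h3)
      rwa [add_sub_cancel_right] at this
    have h7 : y0 ∈ E := by
      have := E.mul_mem h3 (E.inv_mem (pow_mem h6 (M + 2)))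
      rwa [hv, mul_assoc, mul_inv_cancel₀ (pow_ne_zero _ hu0), mul_one] at this
    rw [eq_top_iff, ← hy0]
    exact adjoin_simple_le_iff.mpr h7
  set y := u + algebraMap k K c * v with hy
  refine ⟨y, ?_, ?_⟩
  · rw [← restrictScalars_eq_top_iff (K := k), adjoin_adjoin_left] at htop
    rw [← htop]
    rfl
  · intro P
    by_cases hP : P ∈ s
    · refine ⟨y, Submodule.subset_span (by simp), ?_⟩
      have h1 : P.1 (algebraMap k K c * v) < P.1 u := by
        rw [hu P hP, map_mul]
        calc P.1 (algebraMap k K c) * P.1 v ≤ 1 * exp (-2 : ℤ) :=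
              mul_le_mul' (P.2.1 c) (hvs P hP)
          _ = exp (-2 : ℤ) := one_mul _
          _ < exp (-1 : ℤ) := exp_lt_exp.mpr (by norm_num)
      rw [hy, Valuation.map_add_eq_of_lt_left _ h1, hu P hP]
    · rw [Set.Finite.mem_toFinset] at hP
      have hP1 : Function.Surjective (P.1.comap (algebraMap k⟮x⟯ K)) := by
        by_contra h; exact hP (Or.inl (Or.inl h))
      have hP2 : ¬ 1 < P.1 x := fun h => hP (Or.inl (Or.inr h))
      have hP3 : ¬ P.1 x < 1 := fun h => hP (Or.inr h)
      have hx1 : P.1 x = 1 := le_antisymm (not_lt.mp hP2) (not_lt.mp hP3)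
      obtain ⟨c0, hc0⟩ := unif_of_unram hK hxt P hx1 hP1
      refine ⟨x - algebraMap k K c0, ?_, hc0⟩
      apply Submodule.sub_mem
      · exact Submodule.subset_span (by simp)
      · rw [Algebra.algebraMap_eq_smul_one]
        exact Submodule.smul_mem _ _ (Submodule.subset_span (by simp))

end Groth.Agent.Lib.LeadPE
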