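import Groth.Agent.Lib.LeadFF18

/-! The local ring of a projective map only depends on the span of the entries. -/

namespace Groth.Agent.Lib.LeadPN

open FunFld WithZero Groth.Agent.Lib.LeadFF

variable {k K : Type*} [Field k] [Field K] [Algebra k K]

lemma val_le_of_mem_span {ι : Type*} [Fintype ι] (φ : ι → K) (P : Place k K) (j : ι)
    (hmax : ∀ i, P.1 (φ i) ≤ P.1 (φ j)) {f : K} (hf : f ∈ Submodule.span k (Set.range φ)) :
    P.1 f ≤ P.1 (φ j) := by
  obtain ⟨b, rfl⟩ := (Submodule.mem_span_range_iff_exists_fun k).mp hf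
  apply Valuation.map_sum_le
  intro i _
  rw [Algebra.smul_def, map_mul]
  calc P.1 (algebraMap k K (b i)) * P.1 (φ i) ≤ 1 * P.1 (φ j) := mul_le_mul' (P.2.1 _) (hmax i)
    _ = P.1 (φ j) := one_mul _

lemma div_mem_chart_of_mem_span {ι : Type*} [Fintype ι] (ψ : ι → K) (j' : ι) (hj' : ψ j' ≠ 0)
    {f : K} (hf : f ∈ Submodule.span k (Set.range ψ)) : f / ψ j' ∈ chart k ψ j' := by
  obtain ⟨b, rfl⟩ := (Submodule.mem_span_range_iff_exists_fun k).mp hf
  have := sum_smul_ratio_mem_chart ψ j' b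
  have e : (∑ i, b i • ψ i) / ψ j' = ∑ i, b i • (ψ i / ψ j') := by
    rw [Finset.sum_div]
    apply Finset.sum_congr rfl
    intro i _
    rw [smul_div_assoc]
  rw [e]; exact this

/-- the local ring only depends on the span. -/
theorem inLocRing_of_span_eq {ι ι' : Type*} [Fintype ι] [Fintype ι'] [Nonempty ι']
    (φ : ι → K) (ψ : ι' → K)
    (hspan : Submodule.span k (Set.range φ) = Submodule.span k (Set.range ψ))
    (P : Place k K) {z : K} (h : InLocRing φ P z) : InLocRing ψ P z := by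
  obtain ⟨j, hj, hmax, u, hu, w, hw, hw1, hzw⟩ := h
  have hψ0 : ∃ i, ψ i ≠ 0 := by
    by_contra hall
    push Not at hall
    have : φ j ∈ Submodule.span k (Set.range ψ) := hspan ▸ Submodule.subset_span ⟨j, rfl⟩
    have hz : Submodule.span k (Set.range ψ) = ⊥ := by
      rw [Submodule.span_eq_bot]
      rintro _ ⟨i, rfl⟩
      exact hall i
    rw [hz, Submodule.mem_bot] at this
    exact hj this
  obtain ⟨j', hj', hmax'⟩ := exists_maxIdx ψ P hψ0
  have hφψ : ∀ i, φ i ∈ Submodule.span k (Set.range ψ) :=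
    fun i => hspan ▸ Submodule.subset_span ⟨i, rfl⟩
  have hψφ : ∀ i, ψ i ∈ Submodule.span k (Set.range φ) :=
    fun i => hspan.symm ▸ Submodule.subset_span ⟨i, rfl⟩
  have hval : P.1 (φ j) = P.1 (ψ j') :=
    le_antisymm (val_le_of_mem_span ψ P j' hmax' (hφψ j)) (val_le_of_mem_span φ P j hmax (hψφ j'))
  set ρ := φ j / ψ j' with hρ
  have hρmem : ρ ∈ chart k ψ j' := div_mem_chart_of_mem_span ψ j' hj' (hφψ j)
  have hρ1 : P.1 ρ = 1 := by
    rw [hρ, map_div₀, hval]
    exact div_self ((Valuation.ne_zero_iff _).mpr hj')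
  have hchange : ∀ u ∈ chart k φ j, ∃ m : ℕ, u * ρ ^ m ∈ chart k ψ j' := by
    intro u hu
    induction hu using Algebra.adjoin_induction with
    | mem x hx =>
      obtain ⟨i, rfl⟩ := hx
      refine ⟨1, ?_⟩
      have : φ i / φ j * ρ ^ 1 = φ i / ψ j' := by
        rw [hρ]; field_simp
      rw [this]
      exact div_mem_chart_of_mem_span ψ j' hj' (hφψ i)
    | algebraMap c => exact ⟨0, by simpa using Subalgebra.algebraMap_mem _ c⟩
    | add x y _ _ hx hy =>
      obtain ⟨m1, h1⟩ := hx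
      obtain ⟨m2, h2⟩ := hy
      refine ⟨m1 + m2, ?_⟩
      have : (x + y) * ρ ^ (m1 + m2) = x * ρ ^ m1 * ρ ^ m2 + y * ρ ^ m2 * ρ ^ m1 := by ring
      rw [this]
      exact add_mem (mul_mem h1 (pow_mem hρmem _)) (mul_mem h2 (pow_mem hρmem _))
    | mul x y _ _ hx hy =>
      obtain ⟨m1, h1⟩ := hx
      obtain ⟨m2, h2⟩ := hy
      refine ⟨m1 + m2, ?_⟩
      have : (x * y) * ρ ^ (m1 + m2) = (x * ρ ^ m1) * (y * ρ ^ m2) := by ring
      rw [this]
      exact mul_mem h1 h2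
  obtain ⟨m1, h1⟩ := hchange u hu
  obtain ⟨m2, h2⟩ := hchange w hw
  refine ⟨j', hj', hmax', u * ρ ^ (m1 + m2), ?_, w * ρ ^ (m1 + m2), ?_, ?_, ?_⟩
  · rw [pow_add, ← mul_assoc]; exact mul_mem h1 (pow_mem hρmem _)
  · rw [pow_add, mul_comm (ρ ^ m1), ← mul_assoc]; exact mul_mem h2 (pow_mem hρmem _)
  · rw [map_mul, map_pow, hρ1, hw1, one_pow, one_mul]
  · rw [← mul_assoc, hzw]

theorem isNonsingularAt_of_span_eq {ι ι' : Type*} [Fintype ι] [Fintype ι'] [Nonempty ι']
    (φ : ι → K) (ψ : ι' → K)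
    (hspan : Submodule.span k (Set.range φ) = Submodule.span k (Set.range ψ))
    (P : Place k K) (h : IsNonsingularAt φ P) : IsNonsingularAt ψ P :=
  fun z hz => inLocRing_of_span_eq φ ψ hspan P (h z hz)

end Groth.Agent.Lib.LeadPN
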