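import Groth.Agent.Lib.LeadPN1
import Groth.Agent.Lib.LeadFF29
import Mathlib.RingTheory.Valuation.LocalSubring

/-! Nonsingular at all finite places implies that the affine coordinate ring is the ring of
functions without finite poles. -/

namespace Groth.Agent.Lib.LeadPN

open FunFld WithZero Groth.Agent.Lib.LeadFF

variable {k K : Type*} [Field k] [Field K] [Algebra k K]

/-- a place centred at a maximal ideal of a subalgebra. -/
lemma exists_place_center (hK : IsFunctionField k K) (A : Subalgebra k K) (m : Ideal A)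
    [m.IsMaximal] (s : A) (hs : s ∈ m) (hs0 : (s : K) ≠ 0) :
    ∃ P : Place k K, (∀ a : A, P.1 (a : K) ≤ 1) ∧ ∀ a ∈ m, P.1 (a : K) < 1 := by
  have hunits : ∀ y : m.primeCompl, IsUnit (A.val.toRingHom (y : A)) := fun y => by
    apply IsUnit.mk0
    intro h0
    have : (y : A) = 0 := Subtype.ext h0
    exact y.2 (this ▸ m.zero_mem)
  let f : Localization.AtPrime m →+* K := IsLocalization.lift hunits
  obtain ⟨V, hV, hloc⟩ := IsLocalRing.exists_factor_valuationRing f
  have hfa : ∀ a : A, f (algebraMap A (Localization.AtPrime m) a) = (a : K) :=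
    fun a => IsLocalization.lift_eq hunits a
  have hAV : ∀ a : A, (a : K) ∈ V := fun a => hfa a ▸ hV _
  have hmV : ∀ a ∈ m, V.valuation (a : K) < 1 := by
    intro a ha
    have hnu : ¬ IsUnit (algebraMap A (Localization.AtPrime m) a) := by
      rw [IsLocalization.AtPrime.isUnit_to_map_iff (Localization.AtPrime m) m]
      exact fun h => h ha
    have hnu' : ¬ IsUnit ((f.codRestrict V.toSubring hV)
        (algebraMap A (Localization.AtPrime m) a)) := fun h => hnu (hloc.map_nonunit _ h)
    by_contra hlt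
    have hle : V.valuation (a : K) ≤ 1 := (V.valuation_le_one_iff _).mpr (hAV a)
    have h1 : V.valuation (a : K) = 1 := le_antisymm hle (not_lt.mp hlt)
    have ha0 : (a : K) ≠ 0 := by
      intro h0
      rw [h0, map_zero] at h1
      exact zero_ne_one h1
    have hinv : (a : K)⁻¹ ∈ V.toSubring := by
      show (a : K)⁻¹ ∈ V
      rw [← V.valuation_le_one_iff, map_inv₀, h1, inv_one]
    apply hnu'
    refine IsUnit.of_mul_eq_one (⟨(a : K)⁻¹, hinv⟩ : V.toSubring) ?_
    apply Subtype.ext
    show f (algebraMap A (Localization.AtPrime m) a) * (a : K)⁻¹ = 1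
    rw [hfa a, mul_inv_cancel₀ ha0]
  have hk : TrivOn k V.valuation := trivOn_of_le_one (fun c =>
    (V.valuation_le_one_iff _).mpr (by
      have := hAV (algebraMap k A c)
      simpa using this))
  obtain ⟨P, hP⟩ := exists_place_of_valuation hK hk hs0 (hmV s hs)
  refine ⟨P, fun a => ?_, fun a ha => ?_⟩
  · have := (hP (a : K) 1).mpr (by
      rw [map_one]; exact (V.valuation_le_one_iff _).mpr (hAV a))
    rwa [map_one] at this
  · rw [← not_le]
    intro h
    have := (hP 1 (a : K)).mp (by rwa [map_one])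
    rw [map_one] at this
    exact not_le.mpr (hmV a ha) this

theorem finRing_le_adjoin (hK : IsFunctionField k K) {x t : K}
    (hgen : IntermediateField.adjoin k ({x, t} : Set K) = ⊤)
    (hdom : ∀ P : Place k K, P.1 t ≤ 1 → P.1 x ≤ 1)
    (hns : ∀ P : Place k K, P.1 t ≤ 1 → IsNonsingularAt ![(1 : K), x, t] P) :
    finRing k t ≤ Algebra.adjoin k ({x, t} : Set K) := by
  classical
  intro z hz
  set A := Algebra.adjoin k ({x, t} : Set K) with hA
  by_contra hzA
  let I : Ideal A :=
    { carrier := {a | (a : K) * z ∈ A}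
      add_mem' := by
        intro a b ha hb
        show ((a + b : A) : K) * z ∈ A
        push_cast
        rw [add_mul]
        exact A.add_mem ha hb
      zero_mem' := by
        show ((0 : A) : K) * z ∈ A
        push_cast
        rw [zero_mul]
        exact A.zero_mem
      smul_mem' := by
        intro c a ha
        show ((c * a : A) : K) * z ∈ A
        push_cast
        rw [mul_assoc]
        exact A.mul_mem c.2 ha }
  have hI1 : (1 : A) ∉ I := by
    intro h
    apply hzA
    have : ((1 : A) : K) * z ∈ A := h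
    simpa using this
  have hIne : I ≠ ⊤ := (Ideal.ne_top_iff_one I).mpr hI1
  obtain ⟨m, hm, hIm⟩ := Ideal.exists_le_maximal I hIne
  have hzK : z ∈ IntermediateField.adjoin k ({x, t} : Set K) := by rw [hgen]; trivial
  obtain ⟨r, hr, s, hs, hzrs⟩ := IntermediateField.mem_adjoin_iff_div.mp hzK
  have hs0 : s ≠ 0 := by
    rintro rfl
    rw [div_zero] at hzrs
    exact hzA (hzrs ▸ A.zero_mem)
  have hsI : (⟨s, hs⟩ : A) ∈ I := by
    show s * z ∈ A
    rw [hzrs, mul_div_cancel₀ _ hs0]
    exact hr
  obtain ⟨P, hPA, hPm⟩ := exists_place_center hK A m ⟨s, hs⟩ (hIm hsI) hs0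
  have hPt : P.1 t ≤ 1 := hPA ⟨t, Algebra.subset_adjoin (by simp)⟩
  have hPz : P.1 z ≤ 1 := hz P hPt
  have hloc := hns P hPt z hPz
  have hmax : ∀ i, P.1 (![(1 : K), x, t] i) ≤ P.1 (![(1 : K), x, t] 0) := by
    intro i
    fin_cases i
    · simp
    · simpa using hdom P hPt
    · simpa using hPt
  rw [inLocRing_iff _ P 0 (by simp) hmax] at hloc
  obtain ⟨u, hu, w, hw, hw1, hzw⟩ := hloc
  have hchart : chart k ![(1 : K), x, t] 0 ≤ A := by
    apply Algebra.adjoin_le
    rintro _ ⟨i, rfl⟩
    fin_cases i
    · simpa using A.one_mem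
    · simpa using (Algebra.subset_adjoin (by simp) : x ∈ A)
    · simpa using (Algebra.subset_adjoin (by simp) : t ∈ A)
  have hwI : (⟨w, hchart hw⟩ : A) ∈ I := by
    show w * z ∈ A
    rw [mul_comm, hzw]
    exact hchart hu
  have := hPm _ (hIm hwI)
  rw [show ((⟨w, hchart hw⟩ : A) : K) = w from rfl, hw1] at this
  exact lt_irrefl _ this

end Groth.Agent.Lib.LeadPN
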