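import Groth.Agent.Lib.LeadPD2

/-! Bivariate polynomials `k[T][X]`, evaluation at `(t, x)`, reduction modulo the monic relation, and
top forms at infinity. -/

namespace Groth.Agent.Lib.LeadPN

open Polynomial FunFld WithZero Groth.Agent.Lib.LeadFF Groth.Agent.Lib.LeadPD

variable {k K : Type*} [Field k] [Field K] [Algebra k K]

/-- evaluation of `S ∈ k[T][X]` at `T = t`, `X = x`. -/
noncomputable def ev (t x : K) : Polynomial (Polynomial k) →+* K :=
  eval₂RingHom (aeval (R := k) t).toRingHom x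

lemma ev_apply (t x : K) (S : Polynomial (Polynomial k)) :
    ev t x S = ∑ j ∈ Finset.range (S.natDegree + 1), aeval t (S.coeff j) * x ^ j := by
  show eval₂ _ x S = _
  rw [eval₂_eq_sum_range]
  rfl

lemma ev_apply' (t x : K) (S : Polynomial (Polynomial k)) {n : ℕ} (hn : S.natDegree < n) :
    ev t x S = ∑ j ∈ Finset.range n, aeval t (S.coeff j) * x ^ j := by
  show eval₂ _ x S = _
  rw [eval₂_eq_sum_range' _ hn]
  rfl

lemma ev_C (t x : K) (p : Polynomial k) : ev t x (C p) = aeval t p := by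
  show eval₂ _ x (C p) = _
  rw [eval₂_C]; rfl

lemma ev_X (t x : K) : ev (k := k) t x X = x := by
  show eval₂ _ x X = _
  rw [eval₂_X]

lemma ev_monomial (t x : K) (j i : ℕ) (a : k) :
    ev t x (monomial j (monomial i a)) = algebraMap k K a * t ^ i * x ^ j := by
  show eval₂ _ x _ = _
  rw [eval₂_monomial]
  show aeval t (monomial i a) * x ^ j = _
  rw [aeval_monomial]

/-- every element of `k[x, t]` is a value of a bivariate polynomial. -/
lemma exists_ev_of_mem_adjoin {t x z : K} (hz : z ∈ Algebra.adjoin k ({x, t} : Set K)) :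
    ∃ S : Polynomial (Polynomial k), z = ev t x S := by
  induction hz using Algebra.adjoin_induction with
  | mem y hy =>
    rcases hy with rfl | hy
    · exact ⟨X, (ev_X t _).symm⟩
    · rw [Set.mem_singleton_iff] at hy
      subst hy
      exact ⟨C X, by rw [ev_C, aeval_X]⟩
  | algebraMap c => exact ⟨C (C c), by rw [ev_C, aeval_C]⟩
  | add a b _ _ ha hb =>
    obtain ⟨S1, rfl⟩ := ha
    obtain ⟨S2, rfl⟩ := hb
    exact ⟨S1 + S2, (map_add _ _ _).symm⟩
  | mul a b _ _ ha hb =>
    obtain ⟨S1, rfl⟩ := ha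
    obtain ⟨S2, rfl⟩ := hb
    exact ⟨S1 * S2, (map_mul _ _ _).symm⟩

/-- the bivariate form of `g / c`. -/
noncomputable def biM (g : MvPolynomial (Fin 2) k) (c : k) : Polynomial (Polynomial k) :=
  ∑ s ∈ g.support, monomial (s 0) (monomial (s 1) (g.coeff s / c))

lemma ev_biM (t x : K) (g : MvPolynomial (Fin 2) k) (c : k) :
    ev t x (biM g c) = algebraMap k K c⁻¹ * MvPolynomial.aeval ![x, t] g := by
  rw [aeval_eq_sum_two, biM, map_sum, Finset.mul_sum]
  apply Finset.sum_congr rfl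
  intro s _
  rw [ev_monomial]
  simp only [Matrix.cons_val_zero, Matrix.cons_val_one]
  rw [div_eq_mul_inv, map_mul]
  ring

lemma coeff_biM (g : MvPolynomial (Fin 2) k) (c : k) (j : ℕ) :
    (biM g c).coeff j =
      ∑ s ∈ g.support.filter (fun s => s 0 = j), monomial (s 1) (g.coeff s / c) := by
  classical
  rw [biM, finsetSum_coeff, Finset.sum_filter]
  apply Finset.sum_congr rfl
  intro s _
  rw [coeff_monomial]

lemma natDegree_coeff_biM {g : MvPolynomial (Fin 2) k} {d : ℕ} (hdeg : g.totalDegree ≤ d) (c : k)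
    (j : ℕ) : ((biM g c).coeff j).natDegree ≤ d - j := by
  classical
  rw [coeff_biM]
  apply natDegree_sum_le_of_forall_le
  intro s hs
  rw [Finset.mem_filter] at hs
  have h1 := MvPolynomial.le_totalDegree hs.1
  rw [sum_fin_two] at h1
  refine (natDegree_monomial_le _).trans ?_
  omega

lemma coeff_biM_eq_zero {g : MvPolynomial (Fin 2) k} {d : ℕ} (hdeg : g.totalDegree ≤ d) (c : k)
    {j : ℕ} (hj : d < j) : (biM g c).coeff j = 0 := by
  classical
  rw [coeff_biM]
  apply Finset.sum_eq_zero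
  intro s hs
  rw [Finset.mem_filter] at hs
  have h1 := MvPolynomial.le_totalDegree hs.1
  rw [sum_fin_two] at h1
  omega

lemma coeff_biM_top {g : MvPolynomial (Fin 2) k} {d : ℕ} (hdeg : g.totalDegree ≤ d)
    (hc : g.coeff (Finsupp.single 0 d) ≠ 0) :
    (biM g (g.coeff (Finsupp.single 0 d))).coeff d = 1 := by
  classical
  rw [coeff_biM]
  have hmem : Finsupp.single 0 d ∈ g.support.filter (fun s => s 0 = d) := by
    rw [Finset.mem_filter]
    exact ⟨MvPolynomial.mem_support_iff.mpr hc, by simp⟩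
  rw [Finset.sum_eq_single_of_mem _ hmem]
  · have h1 : (Finsupp.single (0 : Fin 2) d) 1 = 0 := by simp
    rw [h1, div_self hc, monomial_zero_left, C_1]
  · intro s hs hne
    exfalso
    rw [Finset.mem_filter] at hs
    have h1 := MvPolynomial.le_totalDegree hs.1
    rw [sum_fin_two] at h1
    apply hne
    rw [eq_single_iff]
    exact ⟨hs.2, by omega⟩

lemma natDegree_biM {g : MvPolynomial (Fin 2) k} {d : ℕ} (hdeg : g.totalDegree ≤ d)
    (hc : g.coeff (Finsupp.single 0 d) ≠ 0) :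
    (biM g (g.coeff (Finsupp.single 0 d))).natDegree = d := by
  apply le_antisymm
  · rw [natDegree_le_iff_coeff_eq_zero]
    intro j hj
    exact coeff_biM_eq_zero hdeg _ hj
  · apply le_natDegree_of_ne_zero
    rw [coeff_biM_top hdeg hc]
    exact one_ne_zero

lemma monic_biM {g : MvPolynomial (Fin 2) k} {d : ℕ} (hdeg : g.totalDegree ≤ d)
    (hc : g.coeff (Finsupp.single 0 d) ≠ 0) :
    (biM g (g.coeff (Finsupp.single 0 d))).Monic := by
  rw [Monic, leadingCoeff, natDegree_biM hdeg hc, coeff_biM_top hdeg hc]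

/-- reduced representation of the elements of `k[x, t]`. -/
theorem exists_reduced {t x : K} {g : MvPolynomial (Fin 2) k} {d : ℕ} (hdeg : g.totalDegree ≤ d)
    (hc : g.coeff (Finsupp.single 0 d) ≠ 0) (hg : MvPolynomial.aeval ![x, t] g = 0)
    (hd : d ≠ 0) {z : K} (hz : z ∈ Algebra.adjoin k ({x, t} : Set K)) :
    ∃ S : Polynomial (Polynomial k), S.natDegree < d ∧ z = ev t x S := by
  obtain ⟨S, rfl⟩ := exists_ev_of_mem_adjoin hz
  set M := biM g (g.coeff (Finsupp.single 0 d)) with hM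
  have hMm : M.Monic := monic_biM hdeg hc
  have hMd : M.natDegree = d := natDegree_biM hdeg hc
  have hM1 : M ≠ 1 := by
    intro h
    rw [h, natDegree_one] at hMd
    exact hd hMd.symm
  refine ⟨S %ₘ M, ?_, ?_⟩
  · have := natDegree_modByMonic_lt S hMm hM1
    rwa [hMd] at this
  · conv_lhs => rw [← modByMonic_add_div S M]
    rw [map_add, map_mul, hM, ev_biM, hg, mul_zero, zero_mul, add_zero]

/-- top form of degree `N`. -/
noncomputable def topForm (S : Polynomial (Polynomial k)) (N : ℕ) : Polynomial k :=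
  ∑ j ∈ Finset.range (S.natDegree + 1), monomial j ((S.coeff j).coeff (N - j))

lemma coeff_topForm (S : Polynomial (Polynomial k)) (N : ℕ) {j : ℕ} (hj : j ≤ S.natDegree) :
    (topForm S N).coeff j = (S.coeff j).coeff (N - j) := by
  classical
  rw [topForm, finsetSum_coeff]
  simp only [coeff_monomial]
  rw [Finset.sum_ite_eq' (Finset.range (S.natDegree + 1)) j, if_pos]
  rw [Finset.mem_range]; omega

lemma natDegree_topForm_le (S : Polynomial (Polynomial k)) (N : ℕ) :
    (topForm S N).natDegree ≤ S.natDegree := by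
  apply natDegree_sum_le_of_forall_le
  intro j hj
  rw [Finset.mem_range] at hj
  exact (natDegree_monomial_le _).trans (by omega)

/-- the bidegree bound. -/
def BD (S : Polynomial (Polynomial k)) (N : ℕ) : Prop :=
  ∀ j ≤ S.natDegree, j ≤ N ∧ (S.coeff j).natDegree ≤ N - j

lemma val_poly_top (Q : Place k K) {t : K} (ht : 1 < Q.1 t) (p : Polynomial k) {m : ℕ}
    (hm : p.natDegree ≤ m) :
    Q.1 (aeval t p * (t⁻¹) ^ m - algebraMap k K (p.coeff m)) ≤ Q.1 t⁻¹ := by
  have ht0 : t ≠ 0 := by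
    rintro rfl; rw [map_zero] at ht; exact not_lt.mpr zero_le' ht
  have hu1 : Q.1 t⁻¹ < 1 := by
    rw [map_inv₀]; exact inv_lt_one_of_one_lt₀ ht
  rw [aeval_eq_sum_range' (Nat.lt_succ_of_le hm), Finset.sum_range_succ, add_mul]
  have h1 : p.coeff m • t ^ m * (t⁻¹) ^ m = algebraMap k K (p.coeff m) := by
    rw [Algebra.smul_def, mul_assoc, ← mul_pow, mul_inv_cancel₀ ht0, one_pow, mul_one]
  rw [h1, add_sub_cancel_right, Finset.sum_mul]
  apply Valuation.map_sum_le
  intro i hi
  rw [Finset.mem_range] at hi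
  have h2 : p.coeff i • t ^ i * (t⁻¹) ^ m = algebraMap k K (p.coeff i) * (t⁻¹) ^ (m - i) := by
    rw [Algebra.smul_def, mul_assoc]
    congr 1
    have : m = (m - i) + i := by omega
    conv_lhs => rw [this, pow_add, mul_comm ((t⁻¹) ^ (m - i)), ← mul_assoc, ← mul_pow,
      mul_inv_cancel₀ ht0, one_pow, one_mul]
  rw [h2, map_mul, map_pow]
  calc Q.1 (algebraMap k K (p.coeff i)) * Q.1 t⁻¹ ^ (m - i) ≤ 1 * Q.1 t⁻¹ ^ (m - i) :=
        mul_le_mul' (Q.2.1 _) le_rfl
    _ = Q.1 t⁻¹ ^ (m - i) := one_mul _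
    _ ≤ Q.1 t⁻¹ ^ 1 := pow_le_pow_of_le_one zero_le' hu1.le (by omega)
    _ = Q.1 t⁻¹ := pow_one _

/-- the top form lemma at an infinite place. -/
theorem val_top_form (Q : Place k K) {t x : K} (ht : 1 < Q.1 t) (hx : Q.1 x ≤ Q.1 t)
    (S : Polynomial (Polynomial k)) {N : ℕ} (hBD : BD S N) :
    Q.1 (ev t x S * (t⁻¹) ^ N - aeval (x * t⁻¹) (topForm S N)) ≤ Q.1 t⁻¹ := by
  have ht0 : t ≠ 0 := by
    rintro rfl; rw [map_zero] at ht; exact not_lt.mpr zero_le' ht
  have hv1 : Q.1 (x * t⁻¹) ≤ 1 := by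
    rw [map_mul, map_inv₀, ← div_eq_mul_inv]
    exact (div_le_one₀ (lt_trans zero_lt_one ht)).mpr hx
  rw [ev_apply, topForm, map_sum, Finset.sum_mul, ← Finset.sum_sub_distrib]
  apply Valuation.map_sum_le
  intro j hj
  rw [Finset.mem_range] at hj
  obtain ⟨hjN, hjd⟩ := hBD j (by omega)
  rw [aeval_monomial]
  have e : aeval t (S.coeff j) * x ^ j * (t⁻¹) ^ N -
      algebraMap k K ((S.coeff j).coeff (N - j)) * (x * t⁻¹) ^ j =
      (aeval t (S.coeff j) * (t⁻¹) ^ (N - j) - algebraMap k K ((S.coeff j).coeff (N - j))) *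
        (x * t⁻¹) ^ j := by
    have : N = (N - j) + j := by omega
    conv_lhs => rw [this, pow_add]
    rw [show N - j + j - j = N - j by omega]
    ring
  rw [e, map_mul, map_pow]
  calc Q.1 (aeval t (S.coeff j) * (t⁻¹) ^ (N - j) - algebraMap k K ((S.coeff j).coeff (N - j))) *
        Q.1 (x * t⁻¹) ^ j ≤ Q.1 t⁻¹ * 1 :=
        mul_le_mul' (val_poly_top Q ht _ hjd) (pow_le_one' hv1 j)
    _ = Q.1 t⁻¹ := mul_one _

end Groth.Agent.Lib.LeadPN
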