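import Groth.Agent.Lib.LeadPN3
import Groth.Agent.Lib.LeadFF21
import Groth.Agent.Lib.LeadFF15
import Groth.Agent.Lib.LeadFF48

/-! Places at infinity of a nonsingular plane model: parameters, separation, multiplicities. -/

namespace Groth.Agent.Lib.LeadPN

open Polynomial FunFld WithZero Groth.Agent.Lib.LeadFF

variable {k K : Type*} [Field k] [Field K] [Algebra k K]

/-- residues with a bound. -/
lemma adjoin_residue_le {ι : Type*} (Q : Place k K) (r : ι → K) (c : ι → k) (μ : ZM0) (hμ : μ < 1)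
    (h : ∀ i, Q.1 (r i - algebraMap k K (c i)) ≤ μ) :
    ∀ u ∈ Algebra.adjoin k (Set.range r), ∃ cu : k, Q.1 (u - algebraMap k K cu) ≤ μ := by
  intro u hu
  induction hu using Algebra.adjoin_induction with
  | mem x hx =>
    obtain ⟨i, rfl⟩ := hx
    exact ⟨c i, h i⟩
  | algebraMap a => exact ⟨a, by simp⟩
  | add x y _ _ hx hy =>
    obtain ⟨cx, hcx⟩ := hx
    obtain ⟨cy, hcy⟩ := hy
    refine ⟨cx + cy, ?_⟩
    have : x + y - algebraMap k K (cx + cy) = (x - algebraMap k K cx) + (y - algebraMap k K cy) := by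
      rw [map_add]; ring
    rw [this]
    exact (Q.1.map_add _ _).trans (max_le hcx hcy)
  | mul x y _ _ hx hy =>
    obtain ⟨cx, hcx⟩ := hx
    obtain ⟨cy, hcy⟩ := hy
    refine ⟨cx * cy, ?_⟩
    have hy1 : Q.1 y ≤ 1 := by
      have : y = (y - algebraMap k K cy) + algebraMap k K cy := by ring
      rw [this]
      exact (Q.1.map_add _ _).trans (max_le (hcy.trans hμ.le) (Q.2.1 cy))
    have : x * y - algebraMap k K (cx * cy) =
        (x - algebraMap k K cx) * y + algebraMap k K cx * (y - algebraMap k K cy) := by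
      rw [map_mul]; ring
    rw [this]
    refine (Q.1.map_add _ _).trans (max_le ?_ ?_)
    · rw [map_mul]
      calc Q.1 (x - algebraMap k K cx) * Q.1 y ≤ μ * 1 := mul_le_mul' hcx hy1
        _ = μ := mul_one _
    · rw [map_mul]
      calc Q.1 (algebraMap k K cx) * Q.1 (y - algebraMap k K cy) ≤ 1 * μ :=
            mul_le_mul' (Q.2.1 cx) hcy
        _ = μ := one_mul _

lemma ne_zero_of_one_lt (Q : Place k K) {t : K} (ht : 1 < Q.1 t) : t ≠ 0 := by
  rintro rfl; rw [map_zero] at ht; exact not_lt.mpr zero_le' ht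

lemma hmax_infinity (Q : Place k K) {x t : K} (ht : 1 < Q.1 t) (hx : Q.1 x ≤ Q.1 t) :
    ∀ i, Q.1 (![(1 : K), x, t] i) ≤ Q.1 (![(1 : K), x, t] 2) := by
  intro i
  fin_cases i
  · simpa using ht.le
  · simpa using hx
  · simp

/-- (Par): at a nonsingular place at infinity, `1/t` or `x/t - a` is a local parameter. -/
theorem param_at_infinity (Q : Place k K) {x t : K} (ht : 1 < Q.1 t) (hx : Q.1 x ≤ Q.1 t) (a : k)
    (ha : Q.1 (x * t⁻¹ - algebraMap k K a) < 1) (hns : IsNonsingularAt ![(1 : K), x, t] Q) :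
    Q.1 t⁻¹ = exp (-1 : ℤ) ∨ Q.1 (x * t⁻¹ - algebraMap k K a) = exp (-1 : ℤ) := by
  have ht0 := ne_zero_of_one_lt Q ht
  have hu1 : Q.1 t⁻¹ < 1 := by
    rw [map_inv₀]; exact inv_lt_one_of_one_lt₀ ht
  obtain ⟨π, hπ⟩ := exists_unif Q
  have hloc := hns π (unif_lt_one hπ).le
  rw [inLocRing_iff _ Q 2 (by simpa using ht0) (hmax_infinity Q ht hx)] at hloc
  obtain ⟨r, hr, w, hw, hw1, hπw⟩ := hloc
  have hr1 : Q.1 r = exp (-1 : ℤ) := by rw [← hπw, map_mul, hw1, mul_one, hπ]
  set μ := max (Q.1 t⁻¹) (Q.1 (x * t⁻¹ - algebraMap k K a)) with hμ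
  have hμ1 : μ < 1 := max_lt hu1 ha
  obtain ⟨cu, hcu⟩ := adjoin_residue_le Q (fun i => ![(1 : K), x, t] i / ![(1 : K), x, t] 2)
    ![0, a, 1] μ hμ1 (by
      intro i
      fin_cases i
      · simp only [Fin.zero_eta, Matrix.cons_val_zero, Matrix.cons_val_two, Matrix.tail_cons,
          Matrix.head_cons, map_zero, sub_zero, one_div]
        exact le_max_left _ _
      · simp only [Fin.mk_one, Matrix.cons_val_one, Matrix.head_cons, Matrix.cons_val_two,
          Matrix.tail_cons, div_eq_mul_inv]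
        exact le_max_right _ _
      · simp only [Fin.reduceFinMk, Matrix.cons_val_two, Matrix.tail_cons, Matrix.head_cons,
          div_self ht0, map_one, sub_self, map_zero]
        exact zero_le') r hr
  have hcu0 : cu = 0 := (lt_one_iff_residue_zero Q (lt_of_le_of_lt hcu hμ1)).mp
    (by rw [hr1, ← hπ]; exact unif_lt_one hπ)
  rw [hcu0, map_zero, sub_zero, hr1] at hcu
  have hμe : μ = exp (-1 : ℤ) := le_antisymm (zm0_lt_one_iff.mp hμ1) hcu
  rcases max_choice (Q.1 t⁻¹) (Q.1 (x * t⁻¹ - algebraMap k K a)) with h | h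
  · left; rw [← h]; exact hμe
  · right; rw [← h]; exact hμe

/-- (Sep): two places at infinity with the same centre coincide. -/
theorem place_eq_of_same_center [IsAlgClosed k] (hK : IsFunctionField k K) (Q Q' : Place k K)
    {x t : K} (hgen : IntermediateField.adjoin k ({x, t} : Set K) = ⊤)
    (ht : 1 < Q.1 t) (hx : Q.1 x ≤ Q.1 t) (ht' : 1 < Q'.1 t) (hx' : Q'.1 x ≤ Q'.1 t) (a : k)
    (ha : Q.1 (x * t⁻¹ - algebraMap k K a) < 1) (ha' : Q'.1 (x * t⁻¹ - algebraMap k K a) < 1)
    (hns : IsNonsingularAt ![(1 : K), x, t] Q) : Q' = Q := by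
  have ht0 := ne_zero_of_one_lt Q ht
  have hφ : ∃ i, ![(1 : K), x, t] i ≠ 0 := ⟨0, by simp⟩
  have hbir : IntermediateField.adjoin k
      (Set.range fun i => ![(1 : K), x, t] i / ![(1 : K), x, t] 0) = ⊤ := by
    rw [eq_top_iff, ← hgen]
    apply IntermediateField.adjoin.mono
    rintro z (rfl | hz)
    · exact ⟨1, by simp⟩
    · rw [Set.mem_singleton_iff] at hz
      subst hz
      exact ⟨2, by simp⟩
  have hsame : SameImage ![(1 : K), x, t] Q Q' := by
    refine ⟨2, by simpa using ht0, hmax_infinity Q ht hx, hmax_infinity Q' ht' hx', ?_⟩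
    intro i
    fin_cases i
    · refine ⟨0, ?_, ?_⟩
      · simp only [Fin.zero_eta, Matrix.cons_val_zero, Matrix.cons_val_two, Matrix.tail_cons,
          Matrix.head_cons, map_zero, sub_zero, one_div, map_inv₀]
        exact inv_lt_one_of_one_lt₀ ht
      · simp only [Fin.zero_eta, Matrix.cons_val_zero, Matrix.cons_val_two, Matrix.tail_cons,
          Matrix.head_cons, map_zero, sub_zero, one_div, map_inv₀]
        exact inv_lt_one_of_one_lt₀ ht'
    · refine ⟨a, ?_, ?_⟩
      · simpa [div_eq_mul_inv] using ha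
      · simpa [div_eq_mul_inv] using ha'
    · refine ⟨1, ?_, ?_⟩ <;>
      simp [div_self ht0]
  exact ((nonsingular_iff_sep_param hK _ hφ 0 hbir Q).mp hns).1 Q'
    (fun z hz => ((sameImage_iff hK _ hφ Q Q').mp hsame z hz).1)

/-- (Mult): the order of `q(v)` at a place where `v ≡ a`. -/
theorem val_aeval_eq_pow (Q : Place k K) {v : K} (a : k)
    (ha : Q.1 (v - algebraMap k K a) < 1) {q : Polynomial k} (hq : q ≠ 0) :
    Q.1 (aeval v q) = Q.1 (v - algebraMap k K a) ^ (q.rootMultiplicity a) := by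
  obtain ⟨q', hq', hnd⟩ := exists_eq_pow_rootMultiplicity_mul_and_not_dvd q hq a
  have he : q'.eval a ≠ 0 := fun h => hnd (dvd_iff_isRoot.mpr h)
  have h1 : Q.1 (aeval v q') = 1 :=
    eq_one_of_residue_ne_zero Q (val_aeval_sub_eval_lt (place_trivOn Q) ha q') he
  conv_lhs => rw [hq']
  rw [map_mul, map_pow, map_sub, aeval_X, aeval_C, map_mul, map_pow, h1, mul_one]

end Groth.Agent.Lib.LeadPN
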