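import Groth.Agent.Lib.LeadPN4

/-! A polynomial in `x/t` vanishing at all places at infinity of a nonsingular plane model has
degree at least the degree of the model. -/

namespace Groth.Agent.Lib.LeadPN

open Polynomial FunFld WithZero Groth.Agent.Lib.LeadFF Groth.Agent.Lib.LeadPD

variable {k K : Type*} [Field k] [Field K] [Algebra k K]

theorem natDegree_ge_of_vanish [IsAlgClosed k] (hK : IsFunctionField k K) {x t : K}
    (hgen : IntermediateField.adjoin k ({x, t} : Set K) = ⊤)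
    (hdom : ∀ P : Place k K, P.1 x ≤ max 1 (P.1 t))
    (hns : ∀ P : Place k K, 1 < P.1 t → IsNonsingularAt ![(1 : K), x, t] P)
    {q : Polynomial k} (hq : q ≠ 0)
    (hv : ∀ Q : Place k K, 1 < Q.1 t → Q.1 (aeval (x * t⁻¹) q) ≤ Q.1 t⁻¹) :
    (zdiv k t⁻¹).deg ≤ q.natDegree := by
  classical
  set D := zdiv k t⁻¹ with hD
  have hsupp : ∀ Q ∈ D.support, 1 < Q.1 t := by
    intro Q hQ
    by_contra hle
    rw [not_lt] at hle
    rw [Finsupp.mem_support_iff] at hQ
    exact hQ (pdiv_eq_zero_of_le hK hle)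
  have hDpos : ∀ Q, 0 ≤ D Q := fun Q => zdiv_nonneg _ Q
  have hxt : ∀ Q : Place k K, 1 < Q.1 t → Q.1 x ≤ Q.1 t := fun Q ht => by
    have := hdom Q
    rwa [max_eq_right ht.le] at this
  have hex : ∀ Q : Place k K, ∃ a : k, 1 < Q.1 t → Q.1 (x * t⁻¹ - algebraMap k K a) < 1 := by
    intro Q
    by_cases ht : 1 < Q.1 t
    · have hv1 : Q.1 (x * t⁻¹) ≤ 1 := by
        rw [map_mul, map_inv₀, ← div_eq_mul_inv]
        exact (div_le_one₀ (lt_trans zero_lt_one ht)).mpr (hxt Q ht)
      obtain ⟨a, ha⟩ := exists_const_sub_lt_one hK Q hv1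
      exact ⟨a, fun _ => ha⟩
    · exact ⟨0, fun h => absurd h ht⟩
  choose a ha using hex
  have hexp : ∀ Q : Place k K, 1 < Q.1 t → Q.1 t⁻¹ = exp (-(D Q)) := by
    intro Q ht
    have ht0 := ne_zero_of_one_lt Q ht
    have := exp_zdiv_inv hK Q ht0
    rw [max_eq_right ht.le] at this
    rw [map_inv₀, ← this, exp_neg]
  have hmult : ∀ Q : Place k K, 1 < Q.1 t → (D Q).toNat ≤ q.rootMultiplicity (a Q) := by
    intro Q ht
    have h1 := val_aeval_eq_pow Q (a Q) (ha Q ht) hq
    have h2 := hv Q ht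
    rw [h1, hexp Q ht] at h2
    rcases param_at_infinity Q ht (hxt Q ht) (a Q) (ha Q ht) (hns Q ht) with h | h
    · rw [hexp Q ht, exp_inj] at h
      have he : D Q = 1 := by omega
      rw [he]
      show 1 ≤ _
      by_contra hm
      have hm0 : q.rootMultiplicity (a Q) = 0 := by omega
      rw [hm0, pow_zero, he] at h2
      have : (exp (-1 : ℤ) : ZM0) < 1 := by
        rw [← exp_zero, exp_lt_exp]; norm_num
      exact not_le.mpr this h2
    · rw [h, ← exp_nsmul, exp_le_exp] at h2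
      have : (q.rootMultiplicity (a Q)) • (-1 : ℤ) = -(q.rootMultiplicity (a Q) : ℤ) := by
        rw [nsmul_eq_mul]; ring
      rw [this] at h2
      omega
  have hinj : ∀ Q ∈ D.support, ∀ Q' ∈ D.support, Q ≠ Q' → a Q ≠ a Q' := by
    intro Q hQ Q' hQ' hne heq
    apply hne
    have ht := hsupp Q hQ
    have ht' := hsupp Q' hQ'
    exact (place_eq_of_same_center hK Q' Q hgen ht' (hxt Q' ht') ht (hxt Q ht) (a Q')
      (ha Q' ht') (heq ▸ ha Q ht) (hns Q' ht'))
  set Pr : Polynomial k := ∏ Q ∈ D.support, (X - C (a Q)) ^ (D Q).toNat with hPdef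
  have hdvd : Pr ∣ q := by
    apply Finset.prod_dvd_of_coprime
    · intro Q hQ Q' hQ' hne
      apply IsCoprime.pow
      apply isCoprime_X_sub_C_of_isUnit_sub
      exact (sub_ne_zero.mpr (hinj Q hQ Q' hQ' hne)).isUnit
    · intro Q hQ
      exact (le_rootMultiplicity_iff hq).mp (hmult Q (hsupp Q hQ))
  have hPdeg : Pr.natDegree = ∑ Q ∈ D.support, (D Q).toNat := by
    rw [hPdef, natDegree_prod_of_monic _ _ (fun Q _ => (monic_X_sub_C _).pow _)]
    apply Finset.sum_congr rfl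
    intro Q _
    rw [(monic_X_sub_C _).natDegree_pow, natDegree_X_sub_C, mul_one]
  have hle := natDegree_le_of_dvd hdvd hq
  rw [deg_eq_tot hK D]
  have : tot D = ((∑ Q ∈ D.support, (D Q).toNat : ℕ) : ℤ) := by
    unfold tot
    rw [Finsupp.sum, Nat.cast_sum]
    apply Finset.sum_congr rfl
    intro Q _
    rw [Int.toNat_of_nonneg (hDpos Q)]
  rw [this, ← hPdeg]
  exact_mod_cast hle

end Groth.Agent.Lib.LeadPN
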