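import Groth.Agent.Lib.LeadPN5
import Groth.Agent.Lib.LeadPN2
import Groth.Agent.Lib.LeadFF12

/-! The dimension count for a nonsingular plane model: `(d-1)(d-2) ≤ 2g`. -/

namespace Groth.Agent.Lib.LeadPN

open Polynomial FunFld WithZero Groth.Agent.Lib.LeadFF Groth.Agent.Lib.LeadPD

variable {k K : Type*} [Field k] [Field K] [Algebra k K]

/-- the bidegree. -/
noncomputable def bideg (S : Polynomial (Polynomial k)) : ℕ :=
  (Finset.range (S.natDegree + 1)).sup (fun j => j + (S.coeff j).natDegree)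

lemma BD_bideg (S : Polynomial (Polynomial k)) : BD S (bideg S) := by
  intro j hj
  have : j + (S.coeff j).natDegree ≤ bideg S :=
    Finset.le_sup (f := fun j => j + (S.coeff j).natDegree) (Finset.mem_range.mpr (by omega))
  constructor <;> omega

lemma BD_mono {S : Polynomial (Polynomial k)} {N N' : ℕ} (h : N ≤ N') (hBD : BD S N) :
    BD S N' := by
  intro j hj
  obtain ⟨h1, h2⟩ := hBD j hj
  constructor <;> omega

lemma topForm_bideg_ne_zero (S : Polynomial (Polynomial k)) (hS : S.natDegree < bideg S) :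
    topForm S (bideg S) ≠ 0 := by
  obtain ⟨j, hj, hjeq⟩ := Finset.exists_mem_eq_sup (Finset.range (S.natDegree + 1))
    ⟨0, Finset.mem_range.mpr (by omega)⟩ (fun j => j + (S.coeff j).natDegree)
  rw [Finset.mem_range] at hj
  have hjeq' : bideg S = j + (S.coeff j).natDegree := hjeq
  intro h0
  have h1 := coeff_topForm S (bideg S) (j := j) (by omega)
  rw [h0, coeff_zero, hjeq', Nat.add_sub_cancel_left] at h1
  have h2 : S.coeff j = 0 := by
    rw [← leadingCoeff_eq_zero]; exact h1.symm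
  rw [h2, natDegree_zero, add_zero] at hjeq'
  omega

theorem bd_of_mem_L [IsAlgClosed k] (hK : IsFunctionField k K) {x t : K}
    (hgen : IntermediateField.adjoin k ({x, t} : Set K) = ⊤)
    (hdom : ∀ P : Place k K, P.1 x ≤ max 1 (P.1 t))
    (hns : ∀ P : Place k K, 1 < P.1 t → IsNonsingularAt ![(1 : K), x, t] P)
    {d n : ℕ} (hd : (zdiv k t⁻¹).deg = d) (hn : d ≤ n + 1)
    (S : Polynomial (Polynomial k)) (hSd : S.natDegree < d)
    (hz : ev t x S ∈ L (n • zdiv k t⁻¹)) : BD S n := by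
  by_contra hBD
  have hN : n < bideg S := by
    by_contra h
    exact hBD (BD_mono (not_lt.mp h) (BD_bideg S))
  set N := bideg S with hNdef
  set q := topForm S N with hqdef
  have hq : q ≠ 0 := topForm_bideg_ne_zero S (by omega)
  have hv : ∀ Q : Place k K, 1 < Q.1 t → Q.1 (aeval (x * t⁻¹) q) ≤ Q.1 t⁻¹ := by
    intro Q ht
    have ht0 := ne_zero_of_one_lt Q ht
    have hxt : Q.1 x ≤ Q.1 t := by
      have := hdom Q
      rwa [max_eq_right ht.le] at this
    have hu1 : Q.1 t⁻¹ < 1 := by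
      rw [map_inv₀]; exact inv_lt_one_of_one_lt₀ ht
    have h1 := val_top_form Q ht hxt S (BD_bideg S)
    have h2 : Q.1 (ev t x S * (t⁻¹) ^ N) ≤ Q.1 t⁻¹ := by
      have h3 := hz Q
      have h4 := exp_zdiv_inv hK Q ht0
      rw [max_eq_right ht.le] at h4
      rw [Finsupp.smul_apply, exp_nsmul, h4] at h3
      have hNn : N = n + (N - n) := by omega
      rw [map_mul, map_pow, hNn, pow_add, ← mul_assoc]
      have h5 : Q.1 (ev t x S) * Q.1 t⁻¹ ^ n ≤ 1 := by
        calc Q.1 (ev t x S) * Q.1 t⁻¹ ^ n ≤ Q.1 t ^ n * Q.1 t⁻¹ ^ n := mul_le_mul' h3 le_rfl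
          _ = 1 := by
            rw [← mul_pow, ← map_mul, mul_inv_cancel₀ ht0, map_one, one_pow]
      calc Q.1 (ev t x S) * Q.1 t⁻¹ ^ n * Q.1 t⁻¹ ^ (N - n) ≤ 1 * Q.1 t⁻¹ ^ (N - n) :=
            mul_le_mul' h5 le_rfl
        _ = Q.1 t⁻¹ ^ (N - n) := one_mul _
        _ ≤ Q.1 t⁻¹ ^ 1 := pow_le_pow_of_le_one zero_le' hu1.le (by omega)
        _ = Q.1 t⁻¹ := pow_one _
    have e : aeval (x * t⁻¹) q =
        ev t x S * (t⁻¹) ^ N - (ev t x S * (t⁻¹) ^ N - aeval (x * t⁻¹) q) := by ring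
    rw [e]
    exact (Valuation.map_sub _ _ _).trans (max_le h2 h1)
  have h1 := natDegree_ge_of_vanish hK hgen hdom hns hq hv
  have h2 := natDegree_topForm_le S N
  rw [hd] at h1
  have : (d : ℤ) ≤ (S.natDegree : ℤ) := h1.trans (by exact_mod_cast h2)
  omega

open Classical in
lemma ev_mem_span {t x : K} (S : Polynomial (Polynomial k)) {d n : ℕ} (hSd : S.natDegree < d)
    (hBD : BD S n) :
    ev t x S ∈ Submodule.span k
      (((Finset.range d).sigma (fun j => Finset.range (n + 1 - j))).image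
        (fun p : (Σ _ : ℕ, ℕ) => t ^ p.2 * x ^ p.1) : Set K) := by
  classical
  rw [ev_apply]
  apply Submodule.sum_mem
  intro j hj
  rw [Finset.mem_range] at hj
  obtain ⟨h1, h2⟩ := hBD j (by omega)
  rw [aeval_eq_sum_range, Finset.sum_mul]
  apply Submodule.sum_mem
  intro i hi
  rw [Finset.mem_range] at hi
  rw [smul_mul_assoc]
  apply Submodule.smul_mem
  apply Submodule.subset_span
  rw [Finset.coe_image]
  refine ⟨⟨j, i⟩, ?_, rfl⟩
  rw [Finset.mem_coe, Finset.mem_sigma, Finset.mem_range, Finset.mem_range]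
  show j < d ∧ i < n + 1 - j
  constructor <;> omega

lemma two_mul_sum_range (n : ℕ) : ∀ d : ℕ, d ≤ n + 1 →
    2 * ((∑ j ∈ Finset.range d, (n + 1 - j) : ℕ) : ℤ) = 2 * d * (n + 1) - d * (d - 1) := by
  intro d
  induction d with
  | zero => intro _; simp
  | succ d ih =>
    intro hd
    rw [Finset.sum_range_succ, Nat.cast_add, mul_add, ih (by omega)]
    have : ((n + 1 - d : ℕ) : ℤ) = (n : ℤ) + 1 - d := by omega
    rw [this]
    push_cast
    ring

theorem ell_le [IsAlgClosed k] (hK : IsFunctionField k K) {x t : K}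
    (hgen : IntermediateField.adjoin k ({x, t} : Set K) = ⊤)
    {g : MvPolynomial (Fin 2) k} {d : ℕ} (hdeg : g.totalDegree ≤ d)
    (hc : g.coeff (Finsupp.single 0 d) ≠ 0) (hg : MvPolynomial.aeval ![x, t] g = 0) (hd0 : d ≠ 0)
    (hns : ∀ P : Place k K, IsNonsingularAt ![(1 : K), x, t] P)
    (hd : (zdiv k t⁻¹).deg = d) {n : ℕ} (hn : d ≤ n + 1) :
    ell (n • zdiv k t⁻¹) ≤ ∑ j ∈ Finset.range d, (n + 1 - j) := by
  classical
  have hdom : ∀ P : Place k K, P.1 x ≤ max 1 (P.1 t) := fun P => val_le_of_rel P hdeg hc hg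
  have hfin : finRing k t ≤ Algebra.adjoin k ({x, t} : Set K) :=
    finRing_le_adjoin hK hgen (fun P hP => by
      have := hdom P
      rwa [max_eq_left hP] at this) (fun P _ => hns P)
  set T := ((Finset.range d).sigma (fun j => Finset.range (n + 1 - j))).image
        (fun p : (Σ _ : ℕ, ℕ) => t ^ p.2 * x ^ p.1) with hT
  have hle : L (n • zdiv k t⁻¹) ≤ Submodule.span k (T : Set K) := by
    intro z hz
    have hzA := hfin (mem_finRing_of_mem_L hK hz)
    obtain ⟨S, hSd, rfl⟩ := exists_reduced hdeg hc hg hd0 hzA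
    exact ev_mem_span S hSd (bd_of_mem_L hK hgen hdom (fun P _ => hns P) hd hn S hSd hz)
  show Module.finrank k (L (n • zdiv k t⁻¹)) ≤ _
  calc Module.finrank k (L (n • zdiv k t⁻¹)) ≤ Module.finrank k (Submodule.span k (T : Set K)) :=
        Submodule.finrank_mono hle
    _ ≤ T.card := finrank_span_finset_le_card T
    _ ≤ ((Finset.range d).sigma (fun j => Finset.range (n + 1 - j))).card := Finset.card_image_le
    _ = ∑ j ∈ Finset.range d, (n + 1 - j) := by
      rw [Finset.card_sigma]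
      apply Finset.sum_congr rfl
      intro j _
      rw [Finset.card_range]

/-- (★): a nonsingular plane model of degree `d` has `(d-1)(d-2) ≤ 2g`. -/
theorem genus_ge [IsAlgClosed k] (hK : IsFunctionField k K) {x t : K}
    (hgen : IntermediateField.adjoin k ({x, t} : Set K) = ⊤)
    {g : MvPolynomial (Fin 2) k} {d : ℕ} (hdeg : g.totalDegree ≤ d)
    (hc : g.coeff (Finsupp.single 0 d) ≠ 0) (hg : MvPolynomial.aeval ![x, t] g = 0)
    (hns : ∀ P : Place k K, IsNonsingularAt ![(1 : K), x, t] P)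
    (hd : (zdiv k t⁻¹).deg = d) :
    ((d : ℤ) - 1) * (d - 2) ≤ 2 * (genus k K : ℤ) := by
  have hd0 : d ≠ 0 := by
    rintro rfl
    have h0 : g.totalDegree = 0 := by omega
    rw [MvPolynomial.totalDegree_eq_zero_iff_eq_C] at h0
    rw [h0, MvPolynomial.aeval_C] at hg
    have : g.coeff 0 = 0 := by
      have hinj := (algebraMap k K).injective
      exact hinj (by rw [hg, map_zero])
    apply hc
    rw [Finsupp.single_zero]
    exact this
  set n := 2 * genus k K + d with hn
  have h1 := ell_le hK hgen hdeg hc hg hd0 hns hd (n := n) (by omega)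
  have hdegn : (n • zdiv k t⁻¹).deg = n * d := by
    rw [deg_nsmul, hd]
  have h2 := ell_of_deg_ge hK (n • zdiv k t⁻¹) (by
    rw [hdegn, hn]
    push_cast
    have : (1 : ℤ) ≤ d := by omega
    nlinarith [this, (Nat.cast_nonneg (genus k K) : (0 : ℤ) ≤ genus k K)])
  have h3 := two_mul_sum_range n d (by omega)
  have h4 : (ell (n • zdiv k t⁻¹) : ℤ) ≤ ((∑ j ∈ Finset.range d, (n + 1 - j) : ℕ) : ℤ) := by
    exact_mod_cast h1
  rw [h2, hdegn] at h4
  nlinarith [h4, h3]

end Groth.Agent.Lib.LeadPN
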