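import Groth.Agent.Lib.LeadFF24
import Groth.Agent.Lib.LeadFF29
import Groth.Agent.Lib.LeadFF17

/-! A singular point at finite distance lowers the genus of a plane model. -/

namespace Groth.Agent.Lib.LeadPN

open FunFld WithZero Groth.Agent.Lib.LeadFF

variable {k K : Type*} [Field k] [Field K] [Algebra k K]

/-- the strict triangle count. -/
theorem triangle_bound_strict (hK : IsFunctionField k K) {X y' : K} (hX : Transcendental k X)
    (D : Divisor k K) (hD0 : 0 ≤ D) (hXD : X ∈ L D) (hyD : y' ∈ L D)
    (hdeg : D.deg = Module.finrank (IntermediateField.adjoin k ({X} : Set K)) K)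
    (hprim : IntermediateField.adjoin k ({X, y'} : Set K) = ⊤)
    {z : K} {m0 : ℕ} (hz : z ∈ L (m0 • D)) (hzA : z ∉ Algebra.adjoin k ({X, y'} : Set K)) :
    2 * (genus k K : ℤ) + 2 ≤ (D.deg - 1) * (D.deg - 2) := by
  classical
  set F := IntermediateField.adjoin k ({X} : Set K) with hF
  haveI := finite_over_adjoin hK hX
  have hFy : IntermediateField.adjoin F ({y'} : Set K) = ⊤ := by
    rw [← IntermediateField.restrictScalars_eq_top_iff (K := k), IntermediateField.adjoin_adjoin_left,
      ← hprim]
    congr 1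
  have hint : IsIntegral F y' := IsIntegral.of_finite F y'
  set n := (minpoly F y').natDegree with hn
  have hnd : n = Module.finrank F K := by
    rw [hn, ← IntermediateField.adjoin.finrank hint, hFy, IntermediateField.finrank_top']
  have hnpos : 0 < n := by rw [hnd]; exact Module.finrank_pos
  have hpow := linearIndependent_pow (K := F) y'
  set g := genus k K with hg
  set m := n + 2 * g + 1 + m0 with hm
  have hXF : X ∈ F := IntermediateField.mem_adjoin_simple_self k X
  have hb := linearIndependent_pow_of_transcendental hX m F hXF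
  have hli := linearIndependent_smul hb hpow
  -- the triangular index set
  let J := Σ b : Fin n, Fin (m + 1 - (b : ℕ))
  let inj : J → Fin (m + 1) × Fin n := fun p => (⟨p.2, by have := p.2.2; omega⟩, p.1)
  have hinj : Function.Injective inj := by
    rintro ⟨b, a⟩ ⟨b', a'⟩ h
    simp only [inj, Prod.mk.injEq, Fin.mk.injEq] at h
    obtain ⟨h1, h2⟩ := h
    subst h2
    congr 1
    exact Fin.ext h1
  have hliJ := hli.comp inj hinj
  have hmem : ∀ p : J, ((⟨X, hXF⟩ : F) ^ ((inj p).1 : ℕ)) • y' ^ ((inj p).2 : ℕ) ∈ L (m • D) := by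
    intro p
    rw [IntermediateField.smul_def]
    simp only [SubmonoidClass.mk_pow, smul_eq_mul]
    have h1 := mul_mem_L_add (pow_mem_L_nsmul hXD ((inj p).1 : ℕ)) (pow_mem_L_nsmul hyD ((inj p).2 : ℕ))
    rw [← add_smul] at h1
    refine L_nsmul_mono hD0 ?_ h1
    have := p.2.2
    simp only [inj]
    omega
  have hmemA : ∀ p : J, ((⟨X, hXF⟩ : F) ^ ((inj p).1 : ℕ)) • y' ^ ((inj p).2 : ℕ) ∈
      Algebra.adjoin k ({X, y'} : Set K) := by
    intro p
    rw [IntermediateField.smul_def]
    simp only [SubmonoidClass.mk_pow, smul_eq_mul]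
    exact mul_mem (pow_mem (Algebra.subset_adjoin (by simp)) _)
      (pow_mem (Algebra.subset_adjoin (by simp)) _)
  haveI := L_finite hK (m • D)
  set W := Submodule.span k (Set.range ((fun p : Fin (m + 1) × Fin n =>
    ((⟨X, hXF⟩ : F) ^ (p.1 : ℕ)) • y' ^ (p.2 : ℕ)) ∘ inj)) with hW
  have hWcard : Module.finrank k W = Fintype.card J := finrank_span_eq_card hliJ
  have hWL : W ≤ L (m • D) := by
    rw [hW, Submodule.span_le]
    rintro _ ⟨p, rfl⟩
    exact hmem p
  have hWA : W ≤ Subalgebra.toSubmodule (Algebra.adjoin k ({X, y'} : Set K)) := by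
    rw [hW, Submodule.span_le]
    rintro _ ⟨p, rfl⟩
    exact hmemA p
  have hzL : z ∈ L (m • D) := L_nsmul_mono hD0 (by omega) hz
  have hlt : W < L (m • D) := by
    refine lt_of_le_of_ne hWL ?_
    intro h
    apply hzA
    have : z ∈ W := h ▸ hzL
    exact hWA this
  have hcard := Submodule.finrank_lt_finrank_of_lt hlt
  rw [hWcard] at hcard
  have hJcard : Fintype.card J = ∑ b ∈ Finset.range n, (m + 1 - b) := by
    rw [Fintype.card_sigma]
    simp only [Fintype.card_fin]
    exact Fin.sum_univ_eq_sum_range (fun b => m + 1 - b) n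
  have hsum : (∑ b ∈ Finset.range n, (m + 1 - b)) + ∑ b ∈ Finset.range n, b = n * (m + 1) := by
    rw [← Finset.sum_add_distrib]
    have : ∀ b ∈ Finset.range n, m + 1 - b + b = m + 1 := by
      intro b hb
      rw [Finset.mem_range] at hb
      omega
    rw [Finset.sum_congr rfl this, Finset.sum_const, Finset.card_range, smul_eq_mul]
  have hgauss := Finset.sum_range_id_mul_two n
  have hell := ell_of_deg_ge hK (m • D) (by
    rw [deg_nsmul, hdeg, ← hnd]
    have : (0 : ℤ) < n := by exact_mod_cast hnpos
    have : (2 * (g : ℤ)) ≤ m := by rw [hm]; push_cast; omega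
    nlinarith)
  rw [deg_nsmul, hdeg, ← hnd] at hell
  have hcard' : (Fintype.card J : ℤ) + 1 ≤ ell (m • D) := by
    unfold ell; exact_mod_cast hcard
  rw [hdeg, ← hnd]
  -- arithmetic
  set S := ∑ b ∈ Finset.range n, b with hS
  have h1 : (Fintype.card J : ℤ) + S = n * (m + 1) := by
    rw [hJcard]; exact_mod_cast hsum
  have h2 : (S : ℤ) * 2 = n * (n - 1) := by
    have : ((n - 1 : ℕ) : ℤ) = (n : ℤ) - 1 := by
      rw [Nat.cast_sub hnpos]; simp
    rw [← this]; exact_mod_cast hgauss
  nlinarith

/-- generic affine coordinate for a plane model. -/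
theorem exists_generic_data [IsAlgClosed k] (hK : IsFunctionField k K) (x y : K)
    (hxy : IntermediateField.adjoin k ({x, y} : Set K) = ⊤) :
    ∃ (a : Fin 3 → k) (X y'' : K),
      X = algebraMap k K (a 0) + algebraMap k K (a 1) * x + algebraMap k K (a 2) * y ∧
      (y'' = x ∨ y'' = y) ∧ X ∉ Set.range (algebraMap k K) ∧
      mapDiv k ![(1 : K), x, y] = zdiv k X⁻¹ ∧
      (mapDiv k ![(1 : K), x, y]).deg = Module.finrank (IntermediateField.adjoin k ({X} : Set K)) K ∧
      IntermediateField.adjoin k ({X, y''} : Set K) = ⊤ := by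
  haveI : Infinite k := IsAlgClosed.instInfinite
  set φ : Fin 3 → K := ![(1 : K), x, y] with hφ
  obtain ⟨a, hgen⟩ := exists_generic hK φ
  set X := ∑ l, a l • φ l with hX
  have hXsum : X = algebraMap k K (a 0) + algebraMap k K (a 1) * x + algebraMap k K (a 2) * y := by
    rw [hX, Fin.sum_univ_three]
    simp [hφ, Algebra.smul_def]
  have hXk : X ∉ Set.range (algebraMap k K) := by
    rintro ⟨c, hc⟩
    have hnopole : ∀ (Q : Place k K) (i : Fin 3), Q.1 (φ i) ≤ 1 := by
      intro Q i
      by_contra h
      rw [not_le] at h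
      have := lt_of_lt_of_le h (hgen Q i h)
      rw [← hc] at this
      exact absurd this (not_lt.mpr (Q.2.1 c))
    have hconst : ∀ i, φ i ∈ (⊥ : IntermediateField k K) := by
      intro i
      have : φ i ∈ L (0 : Divisor k K) := fun Q => by simpa using hnopole Q i
      rw [L_zero hK, Submodule.mem_one] at this
      obtain ⟨c, hc⟩ := this
      rw [IntermediateField.mem_bot]; exact ⟨c, hc⟩
    have hbot : IntermediateField.adjoin k ({x, y} : Set K) = ⊥ := by
      rw [eq_bot_iff, IntermediateField.adjoin_le_iff]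
      intro z hz
      rcases hz with rfl | rfl
      · exact hconst 1
      · exact hconst 2
    rw [hxy] at hbot
    obtain ⟨z, hz, -⟩ := hK.1
    have : z ∈ (⊥ : IntermediateField k K) := by rw [← hbot]; trivial
    rw [IntermediateField.mem_bot] at this
    obtain ⟨d, rfl⟩ := this
    exact hz (isAlgebraic_algebraMap d)
  set D := mapDiv k φ with hD
  have hD0 : 0 ≤ D := mapDiv_nonneg_of_one hK φ 0 rfl
  have hXD : X ∈ L D :=
    sum_mem fun l _ => Submodule.smul_mem _ _ (mem_L_mapDiv hK φ l)
  have hDeq : D = zdiv k X⁻¹ :=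
    le_antisymm (mapDiv_le hK φ (zdiv_nonneg _) (gen_mem_L hK φ X hgen))
      (pdiv_le_of_mem hK hD0 hXD)
  have hdeg : D.deg = Module.finrank (IntermediateField.adjoin k ({X} : Set K)) K := by
    rw [hDeq]; exact finrank_adjoin_eq_deg_pdiv hK hXk
  by_cases ha2 : a 2 = 0
  · have ha1 : a 1 ≠ 0 := by
      intro ha1
      apply hXk
      exact ⟨a 0, by rw [hXsum, ha1, ha2]; simp⟩
    have hprim : IntermediateField.adjoin k ({X, y} : Set K) = ⊤ := by
      rw [eq_top_iff, ← hxy, IntermediateField.adjoin_le_iff]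
      have hXm : X ∈ IntermediateField.adjoin k ({X, y} : Set K) :=
        IntermediateField.subset_adjoin _ _ (by simp)
      have hym : y ∈ IntermediateField.adjoin k ({X, y} : Set K) :=
        IntermediateField.subset_adjoin _ _ (by simp)
      intro z hz
      rcases hz with rfl | rfl
      · have : z = (X - algebraMap k K (a 0)) / algebraMap k K (a 1) := by
          have h1 : algebraMap k K (a 1) ≠ 0 := by simpa using ha1
          rw [hXsum, ha2]; field_simp; simp
        rw [SetLike.mem_coe, this]
        exact div_mem (sub_mem hXm (IntermediateField.algebraMap_mem _ _))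
          (IntermediateField.algebraMap_mem _ _)
      · exact hym
    exact ⟨a, X, y, hXsum, Or.inr rfl, hXk, hDeq, hdeg, hprim⟩
  · have hprim : IntermediateField.adjoin k ({X, x} : Set K) = ⊤ := by
      rw [eq_top_iff, ← hxy, IntermediateField.adjoin_le_iff]
      have hXm : X ∈ IntermediateField.adjoin k ({X, x} : Set K) :=
        IntermediateField.subset_adjoin _ _ (by simp)
      have hxm : x ∈ IntermediateField.adjoin k ({X, x} : Set K) :=
        IntermediateField.subset_adjoin _ _ (by simp)
      intro z hz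
      rcases hz with rfl | rfl
      · exact hxm
      · have : z = (X - algebraMap k K (a 0) - algebraMap k K (a 1) * x) / algebraMap k K (a 2) := by
          have h2 : algebraMap k K (a 2) ≠ 0 := by simpa using ha2
          rw [hXsum]; field_simp; ring
        rw [SetLike.mem_coe, this]
        exact div_mem (sub_mem (sub_mem hXm (IntermediateField.algebraMap_mem _ _))
          (mul_mem (IntermediateField.algebraMap_mem _ _) hxm))
          (IntermediateField.algebraMap_mem _ _)
    exact ⟨a, X, x, hXsum, Or.inl rfl, hXk, hDeq, hdeg, hprim⟩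

/-- (2'): at a finite place, a plane model attaining the genus bound is nonsingular. -/
theorem nonsingular_of_genus_eq_finite [IsAlgClosed k] (hK : IsFunctionField k K) (x y : K)
    (hxy : IntermediateField.adjoin k ({x, y} : Set K) = ⊤) (P : Place k K)
    (hPx : P.1 x ≤ 1) (hPy : P.1 y ≤ 1)
    (hg : ((mapDiv k ![(1 : K), x, y]).deg - 1) * ((mapDiv k ![(1 : K), x, y]).deg - 2) ≤
      2 * (genus k K : ℤ)) :
    IsNonsingularAt ![(1 : K), x, y] P := by
  classical
  obtain ⟨a, X, y'', hXsum, hy'', hXk, hDeq, hdeg, hprim⟩ := exists_generic_data hK x y hxy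
  set φ : Fin 3 → K := ![(1 : K), x, y] with hφ
  set D := mapDiv k φ with hD
  set A := Algebra.adjoin k ({x, y} : Set K) with hA
  have hxA : x ∈ A := Algebra.subset_adjoin (by simp)
  have hyA : y ∈ A := Algebra.subset_adjoin (by simp)
  have hXA : X ∈ A := by
    rw [hXsum]
    exact add_mem (add_mem (Subalgebra.algebraMap_mem _ _)
      (mul_mem (Subalgebra.algebraMap_mem _ _) hxA)) (mul_mem (Subalgebra.algebraMap_mem _ _) hyA)
  have hy''A : y'' ∈ A := by rcases hy'' with rfl | rfl <;> assumption
  have hPX : P.1 X ≤ 1 := by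
    rw [hXsum]
    have h1 : ∀ (c : k) (u : K), P.1 u ≤ 1 → P.1 (algebraMap k K c * u) ≤ 1 := by
      intro c u hu
      rw [map_mul]
      exact mul_le_one' (P.2.1 c) hu
    exact (P.1.map_add _ _).trans (max_le ((P.1.map_add _ _).trans
      (max_le (P.2.1 _) (h1 _ _ hPx))) (h1 _ _ hPy))
  have hXtr : Transcendental k X := transcendental_of_not_mem hK hXk
  have hD0 : 0 ≤ D := mapDiv_nonneg_of_one hK φ 0 rfl
  have hchart : A ≤ chart k φ 0 := by
    apply Algebra.adjoin_le
    rintro z (rfl | hz)
    · exact Algebra.subset_adjoin ⟨1, by simp [hφ]⟩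
    · rw [Set.mem_singleton_iff] at hz
      subst hz
      exact Algebra.subset_adjoin ⟨2, by simp [hφ]⟩
  by_cases hfin : finRing k X ≤ A
  · intro z hz
    obtain ⟨w, hw, hw1, hzw⟩ := exists_clear_fin hK hXk P hPX (poles_finite' hK z).toFinset z hz
      (fun Q _ hQ => by simpa using hQ)
    refine ⟨0, by simp [hφ], ?_, z * w, hchart (hfin hzw), w, hchart (hfin hw), hw1, rfl⟩
    intro i
    fin_cases i
    · simp [hφ]
    · simpa [hφ] using hPx
    · simpa [hφ] using hPy
  · exfalso
    obtain ⟨z, hzfin, hzA⟩ := SetLike.not_le_iff_exists.mp hfin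
    obtain ⟨m0, hm0⟩ := exists_mem_L_of_mem_finRing hK hzfin
    rw [← hDeq] at hm0
    have hyD : y'' ∈ L D := by
      rcases hy'' with rfl | rfl
      · exact mem_L_mapDiv hK φ 1
      · exact mem_L_mapDiv hK φ 2
    have hXD : X ∈ L D := by
      rw [hXsum]
      have h1 : (1 : K) ∈ L D := mem_L_mapDiv hK φ 0
      have hx : x ∈ L D := mem_L_mapDiv hK φ 1
      have hy : y ∈ L D := mem_L_mapDiv hK φ 2
      have e : algebraMap k K (a 0) + algebraMap k K (a 1) * x + algebraMap k K (a 2) * y =
          a 0 • (1 : K) + a 1 • x + a 2 • y := by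
        simp [Algebra.smul_def]
      rw [e]
      exact add_mem (add_mem (Submodule.smul_mem _ _ h1) (Submodule.smul_mem _ _ hx))
        (Submodule.smul_mem _ _ hy)
    have hzA' : z ∉ Algebra.adjoin k ({X, y''} : Set K) := by
      intro h
      apply hzA
      refine Algebra.adjoin_le ?_ h
      rintro u (rfl | hu)
      · exact hXA
      · rw [Set.mem_singleton_iff] at hu
        subst hu
        exact hy''A
    have := triangle_bound_strict hK hXtr D hD0 hXD hyD hdeg hprim hm0 hzA'
    omega

end Groth.Agent.Lib.LeadPN
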