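import Groth.Agent.Lib.LeadPN8
import Groth.Agent.Lib.LeadPN1
import Groth.Agent.Lib.LeadWD6

/-! A plane model attaining the genus bound is nonsingular everywhere. -/

namespace Groth.Agent.Lib.LeadPN

open FunFld WithZero Groth.Agent.Lib.LeadFF Groth.Agent.Lib.LeadWD

variable {k K : Type*} [Field k] [Field K] [Algebra k K]

lemma inLocRing_scale {ι : Type*} (φ : ι → K) {c : K} (hc : c ≠ 0) (P : Place k K) (z : K)
    (h : InLocRing (fun i => c * φ i) P z) : InLocRing φ P z := by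
  obtain ⟨j, hj, hmax, h⟩ := h
  have e : (fun i => (fun i => c * φ i) i / (fun i => c * φ i) j) = fun i => φ i / φ j :=
    funext fun i => mul_div_mul_left _ _ hc
  rw [e] at h
  refine ⟨j, right_ne_zero_of_mul hj, fun i => ?_, h⟩
  have := hmax i
  simp only [map_mul] at this
  exact le_of_mul_le_mul_left this (zero_lt_iff.mpr ((Valuation.ne_zero_iff _).mpr hc))

lemma isNonsingularAt_scale {ι : Type*} (φ : ι → K) {c : K} (hc : c ≠ 0) (P : Place k K)
    (h : IsNonsingularAt (fun i => c * φ i) P) : IsNonsingularAt φ P :=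
  fun z hz => inLocRing_scale φ hc P z (h z hz)

lemma mapDiv_eq_of_range_eq (hK : IsFunctionField k K) {ι ι' : Type*} [Fintype ι] [Nonempty ι]
    [Fintype ι'] [Nonempty ι'] (φ : ι → K) (ψ : ι' → K) (h : Set.range φ = Set.range ψ)
    (i0 : ι) (hi0 : φ i0 = 1) : mapDiv k φ = mapDiv k ψ := by
  obtain ⟨i0', hi0'⟩ : ∃ i', ψ i' = 1 := by
    have : φ i0 ∈ Set.range ψ := h ▸ ⟨i0, rfl⟩
    obtain ⟨i', hi'⟩ := this
    exact ⟨i', hi'.trans hi0⟩
  apply le_antisymm
  · apply mapDiv_le hK φ (mapDiv_nonneg_of_one hK ψ i0' hi0')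
    intro i
    have : φ i ∈ Set.range ψ := h ▸ ⟨i, rfl⟩
    obtain ⟨i', hi'⟩ := this
    rw [← hi']
    exact mem_L_mapDiv hK ψ i'
  · apply mapDiv_le hK ψ (mapDiv_nonneg_of_one hK φ i0 hi0)
    intro i'
    have : ψ i' ∈ Set.range φ := h.symm ▸ ⟨i', rfl⟩
    obtain ⟨i, hi⟩ := this
    rw [← hi]
    exact mem_L_mapDiv hK φ i

lemma mapDiv_apply_of_maxIdx (hK : IsFunctionField k K) {ι : Type*} [Fintype ι] [Nonempty ι]
    (φ : ι → K) (i0 : ι) (hi0 : φ i0 = 1) (P : Place k K) (j : ι) (hj : φ j ≠ 0)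
    (hmax : ∀ i, P.1 (φ i) ≤ P.1 (φ j)) : mapDiv k φ P = -P.ord (φ j) := by
  apply mapDiv_eq_of' hK φ P
  · have := hmax i0
    rw [hi0, map_one, val_eq_exp_neg_ord P hj, ← exp_zero, exp_le_exp] at this
    exact this
  · intro i
    rw [← val_eq_exp_neg_ord P hj]
    exact hmax i
  · exact ⟨j, val_eq_exp_neg_ord P hj⟩

lemma deg_mapDiv_scale (hK : IsFunctionField k K) {ι : Type*} [Fintype ι] [Nonempty ι]
    (φ : ι → K) (i0 : ι) (hi0 : φ i0 = 1) (j : ι) (hj : φ j ≠ 0) :
    (mapDiv k (fun i => φ i / φ j)).deg = (mapDiv k φ).deg := by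
  have : mapDiv k (fun i => φ i / φ j) = mapDiv k φ + FunFld.div k (φ j) := by
    ext P
    obtain ⟨j', hj', hmax⟩ := exists_maxIdx φ P ⟨j, hj⟩
    have h1 := mapDiv_apply_of_maxIdx hK φ i0 hi0 P j' hj' hmax
    have hj'' : φ j' / φ j ≠ 0 := div_ne_zero hj' hj
    have h2 := mapDiv_apply_of_maxIdx hK (fun i => φ i / φ j) j (div_self hj) P j' hj'' (by
      intro i
      simp only [map_div₀]
      exact div_le_div_of_nonneg_right (hmax i) zero_le')
    rw [h2, Finsupp.add_apply, h1, div_apply hK]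
    have h3 : P.ord (φ j' / φ j) = P.ord (φ j') - P.ord (φ j) := by
      have hv := val_eq_exp_neg_ord P hj''
      rw [map_div₀, val_eq_exp_neg_ord P hj', val_eq_exp_neg_ord P hj, ← exp_sub, exp_inj] at hv
      omega
    rw [h3]; ring
  rw [this, deg_add_div hK]

/-- (main'): the chart `x ≠ 0`. -/
theorem nonsingular_of_genus_eq_chart [IsAlgClosed k] (hK : IsFunctionField k K) (x y : K)
    (hxy : IntermediateField.adjoin k ({x, y} : Set K) = ⊤) (P : Place k K)
    (hPx : 1 ≤ P.1 x) (hPy : P.1 y ≤ P.1 x)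
    (hg : ((mapDiv k ![(1 : K), x, y]).deg - 1) * ((mapDiv k ![(1 : K), x, y]).deg - 2) ≤
      2 * (genus k K : ℤ)) :
    IsNonsingularAt ![(1 : K), x, y] P := by
  have hx0 : x ≠ 0 := by
    rintro rfl
    rw [map_zero] at hPx
    exact not_le.mpr zero_lt_one hPx
  have hPx0 : 0 < P.1 x := lt_of_lt_of_le zero_lt_one hPx
  set φ : Fin 3 → K := ![(1 : K), x, y] with hφ
  set ψ : Fin 3 → K := ![(1 : K), x⁻¹, y * x⁻¹] with hψ
  have hrange : Set.range (fun i => φ i / φ 1) = Set.range ψ := by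
    apply le_antisymm
    · rintro _ ⟨i, rfl⟩
      fin_cases i
      · exact ⟨1, by simp [hφ, hψ]⟩
      · exact ⟨0, by simp [hφ, hψ, div_self hx0]⟩
      · exact ⟨2, by simp [hφ, hψ, div_eq_mul_inv]⟩
    · rintro _ ⟨i, rfl⟩
      fin_cases i
      · exact ⟨1, by simp [hφ, hψ, div_self hx0]⟩
      · exact ⟨0, by simp [hφ, hψ]⟩
      · exact ⟨2, by simp [hφ, hψ, div_eq_mul_inv]⟩
  have hφ1 : φ 1 = x := by simp [hφ]
  have hdeg : (mapDiv k ψ).deg = (mapDiv k φ).deg := by
    rw [← mapDiv_eq_of_range_eq hK (fun i => φ i / φ 1) ψ hrange 1 (by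
      show φ 1 / φ 1 = 1
      rw [hφ1]; exact div_self hx0)]
    exact deg_mapDiv_scale hK φ 0 (by simp [hφ]) 1 (by rw [hφ1]; exact hx0)
  have hxy' : IntermediateField.adjoin k ({x⁻¹, y * x⁻¹} : Set K) = ⊤ := by
    rw [eq_top_iff, ← hxy, IntermediateField.adjoin_le_iff]
    have h1 : x⁻¹ ∈ IntermediateField.adjoin k ({x⁻¹, y * x⁻¹} : Set K) :=
      IntermediateField.subset_adjoin _ _ (by simp)
    have h2 : y * x⁻¹ ∈ IntermediateField.adjoin k ({x⁻¹, y * x⁻¹} : Set K) :=
      IntermediateField.subset_adjoin _ _ (by simp)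
    rintro z (rfl | hz)
    · have := inv_mem h1
      rwa [inv_inv] at this
    · rw [Set.mem_singleton_iff] at hz
      subst hz
      have := mul_mem h2 (inv_mem h1)
      rwa [inv_inv, mul_assoc, inv_mul_cancel₀ hx0, mul_one] at this
  have hns := nonsingular_of_genus_eq_finite hK x⁻¹ (y * x⁻¹) hxy' P
    (by rw [map_inv₀]; exact inv_le_one_of_one_le₀ hPx)
    (by rw [map_mul, map_inv₀, ← div_eq_mul_inv]; exact (div_le_one₀ hPx0).mpr hPy)
    (by rw [← hψ, hdeg]; exact hg)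
  have hns' : IsNonsingularAt (fun i => φ i / φ 1) P :=
    isNonsingularAt_of_span_eq ψ _ (by rw [hrange]) P hns
  have hns'' : IsNonsingularAt (fun i => x⁻¹ * φ i) P := by
    have : (fun i => x⁻¹ * φ i) = fun i => φ i / φ 1 := by
      funext i
      rw [hφ1, div_eq_mul_inv, mul_comm]
    rw [this]; exact hns'
  exact isNonsingularAt_scale φ (inv_ne_zero hx0) P hns''

/-- a plane model attaining the genus bound is nonsingular. -/
theorem nonsingular_of_genus_eq [IsAlgClosed k] (hK : IsFunctionField k K) (x y : K)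
    (hxy : IntermediateField.adjoin k ({x, y} : Set K) = ⊤)
    (hg : ((mapDiv k ![(1 : K), x, y]).deg - 1) * ((mapDiv k ![(1 : K), x, y]).deg - 2) ≤
      2 * (genus k K : ℤ)) (P : Place k K) :
    IsNonsingularAt ![(1 : K), x, y] P := by
  by_cases hfin : P.1 x ≤ 1 ∧ P.1 y ≤ 1
  · exact nonsingular_of_genus_eq_finite hK x y hxy P hfin.1 hfin.2 hg
  · rcases le_total (P.1 y) (P.1 x) with hle | hle
    · have hPx : 1 ≤ P.1 x := by
        by_contra h
        rw [not_le] at h
        exact hfin ⟨h.le, hle.trans h.le⟩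
      exact nonsingular_of_genus_eq_chart hK x y hxy P hPx hle hg
    · have hPy : 1 ≤ P.1 y := by
        by_contra h
        rw [not_le] at h
        exact hfin ⟨hle.trans h.le, h.le⟩
      have hrange : Set.range ![(1 : K), y, x] = Set.range ![(1 : K), x, y] := by
        apply le_antisymm
        · rintro _ ⟨i, rfl⟩
          fin_cases i
          · exact ⟨0, rfl⟩
          · exact ⟨2, rfl⟩
          · exact ⟨1, rfl⟩
        · rintro _ ⟨i, rfl⟩
          fin_cases i
          · exact ⟨0, rfl⟩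
          · exact ⟨2, rfl⟩
          · exact ⟨1, rfl⟩
      have hmd := mapDiv_eq_of_range_eq hK ![(1 : K), y, x] ![(1 : K), x, y] hrange 0 rfl
      have hyx : IntermediateField.adjoin k ({y, x} : Set K) = ⊤ := by
        rw [Set.pair_comm]; exact hxy
      have := nonsingular_of_genus_eq_chart hK y x hyx P hPy hle (by rw [hmd]; exact hg)
      exact isNonsingularAt_of_span_eq _ _ (by rw [hrange]) P this

end Groth.Agent.Lib.LeadPN
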