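import Groth.Agent.Lib.Helper18Monogenic

/-! # Primitive elements of finite étale algebras: an explicit bound -/

set_option autoImplicit false

namespace Groth.Agent.Lib.LeadPrimEl

open Polynomial Groth.Agent.Lib.Helper18Monogenic

universe u

theorem formallyEtale_of_isSeparable (K L : Type u) [Field K] [CommRing L] [Algebra K L]
    [Module.Finite K L] [IsReduced L] [Algebra.IsSeparable K L] : Algebra.FormallyEtale K L := by
  haveI : IsArtinianRing L := IsArtinianRing.of_finite K L
  rw [Algebra.FormallyEtale.iff_exists_algEquiv_prod]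
  haveI : ∀ i : MaximalSpectrum L, i.asIdeal.IsMaximal := fun i => i.isMaximal
  letI : ∀ i : MaximalSpectrum L, Field (L ⧸ i.asIdeal) := fun i => Ideal.Quotient.field i.asIdeal
  refine ⟨MaximalSpectrum L, inferInstance, fun i => L ⧸ i.asIdeal, inferInstance,
    fun i => inferInstance, (IsArtinianRing.equivPi L).restrictScalars K, fun i => ⟨fun y => ?_⟩⟩
  obtain ⟨x, rfl⟩ := Ideal.Quotient.mk_surjective y
  have hx : (minpoly K x).Separable := Algebra.IsSeparable.isSeparable K x
  refine hx.of_dvd (minpoly.dvd K _ ?_)
  rw [← Ideal.Quotient.mkₐ_eq_mk K, aeval_algHom_apply, minpoly.aeval, map_zero]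

theorem exists_generator (K L : Type u) [Field K] [CommRing L] [Algebra K L] [Module.Finite K L]
    [Algebra.FormallyUnramified K L] (z t : L)
    (hgen : Algebra.adjoin K ({z, t} : Set L) = ⊤) (S : Finset K)
    (hS : Module.finrank K L ^ (4 * Module.finrank K L) ≤ S.card) :
    ∃ c ∈ S, Algebra.adjoin K ({c • z + t} : Set L) = ⊤ := by
  classical
  by_contra hcon
  push_neg at hcon
  haveI : Fintype (Pt K L) := Fintype.ofFinite _
  set d := Module.finrank K L with hd
  have hcard : Fintype.card (Pt K L) = d := by rw [← Nat.card_eq_fintype_card, card_pt]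
  have hbad : ∀ c ∈ S, ∃ pq : Pt K L × Pt K L, pq.1 ≠ pq.2 ∧
      pt K L pq.1 (c • z + t) = pt K L pq.2 (c • z + t) := by
    intro c hc
    have h := hcon c hc
    by_contra hne
    push_neg at hne
    apply h
    apply adjoin_eq_top_of_injective
    intro p q hpq
    by_contra hpq'
    exact hne (p, q) hpq' hpq
  choose F hF1 hF2 using hbad
  let G : {c // c ∈ S} → Pt K L × Pt K L := fun c => F c.1 c.2
  have hinj : Function.Injective G := by
    rintro ⟨c, hc⟩ ⟨c', hc'⟩ hFF
    change F c hc = F c' hc' at hFF
    by_contra hne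
    have hne' : c ≠ c' := fun h => hne (Subtype.ext h)
    have h1 := hF2 c hc
    have h2 := hF2 c' hc'
    rw [← hFF] at h2
    simp only [map_add, map_smul] at h1 h2
    have h3 : (c - c') • (pt K L (F c hc).1 z - pt K L (F c hc).2 z) = 0 := by
      rw [sub_smul, smul_sub, smul_sub]
      linear_combination h1 - h2
    have hz : pt K L (F c hc).1 z = pt K L (F c hc).2 z := by
      rcases smul_eq_zero.mp h3 with h | h
      · exact absurd (sub_eq_zero.mp h) hne'
      · exact sub_eq_zero.mp h
    have ht : pt K L (F c hc).1 t = pt K L (F c hc).2 t := by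
      rw [hz] at h1
      exact add_left_cancel h1
    apply hF1 c hc
    apply pt_injective
    apply AlgHom.ext_of_adjoin_eq_top hgen
    intro x hx
    rcases hx with rfl | rfl
    · exact hz
    · exact ht
  let T : Finset (Pt K L × Pt K L) := (Finset.univ : Finset (Pt K L)).offDiag
  have hST : S.card ≤ T.card := by
    rw [← Finset.card_attach]
    apply Finset.card_le_card_of_injOn G _ hinj.injOn
    intro c _
    simp only [T, Finset.coe_offDiag, Finset.coe_univ]
    exact Set.mem_offDiag.mpr ⟨trivial, trivial, hF1 c.1 c.2⟩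
  have hT : T.card = d * d - d := by
    simp only [T, Finset.offDiag_card, Finset.card_univ, hcard]
  have hlt : d * d - d < d ^ (4 * d) := by
    rcases Nat.eq_zero_or_pos d with h0 | hpos
    · rw [h0]; simp
    · calc d * d - d < d * d := Nat.sub_lt (Nat.mul_pos hpos hpos) hpos
        _ = d ^ 2 := (sq d).symm
        _ ≤ d ^ (4 * d) := Nat.pow_le_pow_right hpos (by omega)
  omega

end Groth.Agent.Lib.LeadPrimEl
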