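import Mathlib
import Groth.Prelude.Def_Wider
import Groth.Agent.Lib.LeadTildeLoc
import Groth.Agent.Lib.Helper13AffBC
import Groth.Agent.Lib.Helper1KoszulPerf

/-!
# Lead: modules on the punctured spectrum `Spec A ∖ V(𝔞)` and `𝔞`-power torsion

`Φ 𝔞 : ModuleCat A ⥤ (Spec A ∖ V(𝔞)).Modules`, `P ↦ P~|_U`.
* `bijective_of_tors`: a linear map whose kernel and cokernel are `f`-power torsion becomes bijective after
  inverting `f`;
* `isIso_Φ_map_of_tors`: a linear map with `𝔞`-power torsion kernel and cokernel induces an isomorphism on `U`;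
* `tors_of_isZero`: if `P~|_U = 0` then every element of `P` is killed by a power of `𝔞` (`𝔞` finitely generated).
-/

set_option autoImplicit false
set_option linter.style.haveILetI false
universe u
open CategoryTheory Limits AlgebraicGeometry TopologicalSpace Opposite

namespace Groth.Agent.Lib.LeadPuncTors

open Groth.Agent.Lib.LeadTildeLoc

section Alg

theorem smul_left_cancel_of_isLocalizedModule {R : Type*} [CommRing R] (S : Submonoid R) {Q Q' : Type*}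
    [AddCommGroup Q] [Module R Q] [AddCommGroup Q'] [Module R Q'] (ℓ : Q →ₗ[R] Q')
    [IsLocalizedModule S ℓ] (t : S) {a b : Q'} (h : (t : R) • a = (t : R) • b) : a = b := by
  have hu := IsLocalizedModule.map_units ℓ t
  exact ((Module.End.isUnit_iff _).mp hu).injective h

theorem bijective_of_tors {R : Type*} [CommRing R] (f : R) {P Q P' Q' : Type*}
    [AddCommGroup P] [Module R P] [AddCommGroup Q] [Module R Q]
    [AddCommGroup P'] [Module R P'] [AddCommGroup Q'] [Module R Q']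
    (ℓP : P →ₗ[R] P') (ℓQ : Q →ₗ[R] Q')
    [IsLocalizedModule (Submonoid.powers f) ℓP] [IsLocalizedModule (Submonoid.powers f) ℓQ]
    (φ : P →ₗ[R] Q) (φ' : P' →ₗ[R] Q') (hcomm : ∀ x, φ' (ℓP x) = ℓQ (φ x))
    (hker : ∀ x, φ x = 0 → ∃ k : ℕ, f ^ k • x = 0)
    (hcoker : ∀ y, ∃ k : ℕ, f ^ k • y ∈ LinearMap.range φ) : Function.Bijective φ' := by
  constructor
  · rw [injective_iff_map_eq_zero]
    intro z hz
    obtain ⟨⟨x, s⟩, hs⟩ := IsLocalizedModule.surj (Submonoid.powers f) ℓP z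
    have hs' : (s : R) • z = ℓP x := hs
    have h1 : ℓQ (φ x) = 0 := by
      rw [← hcomm, ← hs', map_smul, hz, smul_zero]
    obtain ⟨c, hc⟩ := (IsLocalizedModule.eq_zero_iff (Submonoid.powers f) ℓQ).mp h1
    have hc' : (c : R) • φ x = 0 := hc
    obtain ⟨k, hk⟩ := hker ((c : R) • x) (by rw [map_smul, hc'])
    have h2 : ℓP x = 0 := by
      rw [IsLocalizedModule.eq_zero_iff (Submonoid.powers f)]
      refine ⟨⟨f ^ k, k, rfl⟩ * c, ?_⟩
      change (f ^ k * (c : R)) • x = 0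
      rw [mul_smul]
      exact hk
    apply smul_left_cancel_of_isLocalizedModule (Submonoid.powers f) ℓP s
    rw [hs', h2, smul_zero]
  · intro w
    obtain ⟨⟨y, s⟩, hs⟩ := IsLocalizedModule.surj (Submonoid.powers f) ℓQ w
    have hs' : (s : R) • w = ℓQ y := hs
    obtain ⟨k, x, hx⟩ := hcoker y
    let t : Submonoid.powers f := ⟨f ^ k, k, rfl⟩ * s
    refine ⟨IsLocalizedModule.mk' ℓP x t, ?_⟩
    apply smul_left_cancel_of_isLocalizedModule (Submonoid.powers f) ℓQ t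
    rw [← map_smul]
    have e : (t : R) • IsLocalizedModule.mk' ℓP x t = ℓP x := IsLocalizedModule.mk'_cancel' ℓP x t
    rw [e, hcomm, hx, map_smul, ← hs', ← mul_smul]
    rfl

end Alg

section Geo

variable {A : Type u} [CommRing A] (𝔞 : Ideal A)

/-- `P ↦ P~|_U` for `U = Spec A ∖ V(𝔞)`. -/
noncomputable abbrev Φ : ModuleCat.{u} A ⥤ (LocCoh.puncturedOpen A 𝔞 : Scheme.{u}).Modules :=
  tilde.functor (CommRingCat.of A) ⋙ Scheme.Modules.restrictFunctor (LocCoh.puncturedOpen A 𝔞).ι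

variable {𝔞}

theorem basicOpen_le {f : A} (hf : f ∈ 𝔞) :
    (PrimeSpectrum.basicOpen f : (Spec (CommRingCat.of A)).Opens) ≤ LocCoh.puncturedOpen A 𝔞 := by
  intro p hp
  change p ∈ (PrimeSpectrum.zeroLocus (R := A) (𝔞 : Set A))ᶜ
  intro hp'
  exact hp (hp' hf)

theorem image_preimage_basicOpen {f : A} (hf : f ∈ 𝔞) :
    (LocCoh.puncturedOpen A 𝔞).ι ''ᵁ ((LocCoh.puncturedOpen A 𝔞).ι ⁻¹ᵁ
      (PrimeSpectrum.basicOpen f : (Spec (CommRingCat.of A)).Opens)) =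
      (PrimeSpectrum.basicOpen f : (Spec (CommRingCat.of A)).Opens) := by
  rw [Scheme.Hom.image_preimage_eq_opensRange_inf, Scheme.Opens.opensRange_ι]
  exact inf_eq_right.mpr (basicOpen_le hf)

/-- the basis of `U` given by the `D(f)`, `f ∈ 𝔞`. -/
noncomputable def B (𝔞 : Ideal A) (f : {f : A // f ∈ 𝔞}) : (LocCoh.puncturedOpen A 𝔞 : Scheme.{u}).Opens :=
  (LocCoh.puncturedOpen A 𝔞).ι ⁻¹ᵁ (PrimeSpectrum.basicOpen f.1 : (Spec (CommRingCat.of A)).Opens)

theorem isBasis_B : Opens.IsBasis (Set.range (B 𝔞)) := by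
  rw [Opens.isBasis_iff_nbhd]
  intro V x hxV
  have hp : (LocCoh.puncturedOpen A 𝔞).ι x ∈ (LocCoh.puncturedOpen A 𝔞).ι ''ᵁ V := ⟨x, hxV, rfl⟩
  obtain ⟨W, ⟨g, rfl⟩, hpg, hgV⟩ := (Opens.isBasis_iff_nbhd.mp
    (PrimeSpectrum.isBasis_basic_opens (R := A))) hp
  have hxU : (LocCoh.puncturedOpen A 𝔞).ι x ∈ LocCoh.puncturedOpen A 𝔞 := x.2
  have hna : ¬ (𝔞 : Set A) ⊆ ((LocCoh.puncturedOpen A 𝔞).ι x).asIdeal := hxU
  obtain ⟨a, ha, hap⟩ := Set.not_subset.mp hna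
  refine ⟨B 𝔞 ⟨g * a, 𝔞.mul_mem_left g ha⟩, ⟨_, rfl⟩, ?_, ?_⟩
  · change (LocCoh.puncturedOpen A 𝔞).ι x ∈ PrimeSpectrum.basicOpen (g * a)
    rw [PrimeSpectrum.basicOpen_mul]
    exact ⟨hpg, hap⟩
  · intro y hy
    have hy' : (LocCoh.puncturedOpen A 𝔞).ι y ∈ PrimeSpectrum.basicOpen (g * a) := hy
    rw [PrimeSpectrum.basicOpen_mul] at hy'
    obtain ⟨v, hv, hvy⟩ := hgV hy'.1
    have : v = y := (LocCoh.puncturedOpen A 𝔞).ι.isOpenEmbedding.injective hvy
    exact this ▸ hv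

theorem isLocalizedModule_toOpen' {R : CommRingCat.{u}} (N : ModuleCat.{u} R) (f : R) :
    IsLocalizedModule (Submonoid.powers f)
      (tilde.toOpen N (PrimeSpectrum.basicOpen f : (Spec R).Opens)).hom :=
  inferInstanceAs (IsLocalizedModule.Away f (tilde.toOpen N (PrimeSpectrum.basicOpen f)).hom)

theorem bijective_secMap_of_tors {P Q : ModuleCat.{u} A} (φ : P ⟶ Q) {f : A} (hf : f ∈ 𝔞)
    (hker : ∀ x : P, φ.hom x = 0 → ∃ m : ℕ, ∀ a ∈ 𝔞 ^ m, a • x = 0)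
    (hcoker : ∀ y : Q, ∃ m : ℕ, ∀ a ∈ 𝔞 ^ m, a • y ∈ LinearMap.range φ.hom)
    (W : (Spec (CommRingCat.of A)).Opens) (hW : W = PrimeSpectrum.basicOpen f) :
    Function.Bijective (secMap (R := CommRingCat.of A) φ W) := by
  subst hW
  haveI := isLocalizedModule_toOpen' (R := CommRingCat.of A) P f
  haveI := isLocalizedModule_toOpen' (R := CommRingCat.of A) Q f
  refine bijective_of_tors (R := A) f (tilde.toOpen (R := CommRingCat.of A) P _).hom
    (tilde.toOpen (R := CommRingCat.of A) Q _).hom φ.hom (secMap (R := CommRingCat.of A) φ _)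
    (secMap_toOpen (R := CommRingCat.of A) φ _) ?_ ?_
  · intro x hx
    obtain ⟨m, hm⟩ := hker x hx
    exact ⟨m, hm _ (Ideal.pow_mem_pow hf m)⟩
  · intro y
    obtain ⟨m, hm⟩ := hcoker y
    exact ⟨m, hm _ (Ideal.pow_mem_pow hf m)⟩

/-- a map with `𝔞`-power torsion kernel and cokernel becomes an isomorphism on `Spec A ∖ V(𝔞)`. -/
theorem isIso_Φ_map_of_tors {P Q : ModuleCat.{u} A} (φ : P ⟶ Q)
    (hker : ∀ x : P, φ.hom x = 0 → ∃ m : ℕ, ∀ a ∈ 𝔞 ^ m, a • x = 0)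
    (hcoker : ∀ y : Q, ∃ m : ℕ, ∀ a ∈ 𝔞 ^ m, a • y ∈ LinearMap.range φ.hom) :
    IsIso ((Φ 𝔞).map φ) := by
  refine Groth.Agent.Helper13AffBC.isIso_of_bijective_on_basis _ (B 𝔞) isBasis_B ?_
  intro f
  exact bijective_secMap_of_tors φ f.2 hker hcoker _ (image_preimage_basicOpen f.2)

theorem toOpen_eq_zero_of_isZero {C : ModuleCat.{u} A} (hC : IsZero ((Φ 𝔞).obj C))
    (V : (LocCoh.puncturedOpen A 𝔞 : Scheme.{u}).Opens) (z : C) :
    (tilde.toOpen (R := CommRingCat.of A) C ((LocCoh.puncturedOpen A 𝔞).ι ''ᵁ V)).hom z = 0 := by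
  have h : 𝟙 ((Φ 𝔞).obj C) = 0 := hC.eq_of_src _ _
  let s : (Scheme.Modules.presheaf ((Φ 𝔞).obj C)).obj (op V) :=
    (tilde.toOpen (R := CommRingCat.of A) C ((LocCoh.puncturedOpen A 𝔞).ι ''ᵁ V)).hom z
  have := congrArg (fun φ : (Φ 𝔞).obj C ⟶ (Φ 𝔞).obj C => (Scheme.Modules.Hom.app φ V) s) h
  exact this

theorem exists_pow_smul_eq_zero_of_toOpen_eq_zero {C : ModuleCat.{u} A} (f : A) (z : C)
    (W : (Spec (CommRingCat.of A)).Opens) (hW : W = PrimeSpectrum.basicOpen f)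
    (h : (tilde.toOpen (R := CommRingCat.of A) C W).hom z = 0) : ∃ k : ℕ, f ^ k • z = 0 := by
  subst hW
  haveI := isLocalizedModule_toOpen' (R := CommRingCat.of A) C f
  obtain ⟨⟨c, k, rfl⟩, hc⟩ := (IsLocalizedModule.eq_zero_iff (Submonoid.powers f)
    (tilde.toOpen (R := CommRingCat.of A) C _).hom).mp h
  exact ⟨k, hc⟩

/-- if `C~` vanishes on `Spec A ∖ V(𝔞)`, every element of `C` is killed by a power of `𝔞`. -/
theorem tors_of_isZero (h𝔞 : 𝔞.FG) {C : ModuleCat.{u} A} (hC : IsZero ((Φ 𝔞).obj C)) (z : C) :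
    ∃ m : ℕ, ∀ a ∈ 𝔞 ^ m, a • z = 0 := by
  let J : Ideal A := LinearMap.ker (LinearMap.toSpanSingleton A C z)
  have hJ : ∀ a, a ∈ J ↔ a • z = 0 := fun a => by
    rw [LinearMap.mem_ker, LinearMap.toSpanSingleton_apply]
  have hle : 𝔞 ≤ J.radical := by
    intro f hf
    obtain ⟨k, hk⟩ := exists_pow_smul_eq_zero_of_toOpen_eq_zero f z _
      (image_preimage_basicOpen hf) (toOpen_eq_zero_of_isZero hC (B 𝔞 ⟨f, hf⟩) z)
    exact ⟨k, (hJ _).mpr hk⟩
  obtain ⟨m, hm⟩ := Ideal.exists_pow_le_of_le_radical_of_fg hle h𝔞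
  exact ⟨m, fun a ha => (hJ a).mp (hm ha)⟩

instance preservesEpimorphisms_Φ : (Φ 𝔞).PreservesEpimorphisms := by
  haveI : (tilde.functor (CommRingCat.of A)).PreservesEpimorphisms :=
    Functor.preservesEpimorphisms_of_adjunction (tilde.adjunction (R := CommRingCat.of A))
  haveI : (Scheme.Modules.restrictFunctor (LocCoh.puncturedOpen A 𝔞).ι).PreservesEpimorphisms :=
    Functor.preservesEpimorphisms_of_adjunction
      (Scheme.Modules.restrictAdjunction (LocCoh.puncturedOpen A 𝔞).ι)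
  infer_instance

instance preservesMonomorphisms_Φ : (Φ 𝔞).PreservesMonomorphisms := by
  haveI : (tilde.functor (CommRingCat.of A)).PreservesMonomorphisms :=
    Groth.Agent.Lib.Helper1.KoszulPerf.preservesMonomorphisms_tilde (CommRingCat.of A)
  haveI : (Scheme.Modules.restrictFunctor (LocCoh.puncturedOpen A 𝔞).ι).PreservesMonomorphisms :=
    inferInstance
  infer_instance

/-- if `φ~|_U` is an epimorphism, the cokernel of `φ` is `𝔞`-power torsion. -/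
theorem tors_coker_of_epi (h𝔞 : 𝔞.FG) {P Q : ModuleCat.{u} A} (φ : P ⟶ Q)
    [Epi ((Φ 𝔞).map φ)] (y : Q) : ∃ m : ℕ, ∀ a ∈ 𝔞 ^ m, a • y ∈ LinearMap.range φ.hom := by
  let C : ModuleCat.{u} A := ModuleCat.of A (Q ⧸ LinearMap.range φ.hom)
  let π : Q ⟶ C := ModuleCat.ofHom (LinearMap.range φ.hom).mkQ
  have hπ : φ ≫ π = 0 := by
    ext x
    exact (Submodule.Quotient.mk_eq_zero _).mpr (LinearMap.mem_range_self _ x)
  haveI : Epi π := (ModuleCat.epi_iff_surjective π).mpr (Submodule.mkQ_surjective _)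
  haveI : Epi ((Φ 𝔞).map π) := Functor.map_epi (Φ 𝔞) π
  have h0 : (Φ 𝔞).map π = 0 := by
    rw [← cancel_epi ((Φ 𝔞).map φ), ← Functor.map_comp, hπ, Functor.map_zero, comp_zero]
  have hC : IsZero ((Φ 𝔞).obj C) := IsZero.of_epi_eq_zero _ h0
  obtain ⟨m, hm⟩ := tors_of_isZero h𝔞 hC ((LinearMap.range φ.hom).mkQ y)
  refine ⟨m, fun a ha => ?_⟩
  have := hm a ha
  rw [← map_smul] at this
  exact (Submodule.Quotient.mk_eq_zero _).mp this

/-- if `φ~|_U` is a monomorphism, the kernel of `φ` is `𝔞`-power torsion. -/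
theorem tors_ker_of_mono (h𝔞 : 𝔞.FG) {P Q : ModuleCat.{u} A} (φ : P ⟶ Q)
    [Mono ((Φ 𝔞).map φ)] (x : P) (hx : φ.hom x = 0) : ∃ m : ℕ, ∀ a ∈ 𝔞 ^ m, a • x = 0 := by
  let K : ModuleCat.{u} A := ModuleCat.of A (LinearMap.ker φ.hom)
  let ι : K ⟶ P := ModuleCat.ofHom (LinearMap.ker φ.hom).subtype
  have hι : ι ≫ φ = 0 := by
    ext z
    exact z.2
  haveI : Mono ι := (ModuleCat.mono_iff_injective ι).mpr (Submodule.injective_subtype _)
  haveI : Mono ((Φ 𝔞).map ι) := Functor.map_mono (Φ 𝔞) ι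
  have h0 : (Φ 𝔞).map ι = 0 := by
    rw [← cancel_mono ((Φ 𝔞).map φ), ← Functor.map_comp, hι, Functor.map_zero, zero_comp]
  have hK : IsZero ((Φ 𝔞).obj K) := IsZero.of_mono_eq_zero _ h0
  obtain ⟨m, hm⟩ := tors_of_isZero h𝔞 hK (⟨x, hx⟩ : LinearMap.ker φ.hom)
  refine ⟨m, fun a ha => ?_⟩
  have := hm a ha
  exact congrArg Subtype.val this

end Geo

end Groth.Agent.Lib.LeadPuncTors
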