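import Mathlib
import Groth.Prelude.Def_Algz
import Groth.Prelude.Def_Formal2
import Groth.Agent.Lib.LeadPuncTors
import Groth.Agent.Lib.LeadProIso2
import Groth.Agent.Lib.Helper23FinType2
import Groth.Agent.S2250
import Groth.Agent.Lib.Helper4DevD
import Groth.Agent.Lib.LeadAdicGamma
import Groth.Agent.Lib.LeadCanExt

/-!
# Lead: coherent formal modules on a punctured spectrum come from systems of finite modules
-/

set_option autoImplicit false
set_option linter.style.haveILetI false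
universe u
open CategoryTheory Limits AlgebraicGeometry TopologicalSpace Opposite

namespace Groth.Agent.Lib.LeadPuncSys

open Groth.Agent.Lib.LeadPuncTors

section Fin

variable {A : Type u} [CommRing A] [IsNoetherianRing A] (𝔞 : Ideal A)

/-- if `P~|_U` is of finite type, some finitely generated submodule of `P` has `𝔞`-power torsion cokernel. -/
theorem exists_fg_submodule (P : ModuleCat.{u} A) (hP : CohB1.IsFT ((Φ 𝔞).obj P)) :
    ∃ M0 : Submodule A P, M0.FG ∧ ∀ y : P, ∃ m : ℕ, ∀ a ∈ 𝔞 ^ m, a • y ∈ M0 := by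
  have hX : ∀ x : (Spec (CommRingCat.of A)), ∃ V : (Spec (CommRingCat.of A)).Opens,
      x ∈ V ∧ TopologicalSpace.NoetherianSpace (V : Set (Spec (CommRingCat.of A))) := by
    intro x
    exact ⟨⊤, trivial, TopologicalSpace.NoetherianSpace.set _⟩
  haveI : Coh.IsQCoh (tilde (R := CommRingCat.of A) P) :=
    inferInstanceAs (tilde (R := CommRingCat.of A) P).IsQuasicoherent
  haveI : Coh.IsQCoh ((tilde (R := CommRingCat.of A) P).restrict (LocCoh.puncturedOpen A 𝔞).ι) :=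
    inferInstanceAs ((Scheme.Modules.restrictFunctor (LocCoh.puncturedOpen A 𝔞).ι).obj
      (tilde (R := CommRingCat.of A) P)).IsQuasicoherent
  obtain ⟨G', i', e', hmono, hq, hft, hcomm⟩ := Groth.Agent.S2250.result hX (LocCoh.puncturedOpen A 𝔞)
    (tilde (R := CommRingCat.of A) P)
    ((tilde (R := CommRingCat.of A) P).restrict (LocCoh.puncturedOpen A 𝔞).ι) (𝟙 _) hP
  haveI : G'.IsQuasicoherent := hq
  haveI : SheafOfModules.IsFiniteType (R := (Spec (CommRingCat.of A)).ringCatSheaf) G' := hft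
  let adj := tilde.adjunction (R := CommRingCat.of A)
  let Rj := Scheme.Modules.restrictFunctor (LocCoh.puncturedOpen A 𝔞).ι
  let ΓA := moduleSpecΓFunctor (R := CommRingCat.of A)
  let P0 : ModuleCat.{u} A := ΓA.obj G'
  -- finiteness of `Γ(G')`
  haveI hfin : Module.Finite A P0 := by
    have h1 : Module.Finite Γ(Spec (CommRingCat.of A), ⊤) Γ(G', ⊤) :=
      Groth.Agent.Lib.Helper23.FinType.finite_of_isFiniteType G'
        (isAffineOpen_top (Spec (CommRingCat.of A)))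
    exact (Groth.Agent.Lib.Helper23.FinType.finite_Γtop_iff (CommRingCat.of A) G').1 h1
  -- `i'` restricts to an isomorphism
  have h1 : IsIso (Rj.map i') := by
    rw [← hcomm, Category.comp_id]
    infer_instance
  have hnat : (tilde.functor (CommRingCat.of A)).map (ΓA.map i') ≫
      adj.counit.app (tilde (R := CommRingCat.of A) P) = adj.counit.app G' ≫ i' :=
    adj.counit.naturality i'
  haveI hc1 : IsIso (adj.counit.app G') :=
    Scheme.Modules.isIso_fromTildeΓ_of_isQuasicoherent (R := CommRingCat.of A) G'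
  haveI hc2 : IsIso (adj.counit.app (tilde (R := CommRingCat.of A) P)) :=
    Scheme.Modules.isIso_fromTildeΓ_of_isQuasicoherent (R := CommRingCat.of A)
      (tilde (R := CommRingCat.of A) P)
  have h2 : IsIso (Rj.map ((tilde.functor (CommRingCat.of A)).map (ΓA.map i'))) := by
    have e := congrArg Rj.map hnat
    rw [Functor.map_comp, Functor.map_comp] at e
    haveI : IsIso (Rj.map (adj.counit.app G') ≫ Rj.map i') := by
      haveI := h1
      infer_instance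
    haveI : IsIso (Rj.map ((tilde.functor (CommRingCat.of A)).map (ΓA.map i')) ≫
        Rj.map (adj.counit.app (tilde (R := CommRingCat.of A) P))) := by
      rw [e]; infer_instance
    exact IsIso.of_isIso_comp_right _ (Rj.map (adj.counit.app (tilde (R := CommRingCat.of A) P)))
  let eP : P ≅ ΓA.obj (tilde (R := CommRingCat.of A) P) :=
    (tilde.toTildeΓNatIso (R := CommRingCat.of A)).app P
  let ψ : P0 ⟶ P := ΓA.map i' ≫ eP.inv
  haveI hψ : IsIso ((Φ 𝔞).map ψ) := by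
    have : (Φ 𝔞).map ψ = Rj.map ((tilde.functor (CommRingCat.of A)).map (ΓA.map i')) ≫
        (Φ 𝔞).map eP.inv := by
      rw [← Functor.comp_map, ← Functor.map_comp]
    rw [this]
    haveI := h2
    infer_instance
  refine ⟨LinearMap.range ψ.hom, ?_, fun y => tors_coker_of_epi (IsNoetherian.noetherian 𝔞) ψ y⟩
  haveI : Module.Finite A (LinearMap.range ψ.hom) := Module.Finite.range ψ.hom
  exact Module.Finite.iff_fg.mp inferInstance

end Fin

section Sys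

variable {A : Type u} [CommRing A] (𝔞 : Ideal A) (N : ℕᵒᵖ ⥤ ModuleCat.{u} A)
  (M0 : ∀ n, Submodule A (N.obj (op n)))

/-- the transition maps of the system. -/
noncomputable abbrev tN (n : ℕ) : N.obj (op (n + 1)) ⟶ N.obj (op n) :=
  N.map (homOfLE (Nat.le_succ n)).op

/-- submodules of the `M0 n` compatible with the transition maps. -/
noncomputable def Msub : ∀ n, Submodule A (N.obj (op n))
  | 0 => M0 0
  | (n + 1) => M0 (n + 1) ⊓ (Msub n).comap (tN N n).hom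

theorem Msub_le (n : ℕ) : Msub N M0 n ≤ M0 n := by
  cases n with
  | zero => exact le_rfl
  | succ n => exact inf_le_left

theorem Msub_fg [IsNoetherianRing A] (h0 : ∀ n, (M0 n).FG) (n : ℕ) : (Msub N M0 n).FG :=
  (h0 n).of_le (Msub_le N M0 n)

theorem Msub_tors (h0 : ∀ (n : ℕ) (y : N.obj (op n)), ∃ m : ℕ, ∀ a ∈ 𝔞 ^ m, a • y ∈ M0 n) :
    ∀ (n : ℕ) (y : N.obj (op n)), ∃ m : ℕ, ∀ a ∈ 𝔞 ^ m, a • y ∈ Msub N M0 n := by
  intro n
  induction n with
  | zero => exact h0 0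
  | succ n ih =>
    intro y
    obtain ⟨m1, hm1⟩ := h0 (n + 1) y
    obtain ⟨m2, hm2⟩ := ih ((tN N n).hom y)
    refine ⟨max m1 m2, fun a ha => ⟨?_, ?_⟩⟩
    · exact hm1 a (Ideal.pow_le_pow_right (le_max_left m1 m2) ha)
    · change (tN N n).hom (a • y) ∈ Msub N M0 n
      rw [map_smul]
      exact hm2 a (Ideal.pow_le_pow_right (le_max_right m1 m2) ha)

theorem tN_mem (n : ℕ) (x : N.obj (op (n + 1))) (hx : x ∈ Msub N M0 (n + 1)) :
    (tN N n).hom x ∈ Msub N M0 n := hx.2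

/-- the modules of the system. -/
noncomputable abbrev MM (n : ℕ) : ModuleCat.{u} A := ModuleCat.of A (Msub N M0 n)

/-- the inclusions. -/
noncomputable abbrev ιM (n : ℕ) : MM N M0 n ⟶ N.obj (op n) :=
  ModuleCat.ofHom (X := Msub N M0 n) (Y := N.obj (op n)) (Msub N M0 n).subtype

/-- the transition maps. -/
noncomputable def gM (n : ℕ) : Msub N M0 (n + 1) →ₗ[A] Msub N M0 n :=
  (tN N n).hom.restrict (tN_mem N M0 n)

theorem gM_ι (n : ℕ) : ModuleCat.ofHom (gM N M0 n) ≫ ιM N M0 n = ιM N M0 (n + 1) ≫ tN N n := by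
  ext x
  rfl

end Sys

section Main

open Groth.Agent.Lib.LeadProIso Groth.Agent.Lib.Helper27FormalKer

variable (A : Type u) [CommRing A] [IsNoetherianRing A] (I 𝔞 : Ideal A)
  (F : ℕᵒᵖ ⥤ (LocCoh.puncturedOpen A 𝔞 : Scheme.{u}).Modules)

/-- `H⁰(U, F_n)` as a system of `A`-modules. -/
noncomputable abbrev NN : ℕᵒᵖ ⥤ ModuleCat.{u} A := Algz.sectMod A (LocCoh.puncturedOpen A 𝔞) F

theorem hkillN (hk : ∀ n, Formal.KilledBy (I ^ (n + 1)) (F.obj (op n))) (p : ℕ) (c : A)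
    (hc : c ∈ I ^ (p + 1)) (z : (NN A 𝔞 F).obj (op p)) : c • z = 0 := by
  have h1 := Groth.Agent.Lib.LeadCanExt.Γ_push_smulMod A (LocCoh.puncturedOpen A 𝔞) (F.obj (op p)) c z
  rw [hk p c hc] at h1
  exact h1.symm.trans (Groth.Agent.Lib.LeadCanExt.Γ_push_map_zero A (LocCoh.puncturedOpen A 𝔞) _ _ z)

variable {A I 𝔞 F}

/-- `(H⁰(U, F_n))~|_U ≅ F_n`. -/
noncomputable def eIso (hF : Formal.IsCohFormal I F) :
    Algz.sectSys A (LocCoh.puncturedOpen A 𝔞) F ⋙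
      Scheme.Modules.restrictFunctor (LocCoh.puncturedOpen A 𝔞).ι ≅ F :=
  haveI : QuasiCompact (LocCoh.puncturedOpen A 𝔞).ι := inferInstance
  sectSysRestrictIso A (LocCoh.puncturedOpen A 𝔞) F (fun j => (hF.1 j.unop).1)

theorem isFT_Φ_N (hF : Formal.IsCohFormal I F) (n : ℕ) :
    CohB1.IsFT ((Φ 𝔞).obj ((NN A 𝔞 F).obj (op n))) :=
  (Groth.Agent.Lib.Helper4.Dev.isCoh_of_iso ((eIso hF).app (op n)).symm (hF.1 n)).2

theorem exists_M0 (hF : Formal.IsCohFormal I F) :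
    ∃ M0 : ∀ n, Submodule A ((NN A 𝔞 F).obj (op n)), (∀ n, (M0 n).FG) ∧
      ∀ (n : ℕ) (y : (NN A 𝔞 F).obj (op n)), ∃ m : ℕ, ∀ a ∈ 𝔞 ^ m, a • y ∈ M0 n := by
  choose M0 h1 h2 using fun n => exists_fg_submodule 𝔞 ((NN A 𝔞 F).obj (op n)) (isFT_Φ_N hF n)
  exact ⟨M0, h1, h2⟩

end Main

section Killed

open Groth.Agent.Lib.Helper17.IAdic

theorem killedBy_of_iso {A : Type u} [CommRing A] {X : Scheme.{u}} [X.Over (Spec (CommRingCat.of A))]
    {J : Ideal A} {T T' : X.Modules} (e : T ≅ T') (h : Formal.KilledBy J T) :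
    Formal.KilledBy J T' := by
  intro a ha
  have h1 := comp_smulMod (A := A) e.inv a
  rw [h a ha, comp_zero] at h1
  rw [← cancel_mono e.inv, zero_comp]
  exact h1.symm

theorem killedBy_Φ {A : Type u} [CommRing A] (𝔞 : Ideal A) {J : Ideal A} (Q : ModuleCat.{u} A)
    (hQ : ∀ c ∈ J, ∀ z : Q, c • z = 0) : Formal.KilledBy J ((Φ 𝔞).obj Q) := by
  letI ovX : (Spec (CommRingCat.of A)).Over (Spec (CommRingCat.of A)) := ⟨𝟙 _⟩
  have h1 : @Formal.KilledBy A _ (Spec (CommRingCat.of A)) ⟨𝟙 _⟩ J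
      ((tilde.functor (CommRingCat.of A)).obj Q) :=
    Groth.Agent.Lib.LeadAdicGamma.killedBy_tilde (R := CommRingCat.of A) Q hQ
  have hf : (LocCoh.puncturedOpen A 𝔞).ι ≫
      ((Spec (CommRingCat.of A)) ↘ (Spec (CommRingCat.of A))) =
      ((LocCoh.puncturedOpen A 𝔞 : Scheme.{u}) ↘ Spec (CommRingCat.of A)) := Category.comp_id _
  have h2 := Groth.Agent.Lib.Helper20.FormalPull.killedBy_pullback (LocCoh.puncturedOpen A 𝔞).ι hf J _ h1
  exact killedBy_of_iso ((Scheme.Modules.restrictFunctorIsoPullback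
    (LocCoh.puncturedOpen A 𝔞).ι).app ((tilde.functor (CommRingCat.of A)).obj Q)).symm h2

end Killed


section Build

open Groth.Agent.Lib.LeadProIso Groth.Agent.Lib.Helper27FormalKer

variable {A : Type u} [CommRing A] [IsNoetherianRing A] {I 𝔞 : Ideal A}
  {F : ℕᵒᵖ ⥤ (LocCoh.puncturedOpen A 𝔞 : Scheme.{u}).Modules} (hF : Formal.IsCohFormal I F)
  (M0 : ∀ n, Submodule A ((NN A 𝔞 F).obj (op n)))
  (h2 : ∀ (n : ℕ) (y : (NN A 𝔞 F).obj (op n)), ∃ m : ℕ, ∀ a ∈ 𝔞 ^ m, a • y ∈ M0 n)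

include h2 in
theorem isIso_Φ_ιM (n : ℕ) : IsIso ((Φ 𝔞).map (ιM (NN A 𝔞 F) M0 n)) := by
  refine isIso_Φ_map_of_tors _ ?_ ?_
  · intro x hx
    refine ⟨0, fun a _ => ?_⟩
    have : x = 0 := Subtype.ext hx
    rw [this, smul_zero]
  · intro y
    obtain ⟨m, hm⟩ := Msub_tors 𝔞 _ M0 h2 n y
    exact ⟨m, fun a ha => ⟨⟨a • y, hm a ha⟩, rfl⟩⟩

/-- `(H⁰(U, F_n))~|_U ≅ F_n`, with the source written through `Φ`. -/
noncomputable def eN (n : ℕ) : (Φ 𝔞).obj ((NN A 𝔞 F).obj (op n)) ≅ F.obj (op n) :=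
  (eIso hF).app (op n)

theorem eN_naturality (n : ℕ) :
    (Φ 𝔞).map (tN (NN A 𝔞 F) n) ≫ (eN hF n).hom =
      (eN hF (n + 1)).hom ≫ F.map (homOfLE (Nat.le_succ n)).op :=
  (eIso hF).hom.naturality (homOfLE (Nat.le_succ n)).op

/-- `F_n ≅ (M_n)~|_U`. -/
noncomputable def αIso (n : ℕ) : F.obj (op n) ≅ (Φ 𝔞).obj (MM (NN A 𝔞 F) M0 n) :=
  haveI := isIso_Φ_ιM M0 h2 n
  (eN hF n).symm ≪≫ (asIso ((Φ 𝔞).map (ιM (NN A 𝔞 F) M0 n))).symm

theorem αIso_hom_ι (n : ℕ) :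
    (αIso hF M0 h2 n).hom ≫ (Φ 𝔞).map (ιM (NN A 𝔞 F) M0 n) = (eN hF n).inv := by
  simp only [αIso, Iso.trans_hom, Iso.symm_hom, asIso_inv, Category.assoc]
  rw [IsIso.inv_hom_id, Category.comp_id]

theorem α_naturality (n : ℕ) :
    F.map (homOfLE (Nat.le_succ n)).op ≫ (αIso hF M0 h2 n).hom =
      (αIso hF M0 h2 (n + 1)).hom ≫ (Φ 𝔞).map (ModuleCat.ofHom (gM (NN A 𝔞 F) M0 n)) := by
  haveI := isIso_Φ_ιM M0 h2 n
  rw [← cancel_mono ((Φ 𝔞).map (ιM (NN A 𝔞 F) M0 n)), Category.assoc, Category.assoc, αIso_hom_ι,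
    ← Functor.map_comp, gM_ι, Functor.map_comp, ← Category.assoc, αIso_hom_ι,
    Iso.eq_inv_comp, ← Category.assoc, Iso.comp_inv_eq]
  exact (eN_naturality hF n).symm

include hF in
theorem killed_MM (n : ℕ) : I ^ (n + 1) • (⊤ : Submodule A (Msub (NN A 𝔞 F) M0 n)) = ⊥ := by
  rw [eq_bot_iff, Submodule.smul_le]
  intro c hc x _
  rw [Submodule.mem_bot]
  exact Subtype.ext (hkillN A I 𝔞 F hF.2.1 n c hc x.1)

theorem Φ_g_eq (n : ℕ) :
    (Φ 𝔞).map (ModuleCat.ofHom (gM (NN A 𝔞 F) M0 n)) =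
      (αIso hF M0 h2 (n + 1)).inv ≫ F.map (homOfLE (Nat.le_succ n)).op ≫ (αIso hF M0 h2 n).hom := by
  rw [α_naturality hF M0 h2 n, Iso.inv_hom_id_assoc]

include hF h2 in
theorem epi_Φ_g (n : ℕ) : Epi ((Φ 𝔞).map (ModuleCat.ofHom (gM (NN A 𝔞 F) M0 n))) := by
  haveI : Epi (F.map (homOfLE (Nat.le_succ n)).op) := epi_tr (hyp_of_isCohFormal hF) n
  rw [Φ_g_eq hF M0 h2 n]
  infer_instance

include hF h2 in
theorem tors_coker_g (n : ℕ) (y : Msub (NN A 𝔞 F) M0 n) :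
    ∃ m : ℕ, ∀ a ∈ 𝔞 ^ m, a • y ∈ LinearMap.range (gM (NN A 𝔞 F) M0 n) := by
  haveI := epi_Φ_g hF M0 h2 n
  exact tors_coker_of_epi (IsNoetherian.noetherian 𝔞) (ModuleCat.ofHom (gM (NN A 𝔞 F) M0 n)) y

include hF h2 in
theorem tors_ker_g (n : ℕ) (x : Msub (NN A 𝔞 F) M0 (n + 1)) (hx : gM (NN A 𝔞 F) M0 n x = 0) :
    ∃ m : ℕ, ∀ a ∈ 𝔞 ^ m,
      a • x ∈ I ^ (n + 1) • (⊤ : Submodule A (Msub (NN A 𝔞 F) M0 (n + 1))) := by
  let J : Submodule A (Msub (NN A 𝔞 F) M0 (n + 1)) :=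
    I ^ (n + 1) • (⊤ : Submodule A (Msub (NN A 𝔞 F) M0 (n + 1)))
  let Q : ModuleCat.{u} A := ModuleCat.of A (Msub (NN A 𝔞 F) M0 (n + 1) ⧸ J)
  let q : MM (NN A 𝔞 F) M0 (n + 1) ⟶ Q := ModuleCat.ofHom J.mkQ
  have hJ : J ≤ LinearMap.ker (gM (NN A 𝔞 F) M0 n) := by
    rw [Submodule.smul_le]
    intro c hc y _
    rw [LinearMap.mem_ker, map_smul]
    exact Subtype.ext (hkillN A I 𝔞 F hF.2.1 n c hc _)
  let g' : Q ⟶ MM (NN A 𝔞 F) M0 n := ModuleCat.ofHom (J.liftQ (gM (NN A 𝔞 F) M0 n) hJ)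
  have hqg : q ≫ g' = ModuleCat.ofHom (gM (NN A 𝔞 F) M0 n) := by
    ext y
    rfl
  have hQkill : ∀ c ∈ I ^ (n + 1), ∀ z : Q, c • z = 0 := by
    intro c hc z
    obtain ⟨y, rfl⟩ := Submodule.Quotient.mk_surjective _ z
    rw [← Submodule.Quotient.mk_smul]
    exact (Submodule.Quotient.mk_eq_zero _).mpr (Submodule.smul_mem_smul hc Submodule.mem_top)
  have hk := killedBy_Φ 𝔞 Q hQkill
  obtain ⟨ψ, hψ⟩ := exists_desc (hyp_of_isCohFormal hF) (Nat.le_succ n) hk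
    ((αIso hF M0 h2 (n + 1)).hom ≫ (Φ 𝔞).map q)
  have hψ' : F.map (homOfLE (Nat.le_succ n)).op ≫ ψ =
      (αIso hF M0 h2 (n + 1)).hom ≫ (Φ 𝔞).map q := hψ
  haveI : Epi q := (ModuleCat.epi_iff_surjective q).mpr (Submodule.mkQ_surjective _)
  haveI : Epi ((Φ 𝔞).map q) := Functor.map_epi (Φ 𝔞) q
  have hsplit : (Φ 𝔞).map g' ≫ ((αIso hF M0 h2 n).inv ≫ ψ) = 𝟙 _ := by
    rw [← cancel_epi ((Φ 𝔞).map q), ← Category.assoc, ← Functor.map_comp, hqg, Category.comp_id,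
      Φ_g_eq hF M0 h2 n, Category.assoc, Category.assoc, Iso.hom_inv_id_assoc, hψ',
      Iso.inv_hom_id_assoc]
  haveI : Mono ((Φ 𝔞).map g') := mono_of_mono_fac hsplit
  obtain ⟨m, hm⟩ := tors_ker_of_mono (IsNoetherian.noetherian 𝔞) g' (J.mkQ x) (by
    change J.liftQ (gM (NN A 𝔞 F) M0 n) hJ (J.mkQ x) = 0
    rw [Submodule.mkQ_apply, Submodule.liftQ_apply]
    exact hx)
  refine ⟨m, fun a ha => ?_⟩
  have := hm a ha
  rw [← map_smul] at this
  exact (Submodule.Quotient.mk_eq_zero _).mp this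

/-- the system `((M_n)~|_U)`. -/
noncomputable abbrev XSys : ℕᵒᵖ ⥤ (LocCoh.puncturedOpen A 𝔞 : Scheme.{u}).Modules :=
  Functor.ofOpSequence
    (X := fun n => (Scheme.Modules.restrictFunctor (LocCoh.puncturedOpen A 𝔞).ι).obj
      (Formal2.tmod A (Msub (NN A 𝔞 F) M0 n)))
    (fun n => (Scheme.Modules.restrictFunctor (LocCoh.puncturedOpen A 𝔞).ι).map
      (Formal2.tmodMap A (gM (NN A 𝔞 F) M0 n)))

/-- the morphism of systems `F ⟶ ((M_n)~|_U)`. -/
noncomputable def sysHom : F ⟶ XSys (A := A) (𝔞 := 𝔞) (F := F) M0 :=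
  NatTrans.ofOpSequence (fun n => (αIso hF M0 h2 n).hom) (fun n => by
    rw [Functor.ofOpSequence_map_homOfLE_succ]
    exact α_naturality hF M0 h2 n)

theorem isIso_sysHom : IsIso (sysHom hF M0 h2) := by
  haveI : ∀ j, IsIso ((sysHom hF M0 h2).app j) := fun j => by
    change IsIso (αIso hF M0 h2 j.unop).hom
    infer_instance
  exact NatIso.isIso_of_isIso_app _

end Build

section Final

variable (A : Type u) [CommRing A] [IsNoetherianRing A] (I 𝔞 : Ideal A)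
  (F : ℕᵒᵖ ⥤ (LocCoh.puncturedOpen A 𝔞 : Scheme.{u}).Modules)

/-- every coherent formal module on `Spec A ∖ V(𝔞)` comes from a system of finite `A`-modules. -/
theorem exists_module_system (hF : Formal.IsCohFormal I F) :
    ∃ (M : ℕ → Type u) (_ : ∀ n, AddCommGroup (M n)) (_ : ∀ n, Module A (M n))
      (g : ∀ n, M (n + 1) →ₗ[A] M n),
      (∀ n, Module.Finite A (M n)) ∧
      (∀ n, I ^ (n + 1) • (⊤ : Submodule A (M n)) = ⊥) ∧
      (∀ n (x : M (n + 1)), g n x = 0 →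
        ∃ m : ℕ, ∀ a ∈ 𝔞 ^ m, a • x ∈ I ^ (n + 1) • (⊤ : Submodule A (M (n + 1)))) ∧
      (∀ n (y : M n), ∃ m : ℕ, ∀ a ∈ 𝔞 ^ m, a • y ∈ LinearMap.range (g n)) ∧
      Nonempty (F ≅ Functor.ofOpSequence
        (X := fun n => (Scheme.Modules.restrictFunctor (LocCoh.puncturedOpen A 𝔞).ι).obj
          (Formal2.tmod A (M n)))
        (fun n => (Scheme.Modules.restrictFunctor (LocCoh.puncturedOpen A 𝔞).ι).map
          (Formal2.tmodMap A (g n)))) := by
  obtain ⟨M0, h1, h2⟩ := exists_M0 hF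
  refine ⟨fun n => Msub (NN A 𝔞 F) M0 n, fun n => inferInstance, fun n => inferInstance,
    fun n => gM (NN A 𝔞 F) M0 n, fun n => ?_, fun n => killed_MM hF M0 n,
    fun n x hx => tors_ker_g hF M0 h2 n x hx, fun n y => tors_coker_g hF M0 h2 n y, ?_⟩
  · exact Module.Finite.iff_fg.mpr (Msub_fg (NN A 𝔞 F) M0 h1 n)
  · haveI := isIso_sysHom hF M0 h2
    exact ⟨asIso (sysHom hF M0 h2)⟩

end Final

end Groth.Agent.Lib.LeadPuncSys
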