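import Mathlib
import Groth.Prelude.Def_QCohCat
import Groth.Prelude.Def_Coh
import Groth.Agent.S0045
import Groth.Agent.S9819
import Groth.Agent.Lib.Helper4DevD
import Groth.Agent.Lib.Helper23FTsub
import Groth.Agent.Lib.Helper20ZClos2
import Groth.Agent.Lib.Helper20StalkExact

/-!
# Noetherian objects of `QCoh(O_Y)` on a Noetherian scheme are the coherent modules (lead)
-/

set_option autoImplicit false
universe u
open CategoryTheory Limits AlgebraicGeometry Opposite

namespace Groth.Agent.Lib.LeadQCohNoeth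

open Groth.Agent.Lib.Helper23.QCohLocal

variable {Y : Scheme.{u}}

/-- a monomorphism of `QCoh(O_Y)` is a monomorphism of `O_Y`-modules. -/
theorem mono_hom {A B : QCohCat.QCoh Y} (f : A ⟶ B) [Mono f] : Mono f.hom := by
  haveI : A.obj.IsQuasicoherent := A.property
  haveI : B.obj.IsQuasicoherent := B.property
  have hK : (kernel f.hom).IsQuasicoherent := isQuasicoherent_kernel f.hom
  let K' : QCohCat.QCoh Y := ⟨kernel f.hom, hK⟩
  let k : K' ⟶ A := ObjectProperty.homMk (kernel.ι f.hom)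
  have hk : k ≫ f = 0 ≫ f := by
    apply ObjectProperty.hom_ext
    rw [ObjectProperty.FullSubcategory.comp_hom, ObjectProperty.FullSubcategory.comp_hom]
    change kernel.ι f.hom ≫ f.hom = (0 : K' ⟶ A).hom ≫ f.hom
    rw [kernel.condition]
    have : (0 : K' ⟶ A).hom = 0 := rfl
    rw [this, zero_comp]
  have hk0 : k = 0 := (cancel_mono f).1 hk
  have hι : kernel.ι f.hom = 0 := by
    have := congrArg (fun t => t.hom) hk0
    exact this
  exact Preadditive.mono_of_kernel_zero hι

/-- the subobject of `M.obj` in `O_Y`-modules underlying a subobject of `M` in `QCoh(O_Y)`. -/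
noncomputable def sub (M : QCohCat.QCoh Y) (S : Subobject M) : Subobject M.obj :=
  haveI := mono_hom S.arrow
  Subobject.mk S.arrow.hom

theorem sub_mono (M : QCohCat.QCoh Y) {S T : Subobject M} (h : S ≤ T) : sub M S ≤ sub M T := by
  haveI := mono_hom S.arrow
  haveI := mono_hom T.arrow
  refine Subobject.mk_le_mk_of_comm (Subobject.ofLE S T h).hom ?_
  rw [← ObjectProperty.FullSubcategory.comp_hom, Subobject.ofLE_arrow]

theorem le_of_sub_le (M : QCohCat.QCoh Y) {S T : Subobject M} (h : sub M S ≤ sub M T) : S ≤ T := by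
  haveI := mono_hom S.arrow
  haveI := mono_hom T.arrow
  have h' : Subobject.mk S.arrow.hom ≤ Subobject.mk T.arrow.hom := h
  let g : (S : QCohCat.QCoh Y).obj ⟶ (T : QCohCat.QCoh Y).obj := Subobject.ofMkLEMk _ _ h'
  have hg : g ≫ T.arrow.hom = S.arrow.hom := Subobject.ofMkLEMk_comp h'
  refine Subobject.le_of_comm (ObjectProperty.homMk g) ?_
  apply ObjectProperty.hom_ext
  rw [ObjectProperty.FullSubcategory.comp_hom]
  exact hg

theorem isQCoh_sub (M : QCohCat.QCoh Y) (S : Subobject M) :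
    Coh.IsQCoh ((sub M S : Subobject M.obj) : Y.Modules) := by
  haveI := mono_hom S.arrow
  have e : ((sub M S : Subobject M.obj) : Y.Modules) ≅ (S : QCohCat.QCoh Y).obj :=
    Subobject.underlyingIso S.arrow.hom
  exact (SheafOfModules.isQuasicoherent Y.ringCatSheaf).prop_of_iso e.symm (S : QCohCat.QCoh Y).property

theorem isNoetherianObject_of_isCoh [IsNoetherian Y] (M : QCohCat.QCoh Y) (hM : Coh.IsCoh M.obj) :
    IsNoetherianObject M := by
  rw [isNoetherianObject_iff_monotone_chain_condition]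
  intro f
  let F : ℕ →o Subobject M.obj := ⟨fun n => sub M (f n), fun a b hab => sub_mono M (f.monotone hab)⟩
  obtain ⟨n, hn⟩ := Groth.Agent.S0045.result Y M.obj hM F (fun n => isQCoh_sub M (f n))
  refine ⟨n, fun m hm => ?_⟩
  have h1 : sub M (f m) = sub M (f n) := hn m hm
  exact le_antisymm (f.monotone hm) (le_of_sub_le M h1.le)

/-- a morphism of `QCoh(O_Y)` whose underlying morphism is a monomorphism is a monomorphism. -/
theorem mono_of_mono_hom {A B : QCohCat.QCoh Y} (f : A ⟶ B) [Mono f.hom] : Mono f :=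
  (QCohCat.isQCoh Y).ι.mono_of_mono_map (inferInstanceAs (Mono f.hom))

theorem exists_ft_subobject [IsNoetherian Y] (M : QCohCat.QCoh Y) :
    ∃ S : Subobject M, SheafOfModules.IsFiniteType (R := Y.ringCatSheaf) (S : QCohCat.QCoh Y).obj := by
  haveI hMq : M.obj.IsQuasicoherent := M.property
  obtain ⟨G, i, hi, hGq, hGf, -⟩ :=
    Groth.Agent.Lib.Helper23.FTsub.exists_ft_sub_list M.obj ⟨⟨⊥, isAffineOpen_bot Y⟩, 0⟩ []
  let Z : QCohCat.QCoh Y := ⟨G, hGq⟩
  let z : Z ⟶ M := ObjectProperty.homMk i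
  haveI : Mono z.hom := hi
  haveI : Mono z := mono_of_mono_hom z
  refine ⟨Subobject.mk z, ?_⟩
  have e : ((Subobject.mk z : Subobject M) : QCohCat.QCoh Y) ≅ Z := Subobject.underlyingIso z
  have e' : Z.obj ≅ ((Subobject.mk z : Subobject M) : QCohCat.QCoh Y).obj :=
    ((QCohCat.isQCoh Y).ι.mapIso e).symm
  haveI : SheafOfModules.IsFiniteType (R := Y.ringCatSheaf) Z.obj := hGf
  exact Groth.Agent.Lib.Helper23.FinType.isFiniteType_of_iso e'

theorem isCoh_of_isNoetherianObject [IsNoetherian Y] (M : QCohCat.QCoh Y) [IsNoetherianObject M] :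
    Coh.IsCoh M.obj := by
  haveI hMq : M.obj.IsQuasicoherent := M.property
  refine ⟨M.property, ?_⟩
  let 𝒮 : Set (Subobject M) :=
    {S | SheafOfModules.IsFiniteType (R := Y.ringCatSheaf) (S : QCohCat.QCoh Y).obj}
  have hne : 𝒮.Nonempty := exists_ft_subobject M
  obtain ⟨S₀, hS₀, hmax⟩ := WellFounded.has_min (wellFounded_gt (α := Subobject M)) 𝒮 hne
  have hS₀' : SheafOfModules.IsFiniteType (R := Y.ringCatSheaf) (S₀ : QCohCat.QCoh Y).obj := hS₀
  haveI hNq : (S₀ : QCohCat.QCoh Y).obj.IsQuasicoherent := (S₀ : QCohCat.QCoh Y).property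
  haveI := mono_hom S₀.arrow
  have hsurj : ∀ V : Y.Opens, IsAffineOpen V → Function.Surjective (S₀.arrow.hom.app V) := by
    intro V hV s
    obtain ⟨G, i, hi, hGq, hGf, hG⟩ :=
      Groth.Agent.Lib.Helper23.FTsub.exists_ft_sub_list M.obj ⟨⟨V, hV⟩, s⟩ []
    obtain ⟨g, hg⟩ := hG ⟨⟨V, hV⟩, s⟩ (List.mem_singleton.2 rfl)
    haveI := hGq
    haveI := hGf
    obtain ⟨C, c, ia, ib, hc, hCq, hCf, hac, hbc⟩ :=
      Groth.Agent.Lib.Helper23.FTsub.exists_sup_sub M.obj (S₀ : QCohCat.QCoh Y).obj G S₀.arrow.hom i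
    let C' : QCohCat.QCoh Y := ⟨C, hCq⟩
    let c' : C' ⟶ M := ObjectProperty.homMk c
    haveI : Mono c'.hom := hc
    haveI : Mono c' := mono_of_mono_hom c'
    let S₁ : Subobject M := Subobject.mk c'
    have h01 : S₀ ≤ S₁ := by
      refine Subobject.le_mk_of_comm (ObjectProperty.homMk ia) ?_
      apply ObjectProperty.hom_ext
      rw [ObjectProperty.FullSubcategory.comp_hom]
      exact hac
    have hS₁ : S₁ ∈ 𝒮 := by
      have e : (S₁ : QCohCat.QCoh Y) ≅ C' := Subobject.underlyingIso c'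
      have e' : C'.obj ≅ (S₁ : QCohCat.QCoh Y).obj := ((QCohCat.isQCoh Y).ι.mapIso e).symm
      haveI : SheafOfModules.IsFiniteType (R := Y.ringCatSheaf) C'.obj := hCf
      exact Groth.Agent.Lib.Helper23.FinType.isFiniteType_of_iso e'
    have h10 : S₁ ≤ S₀ := by
      by_contra hne'
      exact hmax S₁ hS₁ (lt_of_le_of_ne h01 (fun h => hne' h.ge))
    let h : C' ⟶ (S₀ : QCohCat.QCoh Y) := Subobject.ofMkLE c' S₀ h10
    have hh : h ≫ S₀.arrow = c' := Subobject.ofMkLE_arrow h10
    have hh' : h.hom ≫ S₀.arrow.hom = c := by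
      have := congrArg (fun t => t.hom) hh
      exact this
    refine ⟨h.hom.app V (ib.app V g), ?_⟩
    have h1 : S₀.arrow.hom.app V (h.hom.app V (ib.app V g)) = (h.hom ≫ S₀.arrow.hom).app V (ib.app V g) := rfl
    rw [h1, hh']
    have h2 : c.app V (ib.app V g) = (ib ≫ c).app V g := rfl
    rw [h2, hbc]
    exact hg
  haveI : IsIso S₀.arrow.hom :=
    Groth.Agent.Lib.Helper20.ZClosLib.isIso_of_bijective_on_affines S₀.arrow.hom fun V hV =>
      ⟨Groth.Agent.Lib.Helper20.StalkExact.injective_app_of_mono S₀.arrow.hom V, hsurj V hV⟩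
  haveI := hS₀'
  exact Groth.Agent.Lib.Helper23.FinType.isFiniteType_of_iso (asIso S₀.arrow.hom)

end Groth.Agent.Lib.LeadQCohNoeth
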