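import Mathlib
import Groth.Agent.Lib.LeadPrimary2

/-!
# Four-dimensional central division algebras are quaternion algebras (lead's library)
-/

set_option autoImplicit false
universe u v w

namespace Groth.Agent.Lib.LeadQuat

open Groth.Agent.Lib.LeadCSA Groth.Agent.Lib.LeadPRep Groth.Agent.Lib.LeadPrimary Polynomial

section Quat

variable {k : Type u} [Field k] {D : Type v} [DivisionRing D] [Algebra k D]
  [Algebra.IsCentral k D] [FiniteDimensional k D]

/-- a non-central element whose square is central -/
theorem exists_sq_central (h2 : (2 : k) ≠ 0) (hD : Module.finrank k D = 4) :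
    ∃ (i : D) (a : k), i * i = a • (1 : D) ∧ i ∉ (algebraMap k D).range := by
  obtain ⟨L, hcomm, hmax, -⟩ := exists_separable_maximal_comm (k := k) (D := D)
  have hL2 : Module.finrank k L = 2 := by
    have := finrank_eq_sq_of_maximal_comm L hcomm hmax
    rw [hD] at this
    have h4 : (2 : ℕ) ^ 2 = Module.finrank k L ^ 2 := by omega
    exact (Nat.pow_left_injective (n := 2) (by norm_num) h4).symm
  -- an element of `L` outside `k`
  have hex : ∃ x : L, x ∉ (algebraMap k L).range := by
    by_contra hcon
    push Not at hcon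
    have : Module.finrank k L = 1 := by
      rw [← Subalgebra.bot_eq_top_iff_finrank_eq_one]
      apply le_antisymm bot_le
      intro x _
      obtain ⟨c, hc⟩ := hcon x
      exact Algebra.mem_bot.mpr ⟨c, hc⟩
    omega
  obtain ⟨x, hx⟩ := hex
  have hint : IsIntegral k x := Algebra.IsIntegral.isIntegral x
  set p := minpoly k x with hp
  have hmonic : p.Monic := minpoly.monic hint
  have hdeg : p.natDegree = 2 := by
    have h1 : p.natDegree ≤ 2 := hL2 ▸ minpoly.natDegree_le (A := k) x
    have h2' : 2 ≤ p.natDegree := (minpoly.two_le_natDegree_iff hint).2 hx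
    omega
  have hpx : aeval x p = 0 := minpoly.aeval k x
  have hsum : p = X ^ 2 + C (p.coeff 1) * X + C (p.coeff 0) := by
    conv_lhs => rw [p.as_sum_range_C_mul_X_pow, hdeg]
    have hlead : p.coeff 2 = 1 := by
      have := hmonic.coeff_natDegree
      rwa [hdeg] at this
    simp [Finset.sum_range_succ, hlead]
    ring
  rw [hsum] at hpx
  simp only [map_add, map_mul, map_pow, aeval_X, aeval_C] at hpx
  set c1 := p.coeff 1
  set c0 := p.coeff 0
  -- complete the square
  refine ⟨(x : D) + (c1 / 2) • (1 : D), c1 ^ 2 / 4 - c0, ?_, ?_⟩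
  · have hpx' : (x : D) ^ 2 + c1 • (x : D) + c0 • (1 : D) = 0 := by
      have := congrArg (fun z : L => (z : D)) hpx
      simpa [Algebra.smul_def] using this
    have hx2 : (x : D) * (x : D) = -(c1 • (x : D)) - c0 • (1 : D) := by
      have h0 : (x : D) * (x : D) + c1 • (x : D) + c0 • (1 : D) = 0 := by
        rw [← pow_two]; exact hpx'
      calc (x : D) * (x : D)
          = ((x : D) * (x : D) + c1 • (x : D) + c0 • (1 : D)) - c1 • (x : D) - c0 • (1 : D) := by
            abel
        _ = -(c1 • (x : D)) - c0 • (1 : D) := by rw [h0]; abel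
    have h4 : (4 : k) ≠ 0 := by
      have : (4 : k) = 2 * 2 := by norm_num
      rw [this]; exact mul_ne_zero h2 h2
    have h22 : (c1 / 2 + c1 / 2 : k) = c1 := by field_simp; ring
    have h44 : (c1 / 2 * (c1 / 2) : k) = c1 ^ 2 / 4 := by field_simp; ring
    calc ((x : D) + (c1 / 2) • (1 : D)) * ((x : D) + (c1 / 2) • (1 : D))
        = (x : D) * (x : D) + (c1 / 2 + c1 / 2) • (x : D) + (c1 / 2 * (c1 / 2)) • (1 : D) := by
          simp only [add_mul, mul_add, smul_mul_assoc, mul_smul_comm, one_mul, mul_one, smul_smul]
          module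
      _ = (c1 ^ 2 / 4 - c0) • (1 : D) := by
          rw [hx2, h22, h44]; module
  · rintro ⟨c, hc⟩
    apply hx
    refine ⟨c - c1 / 2, ?_⟩
    apply Subtype.ext
    have : (x : D) = algebraMap k D c - (c1 / 2) • (1 : D) := by rw [hc]; abel
    rw [this]
    simp [Algebra.smul_def, sub_eq_add_neg]

/-- a four-dimensional central division algebra over a field in which `2 ≠ 0` is a quaternion
algebra -/
theorem exists_quaternion_equiv (h2 : (2 : k) ≠ 0) (hD : Module.finrank k D = 4) :
    ∃ a b : k, Nonempty (D ≃ₐ[k] QuaternionAlgebra k a 0 b) := by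
  classical
  obtain ⟨i, a, hii, hik⟩ := exists_sq_central (k := k) (D := D) h2 hD
  have hi0 : i ≠ 0 := fun h => hik ⟨0, by rw [h, map_zero]⟩
  have ha : a ≠ 0 := by
    rintro rfl
    rw [zero_smul] at hii
    exact hi0 (mul_self_eq_zero.mp hii)
  -- `i` is not central
  have hy : ∃ y : D, i * y ≠ y * i := by
    by_contra hcon
    push Not at hcon
    have hc : i ∈ Subalgebra.center k D := by
      rw [Subalgebra.mem_center_iff]
      intro y
      exact (hcon y).symm
    obtain ⟨c, hc'⟩ := (Algebra.IsCentral.mem_center_iff (K := k)).mp hc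
    exact hik ⟨c, hc'.symm⟩
  obtain ⟨y, hy⟩ := hy
  set j : D := y - a⁻¹ • (i * y * i) with hj
  have hij1 : i * j = i * y - y * i := by
    rw [hj, mul_sub, mul_smul_comm]
    have : i * (i * y * i) = a • (y * i) := by
      rw [← mul_assoc, ← mul_assoc, hii, smul_mul_assoc, smul_mul_assoc, one_mul]
    rw [this, smul_smul, inv_mul_cancel₀ ha, one_smul]
  have hji1 : j * i = y * i - i * y := by
    rw [hj, sub_mul, smul_mul_assoc]
    have : i * y * i * i = a • (i * y) := by
      rw [mul_assoc, hii, mul_smul_comm, mul_one]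
    rw [this, smul_smul, inv_mul_cancel₀ ha, one_smul]
  have hij : j * i = -(i * j) := by rw [hij1, hji1]; abel
  have hj0 : j ≠ 0 := by
    intro h
    apply hy
    have : i * j = 0 := by rw [h, mul_zero]
    rw [hij1] at this
    exact sub_eq_zero.mp this
  -- independence of `1, i`
  have h1i : ∀ x0 x1 : k, x0 • (1 : D) + x1 • i = 0 → x0 = 0 ∧ x1 = 0 := by
    intro x0 x1 h
    have hx1 : x1 = 0 := by
      by_contra hne
      apply hik
      refine ⟨-(x0 / x1), ?_⟩
      have h' : x1 • i = -(x0 • (1 : D)) := by
        rw [← sub_eq_zero, sub_neg_eq_add, add_comm]; exact h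
      have : i = x1⁻¹ • (x1 • i) := by rw [smul_smul, inv_mul_cancel₀ hne, one_smul]
      rw [this, h', Algebra.algebraMap_eq_smul_one, smul_neg, smul_smul, neg_smul]
      congr 2
      field_simp
    subst hx1
    rw [zero_smul, add_zero] at h
    refine ⟨?_, rfl⟩
    by_contra hne
    have : (1 : D) = 0 := by
      rw [← one_smul k (1 : D), ← inv_mul_cancel₀ hne, ← smul_smul, h, smul_zero]
    exact one_ne_zero this
  -- independence of `1, i, j, ij`
  have hind : ∀ x0 x1 x2 x3 : k,
      x0 • (1 : D) + x1 • i + x2 • j + x3 • (i * j) = 0 → x0 = 0 ∧ x1 = 0 ∧ x2 = 0 ∧ x3 = 0 := by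
    intro x0 x1 x2 x3 h
    set u : D := x0 • (1 : D) + x1 • i with hu
    set v : D := x2 • (1 : D) + x3 • i with hv
    have huv : u + v * j = 0 := by
      rw [hv, add_mul, smul_mul_assoc, one_mul, smul_mul_assoc, ← add_assoc]; exact h
    have hui : i * u * i = a • u := by
      simp only [hu, mul_add, add_mul, mul_smul_comm, smul_mul_assoc, mul_one, hii, one_mul,
        smul_add]
      module
    have hiji : i * j * i = -(a • j) := by
      rw [mul_assoc, hij, mul_neg, ← mul_assoc, hii, smul_mul_assoc, one_mul]
    have hvi : i * (v * j) * i = -(a • (v * j)) := by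
      have hiv : i * v = v * i := by
        rw [hv, mul_add, add_mul, mul_smul_comm, mul_one, smul_mul_assoc, one_mul,
          mul_smul_comm, smul_mul_assoc]
      rw [← mul_assoc, hiv, mul_assoc v i j, mul_assoc v (i * j) i, hiji, mul_neg,
        mul_smul_comm]
    have h3 : a • u - a • (v * j) = 0 := by
      have := congrArg (fun z => i * z * i) huv
      simp only [mul_add, add_mul, mul_zero, zero_mul] at this
      rw [hui, hvi] at this
      rw [sub_eq_add_neg]; exact this
    have h4 : u - v * j = 0 := by
      have : a • (u - v * j) = 0 := by rw [smul_sub]; exact h3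
      rcases smul_eq_zero.mp this with h | h
      · exact absurd h ha
      · exact h
    have hu0 : u = 0 := by
      have h5 : (2 : k) • u = 0 := by
        rw [two_smul]
        calc u + u = (u + v * j) + (u - v * j) := by abel
          _ = 0 := by rw [huv, h4, add_zero]
      rcases smul_eq_zero.mp h5 with h | h
      · exact absurd h h2
      · exact h
    have hv0 : v = 0 := by
      rw [hu0, zero_add] at huv
      rcases mul_eq_zero.mp huv with h | h
      · exact h
      · exact absurd h hj0
    obtain ⟨e0, e1⟩ := h1i x0 x1 hu0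
    obtain ⟨e2, e3⟩ := h1i x2 x3 hv0
    exact ⟨e0, e1, e2, e3⟩
  -- `1, i, j, ij` span `D`
  let bv : Fin 4 → D := ![1, i, j, i * j]
  have hli : LinearIndependent k bv := by
    rw [Fintype.linearIndependent_iff]
    intro g hg
    rw [Fin.sum_univ_four] at hg
    simp only [bv, Matrix.cons_val_zero, Matrix.cons_val_one, Matrix.cons_val] at hg
    obtain ⟨e0, e1, e2, e3⟩ := hind (g 0) (g 1) (g 2) (g 3) hg
    intro t
    fin_cases t <;> assumption
  have hspan : Submodule.span k (Set.range bv) = ⊤ :=
    hli.span_eq_top_of_card_eq_finrank' (by rw [hD]; rfl)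
  -- `j * j` is central
  have hjj_i : (j * j) * i = i * (j * j) := by
    rw [mul_assoc, hij, mul_neg, ← mul_assoc, hij, neg_mul, neg_neg, mul_assoc]
  have hcent : j * j ∈ Subalgebra.center k D := by
    rw [Subalgebra.mem_center_iff]
    intro z
    have hz : z ∈ Submodule.span k (Set.range bv) := hspan ▸ Submodule.mem_top
    induction hz using Submodule.span_induction with
    | mem w hw =>
      obtain ⟨t, rfl⟩ := hw
      fin_cases t
      · simp [bv]
      · simpa [bv] using hjj_i.symm
      · simp [bv, mul_assoc]
      · show i * j * (j * j) = j * j * (i * j)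
        calc i * j * (j * j) = (i * (j * j)) * j := by simp only [mul_assoc]
          _ = ((j * j) * i) * j := by rw [hjj_i]
          _ = j * j * (i * j) := by simp only [mul_assoc]
    | zero => simp
    | add w w' _ _ hw hw' => rw [add_mul, mul_add, hw, hw']
    | smul c w _ hw => rw [smul_mul_assoc, mul_smul_comm, hw]
  obtain ⟨b, hb⟩ := (Algebra.IsCentral.mem_center_iff (K := k)).mp hcent
  let q : QuaternionAlgebra.Basis D a 0 b :=
    { i := i
      j := j
      k := i * j
      i_mul_i := by rw [zero_smul, add_zero]; exact hii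
      j_mul_j := by rw [hb, Algebra.algebraMap_eq_smul_one]
      i_mul_j := rfl
      j_mul_i := by rw [zero_smul, zero_sub]; exact hij }
  have hinj : Function.Injective q.liftHom := by
    rw [injective_iff_map_eq_zero]
    intro x hx
    have hx' : x.re • (1 : D) + x.imI • i + x.imJ • j + x.imK • (i * j) = 0 := by
      have : q.liftHom x = algebraMap k D x.re + x.imI • i + x.imJ • j + x.imK • (i * j) := rfl
      rw [← hx, this, Algebra.algebraMap_eq_smul_one]
    obtain ⟨e0, e1, e2, e3⟩ := hind _ _ _ _ hx'
    exact QuaternionAlgebra.ext e0 e1 e2 e3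
  have hfin : Module.finrank k (QuaternionAlgebra k a 0 b) = Module.finrank k D := by
    rw [hD, QuaternionAlgebra.finrank_eq_four]
  have hsurj : Function.Surjective q.liftHom :=
    (LinearMap.injective_iff_surjective_of_finrank_eq_finrank
      (f := q.liftHom.toLinearMap) hfin).mp hinj
  exact ⟨a, b, ⟨(AlgEquiv.ofBijective q.liftHom ⟨hinj, hsurj⟩).symm⟩⟩

end Quat

end Groth.Agent.Lib.LeadQuat
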