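import Mathlib

/-! # Regular sections, part 1: linear algebra
* base change of linear independence along a field extension;
* the commutant of an endomorphism with `r = dim V` distinct eigenvalues has dimension `≤ r`;
* `dim k[x] = deg minpoly` in a noncommutative ambient algebra. -/

namespace Groth.Agent.Lib.LeadRG

open TensorProduct Polynomial

section BaseChange

variable {k : Type*} [Field k] (F : Type*) [Field F] [Algebra k F]
  {V : Type*} [AddCommGroup V] [Module k V]

/-- linear independence is preserved by extension of scalars along a field extension -/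
theorem linearIndependent_baseChange {ι : Type*} {v : ι → V} (hv : LinearIndependent k v) :
    LinearIndependent F (fun i => (1 : F) ⊗ₜ[k] v i) := by
  classical
  obtain ⟨g, hg⟩ := LinearMap.exists_leftInverse_of_injective
    (Finsupp.linearCombination k v) (LinearMap.ker_eq_bot.mpr hv)
  have hgv : ∀ i, g (v i) = Finsupp.single i 1 := by
    intro i
    have := LinearMap.congr_fun hg (Finsupp.single i 1)
    simpa using this
  let φ : ι → (F ⊗[k] V →ₗ[F] F) := fun i =>
    (TensorProduct.AlgebraTensorModule.rid k F F).toLinearMap ∘ₗ
      (((Finsupp.lapply i : (ι →₀ k) →ₗ[k] k) ∘ₗ g).baseChange F)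
  have hφ : ∀ i j, φ i ((1 : F) ⊗ₜ[k] v j) = if i = j then 1 else 0 := by
    intro i j
    simp only [φ, LinearMap.coe_comp, LinearEquiv.coe_coe, Function.comp_apply,
      LinearMap.baseChange_tmul, hgv, Finsupp.lapply_apply, Finsupp.single_apply,
      TensorProduct.AlgebraTensorModule.rid_tmul]
    split_ifs with h1 h2 h2
    · simp
    · exact absurd h1.symm h2
    · exact absurd h2.symm h1
    · simp
  rw [linearIndependent_iff']
  intro s c hc i hi
  have := congrArg (φ i) hc
  rw [map_sum, map_zero] at this
  simp only [map_smul, hφ, smul_eq_mul, mul_ite, mul_one, mul_zero, Finset.sum_ite_eq, hi,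
    if_true] at this
  exact this

end BaseChange

section Commutant

variable {F : Type*} [Field F] [IsAlgClosed F] {V : Type*} [AddCommGroup V] [Module F V]
  [FiniteDimensional F V]

/-- if `M` is killed by a separable polynomial and its first `r = dim V` powers are independent,
then every space of endomorphisms commuting with `M` has dimension `≤ r` -/
theorem finrank_le_of_commute {r : ℕ} (hV : Module.finrank F V = r) (M : Module.End F V)
    (g : F[X]) (hg : g.Separable) (hgM : aeval M g = 0)
    (hli : LinearIndependent F (fun i : Fin r => M ^ (i : ℕ)))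
    (W : Submodule F (Module.End F V)) (hW : ∀ T ∈ W, T * M = M * T) :
    Module.finrank F W ≤ r := by
  classical
  rcases Nat.eq_zero_or_pos r with hr0 | hrpos
  · have h1 := Submodule.finrank_le W
    rw [Module.finrank_linearMap, hV, hr0] at h1
    rw [hr0]; simpa using h1
  haveI : Nonempty (Fin r) := ⟨⟨0, hrpos⟩⟩
  have hint : IsIntegral F M := Algebra.IsIntegral.isIntegral M
  set p := minpoly F M with hp
  have hpg : p ∣ g := minpoly.dvd F M hgM
  have hpsep : p.Separable := hg.of_dvd hpg
  have hpmonic : p.Monic := minpoly.monic hint
  have hdeg : r ≤ p.natDegree := by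
    by_contra hlt
    push_neg at hlt
    have h0 : aeval M p = 0 := minpoly.aeval F M
    rw [aeval_eq_sum_range' hlt, ← Fin.sum_univ_eq_sum_range (fun i => p.coeff i • M ^ i) r] at h0
    have := Fintype.linearIndependent_iff.mp hli (fun i => p.coeff i) h0 ⟨p.natDegree, hlt⟩
    simp only at this
    rw [coeff_natDegree, hpmonic.leadingCoeff] at this
    exact one_ne_zero this
  have hcard : p.roots.toFinset.card = p.natDegree := by
    rw [Multiset.toFinset_card_of_nodup (nodup_roots hpsep)]
    exact (splits_iff_card_roots.mp (IsAlgClosed.splits p))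
  have hle : Fintype.card (Fin r) ≤ Fintype.card p.roots.toFinset := by
    rw [Fintype.card_fin, Fintype.card_coe, hcard]; exact hdeg
  obtain ⟨emb⟩ := Function.Embedding.nonempty_of_card_le hle
  let lam : Fin r → F := fun i => (emb i : F)
  have hlam_inj : Function.Injective lam := fun i j h => emb.injective (Subtype.ext h)
  have hroot : ∀ i, p.IsRoot (lam i) := by
    intro i
    have := (emb i).2
    rw [Multiset.mem_toFinset] at this
    exact (mem_roots'.mp this).2
  have hev : ∀ i, ∃ v, M.HasEigenvector (lam i) v := fun i =>
    (Module.End.hasEigenvalue_of_isRoot (hroot i)).exists_hasEigenvector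
  choose v hv using hev
  have hvli : LinearIndependent F v :=
    Module.End.eigenvectors_linearIndependent' M lam hlam_inj v hv
  let b : Module.Basis (Fin r) F V := basisOfLinearIndependentOfCardEqFinrank hvli
    (by rw [Fintype.card_fin, hV])
  have hb : ∀ i, b i = v i := fun i => by
    simp [b, coe_basisOfLinearIndependentOfCardEqFinrank]
  have hD : LinearMap.toMatrix b b M = Matrix.diagonal lam := by
    ext i j
    rw [LinearMap.toMatrix_apply, hb, (hv j).apply_eq_smul, ← hb, map_smul, Module.Basis.repr_self,
      Matrix.diagonal_apply, Finsupp.smul_apply, Finsupp.single_apply, smul_eq_mul]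
    by_cases hij : i = j
    · subst hij; simp
    · rw [if_neg hij, if_neg (fun h => hij h.symm), mul_zero]
  have hoff : ∀ T ∈ W, ∀ i j, i ≠ j → LinearMap.toMatrix b b T i j = 0 := by
    intro T hT i j hij
    have h1 := congrArg (LinearMap.toMatrix b b) (hW T hT)
    rw [LinearMap.toMatrix_mul, LinearMap.toMatrix_mul, hD] at h1
    have h2 := congrFun (congrFun h1 i) j
    rw [Matrix.mul_diagonal, Matrix.diagonal_mul] at h2
    have h3 : (lam j - lam i) * LinearMap.toMatrix b b T i j = 0 := by
      rw [sub_mul, sub_eq_zero, mul_comm, h2]
    rcases mul_eq_zero.mp h3 with h | h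
    · exact absurd (hlam_inj (sub_eq_zero.mp h)).symm hij
    · exact h
  let φ : W →ₗ[F] (Fin r → F) :=
    (Matrix.diagLinearMap (Fin r) F F) ∘ₗ (LinearMap.toMatrix b b).toLinearMap ∘ₗ W.subtype
  have hφ : Function.Injective φ := by
    rw [← LinearMap.ker_eq_bot, LinearMap.ker_eq_bot']
    intro T hT
    have hT' : ∀ i, LinearMap.toMatrix b b (T : Module.End F V) i i = 0 := by
      intro i
      have := congrFun hT i
      simpa [φ] using this
    have : LinearMap.toMatrix b b (T : Module.End F V) = 0 := by
      ext i j
      by_cases hij : i = j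
      · subst hij; simpa using hT' i
      · simpa using hoff T T.2 i j hij
    have h0 : (T : Module.End F V) = 0 := by
      apply (LinearMap.toMatrix b b).injective
      rw [this, map_zero]
    exact Subtype.ext h0
  have := LinearMap.finrank_le_finrank_of_injective hφ
  rwa [Module.finrank_fin_fun] at this

end Commutant

section Adjoin

variable {k : Type*} [Field k] {D : Type*} [Ring D] [Algebra k D]

/-- the dimension of `k[x]` is the degree of the minimal polynomial (noncommutative ambient) -/
theorem finrank_adjoin_singleton (x : D) (hint : IsIntegral k x) :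
    Module.finrank k (Algebra.adjoin k ({x} : Set D)) = (minpoly k x).natDegree := by
  let φ : k[X] →ₗ[k] D := (aeval x : k[X] →ₐ[k] D).toLinearMap
  have hrange : LinearMap.range φ = Subalgebra.toSubmodule (Algebra.adjoin k ({x} : Set D)) := by
    rw [Algebra.adjoin_singleton_eq_range_aeval]
    rfl
  have hker : LinearMap.ker φ = (Ideal.span {minpoly k x}).restrictScalars k := by
    ext p
    have := minpoly.ker_aeval_eq_span_minpoly k x
    have h2 : p ∈ RingHom.ker (aeval x : k[X] →ₐ[k] D) ↔ p ∈ Ideal.span {minpoly k x} := by
      rw [this]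
    exact h2
  have e1 : (k[X] ⧸ LinearMap.ker φ) ≃ₗ[k] LinearMap.range φ := φ.quotKerEquivRange
  have e2 : (k[X] ⧸ LinearMap.ker φ) ≃ₗ[k] (k[X] ⧸ Ideal.span {minpoly k x}) :=
    (Submodule.quotEquivOfEq _ _ hker).trans
      (Submodule.Quotient.restrictScalarsEquiv k (Ideal.span {minpoly k x}))
  have h3 : Module.finrank k (Algebra.adjoin k ({x} : Set D)) =
      Module.finrank k (LinearMap.range φ) := by
    rw [hrange]; rfl
  rw [h3, ← e1.finrank_eq, e2.finrank_eq, finrank_quotient_span_eq_natDegree' (minpoly.monic hint)]

end Adjoin

end Groth.Agent.Lib.LeadRG
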