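import Groth.Agent.Lib.LeadRG9
import Groth.Agent.Lib.Helper26FinLocalProd

/-! # Regular sections, part 10: an Azumaya algebra of degree `r` over a local ring is free of
rank `r` over a maximal étale subalgebra, and is split by it. -/

namespace Groth.Agent.Lib.LeadRG

open TensorProduct

universe u

theorem free_over_etale (R : Type u) [CommRing R] [IsLocalRing R] (A : Type u) [Ring A]
    [Algebra R A] [IsAzumaya R A] (r : ℕ) (hA : Module.finrank R A = r ^ 2) (E : Type u)
    [CommRing E] [Algebra R E] [Algebra.Etale R E] [Module.Finite R E] [Module.Free R E]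
    (hE : Module.finrank R E = r) (u : E →ₐ[R] A)
    (hu : Function.Injective (u.toLinearMap.lTensor (IsLocalRing.ResidueField R)))
    [Module E A] (hmod : ∀ (e : E) (a : A), e • a = a * u e) :
    Module.Free E A ∧ Module.finrank E A = r ∧
      Nonempty ((E ⊗[R] A) ≃ₐ[E] Module.End E A) := by
  classical
  haveI : IsScalarTower R E A := ⟨fun s e a => by
    rw [hmod, hmod, map_smul, mul_smul_comm]⟩
  haveI : SMulCommClass E R A := ⟨fun e s a => by rw [hmod, hmod, smul_mul_assoc]⟩
  obtain ⟨Φ⟩ := nonempty_algEquiv_end R A E u hmod r hA hE hu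
  haveI : Module.Free R A := Module.free_of_flat_of_isLocalRing
  haveI : Nontrivial A := (FaithfulSMul.algebraMap_injective R A).nontrivial
  have hrpos : 0 < r := by
    have h1 : 0 < Module.finrank R A := (Module.finrank_pos_iff_of_free R A).mpr inferInstance
    rw [hA] at h1
    exact Nat.pos_of_ne_zero (fun h => by simp [h] at h1)
  haveI : Nontrivial E := (Module.finrank_pos_iff_of_free R E).mp (by rw [hE]; exact hrpos)
  haveI : Module.Projective E A :=
    Algebra.FormallyUnramified.projective_of_restrictScalars R E A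
  haveI : Module.Finite E A := Module.Finite.of_restrictScalars_finite R E A
  haveI : Finite (MaximalSpectrum E) :=
    Finite.of_injective _ (Helper26.FinLocalProd.barMax_injective R E)
  have hrk : ∀ P : MaximalSpectrum E,
      Module.finrank (E ⧸ P.1) ((E ⧸ P.1) ⊗[E] A) = r := by
    intro P
    haveI := P.isMaximal
    letI : Field (E ⧸ P.1) := Ideal.Quotient.field P.1
    have h1 : Module.finrank (E ⧸ P.1) ((E ⧸ P.1) ⊗[E] (E ⊗[R] A)) = r ^ 2 := by
      rw [(TensorProduct.AlgebraTensorModule.cancelBaseChange R E (E ⧸ P.1) (E ⧸ P.1)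
        A).finrank_eq, Module.finrank_baseChange, hA]
    have h2 : Module.finrank (E ⧸ P.1) ((E ⧸ P.1) ⊗[E] Module.End E A) =
        (Module.finrank (E ⧸ P.1) ((E ⧸ P.1) ⊗[E] A)) ^ 2 := by
      rw [(LinearEquiv.ofBijective _
        (LeadAzumaya.tensorProductEnd_bijective (E ⧸ P.1) A)).finrank_eq,
        Module.finrank_linearMap, sq]
    have h3 : Module.finrank (E ⧸ P.1) ((E ⧸ P.1) ⊗[E] (E ⊗[R] A)) =
        Module.finrank (E ⧸ P.1) ((E ⧸ P.1) ⊗[E] Module.End E A) :=
      (TensorProduct.AlgebraTensorModule.congr (LinearEquiv.refl (E ⧸ P.1) (E ⧸ P.1))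
        Φ.toLinearEquiv).finrank_eq
    rw [h1, h2] at h3
    exact (Nat.pow_left_injective two_ne_zero h3).symm
  obtain ⟨b⟩ := Module.nonempty_basis_of_flat_of_finrank_eq E A r hrk
  refine ⟨Module.Free.of_basis b, ?_, ⟨Φ⟩⟩
  rw [Module.finrank_eq_card_basis b, Fintype.card_fin]

end Groth.Agent.Lib.LeadRG
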