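import Mathlib

/-! # Linear combinations and base change; spreading out bijectivity -/

namespace Groth.Agent.Lib.LeadRG

open TensorProduct

section LC

variable {R : Type*} [CommRing R] (B : Type*) [CommRing B] [Algebra R B] {N : Type*}
  [AddCommGroup N] [Module R N] {ι : Type*} [Fintype ι] [DecidableEq ι] (v : ι → N)

theorem baseChange_comp_piScalarRight_symm :
    ((Fintype.linearCombination R v).baseChange B) ∘ₗ
      ((TensorProduct.piScalarRight R B B ι).symm : (ι → B) →ₗ[B] B ⊗[R] (ι → R)) =
    Fintype.linearCombination B (fun i => (1 : B) ⊗ₜ[R] v i) := by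
  apply LinearMap.pi_ext'
  intro i
  ext
  simp only [LinearMap.coe_comp, LinearMap.coe_single, Function.comp_apply, LinearEquiv.coe_coe,
    TensorProduct.piScalarRight_symm_single, LinearMap.baseChange_tmul,
    Fintype.linearCombination_apply_single, one_smul]

theorem lTensor_bijective_iff :
    Function.Bijective ((Fintype.linearCombination R v).lTensor B) ↔
      Function.Bijective (Fintype.linearCombination B (fun i => (1 : B) ⊗ₜ[R] v i)) := by
  rw [← baseChange_comp_piScalarRight_symm, ← LinearMap.baseChange_eq_ltensor, LinearMap.coe_comp,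
    LinearEquiv.coe_coe, Function.Bijective.of_comp_iff _ (LinearEquiv.bijective _)]

theorem lTensor_bijective_of_basis (bas : Module.Basis ι B (B ⊗[R] N))
    (h : ∀ i, bas i = (1 : B) ⊗ₜ[R] v i) :
    Function.Bijective ((Fintype.linearCombination R v).lTensor B) := by
  rw [lTensor_bijective_iff]
  have : ∀ f, Fintype.linearCombination B (fun i => (1 : B) ⊗ₜ[R] v i) f = bas.equivFun.symm f := by
    intro f
    rw [Module.Basis.equivFun_symm_apply, Fintype.linearCombination_apply]
    exact Finset.sum_congr rfl (fun i _ => by rw [h])
  have h2 : ⇑(Fintype.linearCombination B (fun i => (1 : B) ⊗ₜ[R] v i)) = ⇑bas.equivFun.symm :=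
    funext this
  rw [h2]
  exact bas.equivFun.symm.bijective

theorem exists_basis_of_lTensor_bijective
    (h : Function.Bijective ((Fintype.linearCombination R v).lTensor B)) :
    ∃ bas : Module.Basis ι B (B ⊗[R] N), ∀ i, bas i = (1 : B) ⊗ₜ[R] v i := by
  rw [lTensor_bijective_iff] at h
  refine ⟨Module.Basis.ofEquivFun (LinearEquiv.ofBijective _ h).symm, fun i => ?_⟩
  rw [Module.Basis.coe_ofEquivFun, LinearEquiv.symm_symm]
  show (LinearEquiv.ofBijective (Fintype.linearCombination B fun i => (1 : B) ⊗ₜ[R] v i) h)
    (Pi.single i 1) = _
  rw [LinearEquiv.ofBijective_apply, Fintype.linearCombination_apply_single, one_smul]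

end LC

section Spread

variable {R : Type*} [CommRing R] {M N : Type*} [AddCommGroup M] [Module R M]
  [AddCommGroup N] [Module R N]

theorem lTensor_comp_equivTensorProduct (S : Submonoid R) (l : M →ₗ[R] N)
    (z : LocalizedModule S M) :
    (l.lTensor (Localization S)) (LocalizedModule.equivTensorProduct S M z) =
      LocalizedModule.equivTensorProduct S N (LocalizedModule.map S l z) := by
  induction z using LocalizedModule.induction_on with
  | h m s =>
    rw [LocalizedModule.map_mk, LocalizedModule.equivTensorProduct_apply_mk,
      LocalizedModule.equivTensorProduct_apply_mk, LinearMap.lTensor_tmul]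

theorem lTensor_localization_bijective_iff (S : Submonoid R) (l : M →ₗ[R] N) :
    Function.Bijective (l.lTensor (Localization S)) ↔
      Function.Bijective (LocalizedModule.map S l) := by
  have h : ⇑(l.lTensor (Localization S)) ∘ ⇑(LocalizedModule.equivTensorProduct S M) =
      ⇑(LocalizedModule.equivTensorProduct S N) ∘ ⇑(LocalizedModule.map S l) :=
    funext (fun z => lTensor_comp_equivTensorProduct S l z)
  rw [← Function.Bijective.of_comp_iff _ (LocalizedModule.equivTensorProduct S M).bijective, h,
    Function.Bijective.of_comp_iff' (LocalizedModule.equivTensorProduct S N).bijective]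

theorem exists_away_lTensor_bijective (p : Ideal R) [p.IsPrime] [Module.Finite R M]
    [Module.FinitePresentation R N] (l : M →ₗ[R] N)
    (h : Function.Bijective (l.lTensor (Localization.AtPrime p))) :
    ∃ g : R, g ∉ p ∧ ∀ t : R, g ∣ t → Function.Bijective (l.lTensor (Localization.Away t)) := by
  have h' : Function.Bijective (LocalizedModule.map p.primeCompl l) :=
    (lTensor_localization_bijective_iff p.primeCompl l).mp h
  obtain ⟨g, hg, H⟩ := exists_bijective_map_powers p.primeCompl
    (LocalizedModule.mkLinearMap p.primeCompl M) (LocalizedModule.mkLinearMap p.primeCompl N) l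
    (by
      have : IsLocalizedModule.map p.primeCompl (LocalizedModule.mkLinearMap p.primeCompl M)
          (LocalizedModule.mkLinearMap p.primeCompl N) l =
          (LocalizedModule.map p.primeCompl l).restrictScalars R := rfl
      rw [this]
      exact h')
  exact ⟨g, hg, fun t ht => (lTensor_localization_bijective_iff (.powers t) l).mpr (H t ht)⟩

end Spread

end Groth.Agent.Lib.LeadRG
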