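import Groth.Agent.Lib.LeadRG6

/-! # Regular sections, part 13: explicit polynomial version of the maximal étale subalgebra,
and invariance under scaling by units. -/

namespace Groth.Agent.Lib.LeadRG

open TensorProduct Polynomial Groth.Agent.Lib.LeadCSA Groth.Agent.Lib.LeadAzumaya

universe u

theorem adjoin_singleton_smul {K B : Type*} [Field K] [Ring B] [Algebra K B] (c : K) (hc : c ≠ 0)
    (x : B) : Algebra.adjoin K ({c • x} : Set B) = Algebra.adjoin K ({x} : Set B) := by
  apply le_antisymm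
  · apply Algebra.adjoin_le
    rw [Set.singleton_subset_iff]
    exact Subalgebra.smul_mem _ (Algebra.subset_adjoin (Set.mem_singleton x)) c
  · apply Algebra.adjoin_le
    rw [Set.singleton_subset_iff]
    have h : c⁻¹ • (c • x) = x := by rw [smul_smul, inv_mul_cancel₀ hc, one_smul]
    have h2 := Subalgebra.smul_mem (Algebra.adjoin K ({c • x} : Set B))
      (Algebra.subset_adjoin (Set.mem_singleton (c • x))) c⁻¹
    rw [h] at h2
    exact h2

section Local

variable (R : Type u) [CommRing R] [IsLocalRing R] (A : Type u) [Ring A] [Algebra R A]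
  [IsAzumaya R A]

local notation "κ" => IsLocalRing.ResidueField R

theorem tmul_unit_smul (s : R) (ξ : A) :
    (1 : κ) ⊗ₜ[R] (s • ξ) = (IsLocalRing.residue R s) • ((1 : κ) ⊗ₜ[R] ξ) := by
  rw [TensorProduct.tmul_smul, ← algebraMap_smul κ s ((1 : κ) ⊗ₜ[R] ξ)]
  rfl

theorem adjoin_tmul_unit_smul (s : R) (hs : IsUnit s) (ξ : A) :
    Algebra.adjoin κ ({(1 : κ) ⊗ₜ[R] (s • ξ)} : Set (κ ⊗[R] A)) =
      Algebra.adjoin κ ({(1 : κ) ⊗ₜ[R] ξ} : Set (κ ⊗[R] A)) := by
  rw [tmul_unit_smul]
  exact adjoin_singleton_smul _ ((IsLocalRing.residue_ne_zero_iff_isUnit s).mpr hs) _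

theorem separable_and_injective_of_root (r : ℕ) (ξ : A)
    (hsep : Algebra.IsSeparable κ (Algebra.adjoin κ ({(1 : κ) ⊗ₜ[R] ξ} : Set (κ ⊗[R] A))))
    (hrk : Module.finrank κ (Algebra.adjoin κ ({(1 : κ) ⊗ₜ[R] ξ} : Set (κ ⊗[R] A))) = r)
    (G : R[X]) (hGmonic : G.Monic) (hGdeg : G.natDegree = r) (hGξ : aeval ξ G = 0) :
    G.Separable ∧ ∀ u : AdjoinRoot G →ₐ[R] A, u (AdjoinRoot.root G) = ξ →
      Function.Injective (u.toLinearMap.lTensor κ) := by
  classical
  haveI : Module.Free R A := Module.free_of_flat_of_isLocalRing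
  haveI : Nontrivial A := (FaithfulSMul.algebraMap_injective R A).nontrivial
  obtain ⟨hcen, hsimp⟩ := (isAzumaya_iff_residueField R (A := A)).mp inferInstance
  haveI := hcen
  haveI := hsimp
  set x : κ ⊗[R] A := (1 : κ) ⊗ₜ[R] ξ with hx
  have hint : IsIntegral κ x := Algebra.IsIntegral.isIntegral x
  have hxdeg : (minpoly κ x).natDegree = r := by
    rw [← finrank_adjoin_singleton x hint, hrk]
  have hxsep : (minpoly κ x).Separable := by
    have h1 := Algebra.IsSeparable.isSeparable κ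
      (⟨x, Algebra.subset_adjoin (Set.mem_singleton x)⟩ : Algebra.adjoin κ ({x} : Set (κ ⊗[R] A)))
    have h2 := minpoly.algHom_eq (Algebra.adjoin κ ({x} : Set (κ ⊗[R] A))).val
      Subtype.val_injective
      (⟨x, Algebra.subset_adjoin (Set.mem_singleton x)⟩ : Algebra.adjoin κ ({x} : Set (κ ⊗[R] A)))
    rw [IsSeparable, ← h2] at h1
    exact h1
  have hGx : aeval x (G.map (IsLocalRing.residue R)) = 0 := by
    have h1 : G.map (IsLocalRing.residue R) = G.map (algebraMap R κ) := rfl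
    rw [h1, aeval_map_algebraMap]
    have h2 : x = (Algebra.TensorProduct.includeRight : A →ₐ[R] κ ⊗[R] A) ξ := rfl
    rw [h2, aeval_algHom_apply, hGξ, map_zero]
  have hGmap : G.map (IsLocalRing.residue R) = minpoly κ x := by
    have hm : (G.map (IsLocalRing.residue R)).Monic := hGmonic.map _
    apply eq_of_monic_of_dvd_of_natDegree_le (minpoly.monic hint) hm (minpoly.dvd κ x hGx)
    rw [hGmonic.natDegree_map, hGdeg, hxdeg]
  have hGsep : G.Separable := by
    apply Groth.Agent.Lib.Helper18Monogenic.separable_of_map_residue hGmonic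
    rw [hGmap]
    exact hxsep
  refine ⟨hGsep, ?_⟩
  intro u hu_root
  let pb := AdjoinRoot.powerBasis' hGmonic
  let bκ : Module.Basis (Fin pb.dim) κ (κ ⊗[R] AdjoinRoot G) := Algebra.TensorProduct.basis κ pb.basis
  have hbκ : ∀ i, bκ i = (1 : κ) ⊗ₜ[R] ((AdjoinRoot.root G) ^ (i : ℕ)) := by
    intro i
    simp only [bκ, Algebra.TensorProduct.basis_apply, pb.basis_eq_pow]
    simp only [pb, AdjoinRoot.powerBasis'_gen]
  let F : (κ ⊗[R] AdjoinRoot G) →ₗ[κ] (κ ⊗[R] A) := u.toLinearMap.baseChange κ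
  have hF : ∀ z, F z = u.toLinearMap.lTensor κ z := by
    intro z
    rfl
  have hFb : ∀ i, F (bκ i) = x ^ (i : ℕ) := by
    intro i
    rw [hbκ]
    show (u.toLinearMap.baseChange κ) ((1 : κ) ⊗ₜ[R] ((AdjoinRoot.root G) ^ (i : ℕ))) = _
    rw [LinearMap.baseChange_tmul, AlgHom.toLinearMap_apply, map_pow, hu_root, hx,
      Algebra.TensorProduct.tmul_pow, one_pow]
  have hlix : LinearIndependent κ (fun i : Fin pb.dim => x ^ (i : ℕ)) := by
    apply linearIndependent_pow_of_natDegree
    rw [AdjoinRoot.powerBasis'_dim, hGdeg, hxdeg]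
  intro z w hzw
  rw [← hF, ← hF] at hzw
  have hsub : F (z - w) = 0 := by rw [map_sub, hzw, sub_self]
  have hrepr : z - w = ∑ i, bκ.repr (z - w) i • bκ i := (bκ.sum_repr (z - w)).symm
  rw [hrepr, map_sum] at hsub
  simp only [map_smul, hFb] at hsub
  have hzero := Fintype.linearIndependent_iff.mp hlix (fun i => bκ.repr (z - w) i) hsub
  have : z - w = 0 := by
    rw [hrepr]
    apply Finset.sum_eq_zero
    intro i _
    have := hzero i
    rw [this, zero_smul]
  exact sub_eq_zero.mp this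

/-- `ξ` is a regular section: its image on the special fibre generates a separable subalgebra of
rank `r`. -/
def IsRegularSection (r : ℕ) (ξ : A) : Prop :=
  Algebra.IsSeparable κ (Algebra.adjoin κ ({(1 : κ) ⊗ₜ[R] ξ} : Set (κ ⊗[R] A))) ∧
    Module.finrank κ (Algebra.adjoin κ ({(1 : κ) ⊗ₜ[R] ξ} : Set (κ ⊗[R] A))) = r

variable {R A}

theorem IsRegularSection.unit_smul {r : ℕ} {ξ : A} (h : IsRegularSection R A r ξ) {s : R}
    (hs : IsUnit s) : IsRegularSection R A r (s • ξ) := by
  unfold IsRegularSection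
  rw [adjoin_tmul_unit_smul R A s hs ξ]
  exact h

theorem IsRegularSection.powers {r : ℕ} {ξ : A} (h : IsRegularSection R A r ξ)
    (hA : Module.finrank R A = r ^ 2) :
    LinearIndependent R (fun i : Fin r => ξ ^ (i : ℕ)) ∧
      ξ ^ r ∈ Submodule.span R (Set.range (fun i : Fin r => ξ ^ (i : ℕ))) :=
  regular_section_powers_basis R A r hA ξ h.1 h.2

theorem IsRegularSection.separable_and_injective {r : ℕ} {ξ : A} (h : IsRegularSection R A r ξ)
    (G : R[X]) (hGmonic : G.Monic) (hGdeg : G.natDegree = r) (hGξ : aeval ξ G = 0) :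
    G.Separable ∧ ∀ u : AdjoinRoot G →ₐ[R] A, u (AdjoinRoot.root G) = ξ →
      Function.Injective (u.toLinearMap.lTensor κ) :=
  separable_and_injective_of_root R A r ξ h.1 h.2 G hGmonic hGdeg hGξ

variable (R A)

theorem exists_rank_and_regular :
    ∃ r : ℕ, 1 ≤ r ∧ Module.finrank R A = r ^ 2 ∧ ∃ ξ : A, IsRegularSection R A r ξ := by
  classical
  haveI : Module.Free R A := Module.free_of_flat_of_isLocalRing
  haveI : Nontrivial A := (FaithfulSMul.algebraMap_injective R A).nontrivial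
  obtain ⟨hcen, hsimp⟩ := (isAzumaya_iff_residueField R (A := A)).mp inferInstance
  haveI := hcen
  haveI := hsimp
  obtain ⟨r, hr0, hr⟩ := exists_finrank_eq_sq (k := κ) (A := κ ⊗[R] A)
  have hA : Module.finrank R A = r ^ 2 := by
    rw [← hr, Module.finrank_baseChange]
  refine ⟨r, Nat.one_le_iff_ne_zero.mpr hr0, hA, ?_⟩
  obtain ⟨x, hxsep, hxdeg⟩ := exists_minpoly_separable_natDegree κ (κ ⊗[R] A) r hr
  have hsurj : Function.Surjective (TensorProduct.mk R κ A 1) :=
    TensorProduct.mk_surjective R A κ Ideal.Quotient.mk_surjective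
  obtain ⟨ξ₀, hξ₀⟩ := hsurj x
  rw [TensorProduct.mk_apply] at hξ₀
  subst hξ₀
  have hint : IsIntegral κ ((1 : κ) ⊗ₜ[R] ξ₀) := Algebra.IsIntegral.isIntegral _
  exact ⟨ξ₀, isSeparable_adjoin_singleton _ hint hxsep, by
    rw [finrank_adjoin_singleton _ hint, hxdeg]⟩

end Local

end Groth.Agent.Lib.LeadRG
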