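import Groth.Agent.Lib.LeadRG13
import Groth.Agent.Lib.LeadRG12
import Groth.Agent.Lib.LeadRG10
import Groth.Agent.Lib.LeadSpread

/-! # Regular sections, part 14: data at the localization `R_p` defined over `R`. -/

namespace Groth.Agent.Lib.LeadRG

open TensorProduct Polynomial Groth.Agent.Lib.LeadCSA Groth.Agent.Lib.LeadAzumaya

universe u

section

variable (R : Type u) [CommRing R] (A : Type u) [Ring A] [Algebra R A] [IsAzumaya R A]
  (p : Ideal R) [p.IsPrime]

local notation "Rp" => Localization.AtPrime p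
local notation "Ap" => Localization.AtPrime p ⊗[R] A

theorem exists_regular_global :
    ∃ r : ℕ, 1 ≤ r ∧ Module.finrank Rp Ap = r ^ 2 ∧ ∃ ξ : A,
      IsRegularSection Rp Ap r ((1 : Rp) ⊗ₜ[R] ξ) := by
  classical
  haveI : IsAzumaya Rp Ap := isAzumaya_baseChange Rp A
  obtain ⟨r, hr1, hA, ξ₀, hξ₀⟩ := exists_rank_and_regular Rp Ap
  refine ⟨r, hr1, hA, ?_⟩
  obtain ⟨s, hs, ξ, hsξ⟩ := Groth.Agent.Lib.LeadSpread.exists_smul_eq_tmul p A ξ₀
  have hunit : IsUnit (algebraMap R Rp s) := IsLocalization.map_units Rp (⟨s, hs⟩ : p.primeCompl)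
  have h1 : (1 : Rp) ⊗ₜ[R] ξ = (algebraMap R Rp s) • ξ₀ := by rw [← hsξ, algebraMap_smul]
  refine ⟨ξ, ?_⟩
  rw [h1]
  exact hξ₀.unit_smul hunit

theorem exists_regular_poly_global :
    ∃ r : ℕ, 1 ≤ r ∧ Module.finrank Rp Ap = r ^ 2 ∧ ∃ (ξ : A) (G : R[X]),
      IsRegularSection Rp Ap r ((1 : Rp) ⊗ₜ[R] ξ) ∧
      G.Monic ∧ G.natDegree = r ∧
      aeval ((1 : Rp) ⊗ₜ[R] ξ) (G.map (algebraMap R Rp)) = 0 := by
  classical
  haveI : IsAzumaya Rp Ap := isAzumaya_baseChange Rp A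
  haveI : Nontrivial R := (algebraMap R Rp).domain_nontrivial
  obtain ⟨r, hr1, hA, ξ₁, hreg⟩ := exists_regular_global R A p
  refine ⟨r, hr1, hA, ?_⟩
  obtain ⟨-, hmem⟩ := hreg.powers hA
  obtain ⟨c, hc⟩ := (Submodule.mem_span_range_iff_exists_fun Rp).mp hmem
  obtain ⟨t, ht⟩ := IsLocalization.exist_integer_multiples_of_finite p.primeCompl c
  choose a ha using ht
  set τ : Rp := algebraMap R Rp (t : R) with hτ
  have hunit : IsUnit τ := IsLocalization.map_units Rp t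
  set y : Ap := (1 : Rp) ⊗ₜ[R] ξ₁ with hy
  have h1 : (1 : Rp) ⊗ₜ[R] ((t : R) • ξ₁) = τ • y := by
    rw [TensorProduct.tmul_smul, hτ, algebraMap_smul]
  set P : R[X] := ∑ i : Fin r, C ((t : R) ^ (r - 1 - (i : ℕ)) * a i) * X ^ (i : ℕ) with hP
  have hPdeg : P.degree < r := degree_sum_fin_lt _
  set G : R[X] := X ^ r - P with hG
  have hGmonic : G.Monic := monic_X_pow_sub hPdeg
  have hGdeg : G.natDegree = r := by
    have h1 : G.degree = (r : WithBot ℕ) := by
      rw [hG, degree_sub_eq_left_of_degree_lt (by rw [degree_X_pow]; exact hPdeg), degree_X_pow]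
    exact natDegree_eq_of_degree_eq_some h1
  refine ⟨(t : R) • ξ₁, G, ?_, hGmonic, hGdeg, ?_⟩
  · rw [h1]; exact hreg.unit_smul hunit
  · rw [h1, aeval_map_algebraMap]
    have key : ∀ i : Fin r,
        (algebraMap R Rp ((t : R) ^ (r - 1 - (i : ℕ)) * a i)) • (τ • y) ^ (i : ℕ) =
        τ ^ r • (c i • y ^ (i : ℕ)) := by
      intro i
      have hai : algebraMap R Rp (a i) = τ * c i := by
        rw [ha i, Algebra.smul_def]
      have e : τ ^ r = τ ^ (r - 1 - (i : ℕ)) * τ * τ ^ (i : ℕ) := by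
        rw [← pow_succ, ← pow_add]
        congr 1
        have := i.2
        omega
      rw [map_mul, map_pow, hai, _root_.smul_pow, smul_smul, smul_smul, e]
      congr 1
      ring
    rw [hG, map_sub, map_pow, aeval_X, hP, map_sum, sub_eq_zero]
    have hterm : ∀ i : Fin r,
        aeval (τ • y) (C ((t : R) ^ (r - 1 - (i : ℕ)) * a i) * X ^ (i : ℕ)) =
        τ ^ r • (c i • y ^ (i : ℕ)) := by
      intro i
      rw [map_mul, aeval_C, map_pow, aeval_X, ← Algebra.smul_def, ← algebraMap_smul Rp, key i]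
    rw [Finset.sum_congr rfl (fun i _ => hterm i), ← Finset.smul_sum, hc, _root_.smul_pow]

theorem exists_basis_global (r : ℕ) (hr1 : 1 ≤ r) (hA : Module.finrank Rp Ap = r ^ 2) (ξ : A)
    (G : R[X]) (hreg : IsRegularSection Rp Ap r ((1 : Rp) ⊗ₜ[R] ξ))
    (hGmonic : G.Monic) (hGdeg : G.natDegree = r)
    (hGξ : aeval ((1 : Rp) ⊗ₜ[R] ξ) (G.map (algebraMap R Rp)) = 0) :
    (G.map (algebraMap R Rp)).Separable ∧ ∃ b : Fin r → A,
      Function.Bijective ((Fintype.linearCombination R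
        (fun ij : Fin r × Fin r => b ij.2 * ξ ^ (ij.1 : ℕ))).lTensor Rp) := by
  classical
  haveI : IsAzumaya Rp Ap := isAzumaya_baseChange Rp A
  set y : Ap := (1 : Rp) ⊗ₜ[R] ξ with hy
  set Gp : Rp[X] := G.map (algebraMap R Rp) with hGp
  have hGpmonic : Gp.Monic := hGmonic.map _
  have hGpdeg : Gp.natDegree = r := by rw [hGp, hGmonic.natDegree_map, hGdeg]
  obtain ⟨hGpsep, huinj⟩ := hreg.separable_and_injective Gp hGpmonic hGpdeg hGξ
  refine ⟨hGpsep, ?_⟩
  let pb := AdjoinRoot.powerBasis' hGpmonic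
  haveI : Module.Free Rp (AdjoinRoot Gp) := hGpmonic.free_adjoinRoot
  haveI : Module.Finite Rp (AdjoinRoot Gp) := hGpmonic.finite_adjoinRoot
  have hdim : pb.dim = r := by rw [AdjoinRoot.powerBasis'_dim, hGpdeg]
  have hrank : Module.finrank Rp (AdjoinRoot Gp) = r := by rw [pb.finrank, hdim]
  haveI : Nontrivial (AdjoinRoot Gp) :=
    (Module.finrank_pos_iff_of_free Rp (AdjoinRoot Gp)).mp (by rw [hrank]; exact hr1)
  haveI hetale : Algebra.Etale Rp (AdjoinRoot Gp) :=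
    Algebra.Etale.of_equiv (Groth.Agent.Lib.Helper18Monogenic.sepEquiv Gp hGpmonic hGpsep)
  let u : AdjoinRoot Gp →ₐ[Rp] Ap :=
    Ideal.Quotient.liftₐ (Ideal.span {Gp}) (aeval y) (by
      intro a ha
      obtain ⟨w, rfl⟩ := Ideal.mem_span_singleton.mp ha
      rw [map_mul, hGξ, zero_mul])
  have hu_root : u (AdjoinRoot.root Gp) = y := by
    show (aeval y) (X : Rp[X]) = y
    exact aeval_X y
  letI modE : Module (AdjoinRoot Gp) Ap := Module.compHom Ap
    ((u : AdjoinRoot Gp →+* Ap).toOpposite (fun a b => (Commute.all a b).map u))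
  have hmod : ∀ (e : AdjoinRoot Gp) (a : Ap), e • a = a * u e := fun e a => rfl
  obtain ⟨hfree, hfr, -⟩ :=
    free_over_etale Rp Ap r hA (AdjoinRoot Gp) hrank u (huinj u hu_root) hmod
  haveI := hfree
  haveI : IsScalarTower Rp (AdjoinRoot Gp) Ap := ⟨fun s e a => by
    rw [hmod, hmod, map_smul, mul_smul_comm]⟩
  haveI : Module.Finite (AdjoinRoot Gp) Ap := Module.Finite.of_restrictScalars_finite Rp _ _
  let b' : Module.Basis (Fin r) (AdjoinRoot Gp) Ap := Module.finBasisOfFinrankEq _ _ hfr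
  choose s hs b hb using fun j => Groth.Agent.Lib.LeadSpread.exists_smul_eq_tmul p A (b' j)
  let bE : Module.Basis (Fin r) Rp (AdjoinRoot Gp) := pb.basis.reindex (finCongr hdim)
  have hbE : ∀ i : Fin r, bE i = (AdjoinRoot.root Gp) ^ (i : ℕ) := by
    intro i
    simp only [bE, Module.Basis.reindex_apply, pb.basis_eq_pow]
    simp only [pb, AdjoinRoot.powerBasis'_gen, finCongr_symm, finCongr_apply, Fin.val_cast]
  let 𝔅₀ : Module.Basis (Fin r × Fin r) Rp Ap := bE.smulTower b'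
  have hunit : ∀ ij : Fin r × Fin r, IsUnit (algebraMap R Rp (s ij.2)) :=
    fun ij => IsLocalization.map_units Rp (⟨s ij.2, hs ij.2⟩ : p.primeCompl)
  let 𝔅 : Module.Basis (Fin r × Fin r) Rp Ap := 𝔅₀.isUnitSMul hunit
  refine ⟨b, lTensor_bijective_of_basis Rp _ 𝔅 ?_⟩
  rintro ⟨i, j⟩
  simp only [𝔅, 𝔅₀]
  rw [Module.Basis.isUnitSMul_apply, Module.Basis.smulTower_apply]
  simp only
  rw [hbE, hmod, map_pow, hu_root, algebraMap_smul, ← smul_mul_assoc, hb j, hy,
    Algebra.TensorProduct.tmul_pow, one_pow, Algebra.TensorProduct.tmul_mul_tmul, one_mul]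

end

end Groth.Agent.Lib.LeadRG
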