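import Groth.Agent.Lib.LeadRG4
import Groth.Agent.Lib.LeadCSASplits

/-! # Regular sections, part 5: a central simple algebra of degree `r` contains an element
generating an étale commutative subalgebra of dimension `r`. -/

namespace Groth.Agent.Lib.LeadRG

open Polynomial Groth.Agent.Lib.LeadCSA

universe u v

section Choice

variable {k : Type*} [Field k]

/-- over an infinite field a nonconstant polynomial takes `m` distinct values -/
theorem exists_eval_injective [Infinite k] (f : k[X]) (hf : 0 < f.degree) (m : ℕ) :
    ∃ c : Fin m → k, Function.Injective (fun i => f.eval (c i)) := by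
  classical
  induction m with
  | zero => exact ⟨fun i => i.elim0, fun i => i.elim0⟩
  | succ m ih =>
    obtain ⟨c, hc⟩ := ih
    let T : Finset k := Finset.univ.biUnion (fun i : Fin m => (f - C (f.eval (c i))).roots.toFinset)
    obtain ⟨x, hx⟩ := Infinite.exists_notMem_finset T
    have hxne : ∀ i, f.eval x ≠ f.eval (c i) := by
      intro i heq
      apply hx
      rw [Finset.mem_biUnion]
      refine ⟨i, Finset.mem_univ _, ?_⟩
      rw [Multiset.mem_toFinset, mem_roots']
      refine ⟨?_, ?_⟩
      · intro h0
        have := degree_sub_C (a := f.eval (c i)) hf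
        rw [h0, degree_zero] at this
        rw [← this] at hf
        exact absurd hf (by simp)
      · rw [IsRoot.def, eval_sub, eval_C, heq, sub_self]
    refine ⟨Fin.cons x c, ?_⟩
    intro i j hij
    induction i using Fin.cases with
    | zero =>
      induction j using Fin.cases with
      | zero => rfl
      | succ j =>
        simp only [Fin.cons_zero, Fin.cons_succ] at hij
        exact absurd hij (hxne j)
    | succ i =>
      induction j using Fin.cases with
      | zero =>
        simp only [Fin.cons_zero, Fin.cons_succ] at hij
        exact absurd hij.symm (hxne i)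
      | succ j =>
        simp only [Fin.cons_succ] at hij
        rw [hc hij]

end Choice

section PiEmbedding

variable {k : Type*} [Field k] {L : Type*} [Field L] [Algebra k L] [FiniteDimensional k L]
  [Algebra.IsSeparable k L] {A : Type*} [Ring A] [Algebra k A]

theorem exists_regular_of_pi_embedding (m : ℕ) (ι : (Fin m → L) →ₐ[k] A)
    (hι : Function.Injective ι) (hk : Infinite k ∨ m ≤ 1) :
    ∃ x : A, (minpoly k x).Separable ∧
      (minpoly k x).natDegree = m * Module.finrank k L := by
  classical
  obtain ⟨α, hα⟩ := Field.exists_primitive_element k L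
  have hαint : IsIntegral k α := Algebra.IsIntegral.isIntegral α
  set f := minpoly k α with hf
  have hfdeg : f.natDegree = Module.finrank k L := by
    rw [hf, ← IntermediateField.adjoin.finrank hαint, hα, IntermediateField.finrank_top']
  have hfpos : 0 < f.degree := minpoly.degree_pos hαint
  obtain ⟨c, hc⟩ : ∃ c : Fin m → k, Function.Injective (fun i => f.eval (c i)) := by
    rcases hk with hk | hk
    · exact exists_eval_injective f hfpos m
    · refine ⟨fun _ => 0, fun i j _ => ?_⟩
      apply Fin.ext
      have hi := i.2
      have hj := j.2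
      omega
  let b : Fin m → L := fun i => α - algebraMap k L (c i)
  let g : Fin m → k[X] := fun i => minpoly k (b i)
  have hg : ∀ i, g i = f.comp (X + C (c i)) := fun i => minpoly.sub_algebraMap α (c i)
  have hbint : ∀ i, IsIntegral k (b i) := fun i => Algebra.IsIntegral.isIntegral _
  have hgmonic : ∀ i, (g i).Monic := fun i => minpoly.monic (hbint i)
  have hgirr : ∀ i, Irreducible (g i) := fun i => minpoly.irreducible (hbint i)
  have hgdeg : ∀ i, (g i).natDegree = Module.finrank k L := by
    intro i
    rw [hg, natDegree_comp, natDegree_X_add_C, mul_one, hfdeg]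
  have hgeval : ∀ i, (g i).eval 0 = f.eval (c i) := by
    intro i
    rw [hg, eval_comp, eval_add, eval_X, eval_C, zero_add]
  have hcop : ∀ i ∈ (Finset.univ : Finset (Fin m)), ∀ j ∈ (Finset.univ : Finset (Fin m)),
      i ≠ j → IsCoprime (g i) (g j) := by
    intro i _ j _ hij
    rw [(hgirr i).coprime_iff_not_dvd]
    intro hdvd
    have hassoc : Associated (g i) (g j) :=
      ((hgirr i).dvd_irreducible_iff_associated (hgirr j)).mp hdvd
    have heq : g i = g j := eq_of_monic_of_associated (hgmonic i) (hgmonic j) hassoc
    apply hij
    apply hc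
    show f.eval (c i) = f.eval (c j)
    rw [← hgeval, ← hgeval, heq]
  have hbI : IsIntegral k b := Algebra.IsIntegral.isIntegral b
  have hcomp : ∀ (q : k[X]) (i : Fin m), (aeval b q) i = aeval (b i) q := by
    intro q i
    have := aeval_algHom_apply (Pi.evalAlgHom k (fun _ : Fin m => L) i) b q
    simpa using this.symm
  set G : k[X] := ∏ i, g i with hG
  have hGmonic : G.Monic := monic_prod_of_monic _ _ (fun i _ => hgmonic i)
  have hGdeg : G.natDegree = m * Module.finrank k L := by
    rw [hG, natDegree_prod_of_monic _ _ (fun i _ => hgmonic i)]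
    simp [hgdeg]
  have h1 : G ∣ minpoly k b := by
    apply Finset.prod_dvd_of_coprime (fun i hi j hj hij => hcop i (Finset.mem_univ _) j
      (Finset.mem_univ _) hij)
    intro i _
    apply minpoly.dvd k (b i)
    rw [← hcomp, minpoly.aeval, Pi.zero_apply]
  have h2 : minpoly k b ∣ G := by
    apply minpoly.dvd k b
    funext i
    rw [hcomp, Pi.zero_apply]
    obtain ⟨w, hw⟩ := Finset.dvd_prod_of_mem g (Finset.mem_univ i)
    rw [hG, hw, map_mul]
    have : aeval (b i) (g i) = 0 := minpoly.aeval k (b i)
    rw [this, zero_mul]
  have hdeg : (minpoly k b).natDegree = m * Module.finrank k L := by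
    rw [← hGdeg]
    apply le_antisymm
    · exact natDegree_le_of_dvd h2 hGmonic.ne_zero
    · exact natDegree_le_of_dvd h1 (minpoly.ne_zero hbI)
  have hsep : (minpoly k b).Separable :=
    isSeparable_pi (fun _ : Fin m => L) (fun _ => inferInstance) b
  refine ⟨ι b, ?_, ?_⟩
  · rw [minpoly.algHom_eq ι hι]; exact hsep
  · rw [minpoly.algHom_eq ι hι]; exact hdeg

end PiEmbedding

section Main

variable (k : Type u) [Field k] (A : Type v) [Ring A] [Algebra k A] [Algebra.IsCentral k A]
  [IsSimpleRing A] [FiniteDimensional k A]

theorem exists_minpoly_separable_natDegree (r : ℕ) (hA : Module.finrank k A = r ^ 2) :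
    ∃ x : A, (minpoly k x).Separable ∧ (minpoly k x).natDegree = r := by
  classical
  have hApos : 0 < Module.finrank k A := Module.finrank_pos
  have hrpos : 0 < r := by
    rcases Nat.eq_zero_or_pos r with h | h
    · rw [h] at hA; omega
    · exact h
  have : IsArtinianRing A := IsArtinianRing.of_finite k A
  obtain ⟨n, hn, D, _, _, _, ⟨e⟩⟩ := IsSimpleRing.exists_algEquiv_matrix_divisionRing_finite k A
  have : Algebra.IsCentral k (Matrix (Fin n) (Fin n) D) := isCentral_of_algEquiv' e
  have : Algebra.IsCentral k D := isCentral_of_matrix (n := n)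
  have hAD : r ^ 2 = n * n * Module.finrank k D := by
    rw [← hA, e.toLinearEquiv.finrank_eq, Module.finrank_matrix, Fintype.card_fin]
  rcases finite_or_infinite k with hfin | hinf
  · -- finite field: `D = k`
    haveI : Finite D := Module.finite_of_finite k
    have hcomm : ∀ a b : D, a * b = b * a := fun a b => (littleWedderburn D).mul_comm a b
    have hbij : Function.Bijective (Algebra.ofId k D) := by
      refine ⟨(algebraMap k D).injective, fun d => ?_⟩
      have hd : d ∈ Subalgebra.center k D := by
        rw [Subalgebra.mem_center_iff]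
        intro b
        exact hcomm b d
      rw [Algebra.IsCentral.center_eq_bot k D] at hd
      exact Algebra.mem_bot.mp hd
    let g : k ≃ₐ[k] D := AlgEquiv.ofBijective (Algebra.ofId k D) hbij
    have hD1 : Module.finrank k D = 1 := by
      rw [← g.toLinearEquiv.finrank_eq, Module.finrank_self]
    have hnr : n = r := by
      rw [hD1, mul_one, ← sq] at hAD
      exact (Nat.pow_left_injective two_ne_zero hAD).symm
    subst hnr
    let e' : A ≃ₐ[k] Matrix (Fin n) (Fin n) k := e.trans (g.symm.mapMatrix (m := Fin n))
    obtain ⟨p, hp⟩ := CharP.exists k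
    haveI := hp
    haveI : Fact p.Prime := ⟨CharP.char_is_prime k p⟩
    let K := FiniteField.Extension k p n
    have hK : Module.finrank k K = n := FiniteField.finrank_extension k p n
    let bK : Module.Basis (Fin n) k K := Module.finBasisOfFinrankEq k K hK
    let ψ : K →ₐ[k] A :=
      (e'.symm.toAlgHom.comp (LinearMap.toMatrixAlgEquiv bK).toAlgHom).comp (Algebra.lmul k K)
    have hψ : Function.Injective ψ := (ψ : K →+* A).injective
    let ι : (Fin 1 → K) →ₐ[k] A := ψ.comp (Pi.evalAlgHom k (fun _ : Fin 1 => K) 0)
    have hι : Function.Injective ι := by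
      intro a b hab
      have h0 : a 0 = b 0 := hψ hab
      funext i
      rw [Subsingleton.elim i 0, h0]
    obtain ⟨x, hx1, hx2⟩ := exists_regular_of_pi_embedding (L := K) 1 ι hι (Or.inr le_rfl)
    refine ⟨x, hx1, ?_⟩
    rw [hx2, one_mul, hK]
  · -- infinite field
    obtain ⟨L, hc, hs, hcent⟩ := exists_separable_self_centralizing (k := k) (D := D)
    letI : Field L := fieldOfComm L hc
    have hdim : Module.finrank k D = Module.finrank k L ^ 2 := by
      have := centralizer_finrank L
      rw [hcent] at this
      rw [this, pow_two]
    have hnr : r = n * Module.finrank k L := by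
      have : r ^ 2 = (n * Module.finrank k L) ^ 2 := by
        rw [hAD, hdim]; ring
      exact Nat.pow_left_injective two_ne_zero this
    let ι : (Fin n → L) →ₐ[k] A :=
      (e.symm.toAlgHom.comp (Matrix.diagonalAlgHom k)).comp (L.val.compLeft (Fin n))
    have hι : Function.Injective ι := by
      intro a b hab
      have h1 : Matrix.diagonalAlgHom k ((L.val.compLeft (Fin n)) a) =
          Matrix.diagonalAlgHom k ((L.val.compLeft (Fin n)) b) := e.symm.injective hab
      have h2 : (L.val.compLeft (Fin n)) a = (L.val.compLeft (Fin n)) b :=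
        Matrix.diagonal_injective h1
      funext i
      have := congrFun h2 i
      exact Subtype.ext this
    obtain ⟨x, hx1, hx2⟩ := exists_regular_of_pi_embedding (L := L) n ι hι (Or.inl hinf)
    exact ⟨x, hx1, by rw [hx2, hnr]⟩

theorem exists_regular_separable (r : ℕ) (hA : Module.finrank k A = r ^ 2) :
    ∃ x : A, Algebra.IsSeparable k (Algebra.adjoin k ({x} : Set A)) ∧
      Module.finrank k (Algebra.adjoin k ({x} : Set A)) = r := by
  obtain ⟨x, hx1, hx2⟩ := exists_minpoly_separable_natDegree k A r hA
  have hint : IsIntegral k x := Algebra.IsIntegral.isIntegral x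
  exact ⟨x, isSeparable_adjoin_singleton x hint hx1, by
    rw [finrank_adjoin_singleton x hint, hx2]⟩

end Main

end Groth.Agent.Lib.LeadRG
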