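import Groth.Agent.Lib.LeadRG3
import Groth.Agent.Lib.LeadRG5

/-! # Regular sections, part 6: an Azumaya algebra over a local ring has a maximal étale
subalgebra. -/

namespace Groth.Agent.Lib.LeadRG

open TensorProduct Polynomial Groth.Agent.Lib.LeadCSA Groth.Agent.Lib.LeadAzumaya

universe u

section Local

variable (R : Type u) [CommRing R] [IsLocalRing R] (A : Type u) [Ring A] [Algebra R A]
  [IsAzumaya R A]

local notation "κ" => IsLocalRing.ResidueField R

theorem linearIndependent_pow_of_natDegree {K : Type*} [Field K] {B : Type*} [Ring B] [Algebra K B]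
    (x : B) (n : ℕ) (hn : n = (minpoly K x).natDegree) :
    LinearIndependent K (fun i : Fin n => x ^ (i : ℕ)) := by
  subst hn
  exact linearIndependent_pow x

theorem exists_maximal_etale_subalgebra (r : ℕ) (hA : Module.finrank R A = r ^ 2) :
    ∃ (E : Type u) (_ : CommRing E) (_ : Algebra R E), Algebra.Etale R E ∧ Module.Finite R E ∧
      Module.Free R E ∧ Module.finrank R E = r ∧
      ∃ u : E →ₐ[R] A, Function.Injective (u.toLinearMap.lTensor κ) := by
  classical
  haveI : Module.Free R A := Module.free_of_flat_of_isLocalRing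
  haveI : Nontrivial A := (FaithfulSMul.algebraMap_injective R A).nontrivial
  obtain ⟨hcen, hsimp⟩ := (isAzumaya_iff_residueField R (A := A)).mp inferInstance
  haveI := hcen
  haveI := hsimp
  have hAbar : Module.finrank κ (κ ⊗[R] A) = r ^ 2 := by
    rw [Module.finrank_baseChange, hA]
  obtain ⟨x, hxsep, hxdeg⟩ := exists_minpoly_separable_natDegree κ (κ ⊗[R] A) r hAbar
  have hsurj : Function.Surjective (TensorProduct.mk R κ A 1) :=
    TensorProduct.mk_surjective R A κ Ideal.Quotient.mk_surjective
  obtain ⟨ξ, hξ⟩ := hsurj x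
  rw [TensorProduct.mk_apply] at hξ
  subst hξ
  set x : κ ⊗[R] A := (1 : κ) ⊗ₜ[R] ξ with hx
  have hint : IsIntegral κ x := Algebra.IsIntegral.isIntegral x
  obtain ⟨hli, hmem⟩ := regular_section_powers_basis R A r hA ξ
    (isSeparable_adjoin_singleton x hint hxsep)
    (by rw [finrank_adjoin_singleton x hint, hxdeg])
  obtain ⟨c, hc⟩ := (Submodule.mem_span_range_iff_exists_fun R).mp hmem
  -- the polynomial
  set P : R[X] := ∑ i : Fin r, C (c i) * X ^ (i : ℕ) with hP
  have hPdeg : P.degree < r := degree_sum_fin_lt c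
  set G : R[X] := X ^ r - P with hG
  have hGmonic : G.Monic := monic_X_pow_sub hPdeg
  have hGdeg : G.natDegree = r := by
    have h1 : G.degree = (r : WithBot ℕ) := by
      rw [hG, degree_sub_eq_left_of_degree_lt (by rw [degree_X_pow]; exact hPdeg), degree_X_pow]
    exact natDegree_eq_of_degree_eq_some h1
  have hGξ : aeval ξ G = 0 := by
    rw [hG, map_sub, map_pow, aeval_X, hP, map_sum, ← hc, sub_eq_zero]
    apply Finset.sum_congr rfl
    intro i _
    rw [map_mul, aeval_C, map_pow, aeval_X, Algebra.smul_def]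
  -- separability
  have hGx : aeval x (G.map (IsLocalRing.residue R)) = 0 := by
    have h1 : G.map (IsLocalRing.residue R) = G.map (algebraMap R κ) := rfl
    rw [h1, aeval_map_algebraMap]
    have h2 : x = (Algebra.TensorProduct.includeRight : A →ₐ[R] κ ⊗[R] A) ξ := rfl
    rw [h2, aeval_algHom_apply, hGξ, map_zero]
  have hGmap : G.map (IsLocalRing.residue R) = minpoly κ x := by
    have hm : (G.map (IsLocalRing.residue R)).Monic := hGmonic.map _
    apply eq_of_monic_of_dvd_of_natDegree_le (minpoly.monic hint) hm (minpoly.dvd κ x hGx)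
    rw [hGmonic.natDegree_map, hGdeg, hxdeg]
  have hGsep : G.Separable := by
    apply Groth.Agent.Lib.Helper18Monogenic.separable_of_map_residue hGmonic
    rw [hGmap]
    exact hxsep
  -- the algebra
  let pb := AdjoinRoot.powerBasis' hGmonic
  haveI : Module.Free R (AdjoinRoot G) := hGmonic.free_adjoinRoot
  haveI : Module.Finite R (AdjoinRoot G) := hGmonic.finite_adjoinRoot
  have hrank : Module.finrank R (AdjoinRoot G) = r := by
    rw [pb.finrank, AdjoinRoot.powerBasis'_dim, hGdeg]
  have e : (Groth.Agent.Lib.Helper18Monogenic.sepPair G hGmonic hGsep).Ring ≃ₐ[R] AdjoinRoot G :=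
    Groth.Agent.Lib.Helper18Monogenic.sepEquiv G hGmonic hGsep
  have hetale : Algebra.Etale R (AdjoinRoot G) := Algebra.Etale.of_equiv e
  let u : AdjoinRoot G →ₐ[R] A :=
    Ideal.Quotient.liftₐ (Ideal.span {G}) (aeval ξ) (by
      intro a ha
      obtain ⟨w, rfl⟩ := Ideal.mem_span_singleton.mp ha
      rw [map_mul, hGξ, zero_mul])
  have hu_root : u (AdjoinRoot.root G) = ξ := by
    show (aeval ξ) (X : R[X]) = ξ
    exact aeval_X ξ
  refine ⟨AdjoinRoot G, inferInstance, inferInstance, hetale, inferInstance, inferInstance, hrank,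
    u, ?_⟩
  -- injectivity on the special fibre
  let bκ : Module.Basis (Fin pb.dim) κ (κ ⊗[R] AdjoinRoot G) := Algebra.TensorProduct.basis κ pb.basis
  have hbκ : ∀ i, bκ i = (1 : κ) ⊗ₜ[R] ((AdjoinRoot.root G) ^ (i : ℕ)) := by
    intro i
    simp only [bκ, Algebra.TensorProduct.basis_apply, pb.basis_eq_pow]
    simp only [pb, AdjoinRoot.powerBasis'_gen]
  let F : (κ ⊗[R] AdjoinRoot G) →ₗ[κ] (κ ⊗[R] A) := u.toLinearMap.baseChange κ
  have hF : ∀ z, F z = u.toLinearMap.lTensor κ z := by
    intro z
    rfl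
  have hFb : ∀ i, F (bκ i) = x ^ (i : ℕ) := by
    intro i
    rw [hbκ]
    show (u.toLinearMap.baseChange κ) ((1 : κ) ⊗ₜ[R] ((AdjoinRoot.root G) ^ (i : ℕ))) = _
    rw [LinearMap.baseChange_tmul, AlgHom.toLinearMap_apply, map_pow, hu_root, hx,
      Algebra.TensorProduct.tmul_pow, one_pow]
  have hlix : LinearIndependent κ (fun i : Fin pb.dim => x ^ (i : ℕ)) := by
    apply linearIndependent_pow_of_natDegree
    rw [AdjoinRoot.powerBasis'_dim, hGdeg, hxdeg]
  intro z w hzw
  rw [← hF, ← hF] at hzw
  have hsub : F (z - w) = 0 := by rw [map_sub, hzw, sub_self]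
  have hrepr : z - w = ∑ i, bκ.repr (z - w) i • bκ i := (bκ.sum_repr (z - w)).symm
  rw [hrepr, map_sum] at hsub
  simp only [map_smul, hFb] at hsub
  have hzero := Fintype.linearIndependent_iff.mp hlix (fun i => bκ.repr (z - w) i) hsub
  have : z - w = 0 := by
    rw [hrepr]
    apply Finset.sum_eq_zero
    intro i _
    have := hzero i
    rw [this, zero_smul]
  exact sub_eq_zero.mp this

end Local

end Groth.Agent.Lib.LeadRG
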