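import Groth.Agent.Lib.LeadRG8

/-! # Regular sections, part 9: for a maximal étale subalgebra `E` of an Azumaya algebra `A`
over a local ring, `E ⊗ A ≃ End_E(A)`. -/

namespace Groth.Agent.Lib.LeadRG

open TensorProduct MulOpposite

universe u

section Phi

variable (R : Type u) [CommRing R] (A : Type u) [Ring A] [Algebra R A]
  (E : Type u) [CommRing E] [Algebra R E] [Module E A] [IsScalarTower R E A]
  [SMulCommClass E R A]
  (u : E →ₐ[R] A) (hmod : ∀ (e : E) (a : A), e • a = a * u e)

/-- left multiplication as an `E`-linear endomorphism, for the right action of `E`. -/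
noncomputable def leftMulEnd : A →ₐ[R] Module.End E A where
  toFun a :=
    { toFun := fun y => a * y
      map_add' := mul_add a
      map_smul' := fun e y => by simp only [hmod, RingHom.id_apply, mul_assoc] }
  map_one' := by ext y; simp
  map_mul' a b := by ext y; simp [mul_assoc]
  map_zero' := by ext y; simp
  map_add' a b := by ext y; simp [add_mul]
  commutes' r := by
    ext y
    simp [Module.algebraMap_end_apply, Algebra.smul_def]

theorem leftMulEnd_apply (a y : A) : leftMulEnd R A E u hmod a y = a * y := rfl

/-- the canonical map `E ⊗ A → End_E(A)`, `e ⊗ a ↦ (y ↦ a y u(e))`. -/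
noncomputable def phi : (E ⊗[R] A) →ₐ[E] Module.End E A :=
  Algebra.TensorProduct.lift (Algebra.ofId E (Module.End E A)) (leftMulEnd R A E u hmod)
    (fun e _ => Algebra.commute_algebraMap_left e _)

theorem phi_tmul_apply (e : E) (a y : A) : phi R A E u hmod (e ⊗ₜ a) y = a * y * u e := by
  simp [phi, leftMulEnd_apply, hmod, Module.algebraMap_end_apply, Algebra.ofId_apply]

theorem phi_injective [IsAzumaya R A] (hu : Function.Injective u) :
    Function.Injective (phi R A E u hmod) := by
  let ρ : E ⊗[R] A →ₗ[R] A ⊗[R] Aᵐᵒᵖ :=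
    (LinearMap.lTensor A ((opLinearEquiv R).toLinearMap ∘ₗ u.toLinearMap)) ∘ₗ
      (TensorProduct.comm R E A).toLinearMap
  have hρ : Function.Injective ρ := by
    have h1 : Function.Injective
        (LinearMap.lTensor A ((opLinearEquiv R).toLinearMap ∘ₗ u.toLinearMap)) := by
      apply Module.Flat.lTensor_preserves_injective_linearMap
      exact (opLinearEquiv R).injective.comp hu
    exact h1.comp (TensorProduct.comm R E A).injective
  have key : ∀ w y, AlgHom.mulLeftRight R A (ρ w) y = phi R A E u hmod w y := by
    intro w y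
    induction w using TensorProduct.induction_on with
    | zero => simp
    | tmul e a => simp [ρ, phi_tmul_apply, AlgHom.mulLeftRight_apply]
    | add a b ha hb => simp only [map_add, LinearMap.add_apply, ha, hb]
  rw [injective_iff_map_eq_zero]
  intro w hw
  apply hρ
  rw [map_zero]
  apply (IsAzumaya.bij (R := R) (A := A)).injective
  rw [map_zero]
  ext y
  rw [key, hw]
  rfl

local notation "κ" => IsLocalRing.ResidueField R

theorem phi_surjective [IsLocalRing R] [IsAzumaya R A] (r : ℕ)
    (hA : Module.finrank R A = r ^ 2) [Algebra.FormallyUnramified R E] [Module.Finite R E]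
    [Module.Free R E] (hE : Module.finrank R E = r)
    (hu : Function.Injective (u.toLinearMap.lTensor κ)) :
    Function.Surjective (phi R A E u hmod) := by
  classical
  intro T
  haveI : Module.Free R A := Module.free_of_flat_of_isLocalRing
  let n := Module.finrank R A
  let α : Module.Basis (Fin n) R A := Module.finBasis R A
  have hμ : Function.Bijective (AlgHom.mulLeftRight R A) := IsAzumaya.bij
  let TR : Module.End R A := T.restrictScalars R
  obtain ⟨z, hz⟩ := hμ.surjective TR
  let π : Fin n → (A ⊗[R] Aᵐᵒᵖ →ₗ[R] Aᵐᵒᵖ) := fun i =>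
    TensorProduct.lift ((LinearMap.lsmul R Aᵐᵒᵖ).comp (α.coord i))
  have hπ : ∀ i a b, π i (a ⊗ₜ b) = α.repr a i • b := fun i a b => by
    simp [π]
  have hsum : ∀ z : A ⊗[R] Aᵐᵒᵖ, z = ∑ i, α i ⊗ₜ[R] π i z := by
    intro z
    induction z using TensorProduct.induction_on with
    | zero => simp
    | tmul a b =>
      simp only [hπ]
      rw [Finset.sum_congr rfl (fun i _ => (TensorProduct.smul_tmul (α.repr a i) (α i) b).symm),
        ← TensorProduct.sum_tmul, α.sum_repr a]
    | add x y hx hy =>
      simp only [map_add, TensorProduct.tmul_add, Finset.sum_add_distrib]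
      rw [← hx, ← hy]
  have hπr : ∀ i (c : A) (z : A ⊗[R] Aᵐᵒᵖ), π i (z * ((1 : A) ⊗ₜ op c)) = π i z * op c := by
    intro i c z
    induction z using TensorProduct.induction_on with
    | zero => simp
    | tmul a b => rw [Algebra.TensorProduct.tmul_mul_tmul, mul_one, hπ, hπ, smul_mul_assoc]
    | add x y hx hy => rw [add_mul, map_add, map_add, add_mul, hx, hy]
  have hπl : ∀ i (c : A) (z : A ⊗[R] Aᵐᵒᵖ), π i (((1 : A) ⊗ₜ op c) * z) = op c * π i z := by
    intro i c z
    induction z using TensorProduct.induction_on with
    | zero => simp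
    | tmul a b => rw [Algebra.TensorProduct.tmul_mul_tmul, one_mul, hπ, hπ, mul_smul_comm]
    | add x y hx hy => rw [mul_add, map_add, map_add, mul_add, hx, hy]
  have hzc : ∀ e : E, z * ((1 : A) ⊗ₜ op (u e)) = ((1 : A) ⊗ₜ op (u e)) * z := by
    intro e
    apply hμ.injective
    rw [map_mul, map_mul, hz]
    ext y
    simp only [Module.End.mul_apply, AlgHom.mulLeftRight_apply, one_mul, unop_op]
    change T (y * u e) = T y * u e
    rw [← hmod, ← hmod, map_smul]
  have hcomm : ∀ i (e : E), unop (π i z) * u e = u e * unop (π i z) := by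
    intro i e
    have h := congrArg (π i) (hzc e)
    rw [hπr, hπl] at h
    have h2 := congrArg unop h
    simp only [unop_mul, unop_op] at h2
    exact h2.symm
  choose ei hei using fun i =>
    mem_range_of_commute R A r hA E hE u hu (unop (π i z)) (hcomm i)
  refine ⟨∑ i, ei i ⊗ₜ[R] α i, ?_⟩
  ext y
  rw [map_sum, LinearMap.sum_apply]
  simp only [phi_tmul_apply, hei]
  have hT : T y = AlgHom.mulLeftRight R A z y := by rw [hz]; rfl
  rw [hT]
  conv_rhs => rw [hsum z, map_sum, LinearMap.sum_apply]
  simp only [AlgHom.mulLeftRight_apply]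

include hmod in
theorem nonempty_algEquiv_end [IsLocalRing R] [IsAzumaya R A] (r : ℕ)
    (hA : Module.finrank R A = r ^ 2) [Algebra.FormallyUnramified R E] [Module.Finite R E]
    [Module.Free R E] (hE : Module.finrank R E = r)
    (hu : Function.Injective (u.toLinearMap.lTensor κ)) :
    Nonempty ((E ⊗[R] A) ≃ₐ[E] Module.End E A) := by
  haveI : Module.Free R A := Module.free_of_flat_of_isLocalRing
  have huinj : Function.Injective u := by
    obtain ⟨l', hl'⟩ :=
      (IsLocalRing.split_injective_iff_lTensor_residueField_injective u.toLinearMap).mpr hu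
    exact Function.HasLeftInverse.injective ⟨l', LinearMap.congr_fun hl'⟩
  exact ⟨AlgEquiv.ofBijective (phi R A E u hmod)
    ⟨phi_injective R A E u hmod huinj, phi_surjective R A E u hmod r hA hE hu⟩⟩

end Phi

end Groth.Agent.Lib.LeadRG
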