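import Groth.Agent.Lib.LeadRG11
import Groth.Agent.Lib.LeadRG9
import Groth.Agent.Lib.LeadRG6

/-! # Regular sections, part 15: splitting an Azumaya algebra with a basis `b j * y ^ i`. -/

namespace Groth.Agent.Lib.LeadRG

open TensorProduct Polynomial Groth.Agent.Lib.LeadAzumaya

universe u

section Resultant

variable {R S : Type*} [CommRing R] [CommRing S] (φ : R →+* S) (G : R[X])

theorem resultant_map_derivative (hG : G.Monic) :
    resultant (G.map φ) (derivative (G.map φ)) = φ (resultant G (derivative G)) := by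
  nontriviality S
  rw [← resultant_map_map, derivative_map]
  have h1 : (G.map φ).natDegree = G.natDegree := hG.natDegree_map φ
  have h2 : ((derivative G).map φ).natDegree ≤ (derivative G).natDegree := natDegree_map_le
  obtain ⟨k, hk⟩ := Nat.exists_eq_add_of_le h2
  rw [hk, resultant_add_right_deg _ _ _ _ k le_rfl, ← h1, (hG.map φ).coeff_natDegree, one_pow,
    one_mul]

theorem separable_map_of_isUnit_resultant (hG : G.Monic)
    (h : IsUnit (φ (resultant G (derivative G)))) : (G.map φ).Separable := by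
  rw [← resultant_map_derivative φ G hG] at h
  exact (isUnit_resultant_iff_isCoprime (hG.map φ)).mp h

theorem isUnit_resultant_of_separable_map (hG : G.Monic) (h : (G.map φ).Separable) :
    IsUnit (φ (resultant G (derivative G))) := by
  rw [← resultant_map_derivative φ G hG]
  exact (isUnit_resultant_iff_isCoprime (hG.map φ)).mpr h

end Resultant

section Split

variable (B : Type u) [CommRing B] [Nontrivial B] (A : Type u) [Ring A] [Algebra B A]
  [IsAzumaya B A]

theorem split_of_basis (r : ℕ) (hr : 1 ≤ r) (G : B[X]) (hGmonic : G.Monic)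
    (hGdeg : G.natDegree = r) (hGsep : G.Separable) (y : A) (hGy : aeval y G = 0)
    (b : Fin r → A) (𝔅 : Module.Basis (Fin r × Fin r) B A)
    (h𝔅 : ∀ ij, 𝔅 ij = b ij.2 * y ^ (ij.1 : ℕ)) :
    Module.Finite B (AdjoinRoot G) ∧ Algebra.Etale B (AdjoinRoot G) ∧
      Module.FaithfullyFlat B (AdjoinRoot G) ∧
      Nonempty ((AdjoinRoot G ⊗[B] A) ≃ₐ[AdjoinRoot G] Matrix (Fin r) (Fin r) (AdjoinRoot G)) := by
  classical
  let pb := AdjoinRoot.powerBasis' hGmonic
  haveI : Module.Free B (AdjoinRoot G) := hGmonic.free_adjoinRoot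
  haveI : Module.Finite B (AdjoinRoot G) := hGmonic.finite_adjoinRoot
  have hdim : pb.dim = r := by rw [AdjoinRoot.powerBasis'_dim, hGdeg]
  have hrank : Module.finrank B (AdjoinRoot G) = r := by rw [pb.finrank, hdim]
  haveI : Nontrivial (AdjoinRoot G) :=
    (Module.finrank_pos_iff_of_free B (AdjoinRoot G)).mp (by rw [hrank]; exact hr)
  haveI hetale : Algebra.Etale B (AdjoinRoot G) :=
    Algebra.Etale.of_equiv (Groth.Agent.Lib.Helper18Monogenic.sepEquiv G hGmonic hGsep)
  refine ⟨inferInstance, hetale, inferInstance, ?_⟩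
  let u : AdjoinRoot G →ₐ[B] A :=
    Ideal.Quotient.liftₐ (Ideal.span {G}) (aeval y) (by
      intro a ha
      obtain ⟨w, rfl⟩ := Ideal.mem_span_singleton.mp ha
      rw [map_mul, hGy, zero_mul])
  have hu_root : u (AdjoinRoot.root G) = y := by
    show (aeval y) (X : B[X]) = y
    exact aeval_X y
  letI modE : Module (AdjoinRoot G) A := Module.compHom A
    ((u : AdjoinRoot G →+* A).toOpposite (fun a b => (Commute.all a b).map u))
  have hmod : ∀ (e : AdjoinRoot G) (a : A), e • a = a * u e := fun e a => rfl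
  haveI : IsScalarTower B (AdjoinRoot G) A := ⟨fun s e a => by
    rw [hmod, hmod, map_smul, mul_smul_comm]⟩
  haveI : SMulCommClass (AdjoinRoot G) B A := ⟨fun e s a => by rw [hmod, hmod, smul_mul_assoc]⟩
  let bE : Module.Basis (Fin r) B (AdjoinRoot G) := pb.basis.reindex (finCongr hdim)
  have hbE : ∀ i : Fin r, bE i = (AdjoinRoot.root G) ^ (i : ℕ) := by
    intro i
    simp only [bE, Module.Basis.reindex_apply, pb.basis_eq_pow]
    simp only [pb, AdjoinRoot.powerBasis'_gen, finCongr_symm, finCongr_apply, Fin.val_cast]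
  have h𝔅' : ∀ i j, 𝔅 (i, j) = bE i • b j := by
    intro i j
    rw [h𝔅, hbE, hmod, map_pow, hu_root]
  have hli : LinearIndependent (AdjoinRoot G) b := by
    rw [Fintype.linearIndependent_iff]
    intro g hg j
    have hsum : ∑ ij : Fin r × Fin r, (bE.repr (g ij.2) ij.1) • 𝔅 ij = 0 := by
      rw [Fintype.sum_prod_type_right, ← hg]
      apply Finset.sum_congr rfl
      intro j _
      conv_rhs => rw [← bE.sum_repr (g j)]
      rw [Finset.sum_smul]
      apply Finset.sum_congr rfl
      intro i _
      rw [h𝔅', smul_assoc]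
    have hzero := Fintype.linearIndependent_iff.mp 𝔅.linearIndependent _ hsum
    rw [← bE.sum_repr (g j)]
    apply Finset.sum_eq_zero
    intro i _
    have := hzero (i, j)
    simp only at this
    rw [this, zero_smul]
  have hsp : ⊤ ≤ Submodule.span (AdjoinRoot G) (Set.range b) := by
    intro a _
    rw [← 𝔅.sum_repr a]
    apply Submodule.sum_mem
    rintro ⟨i, j⟩ _
    rw [h𝔅', ← smul_assoc]
    exact Submodule.smul_mem _ _ (Submodule.subset_span ⟨j, rfl⟩)
  let bA : Module.Basis (Fin r) (AdjoinRoot G) A := Module.Basis.mk hli hsp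
  let ψ : (AdjoinRoot G ⊗[B] A) →ₐ[AdjoinRoot G] Matrix (Fin r) (Fin r) (AdjoinRoot G) :=
    (LinearMap.toMatrixAlgEquiv bA).toAlgHom.comp (phi B A (AdjoinRoot G) u hmod)
  haveI : IsAzumaya (AdjoinRoot G) (AdjoinRoot G ⊗[B] A) := isAzumaya_baseChange (AdjoinRoot G) A
  haveI : Module.Free B A := Module.Free.of_basis 𝔅
  have hfr : Module.finrank (AdjoinRoot G) (AdjoinRoot G ⊗[B] A) =
      Module.finrank (AdjoinRoot G) (Matrix (Fin r) (Fin r) (AdjoinRoot G)) := by
    rw [Module.finrank_baseChange, Module.finrank_eq_card_basis 𝔅, Module.finrank_matrix,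
      Module.finrank_self, Fintype.card_prod, Fintype.card_fin, mul_one]
  exact ⟨AlgEquiv.ofBijective ψ (algHom_bijective_of_finrank_eq hfr ψ)⟩

end Split

end Groth.Agent.Lib.LeadRG
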