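import Groth.Agent.Lib.LeadRG14
import Groth.Agent.Lib.LeadRG15
import Groth.Agent.Lib.Helper7AzFib

/-! # Regular sections, part 16: an Azumaya algebra is split by a finite étale cover near a
prime. -/

namespace Groth.Agent.Lib.LeadRG

open TensorProduct Polynomial Groth.Agent.Lib.LeadAzumaya

universe u

theorem split_near_prime (R : Type u) [CommRing R] (A : Type u) [Ring A] [Algebra R A]
    [IsAzumaya R A] (p : Ideal R) [p.IsPrime] :
    ∃ f : R, f ∉ p ∧ ∃ (R' : Type u) (_ : CommRing R') (_ : Algebra R R')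
      (_ : Algebra (Localization.Away f) R') (_ : IsScalarTower R (Localization.Away f) R'),
      Module.Finite (Localization.Away f) R' ∧ Algebra.Etale (Localization.Away f) R' ∧
      Module.FaithfullyFlat (Localization.Away f) R' ∧
      ∃ r : ℕ, 1 ≤ r ∧ Nonempty ((R' ⊗[R] A) ≃ₐ[R'] Matrix (Fin r) (Fin r) R') := by
  classical
  obtain ⟨r, hr1, hA, ξ, G, hreg, hGmonic, hGdeg, hGξ⟩ := exists_regular_poly_global R A p
  obtain ⟨hGpsep, b, hbij⟩ := exists_basis_global R A p r hr1 hA ξ G hreg hGmonic hGdeg hGξ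
  -- (a) the relation `G(ξ) = 0` spreads out
  have h0 : (1 : Localization.AtPrime p) ⊗ₜ[R] (aeval ξ G) =
      (1 : Localization.AtPrime p) ⊗ₜ[R] (0 : A) := by
    rw [TensorProduct.tmul_zero, ← hGξ, aeval_map_algebraMap]
    have h2 : (1 : Localization.AtPrime p) ⊗ₜ[R] ξ =
        (Algebra.TensorProduct.includeRight : A →ₐ[R] Localization.AtPrime p ⊗[R] A) ξ := rfl
    rw [h2, aeval_algHom_apply]
    rfl
  obtain ⟨s₃, hs₃, h3⟩ := Groth.Agent.Lib.LeadSpread.exists_smul_eq_of_tmul_eq p h0
  -- (b) the discriminant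
  have hd : resultant G (derivative G) ∉ p := by
    have := isUnit_resultant_of_separable_map (algebraMap R (Localization.AtPrime p)) G hGmonic
      hGpsep
    have h2 := (IsLocalization.AtPrime.isUnit_to_map_iff (Localization.AtPrime p) p _).mp this
    exact h2
  -- (c) the basis
  haveI : Module.FinitePresentation R A := Module.finitePresentation_of_projective R A
  obtain ⟨g, hg, Hg⟩ := exists_away_lTensor_bijective p
    (Fintype.linearCombination R (fun ij : Fin r × Fin r => b ij.2 * ξ ^ (ij.1 : ℕ))) hbij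
  have hf : s₃ * resultant G (derivative G) * g ∉ p := by
    intro h
    rcases (Ideal.IsPrime.mem_or_mem ‹p.IsPrime› h) with h | h
    · rcases (Ideal.IsPrime.mem_or_mem ‹p.IsPrime› h) with h | h
      · exact hs₃ h
      · exact hd h
    · exact hg h
  refine ⟨s₃ * resultant G (derivative G) * g, hf, ?_⟩
  set f : R := s₃ * resultant G (derivative G) * g with hfdef
  have hs₃f : s₃ ∣ f := ⟨resultant G (derivative G) * g, by rw [hfdef, mul_assoc]⟩
  have hdf : resultant G (derivative G) ∣ f := ⟨s₃ * g, by rw [hfdef]; ring⟩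
  have hgf : g ∣ f := ⟨s₃ * resultant G (derivative G), by rw [hfdef]; ring⟩
  haveI : Nontrivial (Localization.Away f) := by
    rw [← not_subsingleton_iff_nontrivial,
      IsLocalization.subsingleton_iff (M := Submonoid.powers f)]
    rintro ⟨n, hn⟩
    apply hf
    apply Ideal.IsPrime.mem_of_pow_mem ‹p.IsPrime› n
    have hn' : f ^ n = 0 := hn
    rw [hn']
    exact p.zero_mem
  haveI : IsAzumaya (Localization.Away f) (Localization.Away f ⊗[R] A) :=
    isAzumaya_baseChange (Localization.Away f) A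
  set GB : (Localization.Away f)[X] := G.map (algebraMap R (Localization.Away f)) with hGB
  have hGBmonic : GB.Monic := hGmonic.map _
  have hGBdeg : GB.natDegree = r := by rw [hGB, hGmonic.natDegree_map, hGdeg]
  have hGBsep : GB.Separable :=
    separable_map_of_isUnit_resultant (algebraMap R (Localization.Away f)) G hGmonic
      (isUnit_of_dvd_unit (map_dvd _ hdf) (IsLocalization.Away.algebraMap_isUnit f))
  have hGy : aeval ((1 : Localization.Away f) ⊗ₜ[R] ξ) GB = 0 := by
    rw [hGB, aeval_map_algebraMap]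
    have h2 : (1 : Localization.Away f) ⊗ₜ[R] ξ =
        (Algebra.TensorProduct.includeRight : A →ₐ[R] Localization.Away f ⊗[R] A) ξ := rfl
    rw [h2, aeval_algHom_apply]
    show (1 : Localization.Away f) ⊗ₜ[R] (aeval ξ G) = 0
    rw [Groth.Agent.Lib.LeadSpread.tmul_eq_of_smul_eq f hs₃f h3 1, TensorProduct.tmul_zero]
  obtain ⟨𝔅, h𝔅⟩ := exists_basis_of_lTensor_bijective (Localization.Away f)
    (fun ij : Fin r × Fin r => b ij.2 * ξ ^ (ij.1 : ℕ)) (Hg f hgf)
  obtain ⟨h1, h2, h3', ⟨e⟩⟩ := split_of_basis (Localization.Away f) (Localization.Away f ⊗[R] A)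
    r hr1 GB hGBmonic hGBdeg hGBsep ((1 : Localization.Away f) ⊗ₜ[R] ξ) hGy
    (fun j => (1 : Localization.Away f) ⊗ₜ[R] b j) 𝔅 (by
      intro ij
      rw [h𝔅, Algebra.TensorProduct.tmul_pow, one_pow, Algebra.TensorProduct.tmul_mul_tmul,
        one_mul])
  exact ⟨AdjoinRoot GB, inferInstance, inferInstance, inferInstance, inferInstance, h1, h2, h3', r,
    hr1, ⟨(Groth.Agent.Lib.Helper7.AzFib.cancelBaseChangeAlg R (Localization.Away f)
      (AdjoinRoot GB) A).symm.trans e⟩⟩

end Groth.Agent.Lib.LeadRG
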