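import Groth.Agent.Lib.LeadRG1
import Groth.Agent.Lib.LeadCSA

/-! # Regular sections, part 2: the commutant of a regular separable element of a central simple
algebra of degree `r` has dimension `≤ r`. -/

namespace Groth.Agent.Lib.LeadRG

open TensorProduct Polynomial Groth.Agent.Lib.LeadCSA

section CSA

variable {k : Type*} [Field k] {A : Type*} [Ring A] [Algebra k A] [Algebra.IsCentral k A]
  [IsSimpleRing A] [FiniteDimensional k A]

theorem finrank_commuting_le {r : ℕ} (hA : Module.finrank k A = r ^ 2) (x : A)
    (hsep : (minpoly k x).Separable) (hdeg : (minpoly k x).natDegree = r)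
    (C : Submodule k A) (hC : ∀ c ∈ C, c * x = x * c) : Module.finrank k C ≤ r := by
  classical
  let F := AlgebraicClosure k
  haveI : IsSimpleRing (F ⊗[k] A) := isSimpleRing_baseChange F
  haveI : Algebra.IsCentral F (F ⊗[k] A) := isCentral_baseChange F
  haveI : IsSepClosed F := inferInstance
  obtain ⟨n, hn, ⟨e⟩⟩ := exists_algEquiv_matrix_of_isSepClosed (k := F) (A := F ⊗[k] A)
  have hnr : n = r := by
    have h1 : Module.finrank F (F ⊗[k] A) = r ^ 2 := by
      rw [Module.finrank_baseChange, hA]
    have h2 := e.toLinearEquiv.finrank_eq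
    rw [h1, Module.finrank_matrix, Fintype.card_fin, Module.finrank_self, mul_one, ← sq] at h2
    exact (Nat.pow_left_injective two_ne_zero h2).symm
  subst hnr
  let e' : (F ⊗[k] A) ≃ₐ[F] Module.End F (Fin n → F) := e.trans Matrix.toLinAlgEquiv'
  let inc : A →ₐ[k] F ⊗[k] A := Algebra.TensorProduct.includeRight
  have hinc : ∀ a, inc a = (1 : F) ⊗ₜ[k] a := fun a => rfl
  set M := e' (inc x) with hM
  let g : F[X] := (minpoly k x).map (algebraMap k F)
  have hg : g.Separable := hsep.map
  have hgM : aeval M g = 0 := by
    rw [hM, aeval_algHom_apply]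
    have : aeval (inc x) g = 0 := by
      rw [aeval_map_algebraMap, aeval_algHom_apply, minpoly.aeval, map_zero]
    rw [this, map_zero]
  have hli0 : LinearIndependent k (fun i : Fin n => x ^ (i : ℕ)) := by
    have := linearIndependent_pow (K := k) x
    rw [hdeg] at this
    exact this
  have hli : LinearIndependent F (fun i : Fin n => M ^ (i : ℕ)) := by
    have h1 := linearIndependent_baseChange F hli0
    have h2 := h1.map' e'.toLinearMap (LinearMap.ker_eq_bot.mpr e'.injective)
    have heq : (fun i : Fin n => M ^ (i : ℕ)) =
        (⇑e'.toLinearMap ∘ fun i : Fin n => (1 : F) ⊗ₜ[k] (x ^ (i : ℕ))) := by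
      funext i
      simp only [Function.comp_apply, AlgEquiv.toLinearMap_apply, hM, ← map_pow, hinc,
        Algebra.TensorProduct.tmul_pow, one_pow]
    rw [heq]
    exact h2
  -- the commuting family
  set m := Module.finrank k C with hm
  let c : Module.Basis (Fin m) k C := Module.finBasis k C
  have hw : LinearIndependent k (fun j : Fin m => (c j : A)) :=
    c.linearIndependent.map' C.subtype (Submodule.ker_subtype C)
  have hT1 := linearIndependent_baseChange F hw
  have hT : LinearIndependent F (fun j : Fin m => e' (inc (c j : A))) :=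
    hT1.map' e'.toLinearMap (LinearMap.ker_eq_bot.mpr e'.injective)
  let W : Submodule F (Module.End F (Fin n → F)) :=
    Submodule.span F (Set.range (fun j : Fin m => e' (inc (c j : A))))
  have hWrank : Module.finrank F W = m := by
    rw [finrank_span_eq_card hT, Fintype.card_fin]
  have hW : ∀ T ∈ W, T * M = M * T := by
    intro T hT
    induction hT using Submodule.span_induction with
    | mem T h =>
      obtain ⟨j, rfl⟩ := h
      simp only [hM, ← map_mul]
      rw [hC _ (c j).2]
    | zero => simp
    | add a b _ _ ha hb => rw [add_mul, mul_add, ha, hb]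
    | smul t a _ ha => rw [smul_mul_assoc, mul_smul_comm, ha]
  have hV : Module.finrank F (Fin n → F) = n := Module.finrank_fin_fun F
  have := finrank_le_of_commute hV M g hg hgM hli W hW
  rw [hWrank] at this
  exact this

end CSA

end Groth.Agent.Lib.LeadRG
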