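import Groth.Agent.Lib.LeadRG2
import Groth.Agent.Lib.LeadAzumayaLocal

/-! # Regular sections, part 3: a section of an Azumaya algebra over a local ring which is regular
on the special fibre generates a free subalgebra of rank `r`. -/

namespace Groth.Agent.Lib.LeadRG

open TensorProduct Polynomial Groth.Agent.Lib.LeadCSA Groth.Agent.Lib.LeadAzumaya

universe u

section Local

variable (R : Type u) [CommRing R] [IsLocalRing R] (A : Type u) [Ring A] [Algebra R A]
  [IsAzumaya R A]

local notation "κ" => IsLocalRing.ResidueField R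

theorem regular_section_powers_basis (r : ℕ) (hA : Module.finrank R A = r ^ 2) (ξ : A)
    (hsep : Algebra.IsSeparable κ (Algebra.adjoin κ ({(1 : κ) ⊗ₜ[R] ξ} : Set (κ ⊗[R] A))))
    (hrk : Module.finrank κ (Algebra.adjoin κ ({(1 : κ) ⊗ₜ[R] ξ} : Set (κ ⊗[R] A))) = r) :
    LinearIndependent R (fun i : Fin r => ξ ^ (i : ℕ)) ∧
      ξ ^ r ∈ Submodule.span R (Set.range (fun i : Fin r => ξ ^ (i : ℕ))) := by
  classical
  haveI : Module.Free R A := Module.free_of_flat_of_isLocalRing
  haveI : Nontrivial A := (FaithfulSMul.algebraMap_injective R A).nontrivial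
  obtain ⟨hcen, hsimp⟩ := (isAzumaya_iff_residueField R (A := A)).mp inferInstance
  haveI := hcen
  haveI := hsimp
  have hAbar : Module.finrank κ (κ ⊗[R] A) = r ^ 2 := by
    rw [Module.finrank_baseChange, hA]
  set x : κ ⊗[R] A := (1 : κ) ⊗ₜ[R] ξ with hx
  have hint : IsIntegral κ x := Algebra.IsIntegral.isIntegral x
  have hdeg : (minpoly κ x).natDegree = r := by
    rw [← finrank_adjoin_singleton x hint, hrk]
  have hxsep : (minpoly κ x).Separable := by
    have h1 := Algebra.IsSeparable.isSeparable κ
      (⟨x, Algebra.subset_adjoin (Set.mem_singleton x)⟩ : Algebra.adjoin κ ({x} : Set (κ ⊗[R] A)))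
    have h2 := minpoly.algHom_eq (Algebra.adjoin κ ({x} : Set (κ ⊗[R] A))).val
      Subtype.val_injective
      (⟨x, Algebra.subset_adjoin (Set.mem_singleton x)⟩ : Algebra.adjoin κ ({x} : Set (κ ⊗[R] A)))
    rw [IsSeparable, ← h2] at h1
    exact h1
  have hpow : ∀ n : ℕ, (1 : κ) ⊗ₜ[R] (ξ ^ n) = x ^ n := by
    intro n
    rw [hx, Algebra.TensorProduct.tmul_pow, one_pow]
  have hli0 : LinearIndependent κ (fun i : Fin r => x ^ (i : ℕ)) := by
    have := linearIndependent_pow (K := κ) x
    rw [hdeg] at this
    exact this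
  -- (1) linear independence
  have hli : LinearIndependent R (fun i : Fin r => ξ ^ (i : ℕ)) := by
    apply Module.IsLocalRing.linearIndependent_of_flat
    have heq : (TensorProduct.mk R κ A 1 ∘ fun i : Fin r => ξ ^ (i : ℕ)) =
        fun i : Fin r => x ^ (i : ℕ) := by
      funext i
      simp only [Function.comp_apply, TensorProduct.mk_apply, hpow]
    rw [heq]
    exact hli0
  refine ⟨hli, ?_⟩
  -- (2) the span
  let Nbar : Submodule κ (κ ⊗[R] A) := Submodule.span κ (Set.range (fun i : Fin r => x ^ (i : ℕ)))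
  obtain ⟨P, hP⟩ := Submodule.exists_isCompl Nbar
  set m := Module.finrank κ P with hm
  let bP : Module.Basis (Fin m) κ P := Module.finBasis κ P
  have hsurj : Function.Surjective (TensorProduct.mk R κ A 1) :=
    TensorProduct.mk_surjective R A κ Ideal.Quotient.mk_surjective
  choose b hb using fun j : Fin m => hsurj (bP j : κ ⊗[R] A)
  simp only [TensorProduct.mk_apply] at hb
  -- the commutant on the special fibre
  let adx : (κ ⊗[R] A) →ₗ[κ] (κ ⊗[R] A) := LinearMap.mulLeft κ x - LinearMap.mulRight κ x
  have hadx : ∀ y, adx y = x * y - y * x := fun y => rfl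
  let Cbar : Submodule κ (κ ⊗[R] A) := LinearMap.ker adx
  have hCcomm : ∀ c ∈ Cbar, c * x = x * c := by
    intro c hc
    have : adx c = 0 := hc
    rw [hadx, sub_eq_zero] at this
    exact this.symm
  have hCle : Module.finrank κ Cbar ≤ r := finrank_commuting_le hAbar x hxsep hdeg Cbar hCcomm
  have hNC : Nbar ≤ Cbar := by
    rw [Submodule.span_le]
    rintro _ ⟨i, rfl⟩
    change adx (x ^ (i : ℕ)) = 0
    rw [hadx, sub_eq_zero]
    exact (Commute.self_pow x _).eq
  have hNrank : Module.finrank κ Nbar = r := by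
    rw [finrank_span_eq_card hli0, Fintype.card_fin]
  have hNCeq : Nbar = Cbar :=
    Submodule.eq_of_le_of_finrank_le hNC (by rw [hNrank]; exact hCle)
  -- `ad ξ (b j)` are independent
  let adξ : A →ₗ[R] A := LinearMap.mulLeft R ξ - LinearMap.mulRight R ξ
  have hadξ : ∀ y, adξ y = ξ * y - y * ξ := fun y => rfl
  have hu : LinearIndependent κ (fun j : Fin m => (bP j : κ ⊗[R] A)) :=
    bP.linearIndependent.map' P.subtype (Submodule.ker_subtype P)
  have huspan : Submodule.span κ (Set.range (fun j : Fin m => (bP j : κ ⊗[R] A))) = P := by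
    have : (fun j : Fin m => (bP j : κ ⊗[R] A)) = P.subtype ∘ bP := rfl
    rw [this, Set.range_comp, ← Submodule.map_span, bP.span_eq, Submodule.map_top,
      Submodule.range_subtype]
  have hadli : LinearIndependent κ (adx ∘ fun j : Fin m => (bP j : κ ⊗[R] A)) := by
    apply hu.map
    rw [huspan]
    change Disjoint P Cbar
    rw [← hNCeq]
    exact hP.disjoint.symm
  have hadξli : LinearIndependent R (fun j : Fin m => adξ (b j)) := by
    apply Module.IsLocalRing.linearIndependent_of_flat
    have heq : (TensorProduct.mk R κ A 1 ∘ fun j : Fin m => adξ (b j)) =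
        (adx ∘ fun j : Fin m => (bP j : κ ⊗[R] A)) := by
      funext j
      simp only [Function.comp_apply, TensorProduct.mk_apply, hadξ, hadx, ← hb, hx,
        TensorProduct.tmul_sub, Algebra.TensorProduct.tmul_mul_tmul, one_mul]
    rw [heq]
    exact hadli
  -- spanning
  let w : Fin r ⊕ Fin m → A := Sum.elim (fun i => ξ ^ (i : ℕ)) b
  have hwspan : Submodule.span R (Set.range w) = ⊤ := by
    rw [← IsLocalRing.map_tensorProduct_mk_eq_top, Submodule.map_span,
      ← Submodule.restrictScalars_span R κ Ideal.Quotient.mk_surjective,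
      Submodule.restrictScalars_eq_top_iff, ← Set.range_comp]
    have hcomp : (TensorProduct.mk R κ A 1 ∘ w) =
        Sum.elim (fun i : Fin r => x ^ (i : ℕ)) (fun j : Fin m => (bP j : κ ⊗[R] A)) := by
      funext i
      rcases i with i | j
      · simp only [Function.comp_apply, w, Sum.elim_inl, TensorProduct.mk_apply, hpow]
      · simp only [Function.comp_apply, w, Sum.elim_inr, TensorProduct.mk_apply, hb]
    rw [hcomp, Set.Sum.elim_range, Submodule.span_union, huspan]
    exact hP.sup_eq_top
  have hmem : ξ ^ r ∈ Submodule.span R (Set.range w) := by rw [hwspan]; trivial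
  obtain ⟨c, hc⟩ := (Submodule.mem_span_range_iff_exists_fun R).mp hmem
  rw [Fintype.sum_sum_type] at hc
  simp only [w, Sum.elim_inl, Sum.elim_inr] at hc
  have hadpow : ∀ n : ℕ, adξ (ξ ^ n) = 0 := by
    intro n
    rw [hadξ, sub_eq_zero]
    exact (Commute.self_pow ξ n).eq
  have h0 := congrArg adξ hc
  rw [map_add, map_sum, map_sum, hadpow] at h0
  simp only [map_smul, hadpow, smul_zero, Finset.sum_const_zero, zero_add] at h0
  have hczero := Fintype.linearIndependent_iff.mp hadξli (fun j => c (Sum.inr j)) h0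
  rw [← hc]
  simp only [hczero, zero_smul, Finset.sum_const_zero, add_zero]
  exact Submodule.sum_mem _ fun i _ =>
    Submodule.smul_mem _ _ (Submodule.subset_span ⟨i, rfl⟩)

end Local

end Groth.Agent.Lib.LeadRG
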