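import Groth.Agent.Lib.LeadRG1
import Groth.Agent.Lib.Helper18Monogenic

/-! # Regular sections, part 4: an element with separable minimal polynomial generates an étale
(all elements separable) commutative subalgebra. -/

namespace Groth.Agent.Lib.LeadRG

open Polynomial

universe u v

section Pi

variable {K : Type*} [Field K]

/-- in a finite product of separable field extensions every element is separable -/
theorem isSeparable_pi {I : Type*} [Finite I] (Ai : I → Type*) [∀ i, Field (Ai i)]
    [∀ i, Algebra K (Ai i)] (h : ∀ i, Algebra.IsSeparable K (Ai i)) (y : Π i, Ai i) :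
    IsSeparable K y := by
  classical
  cases nonempty_fintype I
  let g : I → K[X] := fun i => minpoly K (y i)
  let S : Finset K[X] := Finset.univ.image g
  have hint : ∀ i, IsIntegral K (y i) := fun i => (Algebra.IsSeparable.isSeparable K (y i)).isIntegral
  have hGsep : (∏ q ∈ S, (fun q : K[X] => q) q).Separable := by
    apply separable_prod'
    · intro q₁ h₁ q₂ h₂ hne
      obtain ⟨i, -, rfl⟩ := Finset.mem_image.mp h₁
      obtain ⟨j, -, rfl⟩ := Finset.mem_image.mp h₂
      have hi : Irreducible (g i) := minpoly.irreducible (hint i)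
      have hj : Irreducible (g j) := minpoly.irreducible (hint j)
      rw [hi.coprime_iff_not_dvd]
      intro hdvd
      have hassoc : Associated (g i) (g j) := (hi.dvd_irreducible_iff_associated hj).mp hdvd
      exact hne (eq_of_monic_of_associated (minpoly.monic (hint i)) (minpoly.monic (hint j)) hassoc)
    · intro q hq
      obtain ⟨i, -, rfl⟩ := Finset.mem_image.mp hq
      exact Algebra.IsSeparable.isSeparable K (y i)
  have hGy : aeval y (∏ q ∈ S, (fun q : K[X] => q) q) = 0 := by
    funext i
    have h1 : (aeval y (∏ q ∈ S, (fun q : K[X] => q) q)) i =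
        aeval (y i) (∏ q ∈ S, (fun q : K[X] => q) q) := by
      have := aeval_algHom_apply (Pi.evalAlgHom K Ai i) y (∏ q ∈ S, (fun q : K[X] => q) q)
      simpa using this.symm
    rw [h1, Pi.zero_apply]
    have hmem : g i ∈ S := Finset.mem_image.mpr ⟨i, Finset.mem_univ _, rfl⟩
    obtain ⟨w, hw⟩ := Finset.dvd_prod_of_mem (fun q : K[X] => q) hmem
    rw [hw, map_mul, minpoly.aeval, zero_mul]
  exact hGsep.of_dvd (minpoly.dvd K y hGy)

end Pi

section Quot

variable {k : Type u} [Field k]

/-- `k[X]/(p)` is étale in the elementwise sense when `p` is separable -/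
theorem isSeparable_quotient_of_separable (p : k[X]) (hp : p.Monic) (hs : p.Separable) :
    Algebra.IsSeparable k (k[X] ⧸ Ideal.span {p}) := by
  have hfe := Groth.Agent.Lib.Helper18Monogenic.formallyEtale_of_separable p hp hs
  obtain ⟨I, _, Ai, _, _, e, hsep⟩ :=
    (Algebra.FormallyEtale.iff_exists_algEquiv_prod k (k[X] ⧸ Ideal.span {p})).mp hfe
  refine ⟨fun y => ?_⟩
  have h1 := isSeparable_pi Ai hsep (e y)
  rw [IsSeparable, minpoly.algEquiv_eq e y] at h1
  exact h1

variable {A : Type v} [Ring A] [Algebra k A]

/-- an element with separable minimal polynomial generates an elementwise separable subalgebra -/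
theorem isSeparable_adjoin_singleton (x : A) (hint : IsIntegral k x)
    (hs : (minpoly k x).Separable) : Algebra.IsSeparable k (Algebra.adjoin k ({x} : Set A)) := by
  set p := minpoly k x with hp
  have hpm : p.Monic := minpoly.monic hint
  have hQ := isSeparable_quotient_of_separable p hpm hs
  let φ : (k[X] ⧸ Ideal.span {p}) →ₐ[k] A :=
    Ideal.Quotient.liftₐ (Ideal.span {p}) (aeval x) (by
      intro a ha
      obtain ⟨w, rfl⟩ := Ideal.mem_span_singleton.mp ha
      rw [map_mul, hp, minpoly.aeval, zero_mul])
  have hφmk : ∀ q : k[X], φ (Ideal.Quotient.mk _ q) = aeval x q := fun q => rfl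
  have hφ : Function.Injective φ := by
    rw [injective_iff_map_eq_zero]
    intro z hz
    obtain ⟨q, rfl⟩ := Ideal.Quotient.mk_surjective z
    rw [hφmk] at hz
    rw [Ideal.Quotient.eq_zero_iff_mem, Ideal.mem_span_singleton]
    exact minpoly.dvd k x hz
  refine ⟨fun y => ?_⟩
  have hy : ∀ z : A, z ∈ Algebra.adjoin k ({x} : Set A) → ∃ q : k[X], aeval x q = z := by
    intro z hz
    rw [Algebra.adjoin_singleton_eq_range_aeval] at hz
    exact hz
  obtain ⟨q, hq⟩ := hy (y : A) y.2
  have h1 : minpoly k y = minpoly k (y : A) :=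
    (minpoly.algHom_eq (Algebra.adjoin k ({x} : Set A)).val Subtype.val_injective y).symm
  have h2 : minpoly k (y : A) = minpoly k (Ideal.Quotient.mk (Ideal.span {p}) q) := by
    have : (y : A) = φ (Ideal.Quotient.mk (Ideal.span {p}) q) := by
      rw [hφmk]; exact hq.symm
    rw [this, minpoly.algHom_eq φ hφ]
  rw [IsSeparable, h1, h2]
  exact Algebra.IsSeparable.isSeparable k _

end Quot

end Groth.Agent.Lib.LeadRG
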