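import Groth.Agent.Lib.LeadRG2
import Groth.Agent.Lib.Helper18Monogenic

/-! # Regular sections, part 7: the commutant of an étale commutative subalgebra of dimension `r`
in a central simple algebra of degree `r` has dimension `≤ r`. -/

namespace Groth.Agent.Lib.LeadRG

open TensorProduct Polynomial Groth.Agent.Lib.LeadCSA

universe u

section FL

variable {k : Type u} [Field k] {A : Type u} [Ring A] [Algebra k A] [Algebra.IsCentral k A]
  [IsSimpleRing A] [FiniteDimensional k A]

theorem finrank_commuting_le_of_unramified {r : ℕ} (hA : Module.finrank k A = r ^ 2)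
    (E : Type u) [CommRing E] [Algebra k E] [Module.Finite k E] [Algebra.FormallyUnramified k E]
    (hE : Module.finrank k E = r) (u : E →ₐ[k] A) (hu : Function.Injective u)
    (C : Submodule k A) (hC : ∀ c ∈ C, ∀ e : E, c * u e = u e * c) :
    Module.finrank k C ≤ r := by
  classical
  let F := AlgebraicClosure k
  haveI : IsSimpleRing (F ⊗[k] A) := isSimpleRing_baseChange F
  haveI : Algebra.IsCentral F (F ⊗[k] A) := isCentral_baseChange F
  obtain ⟨θ, hθ⟩ := Helper18Monogenic.exists_adjoin_eq_top_of_infinite (k := F) (C := F ⊗[k] E)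
  obtain ⟨hsep, hdeg⟩ := Helper18Monogenic.separable_of_adjoin_eq_top (k := F) (C := F ⊗[k] E) θ hθ
  let uF : (F ⊗[k] E) →ₐ[F] (F ⊗[k] A) := Algebra.TensorProduct.map (AlgHom.id F F) u
  have huF_tmul : ∀ (f : F) (e : E), uF (f ⊗ₜ[k] e) = f ⊗ₜ[k] u e := fun f e => by
    simp [uF]
  have huF : Function.Injective uF := by
    have h1 : ⇑uF = ⇑(u.toLinearMap.lTensor F) := by
      funext z
      induction z using TensorProduct.induction_on with
      | zero => simp
      | tmul f e => simp [huF_tmul]
      | add a b ha hb => simp only [map_add, ha, hb]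
    rw [h1]
    exact Module.Flat.lTensor_preserves_injective_linearMap _ hu
  set x := uF θ with hx
  have hmin : minpoly F x = minpoly F θ := minpoly.algHom_eq uF huF θ
  have hAF : Module.finrank F (F ⊗[k] A) = r ^ 2 := by rw [Module.finrank_baseChange, hA]
  have hdeg' : (minpoly F x).natDegree = r := by
    rw [hmin, hdeg, Module.finrank_baseChange, hE]
  have hsep' : (minpoly F x).Separable := by rw [hmin]; exact hsep
  -- the base change of `C`
  set n := Module.finrank k C with hn
  let b : Module.Basis (Fin n) k C := Module.finBasis k C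
  have hbli : LinearIndependent k (fun j : Fin n => (b j : A)) :=
    b.linearIndependent.map' C.subtype (Submodule.ker_subtype C)
  have hli : LinearIndependent F (fun j : Fin n => (1 : F) ⊗ₜ[k] (b j : A)) :=
    linearIndependent_baseChange F hbli
  let CF : Submodule F (F ⊗[k] A) :=
    Submodule.span F (Set.range fun j : Fin n => (1 : F) ⊗ₜ[k] (b j : A))
  have hCF : Module.finrank F CF = n := by
    rw [finrank_span_eq_card hli, Fintype.card_fin]
  have hcomm1 : ∀ (w : F ⊗[k] E) (j : Fin n),
      ((1 : F) ⊗ₜ[k] (b j : A)) * uF w = uF w * ((1 : F) ⊗ₜ[k] (b j : A)) := by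
    intro w j
    induction w using TensorProduct.induction_on with
    | zero => simp
    | tmul f e =>
      rw [huF_tmul, Algebra.TensorProduct.tmul_mul_tmul, Algebra.TensorProduct.tmul_mul_tmul,
        one_mul, mul_one, hC _ (b j).2 e]
    | add a b' ha hb => rw [map_add, mul_add, add_mul, ha, hb]
  have hcomm : ∀ c ∈ CF, c * x = x * c := by
    intro c hc
    induction hc using Submodule.span_induction with
    | mem y hy =>
      obtain ⟨j, rfl⟩ := hy
      exact hcomm1 θ j
    | zero => simp
    | add y z _ _ hy hz => rw [add_mul, mul_add, hy, hz]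
    | smul f y _ hy => rw [smul_mul_assoc, mul_smul_comm, hy]
  have := finrank_commuting_le hAF x hsep' hdeg' CF hcomm
  rw [hCF] at this
  exact this

end FL

end Groth.Agent.Lib.LeadRG
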