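import Groth.Agent.Lib.LeadRG7
import Groth.Agent.Lib.LeadAzumayaLocal

/-! # Regular sections, part 8: over a local ring, a finite étale commutative subalgebra of rank `r`
of an Azumaya algebra of degree `r` (injective on the special fibre) is its own commutant. -/

namespace Groth.Agent.Lib.LeadRG

open TensorProduct Polynomial Groth.Agent.Lib.LeadCSA Groth.Agent.Lib.LeadAzumaya

universe u

section Local

variable (R : Type u) [CommRing R] [IsLocalRing R] (A : Type u) [Ring A] [Algebra R A]
  [IsAzumaya R A]

local notation "κ" => IsLocalRing.ResidueField R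

theorem mem_range_of_commute (r : ℕ) (hA : Module.finrank R A = r ^ 2)
    (E : Type u) [CommRing E] [Algebra R E] [Algebra.FormallyUnramified R E] [Module.Finite R E]
    [Module.Free R E] (hE : Module.finrank R E = r) (u : E →ₐ[R] A)
    (hu : Function.Injective (u.toLinearMap.lTensor κ)) (c : A)
    (hc : ∀ e : E, c * u e = u e * c) : c ∈ Set.range u := by
  classical
  haveI : Module.Free R A := Module.free_of_flat_of_isLocalRing
  haveI : Nontrivial A := (FaithfulSMul.algebraMap_injective R A).nontrivial
  obtain ⟨hcen, hsimp⟩ := (isAzumaya_iff_residueField R (A := A)).mp inferInstance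
  haveI := hcen
  haveI := hsimp
  have hAbar : Module.finrank κ (κ ⊗[R] A) = r ^ 2 := by
    rw [Module.finrank_baseChange, hA]
  have hEbar : Module.finrank κ (κ ⊗[R] E) = r := by
    rw [Module.finrank_baseChange, hE]
  let ε : Module.Basis (Fin r) R E := Module.finBasisOfFinrankEq R E hE
  let v : Fin r → A := fun j => u (ε j)
  have hvcomm : ∀ i j, v j * v i = v i * v j := by
    intro i j
    change u (ε j) * u (ε i) = u (ε i) * u (ε j)
    rw [← map_mul u, ← map_mul u, mul_comm]
  let ubar : (κ ⊗[R] E) →ₐ[κ] (κ ⊗[R] A) := Algebra.TensorProduct.map (AlgHom.id κ κ) u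
  have hubar_tmul : ∀ (f : κ) (e : E), ubar (f ⊗ₜ[R] e) = f ⊗ₜ[R] u e := fun f e => by
    simp [ubar]
  have hubar : Function.Injective ubar := by
    have h1 : ⇑ubar = ⇑(u.toLinearMap.lTensor κ) := by
      funext z
      induction z using TensorProduct.induction_on with
      | zero => simp
      | tmul f e => simp [hubar_tmul]
      | add a b ha hb => simp only [map_add, ha, hb]
    rw [h1]
    exact hu
  let x : Fin r → κ ⊗[R] A := fun j => (1 : κ) ⊗ₜ[R] v j
  have hxcomm : ∀ i j, x j * x i = x i * x j := by
    intro i j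
    change (1 : κ) ⊗ₜ[R] v j * (1 : κ) ⊗ₜ[R] v i = (1 : κ) ⊗ₜ[R] v i * (1 : κ) ⊗ₜ[R] v j
    rw [Algebra.TensorProduct.tmul_mul_tmul, Algebra.TensorProduct.tmul_mul_tmul, hvcomm]
  let εbar : Module.Basis (Fin r) κ (κ ⊗[R] E) := ε.baseChange κ
  have hεbar : ∀ j, εbar j = (1 : κ) ⊗ₜ[R] ε j := fun j => Module.Basis.baseChange_apply _ _ _
  have hxli : LinearIndependent κ x := by
    have h1 := εbar.linearIndependent.map' ubar.toLinearMap (LinearMap.ker_eq_bot.mpr hubar)
    have h2 : (⇑ubar.toLinearMap ∘ ⇑εbar) = x := by
      funext j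
      simp only [Function.comp_apply, AlgHom.toLinearMap_apply, hεbar, hubar_tmul, x, v]
    rw [h2] at h1
    exact h1
  -- the commutant on the special fibre
  let adx : (κ ⊗[R] A) →ₗ[κ] (Fin r → κ ⊗[R] A) :=
    LinearMap.pi fun j => LinearMap.mulLeft κ (x j) - LinearMap.mulRight κ (x j)
  have hadx : ∀ y j, adx y j = x j * y - y * x j := fun y j => rfl
  let Cbar : Submodule κ (κ ⊗[R] A) := LinearMap.ker adx
  have hCcomm : ∀ c ∈ Cbar, ∀ e : κ ⊗[R] E, c * ubar e = ubar e * c := by
    intro c hc e
    have hc' : ∀ j, c * x j = x j * c := by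
      intro j
      have h0 : adx c = 0 := hc
      have : adx c j = 0 := by rw [h0]; rfl
      rw [hadx, sub_eq_zero] at this
      exact this.symm
    have hmem : e ∈ Submodule.span κ (Set.range εbar) := by rw [εbar.span_eq]; trivial
    induction hmem using Submodule.span_induction with
    | mem y hy =>
      obtain ⟨j, rfl⟩ := hy
      rw [hεbar, hubar_tmul]
      exact hc' j
    | zero => simp
    | add y z _ _ hy hz => rw [map_add, mul_add, add_mul, hy, hz]
    | smul f y _ hy => rw [map_smul, mul_smul_comm, smul_mul_assoc, hy]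
  have hCle : Module.finrank κ Cbar ≤ r :=
    finrank_commuting_le_of_unramified hAbar (κ ⊗[R] E) hEbar ubar hubar Cbar hCcomm
  let Nbar : Submodule κ (κ ⊗[R] A) := Submodule.span κ (Set.range x)
  have hNC : Nbar ≤ Cbar := by
    rw [Submodule.span_le]
    rintro _ ⟨i, rfl⟩
    change adx (x i) = 0
    funext j
    rw [hadx, Pi.zero_apply, sub_eq_zero]
    exact hxcomm i j
  have hNrank : Module.finrank κ Nbar = r := by
    rw [finrank_span_eq_card hxli, Fintype.card_fin]
  have hNCeq : Nbar = Cbar :=
    Submodule.eq_of_le_of_finrank_le hNC (by rw [hNrank]; exact hCle)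
  obtain ⟨P, hP⟩ := Submodule.exists_isCompl Nbar
  set m := Module.finrank κ P with hm
  let bP : Module.Basis (Fin m) κ P := Module.finBasis κ P
  have hsurj : Function.Surjective (TensorProduct.mk R κ A 1) :=
    TensorProduct.mk_surjective R A κ Ideal.Quotient.mk_surjective
  choose b hb using fun j : Fin m => hsurj (bP j : κ ⊗[R] A)
  simp only [TensorProduct.mk_apply] at hb
  let adv : A →ₗ[R] (Fin r → A) :=
    LinearMap.pi fun j => LinearMap.mulLeft R (v j) - LinearMap.mulRight R (v j)
  have hadv : ∀ y j, adv y j = v j * y - y * v j := fun y j => rfl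
  have hu' : LinearIndependent κ (fun j : Fin m => (bP j : κ ⊗[R] A)) :=
    bP.linearIndependent.map' P.subtype (Submodule.ker_subtype P)
  have huspan : Submodule.span κ (Set.range (fun j : Fin m => (bP j : κ ⊗[R] A))) = P := by
    have : (fun j : Fin m => (bP j : κ ⊗[R] A)) = P.subtype ∘ bP := rfl
    rw [this, Set.range_comp, ← Submodule.map_span, bP.span_eq, Submodule.map_top,
      Submodule.range_subtype]
  have hadli : LinearIndependent κ (adx ∘ fun j : Fin m => (bP j : κ ⊗[R] A)) := by
    apply hu'.map
    rw [huspan]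
    change Disjoint P Cbar
    rw [← hNCeq]
    exact hP.disjoint.symm
  have hadvli : LinearIndependent R (fun l : Fin m => adv (b l)) := by
    apply Module.IsLocalRing.linearIndependent_of_flat
    apply LinearIndependent.of_comp (TensorProduct.piRight R κ κ (fun _ : Fin r => A)).toLinearMap
    have heq : ((TensorProduct.piRight R κ κ (fun _ : Fin r => A)).toLinearMap ∘
        (TensorProduct.mk R κ (Fin r → A) 1 ∘ fun l : Fin m => adv (b l))) =
        (adx ∘ fun j : Fin m => (bP j : κ ⊗[R] A)) := by
      funext l j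
      simp only [Function.comp_apply, TensorProduct.mk_apply, LinearEquiv.coe_coe,
        TensorProduct.piRight_apply, TensorProduct.piRightHom_tmul, hadv, hadx, ← hb, x,
        TensorProduct.tmul_sub, Algebra.TensorProduct.tmul_mul_tmul, one_mul]
    rw [heq]
    exact hadli
  -- spanning
  let w : Fin r ⊕ Fin m → A := Sum.elim v b
  have hwspan : Submodule.span R (Set.range w) = ⊤ := by
    rw [← IsLocalRing.map_tensorProduct_mk_eq_top, Submodule.map_span,
      ← Submodule.restrictScalars_span R κ Ideal.Quotient.mk_surjective,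
      Submodule.restrictScalars_eq_top_iff, ← Set.range_comp]
    have hcomp : (TensorProduct.mk R κ A 1 ∘ w) =
        Sum.elim x (fun j : Fin m => (bP j : κ ⊗[R] A)) := by
      funext i
      rcases i with i | j
      · simp only [Function.comp_apply, w, Sum.elim_inl, TensorProduct.mk_apply, x]
      · simp only [Function.comp_apply, w, Sum.elim_inr, TensorProduct.mk_apply, hb]
    rw [hcomp, Set.Sum.elim_range, Submodule.span_union, huspan]
    exact hP.sup_eq_top
  have hmem : c ∈ Submodule.span R (Set.range w) := by rw [hwspan]; trivial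
  obtain ⟨a, ha⟩ := (Submodule.mem_span_range_iff_exists_fun R).mp hmem
  rw [Fintype.sum_sum_type] at ha
  simp only [w, Sum.elim_inl, Sum.elim_inr] at ha
  have hadv_v : ∀ i, adv (v i) = 0 := by
    intro i
    funext j
    rw [hadv, Pi.zero_apply, sub_eq_zero]
    exact hvcomm i j
  have hadv_c : adv c = 0 := by
    funext j
    rw [hadv, Pi.zero_apply, sub_eq_zero]
    exact (hc (ε j)).symm
  have h0 := congrArg adv ha
  rw [map_add, map_sum, map_sum, hadv_c] at h0
  simp only [map_smul, hadv_v, smul_zero, Finset.sum_const_zero, zero_add] at h0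
  have hczero := Fintype.linearIndependent_iff.mp hadvli (fun j => a (Sum.inr j)) h0
  refine ⟨∑ i, a (Sum.inl i) • ε i, ?_⟩
  rw [← ha]
  simp only [hczero, zero_smul, Finset.sum_const_zero, add_zero, map_sum, map_smul]
  rfl

end Local

end Groth.Agent.Lib.LeadRG
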