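import Mathlib

/-! Analytic lemma for the Riemann hypothesis: bounded power sums force bounded terms. -/

namespace Groth.Agent.Lib.LeadRH

open Filter Topology

/-- simultaneous recurrence on a torus. -/
theorem exists_pow_near_one {n : ℕ} (z : Fin n → Circle) (ε : ℝ) (hε : 0 < ε) (S₀ : ℕ)
    (hS₀ : 0 < S₀) :
    ∃ s : ℕ, 0 < s ∧ S₀ ∣ s ∧ ∀ i, ‖((z i : ℂ)) ^ s - 1‖ < ε := by
  let w : ℕ → (Fin n → Circle) := fun j i => z i ^ (j * S₀)
  obtain ⟨a, φ, hφ, hlim⟩ := CompactSpace.tendsto_subseq w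
  have hev : ∀ᶠ j in atTop, dist (w (φ j)) a < ε / 2 :=
    (Metric.tendsto_nhds.mp hlim) (ε / 2) (by linarith)
  obtain ⟨J, hJ⟩ := eventually_atTop.mp hev
  have h1 := hJ J le_rfl
  have h2 := hJ (J + 1) (by omega)
  have hd : dist (w (φ J)) (w (φ (J + 1))) < ε := by
    calc dist (w (φ J)) (w (φ (J + 1))) ≤ dist (w (φ J)) a + dist a (w (φ (J + 1))) :=
          dist_triangle _ _ _
      _ < ε / 2 + ε / 2 := by
          rw [dist_comm a]; exact add_lt_add h1 h2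
      _ = ε := by ring
  have hlt : φ J < φ (J + 1) := hφ (by omega)
  refine ⟨(φ (J + 1) - φ J) * S₀, Nat.mul_pos (by omega) hS₀, Dvd.intro_left _ rfl, ?_⟩
  intro i
  have hi : dist (w (φ J) i) (w (φ (J + 1)) i) < ε :=
    lt_of_le_of_lt (dist_le_pi_dist _ _ i) hd
  change dist ((w (φ J) i : Circle) : ℂ) ((w (φ (J + 1)) i : Circle) : ℂ) < ε at hi
  rw [Complex.dist_eq] at hi
  have hw1 : ((w (φ J) i : Circle) : ℂ) = (z i : ℂ) ^ (φ J * S₀) := by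
    simp [w]
  have hw2 : ((w (φ (J + 1)) i : Circle) : ℂ) = (z i : ℂ) ^ (φ (J + 1) * S₀) := by
    simp [w]
  rw [hw1, hw2] at hi
  have hsplit : φ (J + 1) * S₀ = φ J * S₀ + (φ (J + 1) - φ J) * S₀ := by
    rw [← Nat.add_mul]; congr 1; omega
  rw [hsplit, pow_add] at hi
  have hfac : (z i : ℂ) ^ (φ J * S₀) - (z i : ℂ) ^ (φ J * S₀) * (z i : ℂ) ^ ((φ (J + 1) - φ J) * S₀)
      = - ((z i : ℂ) ^ (φ J * S₀) * ((z i : ℂ) ^ ((φ (J + 1) - φ J) * S₀) - 1)) := by ring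
  rw [hfac, norm_neg, norm_mul, norm_pow, Circle.norm_coe, one_pow, one_mul] at hi
  exact hi

lemma exists_circle (β : ℂ) : ∃ z : Circle, β = (‖β‖ : ℂ) * (z : ℂ) := by
  by_cases h : β = 0
  · exact ⟨1, by simp [h]⟩
  · have hn : (‖β‖ : ℂ) ≠ 0 := by
      rw [Ne, Complex.ofReal_eq_zero, norm_eq_zero]; exact h
    refine ⟨⟨β / (‖β‖ : ℂ), mem_sphere_zero_iff_norm.2 ?_⟩, ?_⟩
    · rw [norm_div, Complex.norm_real, norm_norm, div_self (norm_ne_zero_iff.mpr h)]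
    · show β = (‖β‖ : ℂ) * (β / (‖β‖ : ℂ))
      field_simp

/-- bounded power sums force bounded terms. -/
theorem norm_le_of_power_sums {n : ℕ} (β : Fin n → ℂ) (B C : ℝ) (hB : 0 < B) (s₁ : ℕ)
    (h : ∀ s : ℕ, s₁ ≤ s → ‖∑ i, β i ^ s‖ ≤ C * B ^ s) : ∀ i, ‖β i‖ ≤ B := by
  by_contra hcon
  push_neg at hcon
  obtain ⟨i₀, hi₀⟩ := hcon
  set ρ := ‖β i₀‖ with hρ
  have hρ0 : 0 < ρ := lt_trans hB hi₀
  choose z hz using fun i => exists_circle (β i)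
  have hratio : 1 < ρ / B := (one_lt_div hB).mpr hi₀
  -- choose `S₀` large
  obtain ⟨S₀, hS₀⟩ : ∃ S₀ : ℕ, 2 * C < (ρ / B) ^ S₀ := pow_unbounded_of_one_lt _ hratio
  set S₁ := max (max S₀ s₁) 1 with hS₁
  have hS₁pos : 0 < S₁ := lt_of_lt_of_le Nat.one_pos (le_max_right _ _)
  obtain ⟨s, hs0, hsdvd, hsnear⟩ := exists_pow_near_one z (1 / 2) (by norm_num) S₁ hS₁pos
  have hsge : S₁ ≤ s := Nat.le_of_dvd hs0 hsdvd
  have hs₁ : s₁ ≤ s := le_trans (le_trans (le_max_right _ _) (le_max_left _ _)) hsge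
  have hsS₀ : S₀ ≤ s := le_trans (le_trans (le_max_left _ _) (le_max_left _ _)) hsge
  have hbound := h s hs₁
  -- real parts
  have hre : ∀ i, (1 / 2 : ℝ) * ‖β i‖ ^ s ≤ (β i ^ s).re := by
    intro i
    have hzi : β i ^ s = ((‖β i‖ ^ s : ℝ) : ℂ) * ((z i : ℂ) ^ s) := by
      conv_lhs => rw [hz i]
      rw [mul_pow]; push_cast; ring
    rw [hzi, Complex.re_ofReal_mul]
    have hnear := hsnear i
    have hre1 : (1 / 2 : ℝ) ≤ ((z i : ℂ) ^ s).re := by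
      have h1 : |((z i : ℂ) ^ s - 1).re| ≤ ‖(z i : ℂ) ^ s - 1‖ := Complex.abs_re_le_norm _
      have h2 : ((z i : ℂ) ^ s - 1).re = ((z i : ℂ) ^ s).re - 1 := by simp
      rw [h2] at h1
      have := abs_lt.mp (lt_of_le_of_lt h1 hnear)
      linarith [this.1]
    have hpos : (0 : ℝ) ≤ ‖β i‖ ^ s := by positivity
    nlinarith
  have hsum : (1 / 2 : ℝ) * ρ ^ s ≤ ‖∑ i, β i ^ s‖ := by
    calc (1 / 2 : ℝ) * ρ ^ s ≤ ∑ i, (1 / 2 : ℝ) * ‖β i‖ ^ s := by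
          have := Finset.single_le_sum (f := fun i => (1 / 2 : ℝ) * ‖β i‖ ^ s)
            (fun i _ => by positivity) (Finset.mem_univ i₀)
          simpa [hρ] using this
      _ ≤ ∑ i, (β i ^ s).re := Finset.sum_le_sum (fun i _ => hre i)
      _ = (∑ i, β i ^ s).re := by rw [Complex.re_sum]
      _ ≤ ‖∑ i, β i ^ s‖ := Complex.re_le_norm _
  have hBs : 0 < B ^ s := by positivity
  have h3 : (ρ / B) ^ s ≤ 2 * C := by
    rw [div_pow, div_le_iff₀ hBs]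
    linarith
  have h4 : (ρ / B) ^ S₀ ≤ (ρ / B) ^ s := pow_le_pow_right₀ hratio.le hsS₀
  linarith

end Groth.Agent.Lib.LeadRH
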