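import Groth.Agent.Lib.LeadFF27
import Groth.Agent.Lib.LeadFF22
import Groth.Agent.Lib.LeadFF12

/-! The Bombieri–Stepanov upper bound, twisted by an automorphism. -/

namespace Groth.Agent.Lib.LeadRH

attribute [-instance] IsLocalRing.instModuleResidueFieldOfAlgebra

open FunFld WithZero Groth.Agent.Lib.LeadFF

/-- counting the jumps of a function with unit steps. -/
lemma card_jumps (c : ℤ → ℕ) (h0 : c (-1) = 0) (hstep : ∀ j, c j ≤ c (j - 1) + 1) (M : ℕ) :
    c M ≤ ((Finset.range (M + 1)).filter (fun j : ℕ => c ((j : ℤ) - 1) < c j)).card := by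
  induction M with
  | zero =>
    have h1 := hstep 0
    rw [show (0 : ℤ) - 1 = -1 by norm_num, h0] at h1
    by_cases hlt : c (-1) < c 0
    · have : ((Finset.range (0 + 1)).filter (fun j : ℕ => c ((j : ℤ) - 1) < c j)) = {0} := by
        ext j
        simp only [Finset.mem_filter, Finset.mem_range, Finset.mem_singleton]
        constructor
        · intro h; omega
        · rintro rfl
          refine ⟨by omega, ?_⟩
          simpa using hlt
      rw [this, Finset.card_singleton]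
      simpa using h1
    · rw [h0] at hlt
      have : c 0 = 0 := by omega
      simp [this]
  | succ M ih =>
    have h1 := hstep ((M + 1 : ℕ) : ℤ)
    have hM : ((M + 1 : ℕ) : ℤ) - 1 = (M : ℤ) := by push_cast; ring
    rw [hM] at h1
    rw [Finset.range_add_one (n := M + 1), Finset.filter_insert]
    split_ifs with hlt
    · rw [Finset.card_insert_of_notMem (by simp)]
      omega
    · rw [hM] at hlt
      omega

section Val

variable {K : Type*} [Field K] (v : Valuation K (WithZero (Multiplicative ℤ)))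

/-- a finite sum of terms with pairwise distinct valuations does not vanish. -/
lemma sum_ne_zero_of_distinct {ι : Type*} (t : Finset ι) (f : ι → K)
    (hd : ∀ i ∈ t, ∀ j ∈ t, i ≠ j → f i ≠ 0 → v (f i) ≠ v (f j))
    (hne : ∃ i ∈ t, f i ≠ 0) : ∑ i ∈ t, f i ≠ 0 := by
  classical
  obtain ⟨i₁, hi₁, hfi₁⟩ := hne
  obtain ⟨i₀, hi₀, hmax⟩ := Finset.exists_max_image t (fun i => v (f i)) ⟨i₁, hi₁⟩
  have hv0 : v (f i₀) ≠ 0 := by
    have h1 : v (f i₁) ≤ v (f i₀) := hmax i₁ hi₁
    have h2 : v (f i₁) ≠ 0 := (Valuation.ne_zero_iff v).mpr hfi₁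
    intro h0
    rw [h0] at h1
    exact h2 (le_antisymm h1 zero_le')
  have hfi₀ : f i₀ ≠ 0 := (Valuation.ne_zero_iff v).mp hv0
  have hlt : ∀ j ∈ t.erase i₀, v (f j) < v (f i₀) := by
    intro j hj
    have hj' := Finset.mem_erase.mp hj
    exact lt_of_le_of_ne (hmax j hj'.2) (fun h => hd i₀ hi₀ j hj'.2 (Ne.symm hj'.1) hfi₀ h.symm)
  have hrest : v (∑ j ∈ t.erase i₀, f j) < v (f i₀) := Valuation.map_sum_lt v hv0 hlt
  rw [← Finset.add_sum_erase t f hi₀]
  intro hzero
  have : v (f i₀ + ∑ j ∈ t.erase i₀, f j) = v (f i₀) := Valuation.map_add_eq_of_lt_left v hrest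
  rw [hzero, map_zero] at this
  exact hv0 this.symm

lemma eq_exp_of_lt_of_le {x : WithZero (Multiplicative ℤ)} {j : ℤ} (h1 : exp (j - 1) < x)
    (h2 : x ≤ exp j) : x = exp j := by
  have hx0 : x ≠ 0 := by
    intro h; rw [h] at h1; exact not_lt.mpr zero_le' h1
  rw [← exp_log hx0] at h1 h2 ⊢
  rw [exp_lt_exp] at h1
  rw [exp_le_exp] at h2
  congr 1
  omega

end Val

variable {k E : Type*} [Field k] [Field E] [Algebra k E]

/-- the places at which `σ` induces the `N`-th power map on the residue field. -/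
def SFix (σ : E ≃ₐ[k] E) (N : ℕ) : Set (Place k E) :=
  {P | ∀ z : E, P.1 z ≤ 1 → P.1 (σ z - z ^ N) < 1}

lemma sum_pow_of_add {s : ℕ} (hs0 : 0 < s) (hadd : ∀ x y : E, (x + y) ^ s = x ^ s + y ^ s)
    {ι : Type*} (t : Finset ι) (f : ι → E) : (∑ i ∈ t, f i) ^ s = ∑ i ∈ t, f i ^ s := by
  classical
  induction t using Finset.induction_on with
  | empty => simp [zero_pow hs0.ne']
  | insert a t ha ih => rw [Finset.sum_insert ha, Finset.sum_insert ha, hadd, ih]

/-- the pole divisor `j Q₀`. -/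
noncomputable def Dp (Q₀ : Place k E) (j : ℤ) : Divisor k E := Finsupp.single Q₀ j

lemma Dp_apply_self (Q₀ : Place k E) (j : ℤ) : Dp Q₀ j Q₀ = j := Finsupp.single_eq_same

lemma Dp_apply_ne (Q₀ : Place k E) (j : ℤ) {P : Place k E} (h : P ≠ Q₀) : Dp Q₀ j P = 0 :=
  Finsupp.single_eq_of_ne (Ne.symm (fun h' => h h'.symm))

lemma deg_Dp (Q₀ : Place k E) (hQ₀ : Q₀.deg = 1) (j : ℤ) : (Dp Q₀ j).deg = j := by
  unfold Dp; rw [deg_single, hQ₀]; simp

lemma val_le_one_of_mem_Dp {Q₀ P : Place k E} (h : P ≠ Q₀) {j : ℤ} {x : E} (hx : x ∈ L (Dp Q₀ j)) :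
    P.1 x ≤ 1 := by
  have := hx P
  rwa [Dp_apply_ne Q₀ j h, exp_zero] at this

theorem twisted_bombieri (hE : IsFunctionField k E) (σ : E ≃ₐ[k] E) (s : ℕ) (hs0 : 0 < s)
    (hadd : ∀ x y : E, (x + y) ^ s = x ^ s + y ^ s)
    (hg : (genus k E + 1) ^ 2 < s) (Q₀ : Place k E) (hQ₀ : Q₀.deg = 1) :
    (SFix σ (s * s)).Finite ∧ ∀ T : Finset (Place k E), (∀ P ∈ T, P ∈ SFix σ (s * s)) →
      ∑ P ∈ T, P.deg ≤ s * s + (2 * genus k E + 1) * s := by
  classical
  set g := genus k E with hgdef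
  set m : ℕ := s - 1 with hm
  set n : ℕ := 2 * g + s with hn
  have hfin : ∀ D : Divisor k E, FiniteDimensional k (L D) := fun D => L_finite hE D
  -- the pole numbers
  let c : ℤ → ℕ := fun j => ell (Dp Q₀ j)
  have hc0 : c (-1) = 0 := by
    show ell (Dp Q₀ (-1)) = 0
    unfold ell
    rw [L_eq_bot_of_deg_neg hE _ (by rw [deg_Dp Q₀ hQ₀]; norm_num)]
    exact finrank_bot k E
  have hcstep : ∀ j, c j ≤ c (j - 1) + 1 := by
    intro j
    have := ell_step_one hE (Dp Q₀ j) Q₀ hQ₀
    have heq : Dp Q₀ j - Finsupp.single Q₀ 1 = Dp Q₀ (j - 1) := by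
      unfold Dp; rw [← Finsupp.single_sub]
    rwa [heq] at this
  let Tj := (Finset.range (m + 1)).filter (fun j : ℕ => c ((j : ℤ) - 1) < c j)
  have hTcard : ell (Dp Q₀ m) ≤ Tj.card := card_jumps c hc0 hcstep m
  have hTmem : ∀ j ∈ Tj, j ≤ m ∧ ell (Dp Q₀ ((j : ℤ) - 1)) < ell (Dp Q₀ j) := by
    intro j hj
    have := Finset.mem_filter.mp hj
    exact ⟨by have := Finset.mem_range.mp this.1; omega, this.2⟩
  -- the functions `u j`
  have hex : ∀ j : Tj, ∃ u : E, u ∈ L (Dp Q₀ (j.1 : ℤ)) ∧ Q₀.1 u = exp ((j.1 : ℕ) : ℤ) := by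
    intro j
    have hlt := (hTmem j.1 j.2).2
    have hle : L (Dp Q₀ ((j.1 : ℤ) - 1)) ≤ L (Dp Q₀ (j.1 : ℤ)) := by
      apply L_mono
      intro P
      by_cases hP : P = Q₀
      · subst hP; rw [Dp_apply_self, Dp_apply_self]; omega
      · rw [Dp_apply_ne _ _ hP, Dp_apply_ne _ _ hP]
    have hne : L (Dp Q₀ ((j.1 : ℤ) - 1)) ≠ L (Dp Q₀ (j.1 : ℤ)) := by
      intro h
      unfold ell at hlt
      rw [h] at hlt
      exact lt_irrefl _ hlt
    obtain ⟨u, hu, hun⟩ := SetLike.exists_of_lt (lt_of_le_of_ne hle hne)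
    refine ⟨u, hu, ?_⟩
    have h2 : Q₀.1 u ≤ exp (j.1 : ℤ) := by
      have := hu Q₀; rwa [Dp_apply_self] at this
    have h1 : exp ((j.1 : ℤ) - 1) < Q₀.1 u := by
      by_contra hcon
      apply hun
      intro P
      by_cases hP : P = Q₀
      · subst hP; rw [Dp_apply_self]; exact not_lt.mp hcon
      · rw [Dp_apply_ne _ _ hP]
        have := hu P
        rwa [Dp_apply_ne _ _ hP] at this
    exact eq_exp_of_lt_of_le h1 h2
  choose u hu using hex
  have huL : ∀ j : Tj, ∀ P : Place k E, P ≠ Q₀ → P.1 (u j) ≤ 1 := fun j P hP =>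
    val_le_one_of_mem_Dp hP (hu j).1
  -- the linear map
  let Q₀' : Place k E := cm (K := k) Q₀ σ⁻¹
  have hQ₀' : ∀ P : Place k E, cm (K := k) P σ = Q₀ ↔ P = Q₀' := by
    intro P
    constructor
    · intro h
      show P = cm (K := k) Q₀ σ⁻¹
      rw [← h, cm_cm, mul_inv_cancel, cm_one]
    · intro h
      rw [h]
      show cm (K := k) (cm (K := k) Q₀ σ⁻¹) σ = Q₀
      rw [cm_cm, inv_mul_cancel, cm_one]
  have hdegQ₀' : Q₀'.deg = 1 := by rw [deg_cm, hQ₀]
  let D₂ : Divisor k E := Finsupp.single Q₀ ((s * m : ℕ) : ℤ) + Finsupp.single Q₀' (n : ℤ)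
  let Ψ : (Tj → L (Dp Q₀ n)) →ₗ[k] E :=
    ∑ j : Tj, (LinearMap.mulLeft k (u j ^ s)).comp
      (σ.toLinearMap.comp ((L (Dp Q₀ n)).subtype.comp (LinearMap.proj j)))
  have hΨ : ∀ z : Tj → L (Dp Q₀ n), Ψ z = ∑ j : Tj, u j ^ s * σ (z j : E) := by
    intro z
    simp only [Ψ, LinearMap.sum_apply, LinearMap.comp_apply, LinearMap.mulLeft_apply,
      AlgEquiv.toLinearMap_apply, Submodule.subtype_apply, LinearMap.proj_apply]
  have hrange : LinearMap.range Ψ ≤ L D₂ := by
    rintro _ ⟨z, rfl⟩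
    rw [hΨ]
    apply Submodule.sum_mem
    intro j _
    intro P
    rw [map_mul, map_pow]
    have h1 : P.1 (u j) ^ s ≤ exp ((Finsupp.single Q₀ ((s * m : ℕ) : ℤ) : Divisor k E) P) := by
      by_cases hP : P = Q₀
      · subst hP
        rw [Finsupp.single_eq_same, (hu j).2]
        rw [← exp_nsmul, exp_le_exp]
        have := (hTmem j.1 j.2).1
        rw [nsmul_eq_mul]
        push_cast
        have hs' : (0 : ℤ) ≤ s := by positivity
        have hjm : ((j.1 : ℕ) : ℤ) ≤ m := by exact_mod_cast this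
        nlinarith
      · rw [Finsupp.single_eq_of_ne (Ne.symm (fun h' => hP h'.symm)), exp_zero]
        exact pow_le_one' (huL j P hP) s
    have h2 : P.1 (σ (z j : E)) ≤ exp ((Finsupp.single Q₀' (n : ℤ) : Divisor k E) P) := by
      have h3 : P.1 (σ (z j : E)) = (cm (K := k) P σ).1 (z j : E) := rfl
      rw [h3]
      have h4 := (z j).2 (cm (K := k) P σ)
      by_cases hP : P = Q₀'
      · have hcm : cm (K := k) P σ = Q₀ := (hQ₀' P).mpr hP
        rw [hcm, Dp_apply_self] at h4
        rw [hcm, hP, Finsupp.single_eq_same]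
        exact h4
      · have hne : cm (K := k) P σ ≠ Q₀ := fun h => hP ((hQ₀' P).mp h)
        rw [Dp_apply_ne _ _ hne] at h4
        rwa [Finsupp.single_eq_of_ne (Ne.symm (fun h' => hP h'.symm))]
    calc P.1 (u j) ^ s * P.1 (σ (z j : E))
        ≤ exp ((Finsupp.single Q₀ ((s * m : ℕ) : ℤ) : Divisor k E) P) *
          exp ((Finsupp.single Q₀' (n : ℤ) : Divisor k E) P) := mul_le_mul' h1 h2
      _ = exp (D₂ P) := by rw [← exp_add]; rfl
  -- dimension count
  have hdegD₂ : D₂.deg = (s * m : ℕ) + n := by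
    show Divisor.deg (Finsupp.single Q₀ ((s * m : ℕ) : ℤ) + Finsupp.single Q₀' (n : ℤ) : Divisor k E) = _
    rw [deg_add, deg_single, deg_single, hQ₀, hdegQ₀']
    push_cast; ring
  have hs1 : 1 ≤ s := hs0
  have hmZ : (m : ℤ) = s - 1 := by rw [hm]; omega
  have hnZ : (n : ℤ) = 2 * g + s := by rw [hn]; push_cast; ring
  have hgs : ((g : ℤ) + 1) ^ 2 < s := by exact_mod_cast hg
  have hellD₂ : (ell D₂ : ℤ) = (s * m : ℕ) + n + 1 - g := by
    rw [ell_of_deg_ge hE D₂ (by rw [hdegD₂, hnZ]; push_cast; nlinarith [sq_nonneg ((g : ℤ))]),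
      hdegD₂]
  have hellm : (m : ℤ) + 1 - g ≤ ell (Dp Q₀ m) := by
    have := (riemann hE).1 (Dp Q₀ m)
    rw [deg_Dp Q₀ hQ₀] at this
    linarith
  have helln : (n : ℤ) + 1 - g ≤ ell (Dp Q₀ n) := by
    have := (riemann hE).1 (Dp Q₀ n)
    rw [deg_Dp Q₀ hQ₀] at this
    linarith
  have hfinV : Module.finrank k (Tj → L (Dp Q₀ n)) = Tj.card * ell (Dp Q₀ n) := by
    rw [Module.finrank_pi_fintype, Finset.sum_const, smul_eq_mul, Finset.card_univ,
      Fintype.card_coe]
    rfl
  have hker : ∃ z : Tj → L (Dp Q₀ n), z ≠ 0 ∧ Ψ z = 0 := by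
    have h1 := LinearMap.finrank_range_add_finrank_ker Ψ
    have h2 : Module.finrank k (LinearMap.range Ψ) ≤ ell D₂ := Submodule.finrank_mono hrange
    have h3 : ell D₂ < Module.finrank k (Tj → L (Dp Q₀ n)) := by
      rw [hfinV]
      have hA : (s : ℤ) - g ≤ Tj.card := by
        have : (ell (Dp Q₀ m) : ℤ) ≤ Tj.card := by exact_mod_cast hTcard
        linarith
      have hB : (g : ℤ) + s + 1 ≤ ell (Dp Q₀ n) := by linarith
      have hA0 : (0 : ℤ) < (s : ℤ) - g := by nlinarith [sq_nonneg ((g : ℤ))]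
      have hprod : ((s : ℤ) - g) * ((g : ℤ) + s + 1) ≤ (Tj.card : ℤ) * ell (Dp Q₀ n) := by
        apply mul_le_mul hA hB (by positivity) (by linarith)
      have hgoal : (ell D₂ : ℤ) < (Tj.card : ℤ) * ell (Dp Q₀ n) := by
        rw [hellD₂]
        push_cast
        have hsm : (s : ℤ) * m = s * (s - 1) := by rw [hmZ]
        nlinarith [hprod, hgs, hsm, hnZ]
      exact_mod_cast hgoal
    have hpos : 0 < Module.finrank k (LinearMap.ker Ψ) := by omega
    have hnb : LinearMap.ker Ψ ≠ ⊥ := by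
      intro h
      rw [h, finrank_bot] at hpos
      exact lt_irrefl _ hpos
    obtain ⟨z, hz, hz0⟩ := Submodule.exists_mem_ne_zero_of_ne_bot hnb
    exact ⟨z, hz0, hz⟩
  obtain ⟨z, hz0, hzker⟩ := hker
  rw [hΨ] at hzker
  -- the auxiliary function
  set y : E := ∑ j : Tj, u j * (z j : E) ^ s with hy
  have hy0 : y ≠ 0 := by
    apply sum_ne_zero_of_distinct Q₀.1
    · intro i _ j _ hij hfi hval
      have hzi : (z i : E) ≠ 0 := fun h => hfi (by rw [h, zero_pow hs0.ne', mul_zero])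
      by_cases hzj : (z j : E) = 0
      · rw [hzj, zero_pow hs0.ne', mul_zero, map_zero] at hval
        exact (Valuation.ne_zero_iff _).mpr hfi hval
      · rw [map_mul, map_mul, map_pow, map_pow, (hu i).2, (hu j).2,
          ← exp_log ((Valuation.ne_zero_iff Q₀.1).mpr hzi),
          ← exp_log ((Valuation.ne_zero_iff Q₀.1).mpr hzj), ← exp_nsmul, ← exp_nsmul,
          ← exp_add, ← exp_add, exp_inj] at hval
        simp only [nsmul_eq_mul] at hval
        have hi := (hTmem i.1 i.2).1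
        have hj := (hTmem j.1 j.2).1
        have hmod : ((i.1 : ℕ) : ℤ) % s = ((j.1 : ℕ) : ℤ) % s := by
          have h1 : ((i.1 : ℕ) : ℤ) = (j.1 : ℕ) + s * (log (Q₀.1 (z j : E)) - log (Q₀.1 (z i : E))) := by
            push_cast at hval ⊢
            linarith
          rw [h1, Int.add_mul_emod_self_left]
        rw [Int.emod_eq_of_lt (by positivity) (by omega),
          Int.emod_eq_of_lt (by positivity) (by omega)] at hmod
        apply hij
        apply Subtype.ext
        exact_mod_cast hmod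
    · by_contra hall
      push_neg at hall
      apply hz0
      funext j
      have := hall j (Finset.mem_univ j)
      have hu0 : u j ≠ 0 := by
        intro h
        have := (hu j).2
        rw [h, map_zero] at this
        exact exp_ne_zero.symm this
      rcases mul_eq_zero.mp this with h | h
      · exact absurd h hu0
      · apply Subtype.ext
        exact pow_eq_zero_iff hs0.ne' |>.mp h
  -- zeros of `y`
  have hzero : ∀ P ∈ SFix σ (s * s), P ≠ Q₀ → P.1 y < 1 := by
    intro P hP hne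
    have hys : y ^ s = ∑ j : Tj, u j ^ s * ((z j : E) ^ (s * s) - σ (z j : E)) := by
      rw [hy, sum_pow_of_add hs0 hadd]
      have : ∑ j : Tj, u j ^ s * ((z j : E) ^ (s * s) - σ (z j : E)) =
          ∑ j : Tj, u j ^ s * (z j : E) ^ (s * s) - ∑ j : Tj, u j ^ s * σ (z j : E) := by
        rw [← Finset.sum_sub_distrib]
        apply Finset.sum_congr rfl
        intro j _; ring
      rw [this, hzker, sub_zero]
      apply Finset.sum_congr rfl
      intro j _
      rw [mul_pow, ← pow_mul]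
    have hlt : P.1 (y ^ s) < 1 := by
      rw [hys]
      apply Valuation.map_sum_lt P.1 one_ne_zero
      intro j _
      rw [map_mul, map_pow]
      have h1 : P.1 (u j) ^ s ≤ 1 := pow_le_one' (huL j P hne) s
      have h2 : P.1 ((z j : E) ^ (s * s) - σ (z j : E)) < 1 := by
        have := hP (z j : E) (val_le_one_of_mem_Dp hne (z j).2)
        rwa [← Valuation.map_neg, neg_sub] at this
      calc P.1 (u j) ^ s * P.1 ((z j : E) ^ (s * s) - σ (z j : E))
          ≤ 1 * P.1 ((z j : E) ^ (s * s) - σ (z j : E)) := mul_le_mul_left h1 _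
        _ < 1 := by rw [one_mul]; exact h2
    rw [map_pow] at hlt
    by_contra hcon
    rw [not_lt] at hcon
    exact absurd hlt (not_lt.mpr (one_le_pow_of_one_le' hcon s))
  -- `y ∈ L((m + s n) Q₀)`
  have hyL : y ∈ L (Dp Q₀ ((m + s * n : ℕ) : ℤ)) := by
    rw [hy]
    apply Submodule.sum_mem
    intro j _ P
    rw [map_mul, map_pow]
    by_cases hP : P = Q₀
    · subst hP
      rw [Dp_apply_self, (hu j).2]
      have h1 := (z j).2 P
      rw [Dp_apply_self] at h1
      calc exp ((j.1 : ℕ) : ℤ) * P.1 (z j : E) ^ s ≤ exp ((j.1 : ℕ) : ℤ) * exp (n : ℤ) ^ s :=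
            mul_le_mul_right (pow_le_pow_left' h1 s) _
        _ = exp (((j.1 : ℕ) : ℤ) + s * n) := by
            rw [← exp_nsmul, ← exp_add, nsmul_eq_mul]
        _ ≤ exp (((m + s * n : ℕ) : ℕ) : ℤ) := by
            rw [exp_le_exp]
            have := (hTmem j.1 j.2).1
            push_cast
            have : ((j.1 : ℕ) : ℤ) ≤ m := by exact_mod_cast this
            linarith
    · rw [Dp_apply_ne _ _ hP, exp_zero]
      have h1 : P.1 (z j : E) ≤ 1 := val_le_one_of_mem_Dp hP (z j).2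
      calc P.1 (u j) * P.1 (z j : E) ^ s ≤ 1 * 1 :=
            mul_le_mul' (huL j P hP) (pow_le_one' h1 s)
        _ = 1 := one_mul 1
  -- the effective divisor `div y + (m + s n) Q₀`
  set W : Divisor k E := FunFld.div k y + Dp Q₀ ((m + s * n : ℕ) : ℤ) with hW
  have hW0 : 0 ≤ W := by
    have := neg_le_div_of_mem_L hE hyL hy0
    intro P
    have h1 := this P
    rw [Finsupp.neg_apply] at h1
    rw [hW, Finsupp.coe_zero, Pi.zero_apply, Finsupp.coe_add, Pi.add_apply]
    linarith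
  have hWdeg : W.deg = ((m + s * n : ℕ) : ℤ) := by
    rw [hW, deg_add, deg_div hE, deg_Dp Q₀ hQ₀, zero_add]
  have hWP : ∀ P ∈ SFix σ (s * s), P ≠ Q₀ → 1 ≤ W P := by
    intro P hP hne
    have h1 := hzero P hP hne
    rw [val_eq_exp_neg_ord P hy0, ← exp_zero, exp_lt_exp] at h1
    rw [hW, Finsupp.coe_add, Pi.add_apply, div_apply hE, Dp_apply_ne _ _ hne]
    omega
  constructor
  · apply Set.Finite.subset ((Set.finite_singleton Q₀).union W.support.finite_toSet)
    intro P hP
    by_cases hne : P = Q₀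
    · left; exact hne
    · right
      have := hWP P hP hne
      rw [Finset.mem_coe, Finsupp.mem_support_iff]
      omega
  · intro T hT
    have hsum : ∑ P ∈ T.erase Q₀, (P.deg : ℤ) ≤ W.deg := by
      have hsub : T.erase Q₀ ⊆ W.support := by
        intro P hP
        have hP' := Finset.mem_erase.mp hP
        have := hWP P (hT P hP'.2) hP'.1
        rw [Finsupp.mem_support_iff]; omega
      calc ∑ P ∈ T.erase Q₀, (P.deg : ℤ) ≤ ∑ P ∈ T.erase Q₀, W P * (P.deg : ℤ) := by
            apply Finset.sum_le_sum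
            intro P hP
            have hP' := Finset.mem_erase.mp hP
            have h1 := hWP P (hT P hP'.2) hP'.1
            have h2 : (0 : ℤ) ≤ P.deg := by positivity
            nlinarith
        _ ≤ ∑ P ∈ W.support, W P * (P.deg : ℤ) := by
            apply Finset.sum_le_sum_of_subset_of_nonneg hsub
            intro P _ _
            exact mul_nonneg (hW0 P) (by positivity)
        _ = W.deg := rfl
    have htotal : ∑ P ∈ T, (P.deg : ℤ) ≤ 1 + ∑ P ∈ T.erase Q₀, (P.deg : ℤ) := by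
      by_cases hQ : Q₀ ∈ T
      · rw [← Finset.add_sum_erase T _ hQ, hQ₀]; simp
      · rw [Finset.erase_eq_of_notMem hQ]
        have : (0 : ℤ) ≤ 1 := by norm_num
        linarith
    have hfinal : (∑ P ∈ T, (P.deg : ℤ)) ≤ s * s + (2 * g + 1) * s := by
      rw [hWdeg] at hsum
      push_cast at hsum
      rw [hmZ, hnZ] at hsum
      nlinarith
    exact_mod_cast hfinal

end Groth.Agent.Lib.LeadRH
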