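import Groth.Agent.Lib.LeadZC2

/-! The numbers `N_r = ∑_{deg P ∣ r} deg P` and their behaviour under constant field extension. -/

namespace Groth.Agent.Lib.LeadZC

attribute [-instance] IsLocalRing.instModuleResidueFieldOfAlgebra

open FunFld WithZero Polynomial TensorProduct Groth.Agent.Lib.LeadZT

section Def

variable {k K : Type*} [Field k] [Field K] [Algebra k K] [Finite k]

lemma finite_dvd (hK : IsFunctionField k K) (r : ℕ) :
    {P : Place k K | P.deg ∣ r ∧ P.deg ≤ r}.Finite :=
  (LeadFF.finite_places_deg_le hK r).subset (fun _ hP => hP.2)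

/-- `N_r = ∑_{deg P ∣ r} deg P`. -/
noncomputable def Npow (hK : IsFunctionField k K) (r : ℕ) : ℕ :=
  ∑ P ∈ (finite_dvd hK r).toFinset, P.deg

lemma mem_dvd (hK : IsFunctionField k K) {r : ℕ} (hr : 0 < r) (P : Place k K) :
    P ∈ (finite_dvd hK r).toFinset ↔ P.deg ∣ r := by
  rw [Set.Finite.mem_toFinset]
  exact ⟨fun h => h.1, fun h => ⟨h, Nat.le_of_dvd hr h⟩⟩

end Def

variable {k k' K K' : Type*} [Field k] [Field k'] [Field K] [Field K']
  [Algebra k k'] [Algebra k K] [Algebra K K'] [Algebra k' K'] [Algebra k K']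
  [IsScalarTower k k' K'] [IsScalarTower k K K'] [Finite k] [Finite k']

/-- arithmetic: `d' g = d`, `g = gcd d n`, then `d' ∣ r ↔ d ∣ n r`. -/
lemma dvd_iff_of_gcd {d d' n r : ℕ} (hd : 0 < d) (h : d' * Nat.gcd d n = d) :
    d' ∣ r ↔ d ∣ n * r := by
  have hg : 0 < Nat.gcd d n := Nat.gcd_pos_of_pos_left n hd
  constructor
  · intro hr
    rw [← h, mul_comm n r]
    exact mul_dvd_mul hr (Nat.gcd_dvd_right d n)
  · intro hr
    obtain ⟨m', n', hcop, hm, hn⟩ := Nat.exists_coprime d n
    have hm' : m' = d' := by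
      apply Nat.eq_of_mul_eq_mul_right hg
      rw [← hm, h]
    subst hm'
    have h1 : m' * Nat.gcd d n ∣ (n' * r) * Nat.gcd d n := by
      have : (n' * r) * Nat.gcd d n = n * r := by
        conv_rhs => rw [hn]
        ring
      rw [this, h]; exact hr
    have h2 : m' ∣ n' * r := Nat.dvd_of_mul_dvd_mul_right hg h1
    rw [mul_comm] at h2
    exact Nat.Coprime.dvd_of_dvd_mul_right hcop h2

theorem Npow_constExt
    (h : Function.Bijective (Algebra.TensorProduct.productMap
      (IsScalarTower.toAlgHom k k' K') (IsScalarTower.toAlgHom k K K')))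
    (hK : IsFunctionField k K) (hK' : IsFunctionField k' K') (r : ℕ) (hr : 0 < r) :
    Npow hK' r = Npow hK (Module.finrank k k' * r) := by
  classical
  haveI : FiniteDimensional k k' := Module.Finite.of_finite
  haveI : Algebra.IsAlgebraic k k' := Algebra.IsAlgebraic.of_finite k k'
  haveI : FiniteDimensional K K' := LeadCE.finiteDimensional_of_surjective h.2
  set n := Module.finrank k k' with hn
  have hnpos : 0 < n := Module.finrank_pos
  have hnr : 0 < n * r := Nat.mul_pos hnpos hr
  set S := (finite_dvd hK (n * r)).toFinset with hS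
  set S' := (finite_dvd hK' r).toFinset with hS'
  let ovr : Place k K → Finset (Place k K') := fun P =>
    (LeadFF.finite_over (K' := K') hK P).toFinset
  have hovr : ∀ P Q, Q ∈ ovr P ↔ IsOver Q P := fun P Q => Set.Finite.mem_toFinset _
  have hup : Function.Injective (up : Place k K' → Place k' K') := up_injective
  have hbi : S' = S.biUnion (fun P => (ovr P).image (up (k' := k'))) := by
    ext Q'
    rw [Finset.mem_biUnion]
    constructor
    · intro hQ'
      have hQ'r : Q'.deg ∣ r := (mem_dvd hK' hr Q').mp hQ'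
      obtain ⟨P, e, he0, hQP⟩ := LeadFF.exists_below hK (down (k := k) Q')
      have hov : IsOver (down (k := k) Q') P := ⟨e, hQP⟩
      have hdeg := up_deg_over h hK P hov
      rw [up_down] at hdeg
      refine ⟨P, ?_, ?_⟩
      · rw [hS, mem_dvd hK hnr]
        exact (dvd_iff_of_gcd (LeadFF.deg_pos hK P) hdeg).mp hQ'r
      · rw [Finset.mem_image]
        exact ⟨down (k := k) Q', (hovr _ _).mpr hov, up_down Q'⟩
    · rintro ⟨P, hP, hQ'⟩
      rw [Finset.mem_image] at hQ'
      obtain ⟨Q, hQ, rfl⟩ := hQ'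
      have hov : IsOver Q P := (hovr _ _).mp hQ
      have hdeg := up_deg_over h hK P hov
      rw [hS', mem_dvd hK' hr]
      exact (dvd_iff_of_gcd (LeadFF.deg_pos hK P) hdeg).mpr ((mem_dvd hK hnr P).mp hP)
  have hdisj : (S : Set (Place k K)).PairwiseDisjoint (fun P => (ovr P).image (up (k' := k'))) := by
    intro P₁ _ P₂ _ hne
    rw [Function.onFun, Finset.disjoint_left]
    intro Q' h1 h2
    rw [Finset.mem_image] at h1 h2
    obtain ⟨Q₁, hQ₁, rfl⟩ := h1
    obtain ⟨Q₂, hQ₂, hQQ⟩ := h2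
    have := hup hQQ
    subst this
    obtain ⟨e₁, he₁⟩ := (hovr _ _).mp hQ₁
    obtain ⟨e₂, he₂⟩ := (hovr _ _).mp hQ₂
    exact hne (LeadFF.isOverWith_unique he₂ he₁).1.symm
  unfold Npow
  rw [← hS, ← hS', hbi, Finset.sum_biUnion hdisj]
  apply Finset.sum_congr rfl
  intro P hP
  rw [Finset.sum_image (fun _ _ _ _ hxy => hup hxy)]
  have hterm : ∀ Q ∈ ovr P, (up (k' := k') Q).deg * Nat.gcd P.deg n = P.deg := by
    intro Q hQ
    exact up_deg_over h hK P ((hovr _ _).mp hQ)
  have hg : 0 < Nat.gcd P.deg n := Nat.gcd_pos_of_pos_left n (LeadFF.deg_pos hK P)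
  have hcard : (ovr P).card = Nat.gcd P.deg n := card_over h hK P
  have hconst : ∀ Q ∈ ovr P, (up (k' := k') Q).deg = P.deg / Nat.gcd P.deg n := by
    intro Q hQ
    exact (Nat.div_eq_of_eq_mul_left hg (hterm Q hQ).symm).symm
  rw [Finset.sum_congr rfl hconst, Finset.sum_const, smul_eq_mul, hcard]
  exact Nat.mul_div_cancel' (Nat.gcd_dvd_left P.deg n)

end Groth.Agent.Lib.LeadZC
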