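import Groth.Agent.Lib.LeadZT3

/-! F. K. Schmidt's theorem: construction of the constant field extension and conclusion. -/

namespace Groth.Agent.Lib.LeadZT

attribute [-instance] IsLocalRing.instModuleResidueFieldOfAlgebra

open FunFld WithZero Polynomial TensorProduct

universe u v

/-- an irreducible monic polynomial of every positive degree over a finite field. -/
lemma exists_irreducible_natDegree (k : Type u) [Field k] [Finite k] (r : ℕ) (hr : 0 < r) :
    ∃ f : k[X], f.Monic ∧ Irreducible f ∧ f.natDegree = r := by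
  obtain ⟨p, hp⟩ := CharP.exists k
  haveI := hp
  haveI : Fact p.Prime := ⟨CharP.char_is_prime k p⟩
  haveI : NeZero r := ⟨hr.ne'⟩
  let L := FiniteField.Extension k p r
  haveI : Algebra.IsSeparable k L := Algebra.IsAlgebraic.isSeparable_of_perfectField
  obtain ⟨α, hα⟩ := Field.exists_primitive_element k L
  have hint : IsIntegral k α := Algebra.IsIntegral.isIntegral α
  refine ⟨minpoly k α, minpoly.monic hint, minpoly.irreducible hint, ?_⟩
  rw [← IntermediateField.adjoin.finrank hint, hα, IntermediateField.finrank_top',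
    FiniteField.finrank_extension]

section Construct

variable (k : Type u) (K : Type v) [Field k] [Finite k] [Field K] [Algebra k K]

theorem no_proper_degree_gcd (hK : IsFunctionField k K) (r : ℕ) (hr : 2 ≤ r)
    (hdvd : ∀ P : Place k K, r ∣ P.deg) (Dr : Divisor k K) (hDr : Dr.deg = r) : False := by
  classical
  obtain ⟨f, hfm, hfi, hfd⟩ := exists_irreducible_natDegree k r (by omega)
  haveI : Fact (Irreducible f) := ⟨hfi⟩
  have hgi : Irreducible (f.map (algebraMap k K)) :=
    LeadFF.irreducible_map_of_algClosedIn hK.2 hfm hfi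
  haveI : Fact (Irreducible (f.map (algebraMap k K))) := ⟨hgi⟩
  have hf0 : f ≠ 0 := hfi.ne_zero
  -- the fields
  letI : Algebra (AdjoinRoot f) (AdjoinRoot (f.map (algebraMap k K))) :=
    (AdjoinRoot.lift (algebraMap k (AdjoinRoot (f.map (algebraMap k K))))
      (AdjoinRoot.root (f.map (algebraMap k K))) (by
        rw [IsScalarTower.algebraMap_eq k K (AdjoinRoot (f.map (algebraMap k K))),
          ← Polynomial.eval₂_map]
        exact AdjoinRoot.eval₂_root _)).toAlgebra
  have hlift_of : ∀ c : k, algebraMap (AdjoinRoot f) (AdjoinRoot (f.map (algebraMap k K)))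
      (AdjoinRoot.of f c) = algebraMap k (AdjoinRoot (f.map (algebraMap k K))) c :=
    fun c => AdjoinRoot.lift_of _
  have hlift_root : algebraMap (AdjoinRoot f) (AdjoinRoot (f.map (algebraMap k K)))
      (AdjoinRoot.root f) = AdjoinRoot.root (f.map (algebraMap k K)) :=
    AdjoinRoot.lift_root _
  haveI : IsScalarTower k (AdjoinRoot f) (AdjoinRoot (f.map (algebraMap k K))) :=
    IsScalarTower.of_algebraMap_eq (fun c => (hlift_of c).symm)
  have hpb := AdjoinRoot.powerBasis hf0
  haveI : Module.Finite k (AdjoinRoot f) := hpb.finite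
  haveI : Finite (AdjoinRoot f) := Module.finite_of_finite k
  have hrank : Module.finrank k (AdjoinRoot f) = r := by
    rw [(AdjoinRoot.powerBasis hf0).finrank, AdjoinRoot.powerBasis_dim, hfd]
  -- bijectivity of the product map
  set φ := Algebra.TensorProduct.productMap
      (IsScalarTower.toAlgHom k (AdjoinRoot f) (AdjoinRoot (f.map (algebraMap k K))))
      (IsScalarTower.toAlgHom k K (AdjoinRoot (f.map (algebraMap k K)))) with hφ
  have hφ_tmul : ∀ (a : AdjoinRoot f) (b : K), φ (a ⊗ₜ b) =
      algebraMap (AdjoinRoot f) (AdjoinRoot (f.map (algebraMap k K))) a *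
        algebraMap K (AdjoinRoot (f.map (algebraMap k K))) b := by
    intro a b; simp [φ]
  have hint : IsIntegral k (AdjoinRoot.root f) := Algebra.IsIntegral.isIntegral _
  have hα : IntermediateField.adjoin k {AdjoinRoot.root f} = ⊤ :=
    IntermediateField.adjoin_eq_top_of_algebra _ _ (AdjoinRoot.adjoinRoot_eq_top (f := f))
  have hF : IsField (AdjoinRoot f ⊗[k] K) :=
    LeadFF.isField_tensor_of_simple hK.2 (AdjoinRoot.root f) hint hα
  have hbij : Function.Bijective φ := by
    constructor
    · rw [injective_iff_map_eq_zero]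
      intro x hx
      by_contra hx0
      obtain ⟨y, hy⟩ := hF.mul_inv_cancel hx0
      have := congrArg φ hy
      rw [map_mul, hx, zero_mul, map_one] at this
      exact zero_ne_one this
    · let S : Subalgebra K (AdjoinRoot (f.map (algebraMap k K))) :=
        { carrier := Set.range φ
          mul_mem' := by rintro _ _ ⟨a, rfl⟩ ⟨b, rfl⟩; exact ⟨a * b, map_mul _ _ _⟩
          add_mem' := by rintro _ _ ⟨a, rfl⟩ ⟨b, rfl⟩; exact ⟨a + b, map_add _ _ _⟩
          one_mem' := ⟨1, map_one _⟩
          zero_mem' := ⟨0, map_zero _⟩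
          algebraMap_mem' := fun a => ⟨1 ⊗ₜ a, by rw [hφ_tmul]; simp⟩ }
      have hroot : AdjoinRoot.root (f.map (algebraMap k K)) ∈ S :=
        ⟨AdjoinRoot.root f ⊗ₜ 1, by rw [hφ_tmul, hlift_root]; simp⟩
      have htop : (⊤ : Subalgebra K (AdjoinRoot (f.map (algebraMap k K)))) ≤ S := by
        rw [← AdjoinRoot.adjoinRoot_eq_top (f := f.map (algebraMap k K))]
        exact Algebra.adjoin_le (Set.singleton_subset_iff.mpr hroot)
      intro z
      exact htop Algebra.mem_top
  have hg : IsGeometric k K := Groth.Agent.S11000.result k K hK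
  have hK' : IsFunctionField (AdjoinRoot f) (AdjoinRoot (f.map (algebraMap k K))) :=
    Groth.Agent.Lib.Helper7.FunFldConst.isFunctionField_constExt hbij hK hg
  exact schmidt_core hbij hK hK' (by rw [hrank]; exact hr) (by rw [hrank]; exact hdvd) Dr
    (by rw [hrank]; exact hDr)

/-- **F. K. Schmidt**: the degree map on divisors is onto `ℤ`. -/
theorem deg_surjective (hK : IsFunctionField k K) :
    Function.Surjective (Divisor.deg : Divisor k K → ℤ) := by
  classical
  obtain ⟨P₁⟩ := LeadFF.nonempty_place hK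
  let S : Set ℕ := {n | 0 < n ∧ ∃ D : Divisor k K, D.deg = n}
  have hS : S.Nonempty :=
    ⟨P₁.deg, LeadFF.deg_pos hK P₁, Finsupp.single P₁ 1, by rw [LeadFF.deg_single]; ring⟩
  obtain ⟨hr0, Dr, hDr⟩ : sInf S ∈ S := Nat.sInf_mem hS
  set r := sInf S with hr
  have hmin : ∀ n ∈ S, r ≤ n := fun n hn => Nat.sInf_le hn
  have hzsmul : ∀ (z : ℤ) (D : Divisor k K), (z • D).deg = z * D.deg := by
    intro z D
    rw [← LeadFF.prelude_degHom_apply, ← LeadFF.prelude_degHom_apply, map_zsmul, smul_eq_mul]
  have hdvd_all : ∀ D : Divisor k K, (r : ℤ) ∣ D.deg := by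
    intro D
    by_contra hnd
    have hr0' : (0 : ℤ) < r := by exact_mod_cast hr0
    have hs0 : 0 ≤ D.deg % r := Int.emod_nonneg _ hr0'.ne'
    have hslt : D.deg % r < r := Int.emod_lt_of_pos _ hr0'
    have hsne : D.deg % r ≠ 0 := fun h0 => hnd (Int.dvd_of_emod_eq_zero h0)
    have hmem : (D.deg % r).toNat ∈ S := by
      refine ⟨by omega, D - (D.deg / r) • Dr, ?_⟩
      rw [LeadFF.deg_sub, hzsmul, hDr, Int.toNat_of_nonneg hs0]
      have := Int.emod_add_mul_ediv D.deg r
      linarith
    have := hmin _ hmem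
    omega
  rcases Nat.lt_or_ge r 2 with hlt | hge
  · have hr1 : r = 1 := by omega
    intro n
    refine ⟨n • Dr, ?_⟩
    rw [hzsmul, hDr, hr1]; simp
  · exfalso
    refine no_proper_degree_gcd k K hK r hge ?_ Dr hDr
    intro P
    have := hdvd_all (Finsupp.single P 1)
    rw [LeadFF.deg_single, one_mul] at this
    exact_mod_cast this

end Construct

end Groth.Agent.Lib.LeadZT
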