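import Groth.Agent.Lib.LeadRH2
import Groth.Agent.Lib.LeadZC3
import Groth.Agent.Lib.LeadZT4
import Groth.Agent.Lib.LeadIG1

/-! The twisted Bombieri bound without a rational place: passing to a constant field extension. -/

namespace Groth.Agent.Lib.LeadRH

attribute [-instance] IsLocalRing.instModuleResidueFieldOfAlgebra

open FunFld WithZero Polynomial TensorProduct Groth.Agent.Lib.LeadFF Groth.Agent.Lib.LeadZT
  Groth.Agent.Lib.LeadZC

section Basic

variable {k E : Type*} [Field k] [Field E] [Algebra k E]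

lemma val_le_one_of_mem_SFix {σ : E ≃ₐ[k] E} {N : ℕ} {P : Place k E} (hP : P ∈ SFix σ N) {z : E}
    (hz : P.1 z ≤ 1) : P.1 (σ z) ≤ 1 := by
  have h1 := hP z hz
  have : σ z = (σ z - z ^ N) + z ^ N := by ring
  rw [this]
  exact (P.1.map_add _ _).trans (max_le h1.le (by rw [map_pow]; exact pow_le_one' hz N))

lemma cm_eq_of_mem_SFix {σ : E ≃ₐ[k] E} {N : ℕ} {P : Place k E} (hP : P ∈ SFix σ N) :
    cm (K := k) P σ = P :=
  (place_eq_of_le (P := P) (Q := cm (K := k) P σ)
    (fun _ hy => val_le_one_of_mem_SFix hP hy)).symm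

lemma val_map_eq_of_mem_SFix {σ : E ≃ₐ[k] E} {N : ℕ} {P : Place k E} (hP : P ∈ SFix σ N) (z : E) :
    P.1 (σ z) = P.1 z :=
  congrArg (fun R : Place k E => R.1 z) (cm_eq_of_mem_SFix hP)

end Basic

section ConstExt

variable {k k' K K' : Type*} [Field k] [Field k'] [Field K] [Field K']
  [Algebra k k'] [Algebra k K] [Algebra K K'] [Algebra k' K'] [Algebra k K']
  [IsScalarTower k k' K'] [IsScalarTower k K K']

lemma down_up [Algebra.IsAlgebraic k k'] (Q : Place k K') : down (k := k) (up (k' := k') Q) = Q :=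
  Subtype.ext rfl

lemma exists_over' [FiniteDimensional K K'] (hK : IsFunctionField k K) (P : Place k K) :
    ∃ Q : Place k K', IsOver Q P := by
  classical
  by_contra hne
  push_neg at hne
  have hfin := LeadFF.finite_over (K' := K') hK P
  have hsum := LeadFF.sum_ramIdx_deg hK P hfin.toFinset (fun Q => hfin.mem_toFinset)
  have hempty : hfin.toFinset = ∅ := by
    apply Finset.eq_empty_of_forall_notMem
    intro Q hQ
    exact hne Q (hfin.mem_toFinset.mp hQ)
  rw [hempty, Finset.sum_empty] at hsum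
  have h1 : 0 < Module.finrank K K' := Module.finrank_pos
  have h2 := LeadFF.deg_pos hK P
  have := Nat.mul_pos h1 h2
  omega

/-- extending an automorphism to a constant field extension. -/
theorem exists_extendAut
    (h : Function.Bijective (Algebra.TensorProduct.productMap
      (IsScalarTower.toAlgHom k k' K') (IsScalarTower.toAlgHom k K K')))
    (σ : K ≃ₐ[k] K) :
    ∃ σ₂ : K' ≃ₐ[k'] K', ∀ x, σ₂ (algebraMap K K' x) = algebraMap K K' (σ x) := by
  let Φ : (k' ⊗[k] K) ≃ₐ[k] K' := AlgEquiv.ofBijective _ h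
  have hΦ : ∀ (c : k') (x : K), Φ (c ⊗ₜ x) = algebraMap k' K' c * algebraMap K K' x := by
    intro c x
    simp [Φ]
  let ψ : (k' ⊗[k] K) ≃ₐ[k] (k' ⊗[k] K) :=
    Algebra.TensorProduct.congr (AlgEquiv.refl (R := k) (A₁ := k')) σ
  have hψ : ∀ (c : k') (x : K), ψ (c ⊗ₜ x) = c ⊗ₜ σ x := by
    intro c x
    simp [ψ]
  let τ : K' ≃ₐ[k] K' := Φ.symm.trans (ψ.trans Φ)
  have hτ : ∀ w, τ (Φ w) = Φ (ψ w) := by
    intro w
    simp [τ]
  have h1 : ∀ c : k', τ (algebraMap k' K' c) = algebraMap k' K' c := by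
    intro c
    have : algebraMap k' K' c = Φ (c ⊗ₜ 1) := by rw [hΦ, map_one, mul_one]
    rw [this, hτ, hψ, map_one]
  have h2 : ∀ x : K, τ (algebraMap K K' x) = algebraMap K K' (σ x) := by
    intro x
    have : algebraMap K K' x = Φ (1 ⊗ₜ x) := by rw [hΦ, map_one, one_mul]
    rw [this, hτ, hψ, hΦ, map_one, one_mul]
  exact ⟨AlgEquiv.ofRingEquiv (f := τ.toRingEquiv) h1, h2⟩

variable [Finite k] [Finite k']

/-- the sum of the degrees (over `k'`) of the places above `P` is `deg P`. -/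
lemma sum_up_deg
    (h : Function.Bijective (Algebra.TensorProduct.productMap
      (IsScalarTower.toAlgHom k k' K') (IsScalarTower.toAlgHom k K K')))
    (hK : IsFunctionField k K) (P : Place k K) :
    haveI : FiniteDimensional k k' := Module.Finite.of_finite
    haveI : Algebra.IsAlgebraic k k' := Algebra.IsAlgebraic.of_finite k k'
    haveI : FiniteDimensional K K' := LeadCE.finiteDimensional_of_surjective h.2
    ∑ Q ∈ (LeadFF.finite_over (K' := K') hK P).toFinset, (up (k' := k') Q).deg = P.deg := by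
  classical
  haveI : FiniteDimensional k k' := Module.Finite.of_finite
  haveI : Algebra.IsAlgebraic k k' := Algebra.IsAlgebraic.of_finite k k'
  haveI : FiniteDimensional K K' := LeadCE.finiteDimensional_of_surjective h.2
  set n := Module.finrank k k' with hn
  have hmemo : ∀ Q, Q ∈ (LeadFF.finite_over (K' := K') hK P).toFinset ↔ IsOver Q P :=
    fun Q => Set.Finite.mem_toFinset _
  set ovr := (LeadFF.finite_over (K' := K') hK P).toFinset with hovr
  have hterm : ∀ Q ∈ ovr, (up (k' := k') Q).deg * Nat.gcd P.deg n = P.deg := by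
    intro Q hQ
    exact up_deg_over h hK P ((hmemo Q).mp hQ)
  have hg : 0 < Nat.gcd P.deg n := Nat.gcd_pos_of_pos_left n (LeadFF.deg_pos hK P)
  have hcard : ovr.card = Nat.gcd P.deg n := card_over h hK P
  have hconst : ∀ Q ∈ ovr, (up (k' := k') Q).deg = P.deg / Nat.gcd P.deg n := by
    intro Q hQ
    exact (Nat.div_eq_of_eq_mul_left hg (hterm Q hQ).symm).symm
  rw [Finset.sum_congr rfl hconst, Finset.sum_const, smul_eq_mul, hcard]
  exact Nat.mul_div_cancel' (Nat.gcd_dvd_left P.deg n)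

/-- places above a place of `SFix σ N` lie in `SFix σ₂ N`. -/
theorem sfix_up
    (h : Function.Bijective (Algebra.TensorProduct.productMap
      (IsScalarTower.toAlgHom k k' K') (IsScalarTower.toAlgHom k K K')))
    (hK : IsFunctionField k K) (σ : K ≃ₐ[k] K) (σ₂ : K' ≃ₐ[k'] K')
    (hσ : ∀ x, σ₂ (algebraMap K K' x) = algebraMap K K' (σ x))
    (N : ℕ) (hN0 : 0 < N) (hNadd : ∀ x y : K', (x + y) ^ N = x ^ N + y ^ N)
    (hNk' : ∀ c : k', c ^ N = c)
    {P : Place k K} (hP : P ∈ SFix σ N) {Q : Place k K'} (hQ : IsOver Q P) :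
    haveI : Algebra.IsAlgebraic k k' := Algebra.IsAlgebraic.of_finite k k'
    up (k' := k') Q ∈ SFix σ₂ N := by
  classical
  haveI : FiniteDimensional k k' := Module.Finite.of_finite
  haveI : Algebra.IsAlgebraic k k' := Algebra.IsAlgebraic.of_finite k k'
  haveI : Algebra.IsSeparable k k' := Algebra.IsAlgebraic.isSeparable_of_perfectField
  haveI : FiniteDimensional K K' := LeadCE.finiteDimensional_of_surjective h.2
  letI : Algebra P.O K' := ((algebraMap K K').comp (algebraMap P.O K)).toAlgebra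
  haveI : IsScalarTower P.O K K' := IsScalarTower.of_algebraMap_eq (fun _ => rfl)
  have hns := LeadCE.integralClosure_eq h.2 hK P
  have hk' : ∀ (Q' : Place k K') (c : k'), Q'.1 (algebraMap k' K' c) ≤ 1 := fun Q' c =>
    LeadFG.val_le_one_of_isIntegral (LeadFG.place_trivOn Q')
      (((Algebra.IsAlgebraic.isAlgebraic c).isIntegral).map (IsScalarTower.toAlgHom k k' K'))
  -- Step 1: the Frobenius relation on `O_P[k']`
  have step1 : ∀ y ∈ Algebra.adjoin P.O (Set.range (algebraMap k' K')),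
      ∀ Q' : Place k K', IsOver Q' P → Q'.1 y ≤ 1 ∧ Q'.1 (σ₂ y - y ^ N) < 1 := by
    intro y hy
    induction hy using Algebra.adjoin_induction with
    | mem x hx =>
      obtain ⟨c, rfl⟩ := hx
      intro Q' _
      refine ⟨hk' Q' c, ?_⟩
      rw [σ₂.commutes, ← map_pow, hNk', sub_self, map_zero]
      exact zero_lt_one
    | algebraMap a =>
      intro Q' hQ'
      obtain ⟨e, he⟩ := hQ'
      have he0 := isOverWith_pos he
      have ha : algebraMap P.O K' a = algebraMap K K' (a : K) := rfl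
      have ha1 : P.1 (a : K) ≤ 1 := a.2
      rw [ha]
      constructor
      · rw [he]; exact pow_le_one' ha1 e
      · rw [hσ, ← map_pow, ← map_sub, he]
        exact pow_lt_one' (hP a ha1) he0.ne'
    | add x y _ _ hx hy =>
      intro Q' hQ'
      obtain ⟨hx1, hx2⟩ := hx Q' hQ'
      obtain ⟨hy1, hy2⟩ := hy Q' hQ'
      refine ⟨(Q'.1.map_add _ _).trans (max_le hx1 hy1), ?_⟩
      have : σ₂ (x + y) - (x + y) ^ N = (σ₂ x - x ^ N) + (σ₂ y - y ^ N) := by
        rw [map_add, hNadd]; ring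
      rw [this]
      exact lt_of_le_of_lt (Q'.1.map_add _ _) (max_lt hx2 hy2)
    | mul x y _ _ hx hy =>
      intro Q' hQ'
      obtain ⟨hx1, hx2⟩ := hx Q' hQ'
      obtain ⟨hy1, hy2⟩ := hy Q' hQ'
      refine ⟨by rw [map_mul]; exact mul_le_one' hx1 hy1, ?_⟩
      have hσy : Q'.1 (σ₂ y) ≤ 1 := by
        have : σ₂ y = (σ₂ y - y ^ N) + y ^ N := by ring
        rw [this]
        exact (Q'.1.map_add _ _).trans
          (max_le hy2.le (by rw [map_pow]; exact pow_le_one' hy1 N))
      have : σ₂ (x * y) - (x * y) ^ N = (σ₂ x - x ^ N) * σ₂ y + x ^ N * (σ₂ y - y ^ N) := by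
        rw [map_mul, mul_pow]; ring
      rw [this]
      apply lt_of_le_of_lt (Q'.1.map_add _ _)
      apply max_lt
      · rw [map_mul]
        calc Q'.1 (σ₂ x - x ^ N) * Q'.1 (σ₂ y) ≤ Q'.1 (σ₂ x - x ^ N) * 1 :=
              mul_le_mul' le_rfl hσy
          _ < 1 := by rw [mul_one]; exact hx2
      · rw [map_mul, map_pow]
        calc Q'.1 x ^ N * Q'.1 (σ₂ y - y ^ N) ≤ 1 * Q'.1 (σ₂ y - y ^ N) :=
              mul_le_mul' (pow_le_one' hx1 N) le_rfl
          _ < 1 := by rw [one_mul]; exact hy2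
  -- membership criterion
  have hmem : ∀ y : K', (∀ Q' : Place k K', IsOver Q' P → Q'.1 y ≤ 1) →
      y ∈ Algebra.adjoin P.O (Set.range (algebraMap k' K')) := by
    intro y hy
    have h1 : IsIntegral P.O y := LeadCE.isIntegral_of_forall_over hK P hy
    have h2 : y ∈ (integralClosure P.O K').toSubring := h1
    rw [hns] at h2
    exact h2
  obtain ⟨e, he⟩ := hQ
  have hQP : IsOver Q P := ⟨e, he⟩
  -- Step 2: `σ₂` preserves `Q`
  let σk : K' ≃ₐ[k] K' := σ₂.restrictScalars k
  have hσk : ∀ z, σk z = σ₂ z := fun z => rfl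
  have hPσ : ∀ x : K, P.1 (σ x) = P.1 x := fun x => val_map_eq_of_mem_SFix hP x
  have hQ₂over : IsOverWith (cm (K := k) Q σk) P e := by
    intro x
    rw [cm_apply, hσk, hσ, he, hPσ]
  have hQ₂ : cm (K := k) Q σk = Q := by
    by_contra hne
    obtain ⟨α, hα1, hα2⟩ := LeadIG.exists_approx_elt hK hQP (1 : K')
    have hαQ : Q.1 α = 1 := val_eq_one_of_sub_one_lt Q.1 hα1
    have hαmem : α ∈ Algebra.adjoin P.O (Set.range (algebraMap k' K')) := by
      apply hmem
      intro Q' hQ'
      by_cases hQQ : Q' = Q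
      · rw [hQQ, hαQ]
      · exact (hα2 Q' hQ' hQQ).le
    have h3 := (step1 α hαmem Q hQP).2
    have h4 : Q.1 (σ₂ α) < 1 := hα2 _ ⟨e, hQ₂over⟩ hne
    have h5 : Q.1 (α ^ N) < 1 := by
      have : α ^ N = σ₂ α - (σ₂ α - α ^ N) := by ring
      rw [this]
      exact lt_of_le_of_lt (Valuation.map_sub _ _ _) (max_lt h4 h3)
    rw [map_pow, hαQ, one_pow] at h5
    exact lt_irrefl _ h5
  -- Step 3
  intro z hz
  have hz' : Q.1 z ≤ 1 := hz
  show Q.1 (σ₂ z - z ^ N) < 1
  obtain ⟨α, hα1, hα2⟩ := LeadIG.exists_approx_elt hK hQP z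
  have hαQ : Q.1 α ≤ 1 := by
    have : α = (α - z) + z := by ring
    rw [this]; exact (Q.1.map_add _ _).trans (max_le hα1.le hz')
  have hαmem : α ∈ Algebra.adjoin P.O (Set.range (algebraMap k' K')) := by
    apply hmem
    intro Q' hQ'
    by_cases hQQ : Q' = Q
    · rw [hQQ]; exact hαQ
    · exact (hα2 Q' hQ' hQQ).le
  have h3 := (step1 α hαmem Q hQP).2
  have hzα : Q.1 (z - α) < 1 := by rw [← Valuation.map_neg, neg_sub]; exact hα1
  have h4 : Q.1 (σ₂ (z - α)) < 1 := by
    have : Q.1 (σ₂ (z - α)) = (cm (K := k) Q σk).1 (z - α) := rfl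
    rw [this, hQ₂]; exact hzα
  have h5 : z ^ N - α ^ N = (z - α) ^ N := by
    have := hNadd (z - α) α
    rw [sub_add_cancel] at this
    rw [this]; ring
  have h6 : Q.1 ((z - α) ^ N) < 1 := by
    rw [map_pow]; exact pow_lt_one' hzα hN0.ne'
  have : σ₂ z - z ^ N = ((σ₂ α - α ^ N) + σ₂ (z - α)) - (z ^ N - α ^ N) := by
    rw [map_sub]; ring
  rw [this, h5]
  exact lt_of_le_of_lt (Valuation.map_sub _ _ _)
    (max_lt (lt_of_le_of_lt (Q.1.map_add _ _) (max_lt h3 h4)) h6)

/-- the twisted Bombieri bound, assuming a rational place in a constant field extension. -/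
theorem tb_constExt
    (h : Function.Bijective (Algebra.TensorProduct.productMap
      (IsScalarTower.toAlgHom k k' K') (IsScalarTower.toAlgHom k K K')))
    (hK : IsFunctionField k K) (hK' : IsFunctionField k' K')
    (σ : K ≃ₐ[k] K) (s : ℕ) (hs0 : 0 < s) (hadd : ∀ x y : K', (x + y) ^ s = x ^ s + y ^ s)
    (hk' : ∀ c : k', c ^ (s * s) = c)
    (hg : (genus k' K' + 1) ^ 2 < s) (Q₀ : Place k' K') (hQ₀ : Q₀.deg = 1) :
    (SFix σ (s * s)).Finite ∧ ∀ T : Finset (Place k K), (∀ P ∈ T, P ∈ SFix σ (s * s)) →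
      ∑ P ∈ T, P.deg ≤ s * s + (2 * genus k' K' + 1) * s := by
  classical
  haveI : FiniteDimensional k k' := Module.Finite.of_finite
  haveI : Algebra.IsAlgebraic k k' := Algebra.IsAlgebraic.of_finite k k'
  haveI : FiniteDimensional K K' := LeadCE.finiteDimensional_of_surjective h.2
  obtain ⟨σ₂, hσ₂⟩ := exists_extendAut h σ
  have hNadd : ∀ x y : K', (x + y) ^ (s * s) = x ^ (s * s) + y ^ (s * s) := by
    intro x y
    rw [pow_mul, hadd, hadd, ← pow_mul, ← pow_mul]
  obtain ⟨hfin₂, hbound₂⟩ := twisted_bombieri hK' σ₂ s hs0 hadd hg Q₀ hQ₀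
  have hup : ∀ P ∈ SFix σ (s * s), ∀ Q : Place k K', IsOver Q P →
      up (k' := k') Q ∈ SFix σ₂ (s * s) := fun P hP Q hQ =>
    sfix_up h hK σ σ₂ hσ₂ (s * s) (Nat.mul_pos hs0 hs0) hNadd hk' hP hQ
  constructor
  · let below : Place k' K' → Place k K := fun Q₂ =>
      Classical.choose (LeadFF.exists_below hK (down (k := k) Q₂))
    apply Set.Finite.subset (hfin₂.image below)
    intro P hP
    obtain ⟨Q, hQ⟩ := exists_over' (K' := K') hK P
    refine ⟨up (k' := k') Q, hup P hP Q hQ, ?_⟩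
    obtain ⟨e', -, he'⟩ := Classical.choose_spec
      (LeadFF.exists_below hK (down (k := k) (up (k' := k') Q)))
    obtain ⟨e, he⟩ := hQ
    rw [down_up] at he'
    exact (LeadFF.isOverWith_unique he' he).1
  · intro T hT
    let ovr : Place k K → Finset (Place k K') := fun P =>
      (LeadFF.finite_over (K' := K') hK P).toFinset
    have hovr : ∀ P Q, Q ∈ ovr P ↔ IsOver Q P := fun P Q => Set.Finite.mem_toFinset _
    have hupinj : Function.Injective (up : Place k K' → Place k' K') := up_injective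
    set T₂ : Finset (Place k' K') := T.biUnion (fun P => (ovr P).image (up (k' := k'))) with hT₂
    have hT₂mem : ∀ Q₂ ∈ T₂, Q₂ ∈ SFix σ₂ (s * s) := by
      intro Q₂ hQ₂
      rw [hT₂, Finset.mem_biUnion] at hQ₂
      obtain ⟨P, hP, hQ₂⟩ := hQ₂
      rw [Finset.mem_image] at hQ₂
      obtain ⟨Q, hQ, rfl⟩ := hQ₂
      exact hup P (hT P hP) Q ((hovr _ _).mp hQ)
    have hdisj : (T : Set (Place k K)).PairwiseDisjoint
        (fun P => (ovr P).image (up (k' := k'))) := by
      intro P₁ _ P₂ _ hne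
      rw [Function.onFun, Finset.disjoint_left]
      intro Q' h1 h2
      rw [Finset.mem_image] at h1 h2
      obtain ⟨Q₁, hQ₁, rfl⟩ := h1
      obtain ⟨Q₂, hQ₂, hQQ⟩ := h2
      have := hupinj hQQ
      subst this
      obtain ⟨e₁, he₁⟩ := (hovr _ _).mp hQ₁
      obtain ⟨e₂, he₂⟩ := (hovr _ _).mp hQ₂
      exact hne (LeadFF.isOverWith_unique he₂ he₁).1.symm
    have hsum : ∑ Q₂ ∈ T₂, Q₂.deg = ∑ P ∈ T, P.deg := by
      rw [hT₂, Finset.sum_biUnion hdisj]
      apply Finset.sum_congr rfl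
      intro P _
      rw [Finset.sum_image (fun _ _ _ _ hxy => hupinj hxy)]
      exact sum_up_deg h hK P
    rw [← hsum]
    exact hbound₂ T₂ hT₂mem

end ConstExt

end Groth.Agent.Lib.LeadRH
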