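import Groth.Agent.Lib.LeadRH3

/-! The twisted Bombieri bound for an arbitrary function field over a finite field
(construction of the constant field extension with a rational place). -/

namespace Groth.Agent.Lib.LeadRH

attribute [-instance] IsLocalRing.instModuleResidueFieldOfAlgebra

open FunFld WithZero Polynomial TensorProduct Groth.Agent.Lib.LeadFF Groth.Agent.Lib.LeadZT
  Groth.Agent.Lib.LeadZC

universe u v

/-- the `q^a`-th power map is additive on algebras over a field with `q` elements. -/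
lemma add_pow_card_pow (k : Type*) {E : Type*} [Field k] [Finite k] [CommRing E] [Nontrivial E]
    [Algebra k E] (a : ℕ) (x y : E) :
    (x + y) ^ (Nat.card k ^ a) = x ^ (Nat.card k ^ a) + y ^ (Nat.card k ^ a) := by
  classical
  haveI : Fintype k := Fintype.ofFinite k
  obtain ⟨p, hp⟩ := CharP.exists k
  haveI := hp
  haveI : Fact p.Prime := ⟨CharP.char_is_prime k p⟩
  haveI : CharP E p := charP_of_injective_algebraMap (algebraMap k E).injective p
  obtain ⟨n, -, hn⟩ := FiniteField.card k p
  rw [Nat.card_eq_fintype_card, hn, ← pow_mul]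
  exact add_pow_char_pow x y p _

lemma pow_card_pow_eq (k' : Type*) [Field k'] [Finite k'] (c : k') (j : ℕ) :
    c ^ (Nat.card k' ^ j) = c := by
  classical
  haveI : Fintype k' := Fintype.ofFinite k'
  rw [Nat.card_eq_fintype_card]
  induction j with
  | zero => simp
  | succ j ih => rw [pow_succ, pow_mul, ih, FiniteField.pow_card]

theorem tb_prime (k : Type u) (K : Type v) [Field k] [Finite k] [Field K] [Algebra k K]
    (hK : IsFunctionField k K) :
    ∃ d₀ g₂ : ℕ, 0 < d₀ ∧ ∀ (σ : K ≃ₐ[k] K) (a : ℕ), 0 < a → d₀ ∣ a →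
      (g₂ + 1) ^ 2 < Nat.card k ^ a →
      (SFix σ (Nat.card k ^ a * Nat.card k ^ a)).Finite ∧
      ∀ T : Finset (Place k K), (∀ P ∈ T, P ∈ SFix σ (Nat.card k ^ a * Nat.card k ^ a)) →
        ∑ P ∈ T, P.deg ≤ Nat.card k ^ a * Nat.card k ^ a + (2 * g₂ + 1) * Nat.card k ^ a := by
  classical
  obtain ⟨P₀⟩ := LeadFF.nonempty_place hK
  set r := P₀.deg with hr
  have hr0 : 0 < r := LeadFF.deg_pos hK P₀
  obtain ⟨f, hfm, hfi, hfd⟩ := exists_irreducible_natDegree k r hr0
  haveI : Fact (Irreducible f) := ⟨hfi⟩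
  have hgi : Irreducible (f.map (algebraMap k K)) :=
    LeadFF.irreducible_map_of_algClosedIn hK.2 hfm hfi
  haveI : Fact (Irreducible (f.map (algebraMap k K))) := ⟨hgi⟩
  have hf0 : f ≠ 0 := hfi.ne_zero
  -- the fields
  letI : Algebra (AdjoinRoot f) (AdjoinRoot (f.map (algebraMap k K))) :=
    (AdjoinRoot.lift (algebraMap k (AdjoinRoot (f.map (algebraMap k K))))
      (AdjoinRoot.root (f.map (algebraMap k K))) (by
        rw [IsScalarTower.algebraMap_eq k K (AdjoinRoot (f.map (algebraMap k K))),
          ← Polynomial.eval₂_map]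
        exact AdjoinRoot.eval₂_root _)).toAlgebra
  have hlift_of : ∀ c : k, algebraMap (AdjoinRoot f) (AdjoinRoot (f.map (algebraMap k K)))
      (AdjoinRoot.of f c) = algebraMap k (AdjoinRoot (f.map (algebraMap k K))) c :=
    fun c => AdjoinRoot.lift_of _
  have hlift_root : algebraMap (AdjoinRoot f) (AdjoinRoot (f.map (algebraMap k K)))
      (AdjoinRoot.root f) = AdjoinRoot.root (f.map (algebraMap k K)) :=
    AdjoinRoot.lift_root _
  haveI : IsScalarTower k (AdjoinRoot f) (AdjoinRoot (f.map (algebraMap k K))) :=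
    IsScalarTower.of_algebraMap_eq (fun c => (hlift_of c).symm)
  have hpb := AdjoinRoot.powerBasis hf0
  haveI : Module.Finite k (AdjoinRoot f) := hpb.finite
  haveI : Finite (AdjoinRoot f) := Module.finite_of_finite k
  have hrank : Module.finrank k (AdjoinRoot f) = r := by
    rw [(AdjoinRoot.powerBasis hf0).finrank, AdjoinRoot.powerBasis_dim, hfd]
  -- bijectivity of the product map
  set φ := Algebra.TensorProduct.productMap
      (IsScalarTower.toAlgHom k (AdjoinRoot f) (AdjoinRoot (f.map (algebraMap k K))))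
      (IsScalarTower.toAlgHom k K (AdjoinRoot (f.map (algebraMap k K)))) with hφ
  have hφ_tmul : ∀ (a : AdjoinRoot f) (b : K), φ (a ⊗ₜ b) =
      algebraMap (AdjoinRoot f) (AdjoinRoot (f.map (algebraMap k K))) a *
        algebraMap K (AdjoinRoot (f.map (algebraMap k K))) b := by
    intro a b; simp [φ]
  have hint : IsIntegral k (AdjoinRoot.root f) := Algebra.IsIntegral.isIntegral _
  have hα : IntermediateField.adjoin k {AdjoinRoot.root f} = ⊤ :=
    IntermediateField.adjoin_eq_top_of_algebra _ _ (AdjoinRoot.adjoinRoot_eq_top (f := f))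
  have hF : IsField (AdjoinRoot f ⊗[k] K) :=
    LeadFF.isField_tensor_of_simple hK.2 (AdjoinRoot.root f) hint hα
  have hbij : Function.Bijective φ := by
    constructor
    · rw [injective_iff_map_eq_zero]
      intro x hx
      by_contra hx0
      obtain ⟨y, hy⟩ := hF.mul_inv_cancel hx0
      have := congrArg φ hy
      rw [map_mul, hx, zero_mul, map_one] at this
      exact zero_ne_one this
    · let S : Subalgebra K (AdjoinRoot (f.map (algebraMap k K))) :=
        { carrier := Set.range φ
          mul_mem' := by rintro _ _ ⟨a, rfl⟩ ⟨b, rfl⟩; exact ⟨a * b, map_mul _ _ _⟩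
          add_mem' := by rintro _ _ ⟨a, rfl⟩ ⟨b, rfl⟩; exact ⟨a + b, map_add _ _ _⟩
          one_mem' := ⟨1, map_one _⟩
          zero_mem' := ⟨0, map_zero _⟩
          algebraMap_mem' := fun a => ⟨1 ⊗ₜ a, by rw [hφ_tmul]; simp⟩ }
      have hroot : AdjoinRoot.root (f.map (algebraMap k K)) ∈ S :=
        ⟨AdjoinRoot.root f ⊗ₜ 1, by rw [hφ_tmul, hlift_root]; simp⟩
      have htop : (⊤ : Subalgebra K (AdjoinRoot (f.map (algebraMap k K)))) ≤ S := by
        rw [← AdjoinRoot.adjoinRoot_eq_top (f := f.map (algebraMap k K))]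
        exact Algebra.adjoin_le (Set.singleton_subset_iff.mpr hroot)
      intro z
      exact htop Algebra.mem_top
  have hg : IsGeometric k K := Groth.Agent.S11000.result k K hK
  have hK' : IsFunctionField (AdjoinRoot f) (AdjoinRoot (f.map (algebraMap k K))) :=
    Groth.Agent.Lib.Helper7.FunFldConst.isFunctionField_constExt hbij hK hg
  -- a rational place
  haveI : FiniteDimensional k (AdjoinRoot f) := Module.Finite.of_finite
  haveI : Algebra.IsAlgebraic k (AdjoinRoot f) := Algebra.IsAlgebraic.of_finite k _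
  haveI : FiniteDimensional K (AdjoinRoot (f.map (algebraMap k K))) :=
    LeadCE.finiteDimensional_of_surjective hbij.2
  obtain ⟨Q, hQ⟩ := exists_over' (K' := AdjoinRoot (f.map (algebraMap k K))) hK P₀
  have hdeg := up_deg_over hbij hK P₀ hQ
  rw [hrank, ← hr, Nat.gcd_self] at hdeg
  have hQ₀ : (up (k' := AdjoinRoot f) Q).deg = 1 :=
    Nat.eq_of_mul_eq_mul_right hr0 (by rw [hdeg, one_mul])
  refine ⟨r, genus (AdjoinRoot f) (AdjoinRoot (f.map (algebraMap k K))), hr0, ?_⟩
  intro σ a ha hda hga
  have hq0 : 0 < Nat.card k := Nat.card_pos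
  have hcard : Nat.card (AdjoinRoot f) = Nat.card k ^ r := by
    rw [← hrank]
    exact Module.natCard_eq_pow_finrank
  have hk' : ∀ c : AdjoinRoot f, c ^ (Nat.card k ^ a * Nat.card k ^ a) = c := by
    intro c
    obtain ⟨m, rfl⟩ := hda
    have e1 : Nat.card k ^ (r * m) = Nat.card (AdjoinRoot f) ^ m := by rw [hcard, pow_mul]
    rw [e1, ← pow_add]
    exact pow_card_pow_eq _ c _
  exact tb_constExt hbij hK hK' σ (Nat.card k ^ a) (Nat.pow_pos hq0)
    (fun x y => add_pow_card_pow k a x y) hk' hga (up (k' := AdjoinRoot f) Q) hQ₀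

end Groth.Agent.Lib.LeadRH
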