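import Groth.Agent.Lib.LeadRH4

/-! Frobenius elements at places of a finite Galois extension of function fields over a finite
field. -/

namespace Groth.Agent.Lib.LeadRH

attribute [-instance] IsLocalRing.instModuleResidueFieldOfAlgebra

open FunFld WithZero Polynomial Groth.Agent.Lib.LeadFF Groth.Agent.Lib.LeadZC

section Basic

variable {k E : Type*} [Field k] [Field E] [Algebra k E]

/-- powers of a Frobenius-like automorphism. -/
lemma sfix_pow {σ : E ≃ₐ[k] E} {N : ℕ} {P : Place k E} (hP : P ∈ SFix σ N) (j : ℕ) :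
    P ∈ SFix (σ ^ j) (N ^ j) := by
  induction j with
  | zero =>
    intro z _
    rw [pow_zero, pow_zero, pow_one, AlgEquiv.one_apply, sub_self, map_zero]
    exact zero_lt_one
  | succ j ih =>
    intro z hz
    have h1 : (σ ^ (j + 1)) z = (σ ^ j) (σ z) := by
      rw [pow_succ, AlgEquiv.mul_apply]
    have h2 : z ^ N ^ (j + 1) = (z ^ N) ^ N ^ j := by
      rw [← pow_mul, pow_succ, mul_comm]
    have h3 : (σ ^ (j + 1)) z - z ^ N ^ (j + 1) =
        (σ ^ j) (σ z - z ^ N) + ((σ ^ j) (z ^ N) - (z ^ N) ^ N ^ j) := by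
      rw [h1, h2, map_sub]; ring
    rw [h3]
    have hzN : P.1 (z ^ N) ≤ 1 := by rw [map_pow]; exact pow_le_one' hz N
    have h4 : P.1 ((σ ^ j) (σ z - z ^ N)) < 1 := by
      rw [val_map_eq_of_mem_SFix ih]; exact hP z hz
    exact lt_of_le_of_lt (P.1.map_add _ _) (max_lt h4 (ih _ hzN))

end Basic

section Residue

variable {k K : Type*} [Field k] [Field K] [Algebra k K] [Finite k]

lemma card_residue (hK : IsFunctionField k K) (P : Place k K) :
    Nat.card (IsLocalRing.ResidueField P.O) = Nat.card k ^ P.deg := by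
  haveI : Module.Finite k (IsLocalRing.ResidueField P.O) := residueField_finite hK P
  show Nat.card (IsLocalRing.ResidueField P.O) =
    Nat.card k ^ Module.finrank k (IsLocalRing.ResidueField P.O)
  exact Module.natCard_eq_pow_finrank

lemma val_pow_sub_lt (hK : IsFunctionField k K) (P : Place k K) {z : K} (hz : P.1 z ≤ 1)
    (j : ℕ) : P.1 (z ^ (Nat.card k ^ (P.deg * j)) - z) < 1 := by
  haveI : Module.Finite k (IsLocalRing.ResidueField P.O) := residueField_finite hK P
  haveI : Finite (IsLocalRing.ResidueField P.O) := Module.finite_of_finite k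
  have h1 := pow_card_pow_eq (IsLocalRing.ResidueField P.O)
    (IsLocalRing.residue P.O ⟨z, hz⟩) j
  rw [card_residue hK P, ← pow_mul] at h1
  have h2 : IsLocalRing.residue P.O
      ((⟨z, hz⟩ : P.O) ^ (Nat.card k ^ (P.deg * j)) - ⟨z, hz⟩) = 0 := by
    rw [map_sub, map_pow, h1, sub_self]
  exact (LeadFG.residue_eq_zero_iff P _).mp h2

lemma deg_dvd_of_forall (hK : IsFunctionField k K) (P : Place k K) (r : ℕ)
    (h : ∀ z : K, P.1 z ≤ 1 → P.1 (z ^ (Nat.card k ^ r) - z) < 1) : P.deg ∣ r := by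
  classical
  haveI : Fintype k := Fintype.ofFinite k
  haveI : Module.Finite k (IsLocalRing.ResidueField P.O) := residueField_finite hK P
  haveI : Finite (IsLocalRing.ResidueField P.O) := Module.finite_of_finite k
  let σP := FiniteField.frobeniusAlgHom k (IsLocalRing.ResidueField P.O)
  have hσP : ∀ (n : ℕ) (z : IsLocalRing.ResidueField P.O),
      (σP ^ n) z = z ^ (Fintype.card k) ^ n := by
    intro n z
    rw [AlgHom.coe_pow, FiniteField.coe_frobeniusAlgHom, pow_iterate]
  have hoP : orderOf σP = P.deg := FiniteField.orderOf_frobeniusAlgHom k _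
  rw [← hoP]
  apply orderOf_dvd_of_pow_eq_one
  apply AlgHom.ext
  intro x
  rw [AlgHom.one_apply, hσP]
  obtain ⟨w, rfl⟩ := IsLocalRing.residue_surjective x
  have h1 := h w w.2
  rw [← Nat.card_eq_fintype_card]
  have h2 : IsLocalRing.residue P.O (w ^ (Nat.card k ^ r) - w) = 0 :=
    (LeadFG.residue_eq_zero_iff P _).mpr h1
  rw [map_sub, map_pow, sub_eq_zero] at h2
  exact h2

end Residue

section Galois

variable {k K K' : Type*} [Field k] [Field K] [Field K'] [Algebra k K] [Algebra K K']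
  [Algebra k K'] [IsScalarTower k K K']

lemma restrictScalars_pow (σ : K' ≃ₐ[K] K') (j : ℕ) :
    (σ ^ j).restrictScalars k = (σ.restrictScalars k) ^ j := by
  induction j with
  | zero => rfl
  | succ j ih =>
    rw [pow_succ, pow_succ, ← ih]
    rfl

lemma cm_eq_of_mem_SFix' {σ : K' ≃ₐ[K] K'} {N : ℕ} {Q : Place k K'}
    (hQ : Q ∈ SFix (σ.restrictScalars k) N) : cm Q σ = Q :=
  (place_eq_of_le (P := Q) (Q := cm Q σ)
    (fun _ hy => val_le_one_of_mem_SFix hQ hy)).symm

variable [FiniteDimensional K K']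

lemma eq_one_of_surjective {Q : Place k K'} {P : Place k K} {e : ℕ} (he : IsOverWith Q P e)
    (hs : Function.Surjective (Q.1.comap (algebraMap K K'))) : e = 1 := by
  obtain ⟨x, hx⟩ := hs (exp (1 : ℤ))
  rw [Valuation.comap_apply, he] at hx
  have he0 := isOverWith_pos he
  have hx0 : P.1 x ≠ 0 := by
    intro h
    rw [h, zero_pow he0.ne'] at hx
    exact exp_ne_zero hx.symm
  rw [← exp_log hx0, ← exp_nsmul, exp_inj] at hx
  have h2 : (e : ℤ) ∣ 1 := ⟨log (P.1 x), by rw [← hx, nsmul_eq_mul]⟩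
  have h3 : e ∣ 1 := by exact_mod_cast h2
  exact Nat.dvd_one.mp h3

variable [IsGalois K K'] [Finite k]

/-- existence of a Frobenius element. -/
theorem exists_frob (hK : IsFunctionField k K) {Q : Place k K'} {P : Place k K}
    (hQP : IsOver Q P) :
    ∃ σ : K' ≃ₐ[K] K', Q ∈ SFix (σ.restrictScalars k) (Nat.card k ^ P.deg) := by
  classical
  obtain ⟨e, he⟩ := hQP
  have he0 := isOverWith_pos he
  have hQP : IsOver Q P := ⟨e, he⟩
  let ι : IsLocalRing.ResidueField P.O →+* IsLocalRing.ResidueField Q.O :=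
    IsLocalRing.ResidueField.map (overHom he)
  have hι : ∀ w : P.O, ι (IsLocalRing.residue P.O w) = IsLocalRing.residue Q.O (overHom he w) :=
    fun w => IsLocalRing.ResidueField.map_residue _ _
  haveI : Module.Finite k (IsLocalRing.ResidueField Q.O) :=
    LeadFG.residueField_finite (isFF_of_finite hK) Q
  haveI : Module.Finite k (IsLocalRing.ResidueField P.O) := residueField_finite hK P
  haveI : Finite (IsLocalRing.ResidueField P.O) := Module.finite_of_finite k
  haveI : Finite (IsLocalRing.ResidueField Q.O) := Module.finite_of_finite k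
  haveI : Fintype (IsLocalRing.ResidueField P.O) := Fintype.ofFinite _
  set N := Nat.card k ^ P.deg with hN
  have hN0 : N ≠ 0 := (Nat.pow_pos Nat.card_pos).ne'
  have hcardP : Fintype.card (IsLocalRing.ResidueField P.O) = N := by
    rw [← Nat.card_eq_fintype_card, card_residue hK P]
  -- a generator of the unit group
  obtain ⟨g, hg⟩ := IsCyclic.exists_generator (α := (IsLocalRing.ResidueField Q.O)ˣ)
  set ab : IsLocalRing.ResidueField Q.O := (g : IsLocalRing.ResidueField Q.O) with hab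
  have hab0 : ab ≠ 0 := g.ne_zero
  obtain ⟨z0, hz0⟩ := IsLocalRing.residue_surjective ab
  obtain ⟨α, hα1, hα2⟩ := LeadIG.exists_approx_elt hK hQP (z0 : K')
  have hαQ : Q.1 α ≤ 1 := by
    have : α = (α - z0) + z0 := by ring
    rw [this]
    exact (Q.1.map_add _ _).trans (max_le hα1.le z0.2)
  have hres_α : IsLocalRing.residue Q.O ⟨α, hαQ⟩ = ab := by
    rw [← hz0, ← sub_eq_zero, ← map_sub, LeadFG.residue_eq_zero_iff]
    exact hα1
  have hσα : ∀ σ : K' ≃ₐ[K] K', Q.1 (σ α) ≤ 1 ∧ (cm Q σ ≠ Q → Q.1 (σ α) < 1) := by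
    intro σ
    by_cases hσ : cm Q σ = Q
    · refine ⟨?_, fun h => absurd hσ h⟩
      have : Q.1 (σ α) = (cm Q σ).1 α := rfl
      rw [this, hσ]; exact hαQ
    · have h1 : (cm Q σ).1 α < 1 := hα2 _ ⟨e, isOverWith_cm he σ⟩ hσ
      exact ⟨h1.le, fun _ => h1⟩
  let a : (K' ≃ₐ[K] K') → Q.O := fun σ => ⟨σ α, (hσα σ).1⟩
  obtain ⟨g0, hg0⟩ := LeadIG.exists_lift_charpoly he a α (fun σ => rfl)
  set gb : (IsLocalRing.ResidueField P.O)[X] := g0.map (IsLocalRing.residue P.O) with hgb
  have hgbmap : gb.map ι = ∏ σ : K' ≃ₐ[K] K', (X - C (IsLocalRing.residue Q.O (a σ))) := by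
    rw [hgb, Polynomial.map_map]
    have hcomp : ι.comp (IsLocalRing.residue P.O) = (IsLocalRing.residue Q.O).comp (overHom he) := by
      ext w; exact hι w
    rw [hcomp, ← Polynomial.map_map, hg0, Polynomial.map_prod]
    apply Finset.prod_congr rfl
    intro σ _
    rw [Polynomial.map_sub, Polynomial.map_X, Polynomial.map_C]
  have hroot1 : (gb.map ι).eval ab = 0 := by
    rw [hgbmap, eval_prod]
    apply Finset.prod_eq_zero (Finset.mem_univ (1 : K' ≃ₐ[K] K'))
    rw [eval_sub, eval_X, eval_C, sub_eq_zero]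
    exact hres_α.symm
  have hroot2 : (gb.map ι).eval (ab ^ N) = 0 := by
    have hexp : Polynomial.expand (IsLocalRing.ResidueField P.O) N gb = gb ^ N := by
      rw [← hcardP]; exact FiniteField.expand_card gb
    have h1 : (gb.map ι).eval (ab ^ N) =
        ((Polynomial.expand (IsLocalRing.ResidueField P.O) N gb).map ι).eval ab := by
      rw [Polynomial.map_expand, Polynomial.expand_eval]
    rw [h1, hexp, Polynomial.map_pow, eval_pow, hroot1, zero_pow hN0]
  rw [hgbmap, eval_prod, Finset.prod_eq_zero_iff] at hroot2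
  obtain ⟨σ, -, hσ⟩ := hroot2
  rw [eval_sub, eval_X, eval_C, sub_eq_zero] at hσ
  have hσD : cm Q σ = Q := by
    by_contra hne
    have h0 : IsLocalRing.residue Q.O (a σ) = 0 := by
      rw [LeadFG.residue_eq_zero_iff]; exact (hσα σ).2 hne
    rw [h0] at hσ
    exact hab0 ((pow_eq_zero_iff hN0).mp hσ)
  refine ⟨σ, ?_⟩
  have hσO : ∀ z : K', Q.1 (σ z) = Q.1 z := fun z =>
    congrArg (fun R : Place k K' => R.1 z) hσD
  -- the induced map on the valuation ring
  let σO : Q.O →+* Q.O :=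
    { toFun := fun w => ⟨σ (w : K'), by
        show Q.1 (σ (w : K')) ≤ 1
        rw [hσO]; exact w.2⟩
      map_one' := Subtype.ext (map_one σ)
      map_mul' := fun x y => Subtype.ext (map_mul σ _ _)
      map_zero' := Subtype.ext (map_zero σ)
      map_add' := fun x y => Subtype.ext (map_add σ _ _) }
  let φ : Q.O →+* IsLocalRing.ResidueField Q.O := (IsLocalRing.residue Q.O).comp σO
  have hφker : ∀ w : Q.O, IsLocalRing.residue Q.O w = 0 → φ w = 0 := by
    intro w hw
    rw [LeadFG.residue_eq_zero_iff] at hw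
    show IsLocalRing.residue Q.O (σO w) = 0
    rw [LeadFG.residue_eq_zero_iff]
    show Q.1 (σ (w : K')) < 1
    rw [hσO]; exact hw
  have hφcongr : ∀ w w' : Q.O, IsLocalRing.residue Q.O w = IsLocalRing.residue Q.O w' →
      φ w = φ w' := by
    intro w w' h
    rw [← sub_eq_zero, ← map_sub]
    apply hφker
    rw [map_sub, h, sub_self]
  have hφα : φ ⟨α, hαQ⟩ = ab ^ N := by
    rw [hσ]; rfl
  have hφall : ∀ w : Q.O, φ w = (IsLocalRing.residue Q.O w) ^ N := by
    intro w
    by_cases hw0 : IsLocalRing.residue Q.O w = 0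
    · rw [hφker w hw0, hw0, zero_pow hN0]
    · obtain ⟨i, hi⟩ : ∃ i : ℕ, ab ^ i = IsLocalRing.residue Q.O w := by
        have hu : Units.mk0 _ hw0 ∈ Submonoid.powers g :=
          mem_powers_iff_mem_zpowers.mpr (hg _)
        obtain ⟨i, hi⟩ := hu
        refine ⟨i, ?_⟩
        have := congrArg (fun u : (IsLocalRing.ResidueField Q.O)ˣ =>
          (u : IsLocalRing.ResidueField Q.O)) hi
        simpa using this
      have h1 : φ w = φ (⟨α, hαQ⟩ ^ i) := by
        apply hφcongr
        rw [map_pow, hres_α, hi]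
      rw [h1, map_pow, hφα, ← hi, ← pow_mul, ← pow_mul, mul_comm]
  intro z hz
  have h1 := hφall ⟨z, hz⟩
  have h2 : IsLocalRing.residue Q.O (σO ⟨z, hz⟩ - ⟨z, hz⟩ ^ N) = 0 := by
    rw [map_sub, map_pow, sub_eq_zero]; exact h1
  exact (LeadFG.residue_eq_zero_iff Q _).mp h2

/-- a Frobenius-like automorphism over `K` forces the degree below to divide. -/
lemma deg_dvd_of_mem_SFix (hK : IsFunctionField k K) {σ : K' ≃ₐ[K] K'} {r : ℕ}
    {Q : Place k K'} (hQ : Q ∈ SFix (σ.restrictScalars k) (Nat.card k ^ r)) {P : Place k K}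
    (hQP : IsOver Q P) : P.deg ∣ r := by
  obtain ⟨e, he⟩ := hQP
  have he0 := isOverWith_pos he
  apply deg_dvd_of_forall hK P r
  intro z hz
  have h1 : Q.1 (algebraMap K K' z) ≤ 1 := by rw [he]; exact pow_le_one' hz e
  have h2 := hQ _ h1
  have h3 : (σ.restrictScalars k) (algebraMap K K' z) = algebraMap K K' z := σ.commutes z
  rw [h3, ← map_pow, ← map_sub, he] at h2
  have h4 : P.1 (z - z ^ (Nat.card k ^ r)) < 1 := (pow_lt_one_iff he0.ne').mp h2
  rwa [← Valuation.map_neg, neg_sub] at h4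

/-- all places over a place of degree dividing `r` are Frobenius-like for some automorphism. -/
lemma exists_mem_SFix (hK : IsFunctionField k K) {Q : Place k K'} {P : Place k K}
    (hQP : IsOver Q P) {r : ℕ} (hr : P.deg ∣ r) :
    ∃ σ : K' ≃ₐ[K] K', Q ∈ SFix (σ.restrictScalars k) (Nat.card k ^ r) := by
  obtain ⟨σ, hσ⟩ := exists_frob hK hQP
  obtain ⟨j, rfl⟩ := hr
  refine ⟨σ ^ j, ?_⟩
  have := sfix_pow hσ j
  rw [← restrictScalars_pow, ← pow_mul] at this
  exact this

/-- uniqueness of the Frobenius-like automorphism at unramified places. -/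
theorem eq_of_mem_SFix (hK : IsFunctionField k K) {σ τ : K' ≃ₐ[K] K'} {N : ℕ} {Q : Place k K'}
    (hσ : Q ∈ SFix (σ.restrictScalars k) N) (hτ : Q ∈ SFix (τ.restrictScalars k) N)
    (hs : Function.Surjective (Q.1.comap (algebraMap K K'))) : σ = τ := by
  classical
  obtain ⟨P, e, he0, he⟩ := exists_below hK Q
  have he1 : e = 1 := eq_one_of_surjective he hs
  subst he1
  haveI : Module.Finite k (IsLocalRing.ResidueField Q.O) :=
    LeadFG.residueField_finite (isFF_of_finite hK) Q
  haveI : Algebra.IsAlgebraic k (IsLocalRing.ResidueField Q.O) := Algebra.IsAlgebraic.of_finite _ _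
  haveI : Algebra.IsSeparable k (IsLocalRing.ResidueField Q.O) :=
    Algebra.IsAlgebraic.isSeparable_of_perfectField
  have hcard := LeadIG.card_inertia hK he
  have hσQ : cm Q σ = Q := cm_eq_of_mem_SFix' hσ
  have hτQ : cm Q τ = Q := cm_eq_of_mem_SFix' hτ
  have hσinvQ : cm Q σ⁻¹ = Q := (LeadIG.cm_eq_iff_inv Q σ).mpr hσQ
  set ρ := σ⁻¹ * τ with hρ
  have hρQ : cm Q ρ = Q := by rw [hρ, ← cm_cm, hσinvQ, hτQ]
  have hρD : ρ ∈ Q.O.decompositionSubgroup K := (LeadIG.mem_decomp_iff Q ρ).mpr hρQ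
  have hval : ∀ w : K', Q.1 w ≤ 1 → Q.1 (ρ w - w) < 1 := by
    intro w hw
    have h1 : ρ w - w = σ⁻¹ (τ w - σ w) := by
      rw [map_sub]
      have : σ⁻¹ (σ w) = w := by
        show (σ⁻¹ * σ) w = w
        rw [inv_mul_cancel]; rfl
      rw [this]; rfl
    rw [h1]
    have h2 : Q.1 (σ⁻¹ (τ w - σ w)) = (cm Q σ⁻¹).1 (τ w - σ w) := rfl
    rw [h2, hσinvQ]
    have h3 : τ w - σ w = (τ w - w ^ N) - (σ w - w ^ N) := by ring
    rw [h3]
    exact lt_of_le_of_lt (Valuation.map_sub _ _ _) (max_lt (hτ w hw) (hσ w hw))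
  have hρI : (⟨ρ, hρD⟩ : Q.O.decompositionSubgroup K) ∈ Q.O.inertiaSubgroup K := by
    change MulSemiringAction.toRingAut (Q.O.decompositionSubgroup K)
      (IsLocalRing.ResidueField Q.O) ⟨ρ, hρD⟩ = 1
    ext x
    obtain ⟨w, rfl⟩ := IsLocalRing.residue_surjective x
    change IsLocalRing.residue Q.O ((⟨ρ, hρD⟩ : Q.O.decompositionSubgroup K) • w) =
      IsLocalRing.residue Q.O w
    rw [← sub_eq_zero, ← map_sub, LeadFG.residue_eq_zero_iff]
    exact hval w w.2
  have htriv : Q.O.inertiaSubgroup K = ⊥ := Subgroup.card_eq_one.mp hcard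
  rw [htriv, Subgroup.mem_bot] at hρI
  have hρ1 : ρ = 1 := congrArg Subtype.val hρI
  exact inv_mul_eq_one.mp hρ1

end Galois

end Groth.Agent.Lib.LeadRH
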