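import Groth.Agent.Lib.LeadRH5

/-! Counting Frobenius-like places in a finite Galois extension. -/

namespace Groth.Agent.Lib.LeadRH

attribute [-instance] IsLocalRing.instModuleResidueFieldOfAlgebra

open FunFld WithZero Polynomial Groth.Agent.Lib.LeadFF Groth.Agent.Lib.LeadZC

section Galois

variable {k K K' : Type*} [Field k] [Field K] [Field K'] [Algebra k K] [Algebra K K']
  [Algebra k K'] [IsScalarTower k K K'] [FiniteDimensional K K'] [IsGalois K K'] [Finite k]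

/-- lower bound for the number of pairs `(σ, Q)` with `Q` Frobenius-like for `σ`. -/
theorem sum_SFix_ge (hK : IsFunctionField k K) :
    ∃ C : ℕ, ∀ (r : ℕ), 0 < r →
      ∀ (hfin : ∀ σ : K' ≃ₐ[K] K', (SFix (σ.restrictScalars k) (Nat.card k ^ r)).Finite),
      Module.finrank K K' * Npow hK r ≤
        (∑ σ : K' ≃ₐ[K] K', ∑ Q ∈ (hfin σ).toFinset, Q.deg) + C := by
  classical
  have hram := LeadRM.ramified_finite (k := k) (K := K) (K' := K') hK
  set Ram := hram.toFinset with hRam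
  let below : Place k K' → Place k K := fun Q => Classical.choose (exists_below hK Q)
  have hbelow : ∀ Q, IsOver Q (below Q) := fun Q => by
    obtain ⟨e, _, he⟩ := Classical.choose_spec (exists_below hK Q)
    exact ⟨e, he⟩
  have hbelow_eq : ∀ Q P, IsOver Q P → below Q = P := by
    intro Q P hQP
    obtain ⟨e, he⟩ := hQP
    obtain ⟨e', he'⟩ := hbelow Q
    exact (isOverWith_unique he' he).1
  set RamB := Ram.image below with hRamB
  set n := Module.finrank K K' with hn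
  refine ⟨n * ∑ P ∈ RamB, P.deg, ?_⟩
  intro r hr hfin
  set PP := (finite_dvd hK r).toFinset with hPP
  set PPf := PP.filter (fun P => P ∉ RamB) with hPPf
  let ovr : Place k K → Finset (Place k K') := fun P => (finite_over (K' := K') hK P).toFinset
  have hovr : ∀ P Q, Q ∈ ovr P ↔ IsOver Q P := fun P Q => Set.Finite.mem_toFinset _
  set U := PPf.biUnion ovr with hU
  -- step a
  have hstepa : ∀ P ∈ PPf, ∑ Q ∈ ovr P, Q.deg = n * P.deg := by
    intro P hP
    rw [← sum_ramIdx_deg hK P (ovr P) (fun Q => hovr P Q)]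
    apply Finset.sum_congr rfl
    intro Q hQ
    obtain ⟨e, he⟩ := (hovr P Q).mp hQ
    have hQram : Q ∉ Ram := by
      intro hQR
      have hPR : P ∈ RamB := by
        rw [hRamB, Finset.mem_image]
        exact ⟨Q, hQR, hbelow_eq Q P ⟨e, he⟩⟩
      exact (Finset.mem_filter.mp hP).2 hPR
    have hsurj : Function.Surjective (Q.1.comap (algebraMap K K')) := by
      by_contra hns
      exact hQram (hram.mem_toFinset.mpr hns)
    rw [ramIdx_eq he, eq_one_of_surjective he hsurj, one_mul]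
  -- step b
  have hex : ∀ Q ∈ U, ∃ σ : K' ≃ₐ[K] K', Q ∈ SFix (σ.restrictScalars k) (Nat.card k ^ r) := by
    intro Q hQ
    rw [hU, Finset.mem_biUnion] at hQ
    obtain ⟨P, hP, hQP⟩ := hQ
    have hPr : P.deg ∣ r := (mem_dvd hK hr P).mp (Finset.mem_filter.mp hP).1
    exact exists_mem_SFix hK ((hovr P Q).mp hQP) hPr
  let φ : Place k K' → (K' ≃ₐ[K] K') := fun Q =>
    if h : ∃ σ : K' ≃ₐ[K] K', Q ∈ SFix (σ.restrictScalars k) (Nat.card k ^ r)
    then Classical.choose h else 1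
  have hφ : ∀ Q ∈ U, Q ∈ SFix ((φ Q).restrictScalars k) (Nat.card k ^ r) := by
    intro Q hQ
    have h := hex Q hQ
    simp only [φ, dif_pos h]
    exact Classical.choose_spec h
  -- step c
  have hstepc : ∑ Q ∈ U, Q.deg ≤ ∑ σ : K' ≃ₐ[K] K', ∑ Q ∈ (hfin σ).toFinset, Q.deg := by
    rw [← Finset.sum_fiberwise U φ (fun Q => Q.deg)]
    apply Finset.sum_le_sum
    intro σ _
    apply Finset.sum_le_sum_of_subset
    intro Q hQ
    rw [Finset.mem_filter] at hQ
    rw [Set.Finite.mem_toFinset, ← hQ.2]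
    exact hφ Q hQ.1
  -- step d
  have hdisj : (PPf : Set (Place k K)).PairwiseDisjoint ovr := by
    intro P₁ _ P₂ _ hne
    rw [Function.onFun, Finset.disjoint_left]
    intro Q h1 h2
    obtain ⟨e₁, he₁⟩ := (hovr _ _).mp h1
    obtain ⟨e₂, he₂⟩ := (hovr _ _).mp h2
    exact hne (isOverWith_unique he₁ he₂).1
  have hstepd : ∑ Q ∈ U, Q.deg = n * ∑ P ∈ PPf, P.deg := by
    rw [hU, Finset.sum_biUnion hdisj, Finset.mul_sum]
    exact Finset.sum_congr rfl hstepa
  -- step e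
  have hstepe : Npow hK r ≤ ∑ P ∈ PPf, P.deg + ∑ P ∈ RamB, P.deg := by
    unfold Npow
    rw [← hPP, ← Finset.sum_filter_add_sum_filter_not PP (fun P => P ∉ RamB), ← hPPf]
    apply Nat.add_le_add_left
    apply Finset.sum_le_sum_of_subset
    intro P hP
    have := (Finset.mem_filter.mp hP).2
    exact not_not.mp this
  calc n * Npow hK r ≤ n * (∑ P ∈ PPf, P.deg + ∑ P ∈ RamB, P.deg) := Nat.mul_le_mul_left n hstepe
    _ = ∑ Q ∈ U, Q.deg + n * ∑ P ∈ RamB, P.deg := by rw [mul_add, hstepd]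
    _ ≤ _ := Nat.add_le_add_right hstepc _

/-- upper bound for the number of pairs `(σ, Q)` with `Q` Frobenius-like for `σ`. -/
theorem sum_SFix_le (hK : IsFunctionField k K) :
    ∃ C : ℕ, ∀ (r : ℕ), 0 < r →
      ∀ (hfin : ∀ σ : K' ≃ₐ[K] K', (SFix (σ.restrictScalars k) (Nat.card k ^ r)).Finite),
      (∑ σ : K' ≃ₐ[K] K', ∑ Q ∈ (hfin σ).toFinset, Q.deg) ≤
        Module.finrank K K' * Npow hK r + C := by
  classical
  have hram := LeadRM.ramified_finite (k := k) (K := K) (K' := K') hK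
  set Ram := hram.toFinset with hRam
  let below : Place k K' → Place k K := fun Q => Classical.choose (exists_below hK Q)
  have hbelow : ∀ Q, IsOver Q (below Q) := fun Q => by
    obtain ⟨e, _, he⟩ := Classical.choose_spec (exists_below hK Q)
    exact ⟨e, he⟩
  set n := Module.finrank K K' with hn
  have hcardG : Fintype.card (K' ≃ₐ[K] K') = n := by
    rw [← Nat.card_eq_fintype_card]; exact IsGalois.card_aut_eq_finrank K K'
  refine ⟨n * ∑ Q ∈ Ram, Q.deg, ?_⟩
  intro r hr hfin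
  set PP := (finite_dvd hK r).toFinset with hPP
  let ovr : Place k K → Finset (Place k K') := fun P => (finite_over (K' := K') hK P).toFinset
  have hovr : ∀ P Q, Q ∈ ovr P ↔ IsOver Q P := fun P Q => Set.Finite.mem_toFinset _
  set V := PP.biUnion ovr with hV
  let T : (K' ≃ₐ[K] K') → Finset (Place k K') := fun σ => (hfin σ).toFinset
  have hT : ∀ σ Q, Q ∈ T σ ↔ Q ∈ SFix (σ.restrictScalars k) (Nat.card k ^ r) :=
    fun σ Q => Set.Finite.mem_toFinset _
  -- split
  have hsplit : ∀ σ, ∑ Q ∈ T σ, Q.deg =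
      ∑ Q ∈ (T σ).filter (fun Q => Q ∉ Ram), Q.deg +
        ∑ Q ∈ (T σ).filter (fun Q => ¬ Q ∉ Ram), Q.deg :=
    fun σ => (Finset.sum_filter_add_sum_filter_not (T σ) (fun Q => Q ∉ Ram) _).symm
  have hram_part : ∑ σ : K' ≃ₐ[K] K', ∑ Q ∈ (T σ).filter (fun Q => ¬ Q ∉ Ram), Q.deg ≤
      n * ∑ Q ∈ Ram, Q.deg := by
    calc ∑ σ : K' ≃ₐ[K] K', ∑ Q ∈ (T σ).filter (fun Q => ¬ Q ∉ Ram), Q.deg
        ≤ ∑ _σ : K' ≃ₐ[K] K', ∑ Q ∈ Ram, Q.deg := by
          apply Finset.sum_le_sum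
          intro σ _
          apply Finset.sum_le_sum_of_subset
          intro Q hQ
          exact not_not.mp (Finset.mem_filter.mp hQ).2
      _ = n * ∑ Q ∈ Ram, Q.deg := by
          rw [Finset.sum_const, Finset.card_univ, hcardG, smul_eq_mul]
  have hdisjT : ((Finset.univ : Finset (K' ≃ₐ[K] K')) : Set (K' ≃ₐ[K] K')).PairwiseDisjoint
      (fun σ => (T σ).filter (fun Q => Q ∉ Ram)) := by
    intro σ _ τ _ hne
    rw [Function.onFun, Finset.disjoint_left]
    intro Q h1 h2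
    rw [Finset.mem_filter] at h1 h2
    have hsurj : Function.Surjective (Q.1.comap (algebraMap K K')) := by
      by_contra hns
      exact h1.2 (hram.mem_toFinset.mpr hns)
    exact hne (eq_of_mem_SFix hK ((hT σ Q).mp h1.1) ((hT τ Q).mp h2.1) hsurj)
  have hsubV : (Finset.univ : Finset (K' ≃ₐ[K] K')).biUnion
      (fun σ => (T σ).filter (fun Q => Q ∉ Ram)) ⊆ V := by
    intro Q hQ
    rw [Finset.mem_biUnion] at hQ
    obtain ⟨σ, -, hQ⟩ := hQ
    rw [Finset.mem_filter] at hQ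
    rw [hV, Finset.mem_biUnion]
    refine ⟨below Q, ?_, (hovr _ _).mpr (hbelow Q)⟩
    rw [hPP, mem_dvd hK hr]
    exact deg_dvd_of_mem_SFix hK ((hT σ Q).mp hQ.1) (hbelow Q)
  have hdisj : (PP : Set (Place k K)).PairwiseDisjoint ovr := by
    intro P₁ _ P₂ _ hne
    rw [Function.onFun, Finset.disjoint_left]
    intro Q h1 h2
    obtain ⟨e₁, he₁⟩ := (hovr _ _).mp h1
    obtain ⟨e₂, he₂⟩ := (hovr _ _).mp h2
    exact hne (isOverWith_unique he₁ he₂).1
  have hV_le : ∑ Q ∈ V, Q.deg ≤ n * Npow hK r := by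
    unfold Npow
    rw [hV, Finset.sum_biUnion hdisj, ← hPP, Finset.mul_sum]
    apply Finset.sum_le_sum
    intro P _
    rw [← sum_ramIdx_deg hK P (ovr P) (fun Q => hovr P Q)]
    apply Finset.sum_le_sum
    intro Q hQ
    obtain ⟨e, he⟩ := (hovr P Q).mp hQ
    rw [ramIdx_eq he]
    exact Nat.le_mul_of_pos_left _ (isOverWith_pos he)
  have hunram_part : ∑ σ : K' ≃ₐ[K] K', ∑ Q ∈ (T σ).filter (fun Q => Q ∉ Ram), Q.deg ≤
      n * Npow hK r := by
    rw [← Finset.sum_biUnion hdisjT]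
    exact (Finset.sum_le_sum_of_subset hsubV).trans hV_le
  calc (∑ σ : K' ≃ₐ[K] K', ∑ Q ∈ (hfin σ).toFinset, Q.deg)
      = ∑ σ : K' ≃ₐ[K] K', (∑ Q ∈ (T σ).filter (fun Q => Q ∉ Ram), Q.deg +
          ∑ Q ∈ (T σ).filter (fun Q => ¬ Q ∉ Ram), Q.deg) :=
        Finset.sum_congr rfl (fun σ _ => hsplit σ)
    _ = ∑ σ : K' ≃ₐ[K] K', ∑ Q ∈ (T σ).filter (fun Q => Q ∉ Ram), Q.deg +
          ∑ σ : K' ≃ₐ[K] K', ∑ Q ∈ (T σ).filter (fun Q => ¬ Q ∉ Ram), Q.deg :=
        Finset.sum_add_distrib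
    _ ≤ n * Npow hK r + n * ∑ Q ∈ Ram, Q.deg := Nat.add_le_add hunram_part hram_part

end Galois

end Groth.Agent.Lib.LeadRH
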