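import Groth.Agent.Lib.LeadRH6

/-! The Hasse–Weil estimate for an intermediate field of a Galois extension of a function field
with `N_r = q^r + 1` (Bombieri's argument). -/

namespace Groth.Agent.Lib.LeadRH

attribute [-instance] IsLocalRing.instModuleResidueFieldOfAlgebra

open FunFld WithZero Polynomial Groth.Agent.Lib.LeadFF Groth.Agent.Lib.LeadZC

universe u v w x

/-- the places of degree dividing `a + a` are Frobenius-like for the identity. -/
lemma mem_SFix_refl {k : Type*} {K : Type*} [Field k] [Finite k] [Field K] [Algebra k K]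
    (hK : IsFunctionField k K) {P : Place k K} {a : ℕ} (hP : P.deg ∣ a + a) :
    P ∈ SFix (AlgEquiv.refl : K ≃ₐ[k] K) (Nat.card k ^ a * Nat.card k ^ a) := by
  intro z hz
  obtain ⟨j, hj⟩ := hP
  have h1 := val_pow_sub_lt hK P hz j
  rw [← hj, pow_add] at h1
  rw [AlgEquiv.coe_refl, id, ← Valuation.map_neg, neg_sub]
  exact h1

lemma exists_pow_gt (q : ℕ) (hq : 1 < q) (B : ℕ) : ∀ a, B ≤ a → B < q ^ a := by
  intro a ha
  calc B ≤ a := ha
    _ < 2 ^ a := Nat.lt_two_pow_self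
    _ ≤ q ^ a := Nat.pow_le_pow_left hq a

theorem hasse_weil_core {k : Type u} {F : Type v} {M : Type w} {E : Type x}
    [Field k] [Finite k] [Field F] [Field M] [Field E]
    [Algebra k F] [Algebra k M] [Algebra k E] [Algebra F M] [Algebra F E] [Algebra M E]
    [IsScalarTower k F E] [IsScalarTower k M E] [IsScalarTower F M E]
    [FiniteDimensional F E] [IsGalois F E]
    (hF : IsFunctionField k F) (hM : IsFunctionField k M) (hE : IsFunctionField k E)
    (hNF : ∀ r, 0 < r → Npow hF r = Nat.card k ^ r + 1) :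
    ∃ C d a₀ : ℕ, 0 < d ∧ ∀ a, a₀ ≤ a → d ∣ a →
      |(Npow hM (a + a) : ℤ) - (Nat.card k : ℤ) ^ (a + a) - 1| ≤ C * (Nat.card k : ℤ) ^ a := by
  classical
  haveI : FiniteDimensional M E := FiniteDimensional.right F M E
  haveI : IsGalois M E := IsGalois.tower_top_of_isGalois F M E
  obtain ⟨d₀, g₂, hd₀, hTB⟩ := tb_prime k E hE
  obtain ⟨d₁, g₁, hd₁, hTBM⟩ := tb_prime k M hM
  obtain ⟨C₁, hC₁⟩ := sum_SFix_ge (K := F) (K' := E) hF
  obtain ⟨C₂, hC₂⟩ := sum_SFix_le (K := M) (K' := E) hM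
  set q := Nat.card k with hq
  have hq1 : 1 < q := Finite.one_lt_card
  set nF := Module.finrank F E with hnF
  set nM := Module.finrank M E with hnM
  have hnM0 : 0 < nM := Module.finrank_pos
  have hcardF : Fintype.card (E ≃ₐ[F] E) = nF := by
    rw [← Nat.card_eq_fintype_card]; exact IsGalois.card_aut_eq_finrank F E
  have hcardM : Fintype.card (E ≃ₐ[M] E) = nM := by
    rw [← Nat.card_eq_fintype_card]; exact IsGalois.card_aut_eq_finrank M E
  let ι : (E ≃ₐ[M] E) → (E ≃ₐ[F] E) := AlgEquiv.restrictScalars F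
  have hι : Function.Injective ι := AlgEquiv.restrictScalars_injective F
  have hnMF : nM ≤ nF := by
    rw [← hcardF, ← hcardM]; exact Fintype.card_le_of_injective ι hι
  refine ⟨C₁ + C₂ + nF * (2 * g₂ + 1) + (2 * g₁ + 1) + 1, d₀ * d₁,
    (g₂ + 1) ^ 2 + (g₁ + 1) ^ 2, Nat.mul_pos hd₀ hd₁, ?_⟩
  intro a ha hda
  have ha0 : 0 < a := by
    have : 0 < (g₂ + 1) ^ 2 := by positivity
    omega
  have hd₀a : d₀ ∣ a := (Dvd.intro _ rfl).trans hda
  have hd₁a : d₁ ∣ a := (Dvd.intro_left _ rfl).trans hda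
  have hg₂ : (g₂ + 1) ^ 2 < q ^ a := exists_pow_gt q hq1 _ a (by omega)
  have hg₁ : (g₁ + 1) ^ 2 < q ^ a := exists_pow_gt q hq1 _ a (by omega)
  set s := q ^ a with hs
  have hs1 : 1 ≤ s := Nat.one_le_pow _ _ (by omega)
  have hN : q ^ (a + a) = s * s := pow_add q a a
  -- the twisted bounds on `E`
  have hTBE : ∀ σ : E ≃ₐ[k] E, (SFix σ (q ^ (a + a))).Finite ∧
      ∀ T : Finset (Place k E), (∀ P ∈ T, P ∈ SFix σ (q ^ (a + a))) →
        ∑ P ∈ T, P.deg ≤ s * s + (2 * g₂ + 1) * s := by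
    intro σ
    rw [hN]
    exact hTB σ a ha0 hd₀a hg₂
  have hfinF : ∀ τ : E ≃ₐ[F] E, (SFix (τ.restrictScalars k) (q ^ (a + a))).Finite :=
    fun τ => (hTBE _).1
  have hfinM : ∀ σ : E ≃ₐ[M] E, (SFix (σ.restrictScalars k) (q ^ (a + a))).Finite :=
    fun σ => (hTBE _).1
  let S : (E ≃ₐ[F] E) → ℕ := fun τ => ∑ Q ∈ (hfinF τ).toFinset, Q.deg
  have hSle : ∀ τ, S τ ≤ s * s + (2 * g₂ + 1) * s := fun τ =>
    (hTBE _).2 _ (fun P hP => (hfinF τ).mem_toFinset.mp hP)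
  have hSι : ∀ σ : E ≃ₐ[M] E, S (ι σ) = ∑ Q ∈ (hfinM σ).toFinset, Q.deg := by
    intro σ
    have heq : (ι σ).restrictScalars k = σ.restrictScalars k := AlgEquiv.ext (fun _ => rfl)
    apply Finset.sum_congr _ (fun _ _ => rfl)
    ext Q
    rw [Set.Finite.mem_toFinset, Set.Finite.mem_toFinset, heq]
  have hlow := hC₁ (a + a) (by omega) hfinF
  have hupp := hC₂ (a + a) (by omega) hfinM
  rw [hNF (a + a) (by omega)] at hlow
  -- split the sum over `Gal(E/F)`
  have hsplit : ∑ τ : E ≃ₐ[F] E, S τ =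
      ∑ τ ∈ Finset.univ.image ι, S τ + ∑ τ ∈ (Finset.univ.image ι)ᶜ, S τ :=
    (Finset.sum_add_sum_compl _ _).symm
  have himage : ∑ τ ∈ Finset.univ.image ι, S τ = ∑ σ : E ≃ₐ[M] E, S (ι σ) :=
    Finset.sum_image (fun _ _ _ _ h => hι h)
  have hcompl : ∑ τ ∈ (Finset.univ.image ι)ᶜ, S τ ≤ (nF - nM) * (s * s + (2 * g₂ + 1) * s) := by
    calc ∑ τ ∈ (Finset.univ.image ι)ᶜ, S τ
        ≤ ∑ _τ ∈ (Finset.univ.image ι)ᶜ, (s * s + (2 * g₂ + 1) * s) :=
          Finset.sum_le_sum (fun τ _ => hSle τ)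
      _ = (nF - nM) * (s * s + (2 * g₂ + 1) * s) := by
          rw [Finset.sum_const, smul_eq_mul, Finset.card_compl,
            Finset.card_image_of_injective _ hι, Finset.card_univ, hcardF, hcardM]
  have hmain : nF * (q ^ (a + a) + 1) ≤
      nM * Npow hM (a + a) + C₂ + (nF - nM) * (s * s + (2 * g₂ + 1) * s) + C₁ := by
    calc nF * (q ^ (a + a) + 1) ≤ (∑ τ : E ≃ₐ[F] E, S τ) + C₁ := hlow
      _ = (∑ σ : E ≃ₐ[M] E, S (ι σ)) + ∑ τ ∈ (Finset.univ.image ι)ᶜ, S τ + C₁ := by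
          rw [hsplit, himage]
      _ ≤ nM * Npow hM (a + a) + C₂ + (nF - nM) * (s * s + (2 * g₂ + 1) * s) + C₁ := by
          have h1 : (∑ σ : E ≃ₐ[M] E, S (ι σ)) ≤ nM * Npow hM (a + a) + C₂ := by
            rw [Finset.sum_congr rfl (fun σ _ => hSι σ)]
            exact hupp
          omega
  -- the upper bound
  have hTBM' := hTBM (AlgEquiv.refl : M ≃ₐ[k] M) a ha0 hd₁a hg₁
  have hupper : Npow hM (a + a) ≤ s * s + (2 * g₁ + 1) * s := by
    unfold Npow
    apply hTBM'.2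
    intro P hP
    exact mem_SFix_refl hM ((mem_dvd hM (by omega) P).mp hP)
  -- conclusion
  have hqZ : ((q : ℤ)) ^ (a + a) = (s : ℤ) * s := by
    rw [hs]; push_cast; rw [← pow_add]
  have hsZ : ((q : ℤ)) ^ a = (s : ℤ) := by rw [hs]; push_cast; rfl
  rw [hqZ, hsZ]
  rw [hN] at hmain
  have hs1Z : (1 : ℤ) ≤ s := by exact_mod_cast hs1
  have hnM0Z : (1 : ℤ) ≤ nM := by exact_mod_cast hnM0
  have hnMFZ : (nM : ℤ) ≤ nF := by exact_mod_cast hnMF
  have hupperZ : (Npow hM (a + a) : ℤ) ≤ s * s + (2 * g₁ + 1) * s := by exact_mod_cast hupper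
  have hmainZ : (nF : ℤ) * (s * s + 1) ≤
      nM * Npow hM (a + a) + C₂ + (nF - nM) * (s * s + (2 * g₂ + 1) * s) + C₁ := by
    have := hmain
    zify [hnMF] at this
    exact this
  set X : ℤ := (Npow hM (a + a) : ℤ) with hX
  have hlowerZ : (s : ℤ) * s - X ≤ C₁ + C₂ + nF * (2 * g₂ + 1) * s := by
    by_cases hneg : (s : ℤ) * s - X ≤ 0
    · have : (0 : ℤ) ≤ C₁ + C₂ + nF * (2 * g₂ + 1) * s := by positivity
      linarith
    · push_neg at hneg
      have h1 : (s : ℤ) * s - X ≤ nM * ((s : ℤ) * s - X) := by nlinarith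
      have h2 : (nM : ℤ) * ((s : ℤ) * s - X) ≤
          C₁ + C₂ + (nF - nM) * ((2 * g₂ + 1) * s) - nF := by
        nlinarith
      have h3 : ((nF : ℤ) - nM) * ((2 * g₂ + 1) * s) ≤ nF * (2 * g₂ + 1) * s := by
        have : (0 : ℤ) ≤ nM * ((2 * g₂ + 1) * s) := by positivity
        nlinarith
      have h4 : (0 : ℤ) ≤ nF := by positivity
      linarith
  rw [abs_le]
  push_cast
  constructor
  · nlinarith
  · have hpos : (0 : ℤ) ≤ ((C₁ : ℤ) + C₂ + nF * (2 * g₂ + 1) + 1) * s := by positivity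
    nlinarith

end Groth.Agent.Lib.LeadRH
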