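import Groth.Agent.Lib.LeadZC4

/-! Power sums of the reciprocal roots of `L_K` and the numbers `N_r`. -/

namespace Groth.Agent.Lib.LeadZC

attribute [-instance] IsLocalRing.instModuleResidueFieldOfAlgebra

open FunFld WithZero Groth.Agent.Lib.LeadZT

lemma coe_prod_linear {m : ℕ} (α : Fin m → ℂ) :
    ((∏ i, (1 - Polynomial.C (α i) * Polynomial.X) : Polynomial ℂ) : PowerSeries ℂ) =
      ∏ i, (1 - PowerSeries.C (α i) * PowerSeries.X) := by
  rw [← Polynomial.coeToPowerSeries.ringHom_apply, map_prod]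
  apply Finset.prod_congr rfl
  intro i _
  simp [Polynomial.coeToPowerSeries.ringHom_apply]

variable {k K : Type*} [Field k] [Field K] [Algebra k K]

lemma map_numerZ : PowerSeries.map (Int.castRingHom ℂ) (numerZ k K) =
    (1 - PowerSeries.X) * (1 - PowerSeries.C (Nat.card k : ℂ) * PowerSeries.X) *
      PowerSeries.map (Int.castRingHom ℂ) (zetaZ k K) := by
  unfold numerZ
  rw [map_mul, map_mul, map_sub, map_sub, map_mul, map_one, PowerSeries.map_X, PowerSeries.map_C]
  simp

variable [Finite k]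

theorem Npow_eq_power_sum (hK : IsFunctionField k K) {m : ℕ} (α : Fin m → ℂ)
    (hα : PowerSeries.map (Int.castRingHom ℂ) (numerZ k K) =
      ((∏ i, (1 - Polynomial.C (α i) * Polynomial.X) : Polynomial ℂ) : PowerSeries ℂ)) (r : ℕ) :
    (Npow hK (r + 1) : ℂ) = 1 + (Nat.card k : ℂ) ^ (r + 1) - ∑ i, α i ^ (r + 1) := by
  rw [map_numerZ, coe_prod_linear] at hα
  have := coeff_logDeriv_of_factor (Nat.card k : ℂ) α _ _ (hasLogDeriv_zeta hK) hα r
  rw [PowerSeries.coeff_mk] at this
  exact this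

theorem numerZ_of_Npow (hK : IsFunctionField k K) {m : ℕ} (β : Fin m → ℂ)
    (h : ∀ r : ℕ, (Npow hK (r + 1) : ℂ) =
      1 + (Nat.card k : ℂ) ^ (r + 1) - ∑ i, β i ^ (r + 1)) :
    PowerSeries.map (Int.castRingHom ℂ) (numerZ k K) =
      ((∏ i, (1 - Polynomial.C (β i) * Polynomial.X) : Polynomial ℂ) : PowerSeries ℂ) := by
  rw [map_numerZ, coe_prod_linear]
  apply factor_of_coeff_logDeriv (Nat.card k : ℂ) β _ _ (hasLogDeriv_zeta hK)
  · rw [← PowerSeries.coeff_zero_eq_constantCoeff_apply, PowerSeries.coeff_map, coeff_zetaZ,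
      effDivCount_zero hK]
    simp
  · intro r
    rw [PowerSeries.coeff_mk]
    exact h r

theorem card_deg_one (hK : IsFunctionField k K) :
    Nat.card {P : Place k K // P.deg = 1} = Npow hK 1 := by
  classical
  unfold Npow
  have h1 : ∀ P ∈ (finite_dvd hK 1).toFinset, P.deg = 1 := by
    intro P hP
    exact Nat.dvd_one.mp ((mem_dvd hK Nat.one_pos P).mp hP)
  rw [Finset.sum_congr rfl h1, Finset.sum_const, smul_eq_mul, mul_one]
  rw [← Set.ncard_eq_toFinset_card _ (finite_dvd hK 1), ← Nat.card_coe_set_eq]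
  apply Nat.card_congr
  refine Equiv.subtypeEquivRight (fun P => ?_)
  constructor
  · intro h
    exact ⟨by rw [h], by rw [h]⟩
  · intro h
    exact Nat.dvd_one.mp h.1

end Groth.Agent.Lib.LeadZC
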