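import Mathlib

/-! Pairing the roots of a `q`-self-reciprocal polynomial over `ℂ`. -/

namespace Groth.Agent.Lib.LeadZT

open Polynomial

section Pairing

variable (q : ℂ)

/-- `X^n P(q / X)`. -/
noncomputable def phi (n : ℕ) (P : ℂ[X]) : ℂ[X] := reflect n (P.comp (C q * X))

variable {q}

lemma natDegree_comp_CX_le (P : ℂ[X]) : (P.comp (C q * X)).natDegree ≤ P.natDegree := by
  refine (natDegree_comp_le).trans ?_
  calc P.natDegree * (C q * X).natDegree ≤ P.natDegree * 1 :=
        Nat.mul_le_mul_left _ ((natDegree_C_mul_le q X).trans natDegree_X_le)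
    _ = P.natDegree := mul_one _

lemma phi_mul {m n : ℕ} {P Q : ℂ[X]} (hP : P.natDegree ≤ m) (hQ : Q.natDegree ≤ n) :
    phi q (m + n) (P * Q) = phi q m P * phi q n Q := by
  unfold phi
  rw [mul_comp]
  exact reflect_mul _ _ ((natDegree_comp_CX_le P).trans hP) ((natDegree_comp_CX_le Q).trans hQ)

lemma phi_C_mul (n : ℕ) (c : ℂ) (P : ℂ[X]) : phi q n (C c * P) = C c * phi q n P := by
  unfold phi
  rw [mul_comp, C_comp, reflect_C_mul]

lemma phi_X_sub_C {a : ℂ} (ha : a ≠ 0) : phi q 1 (X - C a) = C (-a) * (X - C (q / a)) := by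
  unfold phi
  rw [sub_comp, X_comp, C_comp, reflect_sub]
  have h1 : reflect 1 (C q * X) = C q := by
    have := reflect_C_mul_X_pow (R := ℂ) 1 1 (c := q)
    rw [pow_one] at this
    rw [this, revAt_le le_rfl]
    simp
  have h2 : reflect 1 (C a) = C a * X := by
    rw [reflect_C, pow_one]
  rw [h1, h2, mul_sub, ← C_mul]
  have : -a * (q / a) = -q := by field_simp
  rw [this]
  simp only [C_neg]
  ring

lemma eval_phi {n : ℕ} {P : ℂ[X]} (hP : P.natDegree ≤ n) {z : ℂ} (hz : z ≠ 0) :
    (phi q n P).eval z = z ^ n * P.eval (q / z) := by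
  unfold phi
  letI : Invertible z⁻¹ := invertibleOfNonzero (inv_ne_zero hz)
  have h := eval₂_reflect_mul_pow (RingHom.id ℂ) z⁻¹ n (P.comp (C q * X))
    ((natDegree_comp_CX_le P).trans hP)
  rw [invOf_eq_inv, inv_inv] at h
  simp only [eval₂_id] at h
  rw [eval_comp, eval_mul, eval_C, eval_X] at h
  have hzn : z ^ n ≠ 0 := pow_ne_zero _ hz
  rw [div_eq_mul_inv, ← h, inv_pow]
  field_simp

lemma pair_ext {n : ℕ} (α : Fin n → ℂ) (a b : ℂ) (hab : a * b = q)
    (hα : ∀ i, α i * α (Fin.rev i) = q) (i : Fin (n + 1 + 1)) :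
    (Fin.cons a (Fin.snoc α b) : Fin (n + 1 + 1) → ℂ) i *
      (Fin.cons a (Fin.snoc α b) : Fin (n + 1 + 1) → ℂ) (Fin.rev i) = q := by
  refine Fin.cases ?_ (fun j => ?_) i
  · rw [Fin.cons_zero, Fin.rev_zero, ← Fin.succ_last, Fin.cons_succ, Fin.snoc_last]
    exact hab
  · rw [Fin.cons_succ, Fin.rev_succ]
    refine Fin.lastCases ?_ (fun l => ?_) j
    · rw [Fin.snoc_last, Fin.rev_last, Fin.castSucc_zero, Fin.cons_zero, mul_comm]
      exact hab
    · rw [Fin.snoc_castSucc, Fin.rev_castSucc, ← Fin.succ_castSucc, Fin.cons_succ,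
        Fin.snoc_castSucc]
      exact hα l

lemma prod_pair_ext {n : ℕ} (α : Fin n → ℂ) (a b : ℂ) :
    ∏ i : Fin (n + 1 + 1), (X - C ((Fin.cons a (Fin.snoc α b) : Fin (n + 1 + 1) → ℂ) i)) =
      (X - C a) * (X - C b) * ∏ i : Fin n, (X - C (α i)) := by
  rw [Fin.prod_univ_succ, Fin.cons_zero, Fin.prod_univ_castSucc]
  simp only [Fin.cons_succ, Fin.snoc_castSucc, Fin.snoc_last]
  ring

theorem exists_pairing (hq : q ≠ 0) : ∀ (g : ℕ) (R : ℂ[X]), R.Monic → R.natDegree = 2 * g →
    phi q (2 * g) R = C (q ^ g) * R →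
    ∃ α : Fin (2 * g) → ℂ, (∀ i, α i * α (Fin.rev i) = q) ∧ R = ∏ i, (X - C (α i)) := by
  intro g
  induction g with
  | zero =>
    intro R hm hd _
    refine ⟨fun i => i.elim0, fun i => i.elim0, ?_⟩
    have : R = 1 := by
      have h1 := eq_C_of_natDegree_eq_zero (by simpa using hd)
      have h2 := hm.leadingCoeff
      rw [leadingCoeff, show R.natDegree = 0 by simpa using hd] at h2
      rw [h1, h2, C_1]
    rw [this]
    simp
  | succ g ih =>
    intro R hm hd hE
    have hR0 : R ≠ 0 := hm.ne_zero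
    have hc : q ^ (g + 1) ≠ 0 := pow_ne_zero _ hq
    -- constant coefficient
    have hcoeff0 : R.eval 0 = q ^ (g + 1) := by
      have h := congrArg (fun P => P.coeff (2 * (g + 1))) hE
      simp only [phi, coeff_reflect, revAt_le le_rfl, Nat.sub_self, comp_C_mul_X_coeff, pow_zero,
        mul_one, coeff_C_mul] at h
      have hl : R.coeff (2 * (g + 1)) = 1 := by
        have := hm.leadingCoeff
        rwa [leadingCoeff, hd] at this
      rw [hl, mul_one] at h
      rw [← coeff_zero_eq_eval_zero]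
      exact h
    -- a root
    have hdeg : R.degree ≠ 0 := by
      rw [degree_eq_natDegree hR0, hd]
      exact_mod_cast (by omega : 2 * (g + 1) ≠ 0)
    obtain ⟨a, ha⟩ := IsAlgClosed.exists_root R hdeg
    have ha0 : a ≠ 0 := by
      rintro rfl
      rw [IsRoot.def, hcoeff0] at ha
      exact hc ha
    set b := q / a with hb
    have hb0 : b ≠ 0 := div_ne_zero hq ha0
    have hab : a * b = q := by rw [hb]; field_simp
    -- split off `X - a`
    obtain ⟨R₂, hR₂⟩ := dvd_iff_isRoot.mpr ha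
    have hR₂0 : R₂ ≠ 0 := by
      rintro rfl
      rw [mul_zero] at hR₂
      exact hR0 hR₂
    have hdeg₂ : R₂.natDegree = 2 * g + 1 := by
      have := natDegree_mul (X_sub_C_ne_zero a) hR₂0
      rw [← hR₂, hd, natDegree_X_sub_C] at this
      omega
    have hE₂ : C (-a) * (X - C b) * phi q (2 * g + 1) R₂ = C (q ^ (g + 1)) * ((X - C a) * R₂) := by
      have h1 : phi q (1 + (2 * g + 1)) ((X - C a) * R₂) =
          phi q 1 (X - C a) * phi q (2 * g + 1) R₂ :=
        phi_mul (natDegree_X_sub_C_le a) hdeg₂.le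
      rw [phi_X_sub_C ha0, ← hb] at h1
      rw [← h1, ← hR₂, show 1 + (2 * g + 1) = 2 * (g + 1) by ring]
      exact hE
    -- `b` is a root of `R₂`
    have hbroot : R₂.eval b = 0 := by
      by_cases hab' : a = b
      · -- double root
        rw [← hab'] at hE₂
        have hcancel : C (-a) * phi q (2 * g + 1) R₂ = C (q ^ (g + 1)) * R₂ := by
          apply mul_left_cancel₀ (X_sub_C_ne_zero a)
          rw [← mul_assoc, mul_comm (X - C a) (C (-a)), hE₂]
          ring
        have h2 := congrArg (fun P => P.eval a) hcancel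
        simp only [eval_mul, eval_C] at h2
        rw [eval_phi hdeg₂.le ha0, ← hb, ← hab'] at h2
        have haa : a ^ (2 * g + 1) * a = q ^ (g + 1) := by
          rw [← pow_succ, show 2 * g + 1 + 1 = 2 * (g + 1) by ring, pow_mul, pow_two]
          rw [hab'] at hab ⊢
          rw [← hab']
          rw [← hab'] at hab
          rw [hab]
        have h3 : q ^ (g + 1) * R₂.eval a = 0 := by
          have : -(q ^ (g + 1)) * R₂.eval a = q ^ (g + 1) * R₂.eval a := by
            rw [← h2, ← haa]; ring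
          linear_combination (-(1 : ℂ) / 2) * this
        rw [← hab']
        exact (mul_eq_zero.mp h3).resolve_left hc
      · have hRb : R.eval b = 0 := by
          have h := congrArg (fun P => P.eval a) hE
          simp only [eval_mul, eval_C] at h
          rw [eval_phi hd.le ha0, ← hb, IsRoot.def.mp ha, mul_zero] at h
          exact (mul_eq_zero.mp h).resolve_left (pow_ne_zero _ ha0)
        rw [hR₂, eval_mul, eval_sub, eval_X, eval_C] at hRb
        exact (mul_eq_zero.mp hRb).resolve_left (sub_ne_zero.mpr (Ne.symm hab'))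
    obtain ⟨R₁, hR₁⟩ := dvd_iff_isRoot.mpr hbroot
    have hR₁0 : R₁ ≠ 0 := by
      rintro rfl
      rw [mul_zero] at hR₁
      exact hR₂0 hR₁
    have hdeg₁ : R₁.natDegree = 2 * g := by
      have := natDegree_mul (X_sub_C_ne_zero b) hR₁0
      rw [← hR₁, hdeg₂, natDegree_X_sub_C] at this
      omega
    have hRQ : R = (X - C a) * (X - C b) * R₁ := by rw [hR₂, hR₁]; ring
    have hm₁ : R₁.Monic := by
      have h1 : ((X - C a) * (X - C b)).Monic := (monic_X_sub_C a).mul (monic_X_sub_C b)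
      rw [hRQ] at hm
      exact h1.of_mul_monic_left hm
    have hE₁ : phi q (2 * g) R₁ = C (q ^ g) * R₁ := by
      have h1 : phi q (1 + 2 * g) ((X - C b) * R₁) = phi q 1 (X - C b) * phi q (2 * g) R₁ :=
        phi_mul (natDegree_X_sub_C_le b) hdeg₁.le
      rw [phi_X_sub_C hb0, show q / b = a by rw [hb]; field_simp, ← hR₁,
        show 1 + 2 * g = 2 * g + 1 by ring] at h1
      rw [h1, hR₁] at hE₂
      have hQ0 : (X - C a) * (X - C b) ≠ 0 := mul_ne_zero (X_sub_C_ne_zero a) (X_sub_C_ne_zero b)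
      have hq' : C q ≠ (0 : ℂ[X]) := by rw [Ne, C_eq_zero]; exact hq
      apply mul_left_cancel₀ hQ0
      apply mul_left_cancel₀ hq'
      have e : C q = C (-a) * C (-b) := by rw [← C_mul]; congr 1; rw [← hab]; ring
      calc C q * ((X - C a) * (X - C b) * phi q (2 * g) R₁)
          = C (-a) * (X - C b) * (C (-b) * (X - C a) * phi q (2 * g) R₁) := by rw [e]; ring
        _ = C (q ^ (g + 1)) * ((X - C a) * ((X - C b) * R₁)) := hE₂
        _ = C q * ((X - C a) * (X - C b) * (C (q ^ g) * R₁)) := by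
            rw [pow_succ, C_mul]; ring
    obtain ⟨α, hα, hprod⟩ := ih R₁ hm₁ hdeg₁ hE₁
    refine ⟨(Fin.cons a (Fin.snoc α b) : Fin (2 * g + 1 + 1) → ℂ), pair_ext α a b hab hα, ?_⟩
    rw [hRQ, hprod]
    exact (prod_pair_ext α a b).symm

end Pairing

end Groth.Agent.Lib.LeadZT
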