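import Groth.Agent.Lib.LeadZT8
import Groth.Agent.Lib.LeadZT9

/-! Reciprocal roots of the numerator of the zeta function. -/

namespace Groth.Agent.Lib.LeadZT

open FunFld Polynomial Groth.Agent.Lib.LeadFF

lemma reflect_reflect {A : Type*} [Semiring A] (N : ℕ) (f : A[X]) :
    reflect N (reflect N f) = f := by
  ext i
  rw [coeff_reflect, coeff_reflect, revAt_invol]

lemma reflect_prod_X_sub_C : ∀ (n : ℕ) (α : Fin n → ℂ),
    reflect n (∏ i, (X - C (α i))) = ∏ i, (1 - C (α i) * X) := by
  intro n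
  induction n with
  | zero =>
    intro α
    simp only [Finset.univ_eq_empty, Finset.prod_empty]
    rw [← C_1, reflect_C, pow_zero, mul_one]
  | succ n ih =>
    intro α
    rw [Fin.prod_univ_succ, Fin.prod_univ_succ]
    have hdeg : (∏ i : Fin n, (X - C (α i.succ))).natDegree ≤ n := by
      rw [natDegree_finset_prod_X_sub_C_eq_card]
      simp
    have key := reflect_mul (X - C (α 0)) (∏ i : Fin n, (X - C (α i.succ)))
      (natDegree_X_sub_C_le (α 0)) hdeg
    have e : reflect (n + 1) ((X - C (α 0)) * ∏ i : Fin n, (X - C (α i.succ))) =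
        reflect (1 + n) ((X - C (α 0)) * ∏ i : Fin n, (X - C (α i.succ))) :=
      congrArg (fun m => reflect m ((X - C (α 0)) * ∏ i : Fin n, (X - C (α i.succ))))
        (add_comm n 1)
    rw [e, key, ih (fun i => α i.succ), reflect_sub, reflect_one_X, reflect_C, pow_one]

section Main

variable {k K : Type*} [Field k] [Field K] [Algebra k K] [Finite k]

theorem reciprocal_roots (hK : IsFunctionField k K) :
    ∃ α : Fin (2 * genus k K) → ℂ, (∀ i, IsIntegral ℤ (α i)) ∧
      PowerSeries.map (Int.castRingHom ℂ) (numerZ k K) =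
        ((∏ i, (1 - Polynomial.C (α i) * Polynomial.X) : Polynomial ℂ) : PowerSeries ℂ) ∧
      ∀ i, α i * α (Fin.rev i) = (Nat.card k : ℂ) := by
  classical
  obtain ⟨h1, h2, h3, -⟩ := numerZ_main hK
  set g := genus k K with hg
  set q : ℂ := (Nat.card k : ℂ) with hq
  have hq0 : q ≠ 0 := by
    have : 0 < Nat.card k := Nat.card_pos
    rw [hq]; exact Nat.cast_ne_zero.mpr this.ne'
  set Lz : ℤ[X] := PowerSeries.trunc (2 * g + 1) (numerZ k K) with hLz
  have hLzcoe : (Lz : PowerSeries ℤ) = numerZ k K := by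
    ext n
    rw [Polynomial.coeff_coe, PowerSeries.coeff_trunc]
    split_ifs with h
    · rfl
    · exact (h1 n (by omega)).symm
  have hcoef : ∀ n, Lz.coeff n = PowerSeries.coeff n (numerZ k K) := fun n => by
    rw [← hLzcoe, Polynomial.coeff_coe]
  have hc0 : Lz.coeff 0 = 1 := by
    rw [hcoef, coeff_numerZ_int, effDivCount_zero hK]
    simp
  set Rz : ℤ[X] := reflect (2 * g) Lz with hRz
  have hRzcoeff : ∀ i, i ≤ 2 * g → Rz.coeff i = Lz.coeff (2 * g - i) := fun i hi => by
    rw [hRz, coeff_reflect, revAt_le hi]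
  have hRzdeg : Rz.natDegree ≤ 2 * g := by
    rw [natDegree_le_iff_coeff_eq_zero]
    intro n hn
    rw [hRz, coeff_reflect, revAt_eq_self_of_lt hn, hcoef]
    exact h1 n hn
  have hRztop : Rz.coeff (2 * g) = 1 := by
    rw [hRzcoeff _ le_rfl, Nat.sub_self, hc0]
  have hRzm : Rz.Monic := monic_of_natDegree_le_of_coeff_eq_one (2 * g) hRzdeg hRztop
  have hRzdeg' : Rz.natDegree = 2 * g :=
    natDegree_eq_of_le_of_coeff_ne_zero hRzdeg (by rw [hRztop]; exact one_ne_zero)
  set R : ℂ[X] := Rz.map (Int.castRingHom ℂ) with hR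
  have hRm : R.Monic := hRzm.map _
  have hRdeg : R.natDegree = 2 * g := by rw [hR, hRzm.natDegree_map, hRzdeg']
  have hRcoeff : ∀ i, i ≤ 2 * g →
      R.coeff i = ((PowerSeries.coeff (2 * g - i) (numerZ k K) : ℤ) : ℂ) := fun i hi => by
    rw [hR, coeff_map, hRzcoeff i hi, hcoef]; rfl
  -- the functional equation
  have hE : phi q (2 * g) R = C (q ^ g) * R := by
    ext i
    unfold phi
    rw [coeff_reflect, comp_C_mul_X_coeff, coeff_C_mul]
    by_cases hi : i ≤ 2 * g
    · rw [revAt_le hi, hRcoeff _ (Nat.sub_le _ _), hRcoeff i hi,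
        show 2 * g - (2 * g - i) = i by omega]
      have h := congrArg (Rat.cast : ℚ → ℂ) (h3 i hi)
      push_cast at h
      rw [h, ← hq, ← zpow_natCast q (2 * g - i), ← zpow_natCast q g, mul_comm, ← mul_assoc,
        ← zpow_add₀ hq0]
      congr 2
      push_cast [Nat.cast_sub hi]
      ring
    · have hi' : 2 * g < i := not_le.mp hi
      have h0 : R.coeff i = 0 := coeff_eq_zero_of_natDegree_lt (by rw [hRdeg]; exact hi')
      rw [revAt_eq_self_of_lt hi', h0, zero_mul, mul_zero]
  obtain ⟨α, hα, hprod⟩ := exists_pairing hq0 g R hRm hRdeg hE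
  refine ⟨α, ?_, ?_, hα⟩
  · intro i
    refine ⟨Rz, hRzm, ?_⟩
    have : eval₂ (algebraMap ℤ ℂ) (α i) Rz = eval (α i) R := by
      rw [hR, eval_map]; rfl
    rw [this, hprod, eval_prod]
    apply Finset.prod_eq_zero (Finset.mem_univ i)
    simp
  · have hLzmap : Lz.map (Int.castRingHom ℂ) = reflect (2 * g) R := by
      rw [hR, hRz, ← reflect_map, reflect_reflect]
    rw [← hLzcoe, ← Polynomial.polynomial_map_coe, hLzmap, hprod, reflect_prod_X_sub_C]

end Main

end Groth.Agent.Lib.LeadZT
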