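import Groth.Agent.Lib.LeadRH7
import Groth.Agent.Lib.Helper4AlgClosFin
import Groth.Agent.Lib.LeadIG2
import Groth.Agent.Lib.LeadZT10
import Groth.Agent.Lib.LeadZC5
import Groth.Agent.Lib.LeadFF40

/-! The Hasse–Weil estimate from a Galois closure. -/

namespace Groth.Agent.Lib.LeadRH

attribute [-instance] IsLocalRing.instModuleResidueFieldOfAlgebra

open FunFld WithZero Polynomial TensorProduct Groth.Agent.Lib.LeadFF Groth.Agent.Lib.LeadZC

universe u v w x

theorem hasse_weil_of_galois {k : Type u} {K : Type v} {E : Type w} {F₀ : Type x}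
    [Field k] [Finite k] [Field K] [Field E] [Field F₀] [Algebra k K] [Algebra K E] [Algebra k E]
    [IsScalarTower k K E] [FiniteDimensional K E] [Algebra F₀ E] [IsGalois F₀ E]
    (hK : IsFunctionField k K) (x : K) (hxt : Transcendental k x)
    (hF₀ : ∀ a : F₀, algebraMap F₀ E a ∈ IntermediateField.adjoin k {algebraMap K E x}) :
    ∃ C c d a₀ : ℕ, 0 < c ∧ 0 < d ∧ ∀ a, a₀ ≤ a → d ∣ a →
      |(Npow hK (c * (a + a)) : ℤ) - (Nat.card k : ℤ) ^ (c * (a + a)) - 1| ≤
        C * (Nat.card k : ℤ) ^ (c * a) := by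
  classical
  have hEff : LeadFG.IsFF k E := isFF_of_finite hK
  set k₁ := algebraicClosure k E with hk₁
  have hE₁ : IsFunctionField k₁ E := LeadIG.isFunctionField_kc hEff
  -- finiteness of `k₁`
  haveI : Algebra.EssFiniteType k K := by
    obtain ⟨⟨x₀, hx₀, hfin⟩, -⟩ := id hK
    have e1 : Algebra.EssFiniteType k (IntermediateField.adjoin k {x₀}) :=
      IntermediateField.essFiniteType_iff.mpr
        (IntermediateField.fg_adjoin_of_finite (Set.finite_singleton _))
    exact Algebra.EssFiniteType.comp k (IntermediateField.adjoin k {x₀}) K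
  haveI : Algebra.EssFiniteType k E := Algebra.EssFiniteType.comp k K E
  haveI : FiniteDimensional k k₁ := Helper4.AlgClosFin.finiteDimensional_algebraicClosure
  haveI : Finite k₁ := Module.finite_of_finite k
  haveI : Algebra.IsAlgebraic k k₁ := Algebra.IsAlgebraic.of_finite k k₁
  haveI : Algebra.IsSeparable k k₁ := Algebra.IsAlgebraic.isSeparable_of_perfectField
  set c := Module.finrank k k₁ with hc
  have hc0 : 0 < c := Module.finrank_pos
  have hq₁ : Nat.card k₁ = Nat.card k ^ c := Module.natCard_eq_pow_finrank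
  -- the separating element
  set xE : E := algebraMap K E x with hxE
  have hxtE : Transcendental k xE :=
    (transcendental_algebraMap_iff (algebraMap K E).injective).mpr hxt
  have hxt₁ : Transcendental k₁ xE := fun halg => hxtE (halg.restrictScalars k)
  -- `F₁`
  set F₁ : IntermediateField k₁ E := IntermediateField.adjoin k₁ {xE} with hF₁def
  have hxF₁ : xE ∈ F₁ := IntermediateField.mem_adjoin_simple_self k₁ xE
  obtain ⟨hfinF₁, hF₁⟩ := isFunctionField_intermediate hE₁ F₁ ⟨xE, hxF₁, hxt₁⟩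
  haveI := hfinF₁
  -- `M₁`
  obtain ⟨θ, hθ⟩ := Field.exists_primitive_element k k₁
  have hIsField : IsField (k₁ ⊗[k] K) :=
    isField_tensor_of_simple hK.2 θ (Algebra.IsIntegral.isIntegral θ) hθ
  let Φ : k₁ ⊗[k] K →ₐ[k₁] E :=
    Algebra.TensorProduct.productLeftAlgHom (Algebra.ofId k₁ E) (IsScalarTower.toAlgHom k K E)
  have hΦ : ∀ (c : k₁) (y : K), Φ (c ⊗ₜ y) = (c : E) * algebraMap K E y := by
    intro c y
    simp [Φ, Algebra.ofId_apply]
  have hΦ1 : Φ 1 = 1 := Φ.map_one
  have hΦinj : Function.Injective Φ := by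
    intro w₁ w₂ h12
    by_contra hne
    have hw0 : w₁ - w₂ ≠ 0 := sub_ne_zero.mpr hne
    have hw : Φ (w₁ - w₂) = 0 := by rw [map_sub, h12, sub_self]
    obtain ⟨w', hw'⟩ := hIsField.mul_inv_cancel hw0
    have := congrArg Φ hw'
    rw [map_mul, hw, zero_mul, hΦ1] at this
    exact zero_ne_one this
  have hinv : ∀ z ∈ Φ.range, z⁻¹ ∈ Φ.range := by
    rintro _ ⟨w, rfl⟩
    by_cases hw0 : w = 0
    · rw [hw0]
      refine ⟨0, ?_⟩
      rw [map_zero, inv_zero]
    · obtain ⟨w', hw'⟩ := hIsField.mul_inv_cancel hw0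
      refine ⟨w', ?_⟩
      have := congrArg Φ hw'
      rw [map_mul, hΦ1] at this
      exact eq_inv_of_mul_eq_one_right this
  set M₁ : IntermediateField k₁ E := Subalgebra.toIntermediateField Φ.range hinv with hM₁def
  have hmemM₁ : ∀ z : E, z ∈ M₁ ↔ ∃ w, Φ w = z := fun z => Iff.rfl
  have hKM₁ : ∀ y : K, algebraMap K E y ∈ M₁ := fun y =>
    (hmemM₁ _).mpr ⟨1 ⊗ₜ y, by rw [hΦ]; simp⟩
  have hxM₁ : xE ∈ M₁ := hKM₁ x
  obtain ⟨hfinM₁, hM₁⟩ := isFunctionField_intermediate hE₁ M₁ ⟨xE, hxM₁, hxt₁⟩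
  have hFM : F₁ ≤ M₁ := by
    rw [hF₁def, IntermediateField.adjoin_le_iff]
    intro y hy
    rw [Set.mem_singleton_iff] at hy
    rw [hy]; exact hxM₁
  -- algebra structures
  let jFM : F₁ →+* M₁ :=
    { toFun := fun a => ⟨a.1, hFM a.2⟩
      map_one' := rfl
      map_mul' := fun _ _ => rfl
      map_zero' := rfl
      map_add' := fun _ _ => rfl }
  letI : Algebra F₁ M₁ := jFM.toAlgebra
  haveI : IsScalarTower F₁ M₁ E := IsScalarTower.of_algebraMap_eq (fun _ => rfl)
  -- Galois
  have hF₀' : ∀ a : F₀, algebraMap F₀ E a ∈ F₁ := by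
    intro a
    have hle : IntermediateField.adjoin k ({xE} : Set E) ≤ F₁.restrictScalars k := by
      rw [IntermediateField.adjoin_le_iff]
      intro y hy
      exact IntermediateField.subset_adjoin k₁ ({xE} : Set E) hy
    exact hle (hF₀ a)
  let jF₀ : F₀ →+* F₁ :=
    { toFun := fun a => ⟨algebraMap F₀ E a, hF₀' a⟩
      map_one' := Subtype.ext (map_one _)
      map_mul' := fun a b => Subtype.ext (map_mul _ a b)
      map_zero' := Subtype.ext (map_zero _)
      map_add' := fun a b => Subtype.ext (map_add _ a b) }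
  letI : Algebra F₀ F₁ := jF₀.toAlgebra
  haveI : IsScalarTower F₀ F₁ E := IsScalarTower.of_algebraMap_eq (fun _ => rfl)
  haveI : IsGalois F₁ E := IsGalois.tower_top_of_isGalois F₀ F₁ E
  -- `N_r(F₁)`
  have hNF : ∀ r, 0 < r → Npow hF₁ r = Nat.card k₁ ^ r + 1 := by
    have hg0 : genus k₁ F₁ = 0 := by
      have hx : ∃ y : F₁, IntermediateField.adjoin k₁ ({y} : Set F₁) = ⊤ := by
        refine ⟨⟨xE, hxF₁⟩, ?_⟩
        apply IntermediateField.map_injective F₁.val
        rw [IntermediateField.adjoin_map, Set.image_singleton, ← AlgHom.fieldRange_eq_map,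
          IntermediateField.fieldRange_val]
        rfl
      exact ((genus_zero_iff hF₁).mpr hx).1
    intro r hr
    obtain ⟨α, -, hα, -⟩ := LeadZT.reciprocal_roots hF₁
    obtain ⟨r', rfl⟩ : ∃ r', r = r' + 1 := ⟨r - 1, by omega⟩
    have h := Npow_eq_power_sum hF₁ α hα r'
    haveI : IsEmpty (Fin (2 * genus k₁ F₁)) := by rw [hg0]; exact Fin.isEmpty'
    rw [Finset.univ_eq_empty, Finset.sum_empty, sub_zero] at h
    have h' : ((Npow hF₁ (r' + 1) : ℕ) : ℂ) = ((Nat.card k₁ ^ (r' + 1) + 1 : ℕ) : ℂ) := by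
      rw [h]; push_cast; ring
    exact_mod_cast h'
  -- the comparison with `K`
  let jK : K →+* M₁ :=
    { toFun := fun y => ⟨algebraMap K E y, hKM₁ y⟩
      map_one' := Subtype.ext (map_one _)
      map_mul' := fun a b => Subtype.ext (map_mul _ a b)
      map_zero' := Subtype.ext (map_zero _)
      map_add' := fun a b => Subtype.ext (map_add _ a b) }
  letI : Algebra K M₁ := jK.toAlgebra
  haveI : IsScalarTower k k₁ M₁ := by
    apply IsScalarTower.of_algebraMap_eq
    intro c
    apply Subtype.ext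
    show algebraMap k E c = algebraMap k₁ E (algebraMap k k₁ c)
    rfl
  haveI : IsScalarTower k K M₁ := by
    apply IsScalarTower.of_algebraMap_eq
    intro c
    apply Subtype.ext
    show algebraMap k E c = algebraMap K E (algebraMap k K c)
    exact IsScalarTower.algebraMap_apply k K E c
  have hbij : Function.Bijective (Algebra.TensorProduct.productMap
      (IsScalarTower.toAlgHom k k₁ M₁) (IsScalarTower.toAlgHom k K M₁)) := by
    have hcoe : ∀ w : k₁ ⊗[k] K, ((Algebra.TensorProduct.productMap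
        (IsScalarTower.toAlgHom k k₁ M₁) (IsScalarTower.toAlgHom k K M₁) w : M₁) : E) = Φ w := by
      intro w
      induction w using TensorProduct.induction_on with
      | zero => rw [map_zero, map_zero]; rfl
      | tmul a b => rw [Algebra.TensorProduct.productMap_apply_tmul, hΦ]; rfl
      | add a b ha hb => rw [map_add, map_add, ← ha, ← hb]; rfl
    constructor
    · intro w w' h
      apply hΦinj
      rw [← hcoe, ← hcoe, h]
    · intro z
      obtain ⟨w, hw⟩ := (hmemM₁ _).mp z.2
      exact ⟨w, Subtype.ext (by rw [hcoe, hw])⟩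
  have hNM : ∀ r, 0 < r → Npow hM₁ r = Npow hK (c * r) := fun r hr =>
    Npow_constExt hbij hK hM₁ r hr
  -- the core estimate
  obtain ⟨C, d, a₀, hd, hcore⟩ := hasse_weil_core hF₁ hM₁ hE₁ hNF
  refine ⟨C, c, d, a₀ + 1, hc0, hd, ?_⟩
  intro a ha hda
  have h1 := hcore a (by omega) hda
  rw [hNM (a + a) (by omega), hq₁] at h1
  push_cast at h1
  rw [← pow_mul, ← pow_mul] at h1
  exact h1

end Groth.Agent.Lib.LeadRH
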