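import Groth.Agent.Lib.LeadRH8
import Groth.Agent.Lib.LeadRH1
import Groth.Agent.Lib.LeadMS1

/-! The Riemann hypothesis for function fields over finite fields (Bombieri–Stepanov). -/

namespace Groth.Agent.Lib.LeadRH

attribute [-instance] IsLocalRing.instModuleResidueFieldOfAlgebra

open FunFld WithZero Polynomial TensorProduct Groth.Agent.Lib.LeadFF Groth.Agent.Lib.LeadZC

universe u v

theorem hasse_weil_bound (k : Type u) (K : Type v) [Field k] [Finite k] [Field K] [Algebra k K]
    (hK : IsFunctionField k K) :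
    ∃ C c d a₀ : ℕ, 0 < c ∧ 0 < d ∧ ∀ a, a₀ ≤ a → d ∣ a →
      |(Npow hK (c * (a + a)) : ℤ) - (Nat.card k : ℤ) ^ (c * (a + a)) - 1| ≤
        C * (Nat.card k : ℤ) ^ (c * a) := by
  classical
  have hg : IsGeometric k K := Groth.Agent.S11000.result k K hK
  obtain ⟨x, hxt, hsep⟩ := LeadMS.exists_separating hK hg
  haveI := hsep
  haveI : FiniteDimensional (IntermediateField.adjoin k {x}) K := finite_over_adjoin hK hxt
  haveI : Algebra.IsAlgebraic (IntermediateField.adjoin k {x}) K :=
    Algebra.IsAlgebraic.of_finite _ _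
  haveI : Algebra.IsAlgebraic (IntermediateField.adjoin k {x}) (AlgebraicClosure K) :=
    Algebra.IsAlgebraic.trans (IntermediateField.adjoin k {x}) K (AlgebraicClosure K)
  haveI : Normal (IntermediateField.adjoin k {x}) (AlgebraicClosure K) :=
    { splits' := fun _ => IsAlgClosed.splits _ }
  let E₀ := IntermediateField.normalClosure (IntermediateField.adjoin k {x}) K (AlgebraicClosure K)
  haveI : IsScalarTower k K E₀ := by
    apply IsScalarTower.of_algebraMap_eq
    intro c
    apply Subtype.ext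
    show algebraMap k (AlgebraicClosure K) c = algebraMap K (AlgebraicClosure K) (algebraMap k K c)
    exact IsScalarTower.algebraMap_apply k K (AlgebraicClosure K) c
  haveI : ∀ f : K →ₐ[IntermediateField.adjoin k {x}] (AlgebraicClosure K),
      Algebra.IsSeparable (IntermediateField.adjoin k {x}) f.fieldRange := fun f =>
    AlgEquiv.Algebra.isSeparable (AlgEquiv.ofInjectiveField f)
  haveI : Algebra.IsSeparable (IntermediateField.adjoin k {x}) E₀ := by
    show Algebra.IsSeparable (IntermediateField.adjoin k {x})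
      ↥(⨆ f : K →ₐ[IntermediateField.adjoin k {x}] (AlgebraicClosure K), f.fieldRange)
    infer_instance
  haveI : IsGalois (IntermediateField.adjoin k {x}) E₀ := { }
  haveI : FiniteDimensional K E₀ := FiniteDimensional.right (IntermediateField.adjoin k {x}) K E₀
  refine hasse_weil_of_galois (E := E₀) (F₀ := IntermediateField.adjoin k {x}) hK x hxt ?_
  intro a
  have h1 : algebraMap (IntermediateField.adjoin k {x}) E₀ a = algebraMap K E₀ (a : K) :=
    IsScalarTower.algebraMap_apply (IntermediateField.adjoin k {x}) K E₀ a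
  rw [h1]
  have h3 : (IntermediateField.adjoin k {x}).map (IsScalarTower.toAlgHom k K E₀) =
      IntermediateField.adjoin k {algebraMap K E₀ x} := by
    rw [IntermediateField.adjoin_map, Set.image_singleton]
    rfl
  rw [← h3]
  exact (IntermediateField.mem_map _).mpr ⟨a, a.2, rfl⟩

theorem norm_sq_le (k : Type u) (K : Type v) [Field k] [Finite k] [Field K] [Algebra k K]
    (hK : IsFunctionField k K) {m : ℕ} (α : Fin m → ℂ)
    (hα : PowerSeries.map (Int.castRingHom ℂ) (numerZ k K) =
      ((∏ i, (1 - Polynomial.C (α i) * Polynomial.X) : Polynomial ℂ) : PowerSeries ℂ)) :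
    ∀ i, ‖α i‖ ^ 2 ≤ (Nat.card k : ℝ) := by
  obtain ⟨C, c, d, a₀, hc, hd, hb⟩ := hasse_weil_bound k K hK
  set q : ℝ := (Nat.card k : ℝ) with hq
  have hq0 : 0 < q := by
    have : 0 < Nat.card k := Nat.card_pos
    rw [hq]; exact_mod_cast this
  have hcd : c * d ≠ 0 := (Nat.mul_pos hc hd).ne'
  have key := norm_le_of_power_sums (fun i => α i ^ (2 * c * d)) (q ^ (c * d)) C
    (pow_pos hq0 _) (a₀ + 1) ?_
  · intro i
    have h1 := key i
    rw [norm_pow] at h1
    have h2 : (‖α i‖ ^ 2) ^ (c * d) ≤ q ^ (c * d) := by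
      rw [← pow_mul]
      have : 2 * (c * d) = 2 * c * d := by ring
      rw [this]; exact h1
    exact (pow_le_pow_iff_left₀ (by positivity) hq0.le hcd).mp h2
  · intro b hb'
    have hb1 : 1 ≤ b := by omega
    have ha : a₀ ≤ d * b := by nlinarith
    have h1 := hb (d * b) ha (Dvd.intro _ rfl)
    have hexp : c * (d * b + d * b) = 2 * c * d * b := by ring
    rw [hexp] at h1
    set n := 2 * c * d * b with hn
    have hpos : 0 < n := by positivity
    obtain ⟨r, hr⟩ : ∃ r, n = r + 1 := ⟨n - 1, by omega⟩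
    have h2 := Npow_eq_power_sum hK α hα r
    rw [← hr] at h2
    have h3 : ∑ i, (fun i => α i ^ (2 * c * d)) i ^ b =
        1 + (Nat.card k : ℂ) ^ n - (Npow hK n : ℂ) := by
      rw [h2]
      simp only [← pow_mul]
      rw [← hn]
      ring
    rw [h3]
    have h4 : (1 + (Nat.card k : ℂ) ^ n - (Npow hK n : ℂ)) =
        ((-((Npow hK n : ℤ) - (Nat.card k : ℤ) ^ n - 1) : ℤ) : ℂ) := by
      push_cast; ring
    rw [h4, Complex.norm_intCast, Int.cast_neg, abs_neg, ← Int.cast_abs]
    have h5 : ((|((Npow hK n : ℤ) - (Nat.card k : ℤ) ^ n - 1)| : ℤ) : ℝ) ≤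
        ((C * (Nat.card k : ℤ) ^ (c * (d * b)) : ℤ) : ℝ) := Int.cast_le.mpr h1
    refine h5.trans (le_of_eq ?_)
    push_cast
    rw [← pow_mul, hq, mul_assoc]

theorem norm_sq_eq (k : Type u) (K : Type v) [Field k] [Finite k] [Field K] [Algebra k K]
    (hK : IsFunctionField k K) (α : Fin (2 * genus k K) → ℂ)
    (hα : PowerSeries.map (Int.castRingHom ℂ) (numerZ k K) =
      ((∏ i, (1 - Polynomial.C (α i) * Polynomial.X) : Polynomial ℂ) : PowerSeries ℂ))
    (hpair : ∀ i, α i * α (Fin.rev i) = (Nat.card k : ℂ)) :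
    ∀ i, ‖α i‖ ^ 2 = (Nat.card k : ℝ) := by
  have hle := norm_sq_le k K hK α hα
  intro i
  set q : ℝ := (Nat.card k : ℝ) with hq
  have hq0 : 0 < q := by
    have : 0 < Nat.card k := Nat.card_pos
    rw [hq]; exact_mod_cast this
  have h1 : ‖α i‖ * ‖α (Fin.rev i)‖ = q := by
    rw [← norm_mul, hpair i, hq]
    exact Complex.norm_natCast _
  have h2 : ‖α i‖ ^ 2 * ‖α (Fin.rev i)‖ ^ 2 = q * q := by
    rw [← mul_pow, h1]; ring
  by_contra hne
  have hlt : ‖α i‖ ^ 2 < q := lt_of_le_of_ne (hle i) hne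
  have h3 : ‖α i‖ ^ 2 * ‖α (Fin.rev i)‖ ^ 2 < q * q := by
    calc ‖α i‖ ^ 2 * ‖α (Fin.rev i)‖ ^ 2 ≤ ‖α i‖ ^ 2 * q :=
          mul_le_mul_of_nonneg_left (hle _) (by positivity)
      _ < q * q := mul_lt_mul_of_pos_right hlt hq0
  rw [h2] at h3
  exact lt_irrefl _ h3

end Groth.Agent.Lib.LeadRH
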