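import Groth.Agent.Lib.LeadFF24

/-! Riemann's inequality `g ≤ ([K:k(x)] - 1)([K:k(y)] - 1)` for `K = k(x, y)`. -/

namespace Groth.Agent.Lib.LeadRI

open FunFld WithZero Groth.Agent.Lib.LeadFF

variable {k K : Type*} [Field k] [Field K] [Algebra k K]

theorem riemann_inequality (hK : IsFunctionField k K) {x y : K} (hx : Transcendental k x)
    (hgen : IntermediateField.adjoin k ({x, y} : Set K) = ⊤) :
    (genus k K : ℤ) ≤
      ((Module.finrank (IntermediateField.adjoin k ({x} : Set K)) K : ℤ) - 1) *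
        ((zdiv k y⁻¹).deg - 1) := by
  classical
  set F := IntermediateField.adjoin k ({x} : Set K) with hF
  haveI := finite_over_adjoin hK hx
  have hFy : IntermediateField.adjoin F ({y} : Set K) = ⊤ := by
    rw [← IntermediateField.restrictScalars_eq_top_iff (K := k), IntermediateField.adjoin_adjoin_left,
      ← hgen]
    congr 1
  have hint : IsIntegral F y := IsIntegral.of_finite F y
  set n := (minpoly F y).natDegree with hn
  have hnd : n = Module.finrank F K := by
    rw [hn, ← IntermediateField.adjoin.finrank hint, hFy, IntermediateField.finrank_top']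
  have hnpos : 0 < n := by rw [hnd]; exact Module.finrank_pos
  have hpow := linearIndependent_pow (K := F) y
  set g := genus k K with hg
  set A := zdiv k x⁻¹ with hA
  set B := zdiv k y⁻¹ with hB
  have hxk : x ∉ Set.range (algebraMap k K) := by
    rintro ⟨c, rfl⟩
    exact hx (isAlgebraic_algebraMap c)
  have hAdeg : A.deg = n := by
    rw [hnd, hF]; exact (finrank_adjoin_eq_deg_pdiv hK hxk)
  have hA0 : 0 ≤ A := zdiv_nonneg _
  have hB0 : 0 ≤ B := zdiv_nonneg _
  have hBdeg0 : 0 ≤ B.deg := deg_nonneg B hB0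
  set m := 2 * g + 1 with hm
  have hXF : x ∈ F := IntermediateField.mem_adjoin_simple_self k x
  have hb := linearIndependent_pow_of_transcendental hx m F hXF
  have hli := linearIndependent_smul hb hpow
  set E := m • A + (n - 1) • B with hE
  have hmem : ∀ p : Fin (m + 1) × Fin n, ((⟨x, hXF⟩ : F) ^ (p.1 : ℕ)) • y ^ (p.2 : ℕ) ∈ L E := by
    intro p
    rw [IntermediateField.smul_def]
    simp only [SubmonoidClass.mk_pow, smul_eq_mul]
    have h1 : x ^ (p.1 : ℕ) ∈ L (m • A) :=
      L_nsmul_mono hA0 (by have := p.1.2; omega) (pow_mem_L_nsmul (self_mem_L_pdiv hK x) _)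
    have h2 : y ^ (p.2 : ℕ) ∈ L ((n - 1) • B) :=
      L_nsmul_mono hB0 (by have := p.2.2; omega) (pow_mem_L_nsmul (self_mem_L_pdiv hK y) _)
    exact mul_mem_L_add h1 h2
  haveI := L_finite hK E
  have hli' : LinearIndependent k (fun p : Fin (m + 1) × Fin n => (⟨_, hmem p⟩ : L E)) := by
    apply LinearIndependent.of_comp (L E).subtype
    exact hli
  have hcard := hli'.fintype_card_le_finrank
  rw [Fintype.card_prod, Fintype.card_fin, Fintype.card_fin] at hcard
  have hEdeg : E.deg = m * n + (n - 1 : ℕ) * B.deg := by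
    rw [hE, deg_add, deg_nsmul, deg_nsmul, hAdeg]
  have hell := ell_of_deg_ge hK E (by
    rw [hEdeg]
    have h1 : (1 : ℤ) ≤ n := by exact_mod_cast hnpos
    have h2 : (0 : ℤ) ≤ ((n - 1 : ℕ) : ℤ) * B.deg := mul_nonneg (Nat.cast_nonneg _) hBdeg0
    have h3 : (2 * (g : ℤ)) ≤ m := by rw [hm]; push_cast; omega
    nlinarith)
  have hcard' : (((m + 1) * n : ℕ) : ℤ) ≤ ell E := by
    unfold ell; exact_mod_cast hcard
  rw [hell, hEdeg] at hcard'
  rw [← hnd]
  have hn1 : ((n - 1 : ℕ) : ℤ) = (n : ℤ) - 1 := by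
    rw [Nat.cast_sub hnpos]; simp
  rw [hn1] at hcard'
  push_cast at hcard'
  nlinarith

end Groth.Agent.Lib.LeadRI
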