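import Groth.Agent.Lib.LeadRI1

/-! Two distinct rational subfields of index two force genus at most one. -/

namespace Groth.Agent.Lib.LeadRI

open FunFld WithZero IntermediateField Groth.Agent.Lib.LeadFF

variable {k K : Type*} [Field k] [Field K] [Algebra k K]

lemma not_mem_range_of_finrank_pos (hK : IsFunctionField k K) {x : K}
    (hx : 0 < Module.finrank k⟮x⟯ K) : x ∉ Set.range (algebraMap k K) := by
  rintro ⟨c, rfl⟩
  have hbot : k⟮algebraMap k K c⟯ = ⊥ := by
    rw [adjoin_simple_eq_bot_iff]
    exact IntermediateField.algebraMap_mem _ c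
  rw [hbot] at hx
  haveI : Module.Finite (⊥ : IntermediateField k K) K := Module.finite_of_finrank_pos hx
  haveI : Module.Finite k K := Module.Finite.trans (⊥ : IntermediateField k K) K
  obtain ⟨t, ht, -⟩ := hK.1
  exact ht (IsAlgebraic.of_finite k t)

theorem genus_le_one_of_two (hK : IsFunctionField k K) {x x' : K}
    (hx : Module.finrank k⟮x⟯ K = 2) (hx' : Module.finrank k⟮x'⟯ K = 2) (hnot : x' ∉ k⟮x⟯) :
    genus k K ≤ 1 := by
  have hxk : x ∉ Set.range (algebraMap k K) := not_mem_range_of_finrank_pos hK (by omega)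
  have hxt : Transcendental k x := transcendental_of_not_mem hK hxk
  have hx'k : x' ∉ Set.range (algebraMap k K) := by
    rintro ⟨c, rfl⟩
    exact hnot (IntermediateField.algebraMap_mem _ c)
  haveI : IsSimpleOrder (IntermediateField k⟮x⟯ K) :=
    IntermediateField.isSimpleOrder_of_finrank_prime k⟮x⟯ K (by rw [hx]; exact Nat.prime_two)
  have htop : (k⟮x⟯)⟮x'⟯ = ⊤ := by
    rcases eq_bot_or_eq_top ((k⟮x⟯)⟮x'⟯) with h | h
    · exfalso
      rw [adjoin_simple_eq_bot_iff, IntermediateField.mem_bot] at h
      obtain ⟨f, hf⟩ := h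
      exact hnot (hf ▸ f.2)
    · exact h
  have hgen : IntermediateField.adjoin k ({x, x'} : Set K) = ⊤ := by
    have := (IntermediateField.restrictScalars_eq_top_iff (K := k)).mpr htop
    rw [IntermediateField.adjoin_adjoin_left] at this
    rw [← this]
    congr 1
  have h1 := riemann_inequality hK hxt hgen
  have h2 := finrank_adjoin_eq_deg_pdiv hK hx'k
  rw [hx] at h1
  rw [hx'] at h2
  rw [h2] at h1
  norm_num at h1
  exact_mod_cast h1

end Groth.Agent.Lib.LeadRI
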