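import Groth.Agent.Lib.LeadMS7

/-! Ramification in finite separable extensions: almost all places are unramified. -/

namespace Groth.Agent.Lib.LeadRM

open FunFld WithZero Polynomial Groth.Agent.Lib.LeadFF

variable {k : Type*} {K : Type*} [Field k] [Field K] [Algebra k K]
  {K' : Type*} [Field K'] [Algebra K K'] [Algebra k K'] [IsScalarTower k K K']

/-- evaluation at `y` of polynomials with coefficients in `O_P`. -/
noncomputable def ev (P : Place k K) (y : K') : (P.O)[X] →+* K' :=
  Polynomial.eval₂RingHom ((algebraMap K K').comp (algebraMap P.O K)) y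

lemma ev_C (P : Place k K) (y : K') (c : P.O) : ev P y (C c) = algebraMap K K' (c : K) := by
  simp [ev]

lemma ev_eq_aeval (P : Place k K) (y : K') (p : (P.O)[X]) :
    ev P y p = aeval y (p.map (algebraMap P.O K)) := by
  simp [ev, aeval_def, eval₂_map]

lemma val_ev_le_one {P : Place k K} {Q : Place k K'} {e : ℕ} (he : IsOverWith Q P e) {y : K'}
    (hy : Q.1 y ≤ 1) (p : (P.O)[X]) : Q.1 (ev P y p) ≤ 1 := by
  unfold ev
  rw [coe_eval₂RingHom, eval₂_eq_sum_range]
  apply Valuation.map_sum_le
  intro i _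
  rw [map_mul, map_pow, RingHom.comp_apply, he]
  have h1 : P.1 ((p.coeff i : P.O) : K) ≤ 1 := (p.coeff i).2
  exact mul_le_one' (pow_le_one' h1 e) (pow_le_one' hy i)

theorem values_dvd {P : Place k K} {Q : Place k K'} {e : ℕ} (he : IsOverWith Q P e)
    {y : K'} (hy : Q.1 y ≤ 1) (hO aO bO : (P.O)[X]) (hev : ev P y hO = 0)
    (hsep : aO * hO + bO * derivative hO = 1) :
    ∀ (N : ℕ) (p : (P.O)[X]), Q.1 (ev P y p) = exp (-(N : ℤ)) → (e : ℤ) ∣ N := by
  classical
  obtain ⟨t, ht⟩ := exists_unif P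
  have htO : t ∈ P.O := by
    show P.1 t ≤ 1
    exact (unif_lt_one ht).le
  set t' : P.O := ⟨t, htO⟩ with ht'
  set red : (P.O)[X] →+* (IsLocalRing.ResidueField P.O)[X] :=
    mapRingHom (IsLocalRing.residue P.O) with hred
  have hred_surj : Function.Surjective red := map_surjective _ IsLocalRing.residue_surjective
  have hmax : IsLocalRing.maximalIdeal P.O = Ideal.span {t'} := by
    ext w
    rw [mem_maxIdeal_iff, Ideal.mem_span_singleton']
    constructor
    · intro hw
      have hw' : P.1 (w : K) ≤ exp (-1 : ℤ) := by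
        have := (zm0_lt_exp_iff (x := P.1 (w : K)) (n := 0)).mp (by simpa using hw)
        simpa using this
      have hmem : (w : K) / t ∈ P.O := by
        show P.1 ((w : K) / t) ≤ 1
        rw [map_div₀, ht]
        exact div_le_one_of_le₀ hw' (by simp)
      refine ⟨⟨(w : K) / t, hmem⟩, ?_⟩
      apply Subtype.ext
      show (w : K) / t * t = w
      field_simp [unif_ne_zero ht]
    · rintro ⟨a, rfl⟩
      show P.1 ((a : K) * t) < 1
      rw [map_mul]
      calc P.1 (a : K) * P.1 t ≤ 1 * P.1 t := by gcongr; exact a.2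
        _ = P.1 t := one_mul _
        _ < 1 := unif_lt_one ht
  have hker : ∀ p, red p = 0 → ∃ p', p = C t' * p' := by
    intro p hp
    have h1 : p ∈ RingHom.ker (mapRingHom (IsLocalRing.residue P.O)) := hp
    rw [Polynomial.ker_mapRingHom, IsLocalRing.ker_residue, hmax, Ideal.map_span,
      Set.image_singleton, Ideal.mem_span_singleton'] at h1
    obtain ⟨a, ha⟩ := h1
    exact ⟨a, by rw [← ha, mul_comm]⟩
  -- the ideal
  let 𝔭 : Ideal (P.O)[X] :=
    { carrier := {p | Q.1 (ev P y p) < 1}
      add_mem' := by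
        intro a b ha hb
        show Q.1 (ev P y (a + b)) < 1
        rw [map_add]
        exact lt_of_le_of_lt (Valuation.map_add _ _ _) (max_lt ha hb)
      zero_mem' := by
        show Q.1 (ev P y 0) < 1
        rw [map_zero, map_zero]; exact zero_lt_one
      smul_mem' := by
        intro c a ha
        show Q.1 (ev P y (c • a)) < 1
        rw [smul_eq_mul, map_mul, map_mul]
        calc Q.1 (ev P y c) * Q.1 (ev P y a) ≤ 1 * Q.1 (ev P y a) := by
              gcongr; exact val_ev_le_one he hy c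
          _ = Q.1 (ev P y a) := one_mul _
          _ < 1 := ha }
  have hmem𝔭 : ∀ p, p ∈ 𝔭 ↔ Q.1 (ev P y p) < 1 := fun p => Iff.rfl
  have hQt : Q.1 (ev P y (C t')) = exp (-(e : ℤ)) := by
    rw [ev_C, he]
    show P.1 t ^ e = _
    rw [ht, zm0_exp_pow]; simp
  have he0 : 0 < e := by
    rcases Nat.eq_zero_or_pos e with rfl | h
    · have := he 0
      simp at this
    · exact h
  have ht𝔭 : ∀ p', C t' * p' ∈ 𝔭 := by
    intro p'
    apply 𝔭.mul_mem_right
    rw [hmem𝔭, hQt, ← exp_zero, exp_lt_exp]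
    omega
  have hmem_iff : ∀ p, p ∈ 𝔭 ↔ red p ∈ Ideal.map red 𝔭 := by
    intro p
    constructor
    · exact Ideal.mem_map_of_mem _
    · intro h
      rw [Ideal.mem_map_iff_of_surjective _ hred_surj] at h
      obtain ⟨q, hq, hqp⟩ := h
      have h0 : red (p - q) = 0 := by rw [map_sub, hqp, sub_self]
      obtain ⟨p', hp'⟩ := hker _ h0
      have h2 : p = q + C t' * p' := by rw [← hp']; ring
      rw [h2]; exact 𝔭.add_mem hq (ht𝔭 p')
  obtain ⟨g, hg⟩ : ∃ g, Ideal.map red 𝔭 = Ideal.span {g} :=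
    (IsPrincipalIdealRing.principal _).principal
  have h1 : (1 : (P.O)[X]) ∉ 𝔭 := by
    rw [hmem𝔭, map_one, map_one]; exact lt_irrefl _
  have hg_not_unit : ¬ IsUnit g := by
    intro hu
    have h2 : (1 : (IsLocalRing.ResidueField P.O)[X]) ∈ Ideal.map red 𝔭 := by
      rw [hg, Ideal.span_singleton_eq_top.mpr hu]; trivial
    rw [← map_one red, ← hmem_iff] at h2
    exact h1 h2
  have hh𝔭 : hO ∈ 𝔭 := by
    rw [hmem𝔭, hev, map_zero]; exact zero_lt_one
  obtain ⟨rbar, hr⟩ : g ∣ red hO := by
    have h2 := Ideal.mem_map_of_mem red hh𝔭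
    rw [hg] at h2
    exact Ideal.mem_span_singleton.mp h2
  have hsq : Squarefree (red hO) := by
    have hc : IsCoprime (red hO) (derivative (red hO)) := by
      refine ⟨red aO, red bO, ?_⟩
      have h2 := congrArg red hsep
      rw [map_add, map_mul, map_mul, map_one] at h2
      rw [← h2]
      congr 2
      simp [hred, derivative_map]
    exact Polynomial.Separable.squarefree hc
  have hgr : ¬ g ∣ rbar := by
    rintro ⟨s, hs⟩
    apply hg_not_unit
    apply hsq g
    rw [hr, hs]; exact ⟨s, by ring⟩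
  obtain ⟨r, hrr⟩ := hred_surj rbar
  have hr_notin : r ∉ 𝔭 := by
    rw [hmem_iff, hrr, hg, Ideal.mem_span_singleton]; exact hgr
  have hQr : Q.1 (ev P y r) = 1 :=
    le_antisymm (val_ev_le_one he hy r) (not_lt.mp hr_notin)
  intro N
  induction N using Nat.strong_induction_on with
  | _ N ih =>
    intro p hp
    by_cases hp𝔭 : p ∈ 𝔭
    · have h2 : red p ∈ Ideal.map red 𝔭 := Ideal.mem_map_of_mem _ hp𝔭
      rw [hg, Ideal.mem_span_singleton] at h2
      obtain ⟨qbar, hq⟩ := h2
      obtain ⟨q, hqq⟩ := hred_surj qbar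
      have h3 : red (p * r - hO * q) = 0 := by
        rw [map_sub, map_mul, map_mul, hrr, hqq, hq, hr]; ring
      obtain ⟨p₂, hp₂⟩ := hker _ h3
      have h4 : ev P y p * ev P y r = ev P y (C t') * ev P y p₂ := by
        rw [← map_mul, ← map_mul, ← hp₂, map_sub, map_mul (ev P y) hO, hev, zero_mul, sub_zero]
      have h5 : Q.1 (ev P y p) = exp (-(e : ℤ)) * Q.1 (ev P y p₂) := by
        have h6 := congrArg Q.1 h4
        rwa [map_mul, map_mul, hQr, mul_one, hQt] at h6
      rw [hp] at h5
      have h6 : Q.1 (ev P y p₂) ≠ 0 := by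
        intro h0; rw [h0, mul_zero] at h5; exact exp_ne_zero h5
      have hle := val_ev_le_one he hy p₂
      obtain ⟨M, hM⟩ : ∃ M : ℕ, Q.1 (ev P y p₂) = exp (-(M : ℤ)) := by
        refine ⟨(-(log (Q.1 (ev P y p₂)))).toNat, ?_⟩
        have h7 : Q.1 (ev P y p₂) = exp (log (Q.1 (ev P y p₂))) := (exp_log h6).symm
        have h8 : log (Q.1 (ev P y p₂)) ≤ 0 := by
          have hle' : exp (log (Q.1 (ev P y p₂))) ≤ exp (0 : ℤ) := by
            rw [exp_log h6, exp_zero]; exact hle
          exact exp_le_exp.mp hle'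
        rw [Int.toNat_of_nonneg (by omega), neg_neg]
        exact h7
      rw [hM, ← exp_add, exp_inj] at h5
      have hMN : M < N := by omega
      have h9 := ih M hMN p₂ hM
      have hN : (N : ℤ) = e + M := by omega
      rw [hN]; exact dvd_add (dvd_refl _) h9
    · have h2 : Q.1 (ev P y p) = 1 :=
        le_antisymm (val_ev_le_one he hy p) (not_lt.mp hp𝔭)
      rw [hp, ← exp_zero, exp_inj] at h2
      have h3 : N = 0 := by omega
      subst h3; simp

end Groth.Agent.Lib.LeadRM
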