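import Mathlib
import Groth.Agent.Lib.LeadRS5

/-! Further consequences (S12590, S12628, S12631). -/

set_option autoImplicit false

namespace Groth.Agent.Lib.LeadRS
open FunFld HahnSeries WithZero Groth.Agent.Lib.LeadTR Groth.Agent.Lib.LeadWD
  Groth.Agent.Lib.LeadFF Polynomial
open scoped IntermediateField

universe u v w

variable {k : Type u} {K : Type v} [Field k] [Field K] [Algebra k K]

section Local
variable {F : Type w} [Field F] [Algebra k F]

/-- approximation of a Laurent series by an element of `K` to any order. -/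
lemma exists_approx (P : Place k K) (φ : K →ₐ[k] LaurentSeries F)
    (hφ : LocRes.IsExpansionAt P.1 φ) (g : LaurentSeries F) (N : ℤ) :
    ∃ y : K, φ y - g ∈ Afil k N := by
  obtain ⟨t, ht⟩ := hφ.2.2
  have ht0 : t ≠ 0 := by
    rintro rfl
    rw [map_zero] at ht
    exact exp_ne_zero ht.symm
  obtain ⟨h', hh'⟩ := exists_sub_mem_Afil (k := k) hφ (g * φ (t ^ (-N)))
  refine ⟨h' * t ^ N, ?_⟩
  have h1 : φ (t ^ N) ∈ Afil k N := by
    rw [mem_Afil_iff_val, hφ.1, map_zpow₀, ht, ← exp_zsmul]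
    simp
  have h2 : φ (t ^ (-N)) * φ (t ^ N) = 1 := by
    rw [← map_mul, ← zpow_add₀ ht0]; simp
  have e : φ (h' * t ^ N) - g = -((g * φ (t ^ (-N)) - φ h') * φ (t ^ N)) := by
    rw [map_mul, sub_mul, mul_assoc, h2, mul_one]; ring
  rw [e]
  apply Submodule.neg_mem
  have := mul_mem_Afil hh' h1
  rwa [zero_add] at this

theorem exists_locRes_ne_zero (hK : IsFunctionField k K) (hg : IsGeometric k K)
    (P : Place k K) [FiniteDimensional k F] (φ : K →ₐ[k] LaurentSeries F)
    (hφ : LocRes.IsExpansionAt P.1 φ) (x : K) (hx : KaehlerDifferential.D k K x ≠ 0) :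
    ∃ y : K, LocRes.locRes φ y x ≠ 0 := by
  have hD := D_exp_ne_zero' hK hg hx P φ hφ
  set d := LocRes.D F (φ x) with hd
  have hvd : Valued.v d ≠ 0 := (Valuation.ne_zero_iff _).mpr hD
  set m : ℤ := -(WithZero.log (Valued.v d)) with hm
  have hvm : Valued.v d = exp (-m) := by rw [hm, neg_neg, WithZero.exp_log hvd]
  obtain ⟨hlow, ham⟩ := (Groth.Agent.Lib.LeadMS.val_eq_exp_iff).mp hvm
  have hdA : d ∈ Afil k m := hlow
  obtain ⟨b, hb⟩ := trace_nondeg hK hg P φ hφ (d.coeff m) ham
  obtain ⟨y, hy⟩ := exists_approx P φ hφ (HahnSeries.single (-1 - m) b) (-m)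
  refine ⟨y, ?_⟩
  show Algebra.trace k F (LocRes.resExp φ y x) ≠ 0
  rw [resExp_eq_coeff]
  have e : φ y * d = (φ y - HahnSeries.single (-1 - m) b) * d + HahnSeries.single (-1 - m) b * d := by
    ring
  rw [← hd, e, HahnSeries.coeff_add]
  have h1 : ((φ y - HahnSeries.single (-1 - m) b) * d).coeff (-1) = 0 := by
    have := mul_mem_Afil hy hdA
    exact this (-1) (by omega)
  have h2 : (HahnSeries.single (-1 - m) b * d).coeff (-1) = b * d.coeff m := by
    have hs : (HahnSeries.single (-1 - m) b : LaurentSeries F) ∈ Afil k (-1 - m) := by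
      intro i hi
      rw [HahnSeries.coeff_single_of_ne (by omega)]
    have := coeff_mul_of_mem_Afil hs hdA
    rw [show (-1 - m + m) = -1 by ring, HahnSeries.coeff_single_same] at this
    exact this
  rw [h1, h2, zero_add]
  exact hb

end Local

section Global
variable (F : Place k K → Type w) [∀ P, Field (F P)] [∀ P, Algebra k (F P)]
  [∀ P, FiniteDimensional k (F P)]
  (φ : ∀ P, K →ₐ[k] LaurentSeries (F P))
variable {F φ}

theorem existsUnique_weil (hK : IsFunctionField k K) (hg : IsGeometric k K)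
    (hφ : ∀ P, LocRes.IsExpansionAt P.1 (φ P)) (v : K)
    (hv : KaehlerDifferential.D k K v ≠ 0)
    (ω : Module.Dual k (adele k K)) (hω : IsWeil ω) :
    ∃! u : K, ∀ a : adele k K,
      (Function.support fun P => LocRes.locRes (φ P) ((a : Place k K → K) P * u) v).Finite ∧
        ω a = ∑ᶠ P, LocRes.locRes (φ P) ((a : Place k K → K) P * u) v := by
  set ω₀ := omegaRes hK hφ 1 v with hω₀
  have hdiv := isDivOf_divD hK hg hφ hv
  have h0 := ne_zero_of_isDivOf hK hdiv
  have hmul : ∀ (u : K) (a : adele k K), mulW u (smul_mem_adele hK u) ω₀ a =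
      ∑ᶠ P, LocRes.locRes (φ P) ((a : Place k K → K) P * u) v := by
    intro u a
    rw [mulW_apply, hω₀, omegaRes_apply]
    refine finsum_congr fun P => ?_
    show LocRes.locRes (φ P) ((u • (a : Place k K → K)) P * 1) v = _
    rw [Pi.smul_apply, smul_eq_mul, mul_one, mul_comm]
  obtain ⟨E, hE⟩ := hω
  obtain ⟨x, ⟨-, hx⟩, -⟩ := existsUnique_mulW hK ω₀ _ hdiv E ω hE
  refine ⟨x, fun a => ⟨support_locRes_adele hK hφ x v a, ?_⟩, ?_⟩
  · rw [← hx, hmul]
  · intro u hu
    apply mulWHom_injective hK h0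
    rw [mulWHom_apply, mulWHom_apply, hx]
    ext a
    rw [hmul, (hu a).2]

theorem genus_one_diff (hK : IsFunctionField k K) (hg : IsGeometric k K)
    (h1 : genus k K = 1) (hφ : ∀ P, LocRes.IsExpansionAt P.1 (φ P)) (v : K)
    (hv : KaehlerDifferential.D k K v ≠ 0) :
    (∃ u : K, u ≠ 0 ∧ ∀ P, LocRes.vDiff (φ P) u v = 1) ∧
      ∀ u u' : K, u ≠ 0 → (∀ P, LocRes.vDiff (φ P) u v = 1) →
        (∀ P, LocRes.vDiff (φ P) u' v = 1) → ∃ c : k, u' = c • u := by
  set C := divD hK hg hφ hv with hC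
  have hcan : IsCanonical k K C :=
    ⟨_, (weil_of_residues hK hg hφ 1 v one_ne_zero hv).2.1, isDivOf_divD hK hg hφ hv⟩
  obtain ⟨hell, hdeg⟩ := canonical_ell_deg hK hcan
  rw [h1] at hell hdeg
  constructor
  · haveI := L_finite hK C
    have hpos : 0 < Module.finrank k (L C) := by
      have : (ell C : ℤ) = 1 := by exact_mod_cast hell
      unfold ell at this
      omega
    obtain ⟨⟨z, hzL⟩, hz0⟩ := Module.finrank_pos_iff_exists_ne_zero.mp hpos
    have hz : z ≠ 0 := fun h => hz0 (Subtype.ext h)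
    have h5 := neg_le_div_of_mem_L hK hzL hz
    have h6 : -C = FunFld.div k z := by
      apply eq_of_le_of_deg_eq hK h5
      rw [deg_neg, deg_div hK, hdeg]; norm_num
    refine ⟨z, hz, fun P => ?_⟩
    rw [vDiff_eq hK hg hφ hv P z, val_eq_exp_neg_ord P hz, ← div_apply hK, ← h6, ← exp_add, ← hC]
    simp
  · intro u u' hu hu1 hu'1
    have hval : ∀ y : K, (∀ P, LocRes.vDiff (φ P) y v = 1) → ∀ P : Place k K, P.1 y = exp (C P) := by
      intro y hy P
      have := hy P
      rw [vDiff_eq hK hg hφ hv P y] at this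
      have h2 : P.1 y = P.1 y * exp (-(C P)) * exp (C P) := by
        rw [mul_assoc, ← exp_add]; simp
      rw [h2, this, one_mul]
    have hq : u' / u ∈ L (0 : Divisor k K) := by
      intro P
      rw [map_div₀, hval u hu1 P, hval u' hu'1 P, div_self exp_ne_zero]
      simp
    rw [L_zero hK, Submodule.mem_one] at hq
    obtain ⟨c, hc⟩ := hq
    refine ⟨c, ?_⟩
    rw [Algebra.smul_def, hc, div_mul_cancel₀ _ hu]

end Global

end Groth.Agent.Lib.LeadRS
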