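import Groth.Agent.Lib.LeadCSAIndex

/-! # Elements with a power in the base field (fields containing all roots of unity) -/

namespace Groth.Agent.Lib.LeadCSA

open Polynomial

section FieldLemma

variable {K : Type*} [Field K] (hK : ∀ n : ℕ, 0 < n → (X ^ n - 1 : K[X]).Splits)

include hK in
/-- roots of unity in any extension lie in `K` -/
theorem rootOfUnity_mem_range {E : Type*} [Field E] [Algebra K E] {m : ℕ} (hm : 0 < m)
    {ζ : E} (hζ : ζ ^ m = 1) : ζ ∈ (algebraMap K E).range := by
  have hne : (X ^ m - 1 : K[X]) ≠ 0 := X_pow_sub_C_ne_zero hm 1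
  apply (hK m hm).mem_range_of_isRoot hne (i := algebraMap K E) (x := ζ)
  simp [hζ]

include hK in
/-- if `x^m ∈ K` then `x^deg(minpoly x) ∈ K` (in any, possibly noncommutative, domain) -/
theorem pow_natDegree_minpoly_mem_range {D : Type*} [Ring D] [IsDomain D] [Algebra K D]
    {x : D} (hint : IsIntegral K x) {m : ℕ} (hm : 0 < m)
    (hx : x ^ m ∈ (algebraMap K D).range) :
    x ^ (minpoly K x).natDegree ∈ (algebraMap K D).range := by
  classical
  by_cases hx0 : x = 0
  · subst hx0
    have : (minpoly K (0 : D)).natDegree ≠ 0 := (minpoly.natDegree_pos hint).ne'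
    rw [zero_pow this]
    exact ⟨0, map_zero _⟩
  obtain ⟨a, ha⟩ := hx
  have ha0 : a ≠ 0 := by
    rintro rfl
    rw [map_zero] at ha
    exact hx0 (pow_eq_zero_iff hm.ne' |>.mp ha.symm)
  let E := AlgebraicClosure K
  set f := minpoly K x with hf
  have hfm : f.Monic := minpoly.monic hint
  have hfirr : Irreducible f := minpoly.irreducible hint
  have hfE : (f.map (algebraMap K E)).Splits := IsAlgClosed.splits _
  have hfEm : (f.map (algebraMap K E)).Monic := hfm.map _
  have hdvd : f ∣ X ^ m - C a := by
    apply minpoly.dvd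
    simp [ha]
  have hroot : ∀ y ∈ (f.map (algebraMap K E)).roots, y ^ m = algebraMap K E a := by
    intro y hy
    rw [mem_roots hfEm.ne_zero, IsRoot.def, eval_map_algebraMap] at hy
    obtain ⟨g, hg⟩ := hdvd
    have : aeval y (X ^ m - C a : K[X]) = 0 := by rw [hg, map_mul, hy, zero_mul]
    simpa [sub_eq_zero] using this
  set R := (f.map (algebraMap K E)).roots with hR
  have hcardR : Multiset.card R = f.natDegree := by
    rw [hR, ← hfE.natDegree_eq_card_roots, natDegree_map]
  have hRne : R ≠ 0 := by
    intro h0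
    rw [h0, Multiset.card_zero] at hcardR
    exact (minpoly.natDegree_pos hint).ne' hcardR.symm
  obtain ⟨xE, hxER⟩ := Multiset.exists_mem_of_ne_zero hRne
  have hxEm : xE ^ m = algebraMap K E a := hroot xE hxER
  have hxE0 : xE ≠ 0 := by
    rintro rfl
    rw [zero_pow hm.ne'] at hxEm
    exact ha0 ((algebraMap K E).injective (by rw [← hxEm, map_zero]))
  have hquot : ∀ y ∈ R, y / xE ∈ (algebraMap K E).range := by
    intro y hy
    apply rootOfUnity_mem_range hK hm
    rw [div_pow, hroot y hy, hxEm, div_self]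
    rw [← hxEm]; exact pow_ne_zero _ hxE0
  have hprod : R.prod = (R.map (fun y => y / xE)).prod * xE ^ f.natDegree := by
    rw [← hcardR, ← Multiset.prod_replicate, ← Multiset.map_const', ← Multiset.prod_map_mul]
    congr 1
    rw [Multiset.map_congr rfl (fun y _ => div_mul_cancel₀ y hxE0), Multiset.map_id']
  have hcoeff : (f.map (algebraMap K E)).coeff 0 = (-1) ^ f.natDegree * R.prod := by
    have := hfE.coeff_zero_eq_prod_roots_of_monic hfEm
    rw [natDegree_map] at this
    exact this
  set P := (R.map (fun y => y / xE)).prod with hP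
  have hPmem : P ∈ (algebraMap K E).fieldRange := by
    apply Subfield.multiset_prod_mem
    intro z hz
    rw [Multiset.mem_map] at hz
    obtain ⟨y, hy, rfl⟩ := hz
    exact hquot y hy
  have hP0 : P ≠ 0 := by
    rw [hP]
    apply Multiset.prod_ne_zero
    intro h0
    rw [Multiset.mem_map] at h0
    obtain ⟨y, hy, hy0⟩ := h0
    rw [div_eq_zero_iff] at hy0
    rcases hy0 with hy0 | hy0
    · have := hroot y hy
      rw [hy0, zero_pow hm.ne'] at this
      exact ha0 ((algebraMap K E).injective (by rw [← this, map_zero]))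
    · exact hxE0 hy0
  have hxEr : xE ^ f.natDegree ∈ (algebraMap K E).fieldRange := by
    have h1 : xE ^ f.natDegree = (-1) ^ f.natDegree * (f.map (algebraMap K E)).coeff 0 / P := by
      rw [hcoeff, hprod, ← mul_assoc, ← mul_assoc, ← mul_pow]
      rw [neg_one_mul, neg_neg, one_pow, one_mul, mul_comm, mul_div_assoc, div_self hP0, mul_one]
    rw [h1]
    apply Subfield.div_mem _ _ hPmem
    apply Subfield.mul_mem
    · exact Subfield.pow_mem _ (Subfield.neg_mem _ (Subfield.one_mem _)) _
    · rw [coeff_map]; exact ⟨_, rfl⟩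
  obtain ⟨c, hc⟩ := hxEr
  refine ⟨c, ?_⟩
  -- f is the minimal polynomial of xE, so f ∣ X^r - c
  have hxEroot : aeval xE f = 0 := by
    have := hxER
    rw [hR, mem_roots hfEm.ne_zero, IsRoot.def, eval_map_algebraMap] at this
    exact this
  have hfmin : f = minpoly K xE := minpoly.eq_of_irreducible_of_monic hfirr hxEroot hfm
  have hdvd2 : f ∣ X ^ f.natDegree - C c := by
    rw [hfmin]
    apply minpoly.dvd
    rw [← hfmin]
    simp [hc]
  obtain ⟨g, hg⟩ := hdvd2
  have h2 : aeval x (X ^ f.natDegree - C c : K[X]) = 0 := by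
    rw [hg, map_mul, hf, minpoly.aeval, zero_mul]
  have h3 : x ^ f.natDegree - algebraMap K D c = 0 := by simpa using h2
  exact (sub_eq_zero.mp h3).symm

end FieldLemma

section SubfieldDegree

variable {k : Type*} [Field k] {D : Type*} [DivisionRing D] [Algebra k D] [Algebra.IsCentral k D]
  [FiniteDimensional k D]

/-- the degree of a subfield of a central division algebra of degree `n` divides `n` -/
theorem finrank_comm_subalgebra_dvd (L : Subalgebra k D)
    (hcomm : ∀ x ∈ L, ∀ y ∈ L, x * y = y * x) {n : ℕ} (hn : Module.finrank k D = n ^ 2) :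
    Module.finrank k L ∣ n := by
  let _ : Field L := fieldOfComm L hcomm
  set C := Subalgebra.centralizer k (L : Set D) with hC
  have hLC : L ≤ C := fun x hx => by
    rw [hC, Subalgebra.mem_centralizer_iff]
    intro y hy
    exact hcomm y hy x hx
  have h1 := centralizer_finrank L
  let _ : Module L C := Module.compHom C (Subalgebra.inclusion hLC).toRingHom
  have hsm : ∀ (l : L) (c : C), l • c = (Subalgebra.inclusion hLC l) * c := fun _ _ => rfl
  have : IsScalarTower k L C := ⟨fun a l c => by rw [hsm, hsm, map_smul, smul_mul_assoc]⟩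
  have h2 := Module.finrank_mul_finrank k L C
  rw [hn, ← hC, ← h2, ← mul_assoc, ← pow_two] at h1
  have : (Module.finrank k L) ^ 2 ∣ n ^ 2 := ⟨_, h1⟩
  exact (Nat.pow_dvd_pow_iff two_ne_zero).mp this

theorem adjoin_singleton_comm (x : D) :
    ∀ a ∈ Algebra.adjoin k ({x} : Set D), ∀ b ∈ Algebra.adjoin k ({x} : Set D), a * b = b * a := by
  intro a ha b hb
  rw [Algebra.adjoin_singleton_eq_range_aeval] at ha hb
  obtain ⟨p, rfl⟩ := ha
  obtain ⟨q, rfl⟩ := hb
  rw [← map_mul, ← map_mul, mul_comm]

omit [Algebra.IsCentral k D] in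
/-- the dimension of `k[x]` is the degree of the minimal polynomial (noncommutative ambient) -/
theorem finrank_adjoin_singleton (x : D) :
    Module.finrank k (Algebra.adjoin k ({x} : Set D)) = (minpoly k x).natDegree := by
  have hint : IsIntegral k x := Algebra.IsIntegral.isIntegral x
  let φ : k[X] →ₗ[k] D := (aeval x : k[X] →ₐ[k] D).toLinearMap
  have hrange : LinearMap.range φ = Subalgebra.toSubmodule (Algebra.adjoin k ({x} : Set D)) := by
    rw [Algebra.adjoin_singleton_eq_range_aeval]
    rfl
  have hker : LinearMap.ker φ = (Ideal.span {minpoly k x}).restrictScalars k := by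
    ext p
    have := minpoly.ker_aeval_eq_span_minpoly k x
    have h2 : p ∈ RingHom.ker (aeval x : k[X] →ₐ[k] D) ↔ p ∈ Ideal.span {minpoly k x} := by
      rw [this]
    exact h2
  have e1 : (k[X] ⧸ LinearMap.ker φ) ≃ₗ[k] LinearMap.range φ := φ.quotKerEquivRange
  have e2 : (k[X] ⧸ LinearMap.ker φ) ≃ₗ[k] (k[X] ⧸ Ideal.span {minpoly k x}) :=
    (Submodule.quotEquivOfEq _ _ hker).trans
      (Submodule.Quotient.restrictScalarsEquiv k (Ideal.span {minpoly k x}))
  have h3 : Module.finrank k (Algebra.adjoin k ({x} : Set D)) =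
      Module.finrank k (LinearMap.range φ) := by
    rw [hrange]; rfl
  rw [h3, ← e1.finrank_eq, e2.finrank_eq, finrank_quotient_span_eq_natDegree' (minpoly.monic hint)]

/-- in a central division algebra of degree `n` over a field containing all roots of unity,
`x^m ∈ K` implies `x^n ∈ K` -/
theorem pow_degree_mem_range (hK : ∀ n : ℕ, 0 < n → (X ^ n - 1 : k[X]).Splits)
    {n : ℕ} (hn : Module.finrank k D = n ^ 2) {x : D} {m : ℕ} (hm : 0 < m)
    (hx : x ^ m ∈ (algebraMap k D).range) : x ^ n ∈ (algebraMap k D).range := by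
  have hint : IsIntegral k x := Algebra.IsIntegral.isIntegral x
  obtain ⟨c, hc⟩ := pow_natDegree_minpoly_mem_range hK hint hm hx
  have hcomm := adjoin_singleton_comm (k := k) x
  obtain ⟨q, hq⟩ := finrank_comm_subalgebra_dvd (Algebra.adjoin k ({x} : Set D)) hcomm hn
  rw [finrank_adjoin_singleton] at hq
  refine ⟨c ^ q, ?_⟩
  rw [map_pow, hq, pow_mul, hc]

end SubfieldDegree

end Groth.Agent.Lib.LeadCSA
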