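import Groth.Agent.Lib.LeadWD3

/-! Invariance of the Weierstrass divisor (S12614). -/

namespace Groth.Agent.Lib.LeadWD

open FunFld WithZero Groth.Agent.Lib.LeadFF Groth.Agent.Lib.LeadSV Groth.Agent.Lib.LeadHS

universe u v
variable {k : Type u} {K : Type v} [Field k] [Field K] [Algebra k K]

lemma divDiff_apply [IsAlgClosed k] (hK : IsFunctionField k K) {s : K}
    {Hs : K →ₐ[k] PowerSeries K} (hHs : LocRes.IsHasseFamily s Hs)
    (Φ : Place k K → (K →ₐ[k] LaurentSeries k))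
    (hΦ : ∀ P : Place k K, LocRes.IsExpansionAt P.1 (Φ P)) (P : Place k K) :
    divDiff Φ 1 s P = LocRes.ordDiff (Φ P) 1 s := by
  unfold divDiff
  rw [dif_pos (finite_ordDiff hK hHs Φ hΦ)]
  rfl

theorem divDiff_change [IsAlgClosed k] (hK : IsFunctionField k K) {s t : K}
    {Hs Ht : K →ₐ[k] PowerSeries K} (hHs : LocRes.IsHasseFamily s Hs)
    (hHt : LocRes.IsHasseFamily t Ht)
    (Φ : Place k K → (K →ₐ[k] LaurentSeries k))
    (hΦ : ∀ P : Place k K, LocRes.IsExpansionAt P.1 (Φ P)) :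
    divDiff Φ 1 s = FunFld.div k (LocRes.hasseD Ht 1 s) + divDiff Φ 1 t := by
  have hg := Groth.Agent.Lib.LeadMS.isGeometric_of_isAlgClosed k K
  ext P
  rw [Finsupp.add_apply, divDiff_apply hK hHs Φ hΦ, divDiff_apply hK hHt Φ hΦ, div_apply hK,
    ordDiff_change hK hg hHs hHt P (Φ P) (hΦ P)]

lemma div_const (hK : IsFunctionField k K) {c : k} (hc : c ≠ 0) :
    FunFld.div k (algebraMap k K c) = 0 := by
  ext P
  rw [div_apply hK, Finsupp.zero_apply]
  exact ord_eq_zero_of_eq_one P (place_trivOn P c hc)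

lemma div_one (hK : IsFunctionField k K) : FunFld.div k (1 : K) = 0 := by
  ext P
  rw [div_apply hK, Finsupp.zero_apply]
  exact ord_eq_zero_of_eq_one P (map_one _)

lemma div_pow (hK : IsFunctionField k K) {x : K} (hx : x ≠ 0) (m : ℕ) :
    FunFld.div k (x ^ m) = (m : ℤ) • FunFld.div k x := by
  induction m with
  | zero => simp [div_one hK]
  | succ m ih =>
    rw [pow_succ, div_mul hK (pow_ne_zero _ hx) hx, ih]
    push_cast
    rw [add_smul, one_smul]

theorem wDiv_invariant [IsAlgClosed k] (hK : IsFunctionField k K) {n : ℕ}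
    (φ : Fin (n + 1) → K) (hφ : LinearIndependent k φ) (τ : K →ₐ[k] K) {s : K}
    {Hs : K →ₐ[k] PowerSeries K} (hHs : LocRes.IsHasseFamily s Hs) {t : K}
    {Ht : K →ₐ[k] PowerSeries K} (hHt : LocRes.IsHasseFamily t Ht) (J : Fin n → ℕ)
    (hJ : IsOrders K (hcol τ Hs φ) J) (A : Matrix (Fin (n + 1)) (Fin (n + 1)) k)
    (hA : A.det ≠ 0) (y : K) (hy : y ≠ 0) (φ' : Fin (n + 1) → K)
    (hφ' : ∀ i, φ' i = y * ∑ j, A i j • φ j)
    (Φ : Place k K → (K →ₐ[k] LaurentSeries k))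
    (hΦ : ∀ P : Place k K, LocRes.IsExpansionAt P.1 (Φ P)) :
    wDiv τ Ht Φ t φ' J = wDiv τ Hs Φ s φ J := by
  classical
  have hg := Groth.Agent.Lib.LeadMS.isGeometric_of_isAlgClosed k K
  set ψ : Fin (n + 1) → K := fun i => ∑ j, A i j • φ j with hψdef
  have hψ : ∀ i, ψ i = ∑ j, A i j • φ j := fun i => rfl
  have hφne : ∀ j, φ j ≠ 0 := hφ.ne_zero
  have hψne : ∀ i, ψ i ≠ 0 := by
    intro i h0
    have := Fintype.linearIndependent_iff.mp hφ (A i) h0
    exact hA (Matrix.det_eq_zero_of_row_eq_zero i this)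
  have hτinj : Function.Injective τ := τ.toRingHom.injective
  have hτy : τ y ≠ 0 := fun h => hy (hτinj (by rw [h, map_zero]))
  have hφ'eq : φ' = y • ψ := by
    funext i; rw [hφ' i]; rfl
  -- orders
  have hoc := orders_change hK hg hHs hHt τ φ
  have hJt : IsOrders K (hcol τ Ht φ) J := (hoc.1 J).mpr hJ
  obtain ⟨T, hT⟩ := hcol_change A φ ψ hA hψ τ Ht
  have hJψ : IsOrders K (hcol τ Ht ψ) J := by
    rw [show hcol τ Ht ψ = fun m => T (hcol τ Ht φ m) from funext hT]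
    exact (isOrders_equiv T _ J).mpr hJt
  have det1 := (orders_smul ψ τ Ht hHt y hy).2 J hJψ
  have det2 : (wrMat τ Ht ψ J).det = algebraMap k K A.det * (wrMat τ Ht φ J).det := by
    rw [wrMat_change A φ ψ hψ τ Ht J, Matrix.det_mul]
    congr 1
    rw [RingHom.map_det]; rfl
  have det3 := hoc.2 J hJ
  have hW := wronskian_ne_zero hK φ hφ τ hHs hJ
  have hd := hasseD_one_ne_zero hK hg hHs hHt
  have hcA : algebraMap k K A.det ≠ 0 := by
    rw [Ne, map_eq_zero_iff _ (algebraMap k K).injective]; exact hA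
  -- divisor of the determinant
  have hdiv : FunFld.div k (wrMat τ Ht φ' J).det =
      FunFld.div k (τ y) + (n : ℤ) • FunFld.div k y +
        (∑ l, (J l : ℤ)) • FunFld.div k (LocRes.hasseD Ht 1 s) +
        FunFld.div k (wrMat τ Hs φ J).det := by
    rw [hφ'eq, det1, det2, det3]
    rw [div_mul hK (mul_ne_zero hτy (pow_ne_zero _ hy))
        (mul_ne_zero hcA (mul_ne_zero (pow_ne_zero _ hd) hW)),
      div_mul hK hτy (pow_ne_zero _ hy), div_pow hK hy,
      div_mul hK hcA (mul_ne_zero (pow_ne_zero _ hd) hW), div_const hK hA,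
      div_mul hK (pow_ne_zero _ hd) hW, div_pow hK hd]
    push_cast
    abel
  -- the map divisors
  have hm1 : mapDiv k φ' = mapDiv k φ - FunFld.div k y := by
    rw [show φ' = fun i => y * ψ i from funext fun i => hφ' i, mapDiv_mul hK ψ hψne hy,
      mapDiv_change hK φ ψ A hA hψ hφne hψne]
  have hm2 : mapDiv k (τ ∘ φ') = mapDiv k (τ ∘ φ) - FunFld.div k (τ y) := by
    have h1 : (τ ∘ φ') = fun i => τ y * (τ ∘ ψ) i := by
      funext i
      show τ (φ' i) = τ y * τ (ψ i)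
      rw [hφ' i, map_mul]
    have h2 : ∀ i, (τ ∘ ψ) i = ∑ j, A i j • (τ ∘ φ) j := by
      intro i
      show τ (∑ j, A i j • φ j) = ∑ j, A i j • τ (φ j)
      rw [map_sum]
      exact Finset.sum_congr rfl fun j _ => map_smul τ _ _
    have hne1 : ∀ j, (τ ∘ φ) j ≠ 0 := fun j h => hφne j (hτinj (by rw [map_zero]; exact h))
    have hne2 : ∀ i, (τ ∘ ψ) i ≠ 0 := fun i h => hψne i (hτinj (by rw [map_zero]; exact h))
    rw [h1, mapDiv_mul hK (τ ∘ ψ) hne2 hτy, mapDiv_change hK (τ ∘ φ) (τ ∘ ψ) A hA h2 hne1 hne2]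
  have hdd := divDiff_change hK hHs hHt Φ hΦ
  unfold wDiv
  rw [hdiv, hm1, hm2, hdd]
  simp only [smul_sub, smul_add]
  abel

end Groth.Agent.Lib.LeadWD
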