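import Mathlib
import Groth.Agent.Lib.LeadTR13
import Groth.Agent.Lib.LeadWD4
import Groth.Agent.Lib.LeadFF10
import Groth.Agent.S10992

/-! Over an algebraically closed field the divisor of `ds` is canonical. -/

set_option autoImplicit false

namespace Groth.Agent.Lib.LeadTR
open FunFld HahnSeries WithZero

universe u v

variable {k : Type u} {K : Type v} [Field k] [Field K] [Algebra k K]

theorem isCanonical_divDiff [IsAlgClosed k] (hK : IsFunctionField k K) {s : K}
    {Hs : K →ₐ[k] PowerSeries K} (hHs : LocRes.IsHasseFamily s Hs)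
    (Φ : Place k K → (K →ₐ[k] LaurentSeries k))
    (hΦ : ∀ P : Place k K, LocRes.IsExpansionAt P.1 (Φ P)) :
    IsCanonical k K (divDiff Φ 1 s) ∧ (divDiff Φ 1 s).deg = 2 * (genus k K : ℤ) - 2 := by
  have hg := Groth.Agent.Lib.LeadMS.isGeometric_of_isAlgClosed k K
  have hne : ∀ P, LocRes.vDiff (Φ P) 1 s ≠ 0 := by
    intro P
    have hD := Groth.Agent.Lib.LeadWD.D_exp_ne_zero hK hg hHs P (Φ P) (hΦ P)
    show Valued.v (Φ P 1 * LocRes.D k (Φ P s)) ≠ 0
    rw [map_one, one_mul]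
    exact (Valuation.ne_zero_iff _).2 hD
  have htr : ∀ (P : Place k K) (c : k), c ≠ 0 → ∃ b : k, Algebra.trace k k (b * c) ≠ 0 := by
    intro P c hc
    exact ⟨1, by rw [one_mul, Algebra.trace_self_apply]; exact hc⟩
  obtain ⟨-, hω0, hdiv⟩ := exists_weil_of_residues (F := fun _ => k) (φ := Φ) hK hΦ 1 s hne htr
    (divDiff Φ 1 s) (fun P => Groth.Agent.Lib.LeadWD.divDiff_apply hK hHs Φ hΦ P)
    (Groth.Agent.Lib.LeadFF.nonempty_place hK)
  have hcan : IsCanonical k K (divDiff Φ 1 s) := ⟨_, hω0, hdiv⟩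
  exact ⟨hcan, ((Groth.Agent.S10992.result k K hK _).1 hcan).2⟩

end Groth.Agent.Lib.LeadTR
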