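import Groth.Agent.Lib.LeadWD9

/-! Bounds for orders at a place, normalization at a place. -/

namespace Groth.Agent.Lib.LeadWD

open FunFld WithZero Groth.Agent.Lib.LeadFF Groth.Agent.Lib.LeadSV Groth.Agent.Lib.LeadHS

universe u v
variable {k : Type u} {K : Type v} [Field k] [Field K] [Algebra k K]

lemma le_deg_of_nonneg (hK : IsFunctionField k K) {E : Divisor k K} (hE : 0 ≤ E) (P : Place k K) :
    E P ≤ E.deg := by
  have h1 : 0 ≤ E - Finsupp.single P (E P) := by
    intro Q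
    rw [Finsupp.zero_apply, Finsupp.sub_apply]
    by_cases hQ : Q = P
    · subst hQ; simp
    · rw [Finsupp.single_eq_of_ne hQ, sub_zero]; exact hE Q
  have h2 := deg_nonneg _ h1
  rw [deg_sub, deg_single] at h2
  have h3 : (1 : ℤ) ≤ P.deg := by exact_mod_cast deg_pos hK P
  have h4 : 0 ≤ E P := hE P
  nlinarith

/-- a nonzero element of the span of a tuple normalized at `P` vanishes at `P` to order at most
the degree of the tuple. -/
lemma ord_le_deg (hK : IsFunctionField k K) {ι : Type*} [Fintype ι] [Nonempty ι] (φ : ι → K)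
    (hne : ∀ i, φ i ≠ 0) (P : Place k K) (hP0 : mapDiv k φ P = 0) {g : K}
    (hg : g ∈ Submodule.span k (Set.range φ)) (hg0 : g ≠ 0) :
    P.ord g ≤ (mapDiv k φ).deg := by
  obtain ⟨b, rfl⟩ := (Submodule.mem_span_range_iff_exists_fun k).mp hg
  set g := ∑ i, b i • φ i with hgdef
  have hE : 0 ≤ FunFld.div k g + mapDiv k φ := by
    intro Q
    rw [Finsupp.zero_apply, Finsupp.add_apply, div_apply hK]
    obtain ⟨hle, -⟩ := mapDiv_spec hK φ Q hne
    have := val_sum_smul_le Q Finset.univ b φ _ (fun j _ => hle j)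
    rw [← hgdef, val_eq_exp_neg_ord Q hg0, exp_le_exp] at this
    omega
  have := le_deg_of_nonneg hK hE P
  rw [Finsupp.add_apply, div_apply hK, hP0, add_zero, deg_add, deg_div hK, zero_add] at this
  exact this

/-- orders at a place are bounded by the degree. -/
lemma orders_at_le_deg [IsAlgClosed k] (hK : IsFunctionField k K) {n : ℕ} (φ : Fin (n + 1) → K)
    (hφ : LinearIndependent k φ) (P : Place k K) (hnorm : ∀ i, P.1 (φ i) ≤ 1)
    (hex : ∃ i, P.1 (φ i) = 1) {t : K} (ht : P.1 t = exp (-1 : ℤ))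
    {Ht : K →ₐ[k] PowerSeries K} (hHt : LocRes.IsHasseFamily t Ht) {J' : Fin n → ℕ}
    (hJ' : IsOrders (IsLocalRing.ResidueField P.O) (hcolAt P Ht φ) J') (l : Fin n) :
    (J' l : ℤ) ≤ (mapDiv k φ).deg := by
  have hpos : 1 ≤ J' l := orders_at_pos P φ hHt hJ' l
  have hj := (hJ'.2 (J' l)).mp ⟨l, rfl⟩
  obtain ⟨g, hg, hgv⟩ := (isJump_at_iff hK P φ hnorm ht hHt hpos).mp hj
  have hg0 : g ≠ 0 := by
    rintro rfl
    rw [map_zero] at hgv
    exact exp_ne_zero hgv.symm
  have hP0 := mapDiv_at_zero hK φ P hnorm hex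
  have := ord_le_deg hK φ hφ.ne_zero P hP0 hg hg0
  rw [val_eq_exp_neg_ord P hg0, exp_inj] at hgv
  omega

/-- normalization of a tuple and of the separating variable at a place. -/
lemma exists_normalization [IsAlgClosed k] (hK : IsFunctionField k K) {n : ℕ}
    (φ : Fin (n + 1) → K) (hφ : LinearIndependent k φ) (P : Place k K) {s : K}
    {H : K →ₐ[k] PowerSeries K} (hH : LocRes.IsHasseFamily s H) :
    ∃ (t : K) (Ht : K →ₐ[k] PowerSeries K) (φ' : Fin (n + 1) → K),
      P.1 t = exp (-1 : ℤ) ∧ LocRes.IsHasseFamily t Ht ∧ LinearIndependent k φ' ∧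
      (1 : K) ∈ Submodule.span k (Set.range φ') ∧ (∀ i, P.1 (φ' i) ≤ 1) ∧
      (∃ i, P.1 (φ' i) = 1) ∧ (mapDiv k φ').deg = (mapDiv k φ).deg ∧
      ∀ (τ : K →ₐ[k] K) (J : Fin n → ℕ),
        IsOrders K (hcol τ H φ) J → IsOrders K (hcol τ Ht φ') J := by
  classical
  have hg := Groth.Agent.Lib.LeadMS.isGeometric_of_isAlgClosed k K
  obtain ⟨ε, hε⟩ := exists_isExpansionAt hK P
  obtain ⟨t, ht⟩ := hε.2.2
  have hd := hasseD_one_unif_ne_zero hK hH P ε hε ht
  obtain ⟨Ht, hHt, -⟩ := exists_hasse hH t hd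
  obtain ⟨i0, hi0ne, hi0max⟩ := exists_maxIdx φ P ⟨0, hφ.ne_zero 0⟩
  set y : K := (φ i0)⁻¹ with hydef
  have hy : y ≠ 0 := inv_ne_zero hi0ne
  set φ' : Fin (n + 1) → K := fun i => y * φ i with hφ'def
  have hφ'eq : φ' = y • φ := rfl
  have hnorm : ∀ i, P.1 (φ' i) ≤ 1 := by
    intro i
    show P.1 ((φ i0)⁻¹ * φ i) ≤ 1
    rw [map_mul, map_inv₀]
    have hne : P.1 (φ i0) ≠ 0 := (Valuation.ne_zero_iff _).mpr hi0ne
    rw [inv_mul_le_iff₀ (zero_lt_iff.mpr hne), mul_one]
    exact hi0max i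
  have hone : φ' i0 = 1 := inv_mul_cancel₀ hi0ne
  have heff : (1 : K) ∈ Submodule.span k (Set.range φ') := by
    rw [← hone]; exact Submodule.subset_span ⟨i0, rfl⟩
  have hφ'li : LinearIndependent k φ' := by
    have := hφ.map' (LinearMap.mulLeft k y) (by
      rw [LinearMap.ker_eq_bot]
      intro a b hab
      exact mul_left_cancel₀ hy hab)
    exact this
  refine ⟨t, Ht, φ', ht, hHt, hφ'li, heff, hnorm, ⟨i0, by rw [hone, map_one]⟩, ?_, ?_⟩
  · rw [show φ' = fun i => y * φ i from rfl, mapDiv_mul hK φ hφ.ne_zero hy, deg_sub, deg_div hK,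
      sub_zero]
  · intro τ J hJ
    have hJt : IsOrders K (hcol τ Ht φ) J := ((orders_change hK hg hH hHt τ φ).1 J).mpr hJ
    rw [hφ'eq]
    exact ((orders_smul φ τ Ht hHt y hy).1 J).mpr hJt

/-- existence of the order sequence at a place for a normalized tuple. -/
lemma exists_orders_at [IsAlgClosed k] (hK : IsFunctionField k K) {n : ℕ} (φ : Fin (n + 1) → K)
    (hφ : LinearIndependent k φ) (P : Place k K) (hnorm : ∀ i, P.1 (φ i) ≤ 1)
    (hex : ∃ i, P.1 (φ i) = 1) {t : K} (ht : P.1 t = exp (-1 : ℤ))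
    {Ht : K →ₐ[k] PowerSeries K} (hHt : LocRes.IsHasseFamily t Ht) :
    ∃ J' : Fin n → ℕ, IsOrders (IsLocalRing.ResidueField P.O) (hcolAt P Ht φ) J' := by
  have hrows := rows_at_place_indep hK φ hφ P hnorm ht hHt
  obtain ⟨i0, hi0⟩ := hex
  have hc0 : hcolAt P Ht φ 0 ≠ 0 := by
    intro h
    have h1 := congrFun h i0
    have h2 : evalP P (φ i0) = 0 := h1
    rw [evalP_of_le P hi0.le, IsLocalRing.residue_eq_zero_iff] at h2
    have h3 : P.1 (φ i0) < 1 := by
      have := (Valuation.mem_maximalIdeal_iff _ _).mp h2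
      exact this
    rw [hi0] at h3
    exact lt_irrefl _ h3
  obtain ⟨J', hJ', -⟩ := exists_orders (c := hcolAt P Ht φ) hc0 hrows
  exact ⟨J', hJ'⟩

end Groth.Agent.Lib.LeadWD
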