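import Mathlib
import Groth.Agent.Lib.LeadTR14
import Groth.Agent.Lib.LeadWD10
import Groth.Agent.S11052

/-! The Weierstrass divisor is effective and has the expected degree (S12603). -/

set_option autoImplicit false

namespace Groth.Agent.Lib.LeadTR
open FunFld WithZero Groth.Agent.Lib.LeadFF Groth.Agent.Lib.LeadSV Groth.Agent.Lib.LeadHS
  Groth.Agent.Lib.LeadWD

universe u v

variable {k : Type u} {K : Type v} [Field k] [Field K] [Algebra k K]

lemma deg_zsmul' (z : ℤ) (D : Divisor k K) : (z • D).deg = z * D.deg := by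
  unfold Divisor.deg
  rw [Finsupp.sum_smul_index' (fun P => by simp), Finsupp.mul_sum]
  refine Finsupp.sum_congr fun P _ => ?_
  rw [smul_eq_mul, mul_assoc]

lemma val_det_le_one (P : Place k K) {m : ℕ} (N : Matrix (Fin m) (Fin m) K)
    (h : ∀ i j, P.1 (N i j) ≤ 1) : P.1 N.det ≤ 1 := by
  let N' : Matrix (Fin m) (Fin m) P.O :=
    fun i j => ⟨N i j, (Valuation.mem_valuationSubring_iff P.1 _).2 (h i j)⟩
  have hN : N = N'.map P.O.subtype := by
    ext i j; rfl
  rw [hN, ← RingHom.mapMatrix_apply, ← RingHom.map_det]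
  exact (Valuation.mem_valuationSubring_iff P.1 _).1 (N'.det).2

lemma val_det_le (P : Place k K) {n : ℕ} (M : Matrix (Fin (n + 1)) (Fin (n + 1)) K)
    (γ : WithZero (Multiplicative ℤ)) (h0 : ∀ i, P.1 (M i 0) ≤ γ)
    (hrest : ∀ (i : Fin (n + 1)) (j : Fin n), P.1 (M i j.succ) ≤ 1) : P.1 M.det ≤ γ := by
  rw [Matrix.det_succ_column_zero]
  apply Valuation.map_sum_le
  intro i _
  rw [map_mul, map_mul, map_pow, Valuation.map_neg, map_one, one_pow, one_mul]
  calc P.1 (M i 0) * P.1 (M.submatrix i.succAbove Fin.succ).det ≤ γ * 1 :=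
        mul_le_mul' (h0 i) (val_det_le_one P _ fun a b => hrest _ _)
    _ = γ := mul_one _

theorem wDiv_nonneg_and_deg [IsAlgClosed k] (hK : IsFunctionField k K) {n : ℕ}
    (φ : Fin (n + 1) → K) (hφ : LinearIndependent k φ) (τ : K →ₐ[k] K) (s : K)
    (H : K →ₐ[k] PowerSeries K) (hH : LocRes.IsHasseFamily s H) (J : Fin n → ℕ)
    (hJ : IsOrders K (hcol τ H φ) J) (Φ : Place k K → (K →ₐ[k] LaurentSeries k))
    (hΦ : ∀ P : Place k K, LocRes.IsExpansionAt P.1 (Φ P)) :
    0 ≤ wDiv τ H Φ s φ J ∧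
      (wDiv τ H Φ s φ J).deg = ((Module.finrank τ.fieldRange K : ℤ) + n) * (mapDiv k φ).deg +
        (2 * (genus k K : ℤ) - 2) * ∑ l, (J l : ℤ) := by
  classical
  have hg := Groth.Agent.Lib.LeadMS.isGeometric_of_isAlgClosed k K
  constructor
  · -- nonnegativity, place by place
    intro P
    rw [Finsupp.coe_zero, Pi.zero_apply]
    obtain ⟨ε, hε⟩ := exists_isExpansionAt hK P
    obtain ⟨t, ht⟩ := hε.2.2
    have hd := hasseD_one_unif_ne_zero hK hH P ε hε ht
    obtain ⟨Ht, hHt, -⟩ := exists_hasse hH t hd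
    obtain ⟨i0, hi0ne, hi0max⟩ := exists_maxIdx φ P ⟨0, hφ.ne_zero 0⟩
    set y : K := (φ i0)⁻¹ with hydef
    have hy : y ≠ 0 := inv_ne_zero hi0ne
    set φ' : Fin (n + 1) → K := fun i => y * φ i with hφ'def
    have hφ'eq : φ' = y • φ := rfl
    have hnorm : ∀ i, P.1 (φ' i) ≤ 1 := by
      intro i
      show P.1 ((φ i0)⁻¹ * φ i) ≤ 1
      rw [map_mul, map_inv₀]
      have hne : P.1 (φ i0) ≠ 0 := (Valuation.ne_zero_iff _).mpr hi0ne
      rw [inv_mul_le_iff₀ (zero_lt_iff.mpr hne), mul_one]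
      exact hi0max i
    have hone : φ' i0 = 1 := inv_mul_cancel₀ hi0ne
    have hφ'li : LinearIndependent k φ' := by
      have := hφ.map' (LinearMap.mulLeft k y) (by
        rw [LinearMap.ker_eq_bot]
        intro a b hab
        exact mul_left_cancel₀ hy hab)
      exact this
    have hJt : IsOrders K (hcol τ Ht φ) J := ((orders_change hK hg hH hHt τ φ).1 J).mpr hJ
    have hJ' : IsOrders K (hcol τ Ht φ') J := by
      rw [hφ'eq]; exact ((orders_smul φ τ Ht hHt y hy).1 J).mpr hJt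
    have hinv : wDiv τ Ht Φ t φ' J = wDiv τ H Φ s φ J :=
      wDiv_invariant hK φ hφ τ hH hHt J hJ 1 (by simp) y hy φ'
        (fun i => by simp [hφ'def, Matrix.one_apply]) Φ hΦ
    rw [← hinv]
    have hW := wronskian_ne_zero hK φ' hφ'li τ hHt hJ'
    have h1 : mapDiv k φ' P = 0 :=
      mapDiv_at_zero hK φ' P hnorm ⟨i0, by rw [hone, map_one]⟩
    have h3 : divDiff Φ 1 t P = 0 := by
      rw [divDiff_apply hK hHt Φ hΦ P]
      unfold LocRes.ordDiff LocRes.vDiff
      rw [map_one, one_mul]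
      have hv : Valued.v (Φ P t) = exp (-(1 : ℤ)) := by rw [(hΦ P).1, ht]
      have := Groth.Agent.Lib.LeadMS.val_D_of_ne hv (by simp)
      rw [this]
      simp
    -- the first column
    have hτne : ∀ i, τ (φ' i) ≠ 0 := fun i h =>
      hφ'li.ne_zero i (τ.toRingHom.injective (by rw [map_zero]; exact h))
    set m : ℤ := Finset.univ.inf' Finset.univ_nonempty (fun i => P.ord ((τ ∘ φ') i)) with hm
    have h2 : mapDiv k (τ ∘ φ') P = -m := mapDiv_apply hK (τ ∘ φ') P
    obtain ⟨_, -, -, hint⟩ := hasse_at_place hK P ht hHt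
    have hdet : P.1 (wrMat τ Ht φ' J).det ≤ exp (-m) := by
      apply val_det_le P _ (exp (-m))
      · intro i
        show P.1 (τ (φ' i)) ≤ exp (-m)
        rw [val_eq_exp_neg_ord P (hτne i), exp_le_exp, neg_le_neg_iff, hm]
        exact Finset.inf'_le (fun i => P.ord ((τ ∘ φ') i)) (Finset.mem_univ i)
      · intro i j
        show P.1 (LocRes.hasseD Ht (J j) (φ' i)) ≤ 1
        obtain ⟨f, -, hf⟩ := hint (φ' i) (hnorm i)
        exact (hf (J j)).1
    rw [val_eq_exp_neg_ord P hW, exp_le_exp] at hdet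
    unfold wDiv
    simp only [Finsupp.coe_add, Finsupp.coe_smul, Pi.add_apply, Pi.smul_apply, smul_eq_mul]
    rw [h1, h2, h3, div_apply hK]
    simp only [mul_zero, add_zero]
    omega
  · -- the degree
    have hW := wronskian_ne_zero hK φ hφ τ hH hJ
    unfold wDiv
    rw [deg_add, deg_add, deg_add, deg_zsmul', deg_zsmul', deg_div hK,
      Groth.Agent.S11052.result k K hK τ φ hφ, (isCanonical_divDiff hK hH Φ hΦ).2]
    ring

end Groth.Agent.Lib.LeadTR
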