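import Mathlib
import Groth.Agent.Lib.LeadTR15
import Groth.Agent.Lib.LeadHS20
import Groth.Agent.Lib.LeadFF16

/-! Counting strong fixed points with the Weierstrass divisor (S12604). -/

set_option autoImplicit false

namespace Groth.Agent.Lib.LeadTR
open FunFld WithZero Groth.Agent.Lib.LeadFF Groth.Agent.Lib.LeadSV Groth.Agent.Lib.LeadHS
  Groth.Agent.Lib.LeadWD

universe u v

variable {k : Type u} {K : Type v} [Field k] [Field K] [Algebra k K]

theorem wDiv_at_strong_ge [IsAlgClosed k] (hK : IsFunctionField k K) {n : ℕ} (hn : 0 < n)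
    (φ : Fin (n + 1) → K) (hφ : LinearIndependent k φ) (τ : K →ₐ[k] K) (s : K)
    (H : K →ₐ[k] PowerSeries K) (hH : LocRes.IsHasseFamily s H) (J : Fin n → ℕ)
    (hJ : IsOrders K (hcol τ H φ) J) (Φ : Place k K → (K →ₐ[k] LaurentSeries k))
    (hΦ : ∀ P : Place k K, LocRes.IsExpansionAt P.1 (Φ P)) (P : Place k K)
    (hP : IsStrongFixedPt τ P) : (n : ℤ) ≤ wDiv τ H Φ s φ J P := by
  classical
  have hg := Groth.Agent.Lib.LeadMS.isGeometric_of_isAlgClosed k K
  obtain ⟨ε, hε⟩ := exists_isExpansionAt hK P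
  obtain ⟨t, ht⟩ := hε.2.2
  have hd := hasseD_one_unif_ne_zero hK hH P ε hε ht
  obtain ⟨Ht, hHt, -⟩ := exists_hasse hH t hd
  obtain ⟨i0, hi0ne, hi0max⟩ := exists_maxIdx φ P ⟨0, hφ.ne_zero 0⟩
  set y : K := (φ i0)⁻¹ with hydef
  have hy : y ≠ 0 := inv_ne_zero hi0ne
  set φ' : Fin (n + 1) → K := fun i => y * φ i with hφ'def
  have hφ'eq : φ' = y • φ := rfl
  have hnorm : ∀ i, P.1 (φ' i) ≤ 1 := by
    intro i
    show P.1 ((φ i0)⁻¹ * φ i) ≤ 1
    rw [map_mul, map_inv₀]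
    have hne : P.1 (φ i0) ≠ 0 := (Valuation.ne_zero_iff _).mpr hi0ne
    rw [inv_mul_le_iff₀ (zero_lt_iff.mpr hne), mul_one]
    exact hi0max i
  have hone : φ' i0 = 1 := inv_mul_cancel₀ hi0ne
  have hφ'li : LinearIndependent k φ' := by
    have := hφ.map' (LinearMap.mulLeft k y) (by
      rw [LinearMap.ker_eq_bot]
      intro a b hab
      exact mul_left_cancel₀ hy hab)
    exact this
  have hJt : IsOrders K (hcol τ Ht φ) J := ((orders_change hK hg hH hHt τ φ).1 J).mpr hJ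
  have hJ' : IsOrders K (hcol τ Ht φ') J := by
    rw [hφ'eq]; exact ((orders_smul φ τ Ht hHt y hy).1 J).mpr hJt
  have hinv : wDiv τ Ht Φ t φ' J = wDiv τ H Φ s φ J :=
    wDiv_invariant hK φ hφ τ hH hHt J hJ 1 (by simp) y hy φ'
      (fun i => by simp [hφ'def, Matrix.one_apply]) Φ hΦ
  rw [← hinv]
  have heff : (1 : K) ∈ Submodule.span k (Set.range φ') := by
    rw [← hone]; exact Submodule.subset_span ⟨i0, rfl⟩
  obtain ⟨J', hJ'at⟩ := exists_orders_at hK φ' hφ'li P hnorm ⟨i0, by rw [hone, map_one]⟩ ht hHt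
  have hfix := strong_fixed τ P hP
  have h1 := (wDiv_at_fixed_ge hK τ P hfix φ' hφ'li heff hnorm ht hHt J hJ' J' hJ'at Φ hΦ).1
  have h2 := strong_orders_le hK τ P hP hn φ' hφ'li heff hnorm ht hHt J hJ' J' hJ'at
  have h3 : 1 ≤ J' ⟨0, hn⟩ := orders_at_pos P φ' hHt hJ'at ⟨0, hn⟩
  refine le_trans ?_ h1
  have h4 : ∀ l : Fin n, (1 : ℤ) ≤ (J' l : ℤ) - J l := by
    intro l
    have := h2 l
    omega
  calc (n : ℤ) = ∑ _l : Fin n, (1 : ℤ) := by simp
    _ ≤ ∑ l, ((J' l : ℤ) - J l) := Finset.sum_le_sum fun l _ => h4 l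

theorem strong_fixed_bound [IsAlgClosed k] (hK : IsFunctionField k K) (τ : K →ₐ[k] K) {n : ℕ}
    (φ : Fin (n + 1) → K) (hφ : LinearIndependent k φ)
    (hτφ : ¬ ∃ y : K, ∀ i, τ (φ i) = y * φ i) (s : K)
    (H : K →ₐ[k] PowerSeries K) (hH : LocRes.IsHasseFamily s H) (J : Fin n → ℕ)
    (hJ : IsOrders K (hcol τ H φ) J) :
    {P : Place k K | IsStrongFixedPt τ P}.Finite ∧
      (n : ℤ) * (Set.ncard {P : Place k K | IsStrongFixedPt τ P} : ℤ) ≤
        ((n : ℤ) + Module.finrank τ.fieldRange K) * (mapDiv k φ).deg +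
          (2 * (genus k K : ℤ) - 2) * ∑ l, (J l : ℤ) := by
  classical
  rcases Nat.eq_zero_or_pos n with hn | hn
  · subst hn
    exfalso
    apply hτφ
    have h0 : φ 0 ≠ 0 := hφ.ne_zero 0
    refine ⟨τ (φ 0) / φ 0, fun i => ?_⟩
    have hi : i = 0 := by
      apply Fin.ext; have := i.2; simp only [Fin.val_zero]; omega
    rw [hi, div_mul_cancel₀ _ h0]
  obtain ⟨Φ, hΦ⟩ := exists_expansions hK
  obtain ⟨hW0, hWdeg⟩ := wDiv_nonneg_and_deg hK φ hφ τ s H hH J hJ Φ hΦ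
  set W := wDiv τ H Φ s φ J with hWdef
  have hge : ∀ P : Place k K, IsStrongFixedPt τ P → (n : ℤ) ≤ W P := fun P hP =>
    wDiv_at_strong_ge hK hn φ hφ τ s H hH J hJ Φ hΦ P hP
  have hsub : {P : Place k K | IsStrongFixedPt τ P} ⊆ (W.support : Set (Place k K)) := by
    intro P hP
    rw [Finset.mem_coe, Finsupp.mem_support_iff]
    have := hge P hP
    have hn' : (1 : ℤ) ≤ n := by exact_mod_cast hn
    intro h0
    rw [h0] at this
    omega
  have hfin : {P : Place k K | IsStrongFixedPt τ P}.Finite := W.support.finite_toSet.subset hsub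
  refine ⟨hfin, ?_⟩
  set T := hfin.toFinset with hT
  have hcard : Set.ncard {P : Place k K | IsStrongFixedPt τ P} = T.card :=
    Set.ncard_eq_toFinset_card _ hfin
  set E : Divisor k K := ∑ Q ∈ T, (Finsupp.single Q (1 : ℤ) : Divisor k K) with hE
  have hEdeg : E.deg = T.card :=
    deg_sum_single_one T fun Q _ => deg_eq_one_of_algClosed hK Q
  have hEapply : ∀ P : Place k K, E P = if P ∈ T then 1 else 0 := by
    intro P
    rw [hE, Finsupp.finset_sum_apply]
    simp only [Finsupp.single_apply]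
    rw [Finset.sum_ite_eq' T P]
  have hle : (n : ℤ) • E ≤ W := by
    intro P
    rw [Finsupp.smul_apply, hEapply P, smul_eq_mul]
    by_cases hPT : P ∈ T
    · rw [if_pos hPT, mul_one]
      exact hge P ((Set.Finite.mem_toFinset hfin).1 hPT)
    · rw [if_neg hPT, mul_zero]
      exact hW0 P
  have hdeg := deg_mono hle
  rw [deg_zsmul', hEdeg, hWdeg] at hdeg
  rw [hcard]
  linarith

end Groth.Agent.Lib.LeadTR
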