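import Groth.Agent.Lib.LeadWD11

/-! Classical orders in characteristic `0` or `> deg φ` (S12611): assembly. -/

namespace Groth.Agent.Lib.LeadWD

open FunFld WithZero Groth.Agent.Lib.LeadFF Groth.Agent.Lib.LeadSV Groth.Agent.Lib.LeadHS

universe u v
variable {k : Type u} {K : Type v} [Field k] [Field K] [Algebra k K]

lemma inv_of_char_K {N : ℤ} (hchar : ringChar k = 0 ∨ N < ringChar k)
    (a : ℕ) (h1 : 1 ≤ a) (ha : (a : ℤ) ≤ N) : ((a : ℕ) : K) ≠ 0 := by
  have := inv_of_char (k := k) hchar (N' := a) ha a h1 le_rfl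
  rw [← map_natCast (algebraMap k K), Ne, map_eq_zero_iff _ (algebraMap k K).injective]
  exact this

theorem orders_classical_id [IsAlgClosed k] (hK : IsFunctionField k K) {n : ℕ}
    (φ : Fin (n + 1) → K) (hφ : LinearIndependent k φ)
    (hchar : ringChar k = 0 ∨ (mapDiv k φ).deg < ringChar k) {s : K}
    {H : K →ₐ[k] PowerSeries K} (hH : LocRes.IsHasseFamily s H) :
    IsOrders K (hcol (AlgHom.id k K) H φ) (fun l : Fin n => (l : ℕ) + 1) := by
  classical
  have hg := Groth.Agent.Lib.LeadMS.isGeometric_of_isAlgClosed k K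
  obtain ⟨J, hJ, -⟩ := exists_orders_hasse hK φ hφ (AlgHom.id k K) hH
  obtain ⟨P⟩ := nonempty_place hK
  obtain ⟨t, Ht, φ', ht, hHt, hφ'li, heff, hnorm, hex, hdeg, hord⟩ :=
    exists_normalization hK φ hφ P hH
  have hJ'' := hord (AlgHom.id k K) J hJ
  obtain ⟨J', hJ'⟩ := exists_orders_at hK φ' hφ'li P hnorm hex ht hHt
  obtain ⟨Φ, hΦ⟩ := exists_expansions hK
  have hle := (orders_vs_at hK P φ' hφ'li heff hnorm ht hHt J hJ'' J' hJ' Φ hΦ).1
  have hbound : ∀ l, (J l : ℤ) ≤ (mapDiv k φ).deg := fun l => by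
    have h1 := orders_at_le_deg hK φ' hφ'li P hnorm hex ht hHt hJ' l
    rw [hdeg] at h1
    have h2 := hle l
    omega
  set N : ℕ := (mapDiv k φ).deg.toNat with hNdef
  have hN : ∀ l, J l ≤ N := fun l => by
    have := hbound l
    omega
  have hinv : ∀ i : ℕ, 1 ≤ i → i ≤ N → ((i : ℕ) : K) ≠ 0 := by
    intro i h1 hi
    apply inv_of_char_K hchar i h1
    omega
  let δ : Derivation k K K := hasseDer H hH.2
  have hδ : ∀ y, δ y = LocRes.hasseD H 1 y := fun y => rfl
  have key := orders_classical (R := K) (V := Fin (n + 1) → K)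
    ((δ : K →+ K).compLeft (Fin (n + 1))) (fun f => δ f)
    (by
      intro f v
      funext i
      show δ (f * v i) = δ f * v i + f * δ (v i)
      rw [Derivation.leibniz, smul_eq_mul, smul_eq_mul]
      ring)
    (hcol (AlgHom.id k K) H φ)
    (by rw [hcol_one _ H hH, hcol_zero]; rfl)
    (by
      intro i
      funext l
      show δ (LocRes.hasseD H i (φ l)) = ((i + 1 : ℕ) : K) * LocRes.hasseD H (i + 1) (φ l)
      rw [hδ, hasseD_hasseD hK hg hH 1 i, Nat.add_comm 1 i, Nat.choose_succ_self_right])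
    hJ (fun l => orders_pos_of_id φ hH hJ l) N hN hinv
  have : J = fun l : Fin n => (l : ℕ) + 1 := funext key
  rw [← this]
  exact hJ

theorem orders_classical_tau [IsAlgClosed k] (hK : IsFunctionField k K) {n : ℕ}
    (φ : Fin (n + 1) → K) (hφ : LinearIndependent k φ)
    (hchar : ringChar k = 0 ∨ (mapDiv k φ).deg < ringChar k) (τ : K →ₐ[k] K) {s : K}
    {H : K →ₐ[k] PowerSeries K} (hH : LocRes.IsHasseFamily s H) (P : Place k K)
    (hP : IsStrongFixedPt τ P) :
    IsOrders K (hcol τ H φ) (fun l : Fin n => (l : ℕ)) := by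
  classical
  obtain ⟨J, hJ, -⟩ := exists_orders_hasse hK φ hφ τ hH
  obtain ⟨t, Ht, φ', ht, hHt, hφ'li, heff, hnorm, hex, hdeg, hord⟩ :=
    exists_normalization hK φ hφ P hH
  have hJ'' := hord τ J hJ
  obtain ⟨J', hJ'⟩ := exists_orders_at hK φ' hφ'li P hnorm hex ht hHt
  have hfix : IsFixedPt τ P := by
    intro z hz
    refine lt_of_le_of_lt (hP z hz) ?_
    rw [← exp_zero, exp_lt_exp]; omega
  have hbound : ∀ l, (J' l : ℤ) ≤ (mapDiv k φ).deg := fun l => by
    have h1 := orders_at_le_deg hK φ' hφ'li P hnorm hex ht hHt hJ' l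
    rwa [hdeg] at h1
  set N : ℕ := (mapDiv k φ).deg.toNat with hNdef
  have hN : ∀ l, J' l ≤ N := fun l => by
    have := hbound l
    omega
  have hinv : ∀ a : ℕ, 1 ≤ a → a ≤ N → ((a : ℕ) : k) ≠ 0 := by
    intro a h1 ha
    exact inv_of_char hchar (N' := a) (by omega) a h1 le_rfl
  have hbin := binomMat_id_det_ne_zero k J' hJ'.1 N hN hinv
  obtain ⟨-, hwo⟩ := wronskian_order hK τ P hfix φ' hφ'li heff hnorm ht hHt J' hJ'
    (fun l : Fin n => (l : ℕ))
  have hdet1 := (hwo (Or.inr hP)).mpr hbin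
  have hdet : (wrMat τ Ht φ' (fun l : Fin n => (l : ℕ))).det ≠ 0 := by
    intro h
    rw [h, map_zero] at hdet1
    exact exp_ne_zero hdet1.symm
  have hle := orders_le_of_det_ne_zero φ' τ Ht J hJ'' (fun l : Fin n => (l : ℕ))
    (fun a b hab => hab) hdet
  have hge : ∀ m : ℕ, ∀ l : Fin n, (l : ℕ) = m → m ≤ J l := by
    intro m
    induction m with
    | zero => intro l _; exact Nat.zero_le _
    | succ m ih =>
      intro l hl
      have hlt : (⟨m, by omega⟩ : Fin n) < l := by rw [Fin.lt_def]; simp; omega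
      have h1 := hJ.1 hlt
      have h2 := ih ⟨m, by omega⟩ rfl
      omega
  have : J = fun l : Fin n => (l : ℕ) := funext fun l => le_antisymm (hle l) (hge l l rfl)
  rw [← this]
  exact hJ

end Groth.Agent.Lib.LeadWD
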