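import Mathlib
import Groth.Agent.Lib.LeadTR16
import Groth.Agent.Lib.LeadWD12
import Groth.Agent.Lib.LeadHS17
import Groth.Agent.Lib.LeadHS12
import Groth.Agent.Lib.LeadFF23

/-! Weierstrass points of the canonical map: the local weight (towards S12618). -/

set_option autoImplicit false

namespace Groth.Agent.Lib.LeadWP
open FunFld WithZero Groth.Agent.Lib.LeadFF Groth.Agent.Lib.LeadSV Groth.Agent.Lib.LeadHS
  Groth.Agent.Lib.LeadWD Groth.Agent.Lib.LeadTR

universe u v

variable {k : Type u} {K : Type v} [Field k] [Field K] [Algebra k K]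

variable (k) in
theorem binomMat_succ_det_ne_zero {n : ℕ} (J' : Fin n → ℕ) (hJ' : StrictMono J')
    (hpos : ∀ l, 1 ≤ J' l) (N : ℕ)
    (hle : ∀ l, J' l ≤ N) (hinv : ∀ a : ℕ, 1 ≤ a → a ≤ N → ((a : ℕ) : k) ≠ 0) :
    (binomMat k J' (fun l : Fin n => (l : ℕ) + 1)).det ≠ 0 := by
  classical
  set v' : Fin n → ℕ := fun l => J' l - 1 with hv'
  have hv'mono : StrictMono v' := by
    intro a b hab
    have := hJ' hab
    have h1 := hpos a
    show J' a - 1 < J' b - 1
    omega
  have hM' := binomMat_id_det_ne_zero k v' hv'mono N (fun l => by have := hle l; show J' l - 1 ≤ N; omega) hinv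
  have hmul : binomMat k J' (fun l : Fin n => (l : ℕ) + 1) *
      Matrix.diagonal (fun s : Fin n => (((s : ℕ) + 1 : ℕ) : k)) =
      Matrix.diagonal (fun r : Fin n => ((J' r : ℕ) : k)) * binomMat k v' (fun l : Fin n => (l : ℕ)) := by
    ext r s
    rw [Matrix.mul_diagonal, Matrix.diagonal_mul]
    simp only [binomMat, Matrix.of_apply]
    have h1 := hpos r
    have h2 := Nat.add_one_mul_choose_eq (J' r - 1) (s : ℕ)
    have e : J' r - 1 + 1 = J' r := by omega
    rw [e] at h2
    rw [← Nat.cast_mul, ← Nat.cast_mul, h2]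
  have hdet := congrArg Matrix.det hmul
  rw [Matrix.det_mul, Matrix.det_mul, Matrix.det_diagonal, Matrix.det_diagonal] at hdet
  intro h0
  rw [h0, zero_mul] at hdet
  have h3 : (∏ r : Fin n, ((J' r : ℕ) : k)) ≠ 0 :=
    Finset.prod_ne_zero_iff.mpr fun r _ => hinv (J' r) (hpos r) (hle r)
  exact (mul_ne_zero h3 hM') hdet.symm

section Canon
variable [IsAlgClosed k] (hK : IsFunctionField k K) (hg : 0 < genus k K)
  (C : Divisor k K) (hC : IsCanonical k K C) {n : ℕ} (φ : Fin (n + 1) → K)
  (hφ : LinearIndependent k φ) (hspan : Submodule.span k (Set.range φ) = L C)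

include hK hC hφ hspan in
lemma genus_eq_succ : genus k K = n + 1 := by
  obtain ⟨hellC, -⟩ := canonical_ell_deg hK hC
  have h1 : ell C = n + 1 := by
    unfold ell
    rw [← hspan, finrank_span_eq_card hφ, Fintype.card_fin]
  rw [h1] at hellC
  exact_mod_cast hellC.symm

include hK hg hC hφ hspan in
lemma canonical_mapDiv : mapDiv k φ = C := by
  apply mapDiv_eq_of_span hK C φ hφ.ne_zero hspan
  intro R
  have hR : R.deg = 1 := deg_eq_one_of_algClosed hK R
  have h1 := ell_sub_single_lt hK hg C (Or.inr hC) R hR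
  have h2 := (exists_exact_iff hK C R (m := 0) le_rfl).mpr (by
    simpa using h1)
  simpa using h2

include hK hg hC hφ hspan in
lemma canonical_mapDiv_deg : (mapDiv k φ).deg = 2 * (genus k K : ℤ) - 2 := by
  rw [canonical_mapDiv hK hg C hC φ hφ hspan]
  exact (canonical_ell_deg hK hC).2

include hK hg hC hφ hspan in
theorem canonical_orders_classical
    (hchar : ringChar k = 0 ∨ 2 * genus k K - 2 < ringChar k) {s : K}
    {H : K →ₐ[k] PowerSeries K} (hH : LocRes.IsHasseFamily s H) (J : Fin n → ℕ)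
    (hJ : IsOrders K (hcol (AlgHom.id k K) H φ) J) : J = fun l : Fin n => (l : ℕ) + 1 := by
  have hdeg := canonical_mapDiv_deg hK hg C hC φ hφ hspan
  have hchar' : ringChar k = 0 ∨ (mapDiv k φ).deg < ringChar k := by
    rcases hchar with h | h
    · exact Or.inl h
    · right; rw [hdeg]; omega
  exact isOrders_unique hJ (orders_classical_id hK φ hφ hchar' hH)

end Canon

end Groth.Agent.Lib.LeadWP
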