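import Mathlib
import Groth.Agent.Lib.LeadWP1

/-! Weierstrass points of the canonical map: the local weight in terms of gaps. -/

set_option autoImplicit false

namespace Groth.Agent.Lib.LeadWP
open FunFld WithZero Groth.Agent.Lib.LeadFF Groth.Agent.Lib.LeadSV Groth.Agent.Lib.LeadHS
  Groth.Agent.Lib.LeadWD Groth.Agent.Lib.LeadTR

universe u v

variable {k : Type u} {K : Type v} [Field k] [Field K] [Algebra k K]

/-- `J'` enumerates the `j ≥ 1` such that `j + 1` is a gap at `P`. -/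
def IsGapSeq (P : Place k K) {n : ℕ} (J' : Fin n → ℕ) : Prop :=
  StrictMono J' ∧ ∀ j : ℕ, j ∈ Set.range J' ↔ 1 ≤ j ∧ IsGap P (j + 1)

lemma isGapSeq_unique {P : Place k K} {n : ℕ} {J' J'' : Fin n → ℕ} (h : IsGapSeq P J')
    (h' : IsGapSeq P J'') : J' = J'' := by
  apply (StrictMono.range_inj h.1 h'.1).mp
  ext j
  rw [h.2, h'.2]

theorem weight_at [IsAlgClosed k] (hK : IsFunctionField k K) (hg : 0 < genus k K)
    (hchar : ringChar k = 0 ∨ 2 * genus k K - 2 < ringChar k)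
    (C : Divisor k K) (hC : IsCanonical k K C) {n : ℕ} (φ : Fin (n + 1) → K)
    (hφ : LinearIndependent k φ) (hspan : Submodule.span k (Set.range φ) = L C) (s : K)
    (H : K →ₐ[k] PowerSeries K) (hH : LocRes.IsHasseFamily s H) (J : Fin n → ℕ)
    (hJ : IsOrders K (hcol (AlgHom.id k K) H φ) J) (Φ : Place k K → (K →ₐ[k] LaurentSeries k))
    (hΦ : ∀ P : Place k K, LocRes.IsExpansionAt P.1 (Φ P)) (P : Place k K) :
    ∃ J' : Fin n → ℕ, IsGapSeq P J' ∧
      wDiv (AlgHom.id k K) H Φ s φ J P = ∑ l : Fin n, ((J' l : ℤ) - ((l : ℕ) + 1)) := by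
  classical
  have hgeo := Groth.Agent.Lib.LeadMS.isGeometric_of_isAlgClosed k K
  have hJeq := canonical_orders_classical hK hg C hC φ hφ hspan hchar hH J hJ
  obtain ⟨ε, hε⟩ := exists_isExpansionAt hK P
  obtain ⟨t, ht⟩ := hε.2.2
  have hd := hasseD_one_unif_ne_zero hK hH P ε hε ht
  obtain ⟨Ht, hHt, -⟩ := exists_hasse hH t hd
  obtain ⟨i0, hi0ne, hi0max⟩ := exists_maxIdx φ P ⟨0, hφ.ne_zero 0⟩
  set y : K := (φ i0)⁻¹ with hydef
  have hy : y ≠ 0 := inv_ne_zero hi0ne
  set φ' : Fin (n + 1) → K := fun i => y * φ i with hφ'def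
  have hφ'eq : φ' = y • φ := rfl
  have hnorm : ∀ i, P.1 (φ' i) ≤ 1 := by
    intro i
    show P.1 ((φ i0)⁻¹ * φ i) ≤ 1
    rw [map_mul, map_inv₀]
    have hne : P.1 (φ i0) ≠ 0 := (Valuation.ne_zero_iff _).mpr hi0ne
    rw [inv_mul_le_iff₀ (zero_lt_iff.mpr hne), mul_one]
    exact hi0max i
  have hone : φ' i0 = 1 := inv_mul_cancel₀ hi0ne
  have hφ'li : LinearIndependent k φ' := by
    have := hφ.map' (LinearMap.mulLeft k y) (by
      rw [LinearMap.ker_eq_bot]
      intro a b hab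
      exact mul_left_cancel₀ hy hab)
    exact this
  have hJt : IsOrders K (hcol (AlgHom.id k K) Ht φ) J :=
    ((orders_change hK hgeo hH hHt (AlgHom.id k K) φ).1 J).mpr hJ
  have hJ' : IsOrders K (hcol (AlgHom.id k K) Ht φ') J := by
    rw [hφ'eq]; exact ((orders_smul φ (AlgHom.id k K) Ht hHt y hy).1 J).mpr hJt
  have hinv : wDiv (AlgHom.id k K) Ht Φ t φ' J = wDiv (AlgHom.id k K) H Φ s φ J :=
    wDiv_invariant hK φ hφ (AlgHom.id k K) hH hHt J hJ 1 (by simp) y hy φ'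
      (fun i => by simp [hφ'def, Matrix.one_apply]) Φ hΦ
  rw [← hinv]
  have heff : (1 : K) ∈ Submodule.span k (Set.range φ') := by
    rw [← hone]; exact Submodule.subset_span ⟨i0, rfl⟩
  have hex : ∃ i, P.1 (φ' i) = 1 := ⟨i0, by rw [hone, map_one]⟩
  obtain ⟨J', hJ'at⟩ := exists_orders_at hK φ' hφ'li P hnorm hex ht hHt
  have hid : IsFixedPt (AlgHom.id k K) P := fun z hz => hz
  have hwd := (wDiv_at_fixed_ge hK (AlgHom.id k K) P hid φ' hφ'li heff hnorm ht hHt J hJ' J' hJ'at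
    Φ hΦ).2 (Or.inl rfl)
  have hdeg' : (mapDiv k φ').deg = 2 * (genus k K : ℤ) - 2 := by
    rw [show φ' = fun i => y * φ i from rfl, mapDiv_mul hK φ hφ.ne_zero hy, deg_sub, deg_div hK,
      sub_zero]
    exact canonical_mapDiv_deg hK hg C hC φ hφ hspan
  set N : ℕ := 2 * genus k K - 2 with hN
  have hle : ∀ l, J' l ≤ N := by
    intro l
    have := orders_at_le_deg hK φ' hφ'li P hnorm hex ht hHt hJ'at l
    rw [hdeg'] at this
    omega
  have hinvk : ∀ a : ℕ, 1 ≤ a → a ≤ N → ((a : ℕ) : k) ≠ 0 := by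
    intro a h1 ha
    refine inv_of_char (N := (N : ℤ)) ?_ le_rfl a h1 ha
    rcases hchar with h | h
    · exact Or.inl h
    · right; exact_mod_cast h
  have hpos : ∀ l, 1 ≤ J' l := fun l => orders_at_pos P φ' hHt hJ'at l
  have hbin := binomMat_succ_det_ne_zero k J' hJ'at.1 hpos N hle hinvk
  refine ⟨J', ⟨hJ'at.1, fun j => ?_⟩, ?_⟩
  · rw [hJ'at.2 j]
    constructor
    · intro hj
      have hj1 : 1 ≤ j := by
        obtain ⟨l, hl⟩ := (hJ'at.2 j).mpr hj
        rw [← hl]; exact hpos l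
      refine ⟨hj1, ?_⟩
      have := (canonical_jump_iff hK C hC φ hφ hspan P y hy heff hnorm ht hHt hj1).mp hj
      unfold IsGap
      push_cast
      rw [add_sub_cancel_right]
      exact this
    · rintro ⟨hj1, hgap⟩
      apply (canonical_jump_iff hK C hC φ hφ hspan P y hy heff hnorm ht hHt hj1).mpr
      unfold IsGap at hgap
      push_cast at hgap
      rw [add_sub_cancel_right] at hgap
      exact hgap
  · subst hJeq
    rw [hwd.mpr hbin]
    apply Finset.sum_congr rfl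
    intro l _
    push_cast
    ring

end Groth.Agent.Lib.LeadWP
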