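import Mathlib
import Groth.Agent.Lib.LeadWP2

/-! Weierstrass points of the canonical map: the weight bound and the count. -/

set_option autoImplicit false

namespace Groth.Agent.Lib.LeadWP
open FunFld WithZero Groth.Agent.Lib.LeadFF Groth.Agent.Lib.LeadSV Groth.Agent.Lib.LeadHS
  Groth.Agent.Lib.LeadWD Groth.Agent.Lib.LeadTR

universe u v

variable {k : Type u} {K : Type v} [Field k] [Field K] [Algebra k K]

lemma gapSeq_le (P : Place k K) {n : ℕ} (J' : Fin n → ℕ) (hJ' : IsGapSeq P J') (l : Fin n) :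
    J' l ≤ 2 * ((l : ℕ) + 1) := by
  classical
  have hgap : IsGap P (J' l + 1) := ((hJ'.2 (J' l)).mp ⟨l, rfl⟩).2
  have h1 := gap_half P (J' l + 1) (by omega) hgap
  rw [Nat.add_sub_cancel] at h1
  have hsub : gapsLE P (J' l) ⊆
      insert 1 ((Finset.univ.filter (fun l' : Fin n => l' < l)).image (fun l' => J' l' + 1)) := by
    intro m hm
    simp only [gapsLE, Finset.mem_filter, Finset.mem_Icc] at hm
    obtain ⟨⟨hm1, hm2⟩, hmg⟩ := hm
    rw [Finset.mem_insert]
    rcases Nat.eq_or_lt_of_le hm1 with h | h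
    · left; exact h.symm
    · right
      obtain ⟨j, rfl⟩ : ∃ j, m = j + 1 := ⟨m - 1, by omega⟩
      have hj1 : 1 ≤ j := by omega
      obtain ⟨l', hl'⟩ := (hJ'.2 j).mpr ⟨hj1, hmg⟩
      rw [Finset.mem_image]
      refine ⟨l', ?_, by rw [hl']⟩
      rw [Finset.mem_filter]
      refine ⟨Finset.mem_univ _, ?_⟩
      rw [← hJ'.1.lt_iff_lt, hl']
      omega
  have h2 := Finset.card_le_card hsub
  have h3 : (insert 1 ((Finset.univ.filter (fun l' : Fin n => l' < l)).image
      (fun l' => J' l' + 1))).card ≤ (l : ℕ) + 1 := by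
    refine (Finset.card_insert_le _ _).trans ?_
    have := (Finset.card_image_le (s := Finset.univ.filter (fun l' : Fin n => l' < l))
      (f := fun l' => J' l' + 1))
    have h4 : (Finset.univ.filter (fun l' : Fin n => l' < l)).card = (l : ℕ) := by
      have e : Finset.univ.filter (fun l' : Fin n => l' < l) = Finset.Iio l := by
        ext x; simp
      rw [e, Fin.card_Iio]
    omega
  omega

lemma two_mul_sum_succ (n : ℕ) : 2 * ∑ l : Fin n, (((l : ℕ) : ℤ) + 1) = (n : ℤ) * (n + 1) := by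
  induction n with
  | zero => simp
  | succ n ih =>
    rw [Fin.sum_univ_castSucc, mul_add]
    simp only [Fin.val_castSucc, Fin.val_last]
    rw [ih]
    push_cast
    ring

theorem weight_le (P : Place k K) {n : ℕ} (J' : Fin n → ℕ) (hJ' : IsGapSeq P J') :
    2 * ∑ l : Fin n, ((J' l : ℤ) - ((l : ℕ) + 1)) ≤ (n : ℤ) * (n + 1) ∧
      (2 * ∑ l : Fin n, ((J' l : ℤ) - ((l : ℕ) + 1)) = (n : ℤ) * (n + 1) →
        ∀ l : Fin n, J' l = 2 * ((l : ℕ) + 1)) := by
  have hterm : ∀ l : Fin n, (J' l : ℤ) - ((l : ℕ) + 1) ≤ ((l : ℕ) : ℤ) + 1 := by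
    intro l
    have := gapSeq_le P J' hJ' l
    have h2 : (J' l : ℤ) ≤ 2 * (((l : ℕ) : ℤ) + 1) := by exact_mod_cast this
    linarith
  have hsum : ∑ l : Fin n, ((J' l : ℤ) - ((l : ℕ) + 1)) ≤ ∑ l : Fin n, (((l : ℕ) : ℤ) + 1) :=
    Finset.sum_le_sum fun l _ => hterm l
  have h2 := two_mul_sum_succ n
  constructor
  · linarith
  · intro heq
    have hEq : ∑ l : Fin n, ((J' l : ℤ) - ((l : ℕ) + 1)) = ∑ l : Fin n, (((l : ℕ) : ℤ) + 1) := by
      linarith
    have := (Finset.sum_eq_sum_iff_of_le (fun l _ => hterm l)).mp hEq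
    intro l
    have h3 := this l (Finset.mem_univ l)
    have h4 : (J' l : ℤ) = 2 * (((l : ℕ) : ℤ) + 1) := by linarith
    exact_mod_cast h4

lemma finrank_id_fieldRange : Module.finrank (AlgHom.id k K).fieldRange K = 1 := by
  have h : (AlgHom.id k K).fieldRange = ⊤ :=
    AlgHom.fieldRange_eq_top.mpr Function.surjective_id
  rw [h]
  exact IntermediateField.finrank_top

theorem weierstrass_count [IsAlgClosed k] (hK : IsFunctionField k K) (hg : 1 < genus k K)
    (hchar : ringChar k = 0 ∨ 2 * genus k K - 2 < ringChar k)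
    (C : Divisor k K) (hC : IsCanonical k K C) {n : ℕ} (φ : Fin (n + 1) → K)
    (hφ : LinearIndependent k φ) (hspan : Submodule.span k (Set.range φ) = L C) (s : K)
    (H : K →ₐ[k] PowerSeries K) (hH : LocRes.IsHasseFamily s H) (J : Fin n → ℕ)
    (hJ : IsOrders K (hcol (AlgHom.id k K) H φ) J) (Φ : Place k K → (K →ₐ[k] LaurentSeries k))
    (hΦ : ∀ P : Place k K, LocRes.IsExpansionAt P.1 (Φ P)) :
    2 * genus k K + 2 ≤ (wDiv (AlgHom.id k K) H Φ s φ J).support.card ∧
      ((wDiv (AlgHom.id k K) H Φ s φ J).support.card = 2 * genus k K + 2 →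
        ∀ P ∈ (wDiv (AlgHom.id k K) H Φ s φ J).support,
          ∀ J' : Fin n → ℕ, IsGapSeq P J' → ∀ l : Fin n, J' l = 2 * ((l : ℕ) + 1)) := by
  classical
  have hg0 : 0 < genus k K := by omega
  have hgn := genus_eq_succ hK C hC φ hφ hspan
  have hn : 1 ≤ n := by omega
  have hJeq := canonical_orders_classical hK hg0 C hC φ hφ hspan hchar hH J hJ
  obtain ⟨-, hWdeg⟩ := wDiv_nonneg_and_deg hK φ hφ (AlgHom.id k K) s H hH J hJ Φ hΦ
  rw [finrank_id_fieldRange, canonical_mapDiv_deg hK hg0 C hC φ hφ hspan, hgn] at hWdeg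
  set W := wDiv (AlgHom.id k K) H Φ s φ J with hW
  have hwt : ∀ P : Place k K, ∃ J' : Fin n → ℕ, IsGapSeq P J' ∧
      W P = ∑ l : Fin n, ((J' l : ℤ) - ((l : ℕ) + 1)) := fun P =>
    weight_at hK hg0 hchar C hC φ hφ hspan s H hH J hJ Φ hΦ P
  have hle : ∀ P : Place k K, 2 * W P ≤ (n : ℤ) * (n + 1) := by
    intro P
    obtain ⟨J', hJ', hWP⟩ := hwt P
    rw [hWP]
    exact (weight_le P J' hJ').1
  have hdeg : W.deg = ∑ P ∈ W.support, W P := by
    unfold Divisor.deg Finsupp.sum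
    apply Finset.sum_congr rfl
    intro P _
    show W P * (P.deg : ℤ) = W P
    rw [deg_eq_one_of_algClosed hK P]
    simp
  have hsumJ : 2 * ∑ l : Fin n, (J l : ℤ) = (n : ℤ) * (n + 1) := by
    rw [hJeq, ← two_mul_sum_succ n]
    push_cast
    rfl
  have hdeg2 : 2 * W.deg = (2 * ((n : ℤ) + 2)) * ((n : ℤ) * (n + 1)) := by
    rw [hWdeg]
    push_cast
    have : (2 * (((n : ℤ) + 1)) - 2) * ∑ l : Fin n, (J l : ℤ) = (n : ℤ) * ((n : ℤ) * (n + 1)) := by
      rw [← hsumJ]; ring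
    linear_combination 2 * this
  have hsumle : 2 * W.deg ≤ (W.support.card : ℤ) * ((n : ℤ) * (n + 1)) := by
    rw [hdeg, Finset.mul_sum]
    calc ∑ P ∈ W.support, 2 * W P ≤ ∑ _P ∈ W.support, (n : ℤ) * (n + 1) :=
          Finset.sum_le_sum fun P _ => hle P
      _ = _ := by rw [Finset.sum_const, nsmul_eq_mul]
  have hpos : (0 : ℤ) < (n : ℤ) * (n + 1) := by positivity
  rw [hdeg2] at hsumle
  have hcard : 2 * ((n : ℤ) + 2) ≤ (W.support.card : ℤ) := le_of_mul_le_mul_right hsumle hpos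
  constructor
  · rw [hgn]
    have : (2 * (n + 1) + 2 : ℕ) = 2 * (n + 2) := by ring
    omega
  · intro hcardeq P hP J' hJ'
    obtain ⟨J'', hJ'', hWP⟩ := hwt P
    have hJJ := isGapSeq_unique hJ' hJ''
    subst hJJ
    apply (weight_le P J' hJ').2
    rw [← hWP]
    -- equality in the sum
    have hEq : ∑ P ∈ W.support, 2 * W P = ∑ _P ∈ W.support, (n : ℤ) * (n + 1) := by
      rw [Finset.sum_const, nsmul_eq_mul, ← Finset.mul_sum, ← hdeg, hdeg2, hcardeq, hgn]
      push_cast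
      ring
    exact (Finset.sum_eq_sum_iff_of_le (fun P _ => hle P)).mp hEq P hP

end Groth.Agent.Lib.LeadWP
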