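import Mathlib
import Groth.Agent.Lib.LeadWP3

/-! Hyperelliptic structure: places where `2` is a non-gap are ramification points of any
function with pole divisor `2P₀`. -/

set_option autoImplicit false

namespace Groth.Agent.Lib.LeadWP
open FunFld WithZero Groth.Agent.Lib.LeadFF Groth.Agent.Lib.LeadSV Groth.Agent.Lib.LeadHS
  Groth.Agent.Lib.LeadWD Groth.Agent.Lib.LeadTR

universe u v

variable {k : Type u} {K : Type v} [Field k] [Field K] [Algebra k K]

lemma val_aeval_le_one (P : Place k K) {x : K} (hx : P.1 x ≤ 1) (q : Polynomial k) :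
    P.1 (Polynomial.aeval x q) ≤ 1 := by
  rw [Polynomial.aeval_eq_sum_range]
  apply Valuation.map_sum_le
  intro i _
  rw [Algebra.smul_def, map_mul, map_pow]
  calc P.1 (algebraMap k K (q.coeff i)) * P.1 x ^ i ≤ 1 * 1 :=
        mul_le_mul' (P.2.1 _) (pow_le_one' hx i)
    _ = 1 := one_mul _

lemma not_mem_range_of_pole (P : Place k K) {x : K} (hx : 1 < P.1 x) :
    x ∉ Set.range (algebraMap k K) := by
  rintro ⟨c, rfl⟩
  exact absurd hx (not_lt.mpr (P.2.1 c))

section H1
variable (hK : IsFunctionField k K) (C : Divisor k K) (hC : IsCanonical k K C) {n : ℕ}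
  (hgn : genus k K = n + 1) (P : Place k K) (hP : P.deg = 1) {x : K}
  (hx1 : P.1 x = exp (2 : ℤ)) (hx2 : ∀ Q : Place k K, Q ≠ P → Q.1 x ≤ 1)

include hx1 hx2 in
lemma pow_mem_L (i : ℕ) (hi : i ≤ n) : x ^ i ∈ L (Finsupp.single P (2 * (n : ℤ)) : Divisor k K) := by
  rw [mem_L_single]
  constructor
  · rw [map_pow, hx1, ← exp_nsmul, exp_le_exp]
    simp only [nsmul_eq_mul]
    have : (i : ℤ) ≤ n := by exact_mod_cast hi
    linarith
  · intro Q hQ
    rw [map_pow]
    exact pow_le_one' (hx2 Q hQ) i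

include hK hx1 in
lemma pow_linearIndependent : LinearIndependent k (fun i : Fin (n + 1) => x ^ (i : ℕ)) := by
  have hlt : (1 : WithZero (Multiplicative ℤ)) < P.1 x := by
    rw [hx1, ← exp_zero, exp_lt_exp]; norm_num
  exact linearIndependent_pow_K (transcendental_of_not_mem hK (not_mem_range_of_pole P hlt)) n

include hK hC hgn hP hx1 hx2 in
theorem canonical_multiple :
    (∃ f : K, f ≠ 0 ∧ FunFld.div k f = Finsupp.single P (2 * (n : ℤ)) - C) ∧
      Submodule.span k (Set.range fun i : Fin (n + 1) => x ^ (i : ℕ)) =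
        L (Finsupp.single P (2 * (n : ℤ)) : Divisor k K) := by
  classical
  set D : Divisor k K := Finsupp.single P (2 * (n : ℤ)) with hD
  have hli := pow_linearIndependent hK P hx1 (n := n)
  have hle : Submodule.span k (Set.range fun i : Fin (n + 1) => x ^ (i : ℕ)) ≤ L D := by
    rw [Submodule.span_le]
    rintro _ ⟨i, rfl⟩
    exact pow_mem_L P hx1 hx2 i (by have := i.2; omega)
  haveI := L_finite hK D
  have hfr : Module.finrank k (Submodule.span k (Set.range fun i : Fin (n + 1) => x ^ (i : ℕ))) =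
      n + 1 := by
    rw [finrank_span_eq_card hli, Fintype.card_fin]
  have hge : n + 1 ≤ ell D := by
    unfold ell
    rw [← hfr]
    exact Submodule.finrank_mono hle
  have hrr := riemann_roch hK C hC D
  obtain ⟨-, hCdeg⟩ := canonical_ell_deg hK hC
  have hDdeg : D.deg = 2 * (n : ℤ) := by rw [hD, deg_single, hP]; simp
  rw [hDdeg, hgn] at hrr
  push_cast at hrr
  have hpos : 0 < ell (C - D) := by
    have : (n : ℤ) + 1 ≤ ell D := by exact_mod_cast hge
    have : (0 : ℤ) < ell (C - D) := by linarith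
    exact_mod_cast this
  haveI := L_finite hK (C - D)
  obtain ⟨⟨z, hzL⟩, hz0⟩ := Module.finrank_pos_iff_exists_ne_zero.mp hpos
  have hz : z ≠ 0 := fun h => hz0 (Subtype.ext h)
  have h5 := neg_le_div_of_mem_L hK hzL hz
  have h6 : -(C - D) = FunFld.div k z := by
    apply eq_of_le_of_deg_eq hK h5
    rw [deg_neg, deg_sub, deg_div hK, hCdeg, hDdeg, hgn]; push_cast; ring
  have hdivz : FunFld.div k z = D - C := by rw [← h6]; abel
  refine ⟨⟨z, hz, hdivz⟩, ?_⟩
  -- ℓ(C - D) = 1
  have hell1 : ell (C - D) = 1 := by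
    have h7 := ell_add_div hK (C - D) hz
    rw [hdivz] at h7
    have e : C - D + (D - C) = 0 := by abel
    rw [e, ell_zero hK] at h7
    exact h7.symm
  rw [hell1] at hrr
  have hellD : ell D = n + 1 := by
    have : (ell D : ℤ) = n + 1 := by push_cast at hrr ⊢; linarith
    exact_mod_cast this
  apply Submodule.eq_of_le_of_finrank_eq hle
  rw [hfr]
  exact hellD.symm

end H1

/-- Ramification: if `2` is a non-gap at `P₀` and at `Q ≠ P₀` (genus at least two), then the
degree two function with pole at `P₀` takes some value `a` exactly at `Q`. -/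
theorem ramified_of_nongap [IsAlgClosed k] (hK : IsFunctionField k K) (C : Divisor k K)
    (hC : IsCanonical k K C) {n : ℕ} (hn : 1 ≤ n) (hgn : genus k K = n + 1) (P₀ Q : Place k K)
    (hne : Q ≠ P₀) {x₀ : K} (hx1 : P₀.1 x₀ = exp (2 : ℤ))
    (hx2 : ∀ R : Place k K, R ≠ P₀ → R.1 x₀ ≤ 1) (hQ : ¬ IsGap Q 2) :
    ∃ a : k, Q.1 (x₀ - algebraMap k K a) < 1 ∧
      ∀ R : Place k K, R ≠ Q → R ≠ P₀ → R.1 (x₀ - algebraMap k K a) = 1 := by
  classical
  have hP₀ := deg_eq_one_of_algClosed hK P₀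
  have hQd := deg_eq_one_of_algClosed hK Q
  rw [not_isGap_iff] at hQ
  obtain ⟨xQ, hxQ1, hxQ2⟩ := hQ
  obtain ⟨⟨f₀, hf₀, hdiv₀⟩, hspan⟩ := canonical_multiple hK C hC hgn P₀ hP₀ hx1 hx2
  obtain ⟨⟨fQ, hfQ, hdivQ⟩, -⟩ := canonical_multiple hK C hC hgn Q hQd
    (by rw [hxQ1]; rfl) hxQ2
  set h : K := fQ * f₀⁻¹ with hh
  have hh0 : h ≠ 0 := mul_ne_zero hfQ (inv_ne_zero hf₀)
  have hdivh : FunFld.div k h = Finsupp.single Q (2 * (n : ℤ)) - Finsupp.single P₀ (2 * (n : ℤ)) := by
    rw [hh, LeadFF.div_mul hK hfQ (inv_ne_zero hf₀), LeadFF.div_inv hK, hdivQ, hdiv₀]; abel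
  have hord : ∀ R : Place k K, R.ord h =
      (Finsupp.single Q (2 * (n : ℤ)) : Divisor k K) R -
        (Finsupp.single P₀ (2 * (n : ℤ)) : Divisor k K) R := by
    intro R
    rw [← div_apply hK h R, hdivh, Finsupp.sub_apply]
  have hvalQ : Q.1 h = exp (-(2 * (n : ℤ))) := by
    rw [val_eq_exp_neg_ord Q hh0, hord Q, single_apply_self, single_apply_ne hne]
    simp
  have hvalR : ∀ R : Place k K, R ≠ Q → R ≠ P₀ → R.1 h = 1 := by
    intro R h1 h2
    rw [val_eq_exp_neg_ord R hh0, hord R, single_apply_ne h1, single_apply_ne h2]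
    simp
  have hvalP : P₀.1 h = exp (2 * (n : ℤ)) := by
    rw [val_eq_exp_neg_ord P₀ hh0, hord P₀, single_apply_self, single_apply_ne (Ne.symm hne)]
    simp
  have hhL : h ∈ L (Finsupp.single P₀ (2 * (n : ℤ)) : Divisor k K) := by
    rw [mem_L_single]
    refine ⟨hvalP.le, fun R hR => ?_⟩
    by_cases hRQ : R = Q
    · subst hRQ
      rw [hvalQ, ← exp_zero, exp_le_exp]
      omega
    · exact (hvalR R hRQ hR).le
  rw [← hspan] at hhL
  obtain ⟨c, hc⟩ := (Submodule.mem_span_range_iff_exists_fun k).mp hhL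
  set p : Polynomial k := ∑ i : Fin (n + 1), Polynomial.monomial (i : ℕ) (c i) with hp
  have hpe : Polynomial.aeval x₀ p = h := by
    rw [hp, map_sum, ← hc]
    apply Finset.sum_congr rfl
    intro i _
    rw [Polynomial.aeval_monomial, Algebra.smul_def]
  have hQx : Q.1 x₀ ≤ 1 := hx2 Q hne
  obtain ⟨a, ha⟩ := exists_const_sub_lt_one hK Q hQx
  -- divide `p - p(a)` by `X - a`
  have hroot : (p - Polynomial.C (p.eval a)).IsRoot a := by
    simp [Polynomial.IsRoot]
  obtain ⟨q, hq⟩ := Polynomial.dvd_iff_isRoot.mpr hroot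
  have hfac : h - algebraMap k K (p.eval a) =
      (x₀ - algebraMap k K a) * Polynomial.aeval x₀ q := by
    have := congrArg (Polynomial.aeval x₀) hq
    rw [map_sub, map_mul, map_sub, Polynomial.aeval_X, Polynomial.aeval_C, Polynomial.aeval_C,
      hpe] at this
    exact this
  have hqQ : Q.1 (Polynomial.aeval x₀ q) ≤ 1 := val_aeval_le_one Q hQx q
  have hQh : Q.1 h < 1 := by
    rw [hvalQ, ← exp_zero, exp_lt_exp]; omega
  have hpa : p.eval a = 0 := by
    by_contra hne0
    have h1 : Q.1 (algebraMap k K (p.eval a)) = 1 := place_trivOn Q _ hne0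
    have h2 : algebraMap k K (p.eval a) =
        h - (x₀ - algebraMap k K a) * Polynomial.aeval x₀ q := by
      rw [← hfac]; ring
    have h3 : Q.1 ((x₀ - algebraMap k K a) * Polynomial.aeval x₀ q) < 1 := by
      rw [map_mul]
      calc Q.1 (x₀ - algebraMap k K a) * Q.1 (Polynomial.aeval x₀ q)
          ≤ Q.1 (x₀ - algebraMap k K a) * 1 := mul_le_mul' le_rfl hqQ
        _ = Q.1 (x₀ - algebraMap k K a) := mul_one _
        _ < 1 := ha
    have h4 : Q.1 (algebraMap k K (p.eval a)) < 1 := by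
      rw [h2]
      exact lt_of_le_of_lt (Valuation.map_sub _ _ _) (max_lt hQh h3)
    rw [h1] at h4
    exact lt_irrefl _ h4
  rw [hpa, map_zero, sub_zero] at hfac
  refine ⟨a, ha, fun R hRQ hRP => ?_⟩
  have hRx : R.1 x₀ ≤ 1 := hx2 R hRP
  have h1 : R.1 (x₀ - algebraMap k K a) ≤ 1 :=
    (Valuation.map_sub _ _ _).trans (max_le hRx (R.2.1 a))
  have h2 : R.1 (Polynomial.aeval x₀ q) ≤ 1 := val_aeval_le_one R hRx q
  have h3 := hvalR R hRQ hRP
  rw [hfac, map_mul] at h3
  by_contra hlt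
  have hlt' : R.1 (x₀ - algebraMap k K a) < 1 := lt_of_le_of_ne h1 hlt
  have : R.1 (x₀ - algebraMap k K a) * R.1 (Polynomial.aeval x₀ q) < 1 := by
    calc R.1 (x₀ - algebraMap k K a) * R.1 (Polynomial.aeval x₀ q)
        ≤ R.1 (x₀ - algebraMap k K a) * 1 := mul_le_mul' le_rfl h2
      _ = R.1 (x₀ - algebraMap k K a) := mul_one _
      _ < 1 := hlt'
  rw [h3] at this
  exact lt_irrefl _ this

end Groth.Agent.Lib.LeadWP
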