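import Mathlib
import Groth.Agent.Lib.LeadWP4

/-! The Weierstrass point dichotomy (S12618). -/

set_option autoImplicit false

namespace Groth.Agent.Lib.LeadWP
open FunFld WithZero Groth.Agent.Lib.LeadFF Groth.Agent.Lib.LeadSV Groth.Agent.Lib.LeadHS
  Groth.Agent.Lib.LeadWD Groth.Agent.Lib.LeadTR

universe u v

variable {k : Type u} {K : Type v} [Field k] [Field K] [Algebra k K]

/-- a function with pole divisor `2 P₀` has degree two. -/
lemma finrank_adjoin_of_double_pole (hK : IsFunctionField k K) (P₀ : Place k K)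
    (hP₀ : P₀.deg = 1) {x₀ : K} (hx1 : P₀.1 x₀ = exp (2 : ℤ))
    (hx2 : ∀ R : Place k K, R ≠ P₀ → R.1 x₀ ≤ 1) :
    Module.finrank (IntermediateField.adjoin k ({x₀} : Set K)) K = 2 := by
  classical
  have hlt : (1 : WithZero (Multiplicative ℤ)) < P₀.1 x₀ := by
    rw [hx1, ← exp_zero, exp_lt_exp]; norm_num
  have hxk := not_mem_range_of_pole P₀ hlt
  have hx0 : x₀ ≠ 0 := by rintro rfl; exact hxk ⟨0, map_zero _⟩
  have hpole : zdiv k x₀⁻¹ = Finsupp.single P₀ 2 := by
    ext Q
    rw [pdiv_apply hK]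
    by_cases hQP : Q = P₀
    · subst hQP
      have : Q.ord x₀ = -2 := by
        unfold Place.ord; rw [hx1, log_exp]
      rw [this]; simp
    · rw [Finsupp.single_eq_of_ne hQP]
      have h1 := hx2 Q hQP
      have h2 : ¬ (Q.ord x₀ < 0) := by
        rw [ord_neg_iff Q hx0]; exact not_lt.mpr h1
      exact max_eq_right (by omega)
  have h := finrank_adjoin_eq_deg_pdiv hK hxk
  rw [hpole, deg_single, hP₀] at h
  have : ((Module.finrank (IntermediateField.adjoin k ({x₀} : Set K)) K : ℕ) : ℤ) = 2 := by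
    rw [← h]; norm_num
  exact_mod_cast this

/-- an automorphism fixing `P₀` and more than two other places fixes a function with pole
divisor `2 P₀`. -/
lemma apply_eq_of_fixed [IsAlgClosed k] (hK : IsFunctionField k K) (σ : K ≃ₐ[k] K)
    (P₀ : Place k K) {x₀ : K} (hx1 : P₀.1 x₀ = exp (2 : ℤ))
    (hx2 : ∀ R : Place k K, R ≠ P₀ → R.1 x₀ ≤ 1) (s : Finset (Place k K))
    (hs0 : P₀ ∉ s) (hcard : 2 < s.card)
    (hfix0 : ∀ z : K, P₀.1 z < 1 → P₀.1 (σ z) < 1)
    (hfix : ∀ Q ∈ s, ∀ z : K, Q.1 z < 1 → Q.1 (σ z) < 1) : σ x₀ = x₀ := by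
  classical
  have hP₀ := deg_eq_one_of_algClosed hK P₀
  have hc0 := comapEquiv_eq_of_fixed σ P₀ hfix0
  have hc0' : comapEquiv σ.symm P₀ = P₀ := by
    have := comapEquiv_comapEquiv_symm σ P₀
    rw [hc0] at this
    exact this
  set y := x₀ - σ x₀ with hy
  set D : Divisor k K := Finsupp.single P₀ (2 : ℤ) -
    ∑ Q ∈ s, (Finsupp.single Q (1 : ℤ) : Divisor k K) with hD
  have hσP : P₀.1 (σ x₀) = exp (2 : ℤ) := by
    have := congrArg (fun Q : Place k K => Q.1 x₀) hc0
    simp only [comapEquiv_apply] at this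
    rw [this, hx1]
  have hσR : ∀ R : Place k K, R ≠ P₀ → R.1 (σ x₀) ≤ 1 := by
    intro R hR
    have hne : comapEquiv σ R ≠ P₀ := by
      intro heq
      apply hR
      have := comapEquiv_comapEquiv_symm σ R
      rw [heq, hc0'] at this
      exact this.symm
    exact hx2 _ hne
  have hyL : y ∈ L D := by
    intro R
    rw [hD, Finsupp.sub_apply, sum_single_one_apply]
    by_cases hRP : R = P₀
    · subst hRP
      rw [single_apply_self, if_neg hs0, sub_zero]
      exact (Valuation.map_sub _ _ _).trans (max_le hx1.le hσP.le)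
    · rw [single_apply_ne hRP]
      by_cases hRs : R ∈ s
      · rw [if_pos hRs]
        have h1 : R.1 y < 1 := sub_apply_lt_one_of_fixed hK σ R (hfix R hRs) (hx2 R hRP)
        by_cases hy0 : y = 0
        · rw [hy0, map_zero]; exact zero_le'
        · rw [val_eq_exp_neg_ord R hy0] at h1 ⊢
          rw [← exp_zero, exp_lt_exp] at h1
          rw [exp_le_exp]
          omega
      · rw [if_neg hRs, sub_zero, exp_zero]
        exact (Valuation.map_sub _ _ _).trans (max_le (hx2 R hRP) (hσR R hRP))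
  have hdeg : D.deg < 0 := by
    rw [hD, deg_sub, deg_single, hP₀,
      deg_sum_single_one s fun Q _ => deg_eq_one_of_algClosed hK Q]
    have : (2 : ℤ) < s.card := by exact_mod_cast hcard
    push_cast
    omega
  rw [L_eq_bot_of_deg_neg hK D hdeg, Submodule.mem_bot] at hyL
  rw [hy, sub_eq_zero] at hyL
  exact hyL.symm

end Groth.Agent.Lib.LeadWP
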