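import Mathlib
import Groth.Agent.Lib.LeadWP5

/-! The Weierstrass point dichotomy (S12618): assembly. -/

set_option autoImplicit false

namespace Groth.Agent.Lib.LeadWP
open FunFld WithZero Groth.Agent.Lib.LeadFF Groth.Agent.Lib.LeadSV Groth.Agent.Lib.LeadHS
  Groth.Agent.Lib.LeadWD Groth.Agent.Lib.LeadTR

universe u v

variable {k : Type u} {K : Type v} [Field k] [Field K] [Algebra k K]

/-- an automorphism fixing a function with pole divisor `2P₀` fixes `P₀`. -/
lemma fixed_pole_of_apply_eq (σ : K ≃ₐ[k] K) (P₀ : Place k K) {x₀ : K}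
    (hx1 : P₀.1 x₀ = exp (2 : ℤ)) (hx2 : ∀ R : Place k K, R ≠ P₀ → R.1 x₀ ≤ 1)
    (hσ : σ x₀ = x₀) : comapEquiv σ P₀ = P₀ := by
  by_contra hne
  have h1 := hx2 _ hne
  rw [comapEquiv_apply, hσ, hx1, ← exp_zero, exp_le_exp] at h1
  omega

lemma isFixedPt_of_comapEquiv_eq (σ : K ≃ₐ[k] K) (P : Place k K) (h : comapEquiv σ P = P) :
    IsFixedPt (σ : K →ₐ[k] K) P := by
  intro z hz
  have := congrArg (fun Q : Place k K => Q.1 z) h
  simp only [comapEquiv_apply] at this
  show P.1 (σ z) < 1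
  rw [this]; exact hz

theorem weierstrass_dichotomy [IsAlgClosed k] (hK : IsFunctionField k K) (hg : 1 < genus k K)
    (hchar : ringChar k = 0 ∨ 2 * genus k K - 2 < ringChar k)
    (C : Divisor k K) (hC : IsCanonical k K C) {n : ℕ} (φ : Fin (n + 1) → K)
    (hφ : LinearIndependent k φ) (hspan : Submodule.span k (Set.range φ) = L C) (s : K)
    (H : K →ₐ[k] PowerSeries K) (hH : LocRes.IsHasseFamily s H) (J : Fin n → ℕ)
    (hJ : IsOrders K (hcol (AlgHom.id k K) H φ) J) (Φ : Place k K → (K →ₐ[k] LaurentSeries k))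
    (hΦ : ∀ P : Place k K, LocRes.IsExpansionAt P.1 (Φ P)) :
    (2 * genus k K + 2 < Set.ncard {P : Place k K | wDiv (AlgHom.id k K) H Φ s φ J P ≠ 0} ∧
      ∀ σ : K ≃ₐ[k] K, (∀ P : Place k K, wDiv (AlgHom.id k K) H Φ s φ J P ≠ 0 →
        IsFixedPt (σ : K →ₐ[k] K) P) → σ = AlgEquiv.refl) ∨
    (Set.ncard {P : Place k K | wDiv (AlgHom.id k K) H Φ s φ J P ≠ 0} = 2 * genus k K + 2 ∧
      ∃ x : K, Module.finrank (IntermediateField.adjoin k ({x} : Set K)) K = 2 ∧
        ∀ σ : K ≃ₐ[k] K, (∀ P : Place k K, wDiv (AlgHom.id k K) H Φ s φ J P ≠ 0 →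
          IsFixedPt (σ : K →ₐ[k] K) P) ↔ σ x = x) := by
  classical
  have hg0 : 0 < genus k K := by omega
  have hgn := genus_eq_succ hK C hC φ hφ hspan
  have hn : 1 ≤ n := by omega
  obtain ⟨hcard, heq⟩ := weierstrass_count hK hg hchar C hC φ hφ hspan s H hH J hJ Φ hΦ
  set W := wDiv (AlgHom.id k K) H Φ s φ J with hW
  have hset : {P : Place k K | W P ≠ 0} = (W.support : Set (Place k K)) := by
    ext P; simp
  rw [hset, Set.ncard_coe_finset]
  have hmemT : ∀ P : Place k K, W P ≠ 0 ↔ P ∈ W.support := fun P => by simp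
  rcases lt_or_eq_of_le hcard with hlt | heq'
  · left
    refine ⟨hlt, fun σ hσ => ?_⟩
    have h1 : σ = 1 := by
      apply aut_eq_one_of_fixed hK σ
      have hsub : (W.support : Set (Place k K)) ⊆
          {P : Place k K | ∀ x : K, P.1 x < 1 → P.1 (σ x) < 1} := by
        intro P hP
        exact hσ P ((hmemT P).mpr hP)
      refine lt_of_lt_of_le ?_ (Set.encard_le_encard hsub)
      rw [Set.encard_coe_eq_coe_finsetCard]
      exact_mod_cast hlt
    rw [h1]; rfl
  · right
    refine ⟨heq'.symm, ?_⟩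
    have hall := heq heq'.symm
    -- `2` is a non-gap at every Weierstrass point
    have hnongap : ∀ P ∈ W.support, ¬ IsGap P 2 := by
      intro P hP hgap
      obtain ⟨J', hJ', -⟩ := weight_at hK hg0 hchar C hC φ hφ hspan s H hH J hJ Φ hΦ P
      have h2 := hall P hP J' hJ'
      obtain ⟨l, hl⟩ := (hJ'.2 1).mpr ⟨le_rfl, hgap⟩
      rw [h2 l] at hl
      omega
    have hne : W.support.Nonempty := by
      rw [← Finset.card_pos, ← heq']; omega
    obtain ⟨P₀, hP₀T⟩ := hne
    have hP₀ := deg_eq_one_of_algClosed hK P₀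
    obtain ⟨x₀, hx1', hx2⟩ := (not_isGap_iff P₀ 2).mp (hnongap P₀ hP₀T)
    have hx1 : P₀.1 x₀ = exp (2 : ℤ) := by rw [hx1']; rfl
    refine ⟨x₀, finrank_adjoin_of_double_pole hK P₀ hP₀ hx1 hx2, fun σ => ⟨fun hσ => ?_, fun hσ => ?_⟩⟩
    · apply apply_eq_of_fixed hK σ P₀ hx1 hx2 (W.support.erase P₀) (Finset.notMem_erase _ _)
      · rw [Finset.card_erase_of_mem hP₀T, ← heq']; omega
      · exact hσ P₀ ((hmemT P₀).mpr hP₀T)
      · intro Q hQ
        exact hσ Q ((hmemT Q).mpr (Finset.mem_of_mem_erase hQ))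
    · intro P hP
      have hPT := (hmemT P).mp hP
      apply isFixedPt_of_comapEquiv_eq
      by_cases hPP : P = P₀
      · subst hPP
        exact fixed_pole_of_apply_eq σ P hx1 hx2 hσ
      · obtain ⟨a, ha1, ha2⟩ := ramified_of_nongap hK C hC hn hgn P₀ P hPP hx1 hx2
          (hnongap P hPT)
        have hval : (comapEquiv σ P).1 (x₀ - algebraMap k K a) < 1 := by
          rw [comapEquiv_apply, map_sub, hσ, AlgEquiv.commutes]
          exact ha1
        by_contra hne
        by_cases h0 : comapEquiv σ P = P₀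
        · rw [h0] at hval
          have h3 : P₀.1 (x₀ - algebraMap k K a) = exp (2 : ℤ) := by
            rw [Valuation.map_sub_eq_of_lt_left, hx1]
            rw [hx1]
            refine lt_of_le_of_lt (P₀.2.1 a) ?_
            rw [← exp_zero, exp_lt_exp]; norm_num
          rw [h3, ← exp_zero, exp_lt_exp] at hval
          omega
        · have := ha2 _ hne h0
          rw [this] at hval
          exact lt_irrefl _ hval

end Groth.Agent.Lib.LeadWP
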