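import Mathlib
import Groth.Agent.Lib.LeadWP6
import Groth.Agent.Lib.LeadHF1

/-! Finiteness of the automorphism group in genus at least two (S11048). -/

set_option autoImplicit false

namespace Groth.Agent.Lib.LeadWP
open FunFld WithZero Groth.Agent.Lib.LeadFF Groth.Agent.Lib.LeadSV Groth.Agent.Lib.LeadHS
  Groth.Agent.Lib.LeadWD Groth.Agent.Lib.LeadTR

universe u v

variable {k : Type u} {K : Type v} [Field k] [Field K] [Algebra k K]

lemma comapEquiv_trans (σ τ : K ≃ₐ[k] K) (P : Place k K) :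
    comapEquiv σ (comapEquiv τ P) = comapEquiv (σ.trans τ) P := by
  apply Subtype.ext
  ext x
  simp

lemma not_isGap_comapEquiv (σ : K ≃ₐ[k] K) (P : Place k K) (m : ℕ) (h : ¬ IsGap P m) :
    ¬ IsGap (comapEquiv σ P) m := by
  rw [not_isGap_iff] at h ⊢
  obtain ⟨x, hx1, hx2⟩ := h
  refine ⟨σ.symm x, ?_, fun Q hQ => ?_⟩
  · rw [comapEquiv_apply, AlgEquiv.apply_symm_apply, hx1]
  · have hne : comapEquiv σ.symm Q ≠ P := by
      intro heq
      apply hQ
      rw [← heq, comapEquiv_symm_comapEquiv]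
    have := hx2 _ hne
    rwa [comapEquiv_apply] at this

lemma isGap_comapEquiv_iff (σ : K ≃ₐ[k] K) (P : Place k K) (m : ℕ) :
    IsGap (comapEquiv σ P) m ↔ IsGap P m := by
  constructor
  · intro h
    by_contra hn
    exact not_isGap_comapEquiv σ P m hn h
  · intro h
    by_contra hn
    have := not_isGap_comapEquiv σ.symm (comapEquiv σ P) m hn
    rw [comapEquiv_comapEquiv_symm] at this
    exact this h

lemma isGapSeq_comapEquiv_iff (σ : K ≃ₐ[k] K) (P : Place k K) {n : ℕ} (J' : Fin n → ℕ) :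
    IsGapSeq (comapEquiv σ P) J' ↔ IsGapSeq P J' := by
  unfold IsGapSeq
  simp only [isGap_comapEquiv_iff]

/-- the automorphisms fixing an element of degree two form a finite set. -/
lemma finite_fixing (x : K)
    (hx : Module.finrank (IntermediateField.adjoin k ({x} : Set K)) K = 2) :
    {ρ : K ≃ₐ[k] K | ρ x = x}.Finite := by
  classical
  set F := IntermediateField.adjoin k ({x} : Set K) with hF
  haveI : FiniteDimensional F K := Module.finite_of_finrank_pos (by rw [hx]; norm_num)
  haveI : Finite (K ≃ₐ[F] K) := inferInstance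
  haveI : Finite F.fixingSubgroup := Finite.of_equiv _ (IntermediateField.fixingSubgroupEquiv F).symm.toEquiv
  have hfin : (F.fixingSubgroup : Set (K ≃ₐ[k] K)).Finite := Set.toFinite _
  apply hfin.subset
  intro ρ hρ
  rw [SetLike.mem_coe, IntermediateField.mem_fixingSubgroup_iff]
  intro y hy
  have hle : F ≤ IntermediateField.fixedField (Subgroup.zpowers ρ) := by
    rw [hF, IntermediateField.adjoin_le_iff]
    intro z hz
    rw [Set.mem_singleton_iff] at hz
    subst hz
    rw [SetLike.mem_coe, IntermediateField.mem_fixedField_iff]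
    rintro τ ⟨j, rfl⟩
    have hρ' : ρ z = z := hρ
    have : ∀ j : ℕ, (ρ ^ j) z = z := by
      intro j
      induction j with
      | zero => simp
      | succ j ih => rw [pow_succ, AlgEquiv.mul_apply, hρ', ih]
    rcases Int.eq_nat_or_neg j with ⟨m, rfl | rfl⟩
    · show (ρ ^ (m : ℤ)) z = z
      rw [zpow_natCast]; exact this m
    · show (ρ ^ (-(m : ℤ))) z = z
      rw [zpow_neg, zpow_natCast]
      have h2 := this m
      calc (ρ ^ m)⁻¹ z = (ρ ^ m)⁻¹ ((ρ ^ m) z) := by rw [h2]
        _ = z := by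
          rw [← AlgEquiv.mul_apply, inv_mul_cancel]; rfl
  have := hle hy
  rw [IntermediateField.mem_fixedField_iff] at this
  exact this ρ (Subgroup.mem_zpowers ρ)

theorem finite_aut [IsAlgClosed k] (hK : IsFunctionField k K) (hg : 1 < genus k K)
    (hchar : ringChar k = 0 ∨ 2 * genus k K - 2 < ringChar k) : Finite (K ≃ₐ[k] K) := by
  classical
  have hg0 : 0 < genus k K := by omega
  have hgeo := Groth.Agent.Lib.LeadMS.isGeometric_of_isAlgClosed k K
  obtain ⟨C, hC⟩ := exists_canonical hK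
  obtain ⟨hellC, -⟩ := canonical_ell_deg hK hC
  obtain ⟨n, hn⟩ : ∃ n, genus k K = n + 1 := ⟨genus k K - 1, by omega⟩
  haveI := L_finite hK C
  have hfr : Module.finrank k (L C) = n + 1 := by
    have : (ell C : ℤ) = (genus k K : ℤ) := hellC
    unfold ell at this
    omega
  let b := Module.finBasisOfFinrankEq k (L C) hfr
  let φ : Fin (n + 1) → K := fun i => (b i : K)
  have hφ : LinearIndependent k φ := by
    have := b.linearIndependent.map' (L C).subtype (Submodule.ker_subtype _)
    exact this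
  have hspan : Submodule.span k (Set.range φ) = L C := by
    have h1 : Set.range φ = (L C).subtype '' Set.range b := by
      rw [← Set.range_comp]; rfl
    rw [h1, ← Submodule.map_span, b.span_eq, Submodule.map_top, Submodule.range_subtype]
  obtain ⟨s, H, hH⟩ := Groth.Agent.Lib.LeadHF.exists_hasseFamily hK hgeo
  obtain ⟨J, hJ, -⟩ := exists_orders_hasse hK φ hφ (AlgHom.id k K) hH
  obtain ⟨Φ, hΦ⟩ := exists_expansions hK
  set W := wDiv (AlgHom.id k K) H Φ s φ J with hW
  have hwt : ∀ P : Place k K, ∃ J' : Fin n → ℕ, IsGapSeq P J' ∧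
      W P = ∑ l : Fin n, ((J' l : ℤ) - ((l : ℕ) + 1)) := fun P =>
    weight_at hK hg0 hchar C hC φ hφ hspan s H hH J hJ Φ hΦ P
  -- invariance of the weight
  have hinv : ∀ (σ : K ≃ₐ[k] K) (P : Place k K), W (comapEquiv σ P) = W P := by
    intro σ P
    obtain ⟨J', hJ', h1⟩ := hwt P
    obtain ⟨J'', hJ'', h2⟩ := hwt (comapEquiv σ P)
    rw [isGapSeq_comapEquiv_iff] at hJ''
    rw [h1, h2, isGapSeq_unique hJ'' hJ']
  -- the pointwise stabilizer is finite
  set N : Set (K ≃ₐ[k] K) := {ρ | ∀ P : Place k K, W P ≠ 0 → IsFixedPt (ρ : K →ₐ[k] K) P} with hN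
  have hNfin : N.Finite := by
    rcases weierstrass_dichotomy hK hg hchar C hC φ hφ hspan s H hH J hJ Φ hΦ with
      ⟨-, h⟩ | ⟨-, x, hx, h⟩
    · apply (Set.finite_singleton (AlgEquiv.refl : K ≃ₐ[k] K)).subset
      intro ρ hρ
      exact h ρ hρ
    · apply (finite_fixing x hx).subset
      intro ρ hρ
      exact (h ρ).mp hρ
  -- the action on the support
  let T := W.support
  have hT : ∀ (σ : K ≃ₐ[k] K) (P : Place k K), P ∈ T → comapEquiv σ P ∈ T := by
    intro σ P hP
    rw [Finsupp.mem_support_iff] at hP ⊢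
    rw [hinv]; exact hP
  let f : (K ≃ₐ[k] K) → (T → T) := fun σ P => ⟨comapEquiv σ P.1, hT σ P.1 P.2⟩
  rw [← Set.finite_univ_iff]
  apply Set.Finite.of_finite_fibers f (Set.toFinite _)
  intro g _
  by_cases hex : ∃ σ₀, f σ₀ = g
  · obtain ⟨σ₀, rfl⟩ := hex
    -- the fibre is contained in a translate of `N`
    apply (hNfin.image (fun ρ => ρ.trans σ₀)).subset
    rintro σ ⟨-, hσ⟩
    rw [Set.mem_preimage, Set.mem_singleton_iff] at hσ
    refine ⟨σ.trans σ₀.symm, ?_, ?_⟩
    · intro Q hQ
      apply isFixedPt_of_comapEquiv_eq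
      have hQT : Q ∈ T := Finsupp.mem_support_iff.mpr hQ
      have hPT : comapEquiv σ₀.symm Q ∈ T := hT σ₀.symm Q hQT
      have h1 := congrFun hσ ⟨comapEquiv σ₀.symm Q, hPT⟩
      have h2 : comapEquiv σ (comapEquiv σ₀.symm Q) = comapEquiv σ₀ (comapEquiv σ₀.symm Q) :=
        congrArg Subtype.val h1
      rw [comapEquiv_symm_comapEquiv, comapEquiv_trans] at h2
      exact h2
    · ext y
      simp
  · apply Set.Finite.subset (Set.finite_empty)
    rintro σ ⟨-, hσ⟩
    exact (hex ⟨σ, hσ⟩).elim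

end Groth.Agent.Lib.LeadWP
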