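import Mathlib
import Groth.Agent.Lib.LeadWP7

/-! Strong fixed points: combinatorics of gaps (towards S11053). -/

set_option autoImplicit false

namespace Groth.Agent.Lib.LeadSF
open FunFld WithZero Groth.Agent.Lib.LeadFF Groth.Agent.Lib.LeadSV Groth.Agent.Lib.LeadHS
  Groth.Agent.Lib.LeadWD Groth.Agent.Lib.LeadTR

universe u v

variable {k : Type u} {K : Type v} [Field k] [Field K] [Algebra k K]

lemma sum_le_card_sq (G : Finset ℕ)
    (h : ∀ γ ∈ G, γ ≤ 2 * (G.filter (· < γ)).card + 1) : ∑ γ ∈ G, γ ≤ G.card ^ 2 := by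
  classical
  induction G using Finset.induction_on_max with
  | empty => simp
  | insert a s ha ih =>
    have hnot : a ∉ s := fun hmem => lt_irrefl _ (ha a hmem)
    rw [Finset.sum_insert hnot, Finset.card_insert_of_notMem hnot]
    have h1 : ∑ γ ∈ s, γ ≤ s.card ^ 2 := by
      apply ih
      intro γ hγ
      have := h γ (Finset.mem_insert_of_mem hγ)
      have e : (insert a s).filter (· < γ) = s.filter (· < γ) := by
        rw [Finset.filter_insert, if_neg (not_lt.mpr (ha γ hγ).le)]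
      rwa [e] at this
    have h2 := h a (Finset.mem_insert_self a s)
    have e2 : (insert a s).filter (· < a) = s := by
      rw [Finset.filter_insert, if_neg (lt_irrefl a)]
      exact Finset.filter_true_of_mem ha
    rw [e2] at h2
    nlinarith

lemma sum_gaps_le (P : Place k K) (M : ℕ) :
    ∑ γ ∈ gapsLE P M, γ ≤ (gapsLE P M).card ^ 2 := by
  classical
  apply sum_le_card_sq
  intro γ hγ
  simp only [gapsLE, Finset.mem_filter, Finset.mem_Icc] at hγ
  have h1 := gap_half P γ hγ.1.1 hγ.2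
  have hsub : gapsLE P (γ - 1) ⊆ (gapsLE P M).filter (· < γ) := by
    intro m hm
    simp only [gapsLE, Finset.mem_filter, Finset.mem_Icc] at hm ⊢
    exact ⟨⟨⟨hm.1.1, by omega⟩, hm.2⟩, by omega⟩
  have := Finset.card_le_card hsub
  omega

lemma not_isGap_of_ge (hK : IsFunctionField k K) (P : Place k K) (hP : P.deg = 1) (m : ℕ)
    (hm : 2 * genus k K ≤ m) : ¬ IsGap P m := by
  intro hgap
  rcases Nat.eq_zero_or_pos m with rfl | hpos
  · exact not_isGap_zero P hgap
  obtain ⟨m', rfl⟩ : ∃ m', m = m' + 1 := ⟨m - 1, by omega⟩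
  have h1 := (ell_single_step hK P hP m').1 hgap
  have h2 := ell_of_deg_ge hK (Finsupp.single P ((m' : ℤ) + 1)) (by
    rw [deg_single, hP]; push_cast; omega)
  have h3 := ell_of_deg_ge hK (Finsupp.single P (m' : ℤ)) (by
    rw [deg_single, hP]; push_cast; omega)
  rw [deg_single, hP] at h2 h3
  rw [h1] at h2
  push_cast at h2 h3
  omega

/-- the sum of a strictly increasing sequence avoiding the (reflected) gaps. -/
theorem orders_sum_bound (P : Place k K) (M g : ℕ) (hcard : (gapsLE P M).card = g) {n : ℕ}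
    (J' : Fin n → ℕ) (hJ' : StrictMono J')
    (hle : ∀ l, J' l ≤ M) (hng : ∀ l, ¬ IsGap P (M - J' l)) :
    2 * ∑ l, (J' l : ℤ) + 2 * (g : ℤ) * M ≤ (M : ℤ) * (M + 1) + 2 * (g : ℤ) ^ 2 := by
  classical
  set S₁ := (Finset.range (M + 1)).filter (fun j => ¬ IsGap P (M - j)) with hS₁
  set S₂ := (Finset.range (M + 1)).filter (fun j => IsGap P (M - j)) with hS₂
  have hsum : ∑ j ∈ S₂, (j : ℤ) + ∑ j ∈ S₁, (j : ℤ) = ∑ j ∈ Finset.range (M + 1), (j : ℤ) :=
    Finset.sum_filter_add_sum_filter_not _ _ _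
  have hgauss : 2 * ∑ j ∈ Finset.range (M + 1), (j : ℤ) = (M : ℤ) * (M + 1) := by
    have := Finset.sum_range_id_mul_two (M + 1)
    have h2 : ((∑ i ∈ Finset.range (M + 1), i : ℕ) : ℤ) * 2 = ((M + 1 : ℕ) : ℤ) * ((M + 1 - 1 : ℕ) : ℤ) := by
      exact_mod_cast this
    rw [Nat.add_sub_cancel] at h2
    push_cast at h2
    linarith
  -- the sequence lies in `S₁`
  have h1 : ∑ l, (J' l : ℤ) ≤ ∑ j ∈ S₁, (j : ℤ) := by
    have himg : ∑ l, (J' l : ℤ) = ∑ j ∈ Finset.univ.image J', (j : ℤ) := by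
      rw [Finset.sum_image]
      intro a _ b _ hab
      exact hJ'.injective hab
    rw [himg]
    apply Finset.sum_le_sum_of_subset_of_nonneg
    · intro j hj
      rw [Finset.mem_image] at hj
      obtain ⟨l, -, rfl⟩ := hj
      rw [hS₁, Finset.mem_filter, Finset.mem_range]
      exact ⟨by have := hle l; omega, hng l⟩
    · intro j _ _
      exact Int.natCast_nonneg _
  -- the reflected gaps
  have h2 : ∑ j ∈ S₂, (j : ℤ) = ∑ γ ∈ gapsLE P M, ((M : ℤ) - γ) := by
    apply Finset.sum_nbij' (fun j => M - j) (fun γ => M - γ)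
    · intro j hj
      rw [hS₂, Finset.mem_filter, Finset.mem_range] at hj
      simp only [gapsLE, Finset.mem_filter, Finset.mem_Icc]
      refine ⟨⟨?_, by omega⟩, hj.2⟩
      by_contra h0
      have : M - j = 0 := by omega
      rw [this] at hj
      exact not_isGap_zero P hj.2
    · intro γ hγ
      simp only [gapsLE, Finset.mem_filter, Finset.mem_Icc] at hγ
      rw [hS₂, Finset.mem_filter, Finset.mem_range]
      refine ⟨by omega, ?_⟩
      have : M - (M - γ) = γ := by omega
      rw [this]; exact hγ.2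
    · intro j hj
      rw [hS₂, Finset.mem_filter, Finset.mem_range] at hj
      omega
    · intro γ hγ
      simp only [gapsLE, Finset.mem_filter, Finset.mem_Icc] at hγ
      omega
    · intro j hj
      rw [hS₂, Finset.mem_filter, Finset.mem_range] at hj
      have : j ≤ M := by omega
      push_cast [Nat.cast_sub this]
      ring
  have h3 : ∑ γ ∈ gapsLE P M, ((M : ℤ) - γ) = (g : ℤ) * M - ∑ γ ∈ gapsLE P M, (γ : ℤ) := by
    rw [Finset.sum_sub_distrib, Finset.sum_const, hcard, nsmul_eq_mul]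
  have h4 : ∑ γ ∈ gapsLE P M, (γ : ℤ) ≤ (g : ℤ) ^ 2 := by
    have := sum_gaps_le P M
    rw [hcard] at this
    have h5 : ((∑ γ ∈ gapsLE P M, γ : ℕ) : ℤ) ≤ ((g ^ 2 : ℕ) : ℤ) := by exact_mod_cast this
    push_cast at h5
    exact h5
  linarith

end Groth.Agent.Lib.LeadSF
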