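import Mathlib
import Groth.Agent.Lib.LeadSF1

/-! Strong fixed points: bound for the sum of the `τ`-orders of `L((n+g)P₀)`. -/

set_option autoImplicit false

namespace Groth.Agent.Lib.LeadSF
open FunFld WithZero Groth.Agent.Lib.LeadFF Groth.Agent.Lib.LeadSV Groth.Agent.Lib.LeadHS
  Groth.Agent.Lib.LeadWD Groth.Agent.Lib.LeadTR

universe u v

variable {k : Type u} {K : Type v} [Field k] [Field K] [Algebra k K]

theorem strong_orders_sum [IsAlgClosed k] (hK : IsFunctionField k K) (τ : K →ₐ[k] K)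
    (P₀ : Place k K) (hP₀ : IsStrongFixedPt τ P₀) {n : ℕ} (hn : 0 < n)
    (hng : genus k K < n) (φ : Fin (n + 1) → K) (hφ : LinearIndependent k φ)
    (hspan : Submodule.span k (Set.range φ) =
      L (Finsupp.single P₀ (((n + genus k K : ℕ) : ℤ)) : Divisor k K))
    (s : K) (H : K →ₐ[k] PowerSeries K) (hH : LocRes.IsHasseFamily s H) (J : Fin n → ℕ)
    (hJ : IsOrders K (hcol τ H φ) J) :
    2 * ∑ l, (J l : ℤ) ≤ (n : ℤ) * (n - 1) + (genus k K : ℤ) * (genus k K + 1) := by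
  classical
  have hgeo := Groth.Agent.Lib.LeadMS.isGeometric_of_isAlgClosed k K
  have hPdeg := deg_eq_one_of_algClosed hK P₀
  set g := genus k K with hg
  set M := n + g with hM
  obtain ⟨ε, hε⟩ := exists_isExpansionAt hK P₀
  obtain ⟨t, ht⟩ := hε.2.2
  have hd := hasseD_one_unif_ne_zero hK hH P₀ ε hε ht
  obtain ⟨Ht, hHt, -⟩ := exists_hasse hH t hd
  obtain ⟨i0, hi0ne, hi0max⟩ := exists_maxIdx φ P₀ ⟨0, hφ.ne_zero 0⟩
  set y : K := (φ i0)⁻¹ with hydef
  have hy : y ≠ 0 := inv_ne_zero hi0ne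
  set φ' : Fin (n + 1) → K := fun i => y * φ i with hφ'def
  have hφ'eq : φ' = y • φ := rfl
  have hnorm : ∀ i, P₀.1 (φ' i) ≤ 1 := by
    intro i
    show P₀.1 ((φ i0)⁻¹ * φ i) ≤ 1
    rw [map_mul, map_inv₀]
    have hne : P₀.1 (φ i0) ≠ 0 := (Valuation.ne_zero_iff _).mpr hi0ne
    rw [inv_mul_le_iff₀ (zero_lt_iff.mpr hne), mul_one]
    exact hi0max i
  have hone : φ' i0 = 1 := inv_mul_cancel₀ hi0ne
  have hφ'li : LinearIndependent k φ' := by
    have := hφ.map' (LinearMap.mulLeft k y) (by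
      rw [LinearMap.ker_eq_bot]
      intro a b hab
      exact mul_left_cancel₀ hy hab)
    exact this
  have hJt : IsOrders K (hcol τ Ht φ) J := ((orders_change hK hgeo hH hHt τ φ).1 J).mpr hJ
  have hJ' : IsOrders K (hcol τ Ht φ') J := by
    rw [hφ'eq]; exact ((orders_smul φ τ Ht hHt y hy).1 J).mpr hJt
  have heff : (1 : K) ∈ Submodule.span k (Set.range φ') := by
    rw [← hone]; exact Submodule.subset_span ⟨i0, rfl⟩
  have hex : ∃ i, P₀.1 (φ' i) = 1 := ⟨i0, by rw [hone, map_one]⟩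
  obtain ⟨J', hJ'at⟩ := exists_orders_at hK φ' hφ'li P₀ hnorm hex ht hHt
  have h2 := strong_orders_le hK τ P₀ hP₀ hn φ' hφ'li heff hnorm ht hHt J hJ' J' hJ'at
  have h3 : 1 ≤ J' ⟨0, hn⟩ := orders_at_pos P₀ φ' hHt hJ'at ⟨0, hn⟩
  -- the valuation of the normalizing factor
  have hMng : ¬ IsGap P₀ M := not_isGap_of_ge hK P₀ hPdeg M (by omega)
  have hvi0 : P₀.1 (φ i0) = exp (M : ℤ) := by
    apply le_antisymm
    · have : φ i0 ∈ L (Finsupp.single P₀ ((M : ℕ) : ℤ) : Divisor k K) := by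
        rw [← hspan]; exact Submodule.subset_span ⟨i0, rfl⟩
      exact (mem_L_single.mp this).1
    · obtain ⟨x, hx1, hx2⟩ := (not_isGap_iff P₀ M).mp hMng
      have hxL : x ∈ L (Finsupp.single P₀ ((M : ℕ) : ℤ) : Divisor k K) :=
        mem_L_single.mpr ⟨hx1.le, hx2⟩
      rw [← hspan] at hxL
      obtain ⟨b, hb⟩ := (Submodule.mem_span_range_iff_exists_fun k).mp hxL
      rw [← hx1, ← hb]
      exact val_sum_smul_le P₀ Finset.univ b φ _ fun j _ => hi0max j
  have hvy : P₀.1 y = exp (-(M : ℤ)) := by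
    rw [hydef, map_inv₀, hvi0, ← exp_neg]
  -- each order at `P₀` is the reflection of a non-gap
  have hkey : ∀ l, J' l ≤ M ∧ ¬ IsGap P₀ (M - J' l) := by
    intro l
    obtain ⟨f, hf, hfv⟩ :=
      (orders_at_iff hK P₀ φ' hnorm ht hHt hJ'at heff (J' l)).mp (Or.inr ⟨l, rfl⟩)
    rw [hφ'eq] at hf
    obtain ⟨h, hh, rfl⟩ := (span_smul_iff φ y f).mp hf
    rw [hspan] at hh
    have hhv : P₀.1 h = exp ((M : ℤ) - J' l) := by
      rw [map_mul, hvy] at hfv
      have : P₀.1 h = exp (M : ℤ) * (exp (-(M : ℤ)) * P₀.1 h) := by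
        rw [← mul_assoc, ← exp_add]; simp
      rw [this, hfv, ← exp_add]
      congr 1
    have hh2 := (mem_L_single.mp hh).2
    have hle : J' l ≤ M := by
      by_contra hlt
      rw [not_le] at hlt
      have hL : h ∈ L (Finsupp.single P₀ ((M : ℤ) - J' l) : Divisor k K) :=
        mem_L_single.mpr ⟨hhv.le, hh2⟩
      have hdeg : Divisor.deg (Finsupp.single P₀ ((M : ℤ) - J' l) : Divisor k K) < 0 := by
        rw [deg_single, hPdeg]
        have : (M : ℤ) < J' l := by exact_mod_cast hlt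
        push_cast; linarith
      rw [L_eq_bot_of_deg_neg hK _ hdeg, Submodule.mem_bot] at hL
      rw [hL, map_zero] at hhv
      exact exp_ne_zero hhv.symm
    refine ⟨hle, ?_⟩
    rw [not_isGap_iff]
    refine ⟨h, ?_, hh2⟩
    rw [hhv]
    congr 1
    push_cast [Nat.cast_sub hle]
    ring
  have hcard : (gapsLE P₀ M).card = g := card_gaps_of_large hK P₀ hPdeg M (by
    rw [hM]; push_cast; omega)
  have hb := orders_sum_bound P₀ M g hcard J' hJ'at.1 (fun l => (hkey l).1) (fun l => (hkey l).2)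
  have hsum : ∑ l, (J l : ℤ) + n ≤ ∑ l, (J' l : ℤ) := by
    have : ∑ l : Fin n, ((J l : ℤ) + 1) ≤ ∑ l, (J' l : ℤ) := by
      apply Finset.sum_le_sum
      intro l _
      have := h2 l
      have h5 : (J l : ℤ) + J' ⟨0, hn⟩ ≤ J' l := by exact_mod_cast this
      have h6 : (1 : ℤ) ≤ J' ⟨0, hn⟩ := by exact_mod_cast h3
      linarith
    rw [Finset.sum_add_distrib] at this
    simpa using this
  have hMz : (M : ℤ) = n + g := by rw [hM]; push_cast; ring
  rw [hMz] at hb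
  nlinarith

end Groth.Agent.Lib.LeadSF
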