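import Mathlib
import Groth.Agent.Lib.LeadSF2

/-! Strong fixed points: the count (S11053). -/

set_option autoImplicit false

namespace Groth.Agent.Lib.LeadSF
open FunFld WithZero Groth.Agent.Lib.LeadFF Groth.Agent.Lib.LeadSV Groth.Agent.Lib.LeadHS
  Groth.Agent.Lib.LeadWD Groth.Agent.Lib.LeadTR

universe u v

variable {k : Type u} {K : Type v} [Field k] [Field K] [Algebra k K]

theorem strong_count [IsAlgClosed k] (hK : IsFunctionField k K) (τ : K →ₐ[k] K)
    (P₀ : Place k K) (hP₀ : IsStrongFixedPt τ P₀) {n : ℕ} (hn : 0 < n)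
    (hng : genus k K < n) :
    {P : Place k K | IsStrongFixedPt τ P}.Finite ∧ ∃ Sg : ℤ, 0 ≤ Sg ∧
      2 * Sg ≤ (n : ℤ) * (n - 1) + (genus k K : ℤ) * (genus k K + 1) ∧
      (n : ℤ) * (Set.ncard {P : Place k K | IsStrongFixedPt τ P} : ℤ) ≤
        ((n : ℤ) + Module.finrank τ.fieldRange K) * ((n : ℤ) + genus k K) +
          (2 * (genus k K : ℤ) - 2) * Sg := by
  classical
  have hgeo := Groth.Agent.Lib.LeadMS.isGeometric_of_isAlgClosed k K
  have hPdeg := deg_eq_one_of_algClosed hK P₀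
  set g := genus k K with hg
  set M := n + g with hM
  set D : Divisor k K := Finsupp.single P₀ ((M : ℕ) : ℤ) with hD
  have hDdeg : D.deg = M := by rw [hD, deg_single, hPdeg]; simp
  have hell : (ell D : ℤ) = n + 1 := by
    have := ell_of_deg_ge hK D (by rw [hDdeg, hM]; push_cast; omega)
    rw [hDdeg, hM] at this
    push_cast at this
    linarith
  haveI := L_finite hK D
  have hfr : Module.finrank k (L D) = n + 1 := by
    unfold ell at hell
    exact_mod_cast hell
  let b := Module.finBasisOfFinrankEq k (L D) hfr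
  let φ : Fin (n + 1) → K := fun i => (b i : K)
  have hφ : LinearIndependent k φ := by
    have := b.linearIndependent.map' (L D).subtype (Submodule.ker_subtype _)
    exact this
  have hspan : Submodule.span k (Set.range φ) = L D := by
    have h1 : Set.range φ = (L D).subtype '' Set.range b := by
      rw [← Set.range_comp]; rfl
    rw [h1, ← Submodule.map_span, b.span_eq, Submodule.map_top, Submodule.range_subtype]
  have hMng : ¬ IsGap P₀ M := not_isGap_of_ge hK P₀ hPdeg M (by omega)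
  -- the divisor of the map
  have hone : (1 : K) ∈ L D := by
    rw [hD, mem_L_single]
    refine ⟨?_, fun Q _ => by simp⟩
    rw [map_one, ← exp_zero, exp_le_exp]
    exact Int.natCast_nonneg _
  have hmap : mapDiv k φ = D := by
    apply mapDiv_eq_of_span hK D φ hφ.ne_zero hspan
    intro R
    by_cases hR : R = P₀
    · subst hR
      obtain ⟨x, hx1, hx2⟩ := (not_isGap_iff R M).mp hMng
      refine ⟨x, mem_L_single.mpr ⟨hx1.le, hx2⟩, ?_⟩
      rw [hx1, hD, single_apply_self]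
    · refine ⟨1, hone, ?_⟩
      rw [hD, single_apply_ne hR, map_one, exp_zero]
  -- `τ φ` is not a multiple of `φ`
  have hτφ : ¬ ∃ y : K, ∀ i, τ (φ i) = y * φ i := by
    rintro ⟨y, hy⟩
    have hall : ∀ f ∈ L D, τ f = y * f := by
      intro f hf
      rw [← hspan] at hf
      obtain ⟨c, rfl⟩ := (Submodule.mem_span_range_iff_exists_fun k).mp hf
      rw [map_sum, Finset.mul_sum]
      apply Finset.sum_congr rfl
      intro i _
      rw [Algebra.smul_def, map_mul, AlgHom.commutes, hy i]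
      ring
    have hy1 : y = 1 := by
      have := hall 1 hone
      rw [map_one, mul_one] at this
      exact this.symm
    have hng1 : ¬ IsGap P₀ (2 * g) := not_isGap_of_ge hK P₀ hPdeg _ le_rfl
    have hng2 : ¬ IsGap P₀ (2 * g + 1) := not_isGap_of_ge hK P₀ hPdeg _ (by omega)
    obtain ⟨f₁, hf1, hf1'⟩ := (not_isGap_iff P₀ _).mp hng1
    obtain ⟨f₂, hf2, hf2'⟩ := (not_isGap_iff P₀ _).mp hng2
    have hf1L : f₁ ∈ L D := by
      rw [hD, mem_L_single]
      refine ⟨?_, hf1'⟩
      rw [hf1, exp_le_exp]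
      have : 2 * g ≤ M := by omega
      exact_mod_cast this
    have hf2L : f₂ ∈ L D := by
      rw [hD, mem_L_single]
      refine ⟨?_, hf2'⟩
      rw [hf2, exp_le_exp]
      have : 2 * g + 1 ≤ M := by omega
      exact_mod_cast this
    have h1 := hall f₁ hf1L
    have h2 := hall f₂ hf2L
    rw [hy1, one_mul] at h1 h2
    have hz : P₀.1 (f₁ / f₂) = exp (-1 : ℤ) := by
      rw [map_div₀, hf1, hf2, ← exp_sub]
      congr 1
      push_cast
      ring
    have hzlt : P₀.1 (f₁ / f₂) < 1 := by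
      rw [hz, ← exp_zero, exp_lt_exp]; norm_num
    have := hP₀ _ hzlt
    rw [map_div₀, h1, h2, hz, exp_le_exp] at this
    omega
  obtain ⟨s, H, hH⟩ := Groth.Agent.Lib.LeadHF.exists_hasseFamily hK hgeo
  obtain ⟨J, hJ, -⟩ := exists_orders_hasse hK φ hφ τ hH
  obtain ⟨hfin, hbound⟩ := strong_fixed_bound hK τ φ hφ hτφ s H hH J hJ
  have hsum := strong_orders_sum hK τ P₀ hP₀ hn hng φ hφ hspan s H hH J hJ
  refine ⟨hfin, ∑ l, (J l : ℤ), Finset.sum_nonneg fun l _ => Int.natCast_nonneg _, hsum, ?_⟩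
  rw [hmap, hDdeg, hM] at hbound
  push_cast at hbound
  exact hbound

theorem strong_fixed_count [IsAlgClosed k] (hK : IsFunctionField k K) (τ : K →ₐ[k] K) (n : ℕ)
    (hn : genus k K < n) :
    {P : Place k K | ∀ x : K, P.1 x < 1 → P.1 (τ x) ≤ WithZero.exp (-2)}.Finite ∧
    (Set.ncard {P : Place k K | ∀ x : K, P.1 x < 1 → P.1 (τ x) ≤ WithZero.exp (-2)} : ℝ) ≤
      1 + Module.finrank τ.fieldRange K +
        (n + (Module.finrank τ.fieldRange K : ℝ) / n) * genus k K +
        2 * (genus k K : ℝ) ^ 2 * (genus k K - 1) / n := by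
  classical
  have hset : {P : Place k K | ∀ x : K, P.1 x < 1 → P.1 (τ x) ≤ WithZero.exp (-2)} =
      {P : Place k K | IsStrongFixedPt τ P} := rfl
  rw [hset]
  set S := {P : Place k K | IsStrongFixedPt τ P} with hS
  set q := Module.finrank τ.fieldRange K with hq
  set g := genus k K with hg
  have hn0 : 0 < n := by omega
  have hnR : (0 : ℝ) < n := by exact_mod_cast hn0
  have hqR : (0 : ℝ) ≤ q := Nat.cast_nonneg _
  have hgR : (0 : ℝ) ≤ g := Nat.cast_nonneg _
  have hRHS : (0 : ℝ) ≤ 1 + q + (n + (q : ℝ) / n) * g + 2 * (g : ℝ) ^ 2 * (g - 1) / n := by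
    rcases Nat.eq_zero_or_pos g with h0 | hpos
    · rw [h0]; simp; positivity
    · have : (1 : ℝ) ≤ g := by exact_mod_cast hpos
      have h1 : (0 : ℝ) ≤ 2 * (g : ℝ) ^ 2 * (g - 1) / n := by
        apply div_nonneg _ hnR.le
        apply mul_nonneg (by positivity) (by linarith)
      have h2 : (0 : ℝ) ≤ (n + (q : ℝ) / n) * g := by positivity
      linarith
  by_cases hempty : S = ∅
  · rw [hempty]
    refine ⟨Set.finite_empty, ?_⟩
    rw [Set.ncard_empty]
    simpa using hRHS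
  obtain ⟨P₀, hP₀⟩ := Set.nonempty_iff_ne_empty.mpr hempty
  rcases Nat.eq_zero_or_pos g with h0 | hpos
  · -- genus zero: use `n = 1`
    obtain ⟨hfin, Sg, hSg0, -, hb⟩ := strong_count hK τ P₀ hP₀ (n := 1) one_pos (by omega)
    refine ⟨hfin, ?_⟩
    rw [← hg, h0] at hb
    push_cast at hb
    have h1 : (S.ncard : ℤ) ≤ 1 + q := by nlinarith
    have h2 : (S.ncard : ℝ) ≤ 1 + q := by exact_mod_cast h1
    rw [h0]
    simpa using h2
  · obtain ⟨hfin, Sg, hSg0, hSg, hb⟩ := strong_count hK τ P₀ hP₀ hn0 hn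
    refine ⟨hfin, ?_⟩
    rw [← hg, ← hq] at hb
    rw [← hg] at hSg
    have hg1 : (1 : ℤ) ≤ g := by exact_mod_cast hpos
    have hb' : (n : ℤ) * (S.ncard : ℤ) ≤ ((n : ℤ) + q) * ((n : ℤ) + g) +
        ((g : ℤ) - 1) * ((n : ℤ) * (n - 1) + (g : ℤ) * (g + 1)) := by
      have : (2 * (g : ℤ) - 2) * Sg ≤ ((g : ℤ) - 1) * ((n : ℤ) * (n - 1) + (g : ℤ) * (g + 1)) := by
        have h5 : (0 : ℤ) ≤ (g : ℤ) - 1 := by linarith
        nlinarith
      linarith
    have hbR : (n : ℝ) * (S.ncard : ℝ) ≤ ((n : ℝ) + q) * ((n : ℝ) + g) +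
        ((g : ℝ) - 1) * ((n : ℝ) * (n - 1) + (g : ℝ) * (g + 1)) := by
      exact_mod_cast hb'
    have hg1R : (1 : ℝ) ≤ g := by exact_mod_cast hpos
    have key : (n : ℝ) * (S.ncard : ℝ) ≤
        n * (1 + q + (n + (q : ℝ) / n) * g + 2 * (g : ℝ) ^ 2 * (g - 1) / n) := by
      have e : (n : ℝ) * (1 + q + (n + (q : ℝ) / n) * g + 2 * (g : ℝ) ^ 2 * (g - 1) / n) =
          n + n * q + (n : ℝ) ^ 2 * g + q * g + 2 * (g : ℝ) ^ 2 * (g - 1) := by
        field_simp
        ring
      rw [e]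
      have h7 : (0 : ℝ) ≤ (g : ℝ) * ((g : ℝ) - 1) ^ 2 := by positivity
      nlinarith
    exact le_of_mul_le_mul_left key hnR

end Groth.Agent.Lib.LeadSF
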