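import Mathlib
import Groth.Agent.Lib.Helper17FFaith6
import Groth.Agent.Lib.Helper23QCohLocal

/-!
# Lead: the internal Hom of `M~` and `N~` on `Spec R` is `Hom_R(M, N)~` for `M` finitely presented

* `finitePresentation_of_surjective_algebraMap`: finite presentation descends along a surjective ring map;
* `isQuasicoherent_sHom_tilde`;
* `sHomTildeIso : sHom (tilde M) (tilde N) ≅ tilde (ModuleCat.of R (M →ₗ[R] N))`.
-/

set_option autoImplicit false
set_option linter.style.haveILetI false
universe u
open CategoryTheory CategoryTheory.Limits AlgebraicGeometry TopologicalSpace Opposite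

namespace Groth.Agent.Lib.LeadSHomTilde

open Groth.Agent.Lib.Helper17.FFaith

theorem finitePresentation_of_surjective_algebraMap {R S N : Type*} [CommRing R] [CommRing S]
    [Algebra R S] [AddCommGroup N] [Module R N] [Module S N] [IsScalarTower R S N]
    (h : Function.Surjective (algebraMap R S)) [Module.FinitePresentation R N] :
    Module.FinitePresentation S N := by
  haveI : Module.Finite R S := Module.Finite.of_surjective (Algebra.linearMap R S) h
  haveI : Module.Finite S N := Module.Finite.of_restrictScalars_finite R S N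
  obtain ⟨n, π, hπ⟩ := Module.Finite.exists_fin' S N
  have hk : (LinearMap.ker (π.restrictScalars R)).FG :=
    Module.FinitePresentation.fg_ker (π.restrictScalars R) hπ
  have hk' : (LinearMap.ker π).FG := by
    apply Submodule.FG.of_restrictScalars R
    rwa [← LinearMap.ker_restrictScalars]
  exact Module.finitePresentation_of_surjective π hπ hk'

noncomputable section

variable {R : CommRingCat.{u}} (M N : ModuleCat.{u} R)

theorem surjective_algebraMap_top :
    Function.Surjective (algebraMap R Γ(Spec R, ⊤)) :=
  (ConcreteCategory.bijective_of_isIso (Scheme.ΓSpecIso R).inv).surjective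

/-- `M ≃ Γ(M~, ⊤)`, `R`-linearly. -/
def topEquiv : M ≃ₗ[R] Γ(tilde M, ⊤) := (tilde.isoTop M).toLinearEquiv

instance finitePresentation_top [Module.FinitePresentation R M] :
    Module.FinitePresentation Γ(Spec R, ⊤) Γ(tilde M, ⊤) := by
  haveI : Module.FinitePresentation R Γ(tilde M, ⊤) :=
    Module.FinitePresentation.of_equiv (topEquiv M)
  exact finitePresentation_of_surjective_algebraMap (R := R) surjective_algebraMap_top

theorem isLocOn_sHom_tilde [Module.FinitePresentation R M] :
    Groth.Agent.Lib.Helper2.Push.IsLocOn (sHom (tilde M) (tilde N)) (⊤ : (Spec R).Opens) :=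
  isLocOn_sHom (tilde M) (tilde N) (isAffineOpen_top (Spec R))

theorem isOpenCover_punit_top (X : Scheme.{u}) :
    IsOpenCover (fun _ : PUnit.{u+1} => (⊤ : X.Opens)) := by
  rw [TopologicalSpace.IsOpenCover]
  exact iSup_const

theorem isQuasicoherent_of_isLocOn_top {X : Scheme.{u}} (hX : IsAffineOpen (⊤ : X.Opens)) (H : X.Modules)
    (hLoc : Groth.Agent.Lib.Helper2.Push.IsLocOn H (⊤ : X.Opens)) : H.IsQuasicoherent := by
  have h := Groth.Agent.Lib.Helper23.QCohLocal.isQuasicoherent_restrict_fromSpec_of_isLocOn hX H hLoc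
  exact Groth.Agent.Lib.Helper23.QCohLocal.isQuasicoherent_of_affine_cover H
    (fun _ : PUnit.{u+1} => (⊤ : X.Opens)) (isOpenCover_punit_top X)
    (fun _ => hX) (fun _ => h)

theorem isQuasicoherent_sHom_tilde [Module.FinitePresentation R M] :
    (sHom (tilde M) (tilde N)).IsQuasicoherent :=
  isQuasicoherent_of_isLocOn_top (isAffineOpen_top (Spec R)) _ (isLocOn_sHom_tilde M N)

/-- the `R`-linear map `M → N` attached to a global section of the internal Hom. -/
def homMap (s : Γ(sHom (tilde M) (tilde N), ⊤)) : M →ₗ[R] N :=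
  (topEquiv N).symm.toLinearMap ∘ₗ
    ((evΓEquiv (tilde M) (tilde N) (isAffineOpen_top (Spec R)) s).restrictScalars R) ∘ₗ
      (topEquiv M).toLinearMap

theorem homMap_apply (s : Γ(sHom (tilde M) (tilde N), ⊤)) (m : M) :
    homMap M N s m = (topEquiv N).symm
      (evΓEquiv (tilde M) (tilde N) (isAffineOpen_top (Spec R)) s (topEquiv M m)) := rfl

theorem homMap_add (s t : Γ(sHom (tilde M) (tilde N), ⊤)) :
    homMap M N (s + t) = homMap M N s + homMap M N t := by
  apply LinearMap.ext
  intro m
  rw [LinearMap.add_apply, homMap_apply, homMap_apply, homMap_apply, map_add, LinearMap.add_apply,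
    map_add]

theorem homMap_smul (r : R) (s : Γ(sHom (tilde M) (tilde N), ⊤)) :
    homMap M N (r • s) = r • homMap M N s := by
  apply LinearMap.ext
  intro m
  rw [LinearMap.smul_apply, homMap_apply, homMap_apply, ← algebraMap_smul Γ(Spec R, ⊤) r s, map_smul,
    LinearMap.smul_apply, algebraMap_smul, map_smul]

theorem homMap_injective : Function.Injective (homMap M N) := by
  intro s t h
  apply (evΓEquiv (tilde M) (tilde N) (isAffineOpen_top (Spec R))).injective
  apply LinearMap.ext
  intro x
  obtain ⟨m, rfl⟩ := (topEquiv M).surjective x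
  have h1 := LinearMap.congr_fun h m
  rw [homMap_apply, homMap_apply] at h1
  exact (topEquiv N).symm.injective h1

theorem homMap_surjective : Function.Surjective (homMap M N) := by
  intro ψ
  let φ : Γ(tilde M, ⊤) →ₗ[Γ(Spec R, ⊤)] Γ(tilde N, ⊤) :=
    { toFun := fun x => topEquiv N (ψ ((topEquiv M).symm x))
      map_add' := fun x y => by rw [map_add, map_add, map_add]
      map_smul' := fun a x => by
        obtain ⟨r, rfl⟩ := surjective_algebraMap_top (R := R) a
        rw [RingHom.id_apply, algebraMap_smul, algebraMap_smul, map_smul, map_smul, map_smul] }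
  refine ⟨(evΓEquiv (tilde M) (tilde N) (isAffineOpen_top (Spec R))).symm φ, ?_⟩
  apply LinearMap.ext
  intro m
  rw [homMap_apply, LinearEquiv.apply_symm_apply]
  change (topEquiv N).symm (topEquiv N (ψ ((topEquiv M).symm (topEquiv M m)))) = ψ m
  rw [LinearEquiv.symm_apply_apply, LinearEquiv.symm_apply_apply]

/-- global sections of the internal Hom of `M~`, `N~` are `Hom_R(M, N)`. -/
def gammaEquiv : Γ(sHom (tilde M) (tilde N), ⊤) ≃ₗ[R] (M →ₗ[R] N) :=
  LinearEquiv.ofBijective
    { toFun := homMap M N
      map_add' := homMap_add M N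
      map_smul' := homMap_smul M N }
    ⟨homMap_injective M N, homMap_surjective M N⟩

/-- the module of global sections of the internal Hom, as an object of `ModuleCat R`. -/
abbrev gammaSHom : ModuleCat.{u} R :=
  (modulesSpecToSheaf.obj (sHom (tilde M) (tilde N))).presheaf.obj (op ⊤)

/-- `Γ(ℋom(M~, N~)) ≅ Hom_R(M, N)` in `ModuleCat R`. -/
def gammaIso : gammaSHom M N ≅ ModuleCat.of R (M →ₗ[R] N) :=
  LinearEquiv.toModuleIso (X₁ := gammaSHom M N) (gammaEquiv M N)

/-- **The internal Hom of `M~` and `N~` is `Hom_R(M, N)~`** for `M` finitely presented. -/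
def sHomTildeIso [Module.FinitePresentation R M] :
    sHom (tilde M) (tilde N) ≅ tilde (ModuleCat.of R (M →ₗ[R] N)) := by
  haveI := isQuasicoherent_sHom_tilde M N
  haveI : IsIso (sHom (tilde M) (tilde N)).fromTildeΓ := inferInstance
  exact (asIso (sHom (tilde M) (tilde N)).fromTildeΓ).symm ≪≫ (tilde.functor R).mapIso (gammaIso M N)

end

end Groth.Agent.Lib.LeadSHomTilde
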