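import Groth.Agent.Lib.LeadRG1

/-! # Commutative algebras over a field with exactly two subalgebras, part 1 -/

namespace Groth.Agent.Lib.LeadSO

open Polynomial

universe u

section Basic

variable {κ A : Type u} [Field κ] [CommRing A] [Algebra κ A]
  (h : IsSimpleOrder (Subalgebra κ A))

include h

theorem nontrivial_of_simple : Nontrivial A := by
  by_contra hA
  rw [not_nontrivial_iff_subsingleton] at hA
  have : (⊥ : Subalgebra κ A) = ⊤ := by
    ext x
    simp only [Algebra.mem_top, iff_true]
    rw [Subsingleton.elim x 0]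
    exact Subalgebra.zero_mem _
  exact (bot_ne_top (α := Subalgebra κ A)) this

theorem adjoin_eq_top {y : A} (hy : y ∉ (⊥ : Subalgebra κ A)) :
    Algebra.adjoin κ ({y} : Set A) = ⊤ := by
  rcases h.eq_bot_or_eq_top (Algebra.adjoin κ ({y} : Set A)) with h1 | h1
  · exfalso
    apply hy
    rw [← h1]
    exact Algebra.subset_adjoin rfl
  · exact h1

theorem eq_top_of_mem {S : Subalgebra κ A} {y : A} (hy : y ∉ (⊥ : Subalgebra κ A)) (hyS : y ∈ S) :
    S = ⊤ := by
  rcases h.eq_bot_or_eq_top S with h1 | h1
  · exact absurd (h1 ▸ hyS) hy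
  · exact h1

theorem exists_notMem_bot : ∃ x : A, x ∉ (⊥ : Subalgebra κ A) := by
  by_contra hcon
  push_neg at hcon
  have : (⊥ : Subalgebra κ A) = ⊤ := by
    ext x
    simp only [Algebra.mem_top, iff_true]
    exact hcon x
  exact (bot_ne_top (α := Subalgebra κ A)) this

theorem isAlgebraic_of_notMem_bot {x : A} (hx : x ∉ (⊥ : Subalgebra κ A)) : IsAlgebraic κ x := by
  by_contra htr
  have hinj : Function.Injective (aeval (R := κ) x) := transcendental_iff_injective.mp htr
  rcases h.eq_bot_or_eq_top (Algebra.adjoin κ ({x ^ 2} : Set A)) with h1 | h1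
  · have hx2 : x ^ 2 ∈ (⊥ : Subalgebra κ A) := by
      rw [← h1]; exact Algebra.subset_adjoin rfl
    obtain ⟨c, hc⟩ := Algebra.mem_bot.mp hx2
    have h0 : aeval x (X ^ 2 - C c : κ[X]) = 0 := by
      rw [map_sub, map_pow, aeval_X, aeval_C, hc, sub_self]
    have h2 : (X ^ 2 - C c : κ[X]) = 0 := hinj (by rw [h0, map_zero])
    exact X_pow_sub_C_ne_zero (by norm_num) c h2
  · have hxm : x ∈ Algebra.adjoin κ ({x ^ 2} : Set A) := by rw [h1]; trivial
    rw [Algebra.adjoin_singleton_eq_range_aeval] at hxm
    obtain ⟨p, hp⟩ := hxm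
    have h0 : aeval x (expand κ 2 p - X) = 0 := by
      rw [map_sub, expand_aeval, aeval_X]
      exact sub_eq_zero.mpr hp
    have h2 : expand κ 2 p - X = 0 := hinj (by rw [h0, map_zero])
    have h3 := congrArg (fun q : κ[X] => q.coeff 1) h2
    simp only [coeff_sub, coeff_X_one, coeff_zero] at h3
    rw [coeff_expand (by norm_num : 0 < 2)] at h3
    simp at h3

theorem finiteDimensional_of_simple : FiniteDimensional κ A := by
  obtain ⟨x, hx⟩ := exists_notMem_bot h
  have halg := isAlgebraic_of_notMem_bot h hx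
  have hfin : Module.Finite κ (Algebra.adjoin κ ({x} : Set A)) :=
    Algebra.finite_adjoin_simple_of_isIntegral halg.isIntegral
  have htop := adjoin_eq_top h hx
  rw [htop] at hfin
  exact Module.Finite.equiv (Subalgebra.topEquiv (R := κ) (A := A)).toLinearEquiv

/-- an element of the base field image squaring to itself is `0` or `1`, etc.: scalars are
determined by their images -/
theorem algebraMap_injective' : Function.Injective (algebraMap κ A) := by
  haveI := nontrivial_of_simple h
  exact (algebraMap κ A).injective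

end Basic

section DualNumbers

variable {κ A : Type u} [Field κ] [CommRing A] [Algebra κ A]
  (h : IsSimpleOrder (Subalgebra κ A))

include h

theorem nonempty_equiv_dualNumber (hred : ¬ IsReduced A) : Nonempty (A ≃ₐ[κ] DualNumber κ) := by
  classical
  haveI := nontrivial_of_simple h
  have hinjκ := algebraMap_injective' h
  rw [isReduced_iff] at hred
  push_neg at hred
  obtain ⟨z, hznil, hz0⟩ := hred
  have hex : ∃ n : ℕ, z ^ n = 0 := hznil
  set n := Nat.find hex with hn
  have hzn : z ^ n = 0 := Nat.find_spec hex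
  have hn0 : n ≠ 0 := by
    intro h0
    rw [h0, pow_zero] at hzn
    exact one_ne_zero hzn
  have hn1 : n ≠ 1 := by
    intro h1
    rw [h1, pow_one] at hzn
    exact hz0 hzn
  have hn2 : 2 ≤ n := by omega
  set w := z ^ (n - 1) with hw
  have hw0 : w ≠ 0 := Nat.find_min hex (by omega : n - 1 < n)
  have hww : w * w = 0 := by
    rw [hw, ← pow_add]
    have : n - 1 + (n - 1) = n + (n - 2) := by omega
    rw [this, pow_add, hzn, zero_mul]
  have hwbot : w ∉ (⊥ : Subalgebra κ A) := by
    intro hmem
    obtain ⟨c, hc⟩ := Algebra.mem_bot.mp hmem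
    have hc2 : algebraMap κ A (c * c) = algebraMap κ A 0 := by
      rw [map_mul, hc, hww, map_zero]
    have hc0 : c = 0 := by
      have := hinjκ hc2
      exact mul_self_eq_zero.mp this
    apply hw0
    rw [← hc, hc0, map_zero]
  let φ : DualNumber κ →ₐ[κ] A :=
    DualNumber.lift ⟨(Algebra.ofId κ A, w), hww, fun a => Commute.all _ _⟩
  have hφ : ∀ y : DualNumber κ, φ y = algebraMap κ A y.fst + algebraMap κ A y.snd * w := by
    intro y
    rfl
  have hinj : Function.Injective φ := by
    rw [injective_iff_map_eq_zero]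
    intro y hy
    rw [hφ] at hy
    have hsnd : y.snd = 0 := by
      by_contra hne
      apply hwbot
      rw [Algebra.mem_bot]
      refine ⟨-(y.fst / y.snd), ?_⟩
      have h1 : algebraMap κ A y.snd * w = -algebraMap κ A y.fst := by
        rw [eq_neg_iff_add_eq_zero, add_comm]; exact hy
      have h2 : algebraMap κ A (y.snd)⁻¹ * (algebraMap κ A y.snd * w) = w := by
        rw [← mul_assoc, ← map_mul, inv_mul_cancel₀ hne, map_one, one_mul]
      rw [← h2, h1, map_neg, div_eq_mul_inv, map_mul]
      ring
    rw [hsnd, map_zero, zero_mul, add_zero] at hy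
    have hfst : y.fst = 0 := hinjκ (by rw [hy, map_zero])
    exact TrivSqZeroExt.ext hfst hsnd
  have hsurj : Function.Surjective φ := by
    rw [← AlgHom.range_eq_top]
    apply eq_top_of_mem h hwbot
    refine ⟨DualNumber.eps, ?_⟩
    exact DualNumber.lift_apply_eps _
  exact ⟨(AlgEquiv.ofBijective φ ⟨hinj, hsurj⟩).symm⟩

end DualNumbers

end Groth.Agent.Lib.LeadSO
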