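import Groth.Agent.Lib.LeadSO1

/-! # Commutative algebras over a field with exactly two subalgebras, part 2 -/

namespace Groth.Agent.Lib.LeadSO

open Polynomial

universe u

section Prod

variable {κ A : Type u} [Field κ] [CommRing A] [Algebra κ A]
  (h : IsSimpleOrder (Subalgebra κ A))

include h

/-- a nontrivial idempotent gives `A ≅ κ × κ` -/
theorem nonempty_equiv_prod_of_idempotent {e : A} (he : e * e = e) (he0 : e ≠ 0) (he1 : e ≠ 1) :
    Nonempty (A ≃ₐ[κ] (κ × κ)) := by
  classical
  haveI := nontrivial_of_simple h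
  have hinjκ := algebraMap_injective' h
  have hebot : e ∉ (⊥ : Subalgebra κ A) := by
    intro hmem
    obtain ⟨c, hc⟩ := Algebra.mem_bot.mp hmem
    have hc2 : algebraMap κ A (c * c) = algebraMap κ A c := by
      rw [map_mul, hc, he]
    have hcc : c * c = c := hinjκ hc2
    have : c = 0 ∨ c = 1 := by
      have h3 : c * (c - 1) = 0 := by rw [mul_sub, hcc, mul_one, sub_self]
      rcases mul_eq_zero.mp h3 with h4 | h4
      · left; exact h4
      · right; exact sub_eq_zero.mp h4
    rcases this with h4 | h4
    · apply he0; rw [← hc, h4, map_zero]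
    · apply he1; rw [← hc, h4, map_one]
  have he' : e * (1 - e) = 0 := by rw [mul_sub, mul_one, he, sub_self]
  have he'' : (1 - e) * (1 - e) = 1 - e := by
    rw [sub_mul, one_mul, mul_sub, mul_one, he, sub_self, sub_zero]
  let φ : (κ × κ) →ₐ[κ] A :=
    { toFun := fun p => algebraMap κ A p.1 * e + algebraMap κ A p.2 * (1 - e)
      map_one' := by
        simp only [Prod.fst_one, Prod.snd_one, map_one, one_mul]
        ring
      map_mul' := fun p q => by
        simp only [Prod.fst_mul, Prod.snd_mul, map_mul]
        have h1 : (algebraMap κ A p.1 * e + algebraMap κ A p.2 * (1 - e)) *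
            (algebraMap κ A q.1 * e + algebraMap κ A q.2 * (1 - e)) =
            algebraMap κ A p.1 * algebraMap κ A q.1 * (e * e) +
            (algebraMap κ A p.1 * algebraMap κ A q.2 + algebraMap κ A p.2 * algebraMap κ A q.1) *
              (e * (1 - e)) +
            algebraMap κ A p.2 * algebraMap κ A q.2 * ((1 - e) * (1 - e)) := by ring
        rw [h1, he, he', he'', mul_zero, add_zero]
      map_zero' := by simp
      map_add' := fun p q => by
        simp only [Prod.fst_add, Prod.snd_add, map_add]
        ring
      commutes' := fun c => by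
        simp only [Prod.algebraMap_apply, Algebra.algebraMap_self_apply]
        ring }
  have hφ : ∀ p : κ × κ, φ p = algebraMap κ A p.1 * e + algebraMap κ A p.2 * (1 - e) :=
    fun p => rfl
  have hinj : Function.Injective φ := by
    rw [injective_iff_map_eq_zero]
    intro p hp
    rw [hφ] at hp
    have h1 : algebraMap κ A p.1 * e = 0 := by
      have := congrArg (fun t => t * e) hp
      simp only [add_mul, zero_mul] at this
      rw [mul_assoc, he, mul_assoc, mul_comm (1 - e) e, he', mul_zero, add_zero] at this
      exact this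
    have h2 : algebraMap κ A p.2 * (1 - e) = 0 := by
      rw [h1, zero_add] at hp
      exact hp
    have hp1 : p.1 = 0 := by
      by_contra hne
      apply he0
      have : algebraMap κ A (p.1)⁻¹ * (algebraMap κ A p.1 * e) = e := by
        rw [← mul_assoc, ← map_mul, inv_mul_cancel₀ hne, map_one, one_mul]
      rw [← this, h1, mul_zero]
    have hp2 : p.2 = 0 := by
      by_contra hne
      apply he1
      have : algebraMap κ A (p.2)⁻¹ * (algebraMap κ A p.2 * (1 - e)) = 1 - e := by
        rw [← mul_assoc, ← map_mul, inv_mul_cancel₀ hne, map_one, one_mul]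
      rw [h2, mul_zero] at this
      exact (sub_eq_zero.mp this.symm).symm
    exact Prod.ext hp1 hp2
  have hsurj : Function.Surjective φ := by
    rw [← AlgHom.range_eq_top]
    apply eq_top_of_mem h hebot
    refine ⟨(1, 0), ?_⟩
    show φ (1, 0) = e
    rw [hφ]
    simp
  exact ⟨(AlgEquiv.ofBijective φ ⟨hinj, hsurj⟩).symm⟩

/-- a reduced finite algebra which is not a field has a nontrivial idempotent -/
theorem exists_idempotent_of_not_isField [FiniteDimensional κ A] (hred : IsReduced A)
    (hfld : ¬ IsField A) : ∃ e : A, e * e = e ∧ e ≠ 0 ∧ e ≠ 1 := by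
  classical
  haveI := nontrivial_of_simple h
  obtain ⟨y, hy0, hyu⟩ : ∃ y : A, y ≠ 0 ∧ ¬ IsUnit y := by
    by_contra hcon
    push_neg at hcon
    apply hfld
    exact ⟨⟨0, 1, zero_ne_one⟩, mul_comm, fun {a} ha => (hcon a ha).exists_right_inv⟩
  have hint : IsIntegral κ y := Algebra.IsIntegral.isIntegral y
  set p := minpoly κ y with hp
  have hpm : p.Monic := minpoly.monic hint
  have hpy : aeval y p = 0 := minpoly.aeval κ y
  set q := divX p with hq
  have hpq : X * q + C (p.coeff 0) = p := X_mul_divX_add p
  have hc0 : p.coeff 0 = 0 := by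
    by_contra hne
    apply hyu
    have h1 : y * aeval y q + algebraMap κ A (p.coeff 0) = 0 := by
      have := hpy
      rw [← hpq, map_add, map_mul, aeval_X, aeval_C] at this
      exact this
    have h2 : y * (-(aeval y q) * algebraMap κ A (p.coeff 0)⁻¹) = 1 := by
      have h3 : y * aeval y q = -algebraMap κ A (p.coeff 0) := eq_neg_of_add_eq_zero_left h1
      calc y * (-(aeval y q) * algebraMap κ A (p.coeff 0)⁻¹)
          = -(y * aeval y q) * algebraMap κ A (p.coeff 0)⁻¹ := by ring
        _ = algebraMap κ A (p.coeff 0) * algebraMap κ A (p.coeff 0)⁻¹ := by rw [h3, neg_neg]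
        _ = 1 := by rw [← map_mul, mul_inv_cancel₀ hne, map_one]
    exact IsUnit.of_mul_eq_one _ h2
  have hpXq : p = X * q := by
    rw [← hpq, hc0, map_zero, add_zero]
  have hq0 : q ≠ 0 := by
    intro hq0
    rw [hq0, mul_zero] at hpXq
    exact hpm.ne_zero hpXq
  have hXq : ¬ (X : κ[X]) ∣ q := by
    rintro ⟨r, hr⟩
    have h1 : (y * aeval y r) ^ 2 = 0 := by
      have : aeval y p * aeval y r = 0 := by rw [hpy, zero_mul]
      rw [hpXq, hr, map_mul, map_mul, aeval_X] at this
      rw [sq]
      rw [← this]
      ring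
    have h2 : y * aeval y r = 0 := by
      have hnil : IsNilpotent (y * aeval y r) := ⟨2, h1⟩
      exact hred.eq_zero _ hnil
    have h3 : aeval y (X * r) = 0 := by rw [map_mul, aeval_X, h2]
    have hr0 : r ≠ 0 := by
      rintro rfl
      rw [mul_zero] at hr
      exact hq0 hr
    have h4 : p ∣ X * r := minpoly.dvd κ y h3
    have h5 := natDegree_le_of_dvd h4 (mul_ne_zero X_ne_zero hr0)
    rw [hpXq, hr, natDegree_mul X_ne_zero (mul_ne_zero X_ne_zero hr0),
      natDegree_mul X_ne_zero hr0, natDegree_X] at h5
    omega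
  have hcop : IsCoprime (X : κ[X]) q := (irreducible_X.coprime_iff_not_dvd).mpr hXq
  obtain ⟨a, b, hab⟩ := hcop
  refine ⟨aeval y (b * q), ?_, ?_, ?_⟩
  · have h1 : aeval y (b * q) * (1 - aeval y (b * q)) = 0 := by
      have h2 : (1 : A) - aeval y (b * q) = aeval y (a * X) := by
        have h3 : aeval y (a * X + b * q) = 1 := by rw [hab, map_one]
        rw [← h3, map_add, add_sub_cancel_right]
      rw [h2, ← map_mul]
      have : b * q * (a * X) = a * b * p := by rw [hpXq]; ring
      rw [this, map_mul, hpy, mul_zero]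
    rw [mul_sub, mul_one, sub_eq_zero] at h1
    exact h1.symm
  · intro h0
    have h1 : p ∣ b * q := minpoly.dvd κ y h0
    rw [hpXq] at h1
    have h2 : (X : κ[X]) ∣ b := by
      obtain ⟨s, hs⟩ := h1
      have : q * b = q * (X * s) := by rw [mul_comm q b, hs]; ring
      exact ⟨s, mul_left_cancel₀ hq0 this⟩
    have h3 : (X : κ[X]) ∣ 1 := by
      rw [← hab]
      exact dvd_add (dvd_mul_left X a) (dvd_mul_of_dvd_left h2 q)
    exact not_isUnit_X (isUnit_of_dvd_one h3)
  · intro h1
    have h2 : aeval y (a * X) = 0 := by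
      have : aeval y (a * X + b * q) = 1 := by rw [hab, map_one]
      rw [map_add, h1] at this
      exact add_eq_right.mp this
    have h3 : p ∣ a * X := minpoly.dvd κ y h2
    rw [hpXq] at h3
    have h4 : q ∣ a := by
      obtain ⟨s, hs⟩ := h3
      have : X * a = X * (q * s) := by rw [mul_comm X a, hs]; ring
      exact ⟨s, mul_left_cancel₀ X_ne_zero this⟩
    have h5 : q ∣ 1 := by
      rw [← hab]
      exact dvd_add (dvd_mul_of_dvd_left h4 X) (dvd_mul_left q b)
    have hqu : IsUnit q := isUnit_of_dvd_one h5
    have hqdeg : q.natDegree = 0 := natDegree_eq_zero_of_isUnit hqu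
    have hpdeg : p.natDegree = 1 := by
      rw [hpXq, natDegree_mul X_ne_zero hq0, natDegree_X, hqdeg]
    -- a monic polynomial of degree one with zero constant term is `X`
    have hpX : p = X := by
      have h6 := hpm.eq_X_add_C hpdeg
      rw [hc0, map_zero, add_zero] at h6
      exact h6
    apply hy0
    have := hpy
    rw [hpX, aeval_X] at this
    exact this

end Prod

end Groth.Agent.Lib.LeadSO
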