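import Groth.Agent.Lib.LeadSO2

/-! # Commutative algebras over a field with exactly two subalgebras, part 3 -/

namespace Groth.Agent.Lib.LeadSO

open Polynomial

universe u

section FieldCase

variable {κ A : Type u} [Field κ] [CommRing A] [Algebra κ A]
  (h : IsSimpleOrder (Subalgebra κ A))

include h

theorem field_case [IsDomain A] [FiniteDimensional κ A] :
    Algebra.IsSeparable κ A ∨ ∃ (p : ℕ) (a : κ), p.Prime ∧ CharP κ p ∧ (∀ b : κ, b ^ p ≠ a) ∧
      Nonempty (A ≃ₐ[κ] AdjoinRoot (X ^ p - C a)) := by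
  classical
  by_cases hsep : Algebra.IsSeparable κ A
  · exact Or.inl hsep
  right
  rw [Algebra.isSeparable_def] at hsep
  push_neg at hsep
  obtain ⟨y, hy⟩ := hsep
  have hint : IsIntegral κ y := Algebra.IsIntegral.isIntegral y
  obtain ⟨p, hp⟩ := CharP.exists κ
  haveI := hp
  set f := minpoly κ y with hf
  have hfirr : Irreducible f := minpoly.irreducible hint
  have hfns : ¬ f.Separable := hy
  have hp0 : p ≠ 0 := by
    intro h0
    subst h0
    haveI : CharZero κ := CharP.charP_to_charZero κ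
    exact hfns hfirr.separable
  have hpp : p.Prime := (CharP.char_is_prime_or_zero κ p).resolve_right hp0
  haveI : Fact p.Prime := ⟨hpp⟩
  obtain ⟨g, hgirr, hgf⟩ := ((Polynomial.separable_or p hfirr).resolve_left hfns).2
  have hybot : y ∉ (⊥ : Subalgebra κ A) := by
    intro hmem
    obtain ⟨c, hc⟩ := Algebra.mem_bot.mp hmem
    apply hy
    rw [← hc]
    exact isSeparable_algebraMap c
  have hytop := adjoin_eq_top h hybot
  have hgy : aeval (y ^ p) g = 0 := by
    rw [← expand_aeval, hgf, hf, minpoly.aeval]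
  have hfdeg : f.natDegree = g.natDegree * p := by rw [← hgf, natDegree_expand]
  have hgdeg : 0 < g.natDegree := hgirr.natDegree_pos
  have hrankA : Module.finrank κ A = f.natDegree := by
    rw [← Groth.Agent.Lib.LeadRG.finrank_adjoin_singleton y hint, hytop]
    exact (Subalgebra.topEquiv (R := κ) (A := A)).toLinearEquiv.finrank_eq.symm
  have hypbot : y ^ p ∈ (⊥ : Subalgebra κ A) := by
    by_contra hne
    have htop := adjoin_eq_top h hne
    have hintp : IsIntegral κ (y ^ p) := Algebra.IsIntegral.isIntegral _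
    have hrank2 : Module.finrank κ A = (minpoly κ (y ^ p)).natDegree := by
      rw [← Groth.Agent.Lib.LeadRG.finrank_adjoin_singleton (y ^ p) hintp, htop]
      exact (Subalgebra.topEquiv (R := κ) (A := A)).toLinearEquiv.finrank_eq.symm
    have hle : (minpoly κ (y ^ p)).natDegree ≤ g.natDegree :=
      natDegree_le_of_dvd (minpoly.dvd κ _ hgy) hgirr.ne_zero
    rw [hrankA, hfdeg] at hrank2
    have h2 : 2 ≤ p := hpp.two_le
    nlinarith
  obtain ⟨a, ha⟩ := Algebra.mem_bot.mp hypbot
  haveI : CharP A p := charP_of_injective_algebraMap (algebraMap κ A).injective p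
  have hab : ∀ b : κ, b ^ p ≠ a := by
    intro b hb
    apply hybot
    have h1 : (y - algebraMap κ A b) ^ p = 0 := by
      rw [sub_pow_char, ← map_pow, hb, ha, sub_self]
    have h2 : y - algebraMap κ A b = 0 := pow_eq_zero_iff hpp.ne_zero |>.mp h1
    rw [Algebra.mem_bot]
    exact ⟨b, (sub_eq_zero.mp h2).symm⟩
  have hirr : Irreducible (X ^ p - C a : κ[X]) := X_pow_sub_C_irreducible_of_prime hpp hab
  haveI : Fact (Irreducible (X ^ p - C a : κ[X])) := ⟨hirr⟩
  refine ⟨p, a, hpp, hp, hab, ?_⟩
  let ψ : AdjoinRoot (X ^ p - C a : κ[X]) →ₐ[κ] A :=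
    AdjoinRoot.liftAlgHom (X ^ p - C a : κ[X]) (Algebra.ofId κ A) y (by
      rw [eval₂_sub, eval₂_pow, eval₂_X, eval₂_C]
      show y ^ p - algebraMap κ A a = 0
      rw [ha, sub_self])
  have hψroot : ψ (AdjoinRoot.root _) = y := AdjoinRoot.liftAlgHom_root _ _ _ _
  have hinj : Function.Injective ψ := (ψ : AdjoinRoot (X ^ p - C a : κ[X]) →+* A).injective
  have hsurj : Function.Surjective ψ := by
    rw [← AlgHom.range_eq_top]
    apply eq_top_of_mem h hybot
    exact ⟨AdjoinRoot.root _, hψroot⟩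
  exact ⟨(AlgEquiv.ofBijective ψ ⟨hinj, hsurj⟩).symm⟩

end FieldCase

section Main

variable (κ A : Type u) [Field κ] [CommRing A] [Algebra κ A]

theorem structure_of_isSimpleOrder (h : IsSimpleOrder (Subalgebra κ A)) :
    FiniteDimensional κ A ∧
      (Nonempty (A ≃ₐ[κ] DualNumber κ) ∨ Nonempty (A ≃ₐ[κ] (κ × κ)) ∨
        (IsField A ∧ (Algebra.IsSeparable κ A ∨ ∃ (p : ℕ) (a : κ), p.Prime ∧ CharP κ p ∧
          (∀ b : κ, b ^ p ≠ a) ∧ Nonempty (A ≃ₐ[κ] AdjoinRoot (X ^ p - C a))))) := by
  have hfin := finiteDimensional_of_simple h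
  refine ⟨hfin, ?_⟩
  by_cases hred : IsReduced A
  · by_cases hfld : IsField A
    · right; right
      refine ⟨hfld, ?_⟩
      haveI : IsDomain A := hfld.isDomain
      exact field_case h
    · right; left
      obtain ⟨e, he, he0, he1⟩ := exists_idempotent_of_not_isField h hred hfld
      exact nonempty_equiv_prod_of_idempotent h he he0 he1
  · left
    exact nonempty_equiv_dualNumber h hred

end Main

end Groth.Agent.Lib.LeadSO
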