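import Groth.Agent.Lib.LeadNM3
import Groth.Agent.Lib.LeadIG1
import Mathlib.RingTheory.Discriminant
import Mathlib.FieldTheory.SeparableDegree

/-! Separable residue fields at places where a power basis has unit discriminant. -/

namespace Groth.Agent.Lib.LeadSP

attribute [-instance] IsLocalRing.instModuleResidueFieldOfAlgebra

open FunFld WithZero Polynomial

variable {k K K' : Type*} [Field k] [Field K] [Field K'] [Algebra k K] [Algebra K K']
  [Algebra k K'] [IsScalarTower k K K'] [FiniteDimensional K K']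

/-- inclusion of valuation rings for a place over another. -/
noncomputable def ι {Q : Place k K'} {P : Place k K} (h : IsOver Q P) : P.O →+* Q.O :=
  ((algebraMap K K').comp P.O.subtype).codRestrict Q.O
    (fun a => (Valuation.mem_valuationSubring_iff _ _).mpr (LeadCE.val_algebraMap_le_one h a))

lemma coe_ι {Q : Place k K'} {P : Place k K} (h : IsOver Q P) (a : P.O) :
    ((ι h a : Q.O) : K') = algebraMap K K' (a : K) := rfl

lemma residue_comp_ι {Q : Place k K'} {P : Place k K} (h : IsOver Q P) (ρ : P.O →+* k)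
    (hρ : ∀ w : P.O, P.1 ((w : K) - algebraMap k K (ρ w)) < 1) :
    (IsLocalRing.residue Q.O).comp (ι h) =
      (algebraMap k (IsLocalRing.ResidueField Q.O)).comp ρ := by
  ext w
  simp only [RingHom.comp_apply]
  have e : algebraMap k (IsLocalRing.ResidueField Q.O) (ρ w) =
      IsLocalRing.residue Q.O (algebraMap k Q.O (ρ w)) := rfl
  rw [e, ← sub_eq_zero, ← map_sub, LeadFG.residue_eq_zero_iff]
  have e2 : ((ι h w - algebraMap k Q.O (ρ w) : Q.O) : K') =
      algebraMap K K' ((w : K) - algebraMap k K (ρ w)) := by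
    rw [map_sub, ← IsScalarTower.algebraMap_apply]; rfl
  rw [e2]
  exact LeadCE.val_unif_lt_one h (hρ w)

theorem isSeparable_residue (hK : IsFunctionField k K) [Algebra.IsSeparable K K']
    (B : PowerBasis K K') (P : Place k K) (ρ : P.O →+* k)
    (hρ : ∀ w : P.O, P.1 ((w : K) - algebraMap k K (ρ w)) < 1)
    (hd : P.1 (Algebra.discr K B.basis) = 1)
    (hint : ∀ i, P.1 ((minpoly K B.gen).coeff i) ≤ 1)
    (Q : Place k K') (hQ : IsOver Q P) :
    Algebra.IsSeparable k (IsLocalRing.ResidueField Q.O) := by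
  classical
  letI : Algebra P.O K' := ((algebraMap K K').comp (algebraMap P.O K)).toAlgebra
  haveI : IsScalarTower P.O K K' := IsScalarTower.of_algebraMap_eq (fun _ => rfl)
  set θ := B.gen with hθ
  set g := minpoly K θ with hg
  have hgm : g.Monic := minpoly.monic B.isIntegral_gen
  have hlift : g ∈ Polynomial.lifts (algebraMap P.O K) := by
    rw [Polynomial.lifts_iff_coeff_lifts]
    intro i
    exact ⟨⟨g.coeff i, (Valuation.mem_valuationSubring_iff _ _).mpr (hint i)⟩, rfl⟩
  obtain ⟨gt, hgt, -, hgtm⟩ := Polynomial.lifts_and_natDegree_eq_and_monic hlift hgm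
  have hmapeval : ∀ q : (P.O)[X], eval₂ (algebraMap P.O K') θ q =
      aeval θ (q.map (algebraMap P.O K)) := by
    intro q
    rw [aeval_def, Polynomial.eval₂_map]; rfl
  have hgt0 : eval₂ (algebraMap P.O K') θ gt = 0 := by
    rw [hmapeval, hgt]; exact minpoly.aeval K θ
  have hθint : IsIntegral P.O θ := ⟨gt, hgtm, hgt0⟩
  have hθ1 : Q.1 θ ≤ 1 := LeadCE.val_le_one_of_isIntegral_over hQ hθint
  let θO : Q.O := ⟨θ, (Valuation.mem_valuationSubring_iff _ _).mpr hθ1⟩
  set θb := IsLocalRing.residue Q.O θO with hθb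
  have hcomp := residue_comp_ι hQ ρ hρ
  have key : ∀ q : (P.O)[X], IsLocalRing.residue Q.O (eval₂ (ι hQ) θO q) = aeval θb (q.map ρ) := by
    intro q
    rw [Polynomial.hom_eval₂, hcomp, aeval_def, Polynomial.eval₂_map]
  have coe : ∀ q : (P.O)[X], ((eval₂ (ι hQ) θO q : Q.O) : K') =
      eval₂ (algebraMap P.O K') θ q := by
    intro q
    exact Polynomial.hom_eval₂ q (ι hQ) Q.O.subtype θO
  have hd0 : Algebra.discr K B.basis ≠ 0 := by
    intro h; rw [h, map_zero] at hd; exact zero_ne_one hd
  -- the residue field is generated by `θb`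
  have span : ∀ zb : IsLocalRing.ResidueField Q.O, ∃ h : k[X], zb = aeval θb h := by
    intro zb
    obtain ⟨z, rfl⟩ := IsLocalRing.residue_surjective zb
    obtain ⟨α, hα1, hα2⟩ := LeadIG.exists_approx_elt hK hQ (z : K')
    have hz1 : Q.1 (z : K') ≤ 1 := (Valuation.mem_valuationSubring_iff _ _).mp z.2
    have hαQ : Q.1 α ≤ 1 := by
      have : α = (α - z) + z := by ring
      rw [this]; exact (Q.1.map_add _ _).trans (max_le hα1.le hz1)
    have hαint : IsIntegral P.O α := by
      apply LeadCE.isIntegral_of_forall_over hK P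
      intro Q' hQ'
      by_cases hQQ : Q' = Q
      · rw [hQQ]; exact hαQ
      · exact (hα2 Q' hQ' hQQ).le
    have hmem := Algebra.discr_mul_isIntegral_mem_adjoin (R := P.O) (K := K) (B := B) hθint hαint
    rw [Algebra.adjoin_singleton_eq_range_aeval] at hmem
    obtain ⟨q, hq⟩ := hmem
    let dinv : P.O := ⟨(Algebra.discr K B.basis)⁻¹,
      (Valuation.mem_valuationSubring_iff _ _).mpr (by rw [map_inv₀, hd, inv_one])⟩
    have hq' : eval₂ (algebraMap P.O K') θ (C dinv * q) = α := by
      rw [eval₂_mul, eval₂_C]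
      have h1 : eval₂ (algebraMap P.O K') θ q = Algebra.discr K B.basis • α := hq
      rw [h1, Algebra.smul_def, ← mul_assoc]
      have h2 : algebraMap P.O K' dinv = algebraMap K K' (Algebra.discr K B.basis)⁻¹ := rfl
      rw [h2, ← map_mul, inv_mul_cancel₀ hd0, map_one, one_mul]
    refine ⟨(C dinv * q).map ρ, ?_⟩
    rw [← key, ← sub_eq_zero, ← map_sub, LeadFG.residue_eq_zero_iff]
    have e : ((z - eval₂ (ι hQ) θO (C dinv * q) : Q.O) : K') = (z : K') - α := by
      rw [← hq', ← coe]; rfl
    rw [e, Valuation.map_sub_swap]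
    exact hα1
  -- the value of `g'(θ)` at `Q` is `1`
  set y := aeval θ (derivative g) with hy
  have hN : P.1 (Algebra.norm K y) = 1 := by
    have h := Algebra.discr_powerBasis_eq_norm (K := K) B
    rw [h, map_mul, map_pow, Valuation.map_neg, map_one, one_pow, one_mul] at hd
    exact hd
  have hy0 : y ≠ 0 := by
    intro h0
    rw [h0, Algebra.norm_zero, map_zero] at hN
    exact zero_ne_one hN
  have hyeq : y = eval₂ (algebraMap P.O K') θ (derivative gt) := by
    rw [hmapeval, ← derivative_map, hgt]
  have hyint : IsIntegral P.O y := by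
    rw [hyeq, ← aeval_def]
    have hle : Algebra.adjoin P.O {θ} ≤ integralClosure P.O K' :=
      Algebra.adjoin_le (Set.singleton_subset_iff.mpr hθint)
    exact hle (Polynomial.aeval_mem_adjoin_singleton _ _)
  have hK' : LeadFG.IsFF k K' := LeadFF.isFF_of_finite hK
  have hQy : Q.1 y = 1 := by
    have hfin := LeadFF.finite_over (K' := K') hK P
    have hform := LeadNM.norm_formula hK P y hfin.toFinset
      (fun Q' => hfin.mem_toFinset)
    have hordN : P.ord (Algebra.norm K y) = 0 := by
      unfold Place.ord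
      rw [hN]; simp
    rw [hordN, mul_zero] at hform
    have hnn : ∀ Q' ∈ hfin.toFinset, 0 ≤ (Q'.deg : ℤ) * Q'.ord y := by
      intro Q' hQ'
      have hQ'P : IsOver Q' P := hfin.mem_toFinset.mp hQ'
      apply mul_nonneg (by positivity)
      by_contra hneg
      rw [not_le, LeadFF.ord_neg_iff Q' hy0] at hneg
      exact absurd (LeadCE.val_le_one_of_isIntegral_over hQ'P hyint) (not_le.mpr hneg)
    have hz := (Finset.sum_eq_zero_iff_of_nonneg hnn).mp hform.symm Q
      (hfin.mem_toFinset.mpr hQ)
    have hdeg : (Q.deg : ℤ) ≠ 0 := by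
      have := LeadFG.deg_pos hK' Q
      exact_mod_cast this.ne'
    have hord : Q.ord y = 0 := by
      rcases mul_eq_zero.mp hz with h | h
      · exact absurd h hdeg
      · exact h
    rw [LeadFF.val_eq_exp_neg_ord Q hy0, hord, neg_zero, exp_zero]
  -- `θb` is separable
  have h0 : aeval θb (gt.map ρ) = 0 := by
    rw [← key]
    have : eval₂ (ι hQ) θO gt = 0 := by
      apply Subtype.ext
      rw [coe, hgt0]; rfl
    rw [this, map_zero]
  have h1 : aeval θb (derivative (gt.map ρ)) ≠ 0 := by
    rw [derivative_map, ← key, Ne, LeadFG.residue_eq_zero_iff, coe, ← hyeq, hQy]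
    exact lt_irrefl _
  have hθbint : IsIntegral k θb := ⟨gt.map ρ, hgtm.map ρ, by rw [← aeval_def]; exact h0⟩
  have hsep : IsSeparable k θb := by
    obtain ⟨r, hr⟩ := minpoly.dvd k θb h0
    have hirr := minpoly.irreducible hθbint
    unfold IsSeparable
    rw [Polynomial.separable_iff_derivative_ne_zero hirr]
    intro hm0
    apply h1
    rw [hr, derivative_mul, hm0, zero_mul, zero_add, map_mul, minpoly.aeval, zero_mul]
  haveI : Algebra.IsSeparable k (IntermediateField.adjoin k {θb}) :=
    (IntermediateField.isSeparable_adjoin_simple_iff_isSeparable k _).mpr hsep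
  refine ⟨fun z => ?_⟩
  obtain ⟨h, rfl⟩ := span z
  apply IntermediateField.isSeparable_of_mem_isSeparable (L := IntermediateField.adjoin k {θb})
  exact IntermediateField.algebra_adjoin_le_adjoin k _ (Polynomial.aeval_mem_adjoin_singleton _ _)

end Groth.Agent.Lib.LeadSP
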