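import Groth.Agent.Lib.LeadSP1
import Groth.Agent.Lib.LeadFF40
import Groth.Agent.Lib.LeadFF16
import Groth.Agent.Lib.Helper7FunFldP

/-! Infinitely many places (any constant field); infinitely many places with separable residue
field. -/

namespace Groth.Agent.Lib.LeadSP

attribute [-instance] IsLocalRing.instModuleResidueFieldOfAlgebra

open FunFld WithZero Polynomial

section Inf

variable {k K : Type*} [Field k] [Field K] [Algebra k K]

/-- zeros of `f(z)` at which `z` is integral. -/
theorem exists_place_aeval_lt_one (hK : IsFunctionField k K) {z : K} (hz : Transcendental k z)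
    {f : k[X]} (hf : f.natDegree ≠ 0) :
    ∃ P : Place k K, P.1 (aeval z f) < 1 ∧ P.1 z ≤ 1 := by
  have hf0 : f ≠ 0 := by rintro rfl; simp at hf
  have hy0 : aeval z f ≠ 0 := fun h => hf0 ((transcendental_iff.mp hz) _ h)
  let A : Subring K := (Algebra.adjoin k {z}).toSubring
  have hzA : z ∈ A := Algebra.subset_adjoin (Set.mem_singleton z)
  have hyA : aeval z f ∈ A := by
    show aeval z f ∈ Algebra.adjoin k {z}
    exact Polynomial.aeval_mem_adjoin_singleton _ _
  let I : Ideal A := Ideal.span {⟨aeval z f, hyA⟩}
  have hI : I ≠ ⊤ := by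
    intro h
    rw [Ideal.span_singleton_eq_top] at h
    obtain ⟨⟨w, hw⟩, hzw⟩ := isUnit_iff_exists_inv.mp h
    have hw' : w ∈ Algebra.adjoin k {z} := hw
    rw [Algebra.adjoin_singleton_eq_range_aeval] at hw'
    obtain ⟨p, rfl⟩ := hw'
    have h1 : aeval z f * aeval z p = 1 := congrArg Subtype.val hzw
    have h2 : aeval z (f * p - 1) = 0 := by simp [h1]
    have h3 := (transcendental_iff.mp hz) _ h2
    have h4 : f * p = 1 := sub_eq_zero.mp h3
    exact hf (Polynomial.natDegree_eq_zero_of_isUnit (IsUnit.of_mul_eq_one _ h4))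
  obtain ⟨B, hAB, hIB⟩ := Ideal.image_subset_nonunits_valuationSubring I hI
  have hk : LeadFG.TrivOn k B.valuation := LeadFF.trivOn_of_le_one (fun c => by
    rw [ValuationSubring.valuation_le_one_iff]
    exact hAB (Subalgebra.algebraMap_mem _ c))
  have hyB : B.valuation (aeval z f) < 1 := by
    have : aeval z f ∈ B.nonunits := hIB ⟨⟨aeval z f, hyA⟩, Ideal.subset_span rfl, rfl⟩
    exact B.mem_nonunits_iff.mp this
  have hzB : B.valuation z ≤ 1 := by
    rw [ValuationSubring.valuation_le_one_iff]; exact hAB hzA
  obtain ⟨P, hP⟩ := LeadFF.exists_place_of_valuation hK hk hy0 hyB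
  refine ⟨P, ?_, ?_⟩
  · have := hP 1 (aeval z f)
    rw [map_one, map_one] at this
    rw [← not_le, this, not_le]
    exact hyB
  · have := hP z 1
    rw [map_one, map_one] at this
    exact this.mpr hzB

/-- a nonzero polynomial in `z` vanishing at `P`. -/
lemma exists_poly_lt_one (hK : IsFunctionField k K) (P : Place k K) {z : K} (hz : P.1 z ≤ 1) :
    ∃ m : k[X], m ≠ 0 ∧ P.1 (aeval z m) < 1 := by
  haveI : Module.Finite k (IsLocalRing.ResidueField P.O) :=
    LeadFG.residueField_finite (LeadFG.IsFF.of_isFunctionField hK) P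
  let zO : P.O := ⟨z, (Valuation.mem_valuationSubring_iff _ _).mpr hz⟩
  have halg : IsAlgebraic k (IsLocalRing.residue P.O zO) :=
    Algebra.IsAlgebraic.isAlgebraic _
  obtain ⟨m, hm0, hm⟩ := halg
  refine ⟨m, hm0, ?_⟩
  have h1 : IsLocalRing.residue P.O (eval₂ (algebraMap k P.O) zO m) = 0 := by
    rw [Polynomial.hom_eval₂]
    exact hm
  rw [LeadFG.residue_eq_zero_iff] at h1
  have h2 : ((eval₂ (algebraMap k P.O) zO m : P.O) : K) = aeval z m :=
    Polynomial.hom_eval₂ m (algebraMap k P.O) P.O.subtype zO
  rwa [h2] at h1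

theorem infinite_places (hK : IsFunctionField k K) : Infinite (Place k K) := by
  classical
  by_contra hni
  rw [not_infinite_iff_finite] at hni
  haveI := Fintype.ofFinite (Place k K)
  obtain ⟨z, hz, -⟩ := hK.1
  have hex : ∀ P : Place k K, ∃ m : k[X], m ≠ 0 ∧ (P.1 z ≤ 1 → P.1 (aeval z m) < 1) := by
    intro P
    by_cases h : P.1 z ≤ 1
    · obtain ⟨m, hm0, hm⟩ := exists_poly_lt_one hK P h
      exact ⟨m, hm0, fun _ => hm⟩
    · exact ⟨1, one_ne_zero, fun h' => absurd h' h⟩
  choose m hm0 hm using hex
  set M : k[X] := ∏ P : Place k K, m P with hM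
  have hM0 : M ≠ 0 := Finset.prod_ne_zero_iff.mpr (fun P _ => hm0 P)
  have hdeg : (X * M + 1).natDegree ≠ 0 := by
    have h1 : (X * M).natDegree = 1 + M.natDegree := by
      rw [natDegree_mul X_ne_zero hM0, natDegree_X]
    rw [natDegree_add_eq_left_of_natDegree_lt (by rw [h1, natDegree_one]; omega), h1]
    omega
  obtain ⟨Q, hQ1, hQz⟩ := exists_place_aeval_lt_one hK hz hdeg
  obtain ⟨r, hr⟩ : m Q ∣ M := Finset.dvd_prod_of_mem _ (Finset.mem_univ Q)
  have hk := LeadFG.place_trivOn Q
  have h2 : Q.1 (aeval z (X * M)) < 1 := by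
    rw [hr, map_mul, map_mul, aeval_X, map_mul, map_mul]
    calc Q.1 z * (Q.1 (aeval z (m Q)) * Q.1 (aeval z r))
        ≤ 1 * (Q.1 (aeval z (m Q)) * 1) :=
          mul_le_mul' hQz (mul_le_mul' le_rfl (LeadFG.val_aeval_le_one hk hQz r))
      _ < 1 := by rw [one_mul, mul_one]; exact hm Q hQz
  have h3 : Q.1 (1 : K) < 1 := by
    have e : (1 : K) = aeval z (X * M + 1) - aeval z (X * M) := by
      rw [map_add, map_one]; ring
    rw [e]
    exact lt_of_le_of_lt (Valuation.map_sub _ _ _) (max_lt hQ1 h2)
  rw [map_one] at h3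
  exact lt_irrefl _ h3

/-- a section of the residue map for a place of degree one. -/
lemma exists_rho (P : Place k K)
    (h : ∀ w : P.O, ∃ c : k, P.1 ((w : K) - algebraMap k K c) < 1) :
    ∃ ρ : P.O →+* k, ∀ w : P.O, P.1 ((w : K) - algebraMap k K (ρ w)) < 1 := by
  have hsurj : Function.Surjective (algebraMap k (IsLocalRing.ResidueField P.O)) := by
    intro zb
    obtain ⟨w, rfl⟩ := IsLocalRing.residue_surjective zb
    obtain ⟨c, hc⟩ := h w
    refine ⟨c, ?_⟩
    have e : algebraMap k (IsLocalRing.ResidueField P.O) c =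
      IsLocalRing.residue P.O (algebraMap k P.O c) := rfl
    rw [e, eq_comm, ← sub_eq_zero, ← map_sub, LeadFG.residue_eq_zero_iff]
    exact hc
  let e := RingEquiv.ofBijective (algebraMap k (IsLocalRing.ResidueField P.O))
    ⟨(algebraMap k (IsLocalRing.ResidueField P.O)).injective, hsurj⟩
  refine ⟨e.symm.toRingHom.comp (IsLocalRing.residue P.O), fun w => ?_⟩
  have h1 : IsLocalRing.residue P.O (w - algebraMap k P.O
      ((e.symm.toRingHom.comp (IsLocalRing.residue P.O)) w)) = 0 := by
    rw [map_sub, sub_eq_zero]
    have : IsLocalRing.residue P.O (algebraMap k P.O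
      ((e.symm.toRingHom.comp (IsLocalRing.residue P.O)) w)) =
        e (e.symm (IsLocalRing.residue P.O w)) := rfl
    rw [this, e.apply_symm_apply]
  rw [LeadFG.residue_eq_zero_iff] at h1
  exact h1

end Inf

section Main

universe u v

variable (k : Type u) (K : Type v) [Field k] [Field K] [Algebra k K]

theorem infinite_sep_of_infinite [Infinite k] (hK : IsFunctionField k K) (hg : IsGeometric k K) :
    {P : Place k K | Algebra.IsSeparable k (IsLocalRing.ResidueField P.O)}.Infinite := by
  classical
  obtain ⟨x, hsep, -, hDx⟩ := Groth.Agent.Lib.Helper7.FunFldP.exists_sep_var k K hK hg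
  have hx : Transcendental k x := by
    intro halg
    obtain ⟨c, rfl⟩ := hK.2 x halg
    exact hDx (Derivation.map_algebraMap _ c)
  set E : IntermediateField k K := IntermediateField.adjoin k {x} with hE_def
  have hxE : x ∈ E := IntermediateField.mem_adjoin_simple_self k x
  obtain ⟨hfin, hE⟩ := LeadFF.isFunctionField_intermediate hK E ⟨x, hxE, hx⟩
  haveI := hfin
  haveI : Algebra.IsSeparable E K := hsep
  let B : PowerBasis E K := Field.powerBasisOfFiniteOfSeparable E K
  set d : E := Algebra.discr E B.basis with hd_def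
  have hd0 : d ≠ 0 := Algebra.discr_not_zero_of_basis E B.basis
  set g : E[X] := minpoly E B.gen with hg_def
  -- the places `P_a`
  have htr : ∀ c : k, Transcendental k (x - algebraMap k K c) := by
    intro c halg
    apply hx
    have := halg.add (isAlgebraic_algebraMap (R := k) (A := K) c)
    simpa using this
  choose f hf using fun c => LeadFF.exists_place_lt_one hK (htr c)
  have hinj : Function.Injective f := by
    intro c c' hcc
    by_contra hne
    have h1 := hf c
    have h2 := hf c'
    rw [← hcc] at h2
    have h3 : (f c).1 ((x - algebraMap k K c) - (x - algebraMap k K c')) < 1 :=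
      lt_of_le_of_lt (Valuation.map_sub _ _ _) (max_lt h1 h2)
    have h4 : (x - algebraMap k K c) - (x - algebraMap k K c') = algebraMap k K (c' - c) := by
      rw [map_sub]; ring
    rw [h4, LeadFG.place_trivOn (f c) (c' - c) (sub_ne_zero.mpr (Ne.symm hne))] at h3
    exact lt_irrefl _ h3
  -- the bad places
  have hKff : LeadFG.IsFF k K := LeadFG.IsFF.of_isFunctionField hK
  let bad : Set (Place k K) :=
    (Function.support fun P : Place k K => P.ord (algebraMap E K d)) ∪
      ⋃ i ∈ g.support, Function.support fun P : Place k K => P.ord (algebraMap E K (g.coeff i))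
  have hbad : bad.Finite := by
    apply Set.Finite.union (LeadFG.support_ord_finite hKff _)
    exact Set.Finite.biUnion (Finset.finite_toSet _) (fun i _ => LeadFG.support_ord_finite hKff _)
  have hgood : ∀ a : k, f a ∉ bad →
      Algebra.IsSeparable k (IsLocalRing.ResidueField (f a).O) := by
    intro a ha
    set P := f a with hP
    have hPd : P.1 (algebraMap E K d) = 1 := by
      have h0 : algebraMap E K d ≠ 0 := by rw [Ne, map_eq_zero]; exact hd0
      have : P.ord (algebraMap E K d) = 0 := by
        by_contra hne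
        exact ha (Or.inl hne)
      rw [LeadFF.val_eq_exp_neg_ord P h0, this, neg_zero, exp_zero]
    have hPg : ∀ i, P.1 (algebraMap E K (g.coeff i)) ≤ 1 := by
      intro i
      by_cases hi : g.coeff i = 0
      · rw [hi, map_zero, map_zero]; exact zero_le_one
      · have h0 : algebraMap E K (g.coeff i) ≠ 0 := by rw [Ne, map_eq_zero]; exact hi
        have : P.ord (algebraMap E K (g.coeff i)) = 0 := by
          by_contra hne
          apply ha
          refine Or.inr (Set.mem_iUnion₂.mpr ⟨i, mem_support_iff.mpr hi, hne⟩)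
        rw [LeadFF.val_eq_exp_neg_ord P h0, this, neg_zero, exp_zero]
    obtain ⟨p, e, he0, he⟩ := LeadFF.exists_below hE P
    have hpd : p.1 d = 1 := by
      have := he d
      rw [hPd] at this
      apply le_antisymm
      · exact (pow_le_one_iff he0.ne').mp this.symm.le
      · exact (one_le_pow_iff he0.ne').mp this.le
    have hpg : ∀ i, p.1 (g.coeff i) ≤ 1 := by
      intro i
      have := he (g.coeff i)
      have h1 := hPg i
      rw [this] at h1
      exact (pow_le_one_iff he0.ne').mp h1
    have hdeg1 : ∀ w : p.O, ∃ c : k, p.1 ((w : E) - algebraMap k E c) < 1 := by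
      intro w
      have hxa0 : x - algebraMap k K a ≠ 0 := fun h => htr a (h ▸ isAlgebraic_zero)
      have hle : E ≤ IntermediateField.adjoin k {x - algebraMap k K a} := by
        rw [hE_def, IntermediateField.adjoin_simple_le_iff]
        have hmem : (x - algebraMap k K a) + algebraMap k K a ∈
            IntermediateField.adjoin k {x - algebraMap k K a} :=
          add_mem (IntermediateField.mem_adjoin_simple_self k _)
            (IntermediateField.algebraMap_mem _ a)
        simpa using hmem
      have hw1 : P.1 (algebraMap E K (w : E)) ≤ 1 := by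
        rw [he]
        exact pow_le_one' ((Valuation.mem_valuationSubring_iff _ _).mp w.2) _
      obtain ⟨c, hc⟩ := LeadFG.residue_rat (LeadFG.place_trivOn P) hxa0 (hf a)
        (hle (w : E).2) hw1
      refine ⟨c, ?_⟩
      have h2 : algebraMap E K ((w : E) - algebraMap k E c) =
          algebraMap E K (w : E) - algebraMap k K c := by
        rw [map_sub, ← IsScalarTower.algebraMap_apply]
      have h3 := he ((w : E) - algebraMap k E c)
      rw [h2] at h3
      have hc' : P.1 (algebraMap E K (w : E) - algebraMap k K c) < 1 := hc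
      rw [h3] at hc'
      exact (pow_lt_one_iff he0.ne').mp hc'
    obtain ⟨ρ, hρ⟩ := exists_rho p hdeg1
    exact isSeparable_residue hE B p ρ hρ hpd hpg P ⟨e, he⟩
  -- conclusion
  have hpre : (f ⁻¹' bad).Finite := hbad.preimage hinj.injOn
  have hinf : (f ⁻¹' bad)ᶜ.Infinite := hpre.infinite_compl
  have himg : (f '' (f ⁻¹' bad)ᶜ).Infinite := hinf.image hinj.injOn
  refine himg.mono ?_
  rintro _ ⟨a, ha, rfl⟩
  exact hgood a ha

theorem infinite_sep (hK : IsFunctionField k K) (hg : IsGeometric k K) :
    {P : Place k K | Algebra.IsSeparable k (IsLocalRing.ResidueField P.O)}.Infinite := by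
  rcases finite_or_infinite k with hfin | hinf
  · haveI := infinite_places hK
    have : {P : Place k K | Algebra.IsSeparable k (IsLocalRing.ResidueField P.O)} = Set.univ := by
      ext P
      simp only [Set.mem_setOf_eq, Set.mem_univ, iff_true]
      haveI : Module.Finite k (IsLocalRing.ResidueField P.O) :=
        LeadFG.residueField_finite (LeadFG.IsFF.of_isFunctionField hK) P
      exact Algebra.IsAlgebraic.isSeparable_of_perfectField
    rw [this]
    exact Set.infinite_univ
  · exact infinite_sep_of_infinite k K hK hg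

end Main

end Groth.Agent.Lib.LeadSP
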