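import Groth.Prelude.Def_W4bk4goldsch45p2
import Mathlib

/-! Linear algebra of jump sequences (Stöhr–Voloch order sequences). -/

namespace Groth.Agent.Lib.LeadSV

open FunFld

section Jump

variable {R M M' : Type*} [Field R] [AddCommGroup M] [Module R M] [AddCommGroup M'] [Module R M']

lemma isJump_equiv (T : M ≃ₗ[R] M') (c : ℕ → M) (j : ℕ) :
    IsJump R (fun m => T (c m)) j ↔ IsJump R c j := by
  unfold IsJump
  have h1 : (fun m => T (c m)) '' Set.Iio j = (T : M →ₗ[R] M') '' (c '' Set.Iio j) := by
    rw [Set.image_image]; rfl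
  rw [h1, ← Submodule.map_span, not_iff_not]
  constructor
  · rintro ⟨x, hx, hxe⟩
    have : x = c j := T.injective hxe
    rw [← this]; exact hx
  · intro h; exact ⟨_, h, rfl⟩

lemma isOrders_equiv (T : M ≃ₗ[R] M') (c : ℕ → M) {n : ℕ} (J : Fin n → ℕ) :
    IsOrders R (fun m => T (c m)) J ↔ IsOrders R c J := by
  unfold IsOrders
  simp only [isJump_equiv]

open scoped Classical in
/-- the finset of jump indices below `N`. -/
noncomputable def jumps (c : ℕ → M) (N : ℕ) : Finset ℕ := (Finset.range N).filter (IsJump R c)

lemma span_Iio_eq (c : ℕ → M) (N : ℕ) :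
    Submodule.span R (c '' Set.Iio N) = Submodule.span R (c '' (jumps (R := R) c N : Set ℕ)) := by
  classical
  induction N with
  | zero => simp [jumps]
  | succ N ih =>
    have h1 : Set.Iio (N + 1) = insert N (Set.Iio N) := by
      ext x; simp only [Set.mem_Iio, Set.mem_insert_iff]; omega
    rw [h1, Set.image_insert_eq, Submodule.span_insert, ih]
    by_cases hj : IsJump R c N
    · have h2 : (jumps (R := R) c (N + 1) : Set ℕ) = insert N (jumps (R := R) c N : Set ℕ) := by
        ext x
        simp only [jumps, Finset.coe_filter, Finset.mem_range, Set.mem_ofPred_eq, Set.mem_insert_iff]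
        constructor
        · rintro ⟨h, hx⟩
          rcases Nat.lt_succ_iff_lt_or_eq.mp h with h | h
          · right; exact ⟨h, hx⟩
          · left; exact h
        · rintro (rfl | ⟨h, hx⟩)
          · exact ⟨Nat.lt_succ_self _, hj⟩
          · exact ⟨Nat.lt_succ_of_lt h, hx⟩
      rw [h2, Set.image_insert_eq, Submodule.span_insert]
    · have h2 : (jumps (R := R) c (N + 1) : Set ℕ) = (jumps (R := R) c N : Set ℕ) := by
        ext x
        simp only [jumps, Finset.coe_filter, Finset.mem_range, Set.mem_ofPred_eq]
        constructor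
        · rintro ⟨h, hx⟩
          rcases Nat.lt_succ_iff_lt_or_eq.mp h with h | h
          · exact ⟨h, hx⟩
          · subst h; exact absurd hx hj
        · rintro ⟨h, hx⟩
          exact ⟨Nat.lt_succ_of_lt h, hx⟩
      rw [h2]
      unfold IsJump at hj
      rw [not_not, ih] at hj
      rw [sup_eq_right, Submodule.span_singleton_le_iff_mem]
      exact hj

lemma finrank_span_Iio_le (c : ℕ → M) (N : ℕ) :
    Module.finrank R (Submodule.span R (c '' Set.Iio N)) ≤ (jumps (R := R) c N).card := by
  classical
  rw [span_Iio_eq]
  have : c '' (jumps (R := R) c N : Set ℕ) = ((jumps (R := R) c N).image c : Finset M) := by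
    rw [Finset.coe_image]
  rw [this]
  exact (finrank_span_finset_le_card _).trans Finset.card_image_le

/-- If `J` is the order sequence of `c` and `J l > b`, then there are at most `l + 1` jumps below `b + 2`. -/
lemma card_jumps_le {c : ℕ → M} {n : ℕ} {J : Fin n → ℕ} (hJ : IsOrders R c J) (l : Fin n) (b : ℕ)
    (hb : b < J l) : (jumps (R := R) c (b + 2)).card ≤ l + 1 := by
  classical
  have hsub : jumps (R := R) c (b + 2) ⊆
      insert 0 ((Finset.univ.filter (fun i : Fin n => i < l)).image (fun i => J i + 1)) := by
    intro j hj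
    simp only [jumps, Finset.mem_filter, Finset.mem_range] at hj
    rw [Finset.mem_insert]
    rcases Nat.eq_zero_or_pos j with h0 | h0
    · left; exact h0
    · right
      obtain ⟨j', rfl⟩ : ∃ j', j = j' + 1 := ⟨j - 1, by omega⟩
      obtain ⟨i, hi⟩ := (hJ.2 j').mpr hj.2
      rw [Finset.mem_image]
      refine ⟨i, ?_, by rw [hi]⟩
      simp only [Finset.mem_filter, Finset.mem_univ, true_and]
      by_contra hil
      rw [not_lt] at hil
      have := hJ.1.monotone hil
      omega
  calc (jumps (R := R) c (b + 2)).card
      ≤ (insert 0 ((Finset.univ.filter (fun i : Fin n => i < l)).image (fun i => J i + 1))).card :=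
        Finset.card_le_card hsub
    _ ≤ ((Finset.univ.filter (fun i : Fin n => i < l)).image (fun i => J i + 1)).card + 1 :=
        Finset.card_insert_le _ _
    _ ≤ (Finset.univ.filter (fun i : Fin n => i < l)).card + 1 :=
        Nat.add_le_add_right Finset.card_image_le 1
    _ = l + 1 := by
        congr 1
        have : (Finset.univ.filter (fun i : Fin n => i < l)) = Finset.Iio l := by
          ext; simp
        rw [this, Fin.card_Iio]

/-- The comparison lemma: if the columns `c 0, c (J' 0 + 1), …` are linearly independent with `J'`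
strictly increasing, then the order sequence `J` of `c` satisfies `J l ≤ J' l`. -/
theorem orders_le {c : ℕ → M} [FiniteDimensional R M] {n : ℕ} {J : Fin n → ℕ} (hJ : IsOrders R c J)
    {J' : Fin n → ℕ} (hJ' : StrictMono J')
    (hli : LinearIndependent R (fun i : Fin (n + 1) => c (Fin.cases 0 (fun l => J' l + 1) i))) :
    ∀ l, J l ≤ J' l := by
  classical
  intro l
  by_contra hlt
  rw [not_le] at hlt
  have h1 := finrank_span_Iio_le (R := R) c (J' l + 2)
  have h2 := card_jumps_le hJ l (J' l) hlt
  -- the sub-family indexed by `Fin (l+2)`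
  let ι : Fin (l + 2) → Fin (n + 1) := fun i => ⟨i, by have := i.2; have := l.2; omega⟩
  have hι : Function.Injective ι := by
    intro a b h
    simp only [ι, Fin.mk.injEq] at h
    exact Fin.ext h
  have hli' := hli.comp ι hι
  have h3 := finrank_span_eq_card hli'
  rw [Fintype.card_fin] at h3
  have hsub : Submodule.span R (Set.range ((fun i : Fin (n + 1) => c (Fin.cases 0 (fun l => J' l + 1) i)) ∘ ι))
      ≤ Submodule.span R (c '' Set.Iio (J' l + 2)) := by
    apply Submodule.span_mono
    rintro _ ⟨i, rfl⟩
    refine ⟨_, ?_, rfl⟩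
    rw [Set.mem_Iio]
    rcases Nat.eq_zero_or_pos (i : ℕ) with h0 | h0
    · have : ι i = 0 := Fin.ext h0
      rw [this]; simp
    · obtain ⟨m, hm⟩ : ∃ m : Fin n, ι i = m.succ := by
        refine ⟨⟨i - 1, by have := i.2; have := l.2; omega⟩, ?_⟩
        apply Fin.ext
        simp only [ι, Fin.val_succ]
        omega
      rw [hm, Fin.cases_succ]
      have hml : m ≤ l := by
        have h5 : (ι i : ℕ) = i := rfl
        rw [hm, Fin.val_succ] at h5
        rw [Fin.le_def]
        have := i.2
        omega
      have := hJ'.monotone hml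
      omega
  have h4 := Submodule.finrank_mono hsub
  omega

end Jump

end Groth.Agent.Lib.LeadSV
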