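import Groth.Agent.Lib.LeadSV1

/-! Stöhr–Voloch: columns of the Hasse matrix. -/

namespace Groth.Agent.Lib.LeadSV

open FunFld

variable {k K : Type*} [Field k] [Field K] [Algebra k K]

/-- the `k`-linear map giving column `m` of `hcol`. -/
noncomputable def colMap (τ : K →ₐ[k] K) (H : K →ₐ[k] PowerSeries K) : ℕ → (K →ₗ[k] K)
  | 0 => τ.toLinearMap
  | j + 1 => { toFun := fun y => LocRes.hasseD H j y
               map_add' := fun x y => by simp [LocRes.hasseD]
               map_smul' := fun c x => by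
                 simp only [LocRes.hasseD, map_smul, RingHom.id_apply]
                 rw [Algebra.smul_def, Algebra.smul_def, PowerSeries.algebraMap_apply,
                   PowerSeries.coeff_C_mul] }

lemma hcol_eq {ι : Type*} (τ : K →ₐ[k] K) (H : K →ₐ[k] PowerSeries K) (φ : ι → K) (m : ℕ) :
    hcol τ H φ m = fun i => colMap τ H m (φ i) := by
  cases m <;> rfl

lemma wrMat_col {n : ℕ} (τ : K →ₐ[k] K) (H : K →ₐ[k] PowerSeries K) (φ : Fin (n + 1) → K)
    (I : Fin n → ℕ) (c : Fin (n + 1)) :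
    (wrMat τ H φ I).col c = hcol τ H φ (Fin.cases 0 (fun l => I l + 1) c) := by
  ext i
  refine Fin.cases ?_ (fun l => ?_) c
  · rfl
  · rfl

theorem orders_le_of_det_ne_zero {n : ℕ} (φ : Fin (n + 1) → K) (τ : K →ₐ[k] K)
    (H : K →ₐ[k] PowerSeries K) (J : Fin n → ℕ) (hJ : IsOrders K (hcol τ H φ) J)
    (J' : Fin n → ℕ) (hJ' : StrictMono J') (hdet : (wrMat τ H φ J').det ≠ 0) :
    ∀ l, J l ≤ J' l := by
  apply orders_le hJ hJ'
  have hu : IsUnit (wrMat τ H φ J') := by
    rw [Matrix.isUnit_iff_isUnit_det]; exact isUnit_iff_ne_zero.mpr hdet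
  have := Matrix.linearIndependent_cols_iff_isUnit.mpr hu
  have h2 : (fun i : Fin (n + 1) => hcol τ H φ (Fin.cases 0 (fun l => J' l + 1) i)) =
      (wrMat τ H φ J').col := funext fun c => (wrMat_col τ H φ J' c).symm
  rw [h2]
  exact this

section Change

variable {n : ℕ} (A : Matrix (Fin (n + 1)) (Fin (n + 1)) k) (φ φ' : Fin (n + 1) → K)

lemma colMap_change (hφ' : ∀ i, φ' i = ∑ j, A i j • φ j) (f : K →ₗ[k] K) (i : Fin (n + 1)) :
    f (φ' i) = ∑ j, (A.map (algebraMap k K)) i j * f (φ j) := by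
  rw [hφ' i, map_sum]
  apply Finset.sum_congr rfl
  intro j _
  rw [map_smul, Algebra.smul_def, Matrix.map_apply]

theorem wrMat_change (hφ' : ∀ i, φ' i = ∑ j, A i j • φ j) (τ : K →ₐ[k] K)
    (H : K →ₐ[k] PowerSeries K) (I : Fin n → ℕ) :
    wrMat τ H φ' I = A.map (algebraMap k K) * wrMat τ H φ I := by
  ext i c
  rw [Matrix.mul_apply]
  have h1 : ∀ (ψ : Fin (n + 1) → K) (i : Fin (n + 1)), wrMat τ H ψ I i c =
      colMap τ H (Fin.cases 0 (fun l => I l + 1) c) (ψ i) := by
    intro ψ i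
    have := congrFun (wrMat_col τ H ψ I c) i
    rw [hcol_eq] at this
    exact this
  rw [h1]
  simp_rw [h1 φ]
  exact colMap_change A φ φ' hφ' _ i

theorem hcol_change (hA : A.det ≠ 0) (hφ' : ∀ i, φ' i = ∑ j, A i j • φ j) (τ : K →ₐ[k] K)
    (H : K →ₐ[k] PowerSeries K) :
    ∃ T : (Fin (n + 1) → K) ≃ₗ[K] (Fin (n + 1) → K), ∀ m, hcol τ H φ' m = T (hcol τ H φ m) := by
  have hdet : IsUnit (A.map (algebraMap k K)).det := by
    have : (A.map (algebraMap k K)).det = algebraMap k K A.det := by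
      rw [RingHom.map_det]; rfl
    rw [this, isUnit_iff_ne_zero, Ne, map_eq_zero_iff _ (algebraMap k K).injective]
    exact hA
  refine ⟨Matrix.toLinearEquiv' (A.map (algebraMap k K)) (Matrix.invertibleOfIsUnitDet _ hdet), ?_⟩
  intro m
  rw [hcol_eq, hcol_eq]
  ext i
  change _ = ((A.map (algebraMap k K)).mulVec _) i
  rw [Matrix.mulVec, dotProduct]
  exact colMap_change A φ φ' hφ' _ i

end Change

end Groth.Agent.Lib.LeadSV
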