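import Groth.Agent.Lib.LeadSV2

/-! Stöhr–Voloch: first τ-order. -/

namespace Groth.Agent.Lib.LeadSV

open FunFld

variable {k K : Type*} [Field k] [Field K] [Algebra k K]

lemma hcol_one {ι : Type*} (τ : K →ₐ[k] K) {s : K} (H : K →ₐ[k] PowerSeries K)
    (hH : LocRes.IsHasseFamily s H) (φ : ι → K) : hcol τ H φ 1 = φ := by
  ext i
  change LocRes.hasseD H 0 (φ i) = φ i
  rw [LocRes.hasseD, PowerSeries.coeff_zero_eq_constantCoeff_apply]
  exact hH.2 _

lemma hcol_zero {ι : Type*} (τ : K →ₐ[k] K) (H : K →ₐ[k] PowerSeries K) (φ : ι → K) :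
    hcol τ H φ 0 = fun i => τ (φ i) := rfl

lemma Iio_one : Set.Iio (1 : ℕ) = {0} := by
  ext x; simp only [Set.mem_Iio, Set.mem_singleton_iff]; omega

theorem not_isJump_one_iff {n : ℕ} (φ : Fin (n + 1) → K) (h0 : φ 0 ≠ 0)
    (hbir : IntermediateField.adjoin k (Set.range fun i => φ i / φ 0) = ⊤)
    (τ : K →ₐ[k] K) (s : K) (H : K →ₐ[k] PowerSeries K) (hH : LocRes.IsHasseFamily s H) :
    ¬ IsJump K (hcol τ H φ) 1 ↔ τ = AlgHom.id k K := by
  unfold IsJump
  rw [not_not, Iio_one, Set.image_singleton, hcol_one τ H hH, hcol_zero,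
    Submodule.mem_span_singleton]
  constructor
  · rintro ⟨a, ha⟩
    have hai : ∀ i, a * τ (φ i) = φ i := fun i => congrFun ha i
    have hτ0 : τ (φ 0) ≠ 0 := by
      intro h
      exact h0 (τ.toRingHom.injective (by rw [map_zero]; exact h))
    have ha0 : a ≠ 0 := by
      rintro rfl
      have := hai 0
      rw [zero_mul] at this
      exact h0 this.symm
    have hfix : ∀ i, τ (φ i / φ 0) = φ i / φ 0 := by
      intro i
      rw [map_div₀]
      conv_rhs => rw [← hai i, ← hai 0, mul_div_mul_left _ _ ha0]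
    -- τ fixes the generated intermediate field
    apply AlgHom.ext
    intro z
    have hz : z ∈ IntermediateField.adjoin k (Set.range fun i => φ i / φ 0) := by
      rw [hbir]; trivial
    have : IntermediateField.adjoin k (Set.range fun i => φ i / φ 0) ≤
        (AlgHom.equalizer τ (AlgHom.id k K) : Subalgebra k K).toIntermediateField
          (fun x hx => by
            rw [AlgHom.mem_equalizer] at hx ⊢
            rw [map_inv₀, hx]; rfl) := by
      rw [IntermediateField.adjoin_le_iff]
      rintro _ ⟨i, rfl⟩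
      exact hfix i
    exact this hz
  · rintro rfl
    exact ⟨1, by ext i; simp⟩

end Groth.Agent.Lib.LeadSV
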