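import Groth.Agent.Lib.LeadSV3

/-! Jump sequences: exact rank and the effect of replacing the leading column. -/

namespace Groth.Agent.Lib.LeadSV

open FunFld

section Jump2

variable {R M : Type*} [Field R] [AddCommGroup M] [Module R M]

lemma finrank_span_Iio_eq [FiniteDimensional R M] (c : ℕ → M) (N : ℕ) :
    Module.finrank R (Submodule.span R (c '' Set.Iio N)) = (jumps (R := R) c N).card := by
  classical
  induction N with
  | zero => simp [jumps]
  | succ N ih =>
    have h1 : Set.Iio (N + 1) = insert N (Set.Iio N) := by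
      ext x; simp only [Set.mem_Iio, Set.mem_insert_iff]; omega
    rw [h1, Set.image_insert_eq, Submodule.span_insert]
    by_cases hj : IsJump R c N
    · have h2 : jumps (R := R) c (N + 1) = insert N (jumps (R := R) c N) := by
        ext x
        simp only [jumps, Finset.mem_filter, Finset.mem_range, Finset.mem_insert]
        constructor
        · rintro ⟨h, hx⟩
          rcases Nat.lt_succ_iff_lt_or_eq.mp h with h | h
          · right; exact ⟨h, hx⟩
          · left; exact h
        · rintro (rfl | ⟨h, hx⟩)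
          · exact ⟨Nat.lt_succ_self _, hj⟩
          · exact ⟨Nat.lt_succ_of_lt h, hx⟩
      have hnot : N ∉ jumps (R := R) c N := by simp [jumps]
      rw [h2, Finset.card_insert_of_notMem hnot, ← ih]
      have hdisj : Submodule.span R {c N} ⊓ Submodule.span R (c '' Set.Iio N) = ⊥ := by
        rw [eq_bot_iff]
        rintro v ⟨hv1, hv2⟩
        rw [SetLike.mem_coe, Submodule.mem_span_singleton] at hv1
        obtain ⟨a, rfl⟩ := hv1
        rw [Submodule.mem_bot]
        by_contra hne
        have ha : a ≠ 0 := by rintro rfl; simp at hne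
        apply hj
        have : c N = a⁻¹ • (a • c N) := by rw [smul_smul, inv_mul_cancel₀ ha, one_smul]
        rw [this]
        exact Submodule.smul_mem _ _ hv2
      have h3 := Submodule.finrank_sup_add_finrank_inf_eq (Submodule.span R {c N})
        (Submodule.span R (c '' Set.Iio N))
      rw [hdisj, finrank_bot, add_zero] at h3
      rw [h3, add_comm]
      congr 1
      have hne : c N ≠ 0 := by
        rintro h0
        apply hj
        rw [h0]; exact Submodule.zero_mem _
      exact finrank_span_singleton hne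
    · have h2 : jumps (R := R) c (N + 1) = jumps (R := R) c N := by
        ext x
        simp only [jumps, Finset.mem_filter, Finset.mem_range]
        constructor
        · rintro ⟨h, hx⟩
          rcases Nat.lt_succ_iff_lt_or_eq.mp h with h | h
          · exact ⟨h, hx⟩
          · subst h; exact absurd hx hj
        · rintro ⟨h, hx⟩
          exact ⟨Nat.lt_succ_of_lt h, hx⟩
      rw [h2, ← ih]
      unfold IsJump at hj
      rw [not_not] at hj
      have hsup : Submodule.span R {c N} ⊔ Submodule.span R (c '' Set.Iio N) =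
          Submodule.span R (c '' Set.Iio N) := by
        rw [sup_eq_right, Submodule.span_singleton_le_iff_mem]
        exact hj
      rw [hsup]

/-- span of the columns `1 ≤ i < N`. -/
def tailSpan (c : ℕ → M) (N : ℕ) : Submodule R M := Submodule.span R (c '' Set.Ico 1 N)

lemma tailSpan_mono (c : ℕ → M) {N N' : ℕ} (h : N ≤ N') :
    tailSpan (R := R) c N ≤ tailSpan c N' :=
  Submodule.span_mono (Set.image_mono (Set.Ico_subset_Ico_right h))

lemma tailSpan_succ (c : ℕ → M) {N : ℕ} (hN : 1 ≤ N) :
    tailSpan (R := R) c (N + 1) = tailSpan c N ⊔ Submodule.span R {c N} := by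
  unfold tailSpan
  have : Set.Ico 1 (N + 1) = insert N (Set.Ico 1 N) := by
    ext x; simp only [Set.mem_Ico, Set.mem_insert_iff]; omega
  rw [this, Set.image_insert_eq, Submodule.span_insert, sup_comm]

lemma tailSpan_one (c : ℕ → M) : tailSpan (R := R) c 1 = ⊥ := by
  unfold tailSpan
  simp

lemma span_Iio_eq_sup (c : ℕ → M) {N : ℕ} (hN : 1 ≤ N) :
    Submodule.span R (c '' Set.Iio N) = Submodule.span R {c 0} ⊔ tailSpan c N := by
  unfold tailSpan
  have : Set.Iio N = insert 0 (Set.Ico 1 N) := by
    ext x; simp only [Set.mem_Iio, Set.mem_Ico, Set.mem_insert_iff]; omega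
  rw [this, Set.image_insert_eq, Submodule.span_insert]

lemma span_Iio_eq_tail {c c' : ℕ → M} (h1 : ∀ m, 1 ≤ m → c m = c' m) (h01 : c' 0 = c' 1)
    {N : ℕ} (hN : 2 ≤ N) : Submodule.span R (c' '' Set.Iio N) = tailSpan c N := by
  unfold tailSpan
  congr 1
  ext v
  constructor
  · rintro ⟨i, hi, rfl⟩
    rcases Nat.eq_zero_or_pos i with rfl | hpos
    · exact ⟨1, ⟨le_refl _, hN⟩, by rw [h1 1 le_rfl, h01]⟩
    · exact ⟨i, ⟨hpos, hi⟩, h1 i hpos⟩
  · rintro ⟨i, ⟨hi1, hi2⟩, rfl⟩
    exact ⟨i, hi2, (h1 i hi1).symm⟩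

theorem jumps_replace_leading [FiniteDimensional R M] {n : ℕ} (hn : 0 < n)
    (hdim : Module.finrank R M = n + 1) {c c' : ℕ → M}
    (h1 : ∀ m, 1 ≤ m → c m = c' m) (h01 : c' 0 = c' 1) (hc0 : c 0 ≠ 0) (hc'0 : c' 0 ≠ 0)
    (hj1 : IsJump R c 1) {J : Fin n → ℕ} (hJ : IsOrders R c' J) :
    ∃ m : Fin n, ∀ j : ℕ, IsJump R c (j + 1) ↔ (j = 0 ∨ ∃ l, l ≠ m ∧ J l = j) := by
  classical
  -- the tail spans everything eventually
  have hex : ∃ N, c 0 ∈ tailSpan (R := R) c N := by
    let last : Fin n := ⟨n - 1, by omega⟩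
    refine ⟨J last + 2, ?_⟩
    have htop : tailSpan (R := R) c (J last + 2) = ⊤ := by
      rw [← span_Iio_eq_tail h1 h01 (by omega)]
      apply Submodule.eq_top_of_finrank_eq
      rw [finrank_span_Iio_eq, hdim]
      have hsub : insert 0 ((Finset.univ : Finset (Fin n)).image (fun i => J i + 1)) ⊆
          jumps (R := R) c' (J last + 2) := by
        intro x hx
        rw [Finset.mem_insert] at hx
        simp only [jumps, Finset.mem_filter, Finset.mem_range]
        rcases hx with rfl | hx
        · refine ⟨by omega, ?_⟩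
          unfold IsJump
          simp only [Set.Iio, Nat.not_lt_zero, Set.ofPred_false, Set.image_empty,
            Submodule.span_empty, Submodule.mem_bot]
          exact hc'0
        · rw [Finset.mem_image] at hx
          obtain ⟨i, -, rfl⟩ := hx
          refine ⟨?_, (hJ.2 (J i)).mp ⟨i, rfl⟩⟩
          have : J i ≤ J last := hJ.1.monotone (by
            rw [Fin.le_def]; have := i.2; simp only [last]; omega)
          omega
      have hcard : (insert 0 ((Finset.univ : Finset (Fin n)).image (fun i => J i + 1))).card =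
          n + 1 := by
        rw [Finset.card_insert_of_notMem, Finset.card_image_of_injective, Finset.card_univ,
          Fintype.card_fin]
        · intro a b hab
          simp only [add_left_inj] at hab
          exact hJ.1.injective hab
        · simp
      apply le_antisymm
      · rw [← hdim, ← finrank_span_Iio_eq]; exact Submodule.finrank_le _
      · rw [← hcard]; exact Finset.card_le_card hsub
    rw [htop]; trivial
  let N₀ := Nat.find hex
  have hN₀ : c 0 ∈ tailSpan (R := R) c N₀ := Nat.find_spec hex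
  have hN₀min : ∀ N, N < N₀ → c 0 ∉ tailSpan (R := R) c N := fun N hN => Nat.find_min hex hN
  have hN₀2 : 2 ≤ N₀ := by
    by_contra hlt
    rw [not_le] at hlt
    have : tailSpan (R := R) c N₀ ≤ tailSpan c 1 := tailSpan_mono c (by omega)
    have h2 := this hN₀
    rw [tailSpan_one, Submodule.mem_bot] at h2
    exact hc0 h2
  obtain ⟨N₁, hN₁⟩ : ∃ N₁, N₀ = N₁ + 1 := ⟨N₀ - 1, by omega⟩
  have hN₁1 : 1 ≤ N₁ := by omega
  have hnot : c 0 ∉ tailSpan (R := R) c N₁ := hN₀min N₁ (by omega)
  rw [hN₁, tailSpan_succ c hN₁1, Submodule.mem_sup] at hN₀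
  obtain ⟨s, hs, v, hv, hsv⟩ := hN₀
  rw [Submodule.mem_span_singleton] at hv
  obtain ⟨a, rfl⟩ := hv
  have ha : a ≠ 0 := by
    rintro rfl
    rw [zero_smul, add_zero] at hsv
    rw [← hsv] at hnot
    exact hnot hs
  have hcN₁ : c N₁ = a⁻¹ • (c 0 - s) := by
    rw [← hsv, add_sub_cancel_left, smul_smul, inv_mul_cancel₀ ha, one_smul]
  have hN₁2 : 2 ≤ N₁ := by
    by_contra hlt
    rw [not_le] at hlt
    have hN1 : N₁ = 1 := by omega
    rw [hN1, tailSpan_one, Submodule.mem_bot] at hs
    apply hj1
    have : Set.Iio 1 = ({0} : Set ℕ) := Iio_one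
    rw [this, Set.image_singleton, Submodule.mem_span_singleton]
    refine ⟨a⁻¹, ?_⟩
    rw [hN1, hs, sub_zero] at hcN₁
    exact hcN₁.symm
  have hcN₁not : c N₁ ∉ tailSpan (R := R) c N₁ := by
    intro hmem
    apply hnot
    rw [← hsv]
    exact Submodule.add_mem _ hs (Submodule.smul_mem _ _ hmem)
  have hjump' : IsJump R c' N₁ := by
    unfold IsJump
    rw [span_Iio_eq_tail h1 h01 hN₁2, ← h1 N₁ hN₁1]
    exact hcN₁not
  obtain ⟨j₀, hj₀⟩ : ∃ j₀, N₁ = j₀ + 1 := ⟨N₁ - 1, by omega⟩
  rw [hj₀] at hjump'
  obtain ⟨m, hm⟩ := (hJ.2 j₀).mpr hjump'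
  refine ⟨m, fun j => ?_⟩
  rcases Nat.eq_zero_or_pos j with rfl | hjpos
  · simp only [zero_add, true_or, iff_true]
    exact hj1
  have hjumpc' : IsJump R c' (j + 1) ↔ c (j + 1) ∉ tailSpan (R := R) c (j + 1) := by
    unfold IsJump
    rw [span_Iio_eq_tail h1 h01 (by omega), ← h1 (j + 1) (by omega)]
  have hjumpc : IsJump R c (j + 1) ↔
      c (j + 1) ∉ Submodule.span R {c 0} ⊔ tailSpan (R := R) c (j + 1) := by
    unfold IsJump
    rw [span_Iio_eq_sup c (by omega)]
  have hrhs : (j = 0 ∨ ∃ l, l ≠ m ∧ J l = j) ↔ (IsJump R c' (j + 1) ∧ j ≠ j₀) := by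
    constructor
    · rintro (h | ⟨l, hl, rfl⟩)
      · omega
      · refine ⟨(hJ.2 _).mp ⟨l, rfl⟩, fun h => hl ?_⟩
        exact hJ.1.injective (h.trans hm.symm)
    · rintro ⟨hjmp, hne⟩
      obtain ⟨l, hl⟩ := (hJ.2 j).mpr hjmp
      exact Or.inr ⟨l, fun h => hne (by rw [← hl, h, hm]), hl⟩
  rw [hrhs, hjumpc, hjumpc']
  rcases lt_trichotomy j j₀ with hlt | heq | hgt
  · constructor
    · intro h
      refine ⟨fun hmem => h (Submodule.mem_sup_right hmem), hlt.ne⟩
    · rintro ⟨h, -⟩ hmem
      rw [Submodule.mem_sup] at hmem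
      obtain ⟨v, hv, s', hs', hvs⟩ := hmem
      rw [Submodule.mem_span_singleton] at hv
      obtain ⟨b, rfl⟩ := hv
      have hb : b ≠ 0 := by
        rintro rfl
        rw [zero_smul, zero_add] at hvs
        rw [← hvs] at h
        exact h hs'
      apply hnot
      have hc0eq : c 0 = b⁻¹ • (c (j + 1) - s') := by
        rw [← hvs, add_sub_cancel_right, smul_smul, inv_mul_cancel₀ hb, one_smul]
      rw [hc0eq]
      apply Submodule.smul_mem
      apply Submodule.sub_mem
      · apply tailSpan_mono c (show j + 2 ≤ N₁ by omega)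
        exact Submodule.subset_span ⟨j + 1, ⟨by omega, by omega⟩, rfl⟩
      · exact tailSpan_mono c (show j + 1 ≤ N₁ by omega) hs'
  · subst heq
    constructor
    · intro h
      exfalso
      apply h
      rw [← hj₀, hcN₁]
      apply Submodule.smul_mem
      apply Submodule.sub_mem
      · exact Submodule.mem_sup_left (Submodule.mem_span_singleton_self _)
      · exact Submodule.mem_sup_right hs
    · rintro ⟨-, h⟩; exact absurd rfl h
  · have hc0mem : c 0 ∈ tailSpan (R := R) c (j + 1) := by
      apply tailSpan_mono c (show N₁ + 1 ≤ j + 1 by omega)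
      rw [tailSpan_succ c hN₁1, ← hsv]
      exact Submodule.add_mem _ (Submodule.mem_sup_left hs)
        (Submodule.mem_sup_right (Submodule.smul_mem _ _ (Submodule.mem_span_singleton_self _)))
    have hsup : Submodule.span R {c 0} ⊔ tailSpan (R := R) c (j + 1) = tailSpan c (j + 1) := by
      rw [sup_eq_right, Submodule.span_singleton_le_iff_mem]; exact hc0mem
    rw [hsup]
    exact ⟨fun h => ⟨h, hgt.ne'⟩, fun h => h.1⟩

end Jump2

end Groth.Agent.Lib.LeadSV
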