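import Groth.Agent.Lib.LeadSV4

/-! Triangular change of a column sequence: jumps and Wronskian determinants. -/

namespace Groth.Agent.Lib.LeadSV

open FunFld

section Tri

variable {R M : Type*} [Field R] [AddCommGroup M] [Module R M]

lemma tri_span {c c' : ℕ → M} {u : ℕ → R} (hu : ∀ N, u N ≠ 0)
    (h : ∀ N, c' N - u N • c N ∈ Submodule.span R (c '' Set.Iio N)) (N : ℕ) :
    Submodule.span R (c' '' Set.Iio N) = Submodule.span R (c '' Set.Iio N) := by
  induction N with
  | zero => simp
  | succ N ih =>
    have h1 : Set.Iio (N + 1) = insert N (Set.Iio N) := by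
      ext x; simp only [Set.mem_Iio, Set.mem_insert_iff]; omega
    rw [h1, Set.image_insert_eq, Set.image_insert_eq, Submodule.span_insert, Submodule.span_insert,
      ih]
    apply le_antisymm
    · apply sup_le _ le_sup_right
      rw [Submodule.span_singleton_le_iff_mem]
      have : c' N = (c' N - u N • c N) + u N • c N := by abel
      rw [this]
      exact Submodule.add_mem _ (Submodule.mem_sup_right (h N))
        (Submodule.mem_sup_left (Submodule.smul_mem _ _ (Submodule.mem_span_singleton_self _)))
    · apply sup_le _ le_sup_right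
      rw [Submodule.span_singleton_le_iff_mem]
      have : c N = (u N)⁻¹ • (c' N - (c' N - u N • c N)) := by
        rw [sub_sub_cancel, smul_smul, inv_mul_cancel₀ (hu N), one_smul]
      rw [this]
      apply Submodule.smul_mem
      exact Submodule.sub_mem _ (Submodule.mem_sup_left (Submodule.mem_span_singleton_self _))
        (Submodule.mem_sup_right (h N))

lemma tri_jump {c c' : ℕ → M} {u : ℕ → R} (hu : ∀ N, u N ≠ 0)
    (h : ∀ N, c' N - u N • c N ∈ Submodule.span R (c '' Set.Iio N)) (N : ℕ) :
    IsJump R c' N ↔ IsJump R c N := by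
  unfold IsJump
  rw [tri_span hu h N, not_iff_not]
  constructor
  · intro hmem
    have : c N = (u N)⁻¹ • (c' N - (c' N - u N • c N)) := by
      rw [sub_sub_cancel, smul_smul, inv_mul_cancel₀ (hu N), one_smul]
    rw [this]
    exact Submodule.smul_mem _ _ (Submodule.sub_mem _ hmem (h N))
  · intro hmem
    have : c' N = (c' N - u N • c N) + u N • c N := by abel
    rw [this]
    exact Submodule.add_mem _ (h N) (Submodule.smul_mem _ _ hmem)

lemma tri_orders {c c' : ℕ → M} {u : ℕ → R} (hu : ∀ N, u N ≠ 0)
    (h : ∀ N, c' N - u N • c N ∈ Submodule.span R (c '' Set.Iio N)) {n : ℕ} (J : Fin n → ℕ) :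
    IsOrders R c' J ↔ IsOrders R c J := by
  unfold IsOrders
  simp only [tri_jump hu h]

end Tri

section Det

variable {R : Type*} [Field R] {n : ℕ}

/-- the column index of the Wronskian matrix. -/
def idx (J : Fin n → ℕ) (m : Fin (n + 1)) : ℕ := Fin.cases 0 (fun l => J l + 1) m

lemma jumps_subset_idx {c : ℕ → (Fin (n + 1) → R)} {J : Fin n → ℕ} (hJ : IsOrders R c J)
    (l : Fin n) : c '' (jumps (R := R) c (J l + 1) : Set ℕ) ⊆
      (fun m => c (idx J m)) '' {m : Fin (n + 1) | (m : ℕ) ≤ l} := by
  classical
  rintro _ ⟨j, hj, rfl⟩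
  simp only [jumps, Finset.coe_filter, Finset.mem_range, Set.mem_ofPred_eq] at hj
  rcases Nat.eq_zero_or_pos j with rfl | hpos
  · exact ⟨0, by simp, rfl⟩
  · obtain ⟨j', rfl⟩ : ∃ j', j = j' + 1 := ⟨j - 1, by omega⟩
    obtain ⟨i, hi⟩ := (hJ.2 j').mpr hj.2
    have hil : i < l := by
      by_contra hge
      rw [not_lt] at hge
      have := hJ.1.monotone hge
      omega
    refine ⟨i.succ, ?_, ?_⟩
    · simp only [Set.mem_ofPred_eq, Fin.val_succ]
      rw [Fin.lt_def] at hil
      omega
    · simp only [idx, Fin.cases_succ, hi]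

theorem det_tri {c c' : ℕ → (Fin (n + 1) → R)} {u : ℕ → R}
    (h : ∀ N, c' N - u N • c N ∈ Submodule.span R (c '' Set.Iio N))
    {J : Fin n → ℕ} (hJ : IsOrders R c J) :
    (Matrix.of fun i m => c' (idx J m) i : Matrix (Fin (n + 1)) (Fin (n + 1)) R).det =
      (∏ m, u (idx J m)) *
        (Matrix.of fun i m => c (idx J m) i : Matrix (Fin (n + 1)) (Fin (n + 1)) R).det := by
  classical
  -- coefficients
  have hex : ∀ l : Fin n, ∃ b : Fin (n + 1) → R, (∀ m : Fin (n + 1), (l : ℕ) < m → b m = 0) ∧
      c' (J l + 1) - u (J l + 1) • c (J l + 1) = ∑ m, b m • c (idx J m) := by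
    intro l
    have h1 := h (J l + 1)
    rw [span_Iio_eq] at h1
    have h2 := Submodule.span_mono (R := R) (jumps_subset_idx hJ l) h1
    rw [Finsupp.mem_span_image_iff_linearCombination] at h2
    obtain ⟨f, hf, hfe⟩ := h2
    refine ⟨f, fun m hm => ?_, ?_⟩
    · rw [Finsupp.mem_supported'] at hf
      apply hf
      simp only [Set.mem_ofPred_eq, not_le]
      exact hm
    · rw [← hfe, Finsupp.linearCombination_apply, Finsupp.sum_fintype]
      intro i; simp
  choose b hb0 hb using hex
  have h0 : c' 0 = u 0 • c 0 := by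
    have := h 0
    simp only [Set.Iio, Nat.not_lt_zero, Set.ofPred_false, Set.image_empty, Submodule.span_empty,
      Submodule.mem_bot] at this
    exact sub_eq_zero.mp this
  let U : Matrix (Fin (n + 1)) (Fin (n + 1)) R := Matrix.of fun m cidx =>
    Fin.cases (motive := fun _ => R) (if m = 0 then u 0 else 0)
      (fun l => b l m + if m = l.succ then u (J l + 1) else 0) cidx
  have hmul : (Matrix.of fun i m => c' (idx J m) i : Matrix (Fin (n + 1)) (Fin (n + 1)) R) =
      (Matrix.of fun i m => c (idx J m) i) * U := by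
    ext i cidx
    rw [Matrix.mul_apply]
    refine Fin.cases ?_ (fun l => ?_) cidx
    · simp only [Matrix.of_apply, U, Fin.cases_zero, idx]
      rw [Finset.sum_eq_single 0]
      · simp only [if_true, Fin.cases_zero]
        rw [h0, Pi.smul_apply, smul_eq_mul, mul_comm]
      · intro m _ hm
        rw [if_neg hm, mul_zero]
      · intro hm; exact absurd (Finset.mem_univ _) hm
    · simp only [Matrix.of_apply, U, Fin.cases_succ]
      have h3 : c' (idx J l.succ) = u (J l + 1) • c (J l + 1) + ∑ m, b l m • c (idx J m) := by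
        rw [← hb l]; simp only [idx, Fin.cases_succ]; abel
      rw [h3]
      simp only [Pi.add_apply, Pi.smul_apply, Finset.sum_apply, smul_eq_mul, mul_add]
      rw [Finset.sum_add_distrib, add_comm]
      congr 1
      · apply Finset.sum_congr rfl
        intro m _
        ring
      · rw [Finset.sum_eq_single l.succ]
        · rw [if_pos rfl]; simp only [idx, Fin.cases_succ]; ring
        · intro m _ hm
          rw [if_neg hm, mul_zero]
        · intro hm; exact absurd (Finset.mem_univ _) hm
  have hU : U.BlockTriangular id := by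
    intro m cidx hlt
    simp only [id] at hlt
    simp only [U, Matrix.of_apply]
    induction cidx using Fin.cases with
    | zero =>
      simp only [Fin.cases_zero]
      rw [if_neg]
      rintro rfl; exact absurd hlt (lt_irrefl _)
    | succ l =>
      simp only [Fin.cases_succ]
      rw [hb0 l m, if_neg, add_zero]
      · rintro rfl; exact absurd hlt (lt_irrefl _)
      · rw [Fin.lt_def, Fin.val_succ] at hlt
        omega
  rw [hmul, Matrix.det_mul, Matrix.det_of_isUpperTriangular hU, mul_comm]
  congr 1
  apply Finset.prod_congr rfl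
  intro m _
  refine Fin.cases ?_ (fun l => ?_) m
  · simp [U, idx]
  · simp only [U, Matrix.of_apply, Fin.cases_succ, idx, if_true]
    rw [hb0 l l.succ (by rw [Fin.val_succ]; omega), zero_add]

end Det

end Groth.Agent.Lib.LeadSV
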