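import Mathlib
import Groth.Agent.Lib.LeadTR8

/-! Tate residues: near-inclusions through linear maps and comparison of the residue along a
dense embedding. -/

set_option autoImplicit false

namespace Groth.Agent.Lib.LeadTR
open LinearMap Module

variable {k : Type*} [Field k] {V : Type*} [AddCommGroup V] [Module k V]

/-- near-inclusion detected through a linear map. -/
lemma nle_of_map {U : Type*} [AddCommGroup U] [Module k U] (T : V →ₗ[k] U) {M C : Submodule k V}
    (hker : M ⊓ LinearMap.ker T ≤ C) (hfin : FiniteDimensional k (M.map T)) : Nle M C := by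
  haveI := hfin
  let T' : M →ₗ[k] (M.map T) :=
    (T.domRestrict M).codRestrict (M.map T) (fun m => ⟨m, m.2, rfl⟩)
  have hsurj : Function.Surjective T' := by
    rintro ⟨_, m, hm, rfl⟩; exact ⟨⟨m, hm⟩, rfl⟩
  obtain ⟨s, hs⟩ := LinearMap.exists_rightInverse_of_surjective T'
    (LinearMap.range_eq_top.mpr hsurj)
  refine ⟨(LinearMap.range s).map M.subtype, inferInstance, ?_⟩
  intro m hm
  set m' : M := ⟨m, hm⟩ with hm'
  have h0 : T' (s (T' m')) = T' m' := by
    have := LinearMap.congr_fun hs (T' m')
    simpa using this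
  have h1 : T' (m' - s (T' m')) = 0 := by rw [map_sub, h0, sub_self]
  have h2 : ((m' - s (T' m') : M) : V) ∈ C := by
    apply hker
    refine ⟨(m' - s (T' m')).2, ?_⟩
    show ((m' - s (T' m') : M) : V) ∈ LinearMap.ker T
    rw [LinearMap.mem_ker]
    have := congrArg Subtype.val h1
    exact this
  have h3 : m = ((m' - s (T' m') : M) : V) + ((s (T' m') : M) : V) := by
    simp [hm']
  rw [h3]
  exact Submodule.add_mem_sup h2 ⟨s (T' m'), ⟨_, rfl⟩, rfl⟩

variable {V' : Type*} [AddCommGroup V'] [Module k V']

/-- near-inclusions pull back. -/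
lemma Nle.comap (ι : V →ₗ[k] V') {X : Submodule k V} {A' : Submodule k V'}
    (h : Nle (X.map ι) A') : Nle X (A'.comap ι) := by
  obtain ⟨W, hW, hle⟩ := h
  haveI := hW
  apply nle_of_map (A'.mkQ ∘ₗ ι)
  · rintro x ⟨-, hker⟩
    rw [SetLike.mem_coe, LinearMap.mem_ker, LinearMap.comp_apply, Submodule.mkQ_apply,
      Submodule.Quotient.mk_eq_zero] at hker
    exact hker
  · have : X.map (A'.mkQ ∘ₗ ι) ≤ W.map A'.mkQ := by
      rw [Submodule.map_comp]
      refine (Submodule.map_mono hle).trans ?_
      rw [Submodule.map_sup]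
      simp
    exact Submodule.finiteDimensional_of_le this

/-- operators intertwined by `ι`: near-stability pulls back. -/
lemma InE.comap (ι : V →ₗ[k] V') {A' : Submodule k V'} {f : Module.End k V}
    {f' : Module.End k V'} (hf : ∀ v, ι (f v) = f' (ι v)) (h : InE A' f') :
    InE (A'.comap ι) f := by
  apply Nle.comap ι
  refine Nle.mono_left ?_ h
  rintro _ ⟨_, ⟨a, ha, rfl⟩, rfl⟩
  exact ⟨ι a, ha, (hf a).symm⟩

/-- comparison of residues along a dense embedding. -/
theorem resP_comparison (ι : V →ₗ[k] V') (hι : Function.Injective ι)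
    (A' : Submodule k V') (hdense : ∀ z : V', ∃ v : V, z - ι v ∈ A')
    {f g π : Module.End k V} {f' g' π' : Module.End k V'}
    (hf : ∀ v, ι (f v) = f' (ι v)) (hg : ∀ v, ι (g v) = g' (ι v))
    (hfg : f' * g' = g' * f') (hfE : InE A' f') (hgE : InE A' g')
    (hπ : LinearMap.IsProj (A'.comap ι) π) (hπ' : LinearMap.IsProj A' π') :
    resP π f g = resP π' f' g' := by
  set A := A'.comap ι with hA
  have hfgV : f * g = g * f := by
    apply LinearMap.ext
    intro v
    apply hι
    simp only [Module.End.mul_apply]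
    rw [hf, hg, hg, hf]
    have := congrArg (fun φ : Module.End k V' => φ (ι v)) hfg
    simpa only [Module.End.mul_apply] using this
  have hfEA : InE A f := InE.comap ι hf hfE
  have hgEA : InE A g := InE.comap ι hg hgE
  obtain ⟨C, hC⟩ := Submodule.exists_isCompl A
  set π₀ : Module.End k V := A.projection C hC with hπ₀
  have hπ₀A : LinearMap.IsProj A π₀ :=
    ⟨fun x => Submodule.projection_apply_mem hC x,
      fun x hx => Submodule.projection_apply_of_mem_left hC hx⟩
  set C' : Submodule k V' := C.map ι with hC'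
  have hC'compl : IsCompl A' C' := by
    constructor
    · rw [Submodule.disjoint_def]
      rintro _ hz ⟨c, hc, rfl⟩
      have hcA : c ∈ A := hz
      have : c ∈ A ⊓ C := ⟨hcA, hc⟩
      rw [hC.inf_eq_bot, Submodule.mem_bot] at this
      rw [this, map_zero]
    · rw [codisjoint_iff, eq_top_iff]
      intro z _
      obtain ⟨v, hv⟩ := hdense z
      have hvAC : v ∈ A ⊔ C := by rw [hC.sup_eq_top]; trivial
      obtain ⟨a, ha, c, hc, rfl⟩ := Submodule.mem_sup.1 hvAC
      have : z = (z - ι (a + c) + ι a) + ι c := by rw [map_add]; abel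
      rw [this]
      exact Submodule.add_mem_sup (A'.add_mem hv ha) ⟨c, hc, rfl⟩
  set π₀' : Module.End k V' := A'.projection C' hC'compl with hπ₀'
  have hπ₀'A : LinearMap.IsProj A' π₀' :=
    ⟨fun x => Submodule.projection_apply_mem hC'compl x,
      fun x hx => Submodule.projection_apply_of_mem_left hC'compl hx⟩
  have hint : ∀ v, π₀' (ι v) = ι (π₀ v) := by
    intro v
    have hvAC : v ∈ A ⊔ C := by rw [hC.sup_eq_top]; trivial
    obtain ⟨a, ha, c, hc, rfl⟩ := Submodule.mem_sup.1 hvAC
    rw [map_add, map_add, map_add, Submodule.projection_apply_of_mem_left hC ha,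
      (Submodule.projection_apply_eq_zero_iff hC).2 hc,
      Submodule.projection_apply_of_mem_left hC'compl (show ι a ∈ A' from ha),
      (Submodule.projection_apply_eq_zero_iff hC'compl).2 ⟨c, hc, rfl⟩]
    simp
  rw [resP_indep hπ hπ₀A le_rfl (Nle.refl A) hfEA hgEA hfgV,
    resP_indep hπ' hπ₀'A le_rfl (Nle.refl A') hfE hgE hfg]
  set θ : Module.End k V := π₀ * f * g - g * (π₀ * f) with hθ
  set θ' : Module.End k V' := π₀' * f' * g' - g' * (π₀' * f') with hθ'
  have hθι : ∀ v, θ' (ι v) = ι (θ v) := by
    intro v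
    simp only [hθ, hθ', LinearMap.sub_apply, Module.End.mul_apply, map_sub]
    rw [← hg, ← hf, hint, ← hf, hint, hg]
  -- the range of `θ'` lies in the range of `ι`
  have hsubmem : ∀ z : V', π₀' z - z ∈ LinearMap.range ι := by
    intro z
    have h1 : z - π₀' z ∈ C' := Submodule.sub_projection_mem hC'compl z
    obtain ⟨c, -, hc⟩ := h1
    exact ⟨-c, by rw [map_neg, hc]; abel⟩
  have hg'range : ∀ z ∈ LinearMap.range ι, g' z ∈ LinearMap.range ι := by
    rintro _ ⟨v, rfl⟩
    exact ⟨g v, hg v⟩
  have hrange : ∀ z : V', θ' z ∈ LinearMap.range ι := by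
    intro z
    have e : θ' z = (π₀' (f' (g' z)) - f' (g' z)) - g' (π₀' (f' z) - f' z) := by
      simp only [hθ', LinearMap.sub_apply, Module.End.mul_apply, map_sub]
      have := congrArg (fun φ : Module.End k V' => φ z) hfg
      simp only [Module.End.mul_apply] at this
      rw [this]; abel
    rw [e]
    exact Submodule.sub_mem _ (hsubmem _) (hg'range _ (hsubmem _))
  let e := LinearEquiv.ofInjective ι hι
  let h : V' →ₗ[k] V := e.symm.toLinearMap ∘ₗ (θ'.codRestrict (LinearMap.range ι) hrange)
  have hιh : ι ∘ₗ h = θ' := by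
    apply LinearMap.ext
    intro z
    simp only [h, LinearMap.comp_apply, LinearEquiv.coe_coe]
    have := LinearEquiv.apply_symm_apply e (θ'.codRestrict (LinearMap.range ι) hrange z)
    have h2 := congrArg Subtype.val this
    rw [LinearEquiv.ofInjective_apply] at h2
    exact h2
  have hhι : h ∘ₗ ι = θ := by
    apply LinearMap.ext
    intro v
    apply hι
    have := LinearMap.congr_fun hιh (ι v)
    simp only [LinearMap.comp_apply] at this ⊢
    rw [this, hθι]
  have hfin : FinPot (ι ∘ₗ h) := by
    rw [hιh]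
    exact E0.finPot (commutator_mem_E0 hπ₀'A hfE hgE hfg)
  have := Tr_comm ι h hfin
  rw [hιh, hhι] at this
  rw [resP, resP]
  exact this.symm

end Groth.Agent.Lib.LeadTR
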