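import Mathlib
import Groth.Agent.Lib.LeadTT1

/-! Tate residues: passing to `A ⊓ B` when `A + B = V` and `B` is stable. -/

set_option autoImplicit false

namespace Groth.Agent.Lib.LeadTR
open LinearMap Module

variable {k : Type*} [Field k] {V : Type*} [AddCommGroup V] [Module k V]

lemma Nle.inf_right {X A : Submodule k V} (h : Nle X A) (B : Submodule k V) :
    Nle (X ⊓ B) (A ⊓ B) := by
  obtain ⟨W, hW, hle⟩ := h
  haveI := hW
  apply nle_of_map A.mkQ
  · rintro x ⟨⟨-, hxB⟩, hker⟩
    rw [SetLike.mem_coe, LinearMap.mem_ker, Submodule.mkQ_apply,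
      Submodule.Quotient.mk_eq_zero] at hker
    exact ⟨hker, hxB⟩
  · have : (X ⊓ B).map A.mkQ ≤ W.map A.mkQ := by
      refine (Submodule.map_mono (inf_le_left.trans hle)).trans ?_
      rw [Submodule.map_sup]
      simp
    exact Submodule.finiteDimensional_of_le this

lemma map_sub_le (u v : Module.End k V) (X : Submodule k V) :
    X.map (u - v) ≤ X.map u ⊔ X.map v := by
  rintro _ ⟨x, hx, rfl⟩
  rw [LinearMap.sub_apply]
  exact Submodule.sub_mem _ (Submodule.mem_sup_left ⟨x, hx, rfl⟩)
    (Submodule.mem_sup_right ⟨x, hx, rfl⟩)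

theorem resP_inf_of_stable {A B : Submodule k V} {f g πA πC : Module.End k V}
    (hAB : A ⊔ B = ⊤) (hfA : InE A f) (hgA : InE A g) (hfg : f * g = g * f)
    (hfB : ∀ x ∈ B, f x ∈ B) (hgB : ∀ x ∈ B, g x ∈ B)
    (hπA : LinearMap.IsProj A πA) (hπC : LinearMap.IsProj (A ⊓ B) πC) :
    resP πA f g = resP πC f g ∧ InE (A ⊓ B) f ∧ InE (A ⊓ B) g := by
  set C : Submodule k V := A ⊓ B with hCdef
  have hCA : C ≤ A := inf_le_left
  have hCB : C ≤ B := inf_le_right
  have hinE : ∀ {u : Module.End k V}, InE A u → (∀ x ∈ B, u x ∈ B) → InE C u := by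
    intro u hu huB
    have h1 : C.map u ≤ A.map u ⊓ B := by
      rintro _ ⟨x, hx, rfl⟩
      exact ⟨⟨x, hCA hx, rfl⟩, huB x (hCB hx)⟩
    exact Nle.mono_left h1 (Nle.inf_right hu B)
  have hfC : InE C f := hinE hfA hfB
  have hgC : InE C g := hinE hgA hgB
  refine ⟨?_, hfC, hgC⟩
  obtain ⟨q, hq⟩ := Submodule.exists_isCompl C
  set A₁ : Submodule k V := A ⊓ q with hA₁
  have hA₁A : A₁ ≤ A := inf_le_left
  have hA₁q : A₁ ≤ q := inf_le_right
  have hAsup : A₁ ⊔ C = A := by
    have := sup_inf_assoc_of_le q hCA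
    rw [hq.sup_eq_top, top_inf_eq] at this
    rw [sup_comm, hA₁, inf_comm A q]
    exact this.symm
  have hdisj : Disjoint A₁ B := by
    rw [disjoint_iff, eq_bot_iff]
    intro x hx
    have h1 : x ∈ C := ⟨hA₁A hx.1, hx.2⟩
    have h2 : x ∈ q := hA₁q hx.1
    have : x ∈ C ⊓ q := ⟨h1, h2⟩
    rwa [hq.inf_eq_bot] at this
  have hcompl : IsCompl A₁ B := by
    refine ⟨hdisj, ?_⟩
    rw [codisjoint_iff, eq_top_iff, ← hAB, ← hAsup]
    exact sup_le (sup_le le_sup_left (hCB.trans le_sup_right)) le_sup_right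
  set p₁ : Module.End k V := A₁.projection B hcompl with hp₁
  set πB : Module.End k V := B.projection A₁ hcompl.symm with hπBdef
  set ρ₀ : Module.End k V := C.projection q hq with hρ₀
  set πC' : Module.End k V := ρ₀ * πB with hπC'def
  have hsum : p₁ + πB = 1 := by
    ext x
    simp only [LinearMap.add_apply, Module.End.one_apply]
    exact Submodule.projection_add_projection_eq_self hcompl x
  have hπB : LinearMap.IsProj B πB :=
    ⟨fun x => Submodule.projection_apply_mem hcompl.symm x,
      fun x hx => Submodule.projection_apply_of_mem_left hcompl.symm hx⟩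
  have hπC' : LinearMap.IsProj C πC' := by
    refine ⟨fun x => ?_, fun x hx => ?_⟩
    · rw [hπC'def, Module.End.mul_apply]
      exact Submodule.projection_apply_mem hq _
    · rw [hπC'def, Module.End.mul_apply, hπB.map_id x (hCB hx),
        Submodule.projection_apply_of_mem_left hq hx]
  have hπBA : ∀ a ∈ A, πB a ∈ C := by
    intro a ha
    rw [← hAsup] at ha
    obtain ⟨a₁, ha₁, c, hc, rfl⟩ := Submodule.mem_sup.1 ha
    rw [map_add, (Submodule.projection_apply_eq_zero_iff hcompl.symm).2 ha₁, zero_add,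
      hπB.map_id c (hCB hc)]
    exact hc
  have hπA' : LinearMap.IsProj A (p₁ + πC') := by
    refine ⟨fun x => ?_, fun x hx => ?_⟩
    · rw [LinearMap.add_apply]
      exact A.add_mem (hA₁A (Submodule.projection_apply_mem hcompl x)) (hCA (hπC'.map_mem x))
    · rw [← hAsup] at hx
      obtain ⟨a₁, ha₁, c, hc, rfl⟩ := Submodule.mem_sup.1 hx
      have e1 : p₁ (a₁ + c) = a₁ := by
        rw [map_add, Submodule.projection_apply_of_mem_left hcompl ha₁,
          (Submodule.projection_apply_eq_zero_iff hcompl).2 (hCB hc), add_zero]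
      have e2 : πC' (a₁ + c) = c := by
        rw [hπC'def, Module.End.mul_apply, map_add,
          (Submodule.projection_apply_eq_zero_iff hcompl.symm).2 ha₁, zero_add,
          hπB.map_id c (hCB hc), Submodule.projection_apply_of_mem_left hq hc]
      rw [LinearMap.add_apply, e1, e2]
  rw [resP_indep hπA hπA' le_rfl (Nle.refl A) hfA hgA hfg,
    resP_indep hπC hπC' le_rfl (Nle.refl C) hfC hgC hfg]
  set θA : Module.End k V := (p₁ + πC') * f * g - g * ((p₁ + πC') * f) with hθA
  set θB : Module.End k V := πB * f * g - g * (πB * f) with hθB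
  set θC : Module.End k V := πC' * f * g - g * (πC' * f) with hθC
  have hrel : θA = θC - θB := by
    have h1 : p₁ = 1 - πB := by rw [← hsum]; abel
    rw [hθA, hθB, hθC, h1]
    have : (1 - πB + πC') * f * g - g * ((1 - πB + πC') * f) =
        (f * g - g * f) + (πC' * f * g - g * (πC' * f)) - (πB * f * g - g * (πB * f)) := by
      noncomm_ring
    rw [this, hfg, sub_self, zero_add]
  have hθCmem : θC ∈ E0 C := commutator_mem_E0 hπC' hfC hgC hfg
  -- `θB` kills `B`
  have hθB0 : ∀ x ∈ B, θB x = 0 := by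
    intro x hx
    simp only [hθB, LinearMap.sub_apply, Module.End.mul_apply]
    rw [hπB.map_id _ (hfB _ (hgB x hx)), hπB.map_id _ (hfB x hx)]
    have := congrArg (fun φ : Module.End k V => φ x) hfg
    simp only [Module.End.mul_apply] at this
    rw [this, sub_self]
  have hθBmem : θB ∈ E0 C := by
    refine ⟨?_, ?_⟩
    · -- range
      have hrange : LinearMap.range θB ≤ A.map θB := by
        rintro _ ⟨x, rfl⟩
        have hx : x ∈ A ⊔ B := by rw [hAB]; trivial
        obtain ⟨a, ha, b, hb, rfl⟩ := Submodule.mem_sup.1 hx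
        exact ⟨a, ha, by rw [map_add, hθB0 b hb, add_zero]⟩
      have hmapπ : ∀ {X : Submodule k V}, Nle X A → Nle (X.map πB) C := by
        intro X hX
        refine (hX.map πB).mono_right ?_
        rintro _ ⟨a, ha, rfl⟩
        exact hπBA a ha
      have h1 : Nle (A.map (πB * f * g)) C := by
        have e : A.map (πB * f * g) = ((A.map g).map f).map πB := by
          rw [← Submodule.map_comp, ← Submodule.map_comp]; rfl
        rw [e]
        exact hmapπ ((hgA.map f).trans hfA)
      have h2 : Nle (A.map (g * (πB * f))) C := by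
        have e : A.map (g * (πB * f)) = ((A.map f).map πB).map g := by
          rw [← Submodule.map_comp, ← Submodule.map_comp]; rfl
        rw [e]
        exact ((hmapπ hfA).map g).trans hgC
      exact Nle.mono_left (hrange.trans (map_sub_le _ _ A)) (h1.sup h2)
    · have : C.map θB = ⊥ := by
        rw [eq_bot_iff]
        rintro _ ⟨x, hx, rfl⟩
        rw [hθB0 x (hCB hx)]; exact Submodule.zero_mem _
      show FiniteDimensional k (C.map θB)
      rw [this]; infer_instance
  have hTrB : Tr θB = 0 := resP_eq_zero_of_stable hπB hfB hgB hfg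
  rw [resP, resP, ← hθA, ← hθC, hrel, Tr_sub hθCmem hθBmem, hTrB, sub_zero]

end Groth.Agent.Lib.LeadTR
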