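import Mathlib
import Groth.Agent.Lib.LeadTT2

/-! Tate's trace of a block operator on a finite power `ι → V`. -/

set_option autoImplicit false

namespace Groth.Agent.Lib.LeadTR
open LinearMap Module

variable {k : Type*} [Field k] {ι : Type*} [Fintype ι] [DecidableEq ι]
  {V : Type*} [AddCommGroup V] [Module k V]

/-- the `(i,j)` block. -/
def bl (i j : ι) (θ : Module.End k V) : Module.End k (ι → V) :=
  LinearMap.single k (fun _ : ι => V) i ∘ₗ θ ∘ₗ LinearMap.proj j

lemma bl_apply (i j : ι) (θ : Module.End k V) (x : ι → V) :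
    bl i j θ x = Pi.single i (θ (x j)) := rfl

/-- the operator with blocks `M i j`. -/
def blockOp (M : ι → ι → Module.End k V) : Module.End k (ι → V) :=
  LinearMap.pi fun i => ∑ j, M i j ∘ₗ LinearMap.proj j

lemma blockOp_apply (M : ι → ι → Module.End k V) (x : ι → V) (i : ι) :
    blockOp M x i = ∑ j, M i j (x j) := by
  simp [blockOp, LinearMap.sum_apply]

lemma blockOp_eq_sum (M : ι → ι → Module.End k V) :
    blockOp M = ∑ i, ∑ j, bl i j (M i j) := by
  apply LinearMap.ext
  intro x
  funext l
  rw [blockOp_apply, LinearMap.sum_apply, Finset.sum_apply]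
  have hterm : ∀ i : ι, (∑ j, bl i j (M i j)) x l = if i = l then ∑ j, M l j (x j) else 0 := by
    intro i
    rw [LinearMap.sum_apply, Finset.sum_apply]
    split_ifs with hi
    · subst hi
      apply Finset.sum_congr rfl
      intro j _
      rw [bl_apply, Pi.single_eq_same]
    · apply Finset.sum_eq_zero
      intro j _
      rw [bl_apply, Pi.single_eq_of_ne (Ne.symm hi)]
  simp_rw [hterm]
  rw [Finset.sum_ite_eq' Finset.univ l, if_pos (Finset.mem_univ l)]

variable (A : Submodule k V)

lemma bl_mem_E0 (i j : ι) {θ : Module.End k V} (h : θ ∈ E0 A) :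
    bl i j θ ∈ E0 (Submodule.pi Set.univ fun _ : ι => A) := by
  constructor
  · have h1 : LinearMap.range (bl i j θ) ≤
        (LinearMap.range θ).map (LinearMap.single k (fun _ : ι => V) i) := by
      rintro _ ⟨x, rfl⟩; exact ⟨θ (x j), ⟨x j, rfl⟩, rfl⟩
    refine Nle.mono_left h1 ((Nle.map h.1 _).trans (Nle.of_le ?_))
    rintro _ ⟨a, ha, rfl⟩ l _
    by_cases hl : l = i
    · subst hl; simpa using ha
    · rw [LinearMap.single_apply, Pi.single_eq_of_ne hl]; exact A.zero_mem
  · haveI : FiniteDimensional k (A.map θ) := h.2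
    show FiniteDimensional k ((Submodule.pi Set.univ fun _ : ι => A).map (bl i j θ))
    refine Submodule.finiteDimensional_of_le
      (S₂ := (A.map θ).map (LinearMap.single k (fun _ : ι => V) i)) ?_
    rintro _ ⟨x, hx, rfl⟩
    exact ⟨θ (x j), ⟨x j, hx j (Set.mem_univ j), rfl⟩, rfl⟩

lemma Tr_bl_of_ne {i j : ι} (h : i ≠ j) (θ : Module.End k V) : Tr (bl i j θ) = 0 := by
  apply Tr_of_nilpotent _ 2
  rw [pow_two]
  apply LinearMap.ext
  intro x
  rw [Module.End.mul_apply, bl_apply, bl_apply, Pi.single_eq_of_ne (Ne.symm h), map_zero]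
  simp

lemma Tr_bl_self (i : ι) {θ : Module.End k V} (h : FinPot θ) : Tr (bl i i θ) = Tr θ :=
  Tr_blk (Vi := fun _ : ι => V) i h

/-- Tate's trace of a block operator is the sum of the traces of the diagonal blocks. -/
theorem Tr_blockOp {M : ι → ι → Module.End k V} (h : ∀ i j, M i j ∈ E0 A) :
    Tr (blockOp M) = ∑ i, Tr (M i i) := by
  rw [blockOp_eq_sum, Tr_sum (A := Submodule.pi Set.univ fun _ : ι => A) _ _
    (fun i _ => Submodule.sum_mem _ fun j _ => bl_mem_E0 A i j (h i j))]
  apply Finset.sum_congr rfl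
  intro i _
  rw [Tr_sum (A := Submodule.pi Set.univ fun _ : ι => A) _ _
    (fun j _ => bl_mem_E0 A i j (h i j))]
  rw [Finset.sum_eq_single i]
  · exact Tr_bl_self i (E0.finPot (h i i))
  · intro j _ hj
    exact Tr_bl_of_ne (Ne.symm hj) _
  · intro h'; exact absurd (Finset.mem_univ i) h'

/-- the commutator with diagonal operators in block form. -/
lemma commutator_blockOp (π g : Module.End k V) (M : ι → ι → Module.End k V) :
    piDiag (fun _ : ι => π) * blockOp M * piDiag (fun _ : ι => g) -
      piDiag (fun _ : ι => g) * (piDiag (fun _ : ι => π) * blockOp M) =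
    blockOp (fun i j => π * M i j * g - g * (π * M i j)) := by
  apply LinearMap.ext
  intro x
  funext i
  simp only [LinearMap.sub_apply, Module.End.mul_apply, Pi.sub_apply, piDiag_apply,
    blockOp_apply, map_sum]
  rw [← Finset.sum_sub_distrib]

variable {A}

/-- additivity of the residue in the first argument. -/
lemma resP_sum {κ : Type*} {π g : Module.End k V} (hπ : LinearMap.IsProj A π) (hg : InE A g)
    (s : Finset κ) (f : κ → Module.End k V) (hf : ∀ i ∈ s, InE A (f i))
    (hfg : ∀ i ∈ s, f i * g = g * f i) :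
    resP π (∑ i ∈ s, f i) g = ∑ i ∈ s, resP π (f i) g := by
  have e : π * (∑ i ∈ s, f i) * g - g * (π * ∑ i ∈ s, f i) =
      ∑ i ∈ s, (π * f i * g - g * (π * f i)) := by
    rw [Finset.sum_sub_distrib, Finset.mul_sum, Finset.sum_mul, Finset.mul_sum]
  rw [resP, e, Tr_sum (A := A) _ _ (fun i hi => commutator_mem_E0 hπ (hf i hi) hg (hfg i hi))]
  rfl

end Groth.Agent.Lib.LeadTR
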