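import Mathlib
import Groth.Agent.Lib.LeadTT3
import Groth.Agent.Lib.LeadTR13

/-! Tate residues on a field with an expansion, and the trace lemma for a finite extension with a
basis adapted to the lattices. -/

set_option autoImplicit false

namespace Groth.Agent.Lib.LeadTR
open LinearMap Module HahnSeries

universe u v w

section Local
variable {k : Type u} {K : Type v} [Field k] [Field K] [Algebra k K]
  {F : Type w} [Field F] [Algebra k F]

/-- the valuation ring read through an expansion, as a `k`-subspace. -/
noncomputable def OExp (φ : K →ₐ[k] LaurentSeries F) : Submodule k K :=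
  (Afil k (F := F) 0).comap (phiLin φ)

lemma mem_OExp {vK : Valuation K (WithZero (Multiplicative ℤ))} {φ : K →ₐ[k] LaurentSeries F}
    (hφ : LocRes.IsExpansionAt vK φ) {x : K} : x ∈ OExp φ ↔ vK x ≤ 1 := by
  show phiLin φ x ∈ Afil k (F := F) 0 ↔ _
  rw [phiLin_apply, mem_Afil_zero_iff_val, hφ.1]

lemma phiLin_injective (φ : K →ₐ[k] LaurentSeries F) : Function.Injective (phiLin φ) :=
  fun _ _ h => φ.toRingHom.injective h

lemma inE_mulLeft [FiniteDimensional k F] (φ : K →ₐ[k] LaurentSeries F) (a : K) :
    InE (OExp φ) (LinearMap.mulLeft k a) := by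
  apply InE.comap (phiLin φ) (f' := mulL k (φ a)) _ (mulL_inE _)
  intro v
  rw [LinearMap.mulLeft_apply, phiLin_apply, phiLin_apply, map_mul, mulL_apply]

theorem resP_mul_eq_locRes [FiniteDimensional k F]
    {vK : Valuation K (WithZero (Multiplicative ℤ))} (φ : K →ₐ[k] LaurentSeries F)
    (hφ : LocRes.IsExpansionAt vK φ) (a b : K) {π : Module.End k K}
    (hπ : LinearMap.IsProj (OExp φ) π) :
    resP π (LinearMap.mulLeft k a) (LinearMap.mulLeft k b) = LocRes.locRes φ a b := by
  have h := resP_comparison (phiLin φ) (phiLin_injective φ) (Afil k (F := F) 0)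
    (fun z => exists_sub_mem_Afil (k := k) hφ z)
    (f := LinearMap.mulLeft k a) (g := LinearMap.mulLeft k b)
    (f' := mulL k (φ a)) (g' := mulL k (φ b)) (π := π) (π' := posP k F)
    (fun v => by rw [LinearMap.mulLeft_apply, phiLin_apply, phiLin_apply, map_mul, mulL_apply])
    (fun v => by rw [LinearMap.mulLeft_apply, phiLin_apply, phiLin_apply, map_mul, mulL_apply])
    (mulL_comm _ _) (mulL_inE _) (mulL_inE _) hπ isProj_posP
  rw [h]
  exact Tr_thetaL (φ a) (φ b)

end Local

section Trace
variable {k : Type u} {K : Type v} {K' : Type w} [Field k] [Field K] [Field K'] [Algebra k K]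
  [Algebra K K'] [Algebra k K'] [IsScalarTower k K K']
  {ι : Type*} [Fintype ι] [DecidableEq ι]

lemma mulLeft_comm (a b : K) :
    (LinearMap.mulLeft k a) * (LinearMap.mulLeft k b) =
      (LinearMap.mulLeft k b) * (LinearMap.mulLeft k a) := by
  apply LinearMap.ext
  intro x
  simp only [Module.End.mul_apply, LinearMap.mulLeft_apply]
  ring

/-- coordinates with respect to a `K`-basis, as a `k`-linear equivalence. -/
noncomputable def coordEquiv (b : Basis ι K K') : K' ≃ₗ[k] (ι → K) :=
  (b.equivFun).restrictScalars k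

lemma coordEquiv_apply (b : Basis ι K K') (z : K') (i : ι) :
    coordEquiv (k := k) b z i = b.repr z i := rfl

/-- **Tate's trace lemma**. -/
theorem resP_trace (b : Basis ι K K') (A : Submodule k K) (A' : Submodule k K')
    (hA' : ∀ z, z ∈ A' ↔ ∀ i, b.repr z i ∈ A)
    (hE : ∀ a : K, InE A (LinearMap.mulLeft k a))
    {π : Module.End k K} (hπ : LinearMap.IsProj A π) (y : K') (x : K) :
    LinearMap.IsProj A'
      ((coordEquiv (k := k) b).symm.toLinearMap ∘ₗ piDiag (fun _ : ι => π) ∘ₗ
        (coordEquiv (k := k) b).toLinearMap) ∧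
    resP ((coordEquiv (k := k) b).symm.toLinearMap ∘ₗ piDiag (fun _ : ι => π) ∘ₗ
        (coordEquiv (k := k) b).toLinearMap)
      (LinearMap.mulLeft k y) (LinearMap.mulLeft k (algebraMap K K' x)) =
    resP π (LinearMap.mulLeft k (Algebra.trace K K' y)) (LinearMap.mulLeft k x) := by
  set e := coordEquiv (k := k) b with he
  set π' : Module.End k K' := e.symm.toLinearMap ∘ₗ piDiag (fun _ : ι => π) ∘ₗ e.toLinearMap
    with hπ'
  have heA' : ∀ z, z ∈ A' ↔ e z ∈ Submodule.pi Set.univ (fun _ : ι => A) := by
    intro z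
    rw [hA']
    constructor
    · intro h i _; exact h i
    · intro h i; exact h i (Set.mem_univ i)
  have hπD := piDiag_isProj (fun _ : ι => A) (π := fun _ : ι => π) (fun _ => hπ)
  constructor
  · refine ⟨fun z => ?_, fun z hz => ?_⟩
    · rw [heA']
      simp only [hπ', LinearMap.comp_apply, LinearEquiv.coe_coe, LinearEquiv.apply_symm_apply]
      exact hπD.map_mem _
    · simp only [hπ', LinearMap.comp_apply, LinearEquiv.coe_coe]
      rw [hπD.map_id _ ((heA' z).mp hz), LinearEquiv.symm_apply_apply]
  · set g : Module.End k K := LinearMap.mulLeft k x with hg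
    set M : ι → ι → Module.End k K := fun i j =>
      LinearMap.mulLeft k (Algebra.leftMulMatrix b y i j) with hM
    have hF : ∀ z, e (LinearMap.mulLeft k y z) = blockOp M (e z) := by
      intro z
      funext i
      rw [blockOp_apply, LinearMap.mulLeft_apply, he, coordEquiv_apply,
        ← Algebra.leftMulMatrix_mulVec_repr b y z]
      rfl
    have hG : ∀ z, e (LinearMap.mulLeft k (algebraMap K K' x) z) =
        piDiag (fun _ : ι => g) (e z) := by
      intro z
      funext i
      rw [piDiag_apply, LinearMap.mulLeft_apply, he, coordEquiv_apply, coordEquiv_apply,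
        ← Algebra.smul_def, map_smul, Finsupp.smul_apply, hg, LinearMap.mulLeft_apply,
        smul_eq_mul]
    set Θ : Module.End k (ι → K) :=
      blockOp (fun i j => π * M i j * g - g * (π * M i j)) with hΘ
    have hΘmem : ∀ i j, π * M i j * g - g * (π * M i j) ∈ E0 A := fun i j =>
      commutator_mem_E0 hπ (hE _) (hE _) (mulLeft_comm _ _)
    have hconj : π' * LinearMap.mulLeft k y * LinearMap.mulLeft k (algebraMap K K' x) -
        LinearMap.mulLeft k (algebraMap K K' x) * (π' * LinearMap.mulLeft k y) =
        e.symm.toLinearMap ∘ₗ (Θ ∘ₗ e.toLinearMap) := by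
      apply LinearMap.ext
      intro z
      apply e.injective
      simp only [LinearMap.sub_apply, Module.End.mul_apply, map_sub, LinearMap.comp_apply,
        LinearEquiv.coe_coe, LinearEquiv.apply_symm_apply, hπ']
      rw [hG, hF, hG, LinearEquiv.apply_symm_apply, hF, hΘ, ← commutator_blockOp]
      simp only [LinearMap.sub_apply, Module.End.mul_apply]
    have hfin : FinPot ((Θ ∘ₗ e.toLinearMap) ∘ₗ e.symm.toLinearMap) := by
      have : (Θ ∘ₗ e.toLinearMap) ∘ₗ e.symm.toLinearMap = Θ := by
        apply LinearMap.ext; intro z; simp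
      rw [this, hΘ, blockOp_eq_sum]
      exact E0.finPot (A := Submodule.pi Set.univ fun _ : ι => A)
        (Submodule.sum_mem _ fun i _ => Submodule.sum_mem _ fun j _ =>
          bl_mem_E0 A i j (hΘmem i j))
    have hTr := Tr_comm (Θ ∘ₗ e.toLinearMap) e.symm.toLinearMap hfin
    have h1 : (Θ ∘ₗ e.toLinearMap) ∘ₗ e.symm.toLinearMap = Θ := by
      apply LinearMap.ext; intro z; simp
    rw [h1] at hTr
    rw [resP, hconj, ← hTr, hΘ, Tr_blockOp A hΘmem]
    have h2 : ∑ i, Tr (π * M i i * g - g * (π * M i i)) = ∑ i, resP π (M i i) g := rfl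
    rw [h2, ← resP_sum hπ (hE x) Finset.univ (fun i => M i i) (fun i _ => hE _)
      (fun i _ => mulLeft_comm _ _)]
    congr 1
    rw [Algebra.trace_eq_matrix_trace b y, Matrix.trace]
    apply LinearMap.ext
    intro z
    simp only [hM, LinearMap.sum_apply, LinearMap.mulLeft_apply, Matrix.diag_apply,
      Finset.sum_mul]

end Trace

end Groth.Agent.Lib.LeadTR
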