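import Mathlib
import Groth.Agent.Lib.LeadTT4
import Groth.Agent.Lib.LeadNM3
import Groth.Agent.Lib.LeadCE8

/-! The trace formula for residues: reduction of the residue at `P` of `Tr(y) dx` to the Tate residue
of `y dx` along the integral closure of `O_P`. -/

set_option autoImplicit false

namespace Groth.Agent.Lib.LeadTR
open LinearMap Module HahnSeries FunFld WithZero Groth.Agent.Lib.LeadFF Groth.Agent.Lib.LeadCE
  Groth.Agent.Lib.LeadNM

universe u v w

variable {k : Type u} {K : Type v} {K' : Type v} [Field k] [Field K] [Field K'] [Algebra k K]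
  [Algebra K K'] [Algebra k K'] [IsScalarTower k K K'] [FiniteDimensional K K']

/-- the elements integral at every place above `P`, as a `k`-subspace. -/
def OInt (P : Place k K) : Submodule k K' where
  carrier := {z | InR P z}
  add_mem' {a b} ha hb Q hQ := (Q.1.map_add a b).trans (max_le (ha Q hQ) (hb Q hQ))
  zero_mem' Q _ := by simp
  smul_mem' c x hx Q hQ := by
    rw [Algebra.smul_def, map_mul]
    exact (mul_le_mul' (Q.2.1 c) (hx Q hQ)).trans_eq (one_mul _)

lemma mem_OInt {P : Place k K} {z : K'} : z ∈ OInt (K' := K') P ↔ InR P z := Iff.rfl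

/-- an `O_P`-basis of the integral closure which is a `K`-basis of `K'`. -/
theorem exists_adapted_basis (hK : IsFunctionField k K) (P : Place k K) :
    ∃ b : Basis (Fin (Module.finrank K K')) K K',
      ∀ z : K', InR P z ↔ ∀ i, P.1 (b.repr z i) ≤ 1 := by
  classical
  obtain ⟨u, hu1, hu2⟩ := exists_basis_InR (K' := K') hK P
  obtain ⟨t, ht⟩ := LeadFG.exists_unif P
  have ht1 : P.1 t < 1 := LeadFG.unif_lt_one ht
  have ht0 : t ≠ 0 := LeadFG.unif_ne_zero ht
  have hspan : ⊤ ≤ Submodule.span K (Set.range u) := by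
    intro z _
    obtain ⟨m, hm⟩ := exists_pow_InR (K' := K') hK P ht1 ht0 z
    obtain ⟨a, -, ha⟩ := hu2 _ (hm m le_rfl)
    have hz : z = ∑ i, ((t ^ m)⁻¹ * a i) • u i := by
      have h0 : algebraMap K K' (t ^ m) ≠ 0 := by
        rw [Ne, map_eq_zero]; exact pow_ne_zero _ ht0
      have : z = (algebraMap K K' (t ^ m))⁻¹ * (algebraMap K K' (t ^ m) * z) := by
        field_simp
      rw [this, ha, Finset.mul_sum]
      apply Finset.sum_congr rfl
      intro i _
      rw [Algebra.smul_def, map_mul, map_inv₀]; ring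
    rw [hz]
    exact Submodule.sum_mem _ fun i _ => Submodule.smul_mem _ _ (Submodule.subset_span ⟨i, rfl⟩)
  let b : Basis (Fin (Module.finrank K K')) K K' :=
    basisOfTopLeSpanOfCardEqFinrank u hspan (by simp)
  have hb : ∀ i, b i = u i := fun i => by
    simp [b]
  refine ⟨b, fun z => ⟨fun hz i => ?_, fun hz => ?_⟩⟩
  · obtain ⟨a, ha1, ha⟩ := hu2 z hz
    have : b.repr z = Finsupp.equivFunOnFinite.symm a := by
      apply b.repr.symm.injective
      rw [LinearEquiv.symm_apply_apply, b.repr_symm_apply, Finsupp.linearCombination_apply,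
        Finsupp.sum_fintype _ _ (by simp), ha]
      apply Finset.sum_congr rfl
      intro i _
      rw [Finsupp.equivFunOnFinite_symm_apply_apply, hb, Algebra.smul_def]
    rw [this]
    exact ha1 i
  · have hzsum : z = ∑ i, algebraMap K K' (b.repr z i) * u i := by
      conv_lhs => rw [← b.sum_repr z]
      apply Finset.sum_congr rfl
      intro i _
      rw [hb, Algebra.smul_def]
    rw [hzsum]
    intro Q hQ
    apply Valuation.map_sum_le
    intro i _
    rw [map_mul]
    obtain ⟨e, he⟩ := hQ
    calc Q.1 (algebraMap K K' (b.repr z i)) * Q.1 (u i) ≤ 1 * 1 := by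
          apply mul_le_mul'
          · rw [he]; exact pow_le_one₀ zero_le' (hz i)
          · exact hu1 i Q ⟨e, he⟩
      _ = 1 := one_mul _

variable {F : Type w} [Field F] [Algebra k F]

/-- the residue at `P` of `Tr(y) dx` as a Tate residue on `K'` along the integral closure. -/
theorem exists_resP_OInt_eq_locRes (hK : IsFunctionField k K) (P : Place k K)
    [FiniteDimensional k F] (φ : K →ₐ[k] LaurentSeries F) (hφ : LocRes.IsExpansionAt P.1 φ)
    (y : K') (x : K) :
    ∃ π' : Module.End k K', LinearMap.IsProj (OInt (K' := K') P) π' ∧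
      resP π' (LinearMap.mulLeft k y) (LinearMap.mulLeft k (algebraMap K K' x)) =
        LocRes.locRes φ (Algebra.trace K K' y) x := by
  classical
  obtain ⟨b, hb⟩ := exists_adapted_basis (K' := K') hK P
  obtain ⟨C, hC⟩ := Submodule.exists_isCompl (OExp φ)
  set π : Module.End k K := (OExp φ).projection C hC with hπdef
  have hπ : LinearMap.IsProj (OExp φ) π :=
    ⟨fun x => Submodule.projection_apply_mem hC x,
      fun x hx => Submodule.projection_apply_of_mem_left hC hx⟩
  have hA' : ∀ z, z ∈ OInt (K' := K') P ↔ ∀ i, b.repr z i ∈ OExp φ := by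
    intro z
    rw [mem_OInt, hb z]
    exact forall_congr' fun i => (mem_OExp hφ).symm
  obtain ⟨h1, h2⟩ := resP_trace b (OExp φ) (OInt (K' := K') P) hA' (inE_mulLeft φ) hπ y x
  exact ⟨_, h1, h2.trans (resP_mul_eq_locRes φ hφ _ _ hπ)⟩

end Groth.Agent.Lib.LeadTR
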