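import Mathlib
import Groth.Agent.Lib.LeadTT5

/-! The trace formula for residues (S12578). -/

set_option autoImplicit false

namespace Groth.Agent.Lib.LeadTR
open LinearMap Module HahnSeries FunFld WithZero Groth.Agent.Lib.LeadFF Groth.Agent.Lib.LeadCE
  Groth.Agent.Lib.LeadNM

universe u v w

variable {k : Type u} {K : Type v} {K' : Type v} [Field k] [Field K] [Field K'] [Algebra k K]
  [Algebra K K'] [Algebra k K'] [IsScalarTower k K K'] [FiniteDimensional K K']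

/-- there is a place above. -/
theorem exists_isOver (hK : IsFunctionField k K) (P : Place k K) :
    ∃ Q : Place k K', IsOver Q P := by
  classical
  by_contra hno
  push Not at hno
  obtain ⟨b, hb⟩ := exists_adapted_basis (K' := K') hK P
  obtain ⟨t, ht⟩ := LeadFG.exists_unif P
  have hn : 0 < Module.finrank K K' := Module.finrank_pos
  set i₀ : Fin (Module.finrank K K') := ⟨0, hn⟩
  have hz : InR P (t⁻¹ • b i₀) := fun Q hQ => absurd hQ (hno Q)
  have := (hb _).mp hz i₀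
  rw [map_smul, Finsupp.smul_apply, b.repr_self, Finsupp.single_eq_same, smul_eq_mul, mul_one,
    map_inv₀, ht, ← exp_neg, ← exp_zero, exp_le_exp] at this
  omega

variable {F : Type w} [Field F] [Algebra k F]

theorem locRes_trace_eq_sum (hK : IsFunctionField k K) (P : Place k K)
    [FiniteDimensional k F] (φ : K →ₐ[k] LaurentSeries F) (hφ : LocRes.IsExpansionAt P.1 φ)
    (Qs : Finset (Place k K')) (hQs : ∀ Q, Q ∈ Qs ↔ IsOver Q P)
    (F' : Place k K' → Type w) [∀ Q, Field (F' Q)] [∀ Q, Algebra k (F' Q)]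
    [∀ Q, FiniteDimensional k (F' Q)]
    (ψ : ∀ Q, K' →ₐ[k] LaurentSeries (F' Q)) (hψ : ∀ Q ∈ Qs, LocRes.IsExpansionAt Q.1 (ψ Q))
    (y : K') (x : K) :
    LocRes.locRes φ (Algebra.trace K K' y) x =
      ∑ Q ∈ Qs, LocRes.locRes (ψ Q) y (algebraMap K K' x) := by
  classical
  obtain ⟨π', hπ', hres⟩ := exists_resP_OInt_eq_locRes (K' := K') hK P φ hφ y x
  rw [← hres]
  obtain ⟨Q₀, hQ₀⟩ := exists_isOver (K' := K') hK P
  have hQ₀s : Q₀ ∈ Qs := (hQs Q₀).mpr hQ₀
  let ι := {Q : Place k K' // Q ∈ Qs}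
  let Vi : ι → Type w := fun Q => LaurentSeries (F' Q.1)
  let A : ∀ Q : ι, Submodule k (Vi Q) := fun Q => Afil k (F := F' Q.1) 0
  let πi : ∀ Q : ι, Module.End k (Vi Q) := fun Q => posP k (F' Q.1)
  let Mf : ∀ Q : ι, Module.End k (Vi Q) := fun Q => mulL k (ψ Q.1 y)
  let Mg : ∀ Q : ι, Module.End k (Vi Q) := fun Q => mulL k (ψ Q.1 (algebraMap K K' x))
  let θi : ∀ Q : ι, Module.End k (Vi Q) := fun Q =>
    thetaL k (ψ Q.1 y) (ψ Q.1 (algebraMap K K' x))
  have hθeq : piDiag πi * piDiag Mf * piDiag Mg - piDiag Mg * (piDiag πi * piDiag Mf) =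
      piDiag θi := by
    apply LinearMap.ext; intro z; funext Q; rfl
  let Δ : K' →ₗ[k] (∀ Q : ι, Vi Q) := LinearMap.pi fun Q : ι => phiLin (ψ Q.1)
  have hΔ : ∀ (z : K') (Q : ι), Δ z Q = ψ Q.1 z := fun z Q => rfl
  have hΔinj : Function.Injective Δ := by
    intro a b hab
    have := congrFun hab ⟨Q₀, hQ₀s⟩
    rw [hΔ, hΔ] at this
    exact (ψ Q₀).toRingHom.injective this
  have hcomap : (Submodule.pi Set.univ A).comap Δ = OInt (K' := K') P := by
    ext z
    rw [Submodule.mem_comap, mem_OInt]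
    constructor
    · intro h Q hQ
      have h1 := h ⟨Q, (hQs Q).mpr hQ⟩ (Set.mem_univ _)
      have h2 : ψ Q z ∈ Afil k (F := F' Q) 0 := h1
      rw [mem_Afil_zero_iff_val, (hψ Q ((hQs Q).mpr hQ)).1] at h2
      exact h2
    · intro h Q _
      show ψ Q.1 z ∈ Afil k (F := F' Q.1) 0
      rw [mem_Afil_zero_iff_val, (hψ Q.1 Q.2).1]
      exact h Q.1 ((hQs Q.1).mp Q.2)
  have hdense : ∀ z : (∀ Q : ι, Vi Q), ∃ v : K', z - Δ v ∈ Submodule.pi Set.univ A := by
    intro z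
    choose yQ hyQ using fun Q : ι => exists_sub_mem_Afil (k := k) (hψ Q.1 Q.2) (z Q)
    obtain ⟨v, hv⟩ := LeadFG.exists_approx Qs
      (fun Q => if h : Q ∈ Qs then yQ ⟨Q, h⟩ else 0) 0
    refine ⟨v, fun Q _ => ?_⟩
    have h1 := hv Q.1 Q.2
    rw [dif_pos Q.2, neg_zero, exp_zero] at h1
    have h2 : ψ Q.1 (yQ Q - v) ∈ Afil k (F := F' Q.1) 0 := by
      rw [mem_Afil_zero_iff_val, (hψ Q.1 Q.2).1, ← Valuation.map_neg]
      have : -(yQ Q - v) = v - yQ ⟨Q.1, Q.2⟩ := by ring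
      rw [this]; exact h1
    have h3 : (z - Δ v) Q = (z Q - ψ Q.1 (yQ Q)) + ψ Q.1 (yQ Q - v) := by
      rw [Pi.sub_apply, hΔ, map_sub]; ring
    show (z - Δ v) Q ∈ Afil k (F := F' Q.1) 0
    rw [h3]
    exact Submodule.add_mem _ (hyQ Q) h2
  have hπ'' : LinearMap.IsProj ((Submodule.pi Set.univ A).comap Δ) π' := by
    rw [hcomap]; exact hπ'
  have hcmp := resP_comparison Δ hΔinj (Submodule.pi Set.univ A) hdense
    (f := LinearMap.mulLeft k y) (g := LinearMap.mulLeft k (algebraMap K K' x))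
    (f' := piDiag Mf) (g' := piDiag Mg) (π := π') (π' := piDiag πi)
    (fun v => by
      funext Q
      rw [hΔ, piDiag_apply, hΔ, LinearMap.mulLeft_apply, map_mul]; rfl)
    (fun v => by
      funext Q
      rw [hΔ, piDiag_apply, hΔ, LinearMap.mulLeft_apply, map_mul]; rfl)
    (by
      rw [← piDiag_mul, ← piDiag_mul]
      congr 1
      funext Q
      exact mulL_comm _ _)
    (piDiag_inE A fun Q => mulL_inE _) (piDiag_inE A fun Q => mulL_inE _)
    hπ'' (piDiag_isProj A fun Q => isProj_posP)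
  rw [hcmp, resP, hθeq, Tr_piDiag A (fun Q => thetaL_mem_E0 _ _)]
  have hterm : ∀ Q : ι, Tr (θi Q) = LocRes.locRes (ψ Q.1) y (algebraMap K K' x) := by
    intro Q
    show Tr (thetaL k (ψ Q.1 y) (ψ Q.1 (algebraMap K K' x))) = _
    rw [Tr_thetaL]
    rfl
  rw [Finset.sum_congr rfl fun Q _ => hterm Q]
  exact Finset.sum_coe_sort Qs (fun Q => LocRes.locRes (ψ Q) y (algebraMap K K' x))

end Groth.Agent.Lib.LeadTR
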