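import Mathlib
import Groth.Agent.Lib.LeadTT6

/-! The trace formula for residues at a single place `Q | P`, for functions regular at the other
places above `P` (no expansions needed there). -/

set_option autoImplicit false

namespace Groth.Agent.Lib.LeadTR
open LinearMap Module HahnSeries FunFld WithZero Groth.Agent.Lib.LeadFF Groth.Agent.Lib.LeadCE
  Groth.Agent.Lib.LeadNM

universe u v w

variable {k : Type u} {K : Type v} {K' : Type v} [Field k] [Field K] [Field K'] [Algebra k K]
  [Algebra K K'] [Algebra k K'] [IsScalarTower k K K'] [FiniteDimensional K K']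

/-- elements integral at the places above `P` other than `Q`. -/
def OOther (P : Place k K) (Q : Place k K') : Submodule k K' where
  carrier := {z | ∀ Q' : Place k K', IsOver Q' P → Q' ≠ Q → Q'.1 z ≤ 1}
  add_mem' {a b} ha hb Q' hQ' hne :=
    (Q'.1.map_add a b).trans (max_le (ha Q' hQ' hne) (hb Q' hQ' hne))
  zero_mem' Q' _ _ := by simp
  smul_mem' c x hx Q' hQ' hne := by
    rw [Algebra.smul_def, map_mul]
    exact (mul_le_mul' (Q'.2.1 c) (hx Q' hQ' hne)).trans_eq (one_mul _)

variable {F : Type w} [Field F] [Algebra k F] {F' : Type w} [Field F'] [Algebra k F']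

theorem locRes_trace_eq_of_regular (hK : IsFunctionField k K) (P : Place k K) (Q : Place k K')
    (hQP : IsOver Q P)
    [FiniteDimensional k F] (φ : K →ₐ[k] LaurentSeries F) (hφ : LocRes.IsExpansionAt P.1 φ)
    [FiniteDimensional k F'] (ψ : K' →ₐ[k] LaurentSeries F') (hψ : LocRes.IsExpansionAt Q.1 ψ)
    (w : K') (hw : ∀ Q' : Place k K', IsOver Q' P → Q' ≠ Q → Q'.1 w ≤ 1)
    (x : K) (hx : P.1 x ≤ 1) :
    LocRes.locRes φ (Algebra.trace K K' w) x = LocRes.locRes ψ w (algebraMap K K' x) := by
  classical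
  obtain ⟨π', hπ', hres⟩ := exists_resP_OInt_eq_locRes (K' := K') hK P φ hφ w x
  rw [← hres]
  set A : Submodule k K' := OExp ψ with hA
  set B : Submodule k K' := OOther P Q with hB
  have hinf : A ⊓ B = OInt (K' := K') P := by
    ext z
    rw [Submodule.mem_inf, hA, mem_OExp hψ, mem_OInt]
    constructor
    · rintro ⟨h1, h2⟩ Q' hQ'
      by_cases hQQ : Q' = Q
      · rw [hQQ]; exact h1
      · exact h2 Q' hQ' hQQ
    · intro h
      exact ⟨h Q hQP, fun Q' hQ' _ => h Q' hQ'⟩
  have hsup : A ⊔ B = ⊤ := by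
    rw [eq_top_iff]
    intro z _
    obtain ⟨b, hb⟩ := LeadFG.exists_approx (finite_over (K' := K') hK P).toFinset
      (fun Q' => if Q' = Q then z else 0) 0
    have hzb : z - b ∈ A := by
      rw [hA, mem_OExp hψ]
      have := hb Q ((Set.Finite.mem_toFinset _).mpr hQP)
      rw [if_pos rfl, neg_zero, exp_zero] at this
      rw [← Valuation.map_neg]
      have e : -(z - b) = b - z := by ring
      rw [e]; exact this
    have hbB : b ∈ B := by
      intro Q' hQ' hne
      have := hb Q' ((Set.Finite.mem_toFinset _).mpr hQ')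
      rw [if_neg hne, sub_zero, neg_zero, exp_zero] at this
      exact this
    have : z = (z - b) + b := by ring
    rw [this]
    exact Submodule.add_mem_sup hzb hbB
  have hfB : ∀ z ∈ B, LinearMap.mulLeft k w z ∈ B := by
    intro z hz Q' hQ' hne
    rw [LinearMap.mulLeft_apply, map_mul]
    exact mul_le_one' (hw Q' hQ' hne) (hz Q' hQ' hne)
  have hgB : ∀ z ∈ B, LinearMap.mulLeft k (algebraMap K K' x) z ∈ B := by
    intro z hz Q' hQ' hne
    rw [LinearMap.mulLeft_apply, map_mul]
    obtain ⟨e, he⟩ := hQ'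
    refine mul_le_one' ?_ (hz Q' ⟨e, he⟩ hne)
    rw [he]; exact pow_le_one₀ zero_le' hx
  obtain ⟨C, hC⟩ := Submodule.exists_isCompl A
  set πA : Module.End k K' := A.projection C hC with hπAdef
  have hπA : LinearMap.IsProj A πA :=
    ⟨fun x => Submodule.projection_apply_mem hC x,
      fun x hx => Submodule.projection_apply_of_mem_left hC hx⟩
  have hπC : LinearMap.IsProj (A ⊓ B) π' := by rw [hinf]; exact hπ'
  obtain ⟨h1, -, -⟩ := resP_inf_of_stable hsup (inE_mulLeft ψ w)
    (inE_mulLeft ψ (algebraMap K K' x)) (mulLeft_comm _ _) hfB hgB hπA hπC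
  rw [← h1]
  exact resP_mul_eq_locRes ψ hψ _ _ hπA

end Groth.Agent.Lib.LeadTR
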