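import Mathlib
import Groth.Agent.Lib.LeadTT7
import Groth.Agent.Lib.LeadGS5
import Groth.Agent.Lib.LeadRS6
import Groth.Agent.Lib.LeadMS7

/-! The trace dual of the integral closure and the different exponent (S12574). -/

set_option autoImplicit false

namespace Groth.Agent.Lib.LeadTR
open LinearMap Module HahnSeries FunFld WithZero Groth.Agent.Lib.LeadFF Groth.Agent.Lib.LeadCE
  Groth.Agent.Lib.LeadNM

universe u v w

section Local
variable {k : Type u} {K : Type v} [Field k] [Field K] [Algebra k K]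
  {F : Type w} [Field F] [Algebra k F]

lemma locRes_eq_zero_of_regular (φ : K →ₐ[k] LaurentSeries F) (a b : K)
    (h : Valued.v (φ a * LocRes.D F (φ b)) ≤ 1) : LocRes.locRes φ a b = 0 := by
  show Algebra.trace k F (LocRes.resExp φ a b) = 0
  rw [resExp_eq_coeff, (mem_Afil_zero_iff_val (k := k)).mpr h (-1) (by norm_num), map_zero]

/-- an element with a prescribed pole order making the residue against `ω` nonzero. -/
lemma exists_res_ne_zero (P : Place k K) (φ : K →ₐ[k] LaurentSeries F)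
    (hφ : LocRes.IsExpansionAt P.1 φ)
    (htr : ∀ c : F, c ≠ 0 → ∃ b : F, Algebra.trace k F (b * c) ≠ 0)
    (ω : LaurentSeries F) (j : ℤ) (hω : Valued.v ω = exp (-j)) :
    ∃ y : K, P.1 y ≤ exp (1 + j) ∧ Algebra.trace k F ((φ y * ω).coeff (-1)) ≠ 0 := by
  obtain ⟨hlow, hcoef⟩ := (Groth.Agent.Lib.LeadMS.val_eq_exp_iff).mp hω
  have hωA : ω ∈ Afil k j := hlow
  obtain ⟨b, hb⟩ := htr (ω.coeff j) hcoef
  obtain ⟨y, hy⟩ := Groth.Agent.Lib.LeadRS.exists_approx P φ hφ
    (HahnSeries.single (-1 - j) b) (-j)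
  have hs : (HahnSeries.single (-1 - j) b : LaurentSeries F) ∈ Afil k (-1 - j) := by
    intro i hi
    rw [HahnSeries.coeff_single_of_ne (by omega)]
  refine ⟨y, ?_, ?_⟩
  · have h1 : φ y ∈ Afil k (-1 - j) := by
      have e : φ y = (φ y - HahnSeries.single (-1 - j) b) + HahnSeries.single (-1 - j) b := by
        ring
      rw [e]
      exact Submodule.add_mem _ (Afil_anti (by omega) hy) hs
    rw [mem_Afil_iff_val, hφ.1] at h1
    have e2 : -(-1 - j) = 1 + j := by ring
    rwa [e2] at h1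
  · have e : φ y * ω = (φ y - HahnSeries.single (-1 - j) b) * ω +
        HahnSeries.single (-1 - j) b * ω := by ring
    rw [e, HahnSeries.coeff_add]
    have h1 : ((φ y - HahnSeries.single (-1 - j) b) * ω).coeff (-1) = 0 := by
      have := mul_mem_Afil hy hωA
      exact this (-1) (by omega)
    have h2 : (HahnSeries.single (-1 - j) b * ω).coeff (-1) = b * ω.coeff j := by
      have := coeff_mul_of_mem_Afil hs hωA
      rw [show (-1 - j + j) = -1 by ring, HahnSeries.coeff_single_same] at this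
      exact this
    rw [h1, h2, zero_add]
    exact hb

end Local

section Main
variable {k : Type u} {K : Type v} {K' : Type v} [Field k] [Field K] [Field K'] [Algebra k K]
  [Algebra K K'] [Algebra k K'] [IsScalarTower k K K'] [FiniteDimensional K K']
  [Algebra.IsSeparable K K']
  {F : Type w} [Field F] [Algebra k F] {F' : Type w} [Field F'] [Algebra k F']

open Groth.Agent.Lib.LeadGS in
theorem traceDual_diffExp (hK : IsFunctionField k K) (hg : IsGeometric k K)
    (P : Place k K) (Q : Place k K') (e : ℕ) (he : IsOverWith Q P e)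
    (φ : K →ₐ[k] LaurentSeries F) (hφ : LocRes.IsExpansionAt P.1 φ)
    (ψ : K' →ₐ[k] LaurentSeries F') (hψ : LocRes.IsExpansionAt Q.1 ψ)
    (x : K) (hx : LocRes.vDiff φ 1 x ≠ 0) (hx' : LocRes.vDiff ψ 1 (algebraMap K K' x) ≠ 0) :
    (∀ y : K', (∀ z : K', InR P z → P.1 (Algebra.trace K K' (y * z)) ≤ 1) →
      Q.1 y ≤ exp (LocRes.diffExp φ ψ e x)) ∧
    ∃ y : K', (∀ z : K', InR P z → P.1 (Algebra.trace K K' (y * z)) ≤ 1) ∧
      Q.1 y = exp (LocRes.diffExp φ ψ e x) := by
  classical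
  haveI : FiniteDimensional k F :=
    finite_of_expansion (LeadFG.IsFF.of_isFunctionField hK) P φ hφ
  haveI : FiniteDimensional k F' := finite_of_expansion (isFF_of_finite hK) Q ψ hψ
  obtain ⟨t, ht⟩ := hφ.2.2
  obtain ⟨hDφt, hDt, hψt0, hdiff⟩ :=
    Groth.Agent.Lib.LeadMS.diffExp_eq_unif hK hg P Q e he φ hφ ψ hψ x hx hx' ht
  set d := LocRes.diffExp φ ψ e x with hd
  set t' := algebraMap K K' t with ht'
  have hvt' : Valued.v (LocRes.D F' (ψ t')) = exp (-d) := by
    rw [hdiff, neg_neg, exp_log hψt0]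
  have hs : HasSep k K := hasSep_of_geometric hK hg
  obtain ⟨htt, hsep⟩ := Groth.Agent.Lib.LeadGS.sep_of_D_ne_zero hK hs hDt
  obtain ⟨htt', hsep'⟩ := hasSep_ext (k := k) (k' := k) (K := K) (K' := K') htt hsep
  have hs' : HasSep k K' := ⟨_, htt', hsep'⟩
  have htrF : ∀ c : F, c ≠ 0 → ∃ b : F, Algebra.trace k F (b * c) ≠ 0 := fun c hc =>
    Groth.Agent.Lib.LeadGS.trace_nondeg hs P φ hφ c hc
  have htrF' : ∀ c : F', c ≠ 0 → ∃ b : F', Algebra.trace k F' (b * c) ≠ 0 := fun c hc =>
    Groth.Agent.Lib.LeadGS.trace_nondeg hs' Q ψ hψ c hc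
  have hQP : IsOver Q P := ⟨e, he⟩
  have hPt : P.1 t ≤ 1 := by rw [ht, ← exp_zero, exp_le_exp]; norm_num
  set Qs := (finite_over (K' := K') hK P).toFinset with hQsdef
  have hQs : ∀ Q', Q' ∈ Qs ↔ IsOver Q' P := by intro Q'; simp [Qs]
  have hQmem : Q ∈ Qs := (hQs Q).mpr hQP
  constructor
  · intro y H
    by_contra hlt
    rw [not_le] at hlt
    have hy0 : y ≠ 0 := by
      rintro rfl
      rw [map_zero] at hlt
      exact not_lt.mpr zero_le' hlt
    have hQy : Q.1 y = exp (-(Q.ord y)) := LeadFG.val_eq_exp_neg_ord Q hy0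
    set m : ℤ := -(Q.ord y) - d with hm
    have hm1 : 1 ≤ m := by rw [hQy, exp_lt_exp] at hlt; omega
    set ω := ψ y * LocRes.D F' (ψ t') with hωdef
    have hω : Valued.v ω = exp (-(-m)) := by
      rw [hωdef, map_mul, hψ.1, hQy, hvt', ← exp_add]; congr 1; ring
    obtain ⟨z₂, hz₂v, hz₂⟩ := exists_res_ne_zero Q ψ hψ htrF' ω (-m) hω
    obtain ⟨M, hM⟩ := LeadFG.zm0_finset_bound Qs (fun Q' => Q'.1 y)
    set N : ℤ := max m M with hN
    have hNm : m ≤ N := le_max_left _ _
    have hNM : (M : ℤ) ≤ N := le_max_right _ _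
    obtain ⟨z, hz⟩ := LeadFG.exists_approx Qs (fun Q' => if Q' = Q then z₂ else 0) N
    have hzQ : Q.1 (z - z₂) ≤ exp (-N) := by
      have := hz Q hQmem
      rwa [if_pos rfl] at this
    have hzQ' : ∀ Q' ∈ Qs, Q' ≠ Q → Q'.1 z ≤ exp (-N) := by
      intro Q' h hne
      have := hz Q' h
      rwa [if_neg hne, sub_zero] at this
    have hzInR : InR P z := by
      intro Q' hQ'
      by_cases hQQ : Q' = Q
      · rw [hQQ]
        have : z = (z - z₂) + z₂ := by ring
        rw [this]
        refine (Q.1.map_add _ _).trans (max_le (hzQ.trans ?_) (hz₂v.trans ?_))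
        · rw [← exp_zero, exp_le_exp]; omega
        · rw [← exp_zero, exp_le_exp]; omega
      · refine (hzQ' Q' ((hQs Q').mpr hQ') hQQ).trans ?_
        rw [← exp_zero, exp_le_exp]; omega
    have hw : ∀ Q' : Place k K', IsOver Q' P → Q' ≠ Q → Q'.1 (y * z) ≤ 1 := by
      intro Q' hQ' hne
      rw [map_mul]
      calc Q'.1 y * Q'.1 z ≤ exp (M : ℤ) * exp (-N) :=
            mul_le_mul' (hM Q' ((hQs Q').mpr hQ')) (hzQ' Q' ((hQs Q').mpr hQ') hne)
        _ ≤ 1 := by rw [← exp_add, ← exp_zero, exp_le_exp]; omega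
    have hkey := locRes_trace_eq_of_regular hK P Q hQP φ hφ ψ hψ (y * z) hw t hPt
    have hL : LocRes.locRes φ (Algebra.trace K K' (y * z)) t = 0 := by
      apply locRes_eq_zero_of_regular
      rw [map_mul, hφ.1, hDφt, mul_one]
      exact H z hzInR
    have hR : LocRes.locRes ψ (y * z) t' ≠ 0 := by
      have e1 : y * z = y * z₂ + y * (z - z₂) := by ring
      rw [e1, locRes_add]
      have h0 : LocRes.locRes ψ (y * (z - z₂)) t' = 0 := by
        apply locRes_eq_zero_of_regular
        rw [map_mul, map_mul, map_mul, hψ.1, hψ.1, hvt', hQy]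
        calc exp (-(Q.ord y)) * Q.1 (z - z₂) * exp (-d)
            ≤ exp (-(Q.ord y)) * exp (-N) * exp (-d) :=
              mul_le_mul' (mul_le_mul' le_rfl hzQ) le_rfl
          _ ≤ 1 := by rw [← exp_add, ← exp_add, ← exp_zero, exp_le_exp]; omega
      rw [h0, add_zero]
      show Algebra.trace k F' (LocRes.resExp ψ (y * z₂) t') ≠ 0
      rw [resExp_eq_coeff, map_mul]
      have e2 : ψ y * ψ z₂ * LocRes.D F' (ψ t') = ψ z₂ * ω := by rw [hωdef]; ring
      rw [e2]
      exact hz₂
    rw [hkey] at hL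
    exact hR hL
  · obtain ⟨s, hs1⟩ := hψ.2.2
    have hs0 : s ≠ 0 := by
      rintro rfl
      rw [map_zero] at hs1
      exact exp_ne_zero hs1.symm
    set y₀ : K' := s ^ (-d) with hy₀def
    have hy₀ : Q.1 y₀ = exp d := by
      rw [hy₀def, map_zpow₀, hs1, ← exp_zsmul]; simp
    set N : ℤ := max 0 (1 - d) with hN
    have hN0 : 0 ≤ N := le_max_left _ _
    have hNd : 1 - d ≤ N := le_max_right _ _
    obtain ⟨y, hy⟩ := LeadFG.exists_approx Qs (fun Q' => if Q' = Q then y₀ else 0) N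
    have hyQ : Q.1 (y - y₀) ≤ exp (-N) := by
      have := hy Q hQmem
      rwa [if_pos rfl] at this
    have hyQ' : ∀ Q' ∈ Qs, Q' ≠ Q → Q'.1 y ≤ exp (-N) := by
      intro Q' h hne
      have := hy Q' h
      rwa [if_neg hne, sub_zero] at this
    have hQy : Q.1 y = exp d := by
      rw [← hy₀]
      apply Valuation.map_eq_of_sub_lt
      rw [hy₀]
      refine lt_of_le_of_lt hyQ ?_
      rw [exp_lt_exp]; omega
    refine ⟨y, ?_, hQy⟩
    intro z hz
    by_contra hgt
    rw [not_le] at hgt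
    set u := Algebra.trace K K' (y * z) with hu
    have hu0 : u ≠ 0 := by
      intro h0
      rw [h0, map_zero] at hgt
      exact not_lt.mpr zero_le' hgt
    have hPu : P.1 u = exp (-(P.ord u)) := LeadFG.val_eq_exp_neg_ord P hu0
    set m : ℤ := -(P.ord u) with hm
    have hm1 : 1 ≤ m := by rw [hPu, ← exp_zero, exp_lt_exp] at hgt; omega
    set ω := φ u * LocRes.D F (φ t) with hωdef
    have hω : Valued.v ω = exp (-(-m)) := by
      rw [hωdef, map_mul, hφ.1, hPu, hDφt, mul_one, neg_neg]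
    obtain ⟨a, hav, ha⟩ := exists_res_ne_zero P φ hφ htrF ω (-m) hω
    have hPa : P.1 a ≤ 1 := by
      refine hav.trans ?_
      rw [← exp_zero, exp_le_exp]; omega
    set w := algebraMap K K' a * (y * z) with hwdef
    have htrw : Algebra.trace K K' w = a * u := by
      rw [hwdef, ← Algebra.smul_def, map_smul, smul_eq_mul]
    have hw : ∀ Q' : Place k K', IsOver Q' P → Q' ≠ Q → Q'.1 w ≤ 1 := by
      intro Q' hQ' hne
      rw [hwdef, map_mul, map_mul]
      have h3 := hz Q' hQ'
      have h2 : Q'.1 y ≤ 1 := by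
        refine (hyQ' Q' ((hQs Q').mpr hQ') hne).trans ?_
        rw [← exp_zero, exp_le_exp]; omega
      obtain ⟨e', he'⟩ := hQ'
      have h1 : Q'.1 (algebraMap K K' a) ≤ 1 := by
        rw [he']; exact pow_le_one₀ zero_le' hPa
      exact mul_le_one' h1 (mul_le_one' h2 h3)
    have hkey := locRes_trace_eq_of_regular hK P Q hQP φ hφ ψ hψ w hw t hPt
    have hR : LocRes.locRes ψ w t' = 0 := by
      apply locRes_eq_zero_of_regular
      rw [map_mul, hψ.1, hvt', hwdef, map_mul, map_mul, hQy, he]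
      calc P.1 a ^ e * (exp d * Q.1 z) * exp (-d) ≤ 1 * (exp d * 1) * exp (-d) :=
            mul_le_mul' (mul_le_mul' (pow_le_one₀ zero_le' hPa)
              (mul_le_mul' le_rfl (hz Q hQP))) le_rfl
        _ = 1 := by rw [one_mul, mul_one, ← exp_add]; simp
    have hL : LocRes.locRes φ (Algebra.trace K K' w) t ≠ 0 := by
      rw [htrw]
      show Algebra.trace k F (LocRes.resExp φ (a * u) t) ≠ 0
      rw [resExp_eq_coeff, map_mul, mul_assoc]
      exact ha
    exact hL (hkey.trans hR)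

end Main

end Groth.Agent.Lib.LeadTR
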