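import Mathlib
import Groth.Agent.Lib.LeadTT8

/-! Dedekind's different theorem, local version (S12575). -/

set_option autoImplicit false

namespace Groth.Agent.Lib.LeadTR
open LinearMap Module HahnSeries FunFld WithZero Groth.Agent.Lib.LeadFF Groth.Agent.Lib.LeadCE
  Groth.Agent.Lib.LeadNM

universe u v w

section Main
variable {k : Type u} {K : Type v} {K' : Type v} [Field k] [Field K] [Field K'] [Algebra k K]
  [Algebra K K'] [Algebra k K'] [IsScalarTower k K K'] [FiniteDimensional K K']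
  [Algebra.IsSeparable K K']
  {F : Type w} [Field F] [Algebra k F] {F' : Type w} [Field F'] [Algebra k F']

open Groth.Agent.Lib.LeadGS in
/-- elements with `v_Q ≥ -d` and regular at the other places over `P` lie in the trace dual. -/
theorem mem_traceDual_of_bounds (hK : IsFunctionField k K) (hg : IsGeometric k K)
    (P : Place k K) (Q : Place k K') (e : ℕ) (he : IsOverWith Q P e)
    (φ : K →ₐ[k] LaurentSeries F) (hφ : LocRes.IsExpansionAt P.1 φ)
    (ψ : K' →ₐ[k] LaurentSeries F') (hψ : LocRes.IsExpansionAt Q.1 ψ)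
    (x : K) (hx : LocRes.vDiff φ 1 x ≠ 0) (hx' : LocRes.vDiff ψ 1 (algebraMap K K' x) ≠ 0)
    (y : K') (hQy : Q.1 y ≤ exp (LocRes.diffExp φ ψ e x))
    (hyQ' : ∀ Q' : Place k K', IsOver Q' P → Q' ≠ Q → Q'.1 y ≤ 1) :
    ∀ z : K', InR P z → P.1 (Algebra.trace K K' (y * z)) ≤ 1 := by
  classical
  haveI : FiniteDimensional k F :=
    finite_of_expansion (LeadFG.IsFF.of_isFunctionField hK) P φ hφ
  haveI : FiniteDimensional k F' := finite_of_expansion (isFF_of_finite hK) Q ψ hψ
  obtain ⟨t, ht⟩ := hφ.2.2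
  obtain ⟨hDφt, hDt, hψt0, hdiff⟩ :=
    Groth.Agent.Lib.LeadMS.diffExp_eq_unif hK hg P Q e he φ hφ ψ hψ x hx hx' ht
  set d := LocRes.diffExp φ ψ e x with hd
  set t' := algebraMap K K' t with ht'
  have hvt' : Valued.v (LocRes.D F' (ψ t')) = exp (-d) := by
    rw [hdiff, neg_neg, exp_log hψt0]
  have hs : HasSep k K := hasSep_of_geometric hK hg
  have htrF : ∀ c : F, c ≠ 0 → ∃ b : F, Algebra.trace k F (b * c) ≠ 0 := fun c hc =>
    Groth.Agent.Lib.LeadGS.trace_nondeg hs P φ hφ c hc
  have hQP : IsOver Q P := ⟨e, he⟩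
  have hPt : P.1 t ≤ 1 := by rw [ht, ← exp_zero, exp_le_exp]; norm_num
  intro z hz
  by_contra hgt
  rw [not_le] at hgt
  set u := Algebra.trace K K' (y * z) with hu
  have hu0 : u ≠ 0 := by
    intro h0
    rw [h0, map_zero] at hgt
    exact not_lt.mpr zero_le' hgt
  have hPu : P.1 u = exp (-(P.ord u)) := LeadFG.val_eq_exp_neg_ord P hu0
  set m : ℤ := -(P.ord u) with hm
  have hm1 : 1 ≤ m := by rw [hPu, ← exp_zero, exp_lt_exp] at hgt; omega
  set ω := φ u * LocRes.D F (φ t) with hωdef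
  have hω : Valued.v ω = exp (-(-m)) := by
    rw [hωdef, map_mul, hφ.1, hPu, hDφt, mul_one, neg_neg]
  obtain ⟨a, hav, ha⟩ := exists_res_ne_zero P φ hφ htrF ω (-m) hω
  have hPa : P.1 a ≤ 1 := by
    refine hav.trans ?_
    rw [← exp_zero, exp_le_exp]; omega
  set w := algebraMap K K' a * (y * z) with hwdef
  have htrw : Algebra.trace K K' w = a * u := by
    rw [hwdef, ← Algebra.smul_def, map_smul, smul_eq_mul]
  have hw : ∀ Q' : Place k K', IsOver Q' P → Q' ≠ Q → Q'.1 w ≤ 1 := by
    intro Q' hQ' hne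
    rw [hwdef, map_mul, map_mul]
    have h3 := hz Q' hQ'
    have h2 : Q'.1 y ≤ 1 := hyQ' Q' hQ' hne
    obtain ⟨e', he'⟩ := hQ'
    have h1 : Q'.1 (algebraMap K K' a) ≤ 1 := by
      rw [he']; exact pow_le_one₀ zero_le' hPa
    exact mul_le_one' h1 (mul_le_one' h2 h3)
  have hkey := locRes_trace_eq_of_regular hK P Q hQP φ hφ ψ hψ w hw t hPt
  have hR : LocRes.locRes ψ w t' = 0 := by
    apply locRes_eq_zero_of_regular
    rw [map_mul, hψ.1, hvt', hwdef, map_mul, map_mul, he]
    calc P.1 a ^ e * (Q.1 y * Q.1 z) * exp (-d) ≤ 1 * (exp d * 1) * exp (-d) :=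
          mul_le_mul' (mul_le_mul' (pow_le_one₀ zero_le' hPa)
            (mul_le_mul' hQy (hz Q hQP))) le_rfl
      _ = 1 := by rw [one_mul, mul_one, ← exp_add]; simp
  have hL : LocRes.locRes φ (Algebra.trace K K' w) t ≠ 0 := by
    rw [htrw]
    show Algebra.trace k F (LocRes.resExp φ (a * u) t) ≠ 0
    rw [resExp_eq_coeff, map_mul, mul_assoc]
    exact ha
  exact hL (hkey.trans hR)

open Polynomial in
/-- the trace dual of the integral closure is inside `g'(y)⁻¹ O_P[y]`. -/
theorem deriv_mul_mem_adjoin (P : Place k K) [Algebra P.O K'] [IsScalarTower P.O K K']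
    (y : K') (hy : IntermediateField.adjoin K ({y} : Set K') = ⊤) (hyi : IsIntegral P.O y)
    (w : K') (hw : ∀ z : K', InR P z → P.1 (Algebra.trace K K' (w * z)) ≤ 1) :
    aeval y (derivative (minpoly K y)) * w ∈ Algebra.adjoin P.O ({y} : Set K') := by
  have hKy : IsIntegral K y := Algebra.IsIntegral.isIntegral y
  have hy' : Algebra.adjoin K ({y} : Set K') = ⊤ := by
    rw [← IntermediateField.adjoin_simple_toSubalgebra_of_isAlgebraic hKy.isAlgebraic, hy,
      IntermediateField.top_toSubalgebra]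
  have hδ : aeval y (derivative (minpoly K y)) ≠ 0 :=
    (Algebra.IsSeparable.isSeparable K y).aeval_derivative_ne_zero (minpoly.aeval _ _)
  have hmem : w ∈ (Algebra.traceForm K K').dualSubmodule
      (Subalgebra.toSubmodule (Algebra.adjoin P.O ({y} : Set K'))) := by
    rw [LinearMap.BilinForm.mem_dualSubmodule]
    intro r hr
    rw [Algebra.traceForm_apply, Submodule.mem_one]
    have hri : IsIntegral P.O r := _root_.adjoin_le_integralClosure hyi hr
    have := hw r (InR_of_isIntegral P hri)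
    exact ⟨⟨_, this⟩, rfl⟩
  rw [traceForm_dualSubmodule_adjoin P.O K hy' hyi,
    Submodule.mem_smul_iff_inv_mul_mem (inv_ne_zero hδ), inv_inv] at hmem
  exact hmem

end Main

end Groth.Agent.Lib.LeadTR
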