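import Mathlib

/-! Binomial Toeplitz matrices are positive definite: `A = Bᵀ B` with `B` the convolution matrix of `(1 - z)^n`. -/

namespace Groth.Agent.Lib.LeadToeplitz

open Finset

/-- Vandermonde in shifted form. -/
theorem vand (n d N : ℕ) (hN : n ≤ N) :
    ∑ a ∈ range (N + 1), n.choose a * n.choose (a + d) = (2 * n).choose (n + d) := by
  by_cases hd : d ≤ n
  · have h1 : (2 * n).choose (n + d) = (n + n).choose (n - d) := by
      rw [← Nat.choose_symm (by omega : n - d ≤ n + n)]
      congr 1 <;> omega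
    rw [h1, Nat.add_choose_eq, Finset.Nat.sum_antidiagonal_eq_sum_range_succ_mk]
    symm
    have hsub : range (n - d + 1) ⊆ range (N + 1) := by
      intro a ha; simp only [mem_range] at ha ⊢; omega
    rw [← Finset.sum_subset hsub]
    · refine Finset.sum_congr rfl fun a ha => ?_
      simp only [mem_range] at ha
      congr 1
      rw [← Nat.choose_symm (by omega : a + d ≤ n)]
      congr 1; omega
    · intro a _ ha
      simp only [mem_range, not_lt] at ha
      rw [Nat.choose_eq_zero_of_lt (by omega : n < a + d), mul_zero]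
  · rw [Nat.choose_eq_zero_of_lt (by omega : 2 * n < n + d)]
    refine Finset.sum_eq_zero fun a _ => ?_
    rw [Nat.choose_eq_zero_of_lt (by omega : n < a + d), mul_zero]

theorem sumK_le (n m i j : ℕ) (hi : i < m) (hji : j ≤ i) :
    ∑ k ∈ range (m + n), (if i ≤ k then n.choose (k - i) else 0) *
      (if j ≤ k then n.choose (k - j) else 0) = (2 * n).choose (n + (i - j)) := by
  rw [← vand n (i - j) (m + n - i - 1) (by omega)]
  have : range (m + n) = range i ∪ Ico i (m + n) := by
    ext k; simp only [mem_range, mem_union, mem_Ico]; omega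
  rw [this, Finset.sum_union]
  · rw [Finset.sum_eq_zero (s := range i), zero_add, Finset.sum_Ico_eq_sum_range]
    · have : m + n - i = m + n - i - 1 + 1 := by omega
      rw [this]
      refine Finset.sum_congr rfl fun a _ => ?_
      rw [if_pos (by omega), if_pos (by omega)]
      congr 2 <;> omega
    · intro k hk
      simp only [mem_range] at hk
      rw [if_neg (by omega), zero_mul]
  · rw [Finset.disjoint_left]
    intro k hk hk'
    simp only [mem_range, mem_Ico] at hk hk'
    omega

theorem sumK (n m i j : ℕ) (hi : i < m) (hj : j < m) :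
    ∑ k ∈ range (m + n), (if i ≤ k then n.choose (k - i) else 0) *
      (if j ≤ k then n.choose (k - j) else 0) = (2 * n).choose (n + Nat.dist i j) := by
  rcases le_total j i with h | h
  · rw [sumK_le n m i j hi h, Nat.dist_eq_sub_of_le_right h]
  · rw [Nat.dist_eq_sub_of_le h, ← sumK_le n m j i hj h]
    exact Finset.sum_congr rfl fun k _ => mul_comm _ _

/-- The convolution matrix of `(1 - z)^n`. -/
noncomputable def B (n m : ℕ) : Matrix (Fin (m + n)) (Fin m) ℝ :=
  Matrix.of fun k j => if (j : ℕ) ≤ (k : ℕ) then (-1 : ℝ) ^ (j : ℕ) * (n.choose ((k : ℕ) - (j : ℕ)) : ℝ) else 0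

/-- The signed binomial Toeplitz matrix. -/
noncomputable def T (n m : ℕ) : Matrix (Fin m) (Fin m) ℝ :=
  Matrix.of fun i j : Fin m =>
    (-1 : ℝ) ^ ((i : ℕ) + (j : ℕ)) * (Nat.choose (2 * n) (n + Nat.dist i j) : ℝ)

theorem T_eq (n m : ℕ) : T n m = (B n m).conjTranspose * B n m := by
  ext i j
  simp only [T, Matrix.of_apply, Matrix.mul_apply, Matrix.conjTranspose_apply, B, star_trivial]
  rw [← sumK n m i j i.2 j.2, Fin.sum_univ_eq_sum_range (fun k => (if (i : ℕ) ≤ k then (-1 : ℝ) ^ (i : ℕ) * (n.choose (k - (i : ℕ)) : ℝ) else 0) * (if (j : ℕ) ≤ k then (-1 : ℝ) ^ (j : ℕ) * (n.choose (k - (j : ℕ)) : ℝ) else 0)) (m + n)]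
  push_cast
  rw [Finset.mul_sum]
  refine Finset.sum_congr rfl fun k _ => ?_
  split_ifs <;> simp [pow_add] <;> ring

theorem B_inj (n m : ℕ) : Function.Injective (B n m).mulVec := by
  intro v w hvw
  have h0 : (B n m).mulVec (v - w) = 0 := by rw [Matrix.mulVec_sub, hvw, sub_self]
  suffices h : v - w = 0 from sub_eq_zero.mp h
  set u := v - w with hu
  funext j
  induction' hj : (j : ℕ) using Nat.strong_induction_on with j0 ih generalizing j
  have hrow := congrFun h0 ⟨(j : ℕ), by omega⟩
  simp only [Matrix.mulVec, dotProduct, B, Matrix.of_apply, Pi.zero_apply] at hrow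
  rw [Finset.sum_eq_single j] at hrow
  · simp only [le_refl, if_true, Nat.sub_self, Nat.choose_zero_right, Nat.cast_one, mul_one] at hrow
    have : (-1 : ℝ) ^ (j : ℕ) ≠ 0 := pow_ne_zero _ (by norm_num)
    simpa [this] using hrow
  · intro l _ hl
    by_cases hlj : (l : ℕ) ≤ (j : ℕ)
    · have : (l : ℕ) < j0 := by
        rcases Nat.lt_or_ge (l : ℕ) (j : ℕ) with h | h
        · omega
        · exact absurd (Fin.ext (le_antisymm hlj h)) hl
      rw [ih (l : ℕ) this l rfl]; simp
    · rw [if_neg hlj, zero_mul]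
  · intro h; exact absurd (Finset.mem_univ j) h

theorem T_posDef (n m : ℕ) : (T n m).PosDef := by
  rw [T_eq]
  exact Matrix.PosDef.conjTranspose_mul_self _ (B_inj n m)

end Groth.Agent.Lib.LeadToeplitz

namespace Groth.Agent.Lib.LeadToeplitz

/-- The odd signed binomial Toeplitz matrix over `ℤ`. -/
def Todd (n m : ℕ) : Matrix (Fin m) (Fin m) ℤ :=
  Matrix.of fun i j : Fin m =>
    (-1 : ℤ) ^ ((i : ℕ) + (j : ℕ)) *
      (if (j : ℕ) ≤ (i : ℕ) then (Nat.choose (2 * n + 1) (n + 1 + ((i : ℕ) - (j : ℕ))) : ℤ)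
       else (Nat.choose (2 * n + 1) (n + ((j : ℕ) - (i : ℕ))) : ℤ))

theorem pascal_aux (n d : ℕ) :
    (2 * n + 1).choose (n + 1 + d) + (2 * n + 1).choose (n + d) = (2 * (n + 1)).choose (n + 1 + d) := by
  have h1 : 2 * (n + 1) = (2 * n + 1) + 1 := by ring
  have h2 : n + 1 + d = (n + d) + 1 := by ring
  rw [h1, h2, Nat.choose_succ_succ (2 * n + 1) (n + d), add_comm]

theorem Todd_add_transpose (n m : ℕ) :
    (Todd n m).map (Int.cast : ℤ → ℝ) + ((Todd n m).map (Int.cast : ℤ → ℝ)).transpose = T (n + 1) m := by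
  ext i j
  simp only [Matrix.add_apply, Matrix.map_apply, Matrix.transpose_apply, Todd, T, Matrix.of_apply]
  rcases lt_trichotomy (i : ℕ) (j : ℕ) with h | h | h
  · rw [if_neg (by omega), if_pos (by omega), Nat.dist_eq_sub_of_le h.le, ← pascal_aux]
    push_cast
    rw [add_comm (j : ℕ) (i : ℕ)]
    ring
  · rw [if_pos (by omega), if_pos (by omega), h, Nat.dist_self, ← pascal_aux]
    have hs : (2 * n + 1).choose (n + 0) = (2 * n + 1).choose (n + 1 + 0) := by
      rw [← Nat.choose_symm (by omega : n + 1 + 0 ≤ 2 * n + 1)]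
      congr 1; omega
    rw [hs]
    push_cast
    simp only [Nat.sub_self]
    ring
  · rw [if_pos (by omega), if_neg (by omega), Nat.dist_eq_sub_of_le_right h.le, ← pascal_aux]
    push_cast
    rw [add_comm (j : ℕ) (i : ℕ)]
    ring

theorem Todd_det_ne_zero (n m : ℕ) : (Todd n m).det ≠ 0 := by
  intro hdet
  set Ar : Matrix (Fin m) (Fin m) ℝ := (Todd n m).map (Int.cast : ℤ → ℝ) with hAr
  have hdet' : Ar.det = 0 := by
    have := (Int.castRingHom ℝ).map_det (Todd n m)
    rw [hdet, map_zero] at this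
    exact this.symm
  obtain ⟨v, hv, hAv⟩ := Matrix.exists_mulVec_eq_zero_iff.mpr hdet'
  have hpos := (T_posDef (n + 1) m).dotProduct_mulVec_pos hv
  rw [← Todd_add_transpose, ← hAr, Matrix.add_mulVec, hAv, zero_add, star_trivial,
    Matrix.dotProduct_mulVec, Matrix.vecMul_transpose, hAv, zero_dotProduct] at hpos
  exact lt_irrefl _ hpos

end Groth.Agent.Lib.LeadToeplitz
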