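import Groth.Agent.Lib.Helper4DimFormulaW
import Groth.Agent.S0212
import Groth.Agent.S0214

/-! # Tsen's theorem for the function field of an integral curve over an algebraically closed field -/

set_option autoImplicit false
set_option linter.style.haveILetI false

universe u

open AlgebraicGeometry CategoryTheory TopologicalSpace

namespace Groth.Agent.Lib.LeadTsenCurve

open Groth.Agent.Lib.Helper4.VarDim Groth.Agent.Lib.Helper4.DimFormula

theorem isCr_of_isCi (K : Type*) [Field K] (i : ℕ) (h : Curves.IsCi K i) : Curves.IsCr K i := by
  intro n d f hf hd hdn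
  obtain ⟨a, ha, hz⟩ := h 1 n (fun _ => f) (fun _ => d) (fun _ => hf) (fun _ => hd)
    (by simpa using hdn)
  exact ⟨a, ha, hz 0⟩

attribute [local instance] Curv2.stalkAlgebra Curv2.resAlgebra in
theorem trdeg_functionField (k : Type u) [Field k] (C : Scheme.{u})
    [C.Over (Spec (CommRingCat.of k))] [LocallyOfFiniteType (C ↘ Spec (CommRingCat.of k))]
    [IsIntegral C] (hdim : topologicalKrullDim ↥C = 1) :
    Algebra.trdeg k (C.presheaf.stalk (genericPoint C)) = 1 := by
  have h1 := topologicalKrullDim_eq_trdegNat_genericPoint k (Y := C)
  have h2 := trdeg_eq_trdegNat k C (genericPoint C)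
  have h3 : trdegNat k C (genericPoint C) = 1 := by
    rw [hdim] at h1
    exact_mod_cast h1.symm
  rw [h3] at h2
  have hfield : IsField (C.presheaf.stalk (genericPoint C)) :=
    (inferInstance : Field C.functionField).toIsField
  letI : Field (C.presheaf.stalk (genericPoint C)) := hfield.toField
  have hbij : Function.Bijective (C.residue (genericPoint C)).hom :=
    ⟨(C.residue (genericPoint C)).hom.injective, Ideal.Quotient.mk_surjective⟩
  let e : (C.presheaf.stalk (genericPoint C)) ≃ₐ[k] C.residueField (genericPoint C) :=
    AlgEquiv.ofBijective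
      { toRingHom := (C.residue (genericPoint C)).hom
        commutes' := fun r => rfl } hbij
  rw [e.trdeg_eq, h2]
  simp

end Groth.Agent.Lib.LeadTsenCurve
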