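import Mathlib

/-! Finite intersections of valuation rings of a field: the geometric-sum trick. -/

namespace Groth.Agent.Lib.LeadVP

open Finset

section Val

variable {L : Type*} [Field L] {Γ : Type*} [LinearOrderedCommGroupWithZero Γ] (v : Valuation L Γ)

/-- the geometric sum `1 + x + ⋯ + x^(s-1)`. -/
def gs (x : L) (s : ℕ) : L := ∑ j ∈ range s, x ^ j

lemma gs_zero (x : L) : gs x 0 = 0 := by simp [gs]

lemma gs_one (x : L) : gs x 1 = 1 := by simp [gs]

lemma gs_mul (x : L) (s : ℕ) : gs x s * (x - 1) = x ^ s - 1 := geom_sum_mul x s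

lemma gs_add (x : L) (s t : ℕ) : gs x (s + t) = gs x s + x ^ s * gs x t := by
  unfold gs
  rw [Finset.sum_range_add, Finset.mul_sum]
  congr 1
  apply Finset.sum_congr rfl
  intro j _
  rw [pow_add]

lemma val_gs_of_lt {x : L} (hx : v x < 1) {s : ℕ} (hs : 1 ≤ s) : v (gs x s) = 1 := by
  have h1 : v (x - 1) = 1 := by
    rw [Valuation.map_sub_eq_of_lt_right _ (by rwa [map_one]), map_one]
  have h2 : v (x ^ s - 1) = 1 := by
    have : v (x ^ s) < v 1 := by
      rw [map_one, map_pow]
      exact pow_lt_one₀ zero_le' hx (by omega)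
    rw [Valuation.map_sub_eq_of_lt_right _ this, map_one]
  have h3 := congrArg v (gs_mul x s)
  rwa [map_mul, h1, h2, mul_one] at h3

lemma val_gs_of_gt {x : L} (hx : 1 < v x) {s : ℕ} (hs : 1 ≤ s) : v (gs x s) = v x ^ (s - 1) := by
  have hx0 : v x ≠ 0 := ne_of_gt (lt_trans zero_lt_one hx)
  have h1 : v (x - 1) = v x := by
    rw [Valuation.map_sub_eq_of_lt_left _ (by rwa [map_one])]
  have h2 : v (x ^ s - 1) = v x ^ s := by
    have : v 1 < v (x ^ s) := by
      rw [map_one, map_pow]
      exact one_lt_pow₀ hx (by omega)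
    rw [Valuation.map_sub_eq_of_lt_left _ this, map_pow]
  have h3 := congrArg v (gs_mul x s)
  rw [map_mul, h1, h2] at h3
  have h4 : v x ^ s = v x ^ (s - 1) * v x := by
    rw [← pow_succ]; congr 1; omega
  rw [h4] at h3
  exact mul_right_cancel₀ hx0 h3

/-- periodicity of the vanishing (mod the maximal ideal) of geometric sums of a unit. -/
lemma exists_period {x : L} (hx : v x ≤ 1) :
    ∃ d : ℕ, 2 ≤ d ∧ ∀ s : ℕ, 1 ≤ s → v (gs x s) < 1 → d ∣ s := by
  classical
  rcases lt_or_eq_of_le hx with hlt | heq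
  · exact ⟨2, le_rfl, fun s hs h => absurd h (by rw [val_gs_of_lt v hlt hs]; exact lt_irrefl _)⟩
  by_cases hex : ∃ s : ℕ, 1 ≤ s ∧ v (gs x s) < 1
  swap
  · exact ⟨2, le_rfl, fun s hs h => absurd ⟨s, hs, h⟩ hex⟩
  let d := Nat.find hex
  have hd : 1 ≤ d ∧ v (gs x d) < 1 := Nat.find_spec hex
  have hmin : ∀ s, 1 ≤ s → v (gs x s) < 1 → d ≤ s := fun s hs h => Nat.find_min' hex ⟨hs, h⟩
  have hd2 : 2 ≤ d := by
    rcases Nat.lt_or_ge d 2 with h | h
    · have : d = 1 := by omega
      have h1 := hd.2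
      rw [this, gs_one, map_one] at h1
      exact absurd h1 (lt_irrefl _)
    · exact h
  refine ⟨d, hd2, ?_⟩
  intro s
  induction s using Nat.strong_induction_on with
  | _ s ih =>
    intro hs h
    have hds := hmin s hs h
    obtain ⟨t, rfl⟩ : ∃ t, s = d + t := ⟨s - d, by omega⟩
    rcases Nat.eq_zero_or_pos t with rfl | ht
    · simp
    · have h1 := gs_add x d t
      have h2 : x ^ d * gs x t = gs x (d + t) - gs x d := by rw [h1]; ring
      have h3 : v (x ^ d * gs x t) < 1 := by
        rw [h2]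
        exact lt_of_le_of_lt (Valuation.map_sub _ _ _) (max_lt h hd.2)
      rw [map_mul, map_pow, heq, one_pow, one_mul] at h3
      have := ih t (by omega) ht h3
      exact (Nat.dvd_add_right (dvd_refl d)).mpr this

end Val

section Family

variable {L : Type*} [Field L] {ι : Type*} [Fintype ι] (V : ι → ValuationSubring L)
  (K : Subfield L)

/-- key lemma: a common denominator `y⁻¹` in the intersection, a unit wherever `x` is integral. -/
theorem exists_denominator {x : L} (hx : x ∈ K) :
    ∃ y ∈ K, y ≠ 0 ∧ (∀ i, y⁻¹ ∈ V i) ∧ (∀ i, x * y⁻¹ ∈ V i) ∧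
      ∀ i, x ∈ V i → (V i).valuation y = 1 := by
  classical
  by_cases hne : Nonempty ι
  swap
  · exact ⟨1, K.one_mem, one_ne_zero, fun i => (hne ⟨i⟩).elim, fun i => (hne ⟨i⟩).elim,
      fun i => (hne ⟨i⟩).elim⟩
  have hper : ∀ i, ∃ d : ℕ, 2 ≤ d ∧ (x ∈ V i →
      ∀ s : ℕ, 1 ≤ s → (V i).valuation (gs x s) < 1 → d ∣ s) := by
    intro i
    by_cases hxi : x ∈ V i
    · obtain ⟨d, hd, h⟩ := exists_period (V i).valuation
        ((ValuationSubring.valuation_le_one_iff (V i) x).mpr hxi)
      exact ⟨d, hd, fun _ => h⟩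
    · exact ⟨2, le_rfl, fun h => absurd h hxi⟩
  choose d hd2 hd using hper
  set s := 1 + ∏ i, d i with hs
  have hprod : 1 ≤ ∏ i, d i := by
    apply Nat.one_le_iff_ne_zero.mpr
    rw [Finset.prod_ne_zero_iff]
    intro i _
    have := hd2 i
    omega
  have hs2 : 2 ≤ s := by omega
  have hnd : ∀ i, ¬ d i ∣ s := by
    intro i hdiv
    have h1 : d i ∣ ∏ i, d i := Finset.dvd_prod_of_mem d (Finset.mem_univ i)
    have h2 : d i ∣ 1 := by
      have := (Nat.dvd_add_right h1).mp (by rw [add_comm] at hs; rw [← hs]; exact hdiv)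
      exact this
    have := Nat.le_of_dvd one_pos h2
    have := hd2 i
    omega
  set y := gs x s with hy
  have hyK : y ∈ K := by
    rw [hy]; unfold gs
    exact Subfield.sum_mem K (fun j _ => pow_mem hx j)
  have hval : ∀ i, (x ∈ V i → (V i).valuation y = 1) ∧
      (x ∉ V i → (V i).valuation y = (V i).valuation x ^ (s - 1) ∧ 1 < (V i).valuation x) := by
    intro i
    constructor
    · intro hxi
      have hle : (V i).valuation y ≤ 1 := by
        rw [ValuationSubring.valuation_le_one_iff]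
        rw [hy]; unfold gs
        exact Subring.sum_mem _ (fun j _ => pow_mem hxi j)
      rcases lt_or_eq_of_le hle with hlt | heq
      · exact absurd (hd i hxi s (by omega) hlt) (hnd i)
      · exact heq
    · intro hxi
      have hgt : 1 < (V i).valuation x := by
        rw [← not_le, ValuationSubring.valuation_le_one_iff]; exact hxi
      exact ⟨val_gs_of_gt _ hgt (by omega), hgt⟩
  have hy0 : y ≠ 0 := by
    intro h0
    obtain ⟨i⟩ := hne
    by_cases hxi : x ∈ V i
    · have := (hval i).1 hxi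
      rw [h0, map_zero] at this
      exact zero_ne_one this
    · have := ((hval i).2 hxi).1
      rw [h0, map_zero] at this
      have hpos : 0 < (V i).valuation x ^ (s - 1) :=
        pow_pos (lt_trans zero_lt_one ((hval i).2 hxi).2) _
      rw [← this] at hpos
      exact lt_irrefl _ hpos
  refine ⟨y, hyK, hy0, ?_, ?_, ?_⟩
  · intro i
    rw [← ValuationSubring.valuation_le_one_iff, map_inv₀]
    by_cases hxi : x ∈ V i
    · rw [(hval i).1 hxi, inv_one]
    · obtain ⟨h1, h2⟩ := (hval i).2 hxi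
      rw [h1]
      apply inv_le_one_of_one_le₀
      exact one_le_pow₀ h2.le
  · intro i
    rw [← ValuationSubring.valuation_le_one_iff, map_mul, map_inv₀]
    by_cases hxi : x ∈ V i
    · rw [(hval i).1 hxi, inv_one, mul_one, ValuationSubring.valuation_le_one_iff]
      exact hxi
    · obtain ⟨h1, h2⟩ := (hval i).2 hxi
      rw [h1]
      have hx0 : (V i).valuation x ≠ 0 := ne_of_gt (lt_trans zero_lt_one h2)
      have hs' : s - 1 = (s - 2) + 1 := by omega
      rw [hs', pow_succ, mul_inv, mul_comm ((V i).valuation x ^ (s - 2))⁻¹, ← mul_assoc,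
        mul_inv_cancel₀ hx0, one_mul]
      apply inv_le_one_of_one_le₀
      exact one_le_pow₀ h2.le
  · intro i hxi
    exact (hval i).1 hxi

end Family

end Groth.Agent.Lib.LeadVP
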