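import Groth.Agent.Lib.LeadVP1

/-! A finite intersection of valuation rings of `L`, cut down to a subfield `K`, is a semilocal
Prüfer domain with fraction field `K`. -/

namespace Groth.Agent.Lib.LeadVP

section Family

variable {L : Type*} [Field L] {ι : Type*} [Fintype ι] (V : ι → ValuationSubring L)
  (K : Subfield L) (B : Subring L) (hB : ∀ x, x ∈ B ↔ x ∈ K ∧ ∀ i, x ∈ V i)

include hB in
lemma val_le_one (i : ι) (b : B) : (V i).valuation (b : L) ≤ 1 :=
  (ValuationSubring.valuation_le_one_iff (V i) _).mpr (((hB b).mp b.2).2 i)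

/-- the centre of `V i` on `B`. -/
def nIdeal (i : ι) : Ideal B where
  carrier := {b | (V i).valuation (b : L) < 1}
  add_mem' {a b} ha hb := by
    show (V i).valuation ((a + b : B) : L) < 1
    rw [Subring.coe_add]
    exact lt_of_le_of_lt (Valuation.map_add _ _ _) (max_lt ha hb)
  zero_mem' := by
    show (V i).valuation ((0 : B) : L) < 1
    rw [Subring.coe_zero, map_zero]; exact zero_lt_one
  smul_mem' c b hb := by
    show (V i).valuation ((c • b : B) : L) < 1
    rw [smul_eq_mul, Subring.coe_mul, map_mul]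
    calc (V i).valuation (c : L) * (V i).valuation (b : L)
        ≤ 1 * (V i).valuation (b : L) := mul_le_mul' (val_le_one V K B hB i c) le_rfl
      _ = (V i).valuation (b : L) := one_mul _
      _ < 1 := hb

lemma mem_nIdeal (i : ι) (b : B) : b ∈ nIdeal V K B hB i ↔ (V i).valuation (b : L) < 1 := Iff.rfl

lemma nIdeal_isPrime (i : ι) : (nIdeal V K B hB i).IsPrime := by
  refine ⟨?_, ?_⟩
  · intro h
    have h1 : (1 : B) ∈ nIdeal V K B hB i := by rw [h]; trivial
    rw [mem_nIdeal, Subring.coe_one, map_one] at h1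
    exact lt_irrefl _ h1
  · intro a b hab
    rw [mem_nIdeal, Subring.coe_mul, map_mul] at hab
    by_contra hcon
    push_neg at hcon
    obtain ⟨ha, hb⟩ := hcon
    rw [mem_nIdeal, not_lt] at ha hb
    have ha1 := le_antisymm (val_le_one V K B hB i a) ha
    have hb1 := le_antisymm (val_le_one V K B hB i b) hb
    rw [ha1, hb1, one_mul] at hab
    exact lt_irrefl _ hab

include hB in
lemma inv_mem_of_units {b : L} (hb : b ∈ B) (h : ∀ i, (V i).valuation b = 1) : b⁻¹ ∈ B := by
  rw [hB]
  refine ⟨inv_mem ((hB b).mp hb).1, fun i => ?_⟩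
  rw [← ValuationSubring.valuation_le_one_iff, map_inv₀, h i, inv_one]

theorem exists_le_nIdeal [hne : Nonempty ι] (p : Ideal B) [hp : p.IsPrime] :
    ∃ i, p ≤ nIdeal V K B hB i := by
  classical
  have hsub : (p : Set B) ⊆ ⋃ i ∈ ((Finset.univ : Finset ι) : Set ι), (nIdeal V K B hB i : Set B) := by
    intro b hb
    by_contra hcon
    simp only [Finset.coe_univ, Set.mem_univ, Set.iUnion_true, Set.mem_iUnion, SetLike.mem_coe,
      not_exists] at hcon
    have h1 : ∀ i, (V i).valuation (b : L) = 1 := by
      intro i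
      have := hcon i
      rw [mem_nIdeal, not_lt] at this
      exact le_antisymm (val_le_one V K B hB i b) this
    have hinv := inv_mem_of_units V K B hB b.2 h1
    have hb0 : (b : L) ≠ 0 := by
      intro h0
      obtain ⟨i⟩ := hne
      have := h1 i
      rw [h0, map_zero] at this
      exact zero_ne_one this
    have : (1 : B) ∈ p := by
      have h2 : (⟨(b : L)⁻¹, hinv⟩ : B) * b = 1 := by
        apply Subtype.ext
        show (b : L)⁻¹ * (b : L) = 1
        exact inv_mul_cancel₀ hb0
      rw [← h2]
      exact p.mul_mem_left _ hb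
    exact hp.ne_top ((Ideal.eq_top_iff_one p).mpr this)
  obtain ⟨i0⟩ := hne
  obtain ⟨i, -, hi⟩ := (Ideal.subset_union_prime (s := Finset.univ)
    (f := fun i => nIdeal V K B hB i) i0 i0
    (fun i _ _ _ => nIdeal_isPrime V K B hB i)).mp hsub
  exact ⟨i, hi⟩

end Family

end Groth.Agent.Lib.LeadVP
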