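import Groth.Agent.Lib.LeadVP2

/-! Semilocal Prüfer property of a finite intersection of valuation rings cut down to a
subfield: fractions, maximal spectrum, localizations. -/

namespace Groth.Agent.Lib.LeadVP

section Family

variable {L : Type*} [Field L] {ι : Type*} [Fintype ι] (V : ι → ValuationSubring L)
  (K : Subfield L) (B : Subring L) (hB : ∀ x, x ∈ B ↔ x ∈ K ∧ ∀ i, x ∈ V i)

include hB in
theorem exists_fraction {x : L} (hx : x ∈ K) :
    ∃ a b : L, a ∈ B ∧ b ∈ B ∧ b ≠ 0 ∧ x = a / b := by
  obtain ⟨y, hyK, hy0, h1, h2, -⟩ := exists_denominator V K hx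
  refine ⟨x * y⁻¹, y⁻¹, ?_, ?_, inv_ne_zero hy0, ?_⟩
  · rw [hB]; exact ⟨mul_mem hx (inv_mem hyK), h2⟩
  · rw [hB]; exact ⟨inv_mem hyK, h1⟩
  · field_simp

include V K hB in
theorem finite_maximalSpectrum [Nonempty ι] : Finite (MaximalSpectrum B) := by
  classical
  have hmax : ∀ m : MaximalSpectrum B, ∃ i, m.asIdeal = nIdeal V K B hB i := by
    intro m
    haveI := m.isMaximal
    obtain ⟨i, hi⟩ := exists_le_nIdeal V K B hB m.asIdeal
    exact ⟨i, m.isMaximal.eq_of_le (nIdeal_isPrime V K B hB i).ne_top hi⟩
  choose f hf using hmax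
  apply Finite.of_injective f
  intro m m' h
  ext1
  rw [hf m, hf m', h]

include V K hB in
theorem valuationRing_localization [Nonempty ι] (p : Ideal B) [p.IsPrime] :
    ValuationRing (Localization.AtPrime p) := by
  obtain ⟨i, hi⟩ := exists_le_nIdeal V K B hB p
  rw [ValuationRing.iff_dvd_total]
  have key : ∀ (c c' : B), (c' : L) ≠ 0 → ((c : L) / (c' : L)) ∈ V i →
      algebraMap B (Localization.AtPrime p) c' ∣ algebraMap B (Localization.AtPrime p) c := by
    intro c c' hc' hx
    have hcK : (c : L) ∈ K := ((hB c).mp c.2).1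
    have hc'K : (c' : L) ∈ K := ((hB c').mp c'.2).1
    obtain ⟨y, hyK, hy0, h1, h2, h3⟩ := exists_denominator V K (div_mem hcK hc'K)
    have htB : y⁻¹ ∈ B := by rw [hB]; exact ⟨inv_mem hyK, h1⟩
    have hcxB : (c : L) / (c' : L) * y⁻¹ ∈ B := by
      rw [hB]; exact ⟨mul_mem (div_mem hcK hc'K) (inv_mem hyK), h2⟩
    set t : B := ⟨y⁻¹, htB⟩ with ht
    set cx : B := ⟨(c : L) / (c' : L) * y⁻¹, hcxB⟩ with hcx
    have htp : t ∈ p.primeCompl := by
      intro hmem
      have := hi hmem
      rw [mem_nIdeal] at this
      have h4 : (V i).valuation ((t : B) : L) = 1 := by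
        show (V i).valuation y⁻¹ = 1
        rw [map_inv₀, h3 i hx, inv_one]
      rw [h4] at this
      exact lt_irrefl _ this
    have heq : c * t = cx * c' := by
      apply Subtype.ext
      show (c : L) * y⁻¹ = (c : L) / (c' : L) * y⁻¹ * (c' : L)
      field_simp
    have hunit : IsUnit (algebraMap B (Localization.AtPrime p) t) :=
      IsLocalization.map_units (Localization.AtPrime p) (⟨t, htp⟩ : p.primeCompl)
    have h5 : algebraMap B (Localization.AtPrime p) c * algebraMap B (Localization.AtPrime p) t =
        algebraMap B (Localization.AtPrime p) cx * algebraMap B (Localization.AtPrime p) c' := by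
      rw [← map_mul, ← map_mul, heq]
    refine ⟨algebraMap B (Localization.AtPrime p) cx * ↑hunit.unit⁻¹, ?_⟩
    calc algebraMap B (Localization.AtPrime p) c
        = algebraMap B (Localization.AtPrime p) c *
            (algebraMap B (Localization.AtPrime p) t * ↑hunit.unit⁻¹) := by
          rw [IsUnit.mul_val_inv hunit, mul_one]
      _ = (algebraMap B (Localization.AtPrime p) c * algebraMap B (Localization.AtPrime p) t) *
            ↑hunit.unit⁻¹ := by ring
      _ = algebraMap B (Localization.AtPrime p) c' *
            (algebraMap B (Localization.AtPrime p) cx * ↑hunit.unit⁻¹) := by rw [h5]; ring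
  have hred : ∀ (b b' : B) (s s' : p.primeCompl),
      algebraMap B (Localization.AtPrime p) b ∣ algebraMap B (Localization.AtPrime p) b' →
      IsLocalization.mk' (Localization.AtPrime p) b s ∣
        IsLocalization.mk' (Localization.AtPrime p) b' s' := by
    intro b b' s s' hdvd
    obtain ⟨w, hw⟩ := hdvd
    have hunit : IsUnit (algebraMap B (Localization.AtPrime p) (s' : B)) :=
      IsLocalization.map_units (Localization.AtPrime p) s'
    have e1 : IsLocalization.mk' (Localization.AtPrime p) b' s' *
        algebraMap B (Localization.AtPrime p) (s' : B) =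
        IsLocalization.mk' (Localization.AtPrime p) b s *
          algebraMap B (Localization.AtPrime p) (s : B) * w := by
      rw [IsLocalization.mk'_spec, IsLocalization.mk'_spec, hw]
    refine ⟨algebraMap B (Localization.AtPrime p) (s : B) * w * ↑hunit.unit⁻¹, ?_⟩
    calc IsLocalization.mk' (Localization.AtPrime p) b' s'
        = IsLocalization.mk' (Localization.AtPrime p) b' s' *
            (algebraMap B (Localization.AtPrime p) (s' : B) * ↑hunit.unit⁻¹) := by
          rw [IsUnit.mul_val_inv hunit, mul_one]
      _ = (IsLocalization.mk' (Localization.AtPrime p) b' s' *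
            algebraMap B (Localization.AtPrime p) (s' : B)) * ↑hunit.unit⁻¹ := by ring
      _ = IsLocalization.mk' (Localization.AtPrime p) b s *
            (algebraMap B (Localization.AtPrime p) (s : B) * w * ↑hunit.unit⁻¹) := by
          rw [e1]; ring
  refine ⟨fun a a' => ?_⟩
  obtain ⟨b, s, rfl⟩ := IsLocalization.exists_mk'_eq p.primeCompl a
  obtain ⟨b', s', rfl⟩ := IsLocalization.exists_mk'_eq p.primeCompl a'
  by_cases hb0 : (b : L) = 0
  · right
    have : b = 0 := Subtype.ext hb0
    subst this
    rw [IsLocalization.mk'_zero]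
    exact dvd_zero _
  by_cases hb'0 : (b' : L) = 0
  · left
    have : b' = 0 := Subtype.ext hb'0
    subst this
    rw [IsLocalization.mk'_zero]
    exact dvd_zero _
  rcases (V i).mem_or_inv_mem ((b : L) / (b' : L)) with h | h
  · right
    exact hred b' b s' s (key b b' hb'0 h)
  · left
    rw [inv_div] at h
    exact hred b b' s s' (key b' b hb0 h)

end Family

end Groth.Agent.Lib.LeadVP
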