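import Groth.Agent.Lib.LeadVP3

/-! Semilocal Prüfer domains: intersection with a subfield. -/

namespace Groth.Agent.Lib.LeadVP

section App

variable {R L : Type*} [CommRing R] [IsDomain R] [Field L] [Algebra R L] [IsFractionRing R L]

lemma isUnit_algebraMap_of_notMem (𝔪 : Ideal R) [𝔪.IsPrime] (s : 𝔪.primeCompl) :
    IsUnit (algebraMap R L (s : R)) := by
  rw [isUnit_iff_ne_zero]
  intro h0
  have : (s : R) = 0 := (IsFractionRing.injective R L) (by rw [h0, map_zero])
  exact s.2 (by rw [this]; exact 𝔪.zero_mem)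

/-- the localization at a prime, as a subring of the fraction field. -/
noncomputable def locSubring (𝔪 : Ideal R) [𝔪.IsPrime] : Subring L :=
  (IsLocalization.lift (M := 𝔪.primeCompl) (S := Localization.AtPrime 𝔪) (g := algebraMap R L)
    (isUnit_algebraMap_of_notMem (L := L) 𝔪)).range

lemma mem_locSubring (𝔪 : Ideal R) [𝔪.IsPrime] (x : L) :
    x ∈ locSubring (L := L) 𝔪 ↔
      ∃ a s : R, s ∉ 𝔪 ∧ x * algebraMap R L s = algebraMap R L a := by
  unfold locSubring
  rw [RingHom.mem_range]
  constructor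
  · rintro ⟨z, rfl⟩
    obtain ⟨a, s, rfl⟩ := IsLocalization.exists_mk'_eq 𝔪.primeCompl z
    refine ⟨a, s, s.2, ?_⟩
    have := (IsLocalization.lift_mk'_spec (S := Localization.AtPrime 𝔪)
      (hg := isUnit_algebraMap_of_notMem (L := L) 𝔪) a _ s).mp rfl
    rw [this, mul_comm]
  · rintro ⟨a, s, hs, h⟩
    refine ⟨IsLocalization.mk' (Localization.AtPrime 𝔪) a (⟨s, hs⟩ : 𝔪.primeCompl), ?_⟩
    rw [IsLocalization.lift_mk'_spec]
    rw [← h, mul_comm]

lemma mem_or_inv_mem_locSubring (𝔪 : Ideal R) [𝔪.IsPrime]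
    (hV : ValuationRing (Localization.AtPrime 𝔪)) (x : L) :
    x ∈ locSubring (L := L) 𝔪 ∨ x⁻¹ ∈ locSubring (L := L) 𝔪 := by
  obtain ⟨a, b, hb, rfl⟩ := IsFractionRing.div_surjective (A := R) x
  have hb0 : b ≠ 0 := nonZeroDivisors.ne_zero hb
  have hbL : algebraMap R L b ≠ 0 := by
    intro h0
    exact hb0 ((IsFractionRing.injective R L) (by rw [h0, map_zero]))
  have hinj : Function.Injective (algebraMap R (Localization.AtPrime 𝔪)) :=
    IsLocalization.injective (Localization.AtPrime 𝔪) 𝔪.primeCompl_le_nonZeroDivisors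
  obtain ⟨c, hc⟩ := ValuationRing.cond (algebraMap R (Localization.AtPrime 𝔪) a)
    (algebraMap R (Localization.AtPrime 𝔪) b)
  obtain ⟨r, s, rfl⟩ := IsLocalization.exists_mk'_eq 𝔪.primeCompl c
  rcases hc with hc | hc
  · -- a * (r/s) = b, so b/a = r/s
    right
    have h1 : a * r = b * s := by
      apply hinj
      rw [map_mul, map_mul, ← hc, mul_assoc, IsLocalization.mk'_spec]
    by_cases ha0 : a = 0
    · rw [ha0, map_zero, zero_div, inv_zero]
      exact Subring.zero_mem _
    have haL : algebraMap R L a ≠ 0 := by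
      intro h0
      exact ha0 ((IsFractionRing.injective R L) (by rw [h0, map_zero]))
    rw [mem_locSubring]
    refine ⟨r, s, s.2, ?_⟩
    have h2 := congrArg (algebraMap R L) h1
    rw [map_mul, map_mul] at h2
    rw [inv_div]
    field_simp
    first | linear_combination h2 | linear_combination -h2
  · left
    have h1 : b * r = a * s := by
      apply hinj
      rw [map_mul, map_mul, ← hc, mul_assoc, IsLocalization.mk'_spec]
    rw [mem_locSubring]
    refine ⟨r, s, s.2, ?_⟩
    have h2 := congrArg (algebraMap R L) h1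
    rw [map_mul, map_mul] at h2
    field_simp
    first | linear_combination h2 | linear_combination -h2

lemma mem_range_iff_forall_locSubring (x : L) :
    x ∈ (algebraMap R L).range ↔
      ∀ m : MaximalSpectrum R, x ∈ locSubring (L := L) m.asIdeal := by
  constructor
  · rintro ⟨a, rfl⟩ m
    rw [mem_locSubring]
    exact ⟨a, 1, fun h => m.isMaximal.ne_top ((Ideal.eq_top_iff_one _).mpr h), by simp⟩
  · intro h
    let D : Ideal R :=
      { carrier := {s | ∃ a, x * algebraMap R L s = algebraMap R L a}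
        add_mem' := by
          rintro s s' ⟨a, ha⟩ ⟨a', ha'⟩
          exact ⟨a + a', by rw [map_add, map_add, mul_add, ha, ha']⟩
        zero_mem' := ⟨0, by simp⟩
        smul_mem' := by
          rintro c s ⟨a, ha⟩
          refine ⟨c * a, ?_⟩
          rw [smul_eq_mul, map_mul, map_mul, ← ha]; ring }
    by_cases hD : D = ⊤
    · have h1 : (1 : R) ∈ D := by rw [hD]; trivial
      obtain ⟨a, ha⟩ := h1
      exact ⟨a, by rw [← ha, map_one, mul_one]⟩
    · obtain ⟨𝔪, h𝔪, hle⟩ := Ideal.exists_le_maximal D hD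
      have := h ⟨𝔪, h𝔪⟩
      rw [mem_locSubring] at this
      obtain ⟨a, s, hs, hxs⟩ := this
      exact absurd (hle ⟨a, hxs⟩) hs

theorem semilocal_prufer_inf_subfield
    (hR : ∀ (p : Ideal R) [p.IsPrime], ValuationRing (Localization.AtPrime p))
    (hfin : Finite (MaximalSpectrum R)) (K : Subfield L) :
    (∀ (p : Ideal ↥((algebraMap R L).range ⊓ K.toSubring)) [p.IsPrime],
        ValuationRing (Localization.AtPrime p)) ∧
      Finite (MaximalSpectrum ↥((algebraMap R L).range ⊓ K.toSubring)) ∧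
      ∀ x : L, x ∈ K → ∃ a b : L, a ∈ (algebraMap R L).range ⊓ K.toSubring ∧
        b ∈ (algebraMap R L).range ⊓ K.toSubring ∧ b ≠ 0 ∧ x = a / b := by
  classical
  haveI : Fintype (MaximalSpectrum R) := Fintype.ofFinite _
  haveI : Nonempty (MaximalSpectrum R) := by
    obtain ⟨𝔪, h𝔪⟩ := Ideal.exists_maximal R
    exact ⟨⟨𝔪, h𝔪⟩⟩
  let V : MaximalSpectrum R → ValuationSubring L := fun m =>
    { toSubring := locSubring (L := L) m.asIdeal
      mem_or_inv_mem' := mem_or_inv_mem_locSubring m.asIdeal (hR m.asIdeal) }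
  have hB : ∀ x, x ∈ (algebraMap R L).range ⊓ K.toSubring ↔ x ∈ K ∧ ∀ i, x ∈ V i := by
    intro x
    rw [Subring.mem_inf, mem_range_iff_forall_locSubring]
    constructor
    · rintro ⟨h1, h2⟩; exact ⟨h2, h1⟩
    · rintro ⟨h1, h2⟩; exact ⟨h2, h1⟩
  exact ⟨fun p _ => valuationRing_localization V K _ hB p, finite_maximalSpectrum V K _ hB,
    fun x hx => exists_fraction V K _ hB hx⟩

end App

end Groth.Agent.Lib.LeadVP
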