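import Groth.Agent.Lib.LeadIG2
import Groth.Agent.Lib.LeadFF16
import Groth.Agent.Lib.Helper14FTDimB

/-! # Valuation subrings of the function field of an affine curve -/

namespace Groth.Agent.Lib.LeadVS

open FunFld WithZero Groth.Agent.Lib.LeadFF MvPolynomial

universe u

section FF

variable (k A F : Type u) [Field k] [CommRing A] [IsDomain A] [Algebra k A]
  [Algebra.FiniteType k A] [Field F] [Algebra A F] [IsFractionRing A F] [Algebra k F]
  [IsScalarTower k A F]

/-- the function field of an affine curve is a (weak) function field of one variable -/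
theorem isFF_of_dim_one (hA : ringKrullDim A = 1) : LeadFG.IsFF k F := by
  classical
  obtain ⟨s, g, hinj, hfin⟩ := exists_finite_inj_algHom_of_fg k A
  have hdim := Groth.Agent.Lib.Helper14.FTDim.ringKrullDim_of_finite_injective g hinj hfin
  have hs : s = 1 := by
    rw [hA, Fintype.card_fin] at hdim
    have : ((1 : ℕ) : WithBot ℕ∞) = ((s : ℕ) : WithBot ℕ∞) := by
      rw [← hdim]; rfl
    exact_mod_cast this.symm
  subst hs
  let ψ : MvPolynomial (Fin 1) k →ₐ[k] F := (IsScalarTower.toAlgHom k A F).comp g
  have hψinj : Function.Injective ψ := (IsFractionRing.injective A F).comp hinj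
  set x : F := ψ (X 0) with hx
  have hxtr : Transcendental k x := by
    have h1 : AlgebraicIndependent k (X : Fin 1 → MvPolynomial (Fin 1) k) :=
      MvPolynomial.algebraicIndependent_X (Fin 1) k
    have h2 := h1.map' hψinj
    exact h2.transcendental 0
  refine ⟨x, hxtr, ?_⟩
  set K₁ := IntermediateField.adjoin k ({x} : Set F) with hK₁
  have hψmem : ∀ q : MvPolynomial (Fin 1) k, ψ q ∈ K₁ := by
    intro q
    induction q using MvPolynomial.induction_on with
    | C c =>
      have : ψ (C c) = algebraMap k F c := by
        rw [← MvPolynomial.algebraMap_eq, AlgHom.commutes]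
      rw [this]
      exact K₁.algebraMap_mem c
    | add p q hp hq => rw [map_add]; exact K₁.add_mem hp hq
    | mul_X p i hp =>
      rw [map_mul]
      refine K₁.mul_mem hp ?_
      rw [Subsingleton.elim i 0]
      exact IntermediateField.subset_adjoin k _ rfl
  letI algPA : Algebra (MvPolynomial (Fin 1) k) A := g.toRingHom.toAlgebra
  haveI : Module.Finite (MvPolynomial (Fin 1) k) A := hfin
  haveI : Algebra.IsIntegral (MvPolynomial (Fin 1) k) A := Algebra.IsIntegral.of_finite _ A
  let φ : MvPolynomial (Fin 1) k →+* K₁ := (ψ : MvPolynomial (Fin 1) k →+* F).codRestrict K₁ hψmem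
  have hint : ∀ a : A, IsIntegral K₁ (algebraMap A F a) := by
    intro a
    have ha : IsIntegral (MvPolynomial (Fin 1) k) a := Algebra.IsIntegral.isIntegral a
    exact IsIntegral.map_of_comp_eq φ (algebraMap A F) (by ext <;> rfl) ha
  obtain ⟨S, hS⟩ := (Algebra.FiniteType.out : (⊤ : Subalgebra k A).FG)
  let T : Set F := (algebraMap A F) '' (S : Set A)
  haveI : Finite T := (S.finite_toSet.image _).to_subtype
  have hfinT : FiniteDimensional K₁ (IntermediateField.adjoin K₁ T) := by
    apply IntermediateField.finiteDimensional_adjoin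
    rintro _ ⟨a, -, rfl⟩
    exact hint a
  have hAmem : ∀ a : A, algebraMap A F a ∈ IntermediateField.adjoin K₁ T := by
    intro a
    have ha : a ∈ Algebra.adjoin k (S : Set A) := by rw [hS]; trivial
    induction ha using Algebra.adjoin_induction with
    | mem y hy => exact IntermediateField.subset_adjoin K₁ T ⟨y, hy, rfl⟩
    | algebraMap c =>
      rw [← IsScalarTower.algebraMap_apply k A F]
      have : algebraMap k F c = algebraMap K₁ F (algebraMap k K₁ c) := rfl
      rw [this]
      exact (IntermediateField.adjoin K₁ T).algebraMap_mem _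
    | add y z _ _ hy hz => rw [map_add]; exact add_mem hy hz
    | mul y z _ _ hy hz => rw [map_mul]; exact mul_mem hy hz
  have htop : IntermediateField.adjoin K₁ T = ⊤ := by
    rw [eq_top_iff]
    intro z _
    obtain ⟨a, b, hb, rfl⟩ := IsFractionRing.div_surjective (A := A) z
    exact div_mem (hAmem a) (hAmem b)
  rw [htop] at hfinT
  exact Module.Finite.equiv (IntermediateField.topEquiv (F := K₁) (E := F)).toLinearEquiv

end FF

section Places

variable {k F : Type*} [Field k] [Field F] [Algebra k F]

lemma poles_finite_of_isFF (hFF : LeadFG.IsFF k F) (y : F) :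
    {P : Place k F | 1 < P.1 y}.Finite := by
  have hK := Groth.Agent.Lib.LeadIG.isFunctionField_kc hFF
  have h1 := poles_finite' hK y
  have hinj : Set.InjOn (Groth.Agent.Lib.LeadIG.placeUp (k := k) (E := F))
      (Groth.Agent.Lib.LeadIG.placeUp ⁻¹' {P | 1 < P.1 y}) := by
    intro P _ Q _ hPQ
    apply Subtype.ext
    exact congrArg (fun R : Place (algebraicClosure k F) F => R.1) hPQ
  have h2 := h1.preimage hinj
  refine h2.subset ?_
  intro P hP
  exact hP

/-- a nontrivial valuation subring containing `k` of a function field is the ring of a place -/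
lemma exists_place_of_valuationSubring (hFF : LeadFG.IsFF k F) (O : ValuationSubring F)
    (hk : (algebraMap k F).range ≤ O.toSubring) {y : F} (hy : y ∉ O) :
    ∃ P : Place k F, P.O = O ∧ 1 < P.1 y := by
  have htriv : LeadFG.TrivOn k O.valuation := by
    apply LeadFG.trivOn_of_le_one
    intro c
    rw [ValuationSubring.valuation_le_one_iff]
    exact hk ⟨c, rfl⟩
  have hy0 : y ≠ 0 := by
    rintro rfl
    exact hy O.zero_mem
  have hvy : 1 < O.valuation y := by
    rw [← not_le, ValuationSubring.valuation_le_one_iff]
    exact hy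
  have hz : O.valuation y⁻¹ < 1 := by
    rw [map_inv₀]
    exact inv_lt_one_of_one_lt₀ hvy
  obtain ⟨P, hP⟩ := LeadFG.exists_place_of_valuation hFF htriv (inv_ne_zero hy0) hz
  refine ⟨P, ?_, ?_⟩
  · ext w
    show w ∈ P.1.valuationSubring ↔ w ∈ O
    rw [Valuation.mem_valuationSubring_iff, ← ValuationSubring.valuation_le_one_iff]
    have := hP w 1
    rw [map_one, map_one] at this
    exact this
  · have := hP y 1
    rw [map_one, map_one] at this
    rw [← not_le, this, not_le]
    exact hvy

end Places

section Main

variable (k A F : Type u) [Field k] [CommRing A] [IsDomain A] [Algebra k A]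
  [Algebra.FiniteType k A] [Field F] [Algebra A F] [IsFractionRing A F] [Algebra k F]
  [IsScalarTower k A F]

theorem finite_valuationSubrings_not_containing (hA : ringKrullDim A = 1) :
    {O : ValuationSubring F | (algebraMap k F).range ≤ O.toSubring ∧
      ¬ (algebraMap A F).range ≤ O.toSubring}.Finite := by
  classical
  have hFF := isFF_of_dim_one k A F hA
  obtain ⟨S, hS⟩ := (Algebra.FiniteType.out : (⊤ : Subalgebra k A).FG)
  have hfin : (⋃ a ∈ (S : Set A), (fun P : Place k F => P.O) ''
      {P : Place k F | 1 < P.1 (algebraMap A F a)}).Finite := by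
    apply Set.Finite.biUnion S.finite_toSet
    intro a _
    exact (poles_finite_of_isFF hFF _).image _
  refine hfin.subset ?_
  rintro O ⟨hk, hnA⟩
  -- some generator is not in `O`
  have hex : ∃ a ∈ (S : Set A), algebraMap A F a ∉ O := by
    by_contra hcon
    push_neg at hcon
    apply hnA
    rintro _ ⟨a, rfl⟩
    have ha : a ∈ Algebra.adjoin k (S : Set A) := by rw [hS]; trivial
    show algebraMap A F a ∈ O
    induction ha using Algebra.adjoin_induction with
    | mem y hy => exact hcon y hy
    | algebraMap c =>
      rw [← IsScalarTower.algebraMap_apply k A F]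
      exact hk ⟨c, rfl⟩
    | add y z _ _ hy hz => rw [map_add]; exact O.add_mem _ _ hy hz
    | mul y z _ _ hy hz => rw [map_mul]; exact O.mul_mem _ _ hy hz
  obtain ⟨a, haS, haO⟩ := hex
  obtain ⟨P, hPO, hP⟩ := exists_place_of_valuationSubring hFF O hk haO
  rw [Set.mem_iUnion₂]
  exact ⟨a, haS, P, hP, hPO⟩

end Main

end Groth.Agent.Lib.LeadVS
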