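import Mathlib

/-!
# Polynomial pencils: zero counting, Wronskian divisibility and degree (lead)

Basic lemmas used for the three-point `ramMaps` statements (`W4c1limliniiii`).
-/

namespace Groth.Agent.Lib.LeadW3

open Polynomial

variable {k : Type*} [Field k]

/-- A polynomial divisible by `(X - P i) ^ m i` for distinct points `P i`, of degree less than
`∑ m i`, vanishes. -/
theorem eq_zero_of_pow_dvd {ι : Type*} [Fintype ι] {P : ι → k} (hP : Function.Injective P)
    (m : ι → ℕ) {N : k[X]} (h : ∀ i, (X - C (P i)) ^ m i ∣ N)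
    (hdeg : N.natDegree < ∑ i, m i) : N = 0 := by
  classical
  by_contra hN
  have hco : Pairwise (Function.onFun IsCoprime fun i : ι => (X - C (P i)) ^ m i) := by
    intro i j hij
    exact (pairwise_coprime_X_sub_C hP hij).pow
  have hdvd : (∏ i, (X - C (P i)) ^ m i) ∣ N := Fintype.prod_dvd_of_coprime hco h
  have hle := natDegree_le_of_dvd hdvd hN
  have hdeg' : (∏ i, (X - C (P i)) ^ m i).natDegree = ∑ i, m i := by
    rw [natDegree_prod_of_monic _ _ (fun i _ => (monic_X_sub_C _).pow _)]
    refine Finset.sum_congr rfl fun i _ => ?_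
    rw [(monic_X_sub_C _).natDegree_pow, natDegree_X_sub_C, mul_one]
  omega

theorem injective_pair {a b : k} (hab : a ≠ b) : Function.Injective ![a, b] := by
  intro i j h
  fin_cases i <;> fin_cases j <;> simp_all

theorem eq_zero_of_two {a b : k} (hab : a ≠ b) {m n : ℕ} {s : k[X]}
    (h1 : (X - C a) ^ m ∣ s) (h2 : (X - C b) ^ n ∣ s) (hdeg : s.natDegree < m + n) : s = 0 := by
  refine eq_zero_of_pow_dvd (injective_pair hab) ![m, n] ?_ ?_
  · intro i
    fin_cases i
    · simpa using h1
    · simpa using h2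
  · simpa [Fin.sum_univ_two] using hdeg

/-- `(X - a) ^ m ∣ F`, `(X - a) ^ n ∣ G` give `(X - a) ^ (m + n - 1) ∣ W(F, G)`. -/
theorem pow_dvd_wronskian {F G : k[X]} {a : k} {m n : ℕ} (hF : (X - C a) ^ m ∣ F)
    (hG : (X - C a) ^ n ∣ G) : (X - C a) ^ (m + n - 1) ∣ wronskian F G := by
  have hF' := pow_sub_one_dvd_derivative_of_pow_dvd hF
  have hG' := pow_sub_one_dvd_derivative_of_pow_dvd hG
  unfold wronskian
  apply dvd_sub
  · have := mul_dvd_mul hF hG'
    rw [← pow_add] at this
    exact (pow_dvd_pow _ (by omega)).trans this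
  · have := mul_dvd_mul hF' hG
    rw [← pow_add] at this
    exact (pow_dvd_pow _ (by omega)).trans this

theorem natDegree_wronskian_le_of_lt {F G : k[X]} {d : ℕ} (hF : F.natDegree ≤ d)
    (hlt : G.natDegree < F.natDegree) (hW : wronskian F G ≠ 0) :
    (wronskian F G).natDegree + 2 ≤ 2 * d ∧
      ((wronskian F G).natDegree + 2 = 2 * d → F.natDegree = d) := by
  have := natDegree_wronskian_lt_add hW
  constructor <;> omega

/-- The Wronskian of two polynomials of degree at most `d` has degree at most `2d - 2`, and in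
case of equality their span contains a polynomial of degree exactly `d`. -/
theorem natDegree_wronskian_le {F G : k[X]} {d : ℕ} (hF : F.natDegree ≤ d) (hG : G.natDegree ≤ d)
    (hW : wronskian F G ≠ 0) :
    (wronskian F G).natDegree + 2 ≤ 2 * d ∧
      ((wronskian F G).natDegree + 2 = 2 * d →
        ∃ s ∈ Submodule.span k {F, G}, s.natDegree = d) := by
  rcases lt_trichotomy G.natDegree F.natDegree with h | h | h
  · obtain ⟨h1, h2⟩ := natDegree_wronskian_le_of_lt hF h hW
    exact ⟨h1, fun he => ⟨F, Submodule.subset_span (by simp), h2 he⟩⟩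
  · have hF0 : F ≠ 0 := by rintro rfl; simp at hW
    have hG0 : G ≠ 0 := by rintro rfl; simp at hW
    have hlF : F.leadingCoeff ≠ 0 := leadingCoeff_ne_zero.mpr hF0
    set c := G.leadingCoeff / F.leadingCoeff with hc
    have hc0 : c ≠ 0 := div_ne_zero (leadingCoeff_ne_zero.mpr hG0) hlF
    set G' := G - C c * F with hG'
    have hW' : wronskian F G' = wronskian F G := by
      simp only [hG', wronskian, derivative_sub, derivative_mul, derivative_C]; ring
    have hG'0 : G' ≠ 0 := by
      intro h0; rw [h0] at hW'; simp at hW'; exact hW hW'.symm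
    have hlt : G'.natDegree < F.natDegree := by
      have hd : G.degree = (C c * F).degree := by
        rw [degree_C_mul hc0, degree_eq_natDegree hF0, degree_eq_natDegree hG0, h]
      have hlc : G.leadingCoeff = (C c * F).leadingCoeff := by
        rw [leadingCoeff_mul, leadingCoeff_C, hc, div_mul_cancel₀ _ hlF]
      have h3 := degree_sub_lt hd hG0 hlc
      rw [← hG', degree_eq_natDegree hG'0, degree_eq_natDegree hG0, Nat.cast_lt] at h3
      omega
    obtain ⟨h1, h2⟩ := natDegree_wronskian_le_of_lt hF hlt (hW' ▸ hW)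
    rw [hW'] at h1 h2
    exact ⟨h1, fun he => ⟨F, Submodule.subset_span (by simp), h2 he⟩⟩
  · have hW2 : wronskian G F ≠ 0 := by
      rw [← wronskian_neg_eq]; simpa using hW
    obtain ⟨h1, h2⟩ := natDegree_wronskian_le_of_lt hG h hW2
    rw [← wronskian_neg_eq, natDegree_neg] at h1 h2
    exact ⟨h1, fun he => ⟨G, Submodule.subset_span (by simp), h2 he⟩⟩

/-- A polynomial with vanishing derivative and degree below the characteristic is constant. -/
theorem eq_C_of_derivative_eq_zero {p : ℕ} [CharP k p] {f : k[X]} (hf : derivative f = 0)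
    (hp : p = 0 ∨ f.natDegree < p) : f = C (f.coeff 0) := by
  ext n
  rcases n with _ | m
  · simp
  · rw [coeff_C_succ]
    have h1 : (derivative f).coeff m = 0 := by rw [hf]; simp
    rw [coeff_derivative] at h1
    rcases mul_eq_zero.mp h1 with h2 | h2
    · exact h2
    · by_cases hm : f.natDegree < m + 1
      · exact coeff_eq_zero_of_natDegree_lt hm
      · exfalso
        have h3 : ((m + 1 : ℕ) : k) = 0 := by push_cast; exact h2
        rw [CharP.cast_eq_zero_iff k p] at h3
        rcases hp with hp | hp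
        · subst hp; simp at h3
        · have := Nat.le_of_dvd (Nat.succ_pos m) h3
          omega

/-- In characteristic `0` or `> d`, linearly independent polynomials of degree `≤ d` have
non-zero Wronskian. -/
theorem wronskian_ne_zero_of_linearIndependent {p : ℕ} [CharP k p] {d : ℕ} (hp : p = 0 ∨ d < p)
    {F G : k[X]} (hF : F.natDegree ≤ d) (hG : G.natDegree ≤ d)
    (hli : LinearIndependent k ![F, G]) : wronskian F G ≠ 0 := by
  intro hW
  rw [LinearIndependent.pair_iff] at hli
  have hG0 : G ≠ 0 := by
    rintro rfl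
    have := hli 0 1 (by simp)
    simp at this
  have hF0 : F ≠ 0 := by
    rintro rfl
    have := hli 1 0 (by simp)
    simp at this
  classical
  letI := EuclideanDomain.gcdMonoid k[X]
  set g := GCDMonoid.gcd F G with hg
  have hg0 : g ≠ 0 := gcd_ne_zero_of_right hG0
  have hco : IsCoprime (F / g) (G / g) := isCoprime_div_gcd_div_gcd hG0
  have hFe : F = g * (F / g) :=
    (EuclideanDomain.mul_div_cancel' hg0 (GCDMonoid.gcd_dvd_left F G)).symm
  have hGe : G = g * (G / g) :=
    (EuclideanDomain.mul_div_cancel' hg0 (GCDMonoid.gcd_dvd_right F G)).symm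
  set F₀ := F / g
  set G₀ := G / g
  have hW0 : wronskian F₀ G₀ = 0 := by
    have : wronskian F G = g ^ 2 * wronskian F₀ G₀ := by
      rw [hFe, hGe]
      simp only [wronskian, derivative_mul]; ring
    rw [this] at hW
    rcases mul_eq_zero.mp hW with h | h
    · exact absurd (pow_eq_zero_iff two_ne_zero |>.mp h) hg0
    · exact h
  obtain ⟨hdF, hdG⟩ := hco.wronskian_eq_zero_iff.mp hW0
  have hF₀0 : F₀ ≠ 0 := by rintro h; rw [h, mul_zero] at hFe; exact hF0 hFe
  have hG₀0 : G₀ ≠ 0 := by rintro h; rw [h, mul_zero] at hGe; exact hG0 hGe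
  have hnF : F₀.natDegree ≤ d := by
    have : F₀.natDegree ≤ F.natDegree := natDegree_le_of_dvd ⟨g, by rw [hFe]; ring_nf⟩ hF0
    omega
  have hnG : G₀.natDegree ≤ d := by
    have : G₀.natDegree ≤ G.natDegree := natDegree_le_of_dvd ⟨g, by rw [hGe]; ring_nf⟩ hG0
    omega
  have hFc := eq_C_of_derivative_eq_zero (p := p) hdF (by rcases hp with h | h; exact Or.inl h; exact Or.inr (by omega))
  have hGc := eq_C_of_derivative_eq_zero (p := p) hdG (by rcases hp with h | h; exact Or.inl h; exact Or.inr (by omega))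
  have hrel : (G₀.coeff 0) • F + (-(F₀.coeff 0)) • G = 0 := by
    rw [hFe, hGe, hFc, hGc]
    simp only [smul_eq_C_mul, coeff_C_zero, C_neg]
    ring
  obtain ⟨h1, h2⟩ := hli _ _ hrel
  rw [h1] at hGc
  exact hG₀0 (by rw [hGc]; simp)

end Groth.Agent.Lib.LeadW3
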