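import Mathlib
import Groth.Prelude.Def_W4c1limliniiiiRamP1
import Groth.Agent.Lib.LeadW3a

/-!
# Three-point Schubert intersection for pencils of polynomials (lead)

For three distinct points `P i` and indices `e i ≤ d` with `∑ e i = 2d + 1`, the two-dimensional
spaces `V` of polynomials of degree `≤ d` containing a non-zero member vanishing to order `e i` at
`P i` correspond to "relation triples" `t 0 + t 1 + t 2 = 0` with `(X - P i) ^ e i ∣ t i`.
-/

namespace Groth.Agent.Lib.LeadW3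

open Polynomial

variable {k : Type*} [Field k]

structure Adm (d : ℕ) (e : Fin 3 → ℕ) : Prop where
  two_le : ∀ i, 2 ≤ e i
  le : ∀ i, e i ≤ d
  sum : e 0 + e 1 + e 2 = 2 * d + 1

theorem Adm.pair {d : ℕ} {e : Fin 3 → ℕ} (h : Adm d e) : ∀ i j, i ≠ j → d < e i + e j := by
  intro i j hij
  have := h.sum; have h0 := h.le 0; have h1 := h.le 1; have h2 := h.le 2
  fin_cases i <;> fin_cases j <;> simp at hij ⊢ <;> omega

theorem Adm.sum_eq {d : ℕ} {e : Fin 3 → ℕ} (h : Adm d e) : ∑ i, e i = 2 * d + 1 := by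
  rw [Fin.sum_univ_three]; exact h.sum

theorem Adm.sum_pred {d : ℕ} {e : Fin 3 → ℕ} (h : Adm d e) : ∑ i, (e i - 1) + 2 = 2 * d := by
  rw [Fin.sum_univ_three]
  have := h.sum; have h0 := h.two_le 0; have h1 := h.two_le 1; have h2 := h.two_le 2
  omega

theorem adm_of_admissible {p d : ℕ} {e : Fin 3 → ℕ} (h : W4c1limliniiii.Admissible p d e) :
    Adm d e :=
  ⟨fun i => (h.1 i).1, fun i => (h.1 i).2.1, by
    have := h.2; simp only [Fin.sum_univ_three] at this; omega⟩

/-- Relation triples. -/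
structure Rel (d : ℕ) (P : Fin 3 → k) (e : Fin 3 → ℕ) (t : Fin 3 → k[X]) : Prop where
  deg : ∀ i, (t i).natDegree ≤ d
  ne : ∀ i, t i ≠ 0
  dvd : ∀ i, (X - C (P i)) ^ e i ∣ t i
  sum : t 0 + t 1 + t 2 = 0

/-- Membership in the three-point Schubert intersection. -/
def InFam (d : ℕ) (P : Fin 3 → k) (e : Fin 3 → ℕ) (V : Submodule k k[X]) : Prop :=
  V ≤ degreeLE k d ∧ Module.finrank k V = 2 ∧
    ∀ i, ∃ s ∈ V, s ≠ 0 ∧ e i ≤ rootMultiplicity (P i) s

theorem linearIndependent_pair {d : ℕ} {a b : k} (hab : a ≠ b) {m n : ℕ} (hmn : d < m + n)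
    {s t : k[X]} (hs : s.natDegree ≤ d) (ht0 : t ≠ 0) (hs0 : s ≠ 0)
    (hsd : (X - C a) ^ m ∣ s) (htd : (X - C b) ^ n ∣ t) : LinearIndependent k ![s, t] := by
  rw [LinearIndependent.pair_iff]
  intro α β h
  have hα : α = 0 := by
    by_contra hα
    have h' : α • s = -(β • t) := eq_neg_of_add_eq_zero_left h
    have hs' : s = C (-(α⁻¹ * β)) * t := by
      calc s = α⁻¹ • (α • s) := by rw [smul_smul, inv_mul_cancel₀ hα, one_smul]
        _ = _ := by rw [h', smul_neg, smul_smul, ← neg_smul, smul_eq_C_mul]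
    have h2 : (X - C b) ^ n ∣ s := by rw [hs']; exact htd.mul_left _
    exact hs0 (eq_zero_of_two hab hsd h2 (by omega))
  subst hα
  simp only [zero_smul, zero_add, smul_eq_zero] at h
  exact ⟨rfl, h.resolve_right ht0⟩

theorem Rel.indep {d : ℕ} {P : Fin 3 → k} {e : Fin 3 → ℕ} {t : Fin 3 → k[X]}
    (ht : Rel d P e t) (hP : Function.Injective P) (he : Adm d e) {i j : Fin 3} (hij : i ≠ j) :
    LinearIndependent k ![t i, t j] :=
  linearIndependent_pair (hP.ne hij) (he.pair i j hij) (ht.deg i) (ht.ne j) (ht.ne i)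
    (ht.dvd i) (ht.dvd j)

/-- Three pairwise independent vectors in a plane satisfy a relation with non-zero coefficients. -/
theorem exists_rel_of_plane {V : Submodule k k[X]} (hV : Module.finrank k V = 2)
    {s : Fin 3 → k[X]} (hs : ∀ i, s i ∈ V)
    (hind : ∀ i j, i ≠ j → LinearIndependent k ![s i, s j]) :
    ∃ a : Fin 3 → k, (∀ i, a i ≠ 0) ∧ a 0 • s 0 + a 1 • s 1 + a 2 • s 2 = 0 := by
  haveI : Module.Finite k V := Module.finite_of_finrank_pos (by omega)
  have hnot : ¬ LinearIndependent k (fun i => (⟨s i, hs i⟩ : V)) := by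
    intro hli
    have := hli.fintype_card_le_finrank
    rw [hV] at this
    simp at this
  rw [Fintype.not_linearIndependent_iff] at hnot
  obtain ⟨g, hg, i₀, hi₀⟩ := hnot
  have hg' : g 0 • s 0 + g 1 • s 1 + g 2 • s 2 = 0 := by
    have := congrArg V.subtype hg
    simpa [Fin.sum_univ_three] using this
  have h01 := LinearIndependent.pair_iff.mp (hind 0 1 (by decide))
  have h02 := LinearIndependent.pair_iff.mp (hind 0 2 (by decide))
  have h12 := LinearIndependent.pair_iff.mp (hind 1 2 (by decide))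
  refine ⟨g, ?_, hg'⟩
  intro l hl
  fin_cases l
  · have hl' : g 0 = 0 := hl
    rw [hl', zero_smul, zero_add] at hg'
    obtain ⟨h1, h2⟩ := h12 _ _ hg'
    have hall : ∀ i, g i = 0 := by
      intro i; fin_cases i
      exacts [hl', h1, h2]
    exact hi₀ (hall i₀)
  · have hl' : g 1 = 0 := hl
    rw [hl', zero_smul, add_zero] at hg'
    obtain ⟨h1, h2⟩ := h02 _ _ hg'
    have hall : ∀ i, g i = 0 := by
      intro i; fin_cases i
      exacts [h1, hl', h2]
    exact hi₀ (hall i₀)
  · have hl' : g 2 = 0 := hl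
    rw [hl', zero_smul, add_zero] at hg'
    obtain ⟨h1, h2⟩ := h01 _ _ hg'
    have hall : ∀ i, g i = 0 := by
      intro i; fin_cases i
      exacts [h1, h2, hl']
    exact hi₀ (hall i₀)

theorem span_pair_eq_of_indep {V : Submodule k k[X]} (hV : Module.finrank k V = 2) {x y : k[X]}
    (hx : x ∈ V) (hy : y ∈ V) (hli : LinearIndependent k ![x, y]) :
    Submodule.span k {x, y} = V := by
  haveI : Module.Finite k V := Module.finite_of_finrank_pos (by omega)
  refine Submodule.eq_of_le_of_finrank_eq ?_ ?_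
  · rw [Submodule.span_le]
    intro z hz
    rcases hz with rfl | rfl
    · exact hx
    · exact hy
  · rw [hV, ← Matrix.range_cons_cons_empty x y ![], finrank_span_eq_card hli]
    simp

theorem finrank_span_pair {x y : k[X]} (hli : LinearIndependent k ![x, y]) :
    Module.finrank k (Submodule.span k {x, y}) = 2 := by
  rw [← Matrix.range_cons_cons_empty x y ![], finrank_span_eq_card hli]
  simp

theorem exists_rel_of_inFam {d : ℕ} {P : Fin 3 → k} {e : Fin 3 → ℕ} (hP : Function.Injective P)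
    (he : Adm d e) {V : Submodule k k[X]} (hV : InFam d P e V) :
    ∃ t : Fin 3 → k[X], Rel d P e t ∧ (∀ i, t i ∈ V) ∧ Submodule.span k {t 0, t 1} = V := by
  obtain ⟨hle, hfr, hex⟩ := hV
  choose s hsV hs0 hsm using hex
  have hsdeg : ∀ i, (s i).natDegree ≤ d := fun i =>
    natDegree_le_of_degree_le (mem_degreeLE.mp (hle (hsV i)))
  have hsd : ∀ i, (X - C (P i)) ^ e i ∣ s i := fun i =>
    (le_rootMultiplicity_iff (hs0 i)).mp (hsm i)
  have hind : ∀ i j, i ≠ j → LinearIndependent k ![s i, s j] := fun i j hij =>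
    linearIndependent_pair (hP.ne hij) (he.pair i j hij) (hsdeg i) (hs0 j) (hs0 i) (hsd i) (hsd j)
  obtain ⟨a, ha, hrel⟩ := exists_rel_of_plane hfr hsV hind
  have hR : Rel d P e (fun i => a i • s i) :=
    { deg := fun i => (natDegree_smul_le _ _).trans (hsdeg i)
      ne := fun i => smul_ne_zero (ha i) (hs0 i)
      dvd := fun i => by rw [smul_eq_C_mul]; exact (hsd i).mul_left _
      sum := hrel }
  refine ⟨fun i => a i • s i, hR, fun i => V.smul_mem _ (hsV i), ?_⟩
  exact span_pair_eq_of_indep hfr (V.smul_mem _ (hsV 0)) (V.smul_mem _ (hsV 1))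
    (hR.indep hP he (by decide))

theorem Rel.mem_span {d : ℕ} {P : Fin 3 → k} {e : Fin 3 → ℕ} {t : Fin 3 → k[X]}
    (ht : Rel d P e t) (i : Fin 3) : t i ∈ Submodule.span k {t 0, t 1} := by
  have h0 : t 0 ∈ Submodule.span k {t 0, t 1} := Submodule.subset_span (by simp)
  have h1 : t 1 ∈ Submodule.span k {t 0, t 1} := Submodule.subset_span (by simp)
  fin_cases i
  · exact h0
  · exact h1
  · have : t 2 = -(t 0 + t 1) := by
      have := ht.sum
      exact eq_neg_of_add_eq_zero_right this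
    show t 2 ∈ _
    rw [this]
    exact Submodule.neg_mem _ (Submodule.add_mem _ h0 h1)

theorem Rel.inFam {d : ℕ} {P : Fin 3 → k} {e : Fin 3 → ℕ} {t : Fin 3 → k[X]}
    (ht : Rel d P e t) (hP : Function.Injective P) (he : Adm d e) :
    InFam d P e (Submodule.span k {t 0, t 1}) := by
  refine ⟨?_, finrank_span_pair (ht.indep hP he (by decide)), fun i => ?_⟩
  · rw [Submodule.span_le]
    intro z hz
    rcases hz with rfl | rfl
    · exact mem_degreeLE.mpr (degree_le_of_natDegree_le (ht.deg 0))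
    · exact mem_degreeLE.mpr (degree_le_of_natDegree_le (ht.deg 1))
  · exact ⟨t i, ht.mem_span i, ht.ne i, (le_rootMultiplicity_iff (ht.ne i)).mpr (ht.dvd i)⟩

/-- A base-point-free member of degree exactly `d` is the only member of the family. -/
theorem eq_of_bpf [IsAlgClosed k] {d : ℕ} {P : Fin 3 → k} {e : Fin 3 → ℕ}
    (hP : Function.Injective P) (he : Adm d e) {V V' : Submodule k k[X]} (hV : InFam d P e V)
    (hV' : InFam d P e V') (hbpf : ∀ a : k, ∃ s ∈ V, s.eval a ≠ 0)
    (hdeg : ∃ s ∈ V, s.natDegree = d) : V' = V := by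
  obtain ⟨t, ht, htV, hVt⟩ := exists_rel_of_inFam hP he hV
  obtain ⟨t', ht', htV', hVt'⟩ := exists_rel_of_inFam hP he hV'
  have hN : t' 0 * t 1 - t 0 * t' 1 = 0 := by
    refine eq_zero_of_pow_dvd hP e ?_ ?_
    · intro i
      fin_cases i
      · exact dvd_sub ((ht'.dvd 0).mul_right _) ((ht.dvd 0).mul_right _)
      · exact dvd_sub ((ht.dvd 1).mul_left _) ((ht'.dvd 1).mul_left _)
      · have : t' 0 * t 1 - t 0 * t' 1 = t 0 * t' 2 - t' 0 * t 2 := by
          linear_combination (t' 0) * ht.sum - (t 0) * ht'.sum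
        rw [this]
        exact dvd_sub ((ht'.dvd 2).mul_left _) ((ht.dvd 2).mul_left _)
    · rw [he.sum_eq]
      have h1 : (t' 0 * t 1).natDegree ≤ 2 * d :=
        natDegree_mul_le.trans (by have := ht'.deg 0; have := ht.deg 1; omega)
      have h2 : (t 0 * t' 1).natDegree ≤ 2 * d :=
        natDegree_mul_le.trans (by have := ht.deg 0; have := ht'.deg 1; omega)
      have := natDegree_sub_le (t' 0 * t 1) (t 0 * t' 1)
      omega
  have hN' : t' 0 * t 1 = t 0 * t' 1 := sub_eq_zero.mp hN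
  have hco : IsCoprime (t 0) (t 1) := by
    refine (isCoprime_iff_aeval_ne_zero_of_isAlgClosed k k (t 0) (t 1)).mpr ?_
    intro a
    by_contra h
    push_neg at h
    obtain ⟨s, hsV, hsa⟩ := hbpf a
    rw [← hVt, Submodule.mem_span_pair] at hsV
    obtain ⟨α, β, rfl⟩ := hsV
    apply hsa
    have h1 : (t 0).eval a = 0 := by simpa [aeval_def] using h.1
    have h2 : (t 1).eval a = 0 := by simpa [aeval_def] using h.2
    simp [h1, h2]
  have hdvd : t 0 ∣ t' 0 := hco.dvd_of_dvd_mul_right (by rw [hN']; exact dvd_mul_right _ _)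
  obtain ⟨h, hh⟩ := hdvd
  have hh1 : t' 1 = h * t 1 := by
    have : t 0 * t' 1 = t 0 * (h * t 1) := by rw [← hN', hh]; ring
    exact mul_left_cancel₀ (ht.ne 0) this
  have hh0 : h ≠ 0 := by
    rintro rfl
    exact ht'.ne 0 (by rw [hh, mul_zero])
  obtain ⟨u, huV, hud⟩ := hdeg
  have hd2 : 2 ≤ d := (he.two_le 0).trans (he.le 0)
  have hu0 : u ≠ 0 := by
    rintro rfl
    simp at hud; omega
  have hhu : h * u ∈ V' := by
    rw [← hVt, Submodule.mem_span_pair] at huV
    obtain ⟨α, β, rfl⟩ := huV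
    have : h * (α • t 0 + β • t 1) = α • t' 0 + β • t' 1 := by
      rw [hh, hh1]; simp only [smul_eq_C_mul]; ring
    rw [this]
    exact V'.add_mem (V'.smul_mem _ (htV' 0)) (V'.smul_mem _ (htV' 1))
  have hdh : h.natDegree = 0 := by
    have h1 : (h * u).natDegree ≤ d := natDegree_le_of_degree_le (mem_degreeLE.mp (hV'.1 hhu))
    rw [natDegree_mul hh0 hu0] at h1
    omega
  obtain ⟨c, rfl⟩ : ∃ c, h = C c := ⟨_, eq_C_of_natDegree_eq_zero hdh⟩
  haveI : Module.Finite k V := Module.finite_of_finrank_pos (by rw [hV.2.1]; omega)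
  refine Submodule.eq_of_le_of_finrank_eq ?_ (by rw [hV.2.1, hV'.2.1])
  rw [← hVt', Submodule.span_le]
  intro z hz
  rcases hz with rfl | rfl
  · rw [hh, mul_comm, ← smul_eq_C_mul]; exact V.smul_mem _ (htV 0)
  · rw [hh1, ← smul_eq_C_mul]; exact V.smul_mem _ (htV 1)

end Groth.Agent.Lib.LeadW3
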