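import Mathlib
import Groth.Prelude.Def_W4c1limliniiiiRamP1
import Groth.Agent.Lib.LeadW3b

/-!
# Three-point pencils: existence of relation triples, and separable members are `ramMaps` (lead)
-/

namespace Groth.Agent.Lib.LeadW3

open Polynomial

variable {k : Type*} [Field k]

theorem both_zero {d : ℕ} {a b : k} (hab : a ≠ b) {m n : ℕ} (hmn : d < m + n) {x y : k[X]}
    (hx : x.natDegree ≤ d) (hxy : x + y = 0) (hxd : (X - C a) ^ m ∣ x)
    (hyd : (X - C b) ^ n ∣ y) : x = 0 ∧ y = 0 := by
  have hx' : x = -y := eq_neg_of_add_eq_zero_left hxy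
  have h2 : (X - C b) ^ n ∣ x := by rw [hx']; exact (dvd_neg).mpr hyd
  have hx0 : x = 0 := eq_zero_of_two hab hxd h2 (by omega)
  refine ⟨hx0, ?_⟩
  rw [hx0, zero_add] at hxy; exact hxy

theorem Rel.of_exists_ne {d : ℕ} {P : Fin 3 → k} {e : Fin 3 → ℕ} (hP : Function.Injective P)
    (he : Adm d e) {t : Fin 3 → k[X]} (hdeg : ∀ i, natDegree (t i) ≤ d)
    (hdvd : ∀ i, (X - C (P i)) ^ e i ∣ t i) (hsum : t 0 + t 1 + t 2 = 0)
    (hne : ∃ i, t i ≠ 0) : Rel d P e t := by
  refine ⟨hdeg, ?_, hdvd, hsum⟩
  intro l hl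
  obtain ⟨i₀, hi₀⟩ := hne
  apply hi₀
  have hall : ∀ i, t i = 0 := by
    fin_cases l
    · have hl' : t 0 = 0 := hl
      rw [hl', zero_add] at hsum
      obtain ⟨h1, h2⟩ := both_zero (hP.ne (by decide : (1 : Fin 3) ≠ 2))
        (he.pair 1 2 (by decide)) (hdeg 1) hsum (hdvd 1) (hdvd 2)
      intro i; fin_cases i
      exacts [hl', h1, h2]
    · have hl' : t 1 = 0 := hl
      rw [hl', add_zero] at hsum
      obtain ⟨h1, h2⟩ := both_zero (hP.ne (by decide : (0 : Fin 3) ≠ 2))
        (he.pair 0 2 (by decide)) (hdeg 0) hsum (hdvd 0) (hdvd 2)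
      intro i; fin_cases i
      exacts [h1, hl', h2]
    · have hl' : t 2 = 0 := hl
      rw [hl', add_zero] at hsum
      obtain ⟨h1, h2⟩ := both_zero (hP.ne (by decide : (0 : Fin 3) ≠ 1))
        (he.pair 0 1 (by decide)) (hdeg 0) hsum (hdvd 0) (hdvd 1)
      intro i; fin_cases i
      exacts [h1, h2, hl']
  exact hall i₀

/-- Dimension count: a relation triple exists. -/
theorem exists_rel {d : ℕ} {P : Fin 3 → k} {e : Fin 3 → ℕ} (hP : Function.Injective P)
    (he : Adm d e) : ∃ t : Fin 3 → k[X], Rel d P e t := by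
  classical
  let n : Fin 3 → ℕ := fun i => d - e i + 1
  let Ψ : (∀ i, degreeLT k (n i)) →ₗ[k] k[X] :=
    ∑ i, (LinearMap.mulLeft k ((X - C (P i)) ^ e i)) ∘ₗ (degreeLT k (n i)).subtype ∘ₗ
      (LinearMap.proj i)
  have hΨ : ∀ u, Ψ u = ∑ i, (X - C (P i)) ^ e i * (u i : k[X]) := by
    intro u; simp [Ψ, LinearMap.sum_apply]
  have hfin : ∀ i, Module.finrank k (degreeLT k (n i)) = n i := fun i => by
    rw [(degreeLTEquiv k (n i)).finrank_eq, Module.finrank_fin_fun]
  have hdom : Module.finrank k (∀ i, degreeLT k (n i)) = d + 2 := by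
    rw [Module.finrank_pi_fintype]
    simp only [hfin]
    rw [Fin.sum_univ_three]
    have := he.sum; have := he.le 0; have := he.le 1; have := he.le 2
    simp only [n]; omega
  have hmem : ∀ (u : ∀ i, degreeLT k (n i)) i,
      ((X - C (P i)) ^ e i * (u i : k[X])).natDegree ≤ d := by
    intro u i
    have h1 : (u i : k[X]) ∈ degreeLE k (d - e i) := by
      rw [← degreeLT_succ_eq_degreeLE]; exact (u i).2
    have h2 : (u i : k[X]).natDegree ≤ d - e i :=
      natDegree_le_of_degree_le (mem_degreeLE.mp h1)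
    have h3 : ((X - C (P i)) ^ e i).natDegree = e i := by
      rw [(monic_X_sub_C _).natDegree_pow, natDegree_X_sub_C, mul_one]
    have := he.le i
    have := natDegree_mul_le (p := (X - C (P i)) ^ e i) (q := (u i : k[X]))
    omega
  have hrange : LinearMap.range Ψ ≤ degreeLT k (d + 1) := by
    rintro _ ⟨u, rfl⟩
    rw [hΨ, degreeLT_succ_eq_degreeLE]
    exact Submodule.sum_mem _ fun i _ =>
      mem_degreeLE.mpr (degree_le_of_natDegree_le (hmem u i))
  have hr : Module.finrank k (LinearMap.range Ψ) ≤ d + 1 := by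
    have := Submodule.finrank_mono hrange
    rwa [(degreeLTEquiv k (d + 1)).finrank_eq, Module.finrank_fin_fun] at this
  have hk := LinearMap.finrank_range_add_finrank_ker Ψ
  have hker : LinearMap.ker Ψ ≠ ⊥ := by
    intro h; rw [h, finrank_bot] at hk; omega
  obtain ⟨u, hu, hu0⟩ := Submodule.exists_mem_ne_zero_of_ne_bot hker
  refine ⟨fun i => (X - C (P i)) ^ e i * (u i : k[X]),
    Rel.of_exists_ne hP he (hmem u) (fun i => dvd_mul_right _ _) ?_ ?_⟩
  · have := hΨ u
    rw [LinearMap.mem_ker.mp hu, Fin.sum_univ_three] at this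
    exact this.symm
  · by_contra hall
    push_neg at hall
    apply hu0
    funext i
    rcases mul_eq_zero.mp (hall i) with h | h
    · exact absurd h (pow_ne_zero _ (X_sub_C_ne_zero _))
    · exact Subtype.ext h

/-- The family is non-empty. -/
theorem exists_inFam {d : ℕ} {P : Fin 3 → k} {e : Fin 3 → ℕ} (hP : Function.Injective P)
    (he : Adm d e) : ∃ t : Fin 3 → k[X], Rel d P e t ∧
      InFam d P e (Submodule.span k {t 0, t 1}) := by
  obtain ⟨t, ht⟩ := exists_rel hP he
  exact ⟨t, ht, ht.inFam hP he⟩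

/-- A member of the family with non-zero Wronskian is a separable base-point-free pencil of
degree `d` with ramification exactly `e i` at `P i`. -/
theorem Rel.mem_ramMaps {d : ℕ} {P : Fin 3 → k} {e : Fin 3 → ℕ} {t : Fin 3 → k[X]}
    (ht : Rel d P e t) (hP : Function.Injective P) (he : Adm d e)
    (hW : wronskian (t 0) (t 1) ≠ 0) :
    Submodule.span k {t 0, t 1} ∈ W4c1limliniiii.ramMaps d P e := by
  have hW12 : wronskian (t 1) (t 2) = wronskian (t 0) (t 1) :=
    (wronskian_eq_of_sum_zero ht.sum).symm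
  have hW20 : wronskian (t 2) (t 0) = wronskian (t 0) (t 1) := by
    have : t 1 + t 2 + t 0 = 0 := by rw [← ht.sum]; ring
    rw [← wronskian_eq_of_sum_zero this, hW12]
  let nxt : Fin 3 → Fin 3 := ![1, 2, 0]
  have hcyc : ∀ i, wronskian (t i) (t (nxt i)) = wronskian (t 0) (t 1) := by
    intro i; fin_cases i
    · rfl
    · exact hW12
    · exact hW20
  have step1 : ∀ i, (X - C (P i)) ^ (e i - 1) ∣ wronskian (t 0) (t 1) := by
    intro i
    have := pow_dvd_wronskian (m := e i) (n := 0) (ht.dvd i)
      (by simp : (X - C (P i)) ^ 0 ∣ t (nxt i))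
    rwa [hcyc i, add_zero] at this
  obtain ⟨step2a, step2b⟩ := natDegree_wronskian_le (ht.deg 0) (ht.deg 1) hW
  have excess : ∀ i, ¬ (X - C (P i)) ^ (e i) ∣ wronskian (t 0) (t 1) := by
    intro i hi
    apply hW
    refine eq_zero_of_pow_dvd hP (fun j => (e j - 1) + (if j = i then 1 else 0)) ?_ ?_
    · intro j
      by_cases hj : j = i
      · subst hj
        simp only [if_true]
        rw [Nat.sub_add_cancel (by have := he.two_le j; omega)]
        exact hi
      · simp only [hj, if_false, add_zero]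
        exact step1 j
    · rw [Finset.sum_add_distrib]
      simp only [Finset.sum_ite_eq', Finset.mem_univ, if_true]
      have := he.sum_pred
      omega
  have step3 : (wronskian (t 0) (t 1)).natDegree + 2 = 2 * d := by
    by_contra hne
    apply hW
    refine eq_zero_of_pow_dvd hP (fun j => e j - 1) step1 ?_
    have := he.sum_pred
    omega
  have hfam := ht.inFam hP he
  refine ⟨⟨hfam.1, hfam.2.1, step2b step3, ?_⟩,
    ⟨t 0, ht.mem_span 0, t 1, ht.mem_span 1, hW⟩, fun i => ⟨hfam.2.2 i, ?_⟩⟩
  · -- base-point-free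
    intro a
    by_contra hall
    push_neg at hall
    have hroot : ∀ j, (X - C a) ^ 1 ∣ t j := fun j => by
      rw [pow_one, dvd_iff_isRoot]; exact hall _ (ht.mem_span j)
    by_cases ha : ∃ i, P i = a
    · obtain ⟨i, rfl⟩ := ha
      have := pow_dvd_wronskian (ht.dvd i) (hroot (nxt i))
      rw [hcyc i, Nat.add_sub_cancel] at this
      exact excess i this
    · push_neg at ha
      apply hW
      have h1 := pow_dvd_wronskian (hroot 0) (hroot 1)
      refine eq_zero_of_pow_dvd (ι := Option (Fin 3)) (P := fun o => o.elim a P) ?_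
        (fun o => o.elim 1 (fun j => e j - 1)) ?_ ?_
      · intro o o' h
        cases o <;> cases o' <;> simp only [Option.elim] at h ⊢
        · exact absurd h.symm (ha _)
        · exact absurd h (ha _)
        · rw [hP h]
      · intro o
        cases o
        · simpa using h1
        · exact step1 _
      · rw [Fintype.sum_option]
        simp only [Option.elim]
        have := he.sum_pred
        omega
  · -- exact ramification
    intro s hsV hs0
    by_contra hlt
    push_neg at hlt
    have hsd : (X - C (P i)) ^ (e i + 1) ∣ s := (le_rootMultiplicity_iff hs0).mp hlt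
    rw [Submodule.mem_span_pair] at hsV
    obtain ⟨α, β, rfl⟩ := hsV
    by_cases hα : α = 0
    · have hβ : β ≠ 0 := by
        rintro rfl
        simp [hα] at hs0
      have h1 : wronskian (t 0) (α • t 0 + β • t 1) = C β * wronskian (t 0) (t 1) := by
        simp only [wronskian, smul_eq_C_mul, derivative_add, derivative_mul, derivative_C]; ring
      have h2 := pow_dvd_wronskian (F := t 0) (m := 0) (n := e i + 1) (by simp) hsd
      rw [h1] at h2
      have h4 : (X - C (P i)) ^ e i ∣ wronskian (t 0) (t 1) := by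
        have h3 : wronskian (t 0) (t 1) = C β⁻¹ * (C β * wronskian (t 0) (t 1)) := by
          rw [← mul_assoc, ← C_mul, inv_mul_cancel₀ hβ, C_1, one_mul]
        rw [h3]
        exact Dvd.dvd.mul_left (by simpa using h2) _
      exact excess i h4
    · have h1 : wronskian (α • t 0 + β • t 1) (t 1) = C α * wronskian (t 0) (t 1) := by
        simp only [wronskian, smul_eq_C_mul, derivative_add, derivative_mul, derivative_C]; ring
      have h2 := pow_dvd_wronskian (G := t 1) (m := e i + 1) (n := 0) hsd (by simp)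
      rw [h1] at h2
      have h4 : (X - C (P i)) ^ e i ∣ wronskian (t 0) (t 1) := by
        have h3 : wronskian (t 0) (t 1) = C α⁻¹ * (C α * wronskian (t 0) (t 1)) := by
          rw [← mul_assoc, ← C_mul, inv_mul_cancel₀ hα, C_1, one_mul]
        rw [h3]
        exact Dvd.dvd.mul_left (by simpa using h2) _
      exact excess i h4

end Groth.Agent.Lib.LeadW3
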