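import Mathlib
import Groth.Prelude.Def_W4c1limliniiiiRamP1
import Groth.Agent.Lib.LeadW3c

/-!
# Three-point `ramMaps`: uniqueness, emptiness criterion, and the count (lead)
-/

namespace Groth.Agent.Lib.LeadW3

open Polynomial W4c1limliniiii

variable {k : Type*} [Field k]

theorem inFam_of_mem_ramMaps {d : ℕ} {P : Fin 3 → k} {e : Fin 3 → ℕ} {V : Submodule k k[X]}
    (h : V ∈ ramMaps d P e) : InFam d P e V :=
  ⟨h.1.1, h.1.2.1, fun i => (h.2.2 i).1⟩

theorem ramMaps_subsingleton [IsAlgClosed k] {d : ℕ} {P : Fin 3 → k} {e : Fin 3 → ℕ}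
    (hP : Function.Injective P) (he : Adm d e) : (ramMaps d P e).Subsingleton := by
  intro V hV V' hV'
  exact (eq_of_bpf hP he (inFam_of_mem_ramMaps hV) (inFam_of_mem_ramMaps hV')
    hV.1.2.2.2 hV.1.2.2.1).symm

theorem wronskian_span_pair {x y F G : k[X]} (hF : F ∈ Submodule.span k {x, y})
    (hG : G ∈ Submodule.span k {x, y}) (h0 : wronskian x y = 0) : wronskian F G = 0 := by
  rw [Submodule.mem_span_pair] at hF hG
  obtain ⟨a, b, rfl⟩ := hF
  obtain ⟨c, d', rfl⟩ := hG
  have : wronskian (a • x + b • y) (c • x + d' • y) = C (a * d' - b * c) * wronskian x y := by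
    simp only [wronskian, smul_eq_C_mul, derivative_add, derivative_mul, derivative_C, C_sub,
      C_mul]
    ring
  rw [this, h0, mul_zero]

theorem ramMaps_eq_empty_of_inseparable [IsAlgClosed k] {d : ℕ} {P : Fin 3 → k} {e : Fin 3 → ℕ}
    (hP : Function.Injective P) (he : Adm d e) {V₀ : Submodule k k[X]} (hV₀ : InFam d P e V₀)
    (hns : ¬ IsSeparable V₀) : ramMaps d P e = ∅ := by
  by_contra hne
  obtain ⟨V, hV⟩ := Set.nonempty_iff_ne_empty.mpr hne
  have : V₀ = V := eq_of_bpf hP he (inFam_of_mem_ramMaps hV) hV₀ hV.1.2.2.2 hV.1.2.2.1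
  subst this
  exact hns hV.2.1

theorem ramMaps_eq_empty_iff [IsAlgClosed k] {d : ℕ} {P : Fin 3 → k} {e : Fin 3 → ℕ}
    (hP : Function.Injective P) (he : Adm d e) :
    ramMaps d P e = ∅ ↔ ∃ V : Submodule k k[X], V ≤ degreeLE k d ∧ Module.finrank k V = 2 ∧
      ¬ IsSeparable V ∧ ∀ i, ∃ s ∈ V, s ≠ 0 ∧ e i ≤ rootMultiplicity (P i) s := by
  constructor
  · intro hempty
    obtain ⟨t, ht, hfam⟩ := exists_inFam hP he
    refine ⟨_, hfam.1, hfam.2.1, ?_, hfam.2.2⟩
    rintro ⟨F, hF, G, hG, hFG⟩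
    have hW : wronskian (t 0) (t 1) ≠ 0 := fun h0 => hFG (wronskian_span_pair hF hG h0)
    have := ht.mem_ramMaps hP he hW
    rw [hempty] at this
    exact this
  · rintro ⟨V₀, hle, hfr, hns, hex⟩
    exact ramMaps_eq_empty_of_inseparable hP he ⟨hle, hfr, hex⟩ hns

/-- In characteristic `0` or `> d` there is exactly one map. -/
theorem ramMaps_eq_singleton [IsAlgClosed k] {p : ℕ} [CharP k p] {d : ℕ} {P : Fin 3 → k}
    {e : Fin 3 → ℕ} (hP : Function.Injective P) (he : Adm d e) (hp : p = 0 ∨ d < p) :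
    ∃ V : Submodule k k[X], ramMaps d P e = {V} := by
  obtain ⟨t, ht, -⟩ := exists_inFam hP he
  have hW : wronskian (t 0) (t 1) ≠ 0 :=
    wronskian_ne_zero_of_linearIndependent hp (ht.deg 0) (ht.deg 1)
      (ht.indep hP he (by decide))
  exact ⟨_, (ramMaps_subsingleton hP he).eq_singleton_of_mem (ht.mem_ramMaps hP he hW)⟩

/-- The explicit inseparable pencil `h · ⟨1, X ^ p⟩`. -/
theorem ramMaps_eq_empty_of_lt [IsAlgClosed k] {p : ℕ} [CharP k p] {d : ℕ} {P : Fin 3 → k}
    {e : Fin 3 → ℕ} (hP : Function.Injective P) (he : Adm d e) (hp0 : p ≠ 0) (h0 : e 0 < p)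
    (h1 : e 1 < p) (hpd : p ≤ d) : ramMaps d P e = ∅ := by
  haveI : Fact p.Prime := ⟨CharP.char_prime_of_ne_zero k hp0⟩
  set h : k[X] := (X - C (P 2)) ^ (e 2 - p) with hh
  have hh0 : h ≠ 0 := pow_ne_zero _ (X_sub_C_ne_zero _)
  have hhd : h.natDegree = e 2 - p := by
    rw [hh, (monic_X_sub_C _).natDegree_pow, natDegree_X_sub_C, mul_one]
  have hXp : (X ^ p : k[X]) ≠ 0 := pow_ne_zero _ X_ne_zero
  have hli : LinearIndependent k ![h, h * X ^ p] := by
    rw [LinearIndependent.pair_iff]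
    intro a b hab
    have h2 : h * (C a + C b * X ^ p) = 0 := by
      rw [← hab]; simp only [smul_eq_C_mul]; ring
    have h3 : C a + C b * X ^ p = 0 := (mul_eq_zero.mp h2).resolve_left hh0
    have ha : a = 0 := by
      have := congrArg (fun f => coeff f 0) h3
      simpa [coeff_X_pow, hp0.symm] using this
    have hb : b = 0 := by
      have := congrArg (fun f => coeff f p) h3
      simpa [coeff_X_pow, coeff_C, hp0] using this
    exact ⟨ha, hb⟩
  set V₀ := Submodule.span k {h, h * X ^ p} with hV₀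
  have hpow : ∀ a : k, h * (X - C a) ^ p ∈ V₀ := by
    intro a
    have : h * (X - C a) ^ p = h * X ^ p + (-(a ^ p)) • h := by
      rw [sub_pow_char, ← C_pow, smul_eq_C_mul]; simp only [C_neg]; ring
    rw [this]
    exact V₀.add_mem (Submodule.subset_span (by simp))
      (V₀.smul_mem _ (Submodule.subset_span (by simp)))
  have hpow0 : ∀ a : k, h * (X - C a) ^ p ≠ 0 := fun a =>
    mul_ne_zero hh0 (pow_ne_zero _ (X_sub_C_ne_zero _))
  refine ramMaps_eq_empty_of_inseparable hP he (V₀ := V₀) ⟨?_, finrank_span_pair hli, ?_⟩ ?_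
  · rw [hV₀, Submodule.span_le]
    intro z hz
    have := he.le 2
    rcases hz with rfl | rfl
    · exact mem_degreeLE.mpr (degree_le_of_natDegree_le (by rw [hhd]; omega))
    · refine mem_degreeLE.mpr (degree_le_of_natDegree_le ?_)
      rw [natDegree_mul hh0 hXp, hhd, natDegree_X_pow]; omega
  · intro i
    have key : ∀ j : Fin 3, e j < p → ∃ s ∈ V₀, s ≠ 0 ∧ e j ≤ rootMultiplicity (P j) s := by
      intro j hj
      refine ⟨_, hpow (P j), hpow0 (P j), (le_rootMultiplicity_iff (hpow0 (P j))).mpr ?_⟩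
      exact ((pow_dvd_pow _ hj.le)).trans (dvd_mul_left _ _)
    fin_cases i
    · exact key 0 h0
    · exact key 1 h1
    · refine ⟨_, hpow (P 2), hpow0 (P 2), (le_rootMultiplicity_iff (hpow0 (P 2))).mpr ?_⟩
      show (X - C (P 2)) ^ e 2 ∣ h * (X - C (P 2)) ^ p
      rw [hh, ← pow_add]
      exact pow_dvd_pow _ (by omega)
  · rintro ⟨F, hF, G, hG, hFG⟩
    apply hFG
    refine wronskian_span_pair hF hG ?_
    have hp' : (p : k[X]) = 0 := by
      rw [← C_eq_natCast, CharP.cast_eq_zero k p, C_0]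
    simp only [wronskian, derivative_mul, derivative_X_pow, ← C_eq_natCast]
    rw [CharP.cast_eq_zero k p]
    simp only [C_0, zero_mul, mul_zero, add_zero]
    ring

end Groth.Agent.Lib.LeadW3
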