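import Mathlib
import Groth.Prelude.Def_W4c1limliniiiiRamP1
import Groth.Agent.Lib.LeadW3c

/-!
# The three-point Schubert intersection is a projective space (lead)
-/

namespace Groth.Agent.Lib.LeadW3

open Polynomial

variable {k : Type*} [Field k]

/-- Polynomials of degree `≤ d` divisible by `(X - a) ^ m`. -/
noncomputable def Wsp (d : ℕ) (a : k) (m : ℕ) : Submodule k k[X] :=
  degreeLE k d ⊓ (Ideal.span {(X - C a) ^ m}).restrictScalars k

theorem mem_Wsp {d : ℕ} {a : k} {m : ℕ} {s : k[X]} :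
    s ∈ Wsp d a m ↔ s.natDegree ≤ d ∧ (X - C a) ^ m ∣ s := by
  simp [Wsp, mem_degreeLE, Ideal.mem_span_singleton, natDegree_le_iff_degree_le]

/-- The space of relation triples, as pairs `(t 0, t 1)`. -/
noncomputable def Lsp (d : ℕ) (P : Fin 3 → k) (e : Fin 3 → ℕ) : Submodule k (k[X] × k[X]) :=
  (Wsp d (P 0) (e 0)).comap (LinearMap.fst k _ _) ⊓
    (Wsp d (P 1) (e 1)).comap (LinearMap.snd k _ _) ⊓
    (Wsp d (P 2) (e 2)).comap (-(LinearMap.fst k k[X] k[X] + LinearMap.snd k k[X] k[X]))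

/-- The triple attached to a pair. -/
noncomputable def triple (v : k[X] × k[X]) : Fin 3 → k[X] := ![v.1, v.2, -(v.1 + v.2)]

theorem mem_Lsp {d : ℕ} {P : Fin 3 → k} {e : Fin 3 → ℕ} {v : k[X] × k[X]} :
    v ∈ Lsp d P e ↔ (∀ i, (triple v i).natDegree ≤ d) ∧
      ∀ i, (X - C (P i)) ^ e i ∣ triple v i := by
  simp only [Lsp, Submodule.mem_inf, Submodule.mem_comap, mem_Wsp, LinearMap.fst_apply,
    LinearMap.snd_apply, LinearMap.neg_apply, LinearMap.add_apply, Fin.forall_fin_succ, triple,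
    Matrix.cons_val_zero, Matrix.cons_val_succ, Fin.succ_zero_eq_one]
  simp
  tauto

theorem rel_triple {d : ℕ} {P : Fin 3 → k} {e : Fin 3 → ℕ} (hP : Function.Injective P)
    (he : Adm d e) {v : k[X] × k[X]} (hv : v ∈ Lsp d P e) (hv0 : v ≠ 0) :
    Rel d P e (triple v) := by
  rw [mem_Lsp] at hv
  refine Rel.of_exists_ne hP he hv.1 hv.2 (by simp [triple]) ?_
  by_contra hall
  push_neg at hall
  apply hv0
  have h1 := hall 0
  have h2 := hall 1
  simp only [triple, Matrix.cons_val_zero, Matrix.cons_val_one] at h1 h2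
  exact Prod.ext h1 h2

theorem triple_of_rel {d : ℕ} {P : Fin 3 → k} {e : Fin 3 → ℕ} {t : Fin 3 → k[X]}
    (ht : Rel d P e t) : triple (t 0, t 1) = t := by
  funext i
  fin_cases i
  · rfl
  · rfl
  · show -(t 0 + t 1) = t 2
    have := ht.sum
    exact (eq_neg_of_add_eq_zero_right this).symm

theorem mem_Lsp_of_rel {d : ℕ} {P : Fin 3 → k} {e : Fin 3 → ℕ} {t : Fin 3 → k[X]}
    (ht : Rel d P e t) : (t 0, t 1) ∈ Lsp d P e := by
  rw [mem_Lsp, triple_of_rel ht]
  exact ⟨ht.deg, ht.dvd⟩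

theorem smul_dvd_zero {d : ℕ} {a b : k} (hab : a ≠ b) {m n : ℕ} (hmn : d < m + n) {y : k[X]}
    (hy0 : y ≠ 0) (hyd : y.natDegree ≤ d) (hyb : (X - C b) ^ n ∣ y) {β : k}
    (h : (X - C a) ^ m ∣ β • y) : β = 0 := by
  by_contra hβ
  have h1 : (X - C a) ^ m ∣ y := by
    have h2 : y = C β⁻¹ * (β • y) := by
      rw [← smul_eq_C_mul, smul_smul, inv_mul_cancel₀ hβ, one_smul]
    rw [h2]
    exact h.mul_left _
  exact hy0 (eq_zero_of_two hab h1 hyb (by omega))

theorem Lsp_main [IsAlgClosed k] {d : ℕ} {P : Fin 3 → k} {e : Fin 3 → ℕ}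
    (hP : Function.Injective P) (he : Adm d e) :
    ∃ L : Submodule k (k[X] × k[X]), L ≠ ⊥ ∧
      (∀ v ∈ L, v ≠ 0 → Submodule.span k {v.1, v.2} ≤ degreeLE k d ∧
        Module.finrank k (Submodule.span k {v.1, v.2}) = 2 ∧
        ∀ i, ∃ s ∈ Submodule.span k {v.1, v.2}, s ≠ 0 ∧ e i ≤ rootMultiplicity (P i) s) ∧
      (∀ V : Submodule k k[X], V ≤ degreeLE k d → Module.finrank k V = 2 →
        (∀ i, ∃ s ∈ V, s ≠ 0 ∧ e i ≤ rootMultiplicity (P i) s) →
          ∃ v ∈ L, v ≠ 0 ∧ Submodule.span k {v.1, v.2} = V) ∧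
      (∀ v ∈ L, ∀ w ∈ L, v ≠ 0 → w ≠ 0 →
        Submodule.span k {v.1, v.2} = Submodule.span k {w.1, w.2} → ∃ c : k, w = c • v) := by
  refine ⟨Lsp d P e, ?_, ?_, ?_, ?_⟩
  · obtain ⟨t, ht⟩ := exists_rel hP he
    intro hbot
    have := mem_Lsp_of_rel ht
    rw [hbot, Submodule.mem_bot, Prod.mk_eq_zero] at this
    exact ht.ne 0 this.1
  · intro v hv hv0
    exact (rel_triple hP he hv hv0).inFam hP he
  · intro V hle hfr hex
    obtain ⟨t, ht, -, hspan⟩ := exists_rel_of_inFam hP he ⟨hle, hfr, hex⟩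
    refine ⟨(t 0, t 1), mem_Lsp_of_rel ht, ?_, hspan⟩
    intro h0
    rw [Prod.mk_eq_zero] at h0
    exact ht.ne 0 h0.1
  · intro v hv w hw hv0 hw0 hspan
    have hT := rel_triple hP he hv hv0
    have hT' := rel_triple hP he hw hw0
    have hw1 : w.1 ∈ Submodule.span k {v.1, v.2} := by
      rw [hspan]; exact Submodule.subset_span (by simp)
    have hw2 : w.2 ∈ Submodule.span k {v.1, v.2} := by
      rw [hspan]; exact Submodule.subset_span (by simp)
    rw [Submodule.mem_span_pair] at hw1 hw2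
    obtain ⟨α, β, h1⟩ := hw1
    obtain ⟨γ, δ, h2⟩ := hw2
    have hd0 := hT.dvd 0
    have hd1 := hT.dvd 1
    have hd2 := hT.dvd 2
    have hd0' := hT'.dvd 0
    have hd1' := hT'.dvd 1
    have hd2' := hT'.dvd 2
    have hn0 := hT.ne 0
    have hn1 := hT.ne 1
    have hg0 := hT.deg 0
    have hg1 := hT.deg 1
    simp only [triple, Matrix.cons_val_zero, Matrix.cons_val_one, Matrix.cons_val_two,
      Matrix.tail_cons, Matrix.head_cons] at hd0 hd1 hd2 hd0' hd1' hd2' hn0 hn1 hg0 hg1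
    have hβ : β = 0 := by
      refine smul_dvd_zero (hP.ne (by decide : (0 : Fin 3) ≠ 1)) (he.pair 0 1 (by decide))
        hn1 hg1 hd1 ?_
      have : β • v.2 = w.1 - α • v.1 := by rw [← h1]; ring
      rw [this, smul_eq_C_mul]
      exact dvd_sub hd0' (hd0.mul_left _)
    have hγ : γ = 0 := by
      refine smul_dvd_zero (hP.ne (by decide : (1 : Fin 3) ≠ 0)) (he.pair 1 0 (by decide))
        hn0 hg0 hd0 ?_
      have : γ • v.1 = w.2 - δ • v.2 := by rw [← h2]; ring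
      rw [this, smul_eq_C_mul]
      exact dvd_sub hd1' (hd1.mul_left _)
    subst hβ hγ
    rw [zero_smul, add_zero] at h1
    rw [zero_smul, zero_add] at h2
    have hαδ : δ - α = 0 := by
      refine smul_dvd_zero (hP.ne (by decide : (2 : Fin 3) ≠ 1)) (he.pair 2 1 (by decide))
        hn1 hg1 hd1 ?_
      have : (δ - α) • v.2 = C α * (-(v.1 + v.2)) - (-(w.1 + w.2)) := by
        rw [← h1, ← h2]; simp only [smul_eq_C_mul, C_sub]; ring
      rw [this]
      exact dvd_sub (hd2.mul_left _) hd2'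
    have hαδ' : δ = α := sub_eq_zero.mp hαδ
    refine ⟨α, ?_⟩
    ext1
    · simp [← h1]
    · simp [← h2, hαδ']

end Groth.Agent.Lib.LeadW3
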