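import Mathlib
import Groth.Prelude.Def_W4c1limliniiiiRamP1
import Groth.Agent.S19560
import Groth.Agent.Lib.LeadW3d

/-!
# Wild ramification at infinity: the family `⟨F + c X^p G, G⟩` (lead)
-/

namespace Groth.Agent.Lib.LeadW3

open Polynomial W4c1limliniiii

universe u

variable {k : Type u} [Field k]

theorem linearIndependent_of_natDegree_lt {F G : k[X]} (hG : G ≠ 0)
    (hlt : G.natDegree < F.natDegree) : LinearIndependent k ![F, G] := by
  rw [LinearIndependent.pair_iff]
  intro α β h
  have hα : α = 0 := by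
    by_contra hα
    have h1 : α • F = -(β • G) := eq_neg_of_add_eq_zero_left h
    have h2 : (α • F).natDegree = F.natDegree := by rw [smul_eq_C_mul, natDegree_C_mul hα]
    have h3 : (-(β • G)).natDegree ≤ G.natDegree := by
      rw [natDegree_neg]; exact natDegree_smul_le _ _
    rw [h1] at h2; omega
  subst hα
  simp only [zero_smul, zero_add, smul_eq_zero] at h
  exact ⟨rfl, h.resolve_right hG⟩

theorem hasRamIdx_unique {V : Submodule k k[X]} {a : k} {e e' : ℕ} (h : HasRamIdx V a e)
    (h' : HasRamIdx V a e') : e = e' := by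
  obtain ⟨⟨s, hs, hs0, hse⟩, hle⟩ := h
  obtain ⟨⟨s', hs', hs0', hse'⟩, hle'⟩ := h'
  have := hle' s hs hs0
  have := hle s' hs' hs0'
  omega

/-- For a pencil unramified-or-tamely ramified of index `e < p` at `a` and base-point-free at `a`,
the Wronskian is not divisible by `(X - a) ^ e`. -/
theorem not_pow_dvd_wronskian {p : ℕ} [CharP k p] {F G : k[X]} {a : k} {e : ℕ} (he0 : 0 < e)
    (hep : e < p) (hbpf : ∃ s ∈ Submodule.span k {F, G}, s.eval a ≠ 0)
    (hram : HasRamIdx (Submodule.span k {F, G}) a e) :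
    ¬ (X - C a) ^ e ∣ wronskian F G := by
  intro hdvd
  obtain ⟨s0, hs0V, hs0a⟩ := hbpf
  obtain ⟨⟨s1, hs1V, hs10, hs1e⟩, hle⟩ := hram
  have hrm : rootMultiplicity a s1 = e := le_antisymm (hle s1 hs1V hs10) hs1e
  obtain ⟨u, hu, hnd⟩ := exists_eq_pow_rootMultiplicity_mul_and_not_dvd s1 hs10 a
  rw [hrm] at hu
  obtain ⟨m, rfl⟩ : ∃ m, e = m + 1 := ⟨e - 1, by omega⟩
  obtain ⟨α, β, h0⟩ := Submodule.mem_span_pair.mp hs0V
  obtain ⟨γ, δ, h1⟩ := Submodule.mem_span_pair.mp hs1V
  have hW : wronskian s0 s1 = C (α * δ - β * γ) * wronskian F G := by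
    rw [← h0, ← h1]; exact Groth.Agent.S19560.Aux.WronRam.wron_change F G α β γ δ
  have hd2 : (X - C a) ^ (m + 1) ∣ wronskian s0 s1 := by rw [hW]; exact hdvd.mul_left _
  rw [hu, Groth.Agent.S19560.Aux.WronRam.wron_factor, pow_succ] at hd2
  have hd3 : (X - C a) ∣ C ((m + 1 : ℕ) : k) * s0 * u +
      (X - C a) * (s0 * derivative u - derivative s0 * u) :=
    (mul_dvd_mul_iff_left (pow_ne_zero _ (X_sub_C_ne_zero a))).mp hd2
  have hd4 : (X - C a) ∣ C ((m + 1 : ℕ) : k) * s0 * u :=
    (dvd_add_left (dvd_mul_right _ _)).mp hd3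
  rw [dvd_iff_isRoot, IsRoot, eval_mul, eval_mul, eval_C] at hd4
  have hua : u.eval a ≠ 0 := by rwa [Ne, ← IsRoot, ← dvd_iff_isRoot]
  have hm : ((m + 1 : ℕ) : k) ≠ 0 := by
    rw [Ne, CharP.cast_eq_zero_iff k p]
    intro hdiv
    have := Nat.le_of_dvd (Nat.succ_pos m) hdiv
    omega
  exact (mul_ne_zero (mul_ne_zero hm hs0a) hua) hd4

theorem infinite_family [IsAlgClosed k] {p : ℕ} [Fact p.Prime] [CharP k p] {d n : ℕ}
    {P : Fin n → k} {e : Fin n → ℕ} {E : ℕ} (hE2 : 2 ≤ E) (he1 : ∀ i, 1 ≤ e i)
    (hlt : ∀ i, e i < p) (hE : p < E) {V : Submodule k k[X]} (hV : V ∈ ramMaps d P e)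
    (hInf : HasRamIdxInf d V E) :
    {V : Submodule k k[X] | V ∈ ramMaps d P e ∧ HasRamIdxInf d V E}.Infinite := by
  obtain ⟨⟨hle, hfr, ⟨F, hFV, hFd⟩, hbpf⟩, hsep, hram⟩ := hV
  obtain ⟨⟨G, hGV, hG0, hGE⟩, hInf2⟩ := hInf
  have hGd : G.natDegree + E = d := le_antisymm hGE (hInf2 G hGV hG0)
  have hlt' : G.natDegree < F.natDegree := by omega
  have hli : LinearIndependent k ![F, G] := linearIndependent_of_natDegree_lt hG0 hlt'
  have hspan : Submodule.span k {F, G} = V := span_pair_eq_of_indep hfr hFV hGV hli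
  have hW : wronskian F G ≠ 0 := by
    obtain ⟨F', hF', G', hG', hW'⟩ := hsep
    intro h0
    rw [← hspan] at hF' hG'
    exact hW' (wronskian_span_pair hF' hG' h0)
  have hp0 : p ≠ 0 := (Fact.out : p.Prime).ne_zero
  let Fc : k → k[X] := fun c => F + C c * X ^ p * G
  have hXG : ∀ c, (C c * X ^ p * G).natDegree < d := by
    intro c
    calc (C c * X ^ p * G).natDegree ≤ (C c * X ^ p).natDegree + G.natDegree := natDegree_mul_le
      _ ≤ p + G.natDegree := by
          gcongr
          exact (natDegree_C_mul_le _ _).trans (natDegree_X_pow_le p)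
      _ < d := by omega
  have hFcd : ∀ c, (Fc c).natDegree = d := by
    intro c
    show (F + C c * X ^ p * G).natDegree = d
    rw [natDegree_add_eq_left_of_natDegree_lt (by rw [hFd]; exact hXG c), hFd]
  have hWc : ∀ c, wronskian (Fc c) G = wronskian F G := by
    intro c
    simp only [Fc, wronskian, derivative_add, derivative_mul, derivative_C, derivative_X_pow,
      ← C_eq_natCast]
    rw [CharP.cast_eq_zero k p]
    simp only [C_0, zero_mul, mul_zero, add_zero, zero_add]
    ring
  have hlic : ∀ c, LinearIndependent k ![Fc c, G] := fun c =>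
    linearIndependent_of_natDegree_lt hG0 (by rw [hFcd]; omega)
  have hpen : ∀ c, IsPencil d (Submodule.span k {Fc c, G}) := by
    intro c
    refine ⟨?_, finrank_span_pair (hlic c), ⟨Fc c, Submodule.subset_span (by simp), hFcd c⟩, ?_⟩
    · rw [Submodule.span_le]
      intro z hz
      rcases hz with rfl | rfl
      · exact mem_degreeLE.mpr (degree_le_of_natDegree_le (hFcd c).le)
      · exact mem_degreeLE.mpr (degree_le_of_natDegree_le (by omega))
    · intro a
      by_cases hGa : G.eval a = 0
      · refine ⟨Fc c, Submodule.subset_span (by simp), ?_⟩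
        obtain ⟨s, hsV, hsa⟩ := hbpf a
        rw [← hspan, Submodule.mem_span_pair] at hsV
        obtain ⟨α, β, rfl⟩ := hsV
        have hFa : F.eval a ≠ 0 := by
          intro hFa; apply hsa; simp [hFa, hGa]
        simpa [Fc, hGa] using hFa
      · exact ⟨G, Submodule.subset_span (by simp), hGa⟩
  have hmemc : ∀ c, Submodule.span k {Fc c, G} ∈
      {V : Submodule k k[X] | V ∈ ramMaps d P e ∧ HasRamIdxInf d V E} := by
    intro c
    refine ⟨⟨hpen c, ⟨Fc c, Submodule.subset_span (by simp), G, Submodule.subset_span (by simp),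
      by rw [hWc]; exact hW⟩, fun i => ?_⟩, ?_⟩
    · have hnd := not_pow_dvd_wronskian (p := p) (F := F) (G := G) (a := P i) (he1 i) (hlt i)
        (by rw [hspan]; exact hbpf (P i)) (by rw [hspan]; exact hram i)
      have hrm : rootMultiplicity (P i) (wronskian F G) < e i := by
        by_contra hge
        push_neg at hge
        exact hnd ((le_rootMultiplicity_iff hW).mp hge)
      have h1 := (Groth.Agent.S19560.result k p d F G
        (by rw [hspan]; exact ⟨hle, hfr, ⟨F, hFV, hFd⟩, hbpf⟩) hW (P i) _ rfl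
        (Or.inr (by have := hlt i; omega))).1
      rw [hspan] at h1
      have heq := hasRamIdx_unique h1 (hram i)
      exact (Groth.Agent.S19560.result k p d (Fc c) G (hpen c) (by rw [hWc]; exact hW) (P i)
        (e i) (by rw [hWc]; exact heq) (Or.inr (by have := hlt i; omega))).1
    · refine ⟨⟨G, Submodule.subset_span (by simp), hG0, hGE⟩, ?_⟩
      intro s hs hs0
      rw [Submodule.mem_span_pair] at hs
      obtain ⟨α, β, rfl⟩ := hs
      by_cases hα : α = 0
      · subst hα
        have hβ : β ≠ 0 := by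
          rintro rfl
          simp at hs0
        simp only [zero_smul, zero_add]
        rw [smul_eq_C_mul, natDegree_C_mul hβ]
        omega
      · have hdα : (α • Fc c).natDegree = d := by
          rw [smul_eq_C_mul, natDegree_C_mul hα, hFcd]
        have : (α • Fc c + β • G).natDegree = d := by
          rw [natDegree_add_eq_left_of_natDegree_lt, hdα]
          rw [hdα]
          exact lt_of_le_of_lt (natDegree_smul_le _ _) (by omega)
        omega
  refine Set.infinite_of_injective_forall_mem (f := fun c => Submodule.span k {Fc c, G}) ?_ hmemc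
  intro c c' hcc
  have hmem : Fc c ∈ Submodule.span k {Fc c', G} := by
    have : Submodule.span k {Fc c, G} = Submodule.span k {Fc c', G} := hcc
    rw [← this]
    exact Submodule.subset_span (by simp)
  rw [Submodule.mem_span_pair] at hmem
  obtain ⟨α, β, hαβ⟩ := hmem
  have key : C (α - 1) * F = (C (c - α * c') * X ^ p - C β) * G := by
    simp only [Fc, smul_eq_C_mul] at hαβ
    simp only [C_sub, C_mul, C_1]
    linear_combination hαβ
  have hα1 : α = 1 := by
    by_contra hne
    have h1 : (C (α - 1) * F).natDegree = d := by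
      rw [natDegree_C_mul (sub_ne_zero.mpr hne), hFd]
    have h2 : ((C (c - α * c') * X ^ p - C β) * G).natDegree < d := by
      calc ((C (c - α * c') * X ^ p - C β) * G).natDegree
          ≤ (C (c - α * c') * X ^ p - C β).natDegree + G.natDegree := natDegree_mul_le
        _ ≤ p + G.natDegree := by
            gcongr
            exact (natDegree_sub_le _ _).trans (max_le
              ((natDegree_C_mul_le _ _).trans (natDegree_X_pow_le p)) (by simp))
        _ < d := by omega
    rw [key] at h1
    omega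
  subst hα1
  rw [sub_self, C_0, zero_mul] at key
  have h3 : C (c - 1 * c') * X ^ p - C β = 0 := (mul_eq_zero.mp key.symm).resolve_right hG0
  have h4 := congrArg (fun f => coeff f p) h3
  simp only [coeff_sub, coeff_C_mul, coeff_X_pow, if_true, mul_one, coeff_C, hp0, if_false,
    sub_zero, coeff_zero, one_mul] at h4
  exact sub_eq_zero.mp h4

end Groth.Agent.Lib.LeadW3
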