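import Mathlib

/-! Universal identity for `p^i`-power differentials via Witt vector addition (S12623-S12625, S12621). -/

set_option autoImplicit false

namespace Groth.Agent.Lib.LeadWA
open MvPolynomial Finset

/-- chain rule for a polynomial in two variables -/
lemma deriv_aeval {R B M : Type*} [CommRing R] [CommRing B] [Algebra R B] [AddCommGroup M]
    [Module B M] [Module R M]
    (D : Derivation R B M) (v : Fin 2 → B) (f : MvPolynomial (Fin 2) ℤ) :
    D (aeval v f) = ∑ k, aeval v (pderiv k f) • D (v k) := by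
  induction f using MvPolynomial.induction_on with
  | C a =>
    simp only [pderiv_C, map_zero, zero_smul, Finset.sum_const_zero]
    rw [← algebraMap_eq, AlgHom.commutes, eq_intCast, Derivation.map_intCast]
  | add f g hf hg =>
    rw [map_add, map_add, hf, hg, ← Finset.sum_add_distrib]
    refine Finset.sum_congr rfl fun k _ => ?_
    rw [map_add, map_add, add_smul]
  | mul_X f n hf =>
    rw [map_mul, aeval_X, Derivation.leibniz, hf, Finset.smul_sum]
    have : ∀ k, aeval v (pderiv k (f * X n)) • D (v k) =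
        (if n = k then aeval v f • D (v n) else 0) + v n • aeval v (pderiv k f) • D (v k) := by
      intro k
      rw [Derivation.leibniz, pderiv_X, map_add, smul_eq_mul, smul_eq_mul, map_mul, map_mul,
        aeval_X, add_smul]
      congr 1
      · by_cases h : n = k
        · subst h; simp
        · rw [if_neg h, Pi.single_eq_of_ne h]; simp
      · rw [mul_smul]
    simp_rw [this]
    rw [Finset.sum_add_distrib, Finset.sum_ite_eq]
    simp

variable (p : ℕ) [hp : Fact p.Prime]

/-- Witt vector addition of Teichmüller representatives, as a universal identity. -/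
lemma exists_witt_add : ∃ s : ℕ → MvPolynomial (Fin 2) ℤ, s 0 = X 0 + X 1 ∧
    ∀ i, ∑ j ∈ range (i + 1), (p : MvPolynomial (Fin 2) ℤ) ^ j * s j ^ p ^ (i - j) =
      X 0 ^ p ^ i + X 1 ^ p ^ i := by
  set w : WittVector p (MvPolynomial (Fin 2) ℤ) :=
    WittVector.teichmuller p (X 0) + WittVector.teichmuller p (X 1) with hw
  refine ⟨w.coeff, ?_, fun i => ?_⟩
  · rw [hw, WittVector.add_coeff_zero, WittVector.teichmuller_coeff_zero,
      WittVector.teichmuller_coeff_zero]
  · have h := WittVector.ghostComponent_apply (p := p) i w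
    rw [hw, map_add, WittVector.ghostComponent_teichmuller,
      WittVector.ghostComponent_teichmuller, ← hw, wittPolynomial_eq_sum_C_mul_X_pow,
      map_sum] at h
    rw [h]
    refine Finset.sum_congr rfl fun j _ => ?_
    simp

/-- the partial derivatives of the Witt addition identity, divided by `p ^ i`. -/
lemma exists_witt_add_pderiv : ∃ s : ℕ → MvPolynomial (Fin 2) ℤ, s 0 = X 0 + X 1 ∧
    ∀ i (k : Fin 2), ∑ j ∈ range (i + 1), s j ^ (p ^ (i - j) - 1) * pderiv k (s j) =
      X k ^ (p ^ i - 1) := by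
  obtain ⟨s, hs0, hs⟩ := exists_witt_add p
  refine ⟨s, hs0, fun i k => ?_⟩
  have hp0 : (p : MvPolynomial (Fin 2) ℤ) ^ i ≠ 0 := by
    apply pow_ne_zero
    exact_mod_cast hp.out.ne_zero
  apply mul_left_cancel₀ hp0
  have h := congrArg (pderiv k) (hs i)
  rw [map_sum, map_add] at h
  have hL : ∀ j ∈ range (i + 1), pderiv k ((p : MvPolynomial (Fin 2) ℤ) ^ j * s j ^ p ^ (i - j)) =
      (p : MvPolynomial (Fin 2) ℤ) ^ i * (s j ^ (p ^ (i - j) - 1) * pderiv k (s j)) := by
    intro j hj
    have hji : j ≤ i := Nat.lt_succ_iff.mp (Finset.mem_range.mp hj)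
    have hc : (p : MvPolynomial (Fin 2) ℤ) ^ j = C ((p : ℤ) ^ j) := by simp
    rw [hc, Derivation.leibniz, pderiv_C, smul_zero, add_zero, Derivation.leibniz_pow,
      smul_eq_mul, smul_eq_mul, nsmul_eq_mul, ← hc]
    have : (p : MvPolynomial (Fin 2) ℤ) ^ i = (p : MvPolynomial (Fin 2) ℤ) ^ j * ((p ^ (i - j) : ℕ) : MvPolynomial (Fin 2) ℤ) := by
      rw [Nat.cast_pow, ← pow_add]; congr 1; omega
    rw [this]; ring
  rw [Finset.sum_congr rfl hL, ← Finset.mul_sum] at h
  rw [h]
  have hX : ∀ n : Fin 2, pderiv k ((X n : MvPolynomial (Fin 2) ℤ) ^ p ^ i) =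
      if n = k then (p : MvPolynomial (Fin 2) ℤ) ^ i * X k ^ (p ^ i - 1) else 0 := by
    intro n
    rw [Derivation.leibniz_pow, pderiv_X]
    by_cases h : n = k
    · subst h; simp
    · rw [if_neg h, Pi.single_eq_of_ne h]; simp
  rw [hX, hX]
  fin_cases k <;> simp

/-- **Universal additivity defect identity** for `x ↦ x^(p^i-1) dx`, for any `ℤ`-derivation. -/
theorem exists_witt_add_deriv : ∃ s : ℕ → MvPolynomial (Fin 2) ℤ, s 0 = X 0 + X 1 ∧
    ∀ {R B M : Type*} [CommRing R] [CommRing B] [Algebra R B] [AddCommGroup M] [Module B M]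
      [Module R M] (D : Derivation R B M) (x y : B)
      (i : ℕ), ∑ j ∈ range (i + 1),
        (aeval ![x, y] (s j)) ^ (p ^ (i - j) - 1) • D (aeval ![x, y] (s j)) =
      x ^ (p ^ i - 1) • D x + y ^ (p ^ i - 1) • D y := by
  obtain ⟨s, hs0, hs⟩ := exists_witt_add_pderiv p
  refine ⟨s, hs0, ?_⟩
  intro R B M _ _ _ _ _ _ D x y i
  have h1 : ∀ j ∈ range (i + 1),
      (aeval ![x, y] (s j)) ^ (p ^ (i - j) - 1) • D (aeval ![x, y] (s j)) =
      ∑ k, aeval ![x, y] (s j ^ (p ^ (i - j) - 1) * pderiv k (s j)) • D (![x, y] k) := by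
    intro j _
    rw [deriv_aeval, Finset.smul_sum]
    refine Finset.sum_congr rfl fun k _ => ?_
    rw [map_mul, map_pow, mul_smul]
  rw [Finset.sum_congr rfl h1, Finset.sum_comm]
  have h2 : ∀ k : Fin 2, ∑ j ∈ range (i + 1),
      aeval ![x, y] (s j ^ (p ^ (i - j) - 1) * pderiv k (s j)) • D (![x, y] k) =
      (![x, y] k) ^ (p ^ i - 1) • D (![x, y] k) := by
    intro k
    rw [← Finset.sum_smul, ← map_sum, hs i k, map_pow, aeval_X]
  rw [Finset.sum_congr rfl fun k _ => h2 k]
  simp [Fin.sum_univ_two]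

/-- version of `exists_witt_add_deriv` hiding the polynomial evaluation. -/
theorem exists_seq_deriv {R B M : Type*} [CommRing R] [CommRing B] [Algebra R B] [AddCommGroup M]
    [Module B M] [Module R M] (D : Derivation R B M) (x y : B) :
    ∃ a : ℕ → B, a 0 = x + y ∧ ∀ i : ℕ,
      ∑ j ∈ range (i + 1), a j ^ (p ^ (i - j) - 1) • D (a j) =
        x ^ (p ^ i - 1) • D x + y ^ (p ^ i - 1) • D y := by
  obtain ⟨s, hs0, hs⟩ := exists_witt_add_deriv p
  refine ⟨fun j => aeval ![x, y] (s j), ?_, fun i => hs D x y i⟩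
  simp only [hs0, map_add, aeval_X]
  simp

end Groth.Agent.Lib.LeadWA
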