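import Mathlib
import Groth.Prelude.Def_W4bk4bump814p2PDiff
import Groth.Agent.Lib.LeadWA1

/-! The filtration `Σ^i` of Kähler differentials (S12623-S12625). -/

set_option autoImplicit false

namespace Groth.Agent.Lib.LeadWA
open MvPolynomial Finset W4bk4bump814p2

universe u v
variable (K : Type u) (A : Type v) [CommRing K] [CommRing A] [Algebra K A]
variable (p : ℕ)

/-- the additive subgroup generated by the `δ_j(x)`, `j < i` -/
noncomputable def G (i : ℕ) : AddSubgroup (Ω[A⁄K]) :=
  AddSubgroup.closure (⋃ j ∈ Finset.range i, Set.range (delta K A p j))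

lemma delta_mem_G {i j : ℕ} (h : j < i) (x : A) : delta K A p j x ∈ G K A p i := by
  apply AddSubgroup.subset_closure
  simp only [Set.mem_iUnion, Set.mem_range]
  exact ⟨j, Finset.mem_range.mpr h, x, rfl⟩

lemma G_mono {i j : ℕ} (h : i ≤ j) : G K A p i ≤ G K A p j := by
  apply AddSubgroup.closure_mono
  intro ω hω
  simp only [Set.mem_iUnion, Set.mem_range, Finset.mem_range] at hω ⊢
  obtain ⟨l, hl, x, rfl⟩ := hω
  exact ⟨l, lt_of_lt_of_le hl h, x, rfl⟩

lemma delta_zero_arg (i : ℕ) : delta K A p i 0 = 0 := by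
  simp [delta]

variable [hp : Fact p.Prime]

/-- the defect of additivity of `δ_i` lies in `G i`. -/
theorem defect_mem_G (i : ℕ) (x y : A) :
    delta K A p i (x + y) - delta K A p i x - delta K A p i y ∈ G K A p i := by
  obtain ⟨s, hs0, hs⟩ := exists_witt_add_deriv p
  have h := hs (KaehlerDifferential.D K A) x y i
  rw [Finset.sum_range_succ'] at h
  simp only [Nat.sub_zero] at h
  have e0 : aeval ![x, y] (s 0) = x + y := by rw [hs0]; simp
  rw [e0] at h
  have : delta K A p i (x + y) - delta K A p i x - delta K A p i y =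
      - ∑ j ∈ range i, delta K A p (i - (j + 1)) (aeval ![x, y] (s (j + 1))) := by
    simp only [delta]
    rw [sub_sub, ← h]; abel
  rw [this]
  apply neg_mem
  apply sum_mem
  intro j hj
  apply delta_mem_G
  have := Finset.mem_range.mp hj
  omega

lemma delta_neg_add_mem_G (i : ℕ) (x : A) :
    delta K A p i x + delta K A p i (-x) ∈ G K A p i := by
  have h := defect_mem_G K A p i x (-x)
  rw [add_neg_cancel, delta_zero_arg, zero_sub, ← neg_add'] at h
  simpa using neg_mem h

/-- the auxiliary subgroup `{ω | ∃ x, ω - δ_i x ∈ G i}` -/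
noncomputable def T (i : ℕ) : AddSubgroup (Ω[A⁄K]) where
  carrier := {ω | ∃ x : A, ω - delta K A p i x ∈ G K A p i}
  zero_mem' := ⟨0, by rw [delta_zero_arg, sub_zero]; exact zero_mem _⟩
  add_mem' := by
    rintro ω₁ ω₂ ⟨x, hx⟩ ⟨y, hy⟩
    refine ⟨x + y, ?_⟩
    have : ω₁ + ω₂ - delta K A p i (x + y) = (ω₁ - delta K A p i x) + (ω₂ - delta K A p i y) -
        (delta K A p i (x + y) - delta K A p i x - delta K A p i y) := by abel
    rw [this]
    exact sub_mem (add_mem hx hy) (defect_mem_G K A p i x y)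
  neg_mem' := by
    rintro ω ⟨x, hx⟩
    refine ⟨-x, ?_⟩
    have : -ω - delta K A p i (-x) = -(ω - delta K A p i x) -
        (delta K A p i x + delta K A p i (-x)) := by abel
    rw [this]
    exact sub_mem (neg_mem hx) (delta_neg_add_mem_G K A p i x)

lemma T_eq_G (i : ℕ) : T K A p i = G K A p (i + 1) := by
  apply le_antisymm
  · rintro ω ⟨x, hx⟩
    have : ω = (ω - delta K A p i x) + delta K A p i x := by abel
    rw [this]
    exact add_mem (G_mono K A p (Nat.le_succ i) hx) (delta_mem_G K A p (Nat.lt_succ_self i) x)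
  · rw [G, AddSubgroup.closure_le]
    intro ω hω
    simp only [Set.mem_iUnion, Set.mem_range, Finset.mem_range] at hω
    obtain ⟨j, hj, z, rfl⟩ := hω
    rcases Nat.lt_succ_iff_lt_or_eq.mp hj with h | h
    · exact ⟨0, by rw [delta_zero_arg, sub_zero]; exact delta_mem_G K A p h z⟩
    · subst h
      exact ⟨z, by rw [sub_self]; exact zero_mem _⟩

/-- **S12625** -/
theorem sigma_eq_G (i : ℕ) : sigma K A p i = (G K A p i : Set (Ω[A⁄K])) := by
  induction i with
  | zero =>
    rw [sigma_zero, G]
    simp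
  | succ i ih =>
    rw [sigma_succ, ih, ← T_eq_G]
    rfl

section Perfect
variable (K : Type u) (A : Type v) [Field K] [CommRing A] [Algebra K A]
  (p : ℕ) [hp : Fact p.Prime]

lemma delta_smul (j : ℕ) (c : K) (x : A) :
    delta K A p j (c • x) = (c ^ p ^ j) • delta K A p j x := by
  have hpos : 0 < p ^ j := pow_pos hp.out.pos j
  have hq : p ^ j = (p ^ j - 1) + 1 := by omega
  simp only [delta]
  rw [smul_pow, Derivation.map_smul, smul_assoc, smul_comm (x ^ (p ^ j - 1)) c, smul_smul]
  congr 1
  conv_rhs => rw [hq, pow_succ]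

variable [PerfectField K] [CharP K p]

/-- `G i` is stable under `K`-scalars -/
lemma smul_mem_G (i : ℕ) (c : K) (ω : Ω[A⁄K]) (hω : ω ∈ G K A p i) : c • ω ∈ G K A p i := by
  induction hω using AddSubgroup.closure_induction with
  | mem ω hω =>
    simp only [Set.mem_iUnion, Set.mem_range, Finset.mem_range] at hω
    obtain ⟨j, hj, x, rfl⟩ := hω
    set c' := (iterateFrobeniusEquiv K p j).symm c with hc'
    have hcc : c' ^ p ^ j = c := by
      rw [← iterateFrobeniusEquiv_def K p j, hc', RingEquiv.apply_symm_apply]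
    rw [← hcc, ← delta_smul]
    exact delta_mem_G K A p hj _
  | zero => rw [smul_zero]; exact zero_mem _
  | add ω₁ ω₂ _ _ h₁ h₂ => rw [smul_add]; exact add_mem h₁ h₂
  | neg ω _ h => rw [smul_neg]; exact neg_mem h

/-- **S12624** -/
noncomputable def GSub (i : ℕ) : Submodule K (Ω[A⁄K]) where
  carrier := G K A p i
  zero_mem' := zero_mem _
  add_mem' := add_mem
  smul_mem' := fun c ω hω => smul_mem_G K A p i c ω hω

end Perfect

end Groth.Agent.Lib.LeadWA
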