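import Mathlib
import Groth.Prelude.Def_LocRes
import Groth.Agent.Lib.LeadWA1
import Groth.Agent.Lib.LeadTR7

/-! The residue of `g^(n-1) dg` vanishes in every characteristic (S12621). -/

set_option autoImplicit false

namespace Groth.Agent.Lib.LeadWA
open HahnSeries Finset Groth.Agent.Lib.LeadTR

variable {F : Type*} [Field F]

/-- `h^(q-1) dh` -/
noncomputable def dl (q : ℕ) (h : LaurentSeries F) : LaurentSeries F := h ^ (q - 1) * LocRes.D F h

lemma D_mem_Afil_zero {h : LaurentSeries F} (hh : h ∈ Afil F 0) : LocRes.D F h ∈ Afil F 0 := by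
  intro i hi
  rw [LocRes.D_coeff]
  by_cases h1 : i + 1 < 0
  · rw [hh (i + 1) h1, smul_zero]
  · have : i + 1 = 0 := by omega
    rw [this, zero_smul]

lemma pow_mem_Afil_zero {h : LaurentSeries F} (hh : h ∈ Afil F 0) (n : ℕ) : h ^ n ∈ Afil F 0 := by
  induction n with
  | zero =>
    rw [pow_zero]
    intro i hi
    rw [HahnSeries.coeff_one, if_neg (by omega)]
  | succ n ih =>
    rw [pow_succ]
    have := mul_mem_Afil (k := F) ih hh
    rwa [add_zero] at this

lemma res_dl_of_mem_Afil_zero (q : ℕ) {h : LaurentSeries F} (hh : h ∈ Afil F 0) :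
    LocRes.res F (dl q h) = 0 := by
  have := mul_mem_Afil (k := F) (pow_mem_Afil_zero hh (q - 1)) (D_mem_Afil_zero hh)
  rw [add_zero] at this
  exact this (-1) (by norm_num)

lemma D_single (i : ℤ) (a : F) : LocRes.D F (single i a) = single (i - 1) (i • a) := by
  ext n
  rw [LocRes.D_coeff]
  by_cases h : n + 1 = i
  · have : n = i - 1 := by omega
    rw [this, coeff_single_same, sub_add_cancel, coeff_single_same]
  · rw [coeff_single_of_ne h, coeff_single_of_ne (by omega), smul_zero]

lemma res_dl_single (q : ℕ) (hq : 0 < q) (i : ℤ) (a : F) :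
    LocRes.res F (dl q (single i a)) = 0 := by
  rw [dl, single_pow, D_single, single_mul_single, LocRes.res_apply]
  by_cases hi : i = 0
  · subst hi
    simp
  · apply coeff_single_of_ne
    intro h
    have h2 : (q : ℤ) * i = 0 := by
      have : ((q - 1 : ℕ) : ℤ) = (q : ℤ) - 1 := by
        rw [Nat.cast_sub hq]; simp
      rw [nsmul_eq_mul, this] at h
      linarith
    rcases mul_eq_zero.mp h2 with h3 | h3
    · have : q = 0 := by exact_mod_cast h3
      omega
    · exact hi h3

variable (p : ℕ) [hp : Fact p.Prime]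

/-- **Main lemma**: the residue of `h^(p^r-1) dh` vanishes, in every characteristic. -/
theorem res_dl_ppow (r : ℕ) : ∀ h : LaurentSeries F, LocRes.res F (dl (p ^ r) h) = 0 := by
  induction r using Nat.strong_induction_on with
  | _ r ih =>
  -- additivity
  have hadd : ∀ x y : LaurentSeries F, LocRes.res F (dl (p ^ r) (x + y)) =
      LocRes.res F (dl (p ^ r) x) + LocRes.res F (dl (p ^ r) y) := by
    intro x y
    obtain ⟨a, ha0, ha⟩ := exists_seq_deriv p (LocRes.D F) x y
    have h := ha r
    rw [Finset.sum_range_succ'] at h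
    simp only [Nat.sub_zero, smul_eq_mul] at h
    rw [ha0] at h
    have h' : LocRes.res F (∑ j ∈ range r, a (j + 1) ^ (p ^ (r - (j + 1)) - 1) *
        LocRes.D F (a (j + 1))) + LocRes.res F (dl (p ^ r) (x + y)) =
        LocRes.res F (dl (p ^ r) x) + LocRes.res F (dl (p ^ r) y) := by
      rw [← map_add, ← map_add]; exact congrArg (LocRes.res F) h
    rw [map_sum] at h'
    have hz : ∀ j ∈ range r, LocRes.res F (a (j + 1) ^
        (p ^ (r - (j + 1)) - 1) * LocRes.D F (a (j + 1))) = 0 := by
      intro j hj
      have hjr := Finset.mem_range.mp hj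
      exact ih (r - (j + 1)) (by omega) _
    rw [Finset.sum_eq_zero hz, zero_add] at h'
    exact h'
  have hq : 0 < p ^ r := pow_pos hp.out.pos r
  -- induction on the pole order
  have key : ∀ N : ℕ, ∀ h : LaurentSeries F, h ∈ Afil F (-(N : ℤ)) →
      LocRes.res F (dl (p ^ r) h) = 0 := by
    intro N
    induction N with
    | zero =>
      intro h hh
      exact res_dl_of_mem_Afil_zero _ (by simpa using hh)
    | succ N ihN =>
      intro h hh
      set a := h.coeff (-((N : ℤ) + 1)) with ha
      have e : h = single (-((N : ℤ) + 1)) a + (h - single (-((N : ℤ) + 1)) a) := by abel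
      rw [e, hadd, res_dl_single _ hq, zero_add]
      apply ihN
      intro i hi
      rw [HahnSeries.coeff_sub]
      by_cases h1 : i = -((N : ℤ) + 1)
      · rw [h1, coeff_single_same, ha, sub_self]
      · rw [coeff_single_of_ne h1, sub_zero]
        apply hh
        push_cast
        omega
  intro h
  obtain ⟨n, hn⟩ := exists_mem_Afil (k := F) h
  apply key n.natAbs h
  apply Afil_anti (k := F) _ hn
  omega

omit hp in
lemma res_D (f : LaurentSeries F) : LocRes.res F (LocRes.D F f) = 0 := by
  rw [LocRes.res_apply, LocRes.D_coeff]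
  simp

omit hp in
/-- **S12621**: the residue of `g^(n-1) dg` vanishes for `n ≠ 0`, in every characteristic. -/
theorem res_zpow_sub_one (g : LaurentSeries F) (n : ℤ) (hn : n ≠ 0) :
    LocRes.res F (g ^ (n - 1) * LocRes.D F g) = 0 := by
  by_cases hg : g = 0
  · subst hg; rw [map_zero, mul_zero, map_zero]
  by_cases hnF : (n : F) = 0
  swap
  · have h1 : LocRes.D F (g ^ n) = n • g ^ (n - 1) • LocRes.D F g :=
      Derivation.leibniz_zpow _ g n
    have : g ^ (n - 1) * LocRes.D F g = (n : F)⁻¹ • LocRes.D F (g ^ n) := by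
      rw [h1, smul_eq_mul, ← Int.cast_smul_eq_zsmul F n, smul_smul, inv_mul_cancel₀ hnF, one_smul]
    rw [this, map_smul, res_D, smul_zero]
  · set p := ringChar F with hpdef
    haveI hcp : CharP F p := ringChar.charP F
    have hdvd : (p : ℤ) ∣ n := (CharP.intCast_eq_zero_iff F p n).mp hnF
    have hp : p.Prime := by
      rcases CharP.char_is_prime_or_zero F p with h | h
      · exact h
      · exfalso
        rw [h] at hdvd
        simp at hdvd
        exact hn hdvd
    haveI := Fact.mk hp
    have hfin : FiniteMultiplicity (p : ℤ) n :=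
      Int.finiteMultiplicity_iff.mpr ⟨by simpa using hp.ne_one, hn⟩
    obtain ⟨m, hnm, hm⟩ := hfin.exists_eq_pow_mul_and_not_dvd
    set r := multiplicity (p : ℤ) n with hr
    have hmF : (m : F) ≠ 0 := fun h => hm ((CharP.intCast_eq_zero_iff F p m).mp h)
    have hq : 0 < p ^ r := pow_pos hp.pos r
    have key : dl (p ^ r) (g ^ m) = (m : F) • (g ^ (n - 1) * LocRes.D F g) := by
      rw [dl, Derivation.leibniz_zpow, ← zpow_natCast, ← zpow_mul, smul_eq_mul,
        Int.cast_smul_eq_zsmul F m, mul_smul_comm, ← mul_assoc, ← zpow_add₀ hg]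
      congr 3
      rw [hnm, Nat.cast_sub hq]
      push_cast
      ring
    have h0 := res_dl_ppow (F := F) p r (g ^ m)
    rw [key, map_smul, smul_eq_mul] at h0
    exact (mul_eq_zero.mp h0).resolve_left hmF

end Groth.Agent.Lib.LeadWA
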