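import Groth.Agent.Lib.LeadHS20
import Groth.Agent.Lib.LeadRM2

/-! Divisor lemmas for the Weierstrass divisor: `mapDiv` under scaling and change of basis. -/

namespace Groth.Agent.Lib.LeadWD

open FunFld WithZero Groth.Agent.Lib.LeadFF Groth.Agent.Lib.LeadSV Groth.Agent.Lib.LeadHS

universe u v
variable {k : Type u} {K : Type v} [Field k] [Field K] [Algebra k K]

section MapDiv
variable {ι : Type*} [Fintype ι] [Nonempty ι]

/-- the value of `mapDiv` at a place, characterized by valuations (all entries nonzero). -/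
lemma mapDiv_eq_of (hK : IsFunctionField k K) (φ : ι → K) (P : Place k K) (m : ℤ)
    (hne : ∀ i, φ i ≠ 0) (hle : ∀ i, P.1 (φ i) ≤ exp m) (hex : ∃ i, P.1 (φ i) = exp m) :
    mapDiv k φ P = m := by
  rw [mapDiv_apply hK]
  obtain ⟨i0, hi0⟩ := hex
  have h1 : ∀ i, -m ≤ P.ord (φ i) := by
    intro i
    have := hle i
    rw [val_eq_exp_neg_ord P (hne i), exp_le_exp] at this
    omega
  have h2 : P.ord (φ i0) = -m := by
    rw [val_eq_exp_neg_ord P (hne i0), exp_inj] at hi0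
    omega
  have h3 : Finset.univ.inf' Finset.univ_nonempty (fun i => P.ord (φ i)) = -m := by
    apply le_antisymm
    · rw [← h2]; exact Finset.inf'_le _ (Finset.mem_univ i0)
    · exact Finset.le_inf' _ _ fun i _ => h1 i
  rw [h3, neg_neg]

lemma mapDiv_spec (hK : IsFunctionField k K) (φ : ι → K) (P : Place k K)
    (hne : ∀ i, φ i ≠ 0) :
    (∀ i, P.1 (φ i) ≤ exp (mapDiv k φ P)) ∧ ∃ i, P.1 (φ i) = exp (mapDiv k φ P) := by
  rw [mapDiv_apply hK]
  obtain ⟨i0, -, hi0⟩ := Finset.exists_mem_eq_inf' Finset.univ_nonempty (fun i => P.ord (φ i))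
  constructor
  · intro i
    rw [val_eq_exp_neg_ord P (hne i), exp_le_exp, neg_le_neg_iff]
    exact Finset.inf'_le _ (Finset.mem_univ i)
  · exact ⟨i0, by rw [val_eq_exp_neg_ord P (hne i0), hi0]⟩

/-- scaling by a nonzero function. -/
theorem mapDiv_mul (hK : IsFunctionField k K) (ψ : ι → K) (hne : ∀ i, ψ i ≠ 0) {y : K}
    (hy : y ≠ 0) : mapDiv k (fun i => y * ψ i) = mapDiv k ψ - FunFld.div k y := by
  ext P
  obtain ⟨hle, i0, hi0⟩ := mapDiv_spec hK ψ P hne
  rw [Finsupp.sub_apply, div_apply hK]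
  apply mapDiv_eq_of hK _ P _ (fun i => mul_ne_zero hy (hne i))
  · intro i
    rw [map_mul, val_eq_exp_neg_ord P hy, sub_eq_neg_add, exp_add]
    exact mul_le_mul' le_rfl (hle i)
  · refine ⟨i0, ?_⟩
    rw [map_mul, val_eq_exp_neg_ord P hy, sub_eq_neg_add, exp_add, hi0]

lemma val_sum_smul_le (P : Place k K) {ι' : Type*} (s : Finset ι') (b : ι' → k) (φ : ι' → K)
    (m : WithZero (Multiplicative ℤ)) (hle : ∀ j ∈ s, P.1 (φ j) ≤ m) :
    P.1 (∑ j ∈ s, b j • φ j) ≤ m := by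
  apply Valuation.map_sum_le
  intro j hj
  rw [Algebra.smul_def, map_mul]
  calc P.1 (algebraMap k K (b j)) * P.1 (φ j) ≤ 1 * P.1 (φ j) := mul_le_mul' (P.2.1 _) le_rfl
    _ = P.1 (φ j) := one_mul _
    _ ≤ m := hle j hj

lemma mapDiv_le_of_change (hK : IsFunctionField k K) {ι' : Type*} [Fintype ι'] [Nonempty ι']
    (φ : ι' → K) (φ' : ι → K) (A : Matrix ι ι' k)
    (hφ' : ∀ i, φ' i = ∑ j, A i j • φ j) (hne : ∀ j, φ j ≠ 0) (hne' : ∀ i, φ' i ≠ 0)
    (P : Place k K) : mapDiv k φ' P ≤ mapDiv k φ P := by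
  obtain ⟨hle, -⟩ := mapDiv_spec hK φ P hne
  obtain ⟨-, i0, hi0⟩ := mapDiv_spec hK φ' P hne'
  have := val_sum_smul_le P Finset.univ (A i0) φ _ (fun j _ => hle j)
  rw [← hφ' i0, hi0, exp_le_exp] at this
  exact this

/-- invariance under an invertible change of basis. -/
theorem mapDiv_change (hK : IsFunctionField k K) [DecidableEq ι] (φ φ' : ι → K) (A : Matrix ι ι k)
    (hA : A.det ≠ 0) (hφ' : ∀ i, φ' i = ∑ j, A i j • φ j) (hne : ∀ j, φ j ≠ 0)
    (hne' : ∀ i, φ' i ≠ 0) : mapDiv k φ' = mapDiv k φ := by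
  ext P
  apply le_antisymm (mapDiv_le_of_change hK φ φ' A hφ' hne hne' P)
  apply mapDiv_le_of_change hK φ' φ A⁻¹ _ hne' hne P
  intro j
  have hinv : A⁻¹ * A = 1 := Matrix.nonsing_inv_mul A (isUnit_iff_ne_zero.mpr hA)
  calc φ j = ∑ l, (1 : Matrix ι ι k) j l • φ l := by
        simp [Matrix.one_apply, Finset.sum_ite_eq]
    _ = ∑ l, (∑ i, A⁻¹ j i * A i l) • φ l := by
        rw [← hinv]; rfl
    _ = ∑ i, A⁻¹ j i • φ' i := by
        simp_rw [hφ', Finset.smul_sum, Finset.sum_smul, mul_smul]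
        rw [Finset.sum_comm]

end MapDiv

end Groth.Agent.Lib.LeadWD
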