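import Groth.Agent.Lib.LeadWD10

/-! Classical orders in characteristic `0` or `> deg φ` (S12611). -/

namespace Groth.Agent.Lib.LeadWD

open FunFld WithZero Groth.Agent.Lib.LeadFF Groth.Agent.Lib.LeadSV Groth.Agent.Lib.LeadHS

universe u v
variable {k : Type u} {K : Type v} [Field k] [Field K] [Algebra k K]

section Binom

open Matrix Polynomial

lemma det_descPochhammer {n : ℕ} (v : Fin n → ℕ) :
    (of fun i j : Fin n => (descPochhammer ℤ j).eval (v i : ℤ)).det =
    (∏ i : Fin n, ((Nat.factorial i : ℕ) : ℤ)) *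
      (of fun i j : Fin n => (Nat.choose (v i) j : ℤ)).det := by
  rw [← det_mul_row (fun (i : Fin n) => ((Nat.factorial (i : ℕ)) : ℤ))]
  congr 1
  ext i j
  rw [of_apply, of_apply, of_apply, descPochhammer_eval_eq_descFactorial ℤ _ _,
    Nat.descFactorial_eq_factorial_mul_choose]
  push_cast
  ring

lemma binom_det_int {n : ℕ} (v : Fin n → ℕ) :
    (∏ i : Fin n, ((Nat.factorial i : ℕ) : ℤ)) *
      (of fun i j : Fin n => (Nat.choose (v i) j : ℤ)).det =
    ∏ i : Fin n, ∏ j ∈ Finset.Ioi i, ((v j : ℤ) - (v i : ℤ)) := by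
  rw [← det_descPochhammer, ← det_vandermonde]
  exact (det_eval_matrixOfPolynomials_eq_det_vandermonde (fun i => (v i : ℤ))
    (fun i => descPochhammer ℤ i) (fun i => descPochhammer_natDegree ℤ i)
    (fun i => monic_descPochhammer ℤ i)).symm

variable (k) in
theorem binomMat_id_det_ne_zero {n : ℕ} (J' : Fin n → ℕ) (hJ' : StrictMono J') (N : ℕ)
    (hle : ∀ l, J' l ≤ N) (hinv : ∀ a : ℕ, 1 ≤ a → a ≤ N → ((a : ℕ) : k) ≠ 0) :
    (binomMat k J' (fun l : Fin n => (l : ℕ))).det ≠ 0 := by
  have hmap : binomMat k J' (fun l : Fin n => (l : ℕ)) =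
      (Int.castRingHom k).mapMatrix (of fun i j : Fin n => (Nat.choose (J' i) j : ℤ)) := by
    ext i j
    simp [binomMat]
  have h1 := congrArg (Int.castRingHom k) (binom_det_int J')
  rw [map_mul, RingHom.map_det, ← hmap] at h1
  intro h0
  rw [h0, mul_zero] at h1
  rw [map_prod] at h1
  have := Finset.prod_eq_zero_iff.mp h1.symm
  obtain ⟨i, -, hi⟩ := this
  rw [map_prod] at hi
  obtain ⟨j, hj, hij⟩ := Finset.prod_eq_zero_iff.mp hi
  rw [Finset.mem_Ioi] at hj
  have hlt := hJ' hj
  have hcast : (Int.castRingHom k) ((J' j : ℤ) - (J' i : ℤ)) = ((J' j - J' i : ℕ) : k) := by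
    rw [Nat.cast_sub hlt.le]; simp
  rw [hcast] at hij
  exact hinv (J' j - J' i) (by omega) (by have := hle j; omega) hij

end Binom

/-- invertibility of small integers from the characteristic hypothesis. -/
lemma inv_of_char {N : ℤ} (hchar : ringChar k = 0 ∨ N < ringChar k) {N' : ℕ} (hN' : (N' : ℤ) ≤ N)
    (a : ℕ) (h1 : 1 ≤ a) (ha : a ≤ N') : ((a : ℕ) : k) ≠ 0 := by
  intro h0
  have hdvd := (ringChar.spec k a).mp h0
  rcases hchar with h | h
  · rw [h, zero_dvd_iff] at hdvd
    omega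
  · have hpos : 0 < ringChar k := by
      rcases Nat.eq_zero_or_pos (ringChar k) with h' | h'
      · rw [h', zero_dvd_iff] at hdvd; omega
      · exact h'
    have := Nat.le_of_dvd (by omega) hdvd
    omega

end Groth.Agent.Lib.LeadWD
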