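import Groth.Agent.Lib.LeadWD1

/-! Divisor of a differential through expansions: finiteness and change of variable. -/

namespace Groth.Agent.Lib.LeadWD

open FunFld WithZero Groth.Agent.Lib.LeadFF Groth.Agent.Lib.LeadSV Groth.Agent.Lib.LeadHS
open Polynomial

universe u v
variable {k : Type u} {K : Type v} [Field k] [Field K] [Algebra k K]

lemma D_eq_hasseD_smul (hK : IsFunctionField k K) (hg : IsGeometric k K) {t : K}
    {Ht : K →ₐ[k] PowerSeries K} (hHt : LocRes.IsHasseFamily t Ht) (s : K) :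
    KaehlerDifferential.D k K s = LocRes.hasseD Ht 1 s • KaehlerDifferential.D k K t := by
  obtain ⟨c, hc⟩ := (span_of_hasse hK hg hHt).2 (KaehlerDifferential.D k K s)
  have h1 := congrArg (hasseDer Ht hHt.2).liftKaehlerDifferential hc
  rw [map_smul, Derivation.liftKaehlerDifferential_comp_D,
    Derivation.liftKaehlerDifferential_comp_D, hasseDer_apply, hasseDer_apply, hHt.1] at h1
  have h2 : c = LocRes.hasseD Ht 1 s := by
    rw [LocRes.hasseD_apply, h1]
    simp [PowerSeries.coeff_C]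
  rw [hc, h2]

lemma D_exp_ne_zero (hK : IsFunctionField k K) (hg : IsGeometric k K) {t : K}
    {Ht : K →ₐ[k] PowerSeries K} (hHt : LocRes.IsHasseFamily t Ht) (P : Place k K)
    {F : Type*} [Field F] [Algebra k F]
    (φ : K →ₐ[k] LaurentSeries F) (hφ : LocRes.IsExpansionAt P.1 φ) :
    LocRes.D F (φ t) ≠ 0 := by
  obtain ⟨π, hπ⟩ := hφ.2.2
  intro h0
  obtain ⟨c, hc⟩ := (span_of_hasse hK hg hHt).2 (KaehlerDifferential.D k K π)
  have h1 := Groth.Agent.Lib.LeadMS.D_expand φ hc
  rw [h0, mul_zero] at h1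
  have hv : Valued.v (φ π) = exp (-(1 : ℤ)) := by rw [hφ.1, hπ]
  have := Groth.Agent.Lib.LeadMS.val_D_of_ne hv (by simp)
  rw [h1, map_zero] at this
  exact exp_ne_zero this.symm

theorem ordDiff_change (hK : IsFunctionField k K) (hg : IsGeometric k K) {s t : K}
    {Hs Ht : K →ₐ[k] PowerSeries K} (hHs : LocRes.IsHasseFamily s Hs)
    (hHt : LocRes.IsHasseFamily t Ht) (P : Place k K)
    {F : Type*} [Field F] [Algebra k F]
    (φ : K →ₐ[k] LaurentSeries F) (hφ : LocRes.IsExpansionAt P.1 φ) :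
    LocRes.ordDiff φ 1 s = P.ord (LocRes.hasseD Ht 1 s) + LocRes.ordDiff φ 1 t := by
  have hd := hasseD_one_ne_zero hK hg hHs hHt
  have h1 := Groth.Agent.Lib.LeadMS.D_expand φ (D_eq_hasseD_smul hK hg hHt s)
  have h2 := D_exp_ne_zero hK hg hHt P φ hφ
  unfold LocRes.ordDiff
  rw [Groth.Agent.Lib.LeadMS.vDiff_one, Groth.Agent.Lib.LeadMS.vDiff_one, h1, map_mul, hφ.1,
    log_mul ((Valuation.ne_zero_iff _).mpr hd) ((Valuation.ne_zero_iff _).mpr h2)]
  unfold Place.ord
  ring

/-- a polynomial in an integral element is integral. -/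
lemma val_aeval_le_one (P : Place k K) {s : K} (hs : P.1 s ≤ 1) (g : k[X]) :
    P.1 (aeval s g) ≤ 1 := by
  rw [aeval_eq_sum_range]
  apply Valuation.map_sum_le
  intro i _
  rw [Algebra.smul_def, map_mul, map_pow]
  calc P.1 (algebraMap k K (g.coeff i)) * P.1 s ^ i ≤ 1 * 1 :=
        mul_le_mul' (P.2.1 _) (pow_le_one' hs i)
    _ = 1 := one_mul _

/-- valuation of a polynomial in `s` in terms of the multiplicity of the residue of `s`. -/
lemma val_aeval (P : Place k K) {s : K} (hs : P.1 s ≤ 1) (c : k)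
    (hc : P.1 (s - algebraMap k K c) < 1) (g : k[X]) (hg : g ≠ 0) :
    P.1 (aeval s g) = P.1 (s - algebraMap k K c) ^ (g.rootMultiplicity c) := by
  obtain ⟨q, hq, hndvd⟩ := exists_eq_pow_rootMultiplicity_mul_and_not_dvd g hg c
  have hqc : q.eval c ≠ 0 := by
    intro h
    exact hndvd (dvd_iff_isRoot.mpr h)
  have hq1 : P.1 (aeval s q) = 1 := by
    have hdecomp := (mul_divByMonic_eq_iff_isRoot (p := q - C (q.eval c)) (a := c)).mpr
      (by simp [IsRoot])
    have hq' : q = (X - C c) * ((q - C (q.eval c)) /ₘ (X - C c)) + C (q.eval c) := by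
      rw [hdecomp]; ring
    rw [hq', map_add, map_mul, aeval_C, map_sub, aeval_X, aeval_C]
    have h1 : P.1 ((s - algebraMap k K c) * aeval s ((q - C (q.eval c)) /ₘ (X - C c))) < 1 := by
      rw [map_mul]
      calc _ ≤ P.1 (s - algebraMap k K c) * 1 := mul_le_mul' le_rfl (val_aeval_le_one P hs _)
        _ = P.1 (s - algebraMap k K c) := mul_one _
        _ < 1 := hc
    have h2 : P.1 (algebraMap k K (q.eval c)) = 1 := place_trivOn P _ hqc
    rw [Valuation.map_add_eq_of_lt_right _ (by rwa [h2]), h2]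
  conv_lhs => rw [hq]
  rw [map_mul, map_pow, map_sub, aeval_X, aeval_C, map_mul, map_pow, hq1, mul_one]

end Groth.Agent.Lib.LeadWD
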