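import Groth.Agent.Lib.LeadWD4

/-! Fixed points are Weierstrass points (S12610). -/

namespace Groth.Agent.Lib.LeadWD

open FunFld WithZero Groth.Agent.Lib.LeadFF Groth.Agent.Lib.LeadSV Groth.Agent.Lib.LeadHS

universe u v
variable {k : Type u} {K : Type v} [Field k] [Field K] [Algebra k K]

lemma hasseD_one_unif_ne_zero [IsAlgClosed k] (hK : IsFunctionField k K) {s : K}
    {H : K →ₐ[k] PowerSeries K} (hH : LocRes.IsHasseFamily s H) (P : Place k K)
    (φ : K →ₐ[k] LaurentSeries k) (hφ : LocRes.IsExpansionAt P.1 φ) {t : K}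
    (ht : P.1 t = exp (-1 : ℤ)) : LocRes.hasseD H 1 t ≠ 0 := by
  have hg := Groth.Agent.Lib.LeadMS.isGeometric_of_isAlgClosed k K
  intro h0
  have h1 := D_eq_hasseD_smul hK hg hH t
  rw [h0] at h1
  have h2 := Groth.Agent.Lib.LeadMS.D_expand φ h1
  rw [map_zero, zero_mul] at h2
  have hv : Valued.v (φ t) = exp (-(1 : ℤ)) := by rw [hφ.1, ht]
  have := Groth.Agent.Lib.LeadMS.val_D_of_ne hv (by simp)
  rw [h2, map_zero] at this
  exact exp_ne_zero this.symm

theorem wDiv_pos_of_fixed [IsAlgClosed k] (hK : IsFunctionField k K) {n : ℕ}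
    (φ : Fin (n + 1) → K) (hφ : LinearIndependent k φ) (h0 : φ 0 ≠ 0)
    (hbir : IntermediateField.adjoin k (Set.range fun i => φ i / φ 0) = ⊤)
    (τ : K →ₐ[k] K) (hτ : τ ≠ AlgHom.id k K) (P : Place k K) (hP : IsFixedPt τ P)
    (s : K) (H : K →ₐ[k] PowerSeries K) (hH : LocRes.IsHasseFamily s H)
    (J : Fin n → ℕ) (hJ : IsOrders K (hcol τ H φ) J)
    (Φ : Place k K → (K →ₐ[k] LaurentSeries k))
    (hΦ : ∀ P : Place k K, LocRes.IsExpansionAt P.1 (Φ P)) :
    0 < wDiv τ H Φ s φ J P := by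
  classical
  have hg := Groth.Agent.Lib.LeadMS.isGeometric_of_isAlgClosed k K
  obtain ⟨t, ht⟩ := (hΦ P).2.2
  have hd := hasseD_one_unif_ne_zero hK hH P (Φ P) (hΦ P) ht
  obtain ⟨Ht, hHt, -⟩ := exists_hasse hH t hd
  obtain ⟨i0, hi0ne, hi0max⟩ := exists_maxIdx φ P ⟨0, h0⟩
  set y : K := (φ i0)⁻¹ with hydef
  have hy : y ≠ 0 := inv_ne_zero hi0ne
  set φ' : Fin (n + 1) → K := fun i => y * φ i with hφ'def
  have hφ'eq : φ' = y • φ := rfl
  have hφ'A : ∀ i, φ' i = y * ∑ j, (1 : Matrix (Fin (n + 1)) (Fin (n + 1)) k) i j • φ j := by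
    intro i
    simp [hφ'def, Matrix.one_apply, Finset.sum_ite_eq]
  have hinv := wDiv_invariant hK φ hφ τ hH hHt J hJ 1 (by simp) y hy φ' hφ'A Φ hΦ
  rw [← hinv]
  have hnorm : ∀ i, P.1 (φ' i) ≤ 1 := by
    intro i
    show P.1 ((φ i0)⁻¹ * φ i) ≤ 1
    rw [map_mul, map_inv₀]
    have hne : P.1 (φ i0) ≠ 0 := (Valuation.ne_zero_iff _).mpr hi0ne
    rw [inv_mul_le_iff₀ (zero_lt_iff.mpr hne), mul_one]
    exact hi0max i
  have hone : φ' i0 = 1 := inv_mul_cancel₀ hi0ne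
  have heff : (1 : K) ∈ Submodule.span k (Set.range φ') := by
    rw [← hone]; exact Submodule.subset_span ⟨i0, rfl⟩
  have hφ'li : LinearIndependent k φ' := by
    have := hφ.map' (LinearMap.mulLeft k y) (by
      rw [LinearMap.ker_eq_bot]
      intro a b hab
      exact mul_left_cancel₀ hy hab)
    exact this
  -- orders for the new data
  have hJt : IsOrders K (hcol τ Ht φ) J := ((orders_change hK hg hH hHt τ φ).1 J).mpr hJ
  have hJ'' : IsOrders K (hcol τ Ht φ') J := by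
    rw [hφ'eq]; exact ((orders_smul φ τ Ht hHt y hy).1 J).mpr hJt
  -- orders at `P`
  have hrows := rows_at_place_indep hK φ' hφ'li P hnorm ht hHt
  have hc0 : hcolAt P Ht φ' 0 ≠ 0 := by
    intro h
    have h1 := congrFun h i0
    have h2 : evalP P (φ' i0) = 0 := h1
    rw [hone, evalP_eq_of_sub_lt P (c := 1) (by simp)] at h2
    simp at h2
  obtain ⟨J', hJ', -⟩ := exists_orders (c := hcolAt P Ht φ') hc0 hrows
  obtain ⟨hge, -⟩ := wDiv_at_fixed_ge hK τ P hP φ' hφ'li heff hnorm ht hHt J hJ'' J' hJ' Φ hΦ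
  refine lt_of_lt_of_le ?_ hge
  -- comparison of the orders
  have hpos : ∀ l, 1 ≤ J' l := fun l => orders_at_pos P φ' hHt hJ' l
  obtain ⟨-, hwo⟩ := wronskian_order hK τ P hP φ' hφ'li heff hnorm ht hHt J' hJ' J'
  have hdet1 : P.1 (wrMat τ Ht φ' J').det = exp (-(∑ l, ((J' l : ℤ) - J' l))) :=
    (hwo (Or.inl fun l => hpos l)).mpr (by rw [binomMat_self_det J' hJ'.1]; exact one_ne_zero)
  have hdet : (wrMat τ Ht φ' J').det ≠ 0 := by
    intro h
    rw [h, map_zero] at hdet1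
    exact exp_ne_zero hdet1.symm
  have hle := orders_le_of_det_ne_zero φ' τ Ht J hJ'' J' hJ'.1 hdet
  have hjump : IsJump K (hcol τ H φ) (0 + 1) := by
    by_contra hnj
    exact hτ ((not_isJump_one_iff φ h0 hbir τ s H hH).mp hnj)
  obtain ⟨l0, hl0⟩ := (hJ.2 0).mpr hjump
  have hterm : ∀ l ∈ Finset.univ, (0 : ℤ) ≤ (J' l : ℤ) - J l := by
    intro l _
    have := hle l
    omega
  have := Finset.single_le_sum hterm (Finset.mem_univ l0)
  have h1 := hpos l0
  rw [hl0] at this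
  omega

end Groth.Agent.Lib.LeadWD
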