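import Groth.Agent.Lib.LeadWD6
import Groth.Agent.S12612

/-! The adjoint divisor under a change of projective coordinates (S12616). -/

namespace Groth.Agent.Lib.LeadWD

open FunFld WithZero Groth.Agent.Lib.LeadFF Groth.Agent.Lib.LeadSV Groth.Agent.Lib.LeadHS

theorem adjoint_change
    (k K : Type*) [Field k] [IsAlgClosed k] [Field K] [Algebra k K]
    (hK : FunFld.IsFunctionField k K) (f : MvPolynomial (Fin 3) k) (e : ℕ) (hf : f.IsHomogeneous e)
    (x y : K) (hfxy : MvPolynomial.aeval ![(1 : K), x, y] f = 0)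
    (hdx : KaehlerDifferential.D k K x ≠ 0)
    (he : (FunFld.mapDiv k ![(1 : K), x, y]).deg = e)
    (A : Matrix (Fin 3) (Fin 3) k) (hA : A.det ≠ 0)
    (u : Fin 3 → K) (hu : ∀ i, ∑ j, algebraMap k K (A i j) * u j = ![(1 : K), x, y] i)
    (hu0 : u 0 ≠ 0)
    (hfy : (MvPolynomial.aeval ![(1 : K), x, y] (MvPolynomial.pderiv 2 f)) ≠ 0)
    (hfy' : (MvPolynomial.aeval ![(1 : K), u 1 / u 0, u 2 / u 0] (MvPolynomial.pderiv 2 (MvPolynomial.aeval (fun i : Fin 3 => ∑ j, MvPolynomial.C (A i j) * MvPolynomial.X j) f))) ≠ 0)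
    (Φ : FunFld.Place k K → (K →ₐ[k] LaurentSeries k))
    (hΦ : ∀ P : FunFld.Place k K, LocRes.IsExpansionAt P.1 (Φ P)) :
    ((FunFld.mapDiv k ![(1 : K), x, y]).deg - 3) • FunFld.mapDiv k ![(1 : K), x, y] -
        FunFld.divDiff Φ (MvPolynomial.aeval ![(1 : K), x, y] (MvPolynomial.pderiv 2 f))⁻¹ x =
      ((FunFld.mapDiv k ![(1 : K), u 1 / u 0, u 2 / u 0]).deg - 3) •
          FunFld.mapDiv k ![(1 : K), u 1 / u 0, u 2 / u 0] -
        FunFld.divDiff Φ (MvPolynomial.aeval ![(1 : K), u 1 / u 0, u 2 / u 0] (MvPolynomial.pderiv 2 (MvPolynomial.aeval (fun i : Fin 3 => ∑ j, MvPolynomial.C (A i j) * MvPolynomial.X j) f)))⁻¹ (u 1 / u 0) := by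
  classical
  have hid := Groth.Agent.S12612.result k K f e hf x y hfxy A hA u hu hu0 hfy hfy'
  set v : Fin 3 → K := ![(1 : K), x, y] with hv
  set w : Fin 3 → K := ![(1 : K), u 1 / u 0, u 2 / u 0] with hw
  set F2 : K := MvPolynomial.aeval v (MvPolynomial.pderiv 2 f) with hF2
  set F2' : K := MvPolynomial.aeval w (MvPolynomial.pderiv 2 (MvPolynomial.aeval
    (fun i : Fin 3 => ∑ j, MvPolynomial.C (A i j) * MvPolynomial.X j) f)) with hF2'
  set c : K := algebraMap k K A.det * (u 0)⁻¹ ^ ((e : ℤ) - 3) with hc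
  have hcA : algebraMap k K A.det ≠ 0 := by
    rw [Ne, map_eq_zero_iff _ (algebraMap k K).injective]; exact hA
  have hz0 : (u 0)⁻¹ ^ ((e : ℤ) - 3) ≠ 0 := zpow_ne_zero _ (inv_ne_zero hu0)
  have hc0 : c ≠ 0 := mul_ne_zero hcA hz0
  -- `dx' ≠ 0`
  have hdx' : KaehlerDifferential.D k K (u 1 / u 0) ≠ 0 := by
    intro h0
    rw [h0, smul_zero] at hid
    rcases smul_eq_zero.mp hid with h | h
    · exact inv_ne_zero hfy h
    · exact hdx h
  -- the divisors of the differentials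
  have hdd : divDiff Φ F2⁻¹ x = FunFld.div k c + divDiff Φ F2'⁻¹ (u 1 / u 0) := by
    rw [divDiff_congr hid Φ, divDiff_eq hK (mul_ne_zero hc0 (inv_ne_zero hfy')) hdx' Φ hΦ,
      divDiff_eq hK (inv_ne_zero hfy') hdx' Φ hΦ, div_mul hK hc0 (inv_ne_zero hfy'), add_assoc]
  have hdc : FunFld.div k c = -(((e : ℤ) - 3) • FunFld.div k (u 0)) := by
    rw [hc, div_mul hK hcA hz0, div_const hK hA, zero_add, div_zpow hK (inv_ne_zero hu0),
      div_inv hK, smul_neg]
  -- the map divisors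
  have hwj : ∀ j, w j = (u 0)⁻¹ * u j := by
    intro j
    fin_cases j
    · simp [hw, hu0]
    · simp [hw, div_eq_inv_mul]
    · simp [hw, div_eq_inv_mul]
  have hvw : ∀ i, v i = u 0 * ∑ j, A i j • w j := by
    intro i
    rw [← hu i, Finset.mul_sum]
    refine Finset.sum_congr rfl fun j _ => ?_
    rw [hwj, Algebra.smul_def]
    field_simp
  have hmv : mapDiv k v = mapDiv k w - FunFld.div k (u 0) :=
    mapDiv_change' hK w v A hA (u 0) hu0 hvw 0 (by simp [hw]) 0 (by simp [hv])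
  have hmw : mapDiv k w = mapDiv k v + FunFld.div k (u 0) := by
    rw [hmv]; abel
  have hdeg : (mapDiv k w).deg = (mapDiv k v).deg := by
    rw [hmw, deg_add, deg_div hK, add_zero]
  rw [hdeg, he, hdd, hdc, hmw]
  simp only [smul_add]
  abel

end Groth.Agent.Lib.LeadWD
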