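import Groth.Agent.Lib.LeadWD8

/-! Stabilization of order sequences under a derivation; classical orders. -/

namespace Groth.Agent.Lib.LeadWD

open FunFld WithZero Groth.Agent.Lib.LeadFF Groth.Agent.Lib.LeadSV Groth.Agent.Lib.LeadHS

universe u v

section Abstract

variable {R V : Type*} [Field R] [AddCommGroup V] [Module R V]

/-- If a column sequence is compatible with a derivation-like operator and some position `m ≥ 1` is
not an order, then no later position (up to the range where integers are invertible) is. -/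
theorem not_jump_of_not_jump (𝔇 : V →+ V) (d : R → R)
    (hleib : ∀ (f : R) (v : V), 𝔇 (f • v) = d f • v + f • 𝔇 v)
    (c : ℕ → V) (h01 : c 0 = c 1)
    (hc : ∀ i, 𝔇 (c (i + 1)) = ((i + 1 : ℕ) : R) • c (i + 2))
    {m j : ℕ} (hm : 1 ≤ m) (hmj : m ≤ j) (hinv : ∀ i : ℕ, 1 ≤ i → i ≤ j → ((i : ℕ) : R) ≠ 0)
    (hnj : ¬ IsJump R c (m + 1)) : ¬ IsJump R c (j + 1) := by
  unfold IsJump at hnj ⊢
  rw [not_not] at hnj ⊢
  set W := Submodule.span R (c '' Set.Iio (m + 1)) with hW
  have hgen : ∀ i, i ≤ m + 1 → c i ∈ W := by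
    intro i hi
    rcases Nat.lt_or_ge i (m + 1) with h | h
    · exact Submodule.subset_span ⟨i, h, rfl⟩
    · have : i = m + 1 := by omega
      rw [this]; exact hnj
  have hstab : ∀ v ∈ W, 𝔇 v ∈ W := by
    intro v hv
    induction hv using Submodule.span_induction with
    | mem x hx =>
      obtain ⟨i, hi, rfl⟩ := hx
      rw [Set.mem_Iio] at hi
      rcases Nat.eq_zero_or_pos i with rfl | hpos
      · rw [h01, hc 0]
        exact W.smul_mem _ (hgen 2 (by omega))
      · obtain ⟨i', rfl⟩ : ∃ i', i = i' + 1 := ⟨i - 1, by omega⟩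
        rw [hc i']
        exact W.smul_mem _ (hgen (i' + 2) (by omega))
    | zero => rw [map_zero]; exact W.zero_mem
    | add x y _ _ hx hy => rw [map_add]; exact W.add_mem hx hy
    | smul a x hx hx' =>
      rw [hleib]
      exact W.add_mem (W.smul_mem _ hx) (W.smul_mem _ hx')
  have hall : ∀ i, i ≤ j → c (i + 1) ∈ W := by
    intro i
    induction i with
    | zero => intro _; exact hgen 1 (by omega)
    | succ i ih =>
      intro hi
      have h1 := hstab _ (ih (by omega))
      rw [hc i] at h1
      have hne := hinv (i + 1) (by omega) hi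
      have := W.smul_mem (((i + 1 : ℕ) : R))⁻¹ h1
      rwa [smul_smul, inv_mul_cancel₀ hne, one_smul] at this
  have hsub : W ≤ Submodule.span R (c '' Set.Iio (j + 1)) := by
    apply Submodule.span_mono
    apply Set.image_mono
    intro x hx
    rw [Set.mem_Iio] at hx ⊢
    omega
  exact hsub (hall j le_rfl)

/-- the order sequence is `(1, 2, …, n)` if all orders are positive and bounded by a range where
integers are invertible. -/
theorem orders_classical (𝔇 : V →+ V) (d : R → R)
    (hleib : ∀ (f : R) (v : V), 𝔇 (f • v) = d f • v + f • 𝔇 v)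
    (c : ℕ → V) (h01 : c 0 = c 1)
    (hc : ∀ i, 𝔇 (c (i + 1)) = ((i + 1 : ℕ) : R) • c (i + 2))
    {n : ℕ} {J : Fin n → ℕ} (hJ : IsOrders R c J) (hpos : ∀ l, 1 ≤ J l) (N : ℕ)
    (hN : ∀ l, J l ≤ N) (hinv : ∀ i : ℕ, 1 ≤ i → i ≤ N → ((i : ℕ) : R) ≠ 0) :
    ∀ l : Fin n, J l = (l : ℕ) + 1 := by
  have key : ∀ m : ℕ, ∀ l : Fin n, (l : ℕ) = m → J l = (l : ℕ) + 1 := by
    intro m
    induction m using Nat.strong_induction_on with
    | _ m ih =>
      intro l hl
      have hge : (l : ℕ) + 1 ≤ J l := by
        rcases Nat.eq_zero_or_pos (l : ℕ) with h0 | hpos'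
        · rw [h0]; exact hpos l
        · have hlt : (⟨(l : ℕ) - 1, by omega⟩ : Fin n) < l := by
            rw [Fin.lt_def]; simp; omega
          have h1 := hJ.1 hlt
          have h2 := ih ((l : ℕ) - 1) (by omega) ⟨(l : ℕ) - 1, by omega⟩ rfl
          simp only at h2
          omega
      by_contra hne
      have hgt : (l : ℕ) + 1 < J l := by omega
      -- `l + 1` is not an order
      have hnot : ¬ IsJump R c ((l : ℕ) + 1 + 1) := by
        intro hj
        obtain ⟨l'', hl''⟩ := (hJ.2 ((l : ℕ) + 1)).mpr hj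
        rcases lt_or_ge l'' l with h | h
        · have := ih (l'' : ℕ) (by rw [← hl]; exact h) l'' rfl
          rw [Fin.lt_def] at h
          omega
        · have := hJ.1.monotone h
          omega
      have := not_jump_of_not_jump 𝔇 d hleib c h01 hc (m := (l : ℕ) + 1) (j := J l)
        (by omega) (by omega) (fun i hi hij => hinv i hi (hij.trans (hN l))) hnot
      exact this ((hJ.2 (J l)).mp ⟨l, rfl⟩)
  intro l
  exact key l l rfl

end Abstract

end Groth.Agent.Lib.LeadWD
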