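import Mathlib

/-! Logarithmic derivatives of power series: the algebra behind `Z'/Z = ∑ N_r t^{r-1}`. -/

namespace Groth.Agent.Lib.LeadZC

open PowerSeries

variable {F : Type*} [Field F]

/-- `f' = M f`. -/
def HasLogDeriv (f M : F⟦X⟧) : Prop := d⁄dX F f = M * f

lemma HasLogDeriv.mul {f g M N : F⟦X⟧} (hf : HasLogDeriv f M) (hg : HasLogDeriv g N) :
    HasLogDeriv (f * g) (M + N) := by
  unfold HasLogDeriv at *
  rw [Derivation.leibniz, hf, hg, smul_eq_mul, smul_eq_mul]
  ring

lemma HasLogDeriv.sub {f g M : F⟦X⟧} (hf : HasLogDeriv f M) (hg : HasLogDeriv g M) :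
    HasLogDeriv (f - g) M := by
  unfold HasLogDeriv at *
  rw [map_sub, hf, hg]
  ring

lemma hasLogDeriv_one : HasLogDeriv (1 : F⟦X⟧) 0 := by
  unfold HasLogDeriv
  rw [derivative_one, zero_mul]

lemma HasLogDeriv.prod {ι : Type*} (s : Finset ι) (f M : ι → F⟦X⟧)
    (h : ∀ i ∈ s, HasLogDeriv (f i) (M i)) :
    HasLogDeriv (∏ i ∈ s, f i) (∑ i ∈ s, M i) := by
  classical
  induction s using Finset.induction_on with
  | empty => simpa using hasLogDeriv_one
  | insert a s ha ih =>
    rw [Finset.prod_insert ha, Finset.sum_insert ha]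
    exact (h a (Finset.mem_insert_self a s)).mul
      (ih (fun i hi => h i (Finset.mem_insert_of_mem hi)))

/-- the geometric series `a / (1 - a X)`. -/
noncomputable def geo (a : F) : F⟦X⟧ := PowerSeries.mk fun r => a ^ (r + 1)

lemma coeff_geo (a : F) (r : ℕ) : coeff r (geo a) = a ^ (r + 1) := coeff_mk _ _

lemma geo_mul (a : F) : geo a * (1 - C a * X) = C a := by
  have h : geo a * (1 - C a * X) = geo a - (C a * geo a) * X := by ring
  rw [h]
  ext n
  cases n with
  | zero =>
    rw [map_sub, coeff_zero_mul_X, sub_zero, coeff_geo, coeff_zero_C]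
    simp
  | succ m =>
    rw [map_sub, coeff_succ_mul_X, coeff_C_mul, coeff_geo, coeff_geo, coeff_C]
    rw [if_neg (Nat.succ_ne_zero m)]
    ring

lemma hasLogDeriv_linear (a : F) : HasLogDeriv (1 - C a * X) (-geo a) := by
  unfold HasLogDeriv
  rw [neg_mul, geo_mul, map_sub, derivative_one, Derivation.leibniz, derivative_C, derivative_X]
  simp

lemma constantCoeff_linear (a : F) : constantCoeff (1 - C a * X : F⟦X⟧) = 1 := by
  simp

lemma constantCoeff_prod_linear {m : ℕ} (α : Fin m → F) :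
    constantCoeff (∏ i, (1 - C (α i) * X) : F⟦X⟧) = 1 := by
  rw [map_prod]
  exact Finset.prod_eq_one (fun i _ => constantCoeff_linear _)

lemma ne_zero_of_constantCoeff {f : F⟦X⟧} (h : constantCoeff f = 1) : f ≠ 0 := by
  rintro rfl
  rw [map_zero] at h
  exact zero_ne_one h

lemma HasLogDeriv.unique {f M N : F⟦X⟧} (hf : f ≠ 0) (h1 : HasLogDeriv f M)
    (h2 : HasLogDeriv f N) : M = N := by
  unfold HasLogDeriv at *
  rw [h1] at h2
  exact mul_right_cancel₀ hf h2

lemma eq_zero_of_hasLogDeriv [CharZero F] {h M : F⟦X⟧} (hd : HasLogDeriv h M)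
    (h0 : constantCoeff h = 0) : h = 0 := by
  ext n
  rw [map_zero]
  induction n using Nat.strong_induction_on with
  | _ n ih =>
    cases n with
    | zero => rw [coeff_zero_eq_constantCoeff_apply]; exact h0
    | succ m =>
      have := congrArg (coeff m) hd
      rw [coeff_derivative, coeff_mul] at this
      have hz : ∑ p ∈ Finset.HasAntidiagonal.antidiagonal m, coeff p.1 M * coeff p.2 h = 0 := by
        apply Finset.sum_eq_zero
        intro p hp
        have hle : p.1 + p.2 = m := Finset.HasAntidiagonal.mem_antidiagonal.mp hp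
        rw [ih p.2 (by omega), mul_zero]
      rw [hz] at this
      have hne : ((m : F) + 1) ≠ 0 := Nat.cast_add_one_ne_zero m
      exact (mul_eq_zero.mp this).resolve_right hne

lemma hasLogDeriv_W (q : F) :
    HasLogDeriv ((1 - X) * (1 - C q * X) : F⟦X⟧) (-geo 1 + -geo q) := by
  have h1 := hasLogDeriv_linear (1 : F)
  rw [map_one, one_mul] at h1
  exact h1.mul (hasLogDeriv_linear q)

lemma hasLogDeriv_prod_linear {m : ℕ} (α : Fin m → F) :
    HasLogDeriv (∏ i, (1 - C (α i) * X) : F⟦X⟧) (∑ i, -geo (α i)) :=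
  HasLogDeriv.prod _ _ _ (fun i _ => hasLogDeriv_linear (α i))

/-- from the factorisation of the numerator to the power sums. -/
theorem coeff_logDeriv_of_factor (q : F) {m : ℕ} (α : Fin m → F) (Z M : F⟦X⟧)
    (hZ : HasLogDeriv Z M)
    (hL : (1 - X) * (1 - C q * X) * Z = ∏ i, (1 - C (α i) * X)) (r : ℕ) :
    coeff r M = 1 + q ^ (r + 1) - ∑ i, α i ^ (r + 1) := by
  have h1 : HasLogDeriv ((1 - X) * (1 - C q * X) * Z) (-geo 1 + -geo q + M) :=
    (hasLogDeriv_W q).mul hZ
  rw [hL] at h1
  have h2 := hasLogDeriv_prod_linear α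
  have hne : (∏ i, (1 - C (α i) * X) : F⟦X⟧) ≠ 0 :=
    ne_zero_of_constantCoeff (constantCoeff_prod_linear α)
  have heq := h1.unique hne h2
  have hM : M = geo 1 + geo q + ∑ i, -geo (α i) := by
    rw [← heq]; ring
  rw [hM, map_add, map_add, map_sum, coeff_geo, coeff_geo, one_pow]
  simp only [map_neg, coeff_geo, Finset.sum_neg_distrib]
  ring

/-- from the power sums back to the factorisation. -/
theorem factor_of_coeff_logDeriv [CharZero F] (Q : F) {m : ℕ} (β : Fin m → F) (Z M : F⟦X⟧)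
    (hZ : HasLogDeriv Z M) (h0 : constantCoeff Z = 1)
    (hM : ∀ r, coeff r M = 1 + Q ^ (r + 1) - ∑ i, β i ^ (r + 1)) :
    (1 - X) * (1 - C Q * X) * Z = ∏ i, (1 - C (β i) * X) := by
  have h1 : HasLogDeriv ((1 - X) * (1 - C Q * X) * Z) (-geo 1 + -geo Q + M) :=
    (hasLogDeriv_W Q).mul hZ
  have h2 := hasLogDeriv_prod_linear β
  have hMM : -geo 1 + -geo Q + M = ∑ i, -geo (β i) := by
    ext r
    rw [map_add, map_add, map_neg, map_neg, coeff_geo, coeff_geo, hM, map_sum, one_pow]
    simp only [map_neg, coeff_geo, Finset.sum_neg_distrib]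
    ring
  rw [hMM] at h1
  have h3 := h1.sub h2
  have hc : constantCoeff ((1 - X) * (1 - C Q * X) * Z - ∏ i, (1 - C (β i) * X) : F⟦X⟧) = 0 := by
    rw [map_sub, constantCoeff_prod_linear, map_mul, map_mul, h0]
    simp
  exact sub_eq_zero.mp (eq_zero_of_hasLogDeriv h3 hc)

end Groth.Agent.Lib.LeadZC
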