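import Groth.Agent.Lib.LeadZT7

/-! The numerator of the zeta function: rationality, value at one, functional equation. -/

namespace Groth.Agent.Lib.LeadZT

open FunFld WithZero Groth.Agent.Lib.LeadFF

section PS

variable {k K : Type*} [Field k] [Field K] [Algebra k K]

lemma coeff_zetaZ (n : ℕ) :
    PowerSeries.coeff n (zetaZ k K) = (effDivCount k K n : ℤ) := PowerSeries.coeff_mk _ _

lemma numerZ_eq : numerZ k K = zetaZ k K -
    PowerSeries.C ((Nat.card k : ℤ) + 1) * (PowerSeries.X ^ 1 * zetaZ k K) +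
      PowerSeries.C (Nat.card k : ℤ) * (PowerSeries.X ^ 2 * zetaZ k K) := by
  unfold numerZ
  rw [map_add, map_one]
  ring

lemma coeff_numerZ_int (n : ℕ) : PowerSeries.coeff n (numerZ k K) =
    (effDivCount k K n : ℤ) -
      ((Nat.card k : ℤ) + 1) * (if 1 ≤ n then (effDivCount k K (n - 1) : ℤ) else 0) +
      (Nat.card k : ℤ) * (if 2 ≤ n then (effDivCount k K (n - 2) : ℤ) else 0) := by
  rw [numerZ_eq, map_add, map_sub, PowerSeries.coeff_C_mul, PowerSeries.coeff_C_mul,
    PowerSeries.coeff_X_pow_mul', PowerSeries.coeff_X_pow_mul', coeff_zetaZ, coeff_zetaZ,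
    coeff_zetaZ]

lemma coeff_numerZ_eq_Cfun (n : ℕ) :
    ((PowerSeries.coeff n (numerZ k K) : ℤ) : ℚ) = Cfun k K (n : ℤ) := by
  rw [coeff_numerZ_int]
  unfold Cfun
  rw [Afun_natCast]
  push_cast
  congr 1
  · congr 1
    congr 1
    split_ifs with h1
    · have : ((n : ℤ) - 1) = ((n - 1 : ℕ) : ℤ) := by omega
      rw [this, Afun_natCast]
    · rw [Afun_of_neg _ (by omega)]
  · congr 1
    split_ifs with h2
    · have : ((n : ℤ) - 2) = ((n - 2 : ℕ) : ℤ) := by omega
      rw [this, Afun_natCast]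
    · rw [Afun_of_neg _ (by omega)]

variable [Finite k]

lemma effDivCount_zero (hK : IsFunctionField k K) : effDivCount k K 0 = 1 := by
  unfold effDivCount
  rw [Nat.card_eq_one_iff_unique]
  refine ⟨⟨?_⟩, ⟨⟨0, le_rfl, by rw [deg_zero]; rfl⟩⟩⟩
  rintro ⟨D, hD0, hDd⟩ ⟨E, hE0, hEd⟩
  have key : ∀ D : Divisor k K, 0 ≤ D → D.deg = ((0 : ℕ) : ℤ) → D = 0 := by
    intro D hD0 hDd
    ext P
    have hterm : D P * (P.deg : ℤ) ≤ 0 := by
      by_cases hP : P ∈ D.support
      · have h0 : D.deg = 0 := by rw [hDd]; rfl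
        rw [← h0]
        unfold Divisor.deg Finsupp.sum
        exact Finset.single_le_sum (f := fun P => D P * (P.deg : ℤ))
          (fun Q _ => mul_nonneg (hD0 Q) (by positivity)) hP
      · rw [Finsupp.notMem_support_iff.mp hP]; simp
    have hdeg : (1 : ℤ) ≤ P.deg := by exact_mod_cast deg_pos hK P
    have hDP : 0 ≤ D P := hD0 P
    rw [Finsupp.coe_zero, Pi.zero_apply]
    nlinarith
  apply Subtype.ext
  exact (key D hD0 hDd).trans (key E hE0 hEd).symm

/-- the three statements of the functional equation. -/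
theorem numerZ_main (hK : IsFunctionField k K) :
    (∀ n : ℕ, 2 * genus k K < n → PowerSeries.coeff n (numerZ k K) = 0) ∧
    PowerSeries.coeff (2 * genus k K) (numerZ k K) ≠ 0 ∧
    (∀ i : ℕ, i ≤ 2 * genus k K →
      (((PowerSeries.coeff (2 * genus k K - i) (numerZ k K) : ℤ)) : ℚ) =
        (Nat.card k : ℚ) ^ ((genus k K : ℤ) - i) *
          (((PowerSeries.coeff i (numerZ k K) : ℤ)) : ℚ)) ∧
    (∀ N : ℕ, 2 * genus k K ≤ N →
      ∑ i ∈ Finset.range (N + 1), PowerSeries.coeff i (numerZ k K) = (classNum k K : ℤ)) := by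
  classical
  haveI := finite_Cl0 hK
  haveI : Fintype (Cl0 k K) := Fintype.ofFinite _
  obtain ⟨D₁, hD₁⟩ := deg_surjective k K hK 1
  have hq0 : (Nat.card k : ℚ) ≠ 0 := by
    have : 0 < Nat.card k := Nat.card_pos
    positivity
  refine ⟨?_, ?_, ?_, ?_⟩
  · intro n hn
    have h := Cfun_symm hK hD₁ (2 * (genus k K : ℤ) - n)
    rw [show 2 * (genus k K : ℤ) - (2 * (genus k K : ℤ) - n) = (n : ℤ) by ring,
      Cfun_of_neg (2 * (genus k K : ℤ) - n) (by omega), mul_zero, ← coeff_numerZ_eq_Cfun] at h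
    exact_mod_cast h
  · have h := Cfun_symm hK hD₁ 0
    have hC0 : Cfun k K 0 = 1 := by
      unfold Cfun
      rw [Afun_of_neg (0 - 1) (by omega), Afun_of_neg (0 - 2) (by omega),
        show (0 : ℤ) = ((0 : ℕ) : ℤ) from rfl, Afun_natCast, effDivCount_zero hK]
      simp
    rw [sub_zero, sub_zero, hC0, mul_one,
      show (2 * (genus k K : ℤ)) = ((2 * genus k K : ℕ) : ℤ) by push_cast; ring,
      ← coeff_numerZ_eq_Cfun] at h
    intro h0
    rw [h0, Int.cast_zero] at h
    exact zpow_ne_zero _ hq0 h.symm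
  · intro i hi
    have h := Cfun_symm hK hD₁ (i : ℤ)
    rw [show (2 * (genus k K : ℤ) - i) = ((2 * genus k K - i : ℕ) : ℤ) by omega,
      ← coeff_numerZ_eq_Cfun, ← coeff_numerZ_eq_Cfun] at h
    exact h
  · intro N hN
    have h := sum_Cfun_eq_card hK hD₁ N hN
    have e : ∑ i ∈ Finset.range (N + 1), Cfun k K (i : ℤ) =
        ((∑ i ∈ Finset.range (N + 1), PowerSeries.coeff i (numerZ k K) : ℤ) : ℚ) := by
      push_cast
      apply Finset.sum_congr rfl
      intro i _
      rw [coeff_numerZ_eq_Cfun]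
    rw [e] at h
    unfold classNum
    rw [Nat.card_eq_fintype_card]
    exact_mod_cast h

end PS

end Groth.Agent.Lib.LeadZT
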