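import Groth.Agent.Lib.LeadZC3
import Groth.Agent.Lib.LeadZC1
import Groth.Agent.Lib.LeadZT8

/-! The double-counting recurrence `n a(n) = ∑_{r=1}^n N_r a(n-r)`, i.e. `Z' = (∑ N_{r+1} t^r) Z`. -/

namespace Groth.Agent.Lib.LeadZC

attribute [-instance] IsLocalRing.instModuleResidueFieldOfAlgebra

open FunFld WithZero Groth.Agent.Lib.LeadZT

variable {k K : Type*} [Field k] [Field K] [Algebra k K]

lemma term_le_deg {D : Divisor k K} (hD0 : 0 ≤ D) (P : Place k K) :
    D P * (P.deg : ℤ) ≤ D.deg := by
  by_cases hP : P ∈ D.support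
  · unfold Divisor.deg Finsupp.sum
    exact Finset.single_le_sum (f := fun P => D P * (P.deg : ℤ))
      (fun Q _ => mul_nonneg (hD0 Q) (by positivity)) hP
  · rw [Finsupp.notMem_support_iff.mp hP, zero_mul]
    unfold Divisor.deg Finsupp.sum
    exact Finset.sum_nonneg (fun Q _ => mul_nonneg (hD0 Q) (by positivity))

lemma sum_multiples {d : ℕ} (hd : 0 < d) (M : ℕ) (F : ℕ → ℕ) :
    ∑ j ∈ Finset.Ico 1 (M + 1), (if j * d ≤ M then F (j * d) else 0) =
    ∑ r ∈ Finset.Ico 1 (M + 1), (if d ∣ r then F r else 0) := by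
  rw [← Finset.sum_filter, ← Finset.sum_filter]
  apply Finset.sum_nbij' (fun j => j * d) (fun r => r / d)
  · intro j hj
    simp only [Finset.mem_filter, Finset.mem_Ico] at hj ⊢
    refine ⟨⟨Nat.mul_pos hj.1.1 hd, by omega⟩, Dvd.intro_left j rfl⟩
  · intro r hr
    simp only [Finset.mem_filter, Finset.mem_Ico] at hr ⊢
    have hdr : d ≤ r := Nat.le_of_dvd hr.1.1 hr.2
    have h1 : 1 ≤ r / d := (Nat.one_le_div_iff hd).mpr hdr
    have h2 : r / d ≤ r := Nat.div_le_self r d
    have h3 : r / d * d = r := Nat.div_mul_cancel hr.2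
    refine ⟨⟨h1, by omega⟩, by omega⟩
  · intro j _
    exact Nat.mul_div_cancel j hd
  · intro r hr
    simp only [Finset.mem_filter, Finset.mem_Ico] at hr
    exact Nat.div_mul_cancel hr.2
  · intro j _
    rfl

variable [Finite k]

lemma mem_effDiv (hK : IsFunctionField k K) (M : ℕ) (D : Divisor k K) :
    D ∈ (LeadFF.finite_effDiv hK M).toFinset ↔ 0 ≤ D ∧ D.deg = M := by
  rw [Set.Finite.mem_toFinset]; rfl

lemma mem_placesLe (hK : IsFunctionField k K) (M : ℕ) (P : Place k K) :
    P ∈ (LeadFF.finite_places_deg_le hK M).toFinset ↔ P.deg ≤ M := by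
  rw [Set.Finite.mem_toFinset]; rfl

lemma card_filter_ge (hK : IsFunctionField k K) (M j : ℕ) (P : Place k K) :
    ((LeadFF.finite_effDiv hK M).toFinset.filter (fun D => (j : ℤ) ≤ D P)).card =
      if j * P.deg ≤ M then effDivCount k K (M - j * P.deg) else 0 := by
  classical
  split_ifs with hle
  · rw [← card_toFinset_effDiv hK (M - j * P.deg)]
    apply Finset.card_nbij' (fun D => D - Finsupp.single P (j : ℤ))
      (fun D => D + Finsupp.single P (j : ℤ))
    · intro D hD
      rw [Finset.coe_filter, Set.mem_setOf_eq, mem_effDiv hK] at hD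
      rw [Finset.mem_coe, mem_effDiv hK]
      obtain ⟨⟨hD0, hDM⟩, hj⟩ := hD
      constructor
      · intro Q
        rw [Finsupp.coe_zero, Pi.zero_apply, Finsupp.coe_sub, Pi.sub_apply]
        by_cases hQ : Q = P
        · subst hQ
          rw [Finsupp.single_eq_same]; linarith
        · rw [Finsupp.single_eq_of_ne (Ne.symm (fun h => hQ h.symm))]
          have := hD0 Q
          simpa using this
      · rw [LeadFF.deg_sub, LeadFF.deg_single, hDM]
        push_cast [hle]
        ring
    · intro D hD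
      rw [Finset.mem_coe, mem_effDiv hK] at hD
      rw [Finset.coe_filter, Set.mem_setOf_eq, mem_effDiv hK]
      obtain ⟨hD0, hDM⟩ := hD
      refine ⟨⟨?_, ?_⟩, ?_⟩
      · intro Q
        rw [Finsupp.coe_zero, Pi.zero_apply, Finsupp.coe_add, Pi.add_apply]
        have h1 := hD0 Q
        have h2 : (0 : ℤ) ≤ (Finsupp.single P (j : ℤ) : Divisor k K) Q := by
          by_cases hQ : Q = P
          · subst hQ; rw [Finsupp.single_eq_same]; positivity
          · rw [Finsupp.single_eq_of_ne (Ne.symm (fun h => hQ h.symm))]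
        simp only [Finsupp.coe_zero, Pi.zero_apply] at h1
        linarith
      · rw [LeadFF.deg_add, LeadFF.deg_single, hDM]
        push_cast [hle]
        ring
      · rw [Finsupp.coe_add, Pi.add_apply, Finsupp.single_eq_same]
        have h1 := hD0 P
        simp only [Finsupp.coe_zero, Pi.zero_apply] at h1
        linarith
    · intro D _
      exact sub_add_cancel _ _
    · intro D _
      exact add_sub_cancel_right _ _
  · rw [Finset.card_eq_zero, Finset.filter_eq_empty_iff]
    intro D hD hj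
    rw [mem_effDiv hK] at hD
    apply hle
    have h1 := term_le_deg hD.1 P
    rw [hD.2] at h1
    have h2 : (j : ℤ) * (P.deg : ℤ) ≤ D P * (P.deg : ℤ) :=
      mul_le_mul_of_nonneg_right hj (by positivity)
    have h3 : ((j * P.deg : ℕ) : ℤ) ≤ (M : ℤ) := by push_cast; linarith
    exact_mod_cast h3

lemma sum_ind_eq (hK : IsFunctionField k K) (M : ℕ) {D : Divisor k K} (hD0 : 0 ≤ D)
    (hDM : D.deg = M) :
    ∑ P ∈ (LeadFF.finite_places_deg_le hK M).toFinset, ∑ j ∈ Finset.Ico 1 (M + 1),
      (if (j : ℤ) ≤ D P then P.deg else 0) = M := by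
  classical
  have hterm : ∀ P, D P * (P.deg : ℤ) ≤ M := fun P => by
    rw [← hDM]; exact term_le_deg hD0 P
  have hdeg : ∀ P : Place k K, (1 : ℤ) ≤ P.deg := fun P => by
    exact_mod_cast LeadFF.deg_pos hK P
  have hDP : ∀ P, 0 ≤ D P ∧ D P ≤ M := by
    intro P
    have h0 : 0 ≤ D P := hD0 P
    refine ⟨h0, ?_⟩
    have := hterm P
    have := hdeg P
    nlinarith
  have hinner : ∀ P : Place k K, ∑ j ∈ Finset.Ico 1 (M + 1),
      (if (j : ℤ) ≤ D P then P.deg else 0) = (D P).toNat * P.deg := by
    intro P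
    rw [← Finset.sum_filter, Finset.sum_const, smul_eq_mul]
    congr 1
    have hf : (Finset.Ico 1 (M + 1)).filter (fun j : ℕ => (j : ℤ) ≤ D P) =
        Finset.Ico 1 ((D P).toNat + 1) := by
      ext j
      simp only [Finset.mem_filter, Finset.mem_Ico]
      have := hDP P
      omega
    rw [hf, Nat.card_Ico]
    omega
  rw [Finset.sum_congr rfl (fun P _ => hinner P)]
  have hsub : D.support ⊆ (LeadFF.finite_places_deg_le hK M).toFinset := by
    intro P hP
    rw [mem_placesLe hK]
    have hne : D P ≠ 0 := Finsupp.mem_support_iff.mp hP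
    have h1 : 1 ≤ D P := by have := (hDP P).1; omega
    have h2 := hterm P
    have h3 := hdeg P
    have : (P.deg : ℤ) ≤ M := by nlinarith
    exact_mod_cast this
  have hZ : ((∑ P ∈ (LeadFF.finite_places_deg_le hK M).toFinset, (D P).toNat * P.deg : ℕ) : ℤ)
      = M := by
    push_cast
    rw [← hDM]
    unfold Divisor.deg
    rw [Finsupp.sum_of_support_subset D hsub _ (by intros; simp)]
    apply Finset.sum_congr rfl
    intro P _
    rw [Int.toNat_of_nonneg (hDP P).1]
  exact_mod_cast hZ

theorem recurrence_Ico (hK : IsFunctionField k K) (M : ℕ) :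
    effDivCount k K M * M =
      ∑ r ∈ Finset.Ico 1 (M + 1), Npow hK r * effDivCount k K (M - r) := by
  classical
  set E := (LeadFF.finite_effDiv hK M).toFinset with hE
  set S := (LeadFF.finite_places_deg_le hK M).toFinset with hS
  set J := Finset.Ico 1 (M + 1) with hJ
  have h1 : ∑ D ∈ E, ∑ P ∈ S, ∑ j ∈ J, (if (j : ℤ) ≤ D P then P.deg else 0) =
      effDivCount k K M * M := by
    rw [Finset.sum_congr rfl (fun D hD => sum_ind_eq hK M ((mem_effDiv hK M D).mp hD).1
      ((mem_effDiv hK M D).mp hD).2), Finset.sum_const, smul_eq_mul, card_toFinset_effDiv hK]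
  have h2 : ∑ D ∈ E, ∑ P ∈ S, ∑ j ∈ J, (if (j : ℤ) ≤ D P then P.deg else 0) =
      ∑ P ∈ S, ∑ j ∈ J, (if j * P.deg ≤ M then P.deg * effDivCount k K (M - j * P.deg) else 0) := by
    rw [Finset.sum_comm]
    apply Finset.sum_congr rfl
    intro P _
    rw [Finset.sum_comm]
    apply Finset.sum_congr rfl
    intro j _
    rw [← Finset.sum_filter, Finset.sum_const, smul_eq_mul, card_filter_ge hK]
    split_ifs
    · exact mul_comm _ _
    · exact zero_mul _
  have h3 : ∑ P ∈ S, ∑ j ∈ J,
      (if j * P.deg ≤ M then P.deg * effDivCount k K (M - j * P.deg) else 0) =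
      ∑ r ∈ J, Npow hK r * effDivCount k K (M - r) := by
    have hN : ∀ r ∈ J, Npow hK r * effDivCount k K (M - r) =
        ∑ P ∈ S, (if P.deg ∣ r then P.deg * effDivCount k K (M - r) else 0) := by
      intro r hr
      rw [hJ, Finset.mem_Ico] at hr
      unfold Npow
      rw [Finset.sum_mul, ← Finset.sum_filter]
      apply Finset.sum_congr ?_ (fun _ _ => rfl)
      ext P
      rw [mem_dvd hK (by omega), Finset.mem_filter, hS, mem_placesLe hK]
      constructor
      · intro h
        refine ⟨?_, h⟩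
        have := Nat.le_of_dvd (by omega) h
        omega
      · exact fun h => h.2
    rw [Finset.sum_congr rfl hN]
    conv_rhs => rw [Finset.sum_comm]
    apply Finset.sum_congr rfl
    intro P _
    exact sum_multiples (LeadFF.deg_pos hK P) M (fun r => P.deg * effDivCount k K (M - r))
  rw [← h1, h2, h3]

theorem recurrence (hK : IsFunctionField k K) (m : ℕ) :
    effDivCount k K (m + 1) * (m + 1) =
      ∑ p ∈ Finset.HasAntidiagonal.antidiagonal m,
        Npow hK (p.1 + 1) * effDivCount k K p.2 := by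
  rw [recurrence_Ico hK (m + 1), Finset.sum_Ico_eq_sum_range,
    Finset.Nat.sum_antidiagonal_eq_sum_range_succ_mk]
  apply Finset.sum_congr (by simp)
  intro i _
  have h1 : 1 + i = i + 1 := by omega
  have h2 : m + 1 - (1 + i) = m - i := by omega
  rw [h2, h1]

/-- `Z' = (∑ N_{r+1} t^r) Z` over `ℂ`. -/
theorem hasLogDeriv_zeta (hK : IsFunctionField k K) :
    HasLogDeriv (PowerSeries.map (Int.castRingHom ℂ) (zetaZ k K))
      (PowerSeries.mk fun r => (Npow hK (r + 1) : ℂ)) := by
  unfold HasLogDeriv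
  ext m
  rw [PowerSeries.coeff_derivative, PowerSeries.coeff_mul, PowerSeries.coeff_map, coeff_zetaZ]
  have h := recurrence hK m
  have h' := congrArg (fun x : ℕ => (x : ℂ)) h
  simp only [Nat.cast_mul, Nat.cast_add, Nat.cast_one, Nat.cast_sum] at h'
  simp only [eq_intCast, Int.cast_natCast]
  rw [h']
  apply Finset.sum_congr rfl
  intro p _
  rw [PowerSeries.coeff_mk, PowerSeries.coeff_map, coeff_zetaZ]
  simp

end Groth.Agent.Lib.LeadZC
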