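import Groth.Agent.Lib.LeadCE10
import Groth.Agent.Lib.LeadFF36
import Mathlib.FieldTheory.Finite.Basic

/-! Constant field extensions over finite fields: places split when the extension degree divides
the degree of the place. -/

namespace Groth.Agent.Lib.LeadZT

attribute [-instance] IsLocalRing.instModuleResidueFieldOfAlgebra

open FunFld WithZero Polynomial TensorProduct

variable {k k' K K' : Type*} [Field k] [Field k'] [Field K] [Field K']
  [Algebra k k'] [Algebra k K] [Algebra K K'] [Algebra k' K'] [Algebra k K']
  [IsScalarTower k k' K'] [IsScalarTower k K K']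

/-- `[K' : K] = [k' : k]` for a constant field extension. -/
lemma finrank_constExt [FiniteDimensional k k']
    (h : Function.Bijective (Algebra.TensorProduct.productMap
      (IsScalarTower.toAlgHom k k' K') (IsScalarTower.toAlgHom k K K'))) :
    Module.finrank K K' = Module.finrank k k' := by
  let ψ : K ⊗[k] k' →ₐ[K] K' :=
    Algebra.TensorProduct.productLeftAlgHom (Algebra.ofId K K') (IsScalarTower.toAlgHom k k' K')
  have hψ : ∀ w : k' ⊗[k] K, ψ (Algebra.TensorProduct.comm k k' K w) =
      Algebra.TensorProduct.productMap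
        (IsScalarTower.toAlgHom k k' K') (IsScalarTower.toAlgHom k K K') w := by
    intro w
    induction w using TensorProduct.induction_on with
    | zero => simp
    | add a b ha hb => rw [map_add, map_add, map_add, ha, hb]
    | tmul a b => simp [ψ, Algebra.ofId_apply, mul_comm]
  have hbij : Function.Bijective ψ := by
    constructor
    · intro x y hxy
      have hx := hψ ((Algebra.TensorProduct.comm k k' K).symm x)
      have hy := hψ ((Algebra.TensorProduct.comm k k' K).symm y)
      rw [AlgEquiv.apply_symm_apply] at hx hy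
      rw [hx, hy] at hxy
      have := h.1 hxy
      exact (Algebra.TensorProduct.comm k k' K).symm.injective this
    · intro z
      obtain ⟨w, rfl⟩ := h.2 z
      exact ⟨Algebra.TensorProduct.comm k k' K w, hψ w⟩
  have e : (K ⊗[k] k') ≃ₗ[K] K' := LinearEquiv.ofBijective ψ.toLinearMap hbij
  rw [← e.finrank_eq, Module.finrank_baseChange]

/-- a place of `K'` over `k` is a place over `k'` (for `k'/k` algebraic). -/
def up [Algebra.IsAlgebraic k k'] (Q : Place k K') : Place k' K' :=
  ⟨Q.1, fun c => LeadFG.val_le_one_of_isIntegral (LeadFG.place_trivOn Q)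
    (((Algebra.IsAlgebraic.isAlgebraic c).isIntegral).map (IsScalarTower.toAlgHom k k' K')),
    Q.2.2⟩

lemma up_val [Algebra.IsAlgebraic k k'] (Q : Place k K') (x : K') : (up (k' := k') Q).1 x = Q.1 x :=
  rfl

lemma up_injective [Algebra.IsAlgebraic k k'] :
    Function.Injective (up : Place k K' → Place k' K') := by
  intro Q Q' h
  apply Subtype.ext
  exact congrArg (fun R : Place k' K' => R.1) h

lemma up_deg [FiniteDimensional k k'] (Q : Place k K') :
    (up (k' := k') Q).deg * Module.finrank k k' = Q.deg := by
  letI : Algebra k' (IsLocalRing.ResidueField Q.O) := Place.algRes (up (k' := k') Q)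
  haveI : IsScalarTower k k' (IsLocalRing.ResidueField Q.O) := by
    apply IsScalarTower.of_algebraMap_eq
    intro c
    show IsLocalRing.residue Q.O (algebraMap k Q.O c) =
      IsLocalRing.residue Q.O (algebraMap k' (up (k' := k') Q).O (algebraMap k k' c))
    congr 1
    apply Subtype.ext
    exact IsScalarTower.algebraMap_apply k k' K' c
  have := Module.finrank_mul_finrank k k' (IsLocalRing.ResidueField Q.O)
  rw [mul_comm]
  exact this

section Split

variable [Finite k] [Finite k']

lemma hasExtension_of_isOverWith {P : Place k K} {Q : Place k K'} (he : IsOverWith Q P 1) :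
    P.1.HasExtension Q.1 :=
  ⟨fun x y => by
    show P.1 x ≤ P.1 y ↔ Q.1 (algebraMap K K' x) ≤ Q.1 (algebraMap K K' y)
    rw [he, he, pow_one, pow_one]⟩

/-- over a place whose degree is divisible by `[k' : k]`, the residue degree is one. -/
theorem deg_over_eq
    (h : Function.Bijective (Algebra.TensorProduct.productMap
      (IsScalarTower.toAlgHom k k' K') (IsScalarTower.toAlgHom k K K')))
    (hK : IsFunctionField k K) (P : Place k K) (hdvd : Module.finrank k k' ∣ P.deg)
    {Q : Place k K'} (hQ : IsOver Q P) : Q.deg = P.deg := by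
  classical
  haveI : Fintype k := Fintype.ofFinite k
  haveI : Fintype k' := Fintype.ofFinite k'
  haveI : FiniteDimensional k k' := Module.Finite.of_finite
  haveI : Algebra.IsSeparable k k' := Algebra.IsAlgebraic.isSeparable_of_perfectField
  haveI : FiniteDimensional K K' := LeadCE.finiteDimensional_of_surjective h.2
  letI : Algebra P.O K' := ((algebraMap K K').comp (algebraMap P.O K)).toAlgebra
  haveI : IsScalarTower P.O K K' := IsScalarTower.of_algebraMap_eq (fun _ => rfl)
  have hns := LeadCE.integralClosure_eq h.2 hK P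
  have he1 : IsOverWith Q P 1 := LeadCE.isOverWith_one h.2 P Q hQ
  haveI : P.1.HasExtension Q.1 := hasExtension_of_isOverWith he1
  have hk' : ∀ c : k', Q.1 (algebraMap k' K' c) ≤ 1 := fun c =>
    LeadFG.val_le_one_of_isIntegral (LeadFG.place_trivOn Q)
      (((Algebra.IsAlgebraic.isAlgebraic c).isIntegral).map (IsScalarTower.toAlgHom k k' K'))
  have hadj := LeadCE.residue_adjoin_eq_top h hK P hns Q hk'
  haveI : Module.Finite k (IsLocalRing.ResidueField Q.O) :=
    LeadFG.residueField_finite (LeadFF.isFF_of_finite hK) Q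
  haveI : Module.Finite k (IsLocalRing.ResidueField P.O) :=
    LeadFG.residueField_finite (LeadFG.IsFF.of_isFunctionField hK) P
  haveI : Finite (IsLocalRing.ResidueField P.O) := Module.finite_of_finite k
  haveI : Finite (IsLocalRing.ResidueField Q.O) := Module.finite_of_finite k
  set d := P.deg with hd
  set q := Fintype.card k with hq
  let σQ := FiniteField.frobeniusAlgHom k (IsLocalRing.ResidueField Q.O)
  let σP := FiniteField.frobeniusAlgHom k (IsLocalRing.ResidueField P.O)
  have hσQ : ∀ (n : ℕ) (z : IsLocalRing.ResidueField Q.O), (σQ ^ n) z = z ^ q ^ n := by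
    intro n z
    rw [AlgHom.coe_pow, FiniteField.coe_frobeniusAlgHom, pow_iterate]
  have hσP : ∀ (n : ℕ) (z : IsLocalRing.ResidueField P.O), (σP ^ n) z = z ^ q ^ n := by
    intro n z
    rw [AlgHom.coe_pow, FiniteField.coe_frobeniusAlgHom, pow_iterate]
  have hoP : orderOf σP = d := FiniteField.orderOf_frobeniusAlgHom k _
  have hoQ : orderOf σQ = Q.deg := FiniteField.orderOf_frobeniusAlgHom k _
  -- `σQ ^ d = 1`
  have h1 : σQ ^ d = 1 := by
    apply AlgHom.ext
    intro z
    rw [AlgHom.one_apply]
    have hz : z ∈ Algebra.adjoin (IsLocalRing.ResidueField P.O)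
        (Set.range fun c : k' => IsLocalRing.residue Q.O ⟨algebraMap k' K' c, hk' c⟩) := by
      rw [hadj]; exact Algebra.mem_top
    induction hz using Algebra.adjoin_induction with
    | mem x hx =>
      obtain ⟨c, rfl⟩ := hx
      rw [hσQ, ← map_pow]
      congr 1
      apply Subtype.ext
      show (algebraMap k' K' c) ^ q ^ d = algebraMap k' K' c
      rw [← map_pow]
      congr 1
      obtain ⟨m, hm⟩ := hdvd
      have hc : ∀ j : ℕ, c ^ (Fintype.card k') ^ j = c := by
        intro j
        induction j with
        | zero => simp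
        | succ j ih => rw [pow_succ, pow_mul, ih, FiniteField.pow_card]
      have hcard : Fintype.card k' = q ^ Module.finrank k k' := Module.card_eq_pow_finrank
      rw [hm, pow_mul, ← hcard]
      exact hc m
    | algebraMap a =>
      rw [hσQ, ← map_pow]
      congr 1
      have := pow_orderOf_eq_one σP
      rw [hoP] at this
      have h2 := congrArg (fun φ => φ a) this
      simp only [AlgHom.one_apply] at h2
      rw [hσP] at h2
      exact h2
    | add x y _ _ hx hy => rw [map_add, hx, hy]
    | mul x y _ _ hx hy => rw [map_mul, hx, hy]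
  have hdvd1 : Q.deg ∣ d := by
    rw [← hoQ]; exact orderOf_dvd_of_pow_eq_one h1
  -- `σP ^ Q.deg = 1`
  have h2 : σP ^ Q.deg = 1 := by
    apply AlgHom.ext
    intro a
    rw [AlgHom.one_apply, hσP]
    have := pow_orderOf_eq_one σQ
    rw [hoQ] at this
    have h3 := congrArg (fun φ => φ (algebraMap (IsLocalRing.ResidueField P.O)
      (IsLocalRing.ResidueField Q.O) a)) this
    simp only [AlgHom.one_apply] at h3
    rw [hσQ, ← map_pow] at h3
    exact (algebraMap (IsLocalRing.ResidueField P.O) (IsLocalRing.ResidueField Q.O)).injective h3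
  have hdvd2 : d ∣ Q.deg := by
    rw [← hoP]; exact orderOf_dvd_of_pow_eq_one h2
  exact Nat.dvd_antisymm hdvd1 hdvd2

/-- two distinct places over `k'` above a place whose degree is divisible by `[k' : k] ≥ 2`. -/
theorem exists_two_over
    (h : Function.Bijective (Algebra.TensorProduct.productMap
      (IsScalarTower.toAlgHom k k' K') (IsScalarTower.toAlgHom k K K')))
    (hK : IsFunctionField k K) (hr : 2 ≤ Module.finrank k k')
    (P : Place k K) (hdvd : Module.finrank k k' ∣ P.deg) :
    ∃ Q₀ Q₁ : Place k K', Q₀ ≠ Q₁ ∧ IsOverWith Q₀ P 1 ∧ IsOverWith Q₁ P 1 ∧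
      Q₀.deg = P.deg ∧ Q₁.deg = P.deg := by
  classical
  haveI : FiniteDimensional k k' := Module.Finite.of_finite
  haveI : Algebra.IsSeparable k k' := Algebra.IsAlgebraic.isSeparable_of_perfectField
  haveI : FiniteDimensional K K' := LeadCE.finiteDimensional_of_surjective h.2
  have hfin := LeadFF.finite_over (K' := K') hK P
  have hsum := LeadFF.sum_ramIdx_deg hK P hfin.toFinset (fun Q => hfin.mem_toFinset)
  have hterm : ∀ Q ∈ hfin.toFinset, ramIdx Q P * Q.deg = P.deg := by
    intro Q hQ
    have hQP : IsOver Q P := hfin.mem_toFinset.mp hQ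
    rw [LeadFF.ramIdx_eq (LeadCE.isOverWith_one h.2 P Q hQP), one_mul,
      deg_over_eq h hK P hdvd hQP]
  rw [Finset.sum_congr rfl hterm, Finset.sum_const, smul_eq_mul, finrank_constExt h] at hsum
  have hdpos : 0 < P.deg := LeadFF.deg_pos hK P
  have hcard : hfin.toFinset.card = Module.finrank k k' :=
    Nat.eq_of_mul_eq_mul_right hdpos hsum
  have h1 : 1 < hfin.toFinset.card := by omega
  obtain ⟨Q₀, hQ₀, Q₁, hQ₁, hne⟩ := Finset.one_lt_card.mp h1
  have hQ₀P : IsOver Q₀ P := hfin.mem_toFinset.mp hQ₀
  have hQ₁P : IsOver Q₁ P := hfin.mem_toFinset.mp hQ₁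
  exact ⟨Q₀, Q₁, hne, LeadCE.isOverWith_one h.2 P Q₀ hQ₀P, LeadCE.isOverWith_one h.2 P Q₁ hQ₁P,
    deg_over_eq h hK P hdvd hQ₀P, deg_over_eq h hK P hdvd hQ₁P⟩

end Split

end Groth.Agent.Lib.LeadZT
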