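import Groth.Agent.Lib.LeadZT1

/-! F. K. Schmidt's theorem: the counting core. -/

namespace Groth.Agent.Lib.LeadZT

attribute [-instance] IsLocalRing.instModuleResidueFieldOfAlgebra

open FunFld WithZero Polynomial TensorProduct

section Bounds

variable {k K : Type*} [Field k] [Field K] [Algebra k K] [Finite k]

lemma card_k_ge_two : 2 ≤ Nat.card k := Finite.one_lt_card

lemma classNum_pos (hK : IsFunctionField k K) : 1 ≤ classNum k K := by
  haveI := LeadFF.finite_Cl0 hK
  exact Nat.card_pos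

theorem lower_bound (hK : IsFunctionField k K) (n : ℕ) (hn : 2 * genus k K ≤ n)
    (D₀ : Divisor k K) (hD₀ : D₀.deg = n) :
    Nat.card k ^ (n - genus k K) ≤ effDivCount k K n := by
  have hf := LeadFF.effDivCount_formula hK n (by omega) D₀ hD₀
  have hq : (2 : ℤ) ≤ (Nat.card k : ℤ) := by exact_mod_cast card_k_ge_two (k := k)
  have hh : (1 : ℤ) ≤ (classNum k K : ℤ) := by exact_mod_cast classNum_pos hK
  have he : n + 1 - genus k K = (n - genus k K) + 1 := by omega
  rw [he, pow_succ] at hf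
  set X : ℤ := (Nat.card k : ℤ) ^ (n - genus k K) with hX
  have hX1 : 1 ≤ X := one_le_pow₀ (by linarith)
  have h1 : ((Nat.card k : ℤ) - 1) * X ≤ ((Nat.card k : ℤ) - 1) * (effDivCount k K n : ℤ) := by
    rw [hf]
    have : X * (Nat.card k : ℤ) - 1 ≤ (classNum k K : ℤ) * (X * (Nat.card k : ℤ) - 1) := by
      have h0 : 0 ≤ X * (Nat.card k : ℤ) - 1 := by nlinarith
      nlinarith
    nlinarith
  have h2 : X ≤ (effDivCount k K n : ℤ) := le_of_mul_le_mul_left h1 (by linarith)
  have h3 : ((Nat.card k ^ (n - genus k K) : ℕ) : ℤ) ≤ (effDivCount k K n : ℤ) := by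
    push_cast; exact h2
  exact_mod_cast h3

theorem upper_bound (hK : IsFunctionField k K) (m : ℕ) (hm : 2 * genus k K ≤ m + 1) :
    (Nat.card k - 1) * effDivCount k K m ≤ classNum k K * Nat.card k ^ (m + 1) := by
  by_cases hex : ∃ D₀ : Divisor k K, D₀.deg = m
  · obtain ⟨D₀, hD₀⟩ := hex
    have hf := LeadFF.effDivCount_formula hK m hm D₀ hD₀
    have hq : 1 ≤ Nat.card k := Nat.card_pos
    have h1 : (((Nat.card k - 1) * effDivCount k K m : ℕ) : ℤ) ≤
        ((classNum k K * Nat.card k ^ (m + 1) : ℕ) : ℤ) := by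
      push_cast [Nat.cast_sub hq]
      rw [hf]
      have hpow : (Nat.card k : ℤ) ^ (m + 1 - genus k K) ≤ (Nat.card k : ℤ) ^ (m + 1) :=
        pow_le_pow_right₀ (by exact_mod_cast hq) (by omega)
      have hh : (0 : ℤ) ≤ (classNum k K : ℤ) := Int.natCast_nonneg _
      nlinarith
    exact_mod_cast h1
  · have : IsEmpty {D : Divisor k K // 0 ≤ D ∧ D.deg = (m : ℤ)} :=
      ⟨fun D => hex ⟨D.1, D.2.2⟩⟩
    have h0 : effDivCount k K m = 0 := by
      unfold effDivCount
      exact Nat.card_of_isEmpty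
    rw [h0, mul_zero]
    exact Nat.zero_le _

end Bounds

section Inj

variable {k k' K K' : Type*} [Field k] [Field k'] [Field K] [Field K'] [Algebra k K]
  [Algebra k' K']

/-- combine two divisors of `K` into one of `K'` along two embeddings of places. -/
noncomputable def Phi (β₀ β₁ : Place k K → Place k' K') (D : Divisor k K × Divisor k K) :
    Divisor k' K' :=
  D.1.mapDomain β₀ + D.2.mapDomain β₁

variable {β₀ β₁ : Place k K → Place k' K'} {r : ℕ}

lemma deg_mapDomain {β : Place k K → Place k' K'} (hβ : Function.Injective β)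
    (hdeg : ∀ P, (β P).deg * r = P.deg) (D : Divisor k K) :
    Divisor.deg (k := k') (K := K') (D.mapDomain β) * r = D.deg := by
  unfold Divisor.deg
  rw [Finsupp.sum_mapDomain_index_inj hβ, Finsupp.sum, Finsupp.sum, Finset.sum_mul]
  apply Finset.sum_congr rfl
  intro P _
  rw [mul_assoc]
  congr 1
  exact_mod_cast hdeg P

lemma mapDomain_nonneg {β : Place k K → Place k' K'} (hβ : Function.Injective β)
    {D : Divisor k K} (hD : 0 ≤ D) : 0 ≤ D.mapDomain β := by
  intro Q
  by_cases hQ : Q ∈ Set.range β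
  · obtain ⟨P, rfl⟩ := hQ
    rw [Finsupp.mapDomain_apply hβ]
    exact hD P
  · rw [Finsupp.mapDomain_notin_range _ _ hQ]
    exact le_rfl

lemma Phi_apply₀ (h₀ : Function.Injective β₀) (hne : ∀ P P', β₀ P ≠ β₁ P')
    (D : Divisor k K × Divisor k K) (P : Place k K) : Phi β₀ β₁ D (β₀ P) = D.1 P := by
  unfold Phi
  rw [Finsupp.add_apply, Finsupp.mapDomain_apply h₀, Finsupp.mapDomain_notin_range, add_zero]
  rintro ⟨P', hP'⟩
  exact hne P P' hP'.symm

lemma Phi_apply₁ (h₁ : Function.Injective β₁) (hne : ∀ P P', β₀ P ≠ β₁ P')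
    (D : Divisor k K × Divisor k K) (P : Place k K) : Phi β₀ β₁ D (β₁ P) = D.2 P := by
  unfold Phi
  rw [Finsupp.add_apply, Finsupp.mapDomain_apply h₁, Finsupp.mapDomain_notin_range, zero_add]
  rintro ⟨P', hP'⟩
  exact hne P' P hP'

lemma Phi_injective (h₀ : Function.Injective β₀) (h₁ : Function.Injective β₁)
    (hne : ∀ P P', β₀ P ≠ β₁ P') : Function.Injective (Phi β₀ β₁) := by
  intro D E h
  apply Prod.ext
  · ext P
    rw [← Phi_apply₀ h₀ hne D P, h, Phi_apply₀ h₀ hne]
  · ext P
    rw [← Phi_apply₁ h₁ hne D P, h, Phi_apply₁ h₁ hne]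

variable [Finite k] [Finite k']

lemma card_toFinset_effDiv (hK : IsFunctionField k K) (n : ℕ) :
    (LeadFF.finite_effDiv hK n).toFinset.card = effDivCount k K n := by
  unfold effDivCount
  rw [← Set.ncard_eq_toFinset_card _ (LeadFF.finite_effDiv hK n), ← Nat.card_coe_set_eq]
  rfl

theorem count_le (hK : IsFunctionField k K) (hK' : IsFunctionField k' K') (hr : 0 < r)
    (h₀ : Function.Injective β₀) (h₁ : Function.Injective β₁) (hne : ∀ P P', β₀ P ≠ β₁ P')
    (hd₀ : ∀ P, (β₀ P).deg * r = P.deg) (hd₁ : ∀ P, (β₁ P).deg * r = P.deg)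
    (m j0 M : ℕ) (hM : 2 * j0 + M ≤ m + 1) :
    ∑ j ∈ Finset.range M,
      effDivCount k K (r * (j0 + j)) * effDivCount k K (r * (m - j0 - j)) ≤
        effDivCount k' K' m := by
  classical
  let F : ℕ → Finset (Divisor k K) := fun n => (LeadFF.finite_effDiv hK n).toFinset
  let F' : Finset (Divisor k' K') := (LeadFF.finite_effDiv hK' m).toFinset
  have hF : ∀ n D, D ∈ F n ↔ 0 ≤ D ∧ D.deg = (n : ℤ) := fun n D => Set.Finite.mem_toFinset _
  have hFc : ∀ n, (F n).card = effDivCount k K n := fun n => card_toFinset_effDiv hK n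
  let U : Finset (Divisor k K × Divisor k K) :=
    (Finset.range M).biUnion (fun j => F (r * (j0 + j)) ×ˢ F (r * (m - j0 - j)))
  have hdisj : Set.PairwiseDisjoint (↑(Finset.range M))
      (fun j => F (r * (j0 + j)) ×ˢ F (r * (m - j0 - j))) := by
    intro j _ j' _ hjj'
    rw [Function.onFun, Finset.disjoint_left]
    rintro ⟨D₁, D₂⟩ hD hD'
    rw [Finset.mem_product] at hD hD'
    have e1 := ((hF _ _).mp hD.1).2
    have e2 := ((hF _ _).mp hD'.1).2
    rw [e1] at e2
    have e3 : r * (j0 + j) = r * (j0 + j') := by exact_mod_cast e2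
    have := Nat.eq_of_mul_eq_mul_left hr e3
    exact hjj' (by omega)
  have hcardU : U.card = ∑ j ∈ Finset.range M,
      effDivCount k K (r * (j0 + j)) * effDivCount k K (r * (m - j0 - j)) := by
    rw [Finset.card_biUnion hdisj]
    apply Finset.sum_congr rfl
    intro j _
    rw [Finset.card_product, hFc, hFc]
  have himg : U.image (Phi β₀ β₁) ⊆ F' := by
    intro D' hD'
    obtain ⟨⟨D₁, D₂⟩, hD, rfl⟩ := Finset.mem_image.mp hD'
    obtain ⟨j, hj, hD⟩ := Finset.mem_biUnion.mp hD
    rw [Finset.mem_product] at hD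
    obtain ⟨hD₁0, hD₁d⟩ := (hF _ _).mp hD.1
    obtain ⟨hD₂0, hD₂d⟩ := (hF _ _).mp hD.2
    have hjM : j < M := Finset.mem_range.mp hj
    refine (Set.Finite.mem_toFinset _).mpr ⟨?_, ?_⟩
    · exact add_nonneg (mapDomain_nonneg h₀ hD₁0) (mapDomain_nonneg h₁ hD₂0)
    · have hsum : (Phi β₀ β₁ (D₁, D₂)).deg * (r : ℤ) = (m : ℤ) * r := by
        unfold Phi
        rw [LeadFF.deg_add, add_mul, deg_mapDomain h₀ hd₀, deg_mapDomain h₁ hd₁]
        simp only [hD₁d, hD₂d]
        have : r * (j0 + j) + r * (m - j0 - j) = m * r := by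
          rw [← Nat.mul_add, mul_comm]; congr 1; omega
        exact_mod_cast this
      exact mul_right_cancel₀ (by exact_mod_cast hr.ne') hsum
  calc ∑ j ∈ Finset.range M,
        effDivCount k K (r * (j0 + j)) * effDivCount k K (r * (m - j0 - j))
      = U.card := hcardU.symm
    _ = (U.image (Phi β₀ β₁)).card :=
        (Finset.card_image_of_injective _ (Phi_injective h₀ h₁ hne)).symm
    _ ≤ F'.card := Finset.card_le_card himg
    _ = effDivCount k' K' m := card_toFinset_effDiv hK' m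

end Inj

end Groth.Agent.Lib.LeadZT
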