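import Groth.Agent.Lib.LeadZT2
import Groth.Agent.Lib.Helper7FunFldConst
import Groth.Agent.S11000
import Mathlib.FieldTheory.Finite.Extension

/-! F. K. Schmidt's theorem: over a finite constant field there is a divisor of degree one. -/

namespace Groth.Agent.Lib.LeadZT

attribute [-instance] IsLocalRing.instModuleResidueFieldOfAlgebra

open FunFld WithZero Polynomial TensorProduct

section Core

variable {k k' K K' : Type*} [Field k] [Field k'] [Field K] [Field K']
  [Algebra k k'] [Algebra k K] [Algebra K K'] [Algebra k' K'] [Algebra k K']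
  [IsScalarTower k k' K'] [IsScalarTower k K K'] [Finite k] [Finite k']

theorem schmidt_core
    (h : Function.Bijective (Algebra.TensorProduct.productMap
      (IsScalarTower.toAlgHom k k' K') (IsScalarTower.toAlgHom k K K')))
    (hK : IsFunctionField k K) (hK' : IsFunctionField k' K')
    (hr : 2 ≤ Module.finrank k k') (hdvd : ∀ P : Place k K, Module.finrank k k' ∣ P.deg)
    (Dr : Divisor k K) (hDr : Dr.deg = Module.finrank k k') : False := by
  classical
  haveI : FiniteDimensional k k' := Module.Finite.of_finite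
  haveI : Algebra.IsAlgebraic k k' := Algebra.IsAlgebraic.of_finite k k'
  set r := Module.finrank k k' with hr_def
  choose Q₀ Q₁ hne he₀ he₁ hdeg₀ hdeg₁ using fun P => exists_two_over h hK hr P (hdvd P)
  let β₀ : Place k K → Place k' K' := fun P => up (Q₀ P)
  let β₁ : Place k K → Place k' K' := fun P => up (Q₁ P)
  have hbelow : ∀ (Q : Place k K') (P P' : Place k K),
      IsOverWith Q P 1 → IsOverWith Q P' 1 → P = P' := by
    intro Q P P' h1 h2
    apply Subtype.ext
    ext x
    have a := h1 x
    have b := h2 x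
    rw [pow_one] at a b
    rw [← a, ← b]
  have h₀ : Function.Injective β₀ := by
    intro P P' hPP'
    have e : Q₀ P = Q₀ P' := up_injective hPP'
    exact hbelow (Q₀ P) P P' (he₀ P) (by rw [e]; exact he₀ P')
  have h₁ : Function.Injective β₁ := by
    intro P P' hPP'
    have e : Q₁ P = Q₁ P' := up_injective hPP'
    exact hbelow (Q₁ P) P P' (he₁ P) (by rw [e]; exact he₁ P')
  have hne' : ∀ P P', β₀ P ≠ β₁ P' := by
    intro P P' heq
    have e : Q₀ P = Q₁ P' := up_injective heq
    have hPP' : P = P' := hbelow (Q₀ P) P P' (he₀ P) (by rw [e]; exact he₁ P')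
    subst hPP'
    exact hne P e
  have hd₀ : ∀ P, (β₀ P).deg * r = P.deg := fun P => by
    rw [← hdeg₀ P]; exact up_deg (Q₀ P)
  have hd₁ : ∀ P, (β₁ P).deg * r = P.deg := fun P => by
    rw [← hdeg₁ P]; exact up_deg (Q₁ P)
  set q := Nat.card k with hq
  have hq2 : 2 ≤ q := card_k_ge_two
  set g := genus k K with hg
  set g' := genus k' K' with hg'
  set h' := classNum k' K' with hh'
  have hQ : Nat.card k' = q ^ r := Module.natCard_eq_pow_finrank (K := k) (V := k')
  set B := h' * q ^ (r + 2 * g) with hB
  set M := B + 2 * g' + 1 with hM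
  set m := 2 * g + B + 2 * g' with hm
  have hcount := count_le hK hK' (r := r) (by omega) h₀ h₁ hne' hd₀ hd₁ m g M (by omega)
  -- lower bound on each term
  have hterm : ∀ j ∈ Finset.range M, q ^ (r * m - 2 * g) ≤
      effDivCount k K (r * (g + j)) * effDivCount k K (r * (m - g - j)) := by
    intro j hj
    have hjM : j < M := Finset.mem_range.mp hj
    have hlow : ∀ l : ℕ, g ≤ l → q ^ (r * l - g) ≤ effDivCount k K (r * l) := by
      intro l hl
      have h2g : 2 * g ≤ r * l := Nat.mul_le_mul hr hl
      refine lower_bound hK (r * l) h2g (l • Dr) ?_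
      rw [LeadFF.deg_nsmul, hDr]
      push_cast; ring
    have h1 := hlow (g + j) (by omega)
    have h2 := hlow (m - g - j) (by omega)
    have h2g1 : 2 * g ≤ r * (g + j) := Nat.mul_le_mul hr (by omega)
    have h2g2 : 2 * g ≤ r * (m - g - j) := Nat.mul_le_mul hr (by omega)
    have hsum : r * (g + j) + r * (m - g - j) = r * m := by
      rw [← Nat.mul_add]; congr 1; omega
    calc q ^ (r * m - 2 * g) = q ^ (r * (g + j) - g) * q ^ (r * (m - g - j) - g) := by
          rw [← pow_add]; congr 1; omega
      _ ≤ _ := Nat.mul_le_mul h1 h2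
  have hlower : M * q ^ (r * m - 2 * g) ≤ effDivCount k' K' m := by
    refine le_trans ?_ hcount
    calc M * q ^ (r * m - 2 * g) = ∑ _j ∈ Finset.range M, q ^ (r * m - 2 * g) := by
          rw [Finset.sum_const, Finset.card_range, smul_eq_mul]
      _ ≤ _ := Finset.sum_le_sum hterm
  have hupper := upper_bound hK' m (by omega)
  rw [hQ] at hupper
  have hQ1 : 1 ≤ q ^ r - 1 := by
    have : 2 ≤ q ^ r := le_trans hq2 (Nat.le_self_pow (by omega) q)
    omega
  have hrm : 2 * g ≤ r * m := le_trans (by omega : 2 * g ≤ 2 * m) (Nat.mul_le_mul_right m hr)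
  have hpow : (q ^ r) ^ (m + 1) = q ^ (r * m - 2 * g) * q ^ (r + 2 * g) := by
    rw [← pow_mul, ← pow_add]; congr 1
    rw [Nat.mul_add, mul_one]; omega
  have hchain : M * q ^ (r * m - 2 * g) ≤ B * q ^ (r * m - 2 * g) := by
    calc M * q ^ (r * m - 2 * g) ≤ effDivCount k' K' m := hlower
      _ ≤ (q ^ r - 1) * effDivCount k' K' m := Nat.le_mul_of_pos_left _ hQ1
      _ ≤ h' * (q ^ r) ^ (m + 1) := hupper
      _ = B * q ^ (r * m - 2 * g) := by rw [hpow, hB]; ring
  have hpos : 0 < q ^ (r * m - 2 * g) := Nat.pow_pos (by omega)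
  have := Nat.le_of_mul_le_mul_right hchain hpos
  omega

end Core

end Groth.Agent.Lib.LeadZT
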