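import Groth.Agent.Lib.LeadZT5

/-! The class sums `bsum D = ∑_c q^{ℓ(D + c)}` and their symmetry under Riemann–Roch. -/

namespace Groth.Agent.Lib.LeadZT

open FunFld WithZero Polynomial Groth.Agent.Lib.LeadFF

section BSum

variable {k K : Type*} [Field k] [Field K] [Algebra k K] [Finite k] [Fintype (Cl0 k K)]

/-- `∑_c q^{ℓ(D + c)}` over the degree-zero classes `c`. -/
noncomputable def bsum (D : Divisor k K) : ℚ :=
  ∑ c : Cl0 k K, (Nat.card k : ℚ) ^ ell (D + repr0 c)

/-- the class of a degree-zero divisor. -/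
noncomputable def cls (E : Divisor k K) (hE : E.deg = 0) : Cl0 k K :=
  QuotientAddGroup.mk ⟨E, mem_ker_degHom.mpr hE⟩

lemma cls_add (E F : Divisor k K) (hE : E.deg = 0) (hF : F.deg = 0) :
    cls (E + F) (by rw [deg_add, hE, hF, add_zero]) = cls E hE + cls F hF := rfl

lemma cls_neg (E : Divisor k K) (hE : E.deg = 0) :
    cls (-E) (by rw [deg_neg, hE, neg_zero]) = -cls E hE := rfl

lemma cls_repr0 (c : Cl0 k K) : cls (repr0 c) (deg_repr0 c) = c := mk_repr0 c

/-- divisors of degree zero in the same class have the same `ℓ` after adding to `D`. -/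
lemma ell_add_congr (hK : IsFunctionField k K) (D : Divisor k K) {E F : Divisor k K}
    (hE : E.deg = 0) (hF : F.deg = 0) (h : cls E hE = cls F hF) : ell (D + E) = ell (D + F) := by
  obtain ⟨x, hx0, hx⟩ := (class_eq_iff hK hE hF).mp h
  have : D + F = D + E + FunFld.div k x := by rw [← hx]; abel
  rw [this, ell_add_div hK _ hx0]

lemma bsum_add (hK : IsFunctionField k K) (D E : Divisor k K) (hE : E.deg = 0) :
    bsum (D + E) = bsum D := by
  unfold bsum
  rw [← Equiv.sum_comp (Equiv.addRight (cls E hE)) (fun c => (Nat.card k : ℚ) ^ ell (D + repr0 c))]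
  apply Finset.sum_congr rfl
  intro c _
  congr 1
  rw [add_assoc]
  apply ell_add_congr hK D (by rw [deg_add, hE, deg_repr0, add_zero]) (deg_repr0 _)
  rw [cls_repr0]
  show cls (E + repr0 c) _ = c + cls E hE
  rw [cls_add E (repr0 c) hE (deg_repr0 c), cls_repr0, add_comm]

lemma bsum_of_deg_neg (hK : IsFunctionField k K) (D : Divisor k K) (hD : D.deg < 0) :
    bsum D = (Fintype.card (Cl0 k K) : ℚ) := by
  unfold bsum
  have : ∀ c : Cl0 k K, ell (D + repr0 c) = 0 := by
    intro c
    unfold ell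
    rw [L_eq_bot_of_deg_neg hK _ (by rw [deg_add, deg_repr0, add_zero]; exact hD)]
    exact finrank_bot k K
  simp only [this, pow_zero, Finset.sum_const, Finset.card_univ, nsmul_eq_mul, mul_one]

lemma bsum_symm (hK : IsFunctionField k K) (W : Divisor k K) (hW : IsCanonical k K W)
    (D : Divisor k K) :
    bsum D = (Nat.card k : ℚ) ^ (D.deg + 1 - genus k K) * bsum (W - D) := by
  have hq0 : (Nat.card k : ℚ) ≠ 0 := by
    have : 0 < Nat.card k := Nat.card_pos
    positivity
  unfold bsum
  rw [Finset.mul_sum, ← Equiv.sum_comp (Equiv.neg (Cl0 k K))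
    (fun c => (Nat.card k : ℚ) ^ (D.deg + 1 - genus k K) *
      (Nat.card k : ℚ) ^ ell (W - D + repr0 c))]
  apply Finset.sum_congr rfl
  intro c _
  have hrr := riemann_roch hK W hW (D + repr0 c)
  rw [deg_add, deg_repr0, add_zero] at hrr
  have hcongr : ell (W - (D + repr0 c)) = ell (W - D + repr0 (-c)) := by
    have e : W - (D + repr0 c) = (W - D) + (-repr0 c) := by abel
    rw [e]
    apply ell_add_congr hK (W - D) (by rw [deg_neg, deg_repr0, neg_zero]) (deg_repr0 _)
    rw [cls_repr0, cls_neg _ (deg_repr0 c), cls_repr0]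
  rw [hcongr] at hrr
  rw [Equiv.neg_apply, ← zpow_natCast, ← zpow_natCast, ← zpow_add₀ hq0, hrr]

/-- the counting formula: `(q - 1) a(n) = bsum D - h` for `deg D = n ≥ 0`. -/
lemma count_eq_bsum (hK : IsFunctionField k K) (n : ℕ) (D : Divisor k K) (hD : D.deg = n) :
    ((Nat.card k : ℚ) - 1) * (effDivCount k K n : ℚ) = bsum D - Fintype.card (Cl0 k K) := by
  have h := effDivCount_formula_gen hK n D hD
  have hq : 1 ≤ Nat.card k := Nat.card_pos
  have hz := congrArg (fun m : ℕ => (m : ℚ)) h
  simp only [Nat.cast_mul, Nat.cast_sub hq, Nat.cast_one, Nat.cast_sum] at hz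
  rw [mul_comm, hz]
  unfold bsum
  rw [← Finset.card_univ, ← nsmul_one (Finset.univ : Finset (Cl0 k K)).card, ← Finset.sum_const,
    ← Finset.sum_sub_distrib]
  apply Finset.sum_congr rfl
  intro c _
  rw [Nat.cast_sub (Nat.one_le_pow _ _ hq), Nat.cast_pow, Nat.cast_one]

end BSum

end Groth.Agent.Lib.LeadZT
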