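import Groth.Agent.Lib.LeadZT6
import Mathlib.RingTheory.PowerSeries.Trunc

/-! Coefficients of the numerator of the zeta function: symmetry and consequences. -/

namespace Groth.Agent.Lib.LeadZT

open FunFld WithZero Groth.Agent.Lib.LeadFF

section Coeffs

variable {k K : Type*} [Field k] [Field K] [Algebra k K] [Finite k] [Fintype (Cl0 k K)]

omit [Finite k] [Fintype (Cl0 k K)] in
lemma deg_zsmul (z : ℤ) (D : Divisor k K) : (z • D).deg = z * D.deg := by
  rw [← prelude_degHom_apply, ← prelude_degHom_apply, map_zsmul, smul_eq_mul]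

/-- `b(n) = ∑_{C ∈ Pic^n} q^{ℓ(C)}`. -/
noncomputable def bfun (D₁ : Divisor k K) (n : ℤ) : ℚ := bsum (n • D₁)

variable {D₁ : Divisor k K}

lemma bsum_eq_bfun (hK : IsFunctionField k K) (hD₁ : D₁.deg = 1) (D : Divisor k K) :
    bsum D = bfun D₁ D.deg := by
  have e : D = D.deg • D₁ + (D - D.deg • D₁) := by abel
  conv_lhs => rw [e]
  exact bsum_add hK _ _ (by rw [deg_sub, deg_zsmul, hD₁, mul_one, sub_self])

lemma bfun_symm (hK : IsFunctionField k K) (hD₁ : D₁.deg = 1) (n : ℤ) :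
    bfun D₁ n = (Nat.card k : ℚ) ^ (n + 1 - genus k K) * bfun D₁ (2 * genus k K - 2 - n) := by
  obtain ⟨W, hW⟩ := exists_canonical hK
  have h := bsum_symm hK W hW (n • D₁)
  rw [deg_zsmul, hD₁, mul_one, bsum_eq_bfun hK hD₁ (W - n • D₁), deg_sub,
    (canonical_ell_deg hK hW).2, deg_zsmul, hD₁, mul_one] at h
  exact h

lemma bfun_neg (hK : IsFunctionField k K) (hD₁ : D₁.deg = 1) (n : ℤ) (hn : n < 0) :
    bfun D₁ n = (Fintype.card (Cl0 k K) : ℚ) :=
  bsum_of_deg_neg hK _ (by rw [deg_zsmul, hD₁, mul_one]; exact hn)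

/-- `a(n)` extended by zero to negative integers. -/
noncomputable def Afun (k K : Type*) [Field k] [Field K] [Algebra k K] (n : ℤ) : ℚ :=
  if 0 ≤ n then (effDivCount k K n.toNat : ℚ) else 0

omit [Finite k] [Fintype (Cl0 k K)] in
lemma Afun_natCast (n : ℕ) : Afun k K (n : ℤ) = effDivCount k K n := by
  unfold Afun
  rw [if_pos (Int.natCast_nonneg n), Int.toNat_natCast]

omit [Finite k] [Fintype (Cl0 k K)] in
lemma Afun_of_neg (n : ℤ) (hn : n < 0) : Afun k K n = 0 := by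
  unfold Afun
  rw [if_neg (not_le.mpr hn)]

lemma Afun_eq (hK : IsFunctionField k K) (hD₁ : D₁.deg = 1) (n : ℤ) :
    ((Nat.card k : ℚ) - 1) * Afun k K n = bfun D₁ n - Fintype.card (Cl0 k K) := by
  by_cases hn : 0 ≤ n
  · obtain ⟨m, rfl⟩ := Int.eq_ofNat_of_zero_le hn
    rw [Afun_natCast]
    exact count_eq_bsum hK m ((m : ℤ) • D₁) (by rw [deg_zsmul, hD₁, mul_one])
  · rw [Afun_of_neg n (not_le.mp hn), mul_zero, bfun_neg hK hD₁ n (not_le.mp hn), sub_self]

/-- the coefficients of `(1 - t)(1 - qt) Z(t)`, indexed by all integers. -/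
noncomputable def Cfun (k K : Type*) [Field k] [Field K] [Algebra k K] (n : ℤ) : ℚ :=
  Afun k K n - ((Nat.card k : ℚ) + 1) * Afun k K (n - 1) + (Nat.card k : ℚ) * Afun k K (n - 2)

lemma Cfun_mul (hK : IsFunctionField k K) (hD₁ : D₁.deg = 1) (n : ℤ) :
    ((Nat.card k : ℚ) - 1) * Cfun k K n =
      bfun D₁ n - ((Nat.card k : ℚ) + 1) * bfun D₁ (n - 1) + (Nat.card k : ℚ) * bfun D₁ (n - 2) := by
  have h0 := Afun_eq hK hD₁ n
  have h1 := Afun_eq hK hD₁ (n - 1)
  have h2 := Afun_eq hK hD₁ (n - 2)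
  unfold Cfun
  linear_combination h0 - ((Nat.card k : ℚ) + 1) * h1 + (Nat.card k : ℚ) * h2

lemma card_sub_one_ne_zero : ((Nat.card k : ℚ) - 1) ≠ 0 := by
  have : (2 : ℚ) ≤ (Nat.card k : ℚ) := by exact_mod_cast card_k_ge_two (k := k)
  intro h
  linarith

lemma Cfun_symm (hK : IsFunctionField k K) (hD₁ : D₁.deg = 1) (i : ℤ) :
    Cfun k K (2 * genus k K - i) =
      (Nat.card k : ℚ) ^ ((genus k K : ℤ) - i) * Cfun k K i := by
  have hq0 : (Nat.card k : ℚ) ≠ 0 := by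
    have : 0 < Nat.card k := Nat.card_pos
    positivity
  apply mul_left_cancel₀ (card_sub_one_ne_zero (k := k))
  rw [Cfun_mul hK hD₁, mul_left_comm, Cfun_mul hK hD₁]
  have e1 : bfun D₁ (2 * genus k K - i) =
      (Nat.card k : ℚ) ^ ((genus k K : ℤ) - i) * (Nat.card k : ℚ) * bfun D₁ (i - 2) := by
    have := bfun_symm hK hD₁ (2 * genus k K - i)
    rw [show (2 * (genus k K : ℤ) - i + 1 - genus k K) = (genus k K : ℤ) - i + 1 by ring,
      show (2 * (genus k K : ℤ) - 2 - (2 * genus k K - i)) = i - 2 by ring,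
      zpow_add_one₀ hq0] at this
    exact this
  have e2 : bfun D₁ (2 * genus k K - i - 1) =
      (Nat.card k : ℚ) ^ ((genus k K : ℤ) - i) * bfun D₁ (i - 1) := by
    have := bfun_symm hK hD₁ (2 * genus k K - i - 1)
    rw [show (2 * (genus k K : ℤ) - i - 1 + 1 - genus k K) = (genus k K : ℤ) - i by ring,
      show (2 * (genus k K : ℤ) - 2 - (2 * genus k K - i - 1)) = i - 1 by ring] at this
    exact this
  have e3 : (Nat.card k : ℚ) * bfun D₁ (2 * genus k K - i - 2) =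
      (Nat.card k : ℚ) ^ ((genus k K : ℤ) - i) * bfun D₁ i := by
    have := bfun_symm hK hD₁ (2 * genus k K - i - 2)
    rw [show (2 * (genus k K : ℤ) - i - 2 + 1 - genus k K) = (genus k K : ℤ) - i - 1 by ring,
      show (2 * (genus k K : ℤ) - 2 - (2 * genus k K - i - 2)) = i by ring,
      zpow_sub_one₀ hq0] at this
    rw [this]
    field_simp
  rw [e1, e2, e3]
  ring

omit [Finite k] [Fintype (Cl0 k K)] in
lemma Cfun_of_neg (n : ℤ) (hn : n < 0) : Cfun k K n = 0 := by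
  unfold Cfun
  rw [Afun_of_neg n hn, Afun_of_neg (n - 1) (by omega), Afun_of_neg (n - 2) (by omega)]
  ring

omit [Finite k] [Fintype (Cl0 k K)] in
/-- telescoping: `∑_{i ≤ N} c_i = a(N) - q a(N-1)`. -/
lemma sum_Cfun (N : ℕ) :
    ∑ i ∈ Finset.range (N + 1), Cfun k K (i : ℤ) =
      Afun k K N - (Nat.card k : ℚ) * Afun k K ((N : ℤ) - 1) := by
  induction N with
  | zero =>
    simp only [zero_add, Finset.range_one, Finset.sum_singleton, Nat.cast_zero]
    unfold Cfun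
    rw [Afun_of_neg (0 - 1) (by omega), Afun_of_neg (0 - 2) (by omega)]
    ring
  | succ N ih =>
    rw [Finset.sum_range_succ, ih]
    unfold Cfun
    push_cast
    rw [show ((N : ℤ) + 1 - 1) = N by ring, show ((N : ℤ) + 1 - 2) = (N : ℤ) - 1 by ring]
    ring

lemma sum_Cfun_eq_card (hK : IsFunctionField k K) (hD₁ : D₁.deg = 1) (N : ℕ)
    (hN : 2 * genus k K ≤ N) :
    ∑ i ∈ Finset.range (N + 1), Cfun k K (i : ℤ) = Fintype.card (Cl0 k K) := by
  have hq0 : (Nat.card k : ℚ) ≠ 0 := by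
    have : 0 < Nat.card k := Nat.card_pos
    positivity
  rw [sum_Cfun]
  apply mul_left_cancel₀ (card_sub_one_ne_zero (k := k))
  have h0 := Afun_eq hK hD₁ (N : ℤ)
  have h1 := Afun_eq hK hD₁ ((N : ℤ) - 1)
  have b0 := bfun_symm hK hD₁ (N : ℤ)
  have b1 := bfun_symm hK hD₁ ((N : ℤ) - 1)
  rw [bfun_neg hK hD₁ (2 * (genus k K : ℤ) - 2 - N) (by omega)] at b0
  rw [bfun_neg hK hD₁ (2 * (genus k K : ℤ) - 2 - ((N : ℤ) - 1)) (by omega)] at b1
  rw [show ((N : ℤ) - 1 + 1 - genus k K) = (N : ℤ) + 1 - genus k K - 1 by ring,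
    zpow_sub_one₀ hq0] at b1
  have key : bfun D₁ (N : ℤ) - (Nat.card k : ℚ) * bfun D₁ ((N : ℤ) - 1) = 0 := by
    rw [b0, b1]
    field_simp
    ring
  linear_combination h0 - (Nat.card k : ℚ) * h1 + key

end Coeffs

end Groth.Agent.Lib.LeadZT
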